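import Groth.Agent.L07.FlatDescent
import Groth.Prelude.Def_FlatCA
import Mathlib.Algebra.Module.FinitePresentation
import Mathlib.RingTheory.FinitePresentation
import Mathlib.RingTheory.TensorProduct.Basic
import Mathlib.LinearAlgebra.TensorProduct.Tower

/-! Finitely presented modules over finitely presented algebras: flat descent to a stage. -/

namespace Groth.L07.FlatDescent

open MvPolynomial TensorProduct

set_option linter.style.haveILetI false

universe u

variable {d n : ℕ} {R : Type u} [CommRing R]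

theorem ψ_em (C : Type u) [CommRing C] [Algebra R C] (e : Fin n × (Fin d →₀ ℕ)) :
    ψ C (em e : F d n R) = em e := by
  funext i
  rw [ψ_apply]
  by_cases h : i = e.1
  · subst h; simp [em, Pi.single_eq_same, MvPolynomial.map_monomial]
  · simp [em, Pi.single_eq_of_ne h]

theorem ψ_ψ (A C : Type u) [CommRing A] [CommRing C] [Algebra R A] [Algebra R C] [Algebra A C]
    [IsScalarTower R A C] (y : F d n R) : ψ C (ψ A y : F d n A) = ψ C y := by
  funext i
  simp only [ψ_apply, MvPolynomial.map_map, ← IsScalarTower.algebraMap_eq]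

variable (K : Submodule (MvPolynomial (Fin d) R) (F d n R))

theorem KC_KP (A C : Type u) [CommRing A] [CommRing C] [Algebra R A] [Algebra R C] [Algebra A C]
    [IsScalarTower R A C] : KC C (KP (C := A) K) = KC C K := by
  apply le_antisymm
  · rw [KC, Submodule.span_le]
    rintro _ ⟨y, hy, rfl⟩
    refine Submodule.span_induction (p := fun y _ => ψ C y ∈ KC C K) ?_ (by simp) ?_ ?_
      (show y ∈ KC A K from hy)
    · rintro _ ⟨k, hk, rfl⟩
      rw [ψ_ψ]; exact ψ_mem K hk
    · intro a b _ _ ha hb; rw [map_add]; exact add_mem ha hb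
    · intro c a _ ha
      rw [map_smul, ← algebraMap_smul C c]
      exact Submodule.smul_mem _ _ ha
  · rw [KC, Submodule.span_le]
    rintro _ ⟨k, hk, rfl⟩
    rw [← ψ_ψ A C k]
    exact Submodule.subset_span ⟨_, ψ_mem K hk, rfl⟩

/-- Scalar extension of the presentation. -/
theorem exists_baseChangeEquiv (C : Type u) [CommRing C] [Algebra R C] :
    Nonempty (C ⊗[R] (F d n R ⧸ K) ≃ₗ[C] MC C K) := by
  classical
  let θ₀ : F d n R →ₗ[R] MC C K := (KC C K).mkQ.restrictScalars R ∘ₗ ψ C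
  let θ : (F d n R ⧸ K) →ₗ[R] MC C K := (K.restrictScalars R).liftQ θ₀ (fun y hy =>
    LinearMap.mem_ker.mpr ((Submodule.Quotient.mk_eq_zero _).mpr (ψ_mem K hy))) ∘ₗ
      (Submodule.Quotient.restrictScalarsEquiv R K).symm.toLinearMap
  have hθ : ∀ y, θ (Submodule.Quotient.mk y) = θ₀ y := fun y => rfl
  let fwd : C ⊗[R] (F d n R ⧸ K) →ₗ[C] MC C K := θ.liftBaseChange C
  let q : F d n R →ₗ[R] C ⊗[R] (F d n R ⧸ K) :=
    (TensorProduct.mk R C _ 1) ∘ₗ (K.mkQ.restrictScalars R)
  let bwd₀ : F d n C →ₗ[C] C ⊗[R] (F d n R ⧸ K) := ∑ i : Fin n,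
    ((MvPolynomial.basisMonomials (Fin d) C).constr C fun m => q (em (i, m))) ∘ₗ LinearMap.proj i
  have hem : ∀ e, bwd₀ (em e) = q (em e) := by
    intro e
    simp only [bwd₀, LinearMap.sum_apply, LinearMap.comp_apply, LinearMap.proj_apply]
    rw [Finset.sum_eq_single e.1 (fun b _ hb => by simp [em, Pi.single_eq_of_ne hb]) (by simp)]
    have : em (C := C) e e.1 = MvPolynomial.basisMonomials (Fin d) C e.2 := by
      simp [em, Pi.single_eq_same, MvPolynomial.coe_basisMonomials]
    rw [this, Module.Basis.constr_basis]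
  have hψ : ∀ y : F d n R, bwd₀ (ψ C y) = q y := by
    intro y
    conv_lhs => rw [← sum_em (Finset.Subset.refl (supp y))]
    conv_rhs => rw [← sum_em (Finset.Subset.refl (supp y))]
    rw [map_sum, map_sum, map_sum]
    refine Finset.sum_congr rfl fun e _ => ?_
    rw [map_smul, LinearMap.map_smul_of_tower, ψ_em, hem, map_smul]
  let bwd : MC C K →ₗ[C] C ⊗[R] (F d n R ⧸ K) := (KC C K).liftQ bwd₀ (by
    rw [KC, Submodule.span_le]
    rintro _ ⟨k, hk, rfl⟩
    rw [SetLike.mem_coe, LinearMap.mem_ker, hψ]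
    show (1 : C) ⊗ₜ[R] (Submodule.Quotient.mk k : F d n R ⧸ K) = 0
    rw [(Submodule.Quotient.mk_eq_zero K).mpr hk, TensorProduct.tmul_zero])
  refine ⟨LinearEquiv.ofLinearMap fwd bwd ?_ ?_⟩
  · refine Submodule.linearMap_qext _ (LinearMap.ext fun y => ?_)
    rw [← sum_em (Finset.Subset.refl (supp y))]
    simp only [map_sum, map_smul]
    refine Finset.sum_congr rfl fun e _ => congrArg (co y e • ·) ?_
    simp only [LinearMap.comp_apply, Submodule.mkQ_apply, bwd, Submodule.liftQ_apply, hem, q,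
      LinearMap.restrictScalars_apply, TensorProduct.mk_apply, fwd, LinearMap.liftBaseChange_tmul,
      one_smul, LinearMap.id_apply, hθ, θ₀, ψ_em]
  · refine TensorProduct.AlgebraTensorModule.ext fun c x => ?_
    obtain ⟨y, rfl⟩ := Submodule.mkQ_surjective K x
    simp only [LinearMap.comp_apply, fwd, LinearMap.liftBaseChange_tmul, Submodule.mkQ_apply, hθ,
      θ₀, map_smul, LinearMap.restrictScalars_apply, bwd, Submodule.liftQ_apply, hψ, q,
      TensorProduct.mk_apply, LinearMap.id_apply, TensorProduct.smul_tmul', smul_eq_mul, mul_one]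

theorem flat_MC_of_flat {A C : Type u} [CommRing A] [CommRing C] [Algebra R A] [Algebra R C]
    [Algebra A C] [IsScalarTower R A C] [Module.Flat A (MC A K)] : Module.Flat C (MC C K) := by
  obtain ⟨e⟩ := exists_baseChangeEquiv (KP (C := A) K) C
  let e' : MC A K ≃ₗ[A] (F d n A ⧸ KP (C := A) K) :=
    Submodule.quotEquivOfEq _ _ rfl ≪≫ₗ Submodule.Quotient.restrictScalarsEquiv A (KP (C := A) K)
  haveI : Module.Flat A (F d n A ⧸ KP (C := A) K) := Module.Flat.of_linearEquiv e'.symm
  haveI : Module.Flat C (C ⊗[A] (F d n A ⧸ KP (C := A) K)) := inferInstance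
  exact Module.Flat.of_linearEquiv (e ≪≫ₗ Submodule.quotEquivOfEq _ _ (KC_KP K A C)).symm

/-- A model over a finitely generated subring. -/
theorem exists_model (A₀ : Type u) [CommRing A₀] {B₀ : Type u} [CommRing B₀] [Algebra A₀ B₀]
    [Algebra.FinitePresentation A₀ B₀] (M₀ : Type u) [AddCommGroup M₀] [Module B₀ M₀]
    [Module A₀ M₀] [IsScalarTower A₀ B₀ M₀] [Module.FinitePresentation B₀ M₀] :
    ∃ (d n : ℕ) (R : Subalgebra ℤ A₀) (_ : IsNoetherianRing R)
      (K : Submodule (MvPolynomial (Fin d) R) (F d n R)),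
      Nonempty (M₀ ≃ₗ[A₀] MC A₀ K) := by
  classical
  obtain ⟨d, φ', hφ', hker'⟩ := Algebra.FinitePresentation.out (R := A₀) (A := B₀)
  letI := φ'.toRingHom.toAlgebra
  haveI : IsScalarTower A₀ (MvPolynomial (Fin d) A₀) B₀ :=
    IsScalarTower.of_algebraMap_eq fun a => (φ'.commutes a).symm
  haveI : Module.FinitePresentation (MvPolynomial (Fin d) A₀) B₀ :=
    Module.finitePresentation_of_surjective (Algebra.linearMap _ B₀) hφ' hker'
  letI : Module (MvPolynomial (Fin d) A₀) M₀ := Module.compHom M₀ φ'.toRingHom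
  haveI : IsScalarTower (MvPolynomial (Fin d) A₀) B₀ M₀ :=
    ⟨fun p b m => by rw [Algebra.smul_def, mul_smul]; rfl⟩
  haveI : IsScalarTower A₀ (MvPolynomial (Fin d) A₀) M₀ :=
    ⟨fun a p m => by
      show φ' (a • p) • m = a • φ' p • m
      rw [map_smul, smul_assoc]⟩
  haveI : Module.FinitePresentation (MvPolynomial (Fin d) A₀) M₀ :=
    Module.FinitePresentation.trans (MvPolynomial (Fin d) A₀) M₀ B₀
  obtain ⟨n, L, e, hL⟩ := Module.FinitePresentation.exists_fin (MvPolynomial (Fin d) A₀) M₀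
  obtain ⟨G, hG⟩ := hL
  let W : Finset A₀ := G.biUnion fun y => (supp y).image (co y)
  let R := Algebra.adjoin ℤ (W : Set A₀)
  haveI : IsNoetherianRing R := by
    haveI : Algebra.FiniteType ℤ R := R.fg_iff_finiteType.mp ⟨W, rfl⟩
    exact Algebra.FiniteType.isNoetherianRing ℤ R
  have hlift : ∀ y ∈ G, ∃ z : F d n R, ψ A₀ z = y := by
    intro y hy
    have : ∀ i, y i ∈ Set.range (MvPolynomial.map (algebraMap R A₀)) := fun i => by
      rw [MvPolynomial.mem_range_map_iff_coeffs_subset]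
      intro c hc
      obtain ⟨m, hm, rfl⟩ := MvPolynomial.mem_coeffs_iff.mp hc
      exact ⟨⟨_, Algebra.subset_adjoin (Finset.mem_biUnion.mpr ⟨y, hy, Finset.mem_image.mpr
        ⟨(i, m), Finset.mem_biUnion.mpr ⟨i, Finset.mem_univ _, Finset.mem_map.mpr ⟨m, hm, rfl⟩⟩,
          rfl⟩⟩)⟩, rfl⟩
    choose z hz using this
    exact ⟨z, funext hz⟩
  choose! z hz using hlift
  let K : Submodule (MvPolynomial (Fin d) R) (F d n R) := Submodule.span _ (z '' G)
  have hKL : (KC A₀ K : Submodule A₀ (F d n A₀)) = L.restrictScalars A₀ := by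
    apply le_antisymm
    · rw [KC, Submodule.span_le]
      rintro _ ⟨k, hk, rfl⟩
      refine Submodule.span_induction (p := fun k _ => ψ A₀ k ∈ L) ?_ (by simp) ?_ ?_ hk
      · rintro _ ⟨y, hy, rfl⟩
        rw [hz y hy, ← hG]; exact Submodule.subset_span hy
      · intro a b _ _ ha hb; rw [map_add]; exact add_mem ha hb
      · intro c a _ ha; rw [ψ_poly_smul]; exact L.smul_mem _ ha
    · intro y hy
      rw [Submodule.restrictScalars_mem, ← hG] at hy
      refine (Submodule.span_le (p := KP (C := A₀) K)).mpr ?_ hy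
      intro g hg
      rw [← hz g hg]
      exact ψ_mem K (Submodule.subset_span ⟨g, hg, rfl⟩)
  exact ⟨d, n, R, inferInstance, K, ⟨e.restrictScalars A₀ ≪≫ₗ
    (Submodule.Quotient.restrictScalarsEquiv A₀ L).symm ≪≫ₗ Submodule.quotEquivOfEq _ _ hKL.symm⟩⟩

/-- Scalar extension of a model. -/
theorem exists_modelEquiv {A₀ : Type u} [CommRing A₀] [Algebra R A₀] {M₀ : Type u} [AddCommGroup M₀]
    [Module A₀ M₀] (e : M₀ ≃ₗ[A₀] MC A₀ K) (C : Type u) [CommRing C] [Algebra A₀ C] [Algebra R C]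
    [IsScalarTower R A₀ C] : Nonempty (C ⊗[A₀] M₀ ≃ₗ[C] MC C K) := by
  obtain ⟨e'⟩ := exists_baseChangeEquiv (KP (C := A₀) K) C
  let e₀ : M₀ ≃ₗ[A₀] (F d n A₀ ⧸ KP (C := A₀) K) := e ≪≫ₗ
    (Submodule.quotEquivOfEq _ _ rfl ≪≫ₗ Submodule.Quotient.restrictScalarsEquiv A₀ (KP (C := A₀) K))
  exact ⟨e₀.baseChange A₀ C _ _ ≪≫ₗ e' ≪≫ₗ Submodule.quotEquivOfEq _ _ (KC_KP K A₀ C)⟩

/-- A map from a finitely presented algebra into a colimit factors through a stage. -/
theorem exists_hom_stage {ι : Type u} [Preorder ι] {G : ι → Type u} [∀ i, CommRing (G i)]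
    [∀ i, Algebra R (G i)] {g : ∀ i j, i ≤ j → G i →+* G j}
    (hgR : ∀ i j (h : i ≤ j), (g i j h).comp (algebraMap R (G i)) = algebraMap R (G j))
    {A : Type u} [CommRing A] [Algebra R A] [∀ i, Algebra (G i) A] [∀ i, IsScalarTower R (G i) A]
    (hcolim : FlatCA.IsDirectedColimitRing G g A) {B : Type u} [CommRing B] [Algebra R B]
    [Algebra.FinitePresentation R B] (φ : B →ₐ[R] A) : ∃ (i : ι) (χ : B →ₐ[R] G i),
      ∀ b, algebraMap (G i) A (χ b) = φ b := by
  classical
  obtain ⟨hdir, hne, hid, hcomp, hA, hex, hzero⟩ := hcolim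
  haveI := hdir; haveI := hne
  obtain ⟨m, π, hπ, hker⟩ := Algebra.FinitePresentation.out (R := R) (A := B)
  choose i₁ x hx using fun k : Fin m => hex (φ (π (X k)))
  obtain ⟨i, hi⟩ := Finite.exists_le i₁
  let v : Fin m → G i := fun k => g (i₁ k) i (hi k) (x k)
  have hv : ∀ p : MvPolynomial (Fin m) R, algebraMap (G i) A (aeval v p) = φ (π p) := by
    intro p
    rw [← MvPolynomial.aeval_algebraMap_apply]
    have : (algebraMap (G i) A : G i → A) ∘ v = fun k => φ (π (X k)) := funext fun k => by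
      rw [Function.comp_apply, ← RingHom.comp_apply, hA, hx]
    rw [this]
    exact (DFunLike.congr_fun (MvPolynomial.aeval_unique (φ.comp π)) p).symm
  obtain ⟨s, hs⟩ := hker
  have hdie : ∀ p ∈ s, ∃ j, ∃ h : i ≤ j, g i j h (aeval v p) = 0 := fun p hp =>
    hzero i _ (by rw [hv, show π p = 0 from (hs ▸ Ideal.subset_span hp : p ∈ RingHom.ker π.toRingHom), map_zero])
  choose j hj hjz using hdie
  obtain ⟨k, hk⟩ := Finset.exists_le
    ((s.attach : Finset {p // p ∈ s}).image fun p : {p // p ∈ s} => j p.1 p.2)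
  obtain ⟨k', hkk', hik'⟩ := directed_of (· ≤ ·) k i
  let w : Fin m → G k' := fun a => g i k' hik' (v a)
  have hw : ∀ p : MvPolynomial (Fin m) R, aeval w p = g i k' hik' (aeval v p) := by
    intro p
    rw [aeval_def, aeval_def, MvPolynomial.hom_eval₂, hgR]
  have hle : RingHom.ker π.toRingHom ≤ RingHom.ker (aeval (R := R) w).toRingHom := by
    rw [← hs, Ideal.span_le]
    intro p hp
    have hjk : j p hp ≤ k' :=
      le_trans (hk _ (Finset.mem_image.mpr ⟨⟨p, hp⟩, Finset.mem_attach _ _, rfl⟩)) hkk'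
    show aeval w p = 0
    rw [hw, ← hcomp i (j p hp) k' (hj p hp) hjk, RingHom.comp_apply, hjz, map_zero]
  let χ : B →ₐ[R] G k' := AlgHom.liftOfSurjective π hπ (aeval w) hle
  refine ⟨k', χ, fun b => ?_⟩
  obtain ⟨p, rfl⟩ := hπ b
  rw [show χ (π p) = aeval w p from AlgHom.liftOfSurjective_apply π hπ (aeval w) hle p, hw,
    ← RingHom.comp_apply, hA, hv]

/-- Flatness over a colimit descends to a stage. -/
theorem exists_flat_stage [IsNoetherianRing R] {ι : Type u} [Preorder ι] {G : ι → Type u}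
    [∀ i, CommRing (G i)] [∀ i, Algebra R (G i)] {g : ∀ i j, i ≤ j → G i →+* G j}
    (hgR : ∀ i j (h : i ≤ j), (g i j h).comp (algebraMap R (G i)) = algebraMap R (G j))
    {A : Type u} [CommRing A] [Algebra R A] [∀ i, Algebra (G i) A] [∀ i, IsScalarTower R (G i) A]
    (hcolim : FlatCA.IsDirectedColimitRing G g A) [Module.Flat A (MC A K)] :
    ∃ i, Module.Flat (G i) (MC (G i) K) := by
  obtain ⟨B, hB, hflat⟩ := exists_fg_stage K A
  haveI : Algebra.FiniteType R B := B.fg_iff_finiteType.mp hB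
  haveI : Algebra.FinitePresentation R B := Algebra.FinitePresentation.of_finiteType.mp inferInstance
  obtain ⟨i, χ, -⟩ := exists_hom_stage hgR hcolim B.val
  letI := χ.toRingHom.toAlgebra
  haveI : IsScalarTower R B (G i) := IsScalarTower.of_algebraMap_eq fun r => (χ.commutes r).symm
  exact ⟨i, flat_MC_of_flat K (A := B)⟩

end Groth.L07.FlatDescent
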