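import Groth.Prelude.Def_CAlgX
import Mathlib.RingTheory.MvPolynomial.Homogeneous
import Mathlib.RingTheory.Regular.RegularSequence
import Mathlib.Algebra.MvPolynomial.Division

/-! Regular sequences are quasi-regular. -/

namespace Groth.L07.QReg

open MvPolynomial
open scoped Pointwise

universe u

variable {R : Type u} [CommRing R]

theorem exists_homogeneous_of_mem_span_pow {σ : Type*} (f : σ → R) (n : ℕ) {x : R}
    (hx : x ∈ Ideal.span (Set.range f) ^ n) :
    ∃ P : MvPolynomial σ R, P.IsHomogeneous n ∧ eval f P = x := by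
  induction n generalizing x with
  | zero => exact ⟨C x, isHomogeneous_C _ _, eval_C _⟩
  | succ n ih =>
    rw [pow_succ] at hx
    induction hx using Submodule.mul_induction_on' with
    | mem_mul_mem a ha b hb =>
      obtain ⟨P, hP, rfl⟩ := ih ha
      induction hb using Submodule.span_induction with
      | mem b hb =>
        obtain ⟨i, rfl⟩ := hb
        exact ⟨P * X i, hP.mul (isHomogeneous_X _ i), by simp⟩
      | zero => exact ⟨0, isHomogeneous_zero _ _ _, by simp⟩
      | add b c _ _ hb hc =>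
        obtain ⟨Q, hQ, hQ'⟩ := hb
        obtain ⟨Q₂, hQ₂, hQ₂'⟩ := hc
        exact ⟨Q + Q₂, hQ.add hQ₂, by rw [map_add, hQ', hQ₂', mul_add]⟩
      | smul r b _ hb =>
        obtain ⟨Q, hQ, hQ'⟩ := hb
        exact ⟨C r * Q, hQ.C_mul r, by rw [eval_mul, eval_C, hQ', smul_eq_mul]; ring⟩
    | add a _ b _ ha hb =>
      obtain ⟨P, hP, rfl⟩ := ha
      obtain ⟨Q, hQ, rfl⟩ := hb
      exact ⟨P + Q, hP.add hQ, map_add _ _ _⟩

theorem eval_mem_mul_span_pow {σ : Type*} (f : σ → R) {n : ℕ} (J : Ideal R) {P : MvPolynomial σ R}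
    (hP : P.IsHomogeneous n) (hc : ∀ d, P.coeff d ∈ J) :
    eval f P ∈ J * Ideal.span (Set.range f) ^ n := by
  rw [eval_eq]
  refine Ideal.sum_mem _ fun d hd => Ideal.mul_mem_mul (hc d) ?_
  have hdeg : ∑ i ∈ d.support, d i = n := by
    have := hP (mem_support_iff.mp hd)
    simpa [Finsupp.weight_apply, Finsupp.sum] using this
  rw [← hdeg, ← Finset.prod_pow_eq_pow_sum]
  exact Ideal.prod_mem_prod fun i _ =>
    Ideal.pow_mem_pow (Ideal.subset_span (Set.mem_range_self i)) _

theorem eval_mem_span_pow {σ : Type*} (f : σ → R) {n : ℕ} {P : MvPolynomial σ R}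
    (hP : P.IsHomogeneous n) : eval f P ∈ Ideal.span (Set.range f) ^ n := by
  simpa using eval_mem_mul_span_pow f ⊤ hP (fun _ => Submodule.mem_top)

theorem exists_lower {σ : Type*} (f : σ → R) (n : ℕ) {x : R}
    (hx : x ∈ Ideal.span (Set.range f) ^ (n + 1)) : ∃ Q : MvPolynomial σ R,
      Q.IsHomogeneous n ∧ (∀ d, Q.coeff d ∈ Ideal.span (Set.range f)) ∧ eval f Q = x := by
  rw [pow_succ] at hx
  induction hx using Submodule.mul_induction_on' with
  | mem_mul_mem a ha b hb =>
    obtain ⟨Q, hQ, rfl⟩ := exists_homogeneous_of_mem_span_pow f n ha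
    exact ⟨C b * Q, hQ.C_mul b, fun e => by rw [coeff_C_mul]; exact Ideal.mul_mem_right _ _ hb,
      by rw [eval_mul, eval_C, mul_comm]⟩
  | add a _ b _ ha hb =>
    obtain ⟨P, hP, hPc, rfl⟩ := ha
    obtain ⟨Q, hQ, hQc, rfl⟩ := hb
    exact ⟨P + Q, hP.add hQ, fun e => by rw [coeff_add]; exact add_mem (hPc e) (hQc e), map_add _ _ _⟩

/-- A variant of quasi-regularity: homogeneous relations have coefficients in the ideal. -/
def RelCoeff {c : ℕ} (f : Fin c → R) : Prop :=
  ∀ (n : ℕ) (P : MvPolynomial (Fin c) R), P.IsHomogeneous n → eval f P = 0 →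
    ∀ d : Fin c →₀ ℕ, P.coeff d ∈ Ideal.span (Set.range f)

theorem isQuasiRegular_of_relCoeff {c : ℕ} {f : Fin c → R} (h : RelCoeff f) :
    CAlgX.IsQuasiRegular f := by
  intro n P hP hmem d
  obtain ⟨Q, hQ, hQc, hQe⟩ := exists_lower f n hmem
  have := h n (P - Q) (hP.sub hQ) (by rw [map_sub, hQe, sub_self]) d
  rw [coeff_sub] at this
  exact (Submodule.sub_mem_iff_left _ (hQc d)).mp this

theorem isQuasiRegular_iff_relCoeff {c : ℕ} {f : Fin c → R} :
    CAlgX.IsQuasiRegular f ↔ RelCoeff f :=
  ⟨fun h n P hP he => h n P hP (he ▸ Submodule.zero_mem _), isQuasiRegular_of_relCoeff⟩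

/-- A non-zero-divisor modulo a quasi-regular ideal is one modulo all its powers. -/
theorem mem_pow_of_mul_mem_pow {c : ℕ} {f : Fin c → R} (h : CAlgX.IsQuasiRegular f) {g : R}
    (hg : ∀ x, g * x ∈ Ideal.span (Set.range f) → x ∈ Ideal.span (Set.range f)) :
    ∀ (m : ℕ) {x : R}, g * x ∈ Ideal.span (Set.range f) ^ m → x ∈ Ideal.span (Set.range f) ^ m := by
  intro m
  induction m with
  | zero => intro x _; simp
  | succ m ih =>
    intro x hx
    obtain ⟨G, hG, rfl⟩ := exists_homogeneous_of_mem_span_pow f m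
      (ih (Ideal.pow_le_pow_right (Nat.le_succ m) hx))
    have hc := h m (C g * G) (hG.C_mul g) (by rw [eval_mul, eval_C]; exact hx)
    rw [pow_succ']
    exact eval_mem_mul_span_pow f _ hG fun d => hg _ (by rw [← coeff_C_mul]; exact hc d)

theorem relCoeff_succ {c : ℕ} {f : Fin (c + 1) → R}
    (h : CAlgX.IsQuasiRegular (f ∘ Fin.castSucc))
    (hg : ∀ x, f (Fin.last c) * x ∈ Ideal.span (Set.range (f ∘ Fin.castSucc)) →
      x ∈ Ideal.span (Set.range (f ∘ Fin.castSucc))) : RelCoeff f := by
  have hle : Ideal.span (Set.range (f ∘ Fin.castSucc)) ≤ Ideal.span (Set.range f) :=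
    Ideal.span_mono (Set.range_comp_subset_range _ _)
  intro n
  induction n with
  | zero =>
    intro P hP he d
    obtain ⟨a, rfl⟩ : ∃ a, P = C a :=
      ⟨coeff 0 P, totalDegree_eq_zero_iff_eq_C.mp (Nat.eq_zero_of_le_zero hP.totalDegree_le)⟩
    rw [eval_C] at he
    subst he
    simp
  | succ n ih =>
    intro P hP he
    classical
    set e : Fin (c + 1) →₀ ℕ := Finsupp.single (Fin.last c) 1 with he_def
    have hcm : ∀ d, ¬ e ≤ d ↔ d (Fin.last c) = 0 := fun d => by
      simp [he_def, Finsupp.single_le_iff]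
    have hhom0 : (P.modMonomial e).IsHomogeneous (n + 1) := by
      intro d hd
      by_cases hde : e ≤ d
      · exact absurd (coeff_modMonomial_of_le P hde) hd
      · rw [coeff_modMonomial_of_not_le P hde] at hd; exact hP hd
    have hhom1 : (P.divMonomial e).IsHomogeneous n := by
      intro d hd
      rw [coeff_divMonomial] at hd
      have := hP hd
      rw [map_add] at this
      simp only [he_def, Finsupp.weight_single, Pi.one_apply, smul_eq_mul, mul_one] at this
      change Finsupp.weight 1 d = n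
      omega
    obtain ⟨P0, hP0⟩ := exists_rename_eq_of_vars_subset_range (P.modMonomial e) Fin.castSucc
      (Fin.castSucc_injective c) (by
        intro i hi
        rcases Fin.eq_castSucc_or_eq_last i with ⟨j, rfl⟩ | rfl
        · exact ⟨j, rfl⟩
        · obtain ⟨d, hd, hd'⟩ := (mem_vars_iff_mem_support _).mp (Finset.mem_coe.mp hi)
          exfalso
          rw [mem_support_iff] at hd
          have hde : ¬ e ≤ d := fun hde => hd (coeff_modMonomial_of_le P hde)
          exact (Finsupp.mem_support_iff.mp hd') ((hcm d).mp hde))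
    have hP0hom : P0.IsHomogeneous (n + 1) := by
      rw [← IsHomogeneous.rename_isHomogeneous_iff (Fin.castSucc_injective c), hP0]; exact hhom0
    have hsum : P = rename Fin.castSucc P0 + X (Fin.last c) * P.divMonomial e := by
      rw [hP0]; exact (modMonomial_add_divMonomial_single P (Fin.last c)).symm
    set g := f (Fin.last c) with hg_def
    have hval : eval (f ∘ Fin.castSucc) P0 + g * eval f (P.divMonomial e) = 0 := by
      rw [hsum, map_add, eval_mul, eval_X, eval_rename] at he
      exact he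
    have h1 : eval f (P.divMonomial e) ∈ Ideal.span (Set.range (f ∘ Fin.castSucc)) ^ (n + 1) := by
      refine mem_pow_of_mul_mem_pow h hg (n + 1) ?_
      rw [eq_neg_of_add_eq_zero_right hval]
      exact neg_mem (eval_mem_span_pow _ hP0hom)
    -- coefficients of the quotient
    have hdiv : ∀ d, (P.divMonomial e).coeff d ∈ Ideal.span (Set.range f) := by
      have hmem : eval f (P.divMonomial e) ∈ Ideal.span (Set.range f) ^ (n + 1) :=
        Ideal.pow_right_mono hle _ h1
      obtain ⟨Q, hQ, hQc, hQe⟩ := exists_lower f n hmem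
      intro d
      have := ih (P.divMonomial e - Q) (hhom1.sub hQ) (by rw [map_sub, hQe, sub_self]) d
      rw [coeff_sub] at this
      exact (Submodule.sub_mem_iff_left _ (hQc d)).mp this
    have h0 : ∀ d, P0.coeff d ∈ Ideal.span (Set.range f) := by
      obtain ⟨H, hH, hHe⟩ := exists_homogeneous_of_mem_span_pow _ _ h1
      intro d
      have := h (n + 1) (P0 + C g * H) (hP0hom.add (hH.C_mul g))
        (by rw [map_add, eval_mul, eval_C, hHe, hval]; exact Submodule.zero_mem _) d
      rw [coeff_add, coeff_C_mul] at this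
      have hgm : g * H.coeff d ∈ Ideal.span (Set.range f) :=
        Ideal.mul_mem_right _ _ (Ideal.subset_span ⟨_, rfl⟩)
      exact (Submodule.add_mem_iff_left _ hgm).mp (hle this)
    intro d
    by_cases hde : e ≤ d
    · obtain ⟨d', rfl⟩ := exists_add_of_le hde
      rw [← coeff_divMonomial]; exact hdiv d'
    · rw [← coeff_modMonomial_of_not_le P hde, ← hP0]
      by_cases hd : ∃ d0, Finsupp.mapDomain Fin.castSucc d0 = d
      · obtain ⟨d0, rfl⟩ := hd
        rw [coeff_rename_mapDomain _ (Fin.castSucc_injective c)]; exact h0 d0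
      · rw [coeff_rename_eq_zero Fin.castSucc P0 d (fun u hu => absurd ⟨u, hu⟩ hd)]
        exact Submodule.zero_mem _

theorem isQuasiRegular_zero (f : Fin 0 → R) : CAlgX.IsQuasiRegular f := by
  refine isQuasiRegular_of_relCoeff fun n P _ he d => ?_
  rw [eq_C_of_isEmpty P] at he ⊢
  rw [eval_C] at he
  rw [he]; simp

theorem ofList_ofFn {c : ℕ} (f : Fin c → R) :
    Ideal.ofList (List.ofFn f) = Ideal.span (Set.range f) := by
  rw [Ideal.ofList]; congr 1; ext x; simp [List.mem_ofFn]

/-- A weakly regular sequence is quasi-regular. -/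
theorem isQuasiRegular_of_isWeaklyRegular : ∀ {c : ℕ} {f : Fin c → R},
    RingTheory.Sequence.IsWeaklyRegular R (List.ofFn f) → CAlgX.IsQuasiRegular f := by
  intro c
  induction c with
  | zero => intro f _; exact isQuasiRegular_zero f
  | succ c ih =>
    intro f hf
    rw [List.ofFn_succ', List.concat_eq_append] at hf
    obtain ⟨h1, h2⟩ := (RingTheory.Sequence.isWeaklyRegular_append_iff R _ _).mp hf
    refine isQuasiRegular_of_relCoeff (relCoeff_succ (ih h1) fun x hx => ?_)
    have h3 := ((RingTheory.Sequence.isWeaklyRegular_singleton_iff _ _).mp h2)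
    have h4 : Ideal.ofList (List.ofFn fun i : Fin c => f i.castSucc) • (⊤ : Submodule R R) =
        Ideal.span (Set.range (f ∘ Fin.castSucc)) := by
      rw [ofList_ofFn, smul_eq_mul, Ideal.mul_top]; rfl
    rw [← h4] at hx ⊢
    rw [← Submodule.Quotient.mk_eq_zero]
    apply h3
    show f (Fin.last c) • Submodule.Quotient.mk x = f (Fin.last c) • 0
    rw [smul_zero, ← Submodule.Quotient.mk_smul, smul_eq_mul, Submodule.Quotient.mk_eq_zero]
    exact hx

end Groth.L07.QReg
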