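import Groth.Agent.L01.Regular
import Mathlib.RingTheory.RegularLocalRing.Polynomial
import Mathlib.RingTheory.Smooth.Local
import Mathlib.RingTheory.Smooth.Locus
import Mathlib.RingTheory.Kaehler.Polynomial
import Mathlib.RingTheory.Ideal.Cotangent

/-! A regular rational point of an algebra of finite type over a field is a smooth point. -/

namespace Groth.L07.RationalSmooth

open IsLocalRing TensorProduct

set_option linter.style.haveILetI false

universe u

variable {k : Type u} [Field k]

theorem mem_of_mem_sq {Q : Type u} [CommRing Q] [IsRegularLocalRing Q] (I : Ideal Q)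
    (hI : IsRegularLocalRing (Q ⧸ I)) {j : Q} (hj : j ∈ I) (hj2 : j ∈ maximalIdeal Q ^ 2) :
    j ∈ maximalIdeal Q * I := by
  classical
  obtain ⟨d, hd⟩ := Groth.L01.exists_dim_eq_nat (R := Q)
  obtain ⟨l₁, l₂, hlen, hgen, rfl⟩ := Groth.L01.exists_lists_of_regular_quotient d Q hd I hI
  have hmem : ∀ x ∈ l₁ ++ l₂, x ∈ maximalIdeal Q := fun x hx => hgen ▸ Ideal.subset_span hx
  have hmin : ∀ (c : Fin l₁.length → Q), (∑ i, c i * l₁[i]) ∈ maximalIdeal Q ^ 2 →
      ∀ i, c i ∈ maximalIdeal Q := by
    intro c hc i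
    by_contra hi
    have hu : IsUnit (c i) := notMem_maximalIdeal.mp hi
    let l' := l₁.eraseIdx i ++ l₂
    have hle : maximalIdeal Q ≤ Ideal.ofList l' := by
      refine Groth.L01.maximalIdeal_le_of_le_sup_sq ?_
      conv_lhs => rw [← hgen]
      refine Ideal.span_le.mpr fun x hx => ?_
      have hx' : x ∈ l₁ ∨ x ∈ l₂ := List.mem_append.mp hx
      rcases hx' with hx' | hx'
      · obtain ⟨j', hj', rfl⟩ := List.getElem_of_mem hx'
        by_cases hji : j' = (i : ℕ)
        · subst hji
          show l₁[(i : ℕ)] ∈ Ideal.ofList l' ⊔ maximalIdeal Q ^ 2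
          refine (Ideal.unit_mul_mem_iff_mem _ hu).mp ?_
          have hsplit : c i * l₁[(i : ℕ)] = (∑ j, c j * l₁[j]) - ∑ j ∈ Finset.univ.erase i, c j * l₁[j] := by
            rw [← Finset.add_sum_erase _ _ (Finset.mem_univ i)]
            simp
          rw [hsplit]
          refine sub_mem (Ideal.mem_sup_right hc) (Ideal.mem_sup_left (Submodule.sum_mem _ fun j hj => ?_))
          refine Ideal.mul_mem_left _ _ (Ideal.subset_span (List.mem_append_left _ ?_))
          exact List.mem_eraseIdx_iff_getElem.mpr ⟨j, j.2, fun h => (Finset.mem_erase.mp hj).1 (Fin.ext h), rfl⟩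
        · exact Ideal.mem_sup_left (Ideal.subset_span (List.mem_append_left _
            (List.mem_eraseIdx_iff_getElem.mpr ⟨j', hj', hji, rfl⟩)))
      · exact Ideal.mem_sup_left (Ideal.subset_span (List.mem_append_right _ hx'))
    have heq : Ideal.ofList l' = maximalIdeal Q := le_antisymm (Ideal.span_le.mpr fun x hx => by
      rcases List.mem_append.mp hx with h | h
      · exact hmem x (List.mem_append_left _ (List.mem_of_mem_eraseIdx h))
      · exact hmem x (List.mem_append_right _ h)) hle
    have h1 := Groth.L01.spanFinrank_ofList_le l'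
    rw [heq] at h1
    have h2 : ((maximalIdeal Q).spanFinrank : WithBot ℕ∞) = (d : WithBot ℕ∞) := by
      rw [IsRegularLocalRing.spanFinrank_maximalIdeal, hd]
    have h3 : (maximalIdeal Q).spanFinrank = d := by exact_mod_cast h2
    rw [h3, List.length_append, List.length_eraseIdx_of_lt i.2] at h1
    rw [List.length_append] at hlen
    have := i.2
    omega
  obtain ⟨c, rfl⟩ : ∃ c : Fin l₁.length → Q, ∑ i, c i * l₁[i] = j := by
    have hset : Ideal.ofList l₁ = Ideal.span (Set.range fun i : Fin l₁.length => l₁[i]) := by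
      refine congrArg Ideal.span (Set.ext fun x => ?_)
      exact ⟨fun hx => by obtain ⟨i, hi, rfl⟩ := List.getElem_of_mem hx; exact ⟨⟨i, hi⟩, rfl⟩,
        fun ⟨i, hi⟩ => hi ▸ List.getElem_mem i.2⟩
    rw [hset] at hj
    obtain ⟨c, hc⟩ := (Ideal.mem_span_range_iff_exists_fun).mp hj
    exact ⟨c, hc⟩
  exact Submodule.sum_mem _ fun i _ =>
    Ideal.mul_mem_mul (hmin c hj2 i) (Ideal.subset_span (List.getElem_mem i.2))

section Deriv

variable {Q : Type u} [CommRing Q] [Algebra k Q] (χ : Q →ₐ[k] k)

/-- The derivation to the cotangent space at a rational point. -/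
noncomputable def deriv : Derivation k Q (RingHom.ker χ).Cotangent :=
  Derivation.mk'
    { toFun := fun x => (RingHom.ker χ).toCotangent ⟨x - algebraMap k Q (χ x), by
        rw [RingHom.mem_ker, map_sub, AlgHom.commutes, Algebra.algebraMap_self, RingHom.id_apply, sub_self]⟩
      map_add' := fun x y => by
        rw [← map_add]
        exact congrArg _ (Subtype.ext (by simp only [map_add, Submodule.coe_add]; ring))
      map_smul' := fun c x => by
        show _ = c • (RingHom.ker χ).toCotangent _
        rw [← LinearMap.map_smul_of_tower]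
        exact congrArg _ (Subtype.ext (by
          simp only [Submodule.coe_smul_of_tower, map_mul, Algebra.smul_def, AlgHom.commutes,
            Algebra.algebraMap_self, RingHom.id_apply]
          ring)) }
    fun x y => by
      show (RingHom.ker χ).toCotangent _ =
        x • (RingHom.ker χ).toCotangent _ + y • (RingHom.ker χ).toCotangent _
      rw [← map_smul, ← map_smul, ← map_add, ← sub_eq_zero, ← map_sub, Ideal.toCotangent_eq_zero, pow_two]
      have : ∀ z, z - algebraMap k Q (χ z) ∈ RingHom.ker χ := fun z => by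
        rw [RingHom.mem_ker, map_sub, AlgHom.commutes, Algebra.algebraMap_self, RingHom.id_apply, sub_self]
      convert neg_mem (Ideal.mul_mem_mul (this x) (this y)) using 1
      simp only [Submodule.coe_sub, Submodule.coe_add, Submodule.coe_smul, smul_eq_mul, map_mul]
      ring

theorem deriv_apply (x : Q) (hx : x ∈ RingHom.ker χ) :
    deriv χ x = (RingHom.ker χ).toCotangent ⟨x, hx⟩ := by
  show (RingHom.ker χ).toCotangent _ = _
  exact congrArg _ (Subtype.ext (by simp [RingHom.mem_ker.mp hx]))

/-- A linear form detecting the kernel modulo the square. -/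
theorem exists_detect [Algebra Q k] (hχ : ∀ x, algebraMap Q k x = χ x) :
    ∃ Φ : k ⊗[Q] Ω[Q⁄k] →+ (RingHom.ker χ).Cotangent,
      ∀ x, Φ ((1 : k) ⊗ₜ[Q] KaehlerDifferential.D k Q x) = deriv χ x := by
  let L := (deriv χ).liftKaehlerDifferential
  have hkill : ∀ (q : Q) (v : (RingHom.ker χ).Cotangent), q • v = algebraMap k Q (χ q) • v := by
    intro q v
    obtain ⟨w, rfl⟩ := (RingHom.ker χ).toCotangent_surjective v
    rw [← map_smul, ← map_smul, ← sub_eq_zero, ← map_sub, Ideal.toCotangent_eq_zero, pow_two]
    have : q - algebraMap k Q (χ q) ∈ RingHom.ker χ := by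
      rw [RingHom.mem_ker, map_sub, AlgHom.commutes, Algebra.algebraMap_self, RingHom.id_apply, sub_self]
    convert Ideal.mul_mem_mul this w.2 using 1
    simp only [Submodule.coe_sub, Submodule.coe_smul, smul_eq_mul]
    ring
  refine ⟨TensorProduct.liftAddHom
    (AddMonoidHom.mk' (fun c : k => AddMonoidHom.mk' (fun w => algebraMap k Q c • L w)
      (fun a b => by rw [map_add, smul_add])) (fun a b => by ext w; simp [add_smul]))
    (fun q c w => ?_), fun x => ?_⟩
  · show algebraMap k Q (q • c) • L w = algebraMap k Q c • L (q • w)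
    rw [map_smul L, smul_comm (algebraMap k Q c) q, hkill q, smul_smul, ← map_mul,
      Algebra.smul_def q c, hχ]
  · show algebraMap k Q 1 • L (KaehlerDifferential.D k Q x) = _
    rw [map_one, one_smul, Derivation.liftKaehlerDifferential_comp_D]

end Deriv

/-- A local ring of finite type with a rational residue field which is regular is formally smooth. -/
theorem formallySmooth_of_regular (Q S : Type u) [CommRing Q] [CommRing S] [Algebra k Q] [Algebra k S]
    [IsRegularLocalRing Q] [IsRegularLocalRing S] [Algebra Q S] [IsScalarTower k Q S]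
    [Algebra.FormallySmooth k Q] [Module.Free Q Ω[Q⁄k]] [Module.Finite Q Ω[Q⁄k]]
    (h₁ : Function.Surjective (algebraMap Q S)) (χ : S →ₐ[k] k) : Algebra.FormallySmooth k S := by
  letI : Algebra S k := χ.toRingHom.toAlgebra
  let ψ : Q →ₐ[k] k := χ.comp (IsScalarTower.toAlgHom k Q S)
  letI : Algebra Q k := ψ.toRingHom.toAlgebra
  haveI : IsScalarTower Q S k := IsScalarTower.of_algebraMap_eq fun _ => rfl
  have hsurj : Function.Surjective χ := fun c => ⟨algebraMap k S c, χ.commutes c⟩
  have hsurj' : Function.Surjective ψ := fun c => ⟨algebraMap k Q c, ψ.commutes c⟩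
  have hmaxS : maximalIdeal S = RingHom.ker χ :=
    (IsLocalRing.eq_maximalIdeal (RingHom.ker_isMaximal_of_surjective χ hsurj)).symm
  have hmaxQ : maximalIdeal Q = RingHom.ker ψ :=
    (IsLocalRing.eq_maximalIdeal (RingHom.ker_isMaximal_of_surjective ψ hsurj')).symm
  refine (Algebra.FormallySmooth.iff_injective_cotangentComplexBaseChange (R := k) Q k h₁
    (IsNoetherian.noetherian _) hmaxS.le).mpr ?_
  rw [injective_iff_map_eq_zero]
  intro z hz
  have hQk : Function.Surjective (algebraMap Q k) := hsurj'
  obtain ⟨j, rfl⟩ := TensorProduct.mk_surjective Q (RingHom.ker (algebraMap Q S)) k hQk z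
  obtain ⟨Φ, hΦ⟩ := exists_detect ψ (fun _ => rfl)
  have hjker : (j : Q) ∈ RingHom.ker ψ := by
    show χ (algebraMap Q S j) = 0
    rw [RingHom.mem_ker.mp j.2, map_zero]
  have h0 : (RingHom.ker ψ).toCotangent ⟨j, hjker⟩ = 0 := by
    rw [← deriv_apply, ← hΦ]
    have h1 : (1 : k) ⊗ₜ[Q] KaehlerDifferential.D k Q (j : Q) = 0 := by
      rw [TensorProduct.mk_apply, KaehlerDifferential.cotangentComplexBaseChange_tmul, one_smul] at hz
      exact hz
    rw [h1, map_zero]
  rw [Ideal.toCotangent_eq_zero] at h0
  have h0' : (j : Q) ∈ maximalIdeal Q ^ 2 := by rw [hmaxQ]; exact h0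
  have hmem := mem_of_mem_sq (RingHom.ker (algebraMap Q S))
    (IsRegularLocalRing.of_ringEquiv (RingHom.quotientKerEquivOfSurjective h₁).symm) j.2 h0'
  rw [TensorProduct.mk_apply]
  obtain ⟨j', hj', hj'e⟩ : ∃ j' ∈ maximalIdeal Q • (⊤ : Submodule Q ↥(RingHom.ker (algebraMap Q S))),
      (RingHom.ker (algebraMap Q S)).subtype j' = (j : Q) := by
    rw [← Submodule.mem_map, Submodule.map_smul'', Submodule.map_subtype_top, smul_eq_mul]
    exact hmem
  obtain rfl : j' = j := Subtype.ext hj'e
  refine Submodule.smul_induction_on (p := fun v => (1 : k) ⊗ₜ[Q] v = 0) hj' (fun r hr v _ => ?_) ?_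
  · rw [← TensorProduct.smul_tmul, Algebra.smul_def,
      show algebraMap Q k r = 0 from (hmaxQ ▸ hr : r ∈ RingHom.ker ψ), zero_mul, TensorProduct.zero_tmul]
  · intro a b ha hb
    rw [TensorProduct.tmul_add, ha, hb, add_zero]

/-- A regular rational point is a smooth point. -/
theorem isSmoothAt_of_regular {S : Type u} [CommRing S] [Algebra k S] [Algebra.FiniteType k S]
    (m : Ideal S) [m.IsPrime] (χ : S →ₐ[k] k) (hm : m = RingHom.ker χ)
    [IsRegularLocalRing (Localization.AtPrime m)] : Algebra.IsSmoothAt k m := by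
  obtain ⟨n, φ, hφ⟩ := Algebra.FiniteType.iff_quotient_mvPolynomial''.mp ‹Algebra.FiniteType k S›
  let p := m.comap φ
  haveI : p.IsPrime := Ideal.IsPrime.comap _
  let Q := Localization.AtPrime p
  haveI : IsRegularLocalRing Q := isRegularRing_iff.1 inferInstance p
  let f : Q →+* Localization.AtPrime m := Localization.localRingHom p m φ.toRingHom rfl
  letI := f.toAlgebra
  haveI : IsScalarTower k Q (Localization.AtPrime m) := IsScalarTower.of_algebraMap_eq fun c => by
    show _ = f (algebraMap k Q c)
    rw [IsScalarTower.algebraMap_apply k (MvPolynomial (Fin n) k) Q, Localization.localRingHom_to_map,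
      IsScalarTower.algebraMap_apply k S (Localization.AtPrime m)]
    exact congrArg _ (φ.commutes c).symm
  haveI : Algebra.FormallyEtale (MvPolynomial (Fin n) k) Q := .of_isLocalization p.primeCompl
  haveI : Algebra.FormallySmooth k Q := .comp _ (MvPolynomial (Fin n) k) _
  haveI : Module.Free Q Ω[Q⁄k] :=
    .of_equiv (KaehlerDifferential.tensorKaehlerEquivOfFormallyEtale k (MvPolynomial (Fin n) k) Q)
  haveI : Module.Finite Q Ω[Q⁄k] :=
    .equiv (KaehlerDifferential.tensorKaehlerEquivOfFormallyEtale k (MvPolynomial (Fin n) k) Q)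
  have h₁ : Function.Surjective f := by
    intro x
    obtain ⟨a, ⟨s, hs⟩, rfl⟩ := IsLocalization.exists_mk'_eq m.primeCompl x
    obtain ⟨a, rfl⟩ := hφ a
    obtain ⟨s, rfl⟩ := hφ s
    exact ⟨IsLocalization.mk' Q a (⟨s, hs⟩ : p.primeCompl), Localization.localRingHom_mk' p m _ rfl _ _⟩
  let χ' : Localization.AtPrime m →ₐ[k] k := IsLocalization.liftAlgHom (M := m.primeCompl) (f := χ)
    (fun y => (Ne.isUnit fun h => y.2 (hm.ge (RingHom.mem_ker.mpr h))))
  exact formallySmooth_of_regular Q (Localization.AtPrime m) h₁ χ'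

end Groth.L07.RationalSmooth
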