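import Groth.Agent.L07.FreeDepthZero
import Groth.Agent.S5782
import Mathlib.RingTheory.Regular.RegularSequence
import Mathlib.RingTheory.Ideal.Cotangent

/-! Ferrand–Vasconcelos: regular sequences lifting a free summand of the conormal module. -/

namespace Groth.L07.Ferrand

open CategoryTheory RingTheory.Sequence IsLocalRing Pointwise

set_option linter.style.haveILetI false

universe u

theorem exists_coset_notMem {R : Type u} [CommRing R] (S : Set (Ideal R)) (hS : S.Finite)
    (hprime : ∀ q ∈ S, q.IsPrime) (x : R) (J : Ideal R) (hJ : ∀ q ∈ S, ¬ J ≤ q) :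
    ∃ a ∈ J, ∀ q ∈ S, x + a ∉ q := by
  classical
  obtain ⟨S, rfl⟩ := hS.exists_finset_coe
  let T := S.filter (fun q => x ∈ q)
  let U := S.filter (fun q => x ∉ q ∧ ∀ t ∈ T, ¬ q ≤ t)
  have hT : ¬ ((J * ∏ q ∈ U, q : Ideal R) : Set R) ⊆ ⋃ t ∈ (↑T : Set (Ideal R)), (t : Set R) := by
    rw [Ideal.subset_union_prime ⊤ ⊤ (fun t ht _ _ => hprime t (Finset.mem_filter.mp ht).1)]
    rintro ⟨t, ht, hle⟩
    have hts := (Finset.mem_filter.mp ht).1
    haveI := hprime t hts
    rcases (hprime t hts).mul_le.mp hle with h | h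
    · exact hJ t hts h
    · obtain ⟨u, hu, hut⟩ := (hprime t hts).prod_le.mp h
      exact (Finset.mem_filter.mp hu).2.2 t ht hut
  obtain ⟨a, ha, haT⟩ := Set.not_subset.mp hT
  simp only [Set.mem_iUnion, not_exists, SetLike.mem_coe] at haT
  refine ⟨a, Ideal.mul_le_left ha, fun q hq hxa => ?_⟩
  by_cases hx : x ∈ q
  · exact haT q (Finset.mem_filter.mpr ⟨hq, hx⟩) ((q.add_mem_iff_right hx).mp hxa)
  · by_cases h : ∀ t ∈ T, ¬ q ≤ t
    · have hu : q ∈ U := Finset.mem_filter.mpr ⟨hq, hx, h⟩
      have h1 : (∏ q ∈ U, q : Ideal R) ≤ U.inf id := Ideal.prod_le_inf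
      have h2 : U.inf id ≤ q := Finset.inf_le (f := id) hu
      have haq : a ∈ q := h2 (h1 (Ideal.mul_le_right ha))
      exact hx ((q.add_mem_iff_left haq).mp hxa)
    · push Not at h
      obtain ⟨t, ht, hqt⟩ := h
      exact haT t ht ((t.add_mem_iff_right (Finset.mem_filter.mp ht).2).mp (hqt hxa))

set_option maxHeartbeats 1000000 in
/-- Regular sequences lifting a basis of a free summand of `I / I²`. -/
theorem exists_regular_lifts : ∀ (r : ℕ) (R : Type u) [CommRing R] [IsNoetherianRing R]
    [IsLocalRing R] (I : Ideal R), I ≠ ⊤ → (∃ n, HasProjectiveDimensionLT (ModuleCat.of R I) n) →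
    ∀ (φ : Fin r → (I →ₗ[R] R ⧸ I)) (W : Submodule R I), I • (⊤ : Submodule R I) ≤ W →
      (∀ i, ∃ w ∈ W, ∀ j, φ j w = if j = i then 1 else 0) →
      ∃ x : Fin r → I, (∀ i, x i ∈ W) ∧ (∀ i j, φ j (x i) = if j = i then 1 else 0) ∧
        IsWeaklyRegular R (List.ofFn fun i => (x i : R)) := by
  intro r
  induction r with
  | zero =>
    intro R _ _ _ I _ _ φ W _ _
    exact ⟨fun i => i.elim0, fun i => i.elim0, fun i => i.elim0, by simp⟩
  | succ r ih =>
    intro R _ _ _ I hI hpd φ W hW hφ
    obtain ⟨n, hn⟩ := hpd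
    haveI : Nontrivial (R ⧸ I) := Ideal.Quotient.nontrivial_iff.mpr hI
    have hkill : ∀ j (y : I), y ∈ I • (⊤ : Submodule R I) → φ j y = 0 := by
      intro j y hy
      refine Submodule.smul_induction_on hy (fun a ha z _ => ?_) (fun y z hy hz => ?_)
      · rw [map_smul, Algebra.smul_def, Ideal.Quotient.algebraMap_eq,
          Ideal.Quotient.eq_zero_iff_mem.mpr ha, zero_mul]
      · rw [map_add, hy, hz, add_zero]
    obtain ⟨w₀, hw₀, hφw₀⟩ := hφ 0
    have hIbot : I ≠ ⊥ := by
      intro h
      have : w₀ = 0 := Subtype.ext (by simpa [h] using w₀.2)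
      have h1 := hφw₀ 0
      rw [this, map_zero, if_pos rfl] at h1
      exact zero_ne_one h1
    have hass := FinitePd.not_le_associatedPrime hIbot n hn
    obtain ⟨a, ha, hxa⟩ := exists_coset_notMem (associatedPrimes R R)
      (associatedPrimes.finite R R) (fun q hq => IsAssociatedPrime.isPrime hq) (w₀ : R) (I * I)
      (fun q hq h => hass q hq
        ((IsAssociatedPrime.isPrime hq).mul_le.mp h |>.elim id id))
    have ha' : (⟨a, Ideal.mul_le_left ha⟩ : I) ∈ I • (⊤ : Submodule R I) := by
      have h1 : (I • (⊤ : Submodule R I)).map (Submodule.subtype I) = I * I := by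
        rw [Submodule.map_smul'', Submodule.map_top, Submodule.range_subtype, smul_eq_mul]
      rw [← h1] at ha
      obtain ⟨y, hy, hya⟩ := ha
      rwa [show (⟨a, Ideal.mul_le_left ha⟩ : I) = y from Subtype.ext hya.symm]
    set X : I := w₀ + ⟨a, Ideal.mul_le_left ha⟩ with hX
    have hXW : X ∈ W := add_mem hw₀ (hW ha')
    have hφX : ∀ j, φ j X = if j = 0 then 1 else 0 := fun j => by
      rw [hX, map_add, hkill j _ ha', add_zero, hφw₀]
    set x : R := (X : R) with hx_def
    have hxreg : IsSMulRegular R x := by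
      rw [isSMulRegular_iff_right_eq_zero_of_smul]
      intro b hb
      by_contra hb0
      have hx' : x ∈ {r : R | ∃ y : R, y ≠ 0 ∧ r • y = 0} := ⟨b, hb0, hb⟩
      rw [← biUnion_associatedPrimes_eq_zero_divisors] at hx'
      obtain ⟨q, hq, hxq⟩ := Set.mem_iUnion₂.mp hx'
      exact hxa q hq hxq
    have hxm : x ∈ maximalIdeal R := le_maximalIdeal hI X.2
    let J := Ideal.span {x}
    have hJI : J ≤ I := (Ideal.span_singleton_le_iff_mem I).mpr X.2
    haveI : Nontrivial (R ⧸ J) :=
      Ideal.Quotient.nontrivial_iff.mpr (ne_top_of_le_ne_top hI hJI)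
    haveI : IsLocalRing (R ⧸ J) :=
      IsLocalRing.of_surjective' (Ideal.Quotient.mk J) Ideal.Quotient.mk_surjective
    haveI : IsNoetherianRing (R ⧸ J) :=
      isNoetherianRing_of_surjective R _ (Ideal.Quotient.mk J) Ideal.Quotient.mk_surjective
    let I' := I.map (Ideal.Quotient.mk J)
    have hcomap : I'.comap (Ideal.Quotient.mk J) = I := by
      rw [Ideal.comap_map_of_surjective _ Ideal.Quotient.mk_surjective, ← RingHom.ker_eq_comap_bot,
        Ideal.mk_ker, sup_eq_left.mpr hJI]
    have hI' : I' ≠ ⊤ := fun h => hI (by rw [← hcomap, h, Ideal.comap_top])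
    let p : I →ₗ[R] I' :=
      { toFun := fun y => ⟨Ideal.Quotient.mk J y, Ideal.mem_map_of_mem _ y.2⟩
        map_add' := fun y z => Subtype.ext (map_add _ _ _)
        map_smul' := fun c y => Subtype.ext (by
          simp [Algebra.smul_def, Ideal.Quotient.algebraMap_eq]) }
    have hp : Function.Surjective p := by
      rintro ⟨y, hy⟩
      obtain ⟨z, hz, rfl⟩ :=
        (Ideal.mem_map_iff_of_surjective _ Ideal.Quotient.mk_surjective).mp hy
      exact ⟨⟨z, hz⟩, rfl⟩
    have hpker : LinearMap.ker p = Submodule.span R {X} := by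
      apply le_antisymm
      · intro y hy
        have h1 : Ideal.Quotient.mk J (y : R) = 0 := congrArg Subtype.val hy
        obtain ⟨c, hc⟩ := Ideal.mem_span_singleton'.mp (Ideal.Quotient.eq_zero_iff_mem.mp h1)
        exact Submodule.mem_span_singleton.mpr ⟨c, Subtype.ext hc⟩
      · rw [Submodule.span_singleton_le_iff_mem, LinearMap.mem_ker]
        exact Subtype.ext (Ideal.Quotient.eq_zero_iff_mem.mpr (Ideal.mem_span_singleton_self x))
    let desc : ∀ {Q : Type u} [AddCommGroup Q] [Module R Q] (f : I →ₗ[R] Q), f X = 0 →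
        (I' →ₗ[R] Q) := fun f hf =>
      (LinearMap.ker p).liftQ f (by
          rw [hpker, Submodule.span_singleton_le_iff_mem]; exact LinearMap.mem_ker.mpr hf) ∘ₗ
        (p.quotKerEquivOfSurjective hp).symm.toLinearMap
    have desc_p : ∀ {Q : Type u} [AddCommGroup Q] [Module R Q] (f : I →ₗ[R] Q) (hf : f X = 0)
        (y : I), desc f hf (p y) = f y := by
      intro Q _ _ f hf y
      simp only [desc, LinearMap.comp_apply, LinearEquiv.coe_coe]
      rw [show (p.quotKerEquivOfSurjective hp).symm (p y) = Submodule.Quotient.mk y from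
        (LinearEquiv.symm_apply_eq _).mpr rfl, Submodule.liftQ_apply]
    -- the retraction
    let ρ : (R ⧸ I) →ₗ[R] I ⧸ (J • ⊤ : Submodule R I) :=
      Submodule.liftQ I (LinearMap.toSpanSingleton R _ (Submodule.Quotient.mk X)) (by
        intro c hc
        rw [LinearMap.mem_ker, LinearMap.toSpanSingleton_apply, ← Submodule.Quotient.mk_smul,
          Submodule.Quotient.mk_eq_zero]
        have : c • X = x • (⟨c, hc⟩ : I) := Subtype.ext (by simp [hx_def, mul_comm])
        rw [this]
        exact Submodule.smul_mem_smul (Ideal.mem_span_singleton_self x) trivial)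
    let g₀ : I →ₗ[R] I ⧸ (J • ⊤ : Submodule R I) := Submodule.mkQ _ - ρ ∘ₗ φ 0
    have hg₀X : g₀ X = 0 := by
      simp only [g₀, LinearMap.sub_apply, LinearMap.comp_apply, hφX, if_pos]
      show Submodule.Quotient.mk (p := (J • ⊤ : Submodule R I)) X -
        (1 : R) • Submodule.Quotient.mk (p := (J • ⊤ : Submodule R I)) X = 0
      rw [one_smul, sub_self]
    let pN : (I ⧸ (J • ⊤ : Submodule R I)) →ₗ[R] I' := (J • ⊤ : Submodule R I).liftQ p (by
      rw [Submodule.smul_le]
      intro c hc y _
      rw [LinearMap.mem_ker]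
      refine Subtype.ext ?_
      show Ideal.Quotient.mk J (c • (y : R)) = 0
      rw [Ideal.Quotient.eq_zero_iff_mem, smul_eq_mul]
      exact J.mul_mem_right _ hc)
    have hρ : ∀ t, pN (ρ t) = 0 := by
      intro t
      obtain ⟨c, rfl⟩ := Submodule.mkQ_surjective _ t
      simp only [Submodule.mkQ_apply, ρ, Submodule.liftQ_apply, LinearMap.toSpanSingleton_apply,
        map_smul, pN]
      rw [show p X = 0 from Subtype.ext
        (Ideal.Quotient.eq_zero_iff_mem.mpr (Ideal.mem_span_singleton_self x)), smul_zero]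
    have hretr : ∀ y : I, pN (desc g₀ hg₀X (p y)) = p y := fun y => by
      rw [desc_p g₀ hg₀X]
      simp [g₀, hρ, pN]
    have hpd' : ∃ n, HasProjectiveDimensionLT (ModuleCat.of (R ⧸ J) I') n := by
      have hIreg : IsSMulRegular I x := fun y z h => Subtype.ext (hxreg (congrArg Subtype.val h))
      have hfin : projectiveDimension (ModuleCat.of R I) ≠ ⊤ :=
        (projectiveDimension_ne_top_iff _).mpr
          ⟨n, hasProjectiveDimensionLT_of_ge _ n (n + 1) n.le_succ⟩
      have hN := Groth.Agent.S5782.result R I hfin x hxm hxreg hIreg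
      have hNfin : projectiveDimension
          (ModuleCat.of (R ⧸ J) (I ⧸ (J • ⊤ : Submodule R I))) ≠ ⊤ :=
        ne_top_of_le_ne_top hfin hN
      obtain ⟨m, hm⟩ := (projectiveDimension_ne_top_iff _).mp hNfin
      let s' := (desc g₀ hg₀X).extendScalarsOfSurjective
        (S := R ⧸ J) Ideal.Quotient.mk_surjective
      let r' := pN.extendScalarsOfSurjective (S := R ⧸ J) Ideal.Quotient.mk_surjective
      let retr : Retract (ModuleCat.of (R ⧸ J) I')
          (ModuleCat.of (R ⧸ J) (I ⧸ (J • ⊤ : Submodule R I))) :=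
        { i := ModuleCat.ofHom s'
          r := ModuleCat.ofHom r'
          retract := by
            ext y
            obtain ⟨z, rfl⟩ := hp y
            exact congrArg Subtype.val (hretr z) }
      exact ⟨m + 1, retr.hasProjectiveDimensionLT (m + 1)⟩
    let θ : (R ⧸ I) →ₗ[R] (R ⧸ J) ⧸ I' :=
      Submodule.liftQ I ((Ideal.Quotient.mkₐ R I').toLinearMap ∘ₗ
        (Ideal.Quotient.mkₐ R J).toLinearMap) (by
          intro c hc
          rw [LinearMap.mem_ker]
          exact Ideal.Quotient.eq_zero_iff_mem.mpr (Ideal.mem_map_of_mem _ hc))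
    have hθ : Function.Injective θ := by
      rw [← LinearMap.ker_eq_bot, eq_bot_iff]
      intro t ht
      obtain ⟨c, rfl⟩ := Submodule.mkQ_surjective _ t
      rw [Submodule.mem_bot, Submodule.mkQ_apply, Submodule.Quotient.mk_eq_zero, ← hcomap]
      have ht' : Ideal.Quotient.mk I' (Ideal.Quotient.mk J c) = 0 := ht
      exact Ideal.mem_comap.mpr (Ideal.Quotient.eq_zero_iff_mem.mp ht')
    have hθ1 : θ 1 = 1 := rfl
    have hθφ : ∀ j : Fin r, (θ ∘ₗ φ j.succ) X = 0 := fun j => by
      simp [hφX, Fin.succ_ne_zero]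
    let φ' : Fin r → (I' →ₗ[R ⧸ J] (R ⧸ J) ⧸ I') := fun j =>
      (desc (θ ∘ₗ φ j.succ) (hθφ j)).extendScalarsOfSurjective
        (S := R ⧸ J) Ideal.Quotient.mk_surjective
    have hφ' : ∀ j (y : I), φ' j (p y) = θ (φ j.succ y) := fun j y => desc_p (θ ∘ₗ φ j.succ) (hθφ j) y
    let W' : Submodule (R ⧸ J) I' :=
      { carrier := p '' W
        add_mem' := by
          rintro _ _ ⟨u, hu, rfl⟩ ⟨v, hv, rfl⟩
          exact ⟨u + v, add_mem hu hv, map_add _ _ _⟩
        zero_mem' := ⟨0, zero_mem W, map_zero _⟩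
        smul_mem' := by
          rintro c _ ⟨u, hu, rfl⟩
          obtain ⟨c, rfl⟩ := Ideal.Quotient.mk_surjective c
          exact ⟨c • u, W.smul_mem c hu, map_smul _ _ _⟩ }
    have hW' : I' • (⊤ : Submodule (R ⧸ J) I') ≤ W' := by
      rw [Submodule.smul_le]
      intro c hc y _
      obtain ⟨c, hc', rfl⟩ :=
        (Ideal.mem_map_iff_of_surjective _ Ideal.Quotient.mk_surjective).mp hc
      obtain ⟨z, rfl⟩ := hp y
      exact ⟨c • z, hW (Submodule.smul_mem_smul hc' trivial), map_smul _ _ _⟩
    obtain ⟨x', hx'W, hx'φ, hx'reg⟩ := ih (R ⧸ J) I' hI' hpd' φ' W' hW' (fun i => by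
      obtain ⟨w, hw, hwφ⟩ := hφ i.succ
      refine ⟨p w, ⟨w, hw, rfl⟩, fun j => ?_⟩
      rw [hφ', hwφ]
      split_ifs with h1 h2 h2
      · exact hθ1
      · exact absurd (Fin.succ_injective _ h1) h2
      · exact absurd (congrArg Fin.succ h2) h1
      · exact map_zero _)
    choose w hw hpw using fun i => hx'W i
    choose c hc using fun i => Ideal.Quotient.mk_surjective (φ 0 (w i))
    let y : Fin r → I := fun i => w i - c i • X
    have hyφ0 : ∀ i, φ 0 (y i) = 0 := fun i => by
      rw [map_sub, map_smul, hφX, if_pos rfl, Algebra.smul_def, Ideal.Quotient.algebraMap_eq,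
        mul_one, hc, sub_self]
    have hyφ : ∀ i j, φ (Fin.succ j) (y i) = if j = i then 1 else 0 := fun i j => by
      apply hθ
      rw [map_sub, map_smul, hφX, if_neg (Fin.succ_ne_zero j), smul_zero, sub_zero, ← hφ', hpw,
        hx'φ]
      split_ifs
      · exact hθ1.symm
      · exact (map_zero θ).symm
    refine ⟨Fin.cons X y, ?_, ?_, ?_⟩
    · intro i
      refine Fin.cases ?_ ?_ i
      · exact hXW
      · intro i
        rw [Fin.cons_succ]
        exact sub_mem (hw i) (W.smul_mem _ hXW)
    · intro i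
      refine Fin.cases ?_ ?_ i
      · intro j; rw [Fin.cons_zero]; exact hφX j
      · intro i j
        rw [Fin.cons_succ]
        refine Fin.cases ?_ ?_ j
        · rw [hyφ0, if_neg (Fin.succ_ne_zero i).symm]
        · intro j; rw [hyφ]; simp
    · rw [List.ofFn_succ, isWeaklyRegular_cons_iff]
      refine ⟨by simpa using hxreg, ?_⟩
      simp only [Fin.cons_succ]
      have hmap : (List.ofFn fun i => (y i : R)).map (algebraMap R (R ⧸ J)) =
          List.ofFn fun i => (x' i : R ⧸ J) := by
        rw [List.map_ofFn]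
        congr 1
        funext i
        have h1 : p (y i) = x' i := by
          rw [map_sub, map_smul, hpw, show p X = 0 from Subtype.ext
            (Ideal.Quotient.eq_zero_iff_mem.mpr (Ideal.mem_span_singleton_self x)), smul_zero, sub_zero]
        exact congrArg Subtype.val h1
      rw [← hmap, isWeaklyRegular_map_algebraMap_iff] at hx'reg
      refine ((Submodule.quotEquivOfEq _ _ ?_).isWeaklyRegular_congr _).mpr hx'reg
      rw [← Submodule.ideal_span_singleton_smul, smul_eq_mul, Ideal.mul_top]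
      rfl

end Groth.L07.Ferrand
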