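import Groth.Agent.L07.CIExtension
import Groth.Agent.L18.FiberStalk
import Groth.Prelude.Def_CInt
import Mathlib.AlgebraicGeometry.Noetherian
import Mathlib.FieldTheory.IntermediateField.Adjoin.Algebra

/-! Complete intersection stalks and fibres of schemes. -/

namespace Groth.L07.CIScheme

open CategoryTheory CategoryTheory.Limits AlgebraicGeometry

set_option linter.style.haveILetI false
set_option maxSynthPendingDepth 3

universe u

/-- The local ring of a fibre. -/
theorem exists_fiberStalkEquiv {X S : Scheme.{u}} (f : X ⟶ S) (s : S) (y : f.fiber s) (x : X)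
    (hy : f.fiberι s y = x) :
    letI := (f.stalkMap x).hom.toAlgebra
    Nonempty (EGA4.FibRing (S.presheaf.stalk (f.base x)) (X.presheaf.stalk x) ≃+* (f.fiber s).presheaf.stalk y) := by
  subst hy
  obtain ⟨h1, h2⟩ := Groth.L18.stalkMap_fiberι f s y
  letI := (f.stalkMap (f.fiberι s y)).hom.toAlgebra
  exact ⟨(Ideal.quotEquivOfEq h2.symm).trans (RingHom.quotientKerEquivOfSurjective h1)⟩

/-- The residue field at a point of a scheme locally of finite type over a field is finitely generated. -/
theorem residueField_fg {k : Type u} [Field k] {X : Scheme.{u}} (f : X ⟶ Spec (CommRingCat.of k))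
    [LocallyOfFiniteType f] (x : X) (φ : CommRingCat.of k ⟶ X.residueField x)
    (hφ : Spec.map φ = X.fromSpecResidueField x ≫ f) :
    letI := φ.hom.toAlgebra
    ∃ s : Finset (X.residueField x), IntermediateField.adjoin k (s : Set (X.residueField x)) = ⊤ := by
  obtain ⟨_, ⟨V, hV, rfl⟩, hx, -⟩ := X.isBasis_affineOpens.exists_subset_of_mem_open
    (Set.mem_univ x) isOpen_univ
  have e : V ≤ f ⁻¹ᵁ ⊤ := fun y _ => trivial
  have hft := LocallyOfFiniteType.finiteType_appLE f (isAffineOpen_top _) hV e
  letI := φ.hom.toAlgebra
  let c : k →+* Γ(X, V) := (f.appLE ⊤ V e).hom.comp (Scheme.ΓSpecIso (CommRingCat.of k)).inv.hom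
  have hc : c.FiniteType := hft.comp (RingHom.FiniteType.of_surjective _
    (Scheme.ΓSpecIso (CommRingCat.of k)).symm.commRingCatIsoToRingEquiv.surjective)
  letI := c.toAlgebra
  haveI : Algebra.FiniteType k Γ(X, V) := hc
  letI := X.presheaf.algebra_section_stalk ⟨x, hx⟩
  haveI := hV.isLocalization_stalk ⟨x, hx⟩
  letI : Algebra (X.presheaf.stalk x) (X.residueField x) := (X.residue x).hom.toAlgebra
  letI : Algebra Γ(X, V) (X.residueField x) :=
    ((X.residue x).hom.comp (X.presheaf.germ V x hx).hom).toAlgebra
  haveI : IsScalarTower Γ(X, V) (X.presheaf.stalk x) (X.residueField x) :=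
    IsScalarTower.of_algebraMap_eq fun _ => rfl
  haveI : IsScalarTower k Γ(X, V) (X.residueField x) := by
    refine IsScalarTower.of_algebraMap_eq fun a => ?_
    have h : φ = CommRingCat.ofHom c ≫ X.evaluation V x hx := by
      apply Spec.map_injective
      rw [hφ, Spec.map_comp]
      have h2 : Spec.map (X.evaluation V x hx) ≫ hV.fromSpec = X.fromSpecResidueField x := by
        show Spec.map (X.presheaf.germ V x hx ≫ X.residue x) ≫ hV.fromSpec = _
        rw [Spec.map_comp, Category.assoc]
        show Spec.map (X.residue x) ≫ hV.fromSpecStalk hx = _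
        rw [hV.fromSpecStalk_eq_fromSpecStalk]
        rfl
      have h3 : Spec.map (CommRingCat.ofHom c) = hV.fromSpec ≫ f := by
        rw [← IsAffineOpen.SpecMap_appLE_fromSpec f (isAffineOpen_top _) hV e, IsAffineOpen.fromSpec_top,
          Scheme.isoSpec_Spec_inv, ← Spec.map_comp]
        rfl
      rw [h3, ← Category.assoc, h2]
    exact RingHom.congr_fun (congrArg CommRingCat.Hom.hom h) a
  haveI : Algebra.EssFiniteType Γ(X, V) (X.presheaf.stalk x) :=
    Algebra.EssFiniteType.of_isLocalization _ (hV.primeIdealOf ⟨x, hx⟩).asIdeal.primeCompl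
  haveI : Algebra.EssFiniteType (X.presheaf.stalk x) (X.residueField x) := by
    haveI : Algebra.FiniteType (X.presheaf.stalk x) (X.residueField x) :=
      RingHom.FiniteType.of_surjective (X.residue x).hom (X.residue_surjective x)
    infer_instance
  haveI : Algebra.EssFiniteType Γ(X, V) (X.residueField x) :=
    Algebra.EssFiniteType.comp _ (X.presheaf.stalk x) _
  haveI : Algebra.EssFiniteType k (X.residueField x) := Algebra.EssFiniteType.comp k Γ(X, V) _
  exact IntermediateField.fg_top_iff.mpr inferInstance

/-- A field is a complete intersection ring. -/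
theorem locCI_field (L : Type u) [Field L] : Groth.L07.CIExtension.LocCI L := fun _ _ =>
  Groth.L07.CIFibre.isCompleteIntersection_of_regular _

/-- The fibres of a change of base field have complete intersection local rings. -/
theorem isCompleteIntersection_fibre {k k' : Type u} [Field k] [Field k'] [Algebra k k'] {X : Scheme.{u}}
    (f : X ⟶ Spec (CommRingCat.of k)) [LocallyOfFiniteType f] (x : X)
    (y : (pullback.fst f (Spec.map (CommRingCat.ofHom (algebraMap k k')))).fiber x) :
    IsNoetherianRing (((pullback.fst f (Spec.map (CommRingCat.ofHom (algebraMap k k')))).fiber x).presheaf.stalk y) ∧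
    Pi1.IsCompleteIntersection
      (((pullback.fst f (Spec.map (CommRingCat.ofHom (algebraMap k k')))).fiber x).presheaf.stalk y) := by
  let g := Spec.map (CommRingCat.ofHom (algebraMap k k'))
  let φ : CommRingCat.of k ⟶ X.residueField x := Spec.preimage (X.fromSpecResidueField x ≫ f)
  have hφ : Spec.map φ = X.fromSpecResidueField x ≫ f := Spec.map_preimage _
  letI := φ.hom.toAlgebra
  obtain ⟨hN, hL⟩ := Groth.L07.CIExtension.locCI_baseChange k (X.residueField x) k'
    (residueField_fg f x φ hφ) (locCI_field k')
  let W := Spec (CommRingCat.of (TensorProduct k (X.residueField x) k'))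
  let e : (pullback.fst f g).fiber x ≅ W :=
    (pullbackSymmetry (pullback.fst f g) (X.fromSpecResidueField x)) ≪≫
      pullbackRightPullbackFstIso f g (X.fromSpecResidueField x) ≪≫
      pullback.congrHom (hφ.symm) rfl ≪≫ pullbackSpecIso k (X.residueField x) k'
  let w : W := e.hom y
  haveI hwp : (show PrimeSpectrum (TensorProduct k (X.residueField x) k') from w).asIdeal.IsPrime :=
    PrimeSpectrum.isPrime _
  let eR : W.presheaf.stalk w ≃+* ((pullback.fst f g).fiber x).presheaf.stalk y :=
    (asIso (e.hom.stalkMap y)).commRingCatIsoToRingEquiv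
  haveI : IsNoetherianRing (TensorProduct k (X.residueField x) k') := hN
  letI : Algebra (TensorProduct k (X.residueField x) k') (W.presheaf.stalk w) :=
    StructureSheaf.stalkAlgebra _ w
  haveI : IsLocalization.AtPrime (W.presheaf.stalk w) w.asIdeal := StructureSheaf.IsLocalization.to_stalk _ w
  haveI : IsNoetherianRing (W.presheaf.stalk w) :=
    IsLocalization.isNoetherianRing w.asIdeal.primeCompl _ hN
  haveI : IsNoetherianRing (Localization.AtPrime w.asIdeal) :=
    IsLocalization.isNoetherianRing w.asIdeal.primeCompl _ hN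
  haveI := isNoetherianRing_of_ringEquiv _ eR
  exact ⟨inferInstance, Groth.L07.Avramov.isCompleteIntersection_of_ringEquiv
    ((IsLocalization.algEquiv w.asIdeal.primeCompl (Localization.AtPrime w.asIdeal)
      (W.presheaf.stalk w)).toRingEquiv.trans eR) (hL w.asIdeal)⟩

end Groth.L07.CIScheme
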