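import Groth.Agent.L04.Koszul.Vanish
import Groth.Prelude.Def_LCI2
import Mathlib.RingTheory.Localization.AtPrime.Basic
import Mathlib.RingTheory.Regular.RegularSequence

/-! Koszul regularity is local. -/

namespace Groth.L07.KoszulLocal

open CategoryTheory CategoryTheory.Limits CochainComplex CohIII RingTheory.Sequence
open Groth.L04.Koszul
open Groth.L28.Kun (Z cl cl_surjective cl_eq_zero_iff homologyMap_cl)

set_option linter.style.haveILetI false

universe u

variable {A : Type u} [CommRing A] {M N : ModuleCat.{u} A} (g : M ⟶ N) (S : Submonoid A)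

/-- The Koszul complex preserves localization, elementwise. -/
theorem kmap_localized (hsurj : ∀ y : N, ∃ (x : M) (s : S), g x = (s : A) • y)
    (hker : ∀ x : M, g x = 0 → ∃ s : S, (s : A) • x = 0) :
    ∀ (fs : List A) (n : ℤ),
      (∀ y, ∃ (x : (koszulCx M fs).X n) (s : S), (kmap g fs).f n x = (s : A) • y) ∧
        ∀ x, (kmap g fs).f n x = 0 → ∃ s : S, (s : A) • x = 0 := by
  intro fs
  induction fs with
  | nil =>
    intro n
    by_cases hn : n = 0
    · constructor
      · intro y
        obtain ⟨x, s, hx⟩ := hsurj ((HomologicalComplex.singleObjXIsoOfEq (ComplexShape.up ℤ) (0 : ℤ) N n hn).hom y)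
        obtain ⟨x', rfl⟩ := (single_X_eq (M := M) n hn).2 x
        refine ⟨x', s, (single_X_eq (M := N) n hn).1 ?_⟩
        exact (kmap_nil_apply g n hn x').trans (hx.trans (map_smul _ _ _).symm)
      · intro x hx
        obtain ⟨s, hs⟩ := hker _ ((kmap_nil_apply g n hn x).symm.trans ((congrArg _ hx).trans (map_zero _)))
        exact ⟨s, (single_X_eq (M := M) n hn).1 ((map_smul _ _ _).trans (hs.trans (map_zero _).symm))⟩
    · haveI := ModuleCat.isZero_iff_subsingleton.1 (isZero_X N [] n
        (by simp only [List.length_nil]; omega))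
      haveI := ModuleCat.isZero_iff_subsingleton.1 (isZero_X M [] n
        (by simp only [List.length_nil]; omega))
      exact ⟨fun y => ⟨0, 1, Subsingleton.elim _ _⟩, fun x _ => ⟨1, Subsingleton.elim _ _⟩⟩
  | cons f fs ih =>
    intro n
    constructor
    · intro y
      obtain ⟨q, w, rfl⟩ := exists_cmk_cons N n (n + 1) rfl y
      obtain ⟨p, s, hp⟩ := (ih (n + 1)).1 q
      obtain ⟨x, t, hx⟩ := (ih n).1 w
      refine ⟨cmk (stepHom M f fs) n (n + 1) rfl ((t : A) • p) ((s : A) • x), s * t,
        (kmap_cmk g f fs rfl _ _).trans ?_⟩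
      rw [map_smul, map_smul, hp, hx, smul_smul, smul_smul, mul_comm (t : A)]
      exact (smul_cmk _ _ _ _ _).symm
    · intro z hz
      obtain ⟨p, x, rfl⟩ := exists_cmk_cons M n (n + 1) rfl z
      obtain ⟨h1, h2⟩ := cmk_inj _ rfl
        ((kmap_cmk g f fs rfl p x).symm.trans (hz.trans (cmk_zero (stepHom N f fs) rfl).symm))
      obtain ⟨s, hs⟩ := (ih _).2 p h1
      obtain ⟨t, ht⟩ := (ih _).2 x h2
      refine ⟨s * t, (smul_cmk _ _ _ _ _).trans ?_⟩
      rw [Submonoid.coe_mul, mul_smul, mul_smul, ht, smul_zero, smul_comm, hs, smul_zero, cmk_zero]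
      rfl

/-- A class dying in the localization is killed by a denominator. -/
theorem exists_smul_eq_zero (hsurj : ∀ y : N, ∃ (x : M) (s : S), g x = (s : A) • y)
    (hker : ∀ x : M, g x = 0 → ∃ s : S, (s : A) • x = 0) (fs : List A) (n : ℤ)
    (hN : IsZero ((koszulCx N fs).homology n)) (c : (koszulCx M fs).homology n) :
    ∃ s : S, (s : A) • c = 0 := by
  haveI := ModuleCat.isZero_iff_subsingleton.1 hN
  obtain ⟨z, rfl⟩ := cl_surjective (koszulCx M fs) n c
  have h0 : HomologicalComplex.homologyMap (kmap g fs) n (cl _ n z) = 0 := Subsingleton.elim _ _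
  rw [homologyMap_cl] at h0
  obtain ⟨w, hw⟩ := (cl_eq_zero_iff _ (m := n - 1) (by omega) _).mp h0
  obtain ⟨w₀, t, hw₀⟩ := (kmap_localized g S hsurj hker fs (n - 1)).1 w
  have h1 : (kmap g fs).f n ((t : A) • z.1 - (koszulCx M fs).d (n - 1) n w₀) = 0 := by
    rw [map_sub, map_smul, sub_eq_zero, ← ConcreteCategory.comp_apply, ← (kmap g fs).comm (n - 1) n,
      ConcreteCategory.comp_apply, hw₀, map_smul, hw]
  obtain ⟨s, hs⟩ := (kmap_localized g S hsurj hker fs n).2 _ h1
  refine ⟨s * t, ?_⟩
  rw [← map_smul, cl_eq_zero_iff _ (m := n - 1) (by omega)]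
  refine ⟨(s : A) • w₀, ?_⟩
  rw [smul_sub, sub_eq_zero, smul_smul] at hs
  rw [map_smul]
  exact hs.symm

/-- A sequence regular at every prime of its zero locus is Koszul-regular. -/
theorem isKoszulRegularSeq_of_local (l : List A)
    (h : ∀ (P : Ideal A) [P.IsMaximal], Ideal.ofList l ≤ P → IsWeaklyRegular (Localization.AtPrime P) l) :
    LCI.IsKoszulRegularSeq A l := by
  intro i hi
  suffices H : ∀ K : CochainComplex (ModuleCat.{u} A) ℤ, K = koszulCx (ModuleCat.of A A) l →
      IsZero (K.homology i) from H _ (koszul_eq l)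
  rintro _ rfl
  refine ModuleCat.isZero_iff_subsingleton.2 (subsingleton_of_forall_eq 0 fun c => ?_)
  by_contra hc
  have hann : (LinearMap.toSpanSingleton A _ c).ker ≠ ⊤ := fun ht => hc (by
    simpa using LinearMap.congr_fun (LinearMap.ker_eq_top.mp ht) 1)
  obtain ⟨P, hP, hle⟩ := Ideal.exists_le_maximal _ hann
  have hlP : Ideal.ofList l ≤ P := fun a ha => hle (smul_homology_eq_zero _ ha i c)
  let L := Localization.AtPrime P
  obtain ⟨s, hs⟩ := exists_smul_eq_zero (ModuleCat.ofHom (Algebra.linearMap A L)) P.primeCompl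
    (fun y => by
      obtain ⟨⟨x, s⟩, hx⟩ := IsLocalization.surj P.primeCompl (y : L)
      exact ⟨x, s, hx.symm.trans ((mul_comm _ _).trans (Algebra.smul_def (s : A) (y : L)).symm)⟩)
    (fun x hx => by
      obtain ⟨s, hs⟩ := (IsLocalization.map_eq_zero_iff P.primeCompl L x).mp hx
      exact ⟨s, hs⟩)
    l i (isZero_of_isWeaklyRegular l (ModuleCat.of A L) (h P hlP) i hi) c
  exact s.2 (hle hs)

end Groth.L07.KoszulLocal
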