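import Groth.Agent.L07.KoszulIdealDescent
import Mathlib.RingTheory.MvPolynomial.Ideal
import Mathlib.RingTheory.Regular.RegularSequence

/-! The variables of a polynomial ring form a Koszul-regular sequence. -/

set_option autoImplicit false

universe u

open Pointwise RingTheory.Sequence

namespace Groth.L07.KoszulVars

variable {k : Type u} [CommRing k] {σ : Type}

lemma isWeaklyRegular_X_quot : ∀ (l : List σ) (s : Set σ), l.Nodup → (∀ i ∈ l, i ∉ s) →
    IsWeaklyRegular (MvPolynomial σ k ⧸ Ideal.span ((MvPolynomial.X (R := k)) '' s)) (l.map (MvPolynomial.X (R := k))) := by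
  intro l
  induction l with
  | nil => intro s _ _; exact IsWeaklyRegular.nil _ _
  | cons a l ih =>
    intro s hnd hs
    rw [List.nodup_cons] at hnd
    rw [List.forall_mem_cons] at hs
    rw [List.map_cons, isWeaklyRegular_cons_iff]
    refine ⟨(isSMulRegular_quotient_iff_mem_of_smul_mem _ _).2 fun z hz => ?_, ?_⟩
    · rw [MvPolynomial.mem_ideal_span_X_image] at hz ⊢
      intro m hm
      obtain ⟨i, hi, hne⟩ := hz (Finsupp.single a 1 + m) (by
        rw [smul_eq_mul, MvPolynomial.mem_support_iff, MvPolynomial.coeff_X_mul]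
        exact MvPolynomial.mem_support_iff.1 hm)
      refine ⟨i, hi, ?_⟩
      have hia : a ≠ i := fun h => hs.1 (h ▸ hi)
      rwa [Finsupp.add_apply, Finsupp.single_eq_of_ne' hia, zero_add] at hne
    · have h := ih (insert a s) hnd.2 (fun i hi => by
        rw [Set.mem_insert_iff, not_or]
        exact ⟨fun h => hnd.1 (h ▸ hi), hs.2 i hi⟩)
      let I : Ideal (MvPolynomial σ k) := Ideal.span (MvPolynomial.X '' s)
      have hI : Ideal.span (MvPolynomial.X '' insert a s) =
          Ideal.span {(MvPolynomial.X a : MvPolynomial σ k)} ⊔ I := by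
        rw [Set.image_insert_eq, Ideal.span_insert]
      have hmap : (MvPolynomial.X a : MvPolynomial σ k) • (⊤ : Submodule (MvPolynomial σ k) (MvPolynomial σ k ⧸ I)) =
          Submodule.map I.mkQ (I ⊔ Ideal.span {(MvPolynomial.X a : MvPolynomial σ k)}) := by
        rw [Submodule.map_sup, Submodule.mkQ_map_self, bot_sup_eq]
        refine le_antisymm ?_ ?_
        · intro x hx
          obtain ⟨y, -, rfl⟩ := (Submodule.mem_smul_pointwise_iff_exists _ _ _).1 hx
          obtain ⟨y, rfl⟩ := Submodule.mkQ_surjective I y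
          exact ⟨MvPolynomial.X a * y, Ideal.mul_mem_right _ _ (Ideal.subset_span rfl), by
            rw [← smul_eq_mul, map_smul]⟩
        · rintro _ ⟨y, hy, rfl⟩
          obtain ⟨c, rfl⟩ := Ideal.mem_span_singleton'.1 hy
          rw [mul_comm, ← smul_eq_mul, map_smul]
          exact Submodule.smul_mem_pointwise_smul _ _ _ trivial
      exact (((Submodule.quotEquivOfEq _ _ hmap).trans
        ((Submodule.quotientQuotientEquivQuotientSup I _).trans
          (Submodule.quotEquivOfEq _ _ (by rw [hI, sup_comm I (I ⊔ _), sup_assoc, sup_left_comm, sup_idem, sup_comm])))).isWeaklyRegular_congr _).2 h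

theorem isKoszulRegularSeq_X (R : Type u) [CommRing R] (n : ℕ) :
    LCI.IsKoszulRegularSeq (MvPolynomial (Fin n) R) (List.ofFn fun i => (MvPolynomial.X i : MvPolynomial (Fin n) R)) := by
  have h := isWeaklyRegular_X_quot (k := R) (List.finRange n) (∅ : Set (Fin n))
    (List.nodup_finRange _) (fun _ _ h => h)
  have e : (MvPolynomial (Fin n) R ⧸ Ideal.span ((MvPolynomial.X (R := R)) '' (∅ : Set (Fin n)))) ≃ₗ[MvPolynomial (Fin n) R]
      MvPolynomial (Fin n) R := Submodule.quotEquivOfEqBot _ (by simp)
  have h' := (e.isWeaklyRegular_congr _).1 h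
  rw [← List.ofFn_eq_map] at h'
  rw [Groth.L07.KoszulPerm.isKoszulRegularSeq_iff]
  exact fun m hm => Groth.L04.Koszul.isZero_of_isWeaklyRegular _ (ModuleCat.of _ _) h' m hm.ne

end Groth.L07.KoszulVars
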