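import Groth.Agent.L20.FibreDescent
import Groth.Agent.L20.FiberModule
import Groth.Agent.L02.Flat
import Mathlib.RingTheory.Flat.TorsionFree
import Mathlib.RingTheory.PolynomialAlgebra
import Mathlib.RingTheory.Regular.RegularSequence
import Mathlib.RingTheory.Nakayama
import Mathlib.Algebra.Module.LocalizedModule.Exact

/-! Regular sequences on the fibre lift: reduction to the fibrewise criterion over `A[X]`. -/

namespace Groth.L07.FibreRegular

open TensorProduct Pointwise

attribute [local instance] Polynomial.algebra

set_option linter.style.haveILetI false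

universe u

theorem isSMulRegular_of_flat {R : Type u} [CommRing R] {N : Type u} [AddCommGroup N] [Module R N]
    [Module.Flat R N] {r : R} (h : IsSMulRegular R r) : IsSMulRegular N r := by
  intro a b hab
  apply (TensorProduct.lid R N).symm.injective
  apply Module.Flat.rTensor_preserves_injective_linearMap (M := N) (LinearMap.lsmul R R r) (fun x y hxy => h hxy)
  rw [TensorProduct.lid_symm_apply, TensorProduct.lid_symm_apply, LinearMap.rTensor_tmul,
    LinearMap.rTensor_tmul]
  simp only [LinearMap.lsmul_apply, smul_tmul]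
  exact congrArg _ hab

variable {A B : Type u} [CommRing A] [CommRing B] [Algebra A B]

theorem exact_lsmul_mkQ (M : Type u) [AddCommGroup M] [Module B M] (g : B) :
    Function.Exact (LinearMap.lsmul B M g) (Submodule.mkQ (g • ⊤ : Submodule B M)) := by
  refine LinearMap.exact_iff.mpr ?_
  rw [Submodule.ker_mkQ]
  ext x
  simp [Submodule.mem_smul_pointwise_iff_exists]

/-- Localising an exact pair starting with multiplication by `g`. -/
theorem ker_map_eq {X Y : Type u} [AddCommGroup X] [Module B X] [AddCommGroup Y] [Module B Y]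
    (S : Submonoid B) (g : B) (π₀ : X →ₗ[B] Y) (h : Function.Exact (LinearMap.lsmul B X g) π₀) :
    LinearMap.ker ((LocalizedModule.map S π₀).restrictScalars B) =
      g • (⊤ : Submodule B (LocalizedModule S X)) := by
  have hmap : ∀ y : LocalizedModule S X, IsLocalizedModule.map S (LocalizedModule.mkLinearMap S X)
      (LocalizedModule.mkLinearMap S X) (LinearMap.lsmul B X g) y = g • y := by
    intro y
    induction y using LocalizedModule.induction_on with
    | h m s =>
      rw [IsLocalizedModule.map_LocalizedModules, LinearMap.lsmul_apply, LocalizedModule.smul'_mk]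
  ext x
  refine (LinearMap.mem_ker.trans (LocalizedModule.map_exact S _ _ h x)).trans ?_
  rw [Submodule.mem_smul_pointwise_iff_exists, Set.mem_range]
  exact exists_congr fun y => by simp only [Submodule.mem_top, true_and, hmap]

attribute [local instance] Algebra.TensorProduct.rightAlgebra

open Polynomial in
set_option maxHeartbeats 800000 in
/-- The module is flat over `A[X]`, with `X` acting as `g`, at a point where `g` is regular on the fibre. -/
theorem flat_polynomial [Algebra.FinitePresentation A B] (M : Type u) [AddCommGroup M] [Module B M]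
    [Module A M] [IsScalarTower A B M] [Module.FinitePresentation B M] (q : Ideal B) [q.IsPrime]
    (g : B) (hg : g ∈ q) [Algebra A[X] B] [IsScalarTower A A[X] B] (hX : algebraMap A[X] B X = g)
    [Module A[X] M] [IsScalarTower A[X] B M]
    (hflat : Module.Flat A (LocalizedModule q.primeCompl M))
    (hreg : IsSMulRegular
      (LocalizedModule q.primeCompl (M ⊗[A] (q.comap (algebraMap A B)).ResidueField)) g) :
    Module.Flat A[X] (LocalizedModule q.primeCompl M) := by
  let p := q.comap (algebraMap A B)
  let κ := p.ResidueField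
  let C := p.Fiber B
  let γ : C := algebraMap B C g
  letI : Algebra κ[X] C := (Polynomial.aeval (R := κ) γ).toRingHom.toAlgebra
  letI : Algebra A[X] C := ((algebraMap B C).comp (algebraMap A[X] B)).toAlgebra
  haveI : IsScalarTower A[X] B C := IsScalarTower.of_algebraMap_eq fun _ => rfl
  haveI : IsScalarTower A[X] κ[X] C := by
    refine IsScalarTower.of_algebraMap_eq' (Polynomial.ringHom_ext (fun a => ?_) ?_)
    · show algebraMap B C (algebraMap A[X] B (Polynomial.C a)) =
        Polynomial.aeval (R := κ) γ (algebraMap A[X] κ[X] (Polynomial.C a))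
      rw [show (Polynomial.C a : A[X]) = algebraMap A A[X] a from rfl,
        ← IsScalarTower.algebraMap_apply A A[X] B, ← IsScalarTower.algebraMap_apply A A[X] κ[X],
        IsScalarTower.algebraMap_apply A κ κ[X], AlgHom.commutes, ← IsScalarTower.algebraMap_apply,
        ← IsScalarTower.algebraMap_apply]
    · show algebraMap B C (algebraMap A[X] B X) = Polynomial.aeval (R := κ) γ (algebraMap A[X] κ[X] X)
      rw [hX, Polynomial.algebraMap_def, Polynomial.coe_mapRingHom, Polynomial.map_X, Polynomial.aeval_X]
  let φ : κ →+* q.ResidueField := Ideal.ResidueField.map p q (algebraMap A B) rfl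
  let ε : C →+* q.ResidueField :=
    (Algebra.TensorProduct.lift (AlgHom.mk φ fun a => by
        show φ (algebraMap A κ a) = _
        rw [IsScalarTower.algebraMap_apply A B q.ResidueField]
        exact Ideal.ResidueField.map_algebraMap p q (algebraMap A B) rfl a)
      (IsScalarTower.toAlgHom A B q.ResidueField) fun _ _ => Commute.all _ _).toRingHom
  have hε : ∀ b : B, ε (algebraMap B C b) = algebraMap B q.ResidueField b := fun b => by
    show Algebra.TensorProduct.lift _ _ _ ((1 : κ) ⊗ₜ[A] b) = _
    simp
  let q' : Ideal C := RingHom.ker ε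
  haveI : q'.IsPrime := RingHom.ker_isPrime ε
  have hq' : q'.comap (algebraMap B C) = q := by
    ext b
    rw [Ideal.mem_comap, RingHom.mem_ker, hε, Ideal.algebraMap_residueField_eq_zero]
  haveI : Algebra.FinitePresentation A A[X] := inferInstance
  haveI := hflat
  haveI : IsScalarTower A A[X] M := IsScalarTower.of_algebraMap_smul fun a m => by
    rw [← algebraMap_smul B (algebraMap A A[X] a) m, ← IsScalarTower.algebraMap_apply, algebraMap_smul]
  refine Groth.L20.FibreCrit.flat_of_fibre (R := A) (S := A[X]) (U := B) (K := κ) (B := κ[X]) (C := C) q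
    (Ideal.ker_algebraMap_residueField p) q' hq' ?_
  let T := Localization.AtPrime q' ⊗[B] M
  let ι : C ⊗[B] M →ₗ[C] T := AlgebraTensorModule.rTensor B M (Algebra.linearMap C (Localization.AtPrime q'))
  haveI : IsLocalizedModule q'.primeCompl ι := inferInstance
  have hγ : ∀ x : T, γ • x = 0 → x = 0 := by
    intro x hx
    obtain ⟨⟨n, ⟨s, hs⟩⟩, hsx⟩ := IsLocalizedModule.surj q'.primeCompl ι x
    replace hsx : s • x = ι n := hsx
    have h1 : ι (γ • n) = 0 := by rw [map_smul, ← hsx, smul_comm, hx]; exact smul_zero (A := T) s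
    obtain ⟨⟨t, ht⟩, htn⟩ := (IsLocalizedModule.eq_zero_iff q'.primeCompl ι).mp h1
    replace htn : t • γ • n = 0 := htn
    let e : C ⊗[B] M ≃ₗ[B] M ⊗[A] κ := Groth.L20.fiberModEquiv p B M
    have h2 : g • e (t • n) = 0 := by
      rw [← map_smul, ← algebraMap_smul C g (t • n), smul_comm, htn, map_zero]
    have h3 : LocalizedModule.mkLinearMap q.primeCompl _ (e (t • n)) = 0 :=
      IsSMulRegular.right_eq_zero_of_smul hreg (by rw [← map_smul, h2, map_zero])
    obtain ⟨⟨v, hv⟩, hvn⟩ := (IsLocalizedModule.eq_zero_iff q.primeCompl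
      (LocalizedModule.mkLinearMap q.primeCompl _)).mp h3
    replace hvn : v • e (t • n) = 0 := hvn
    rw [← map_smul, LinearEquiv.map_eq_zero_iff, ← algebraMap_smul C v (t • n), smul_smul] at hvn
    have hvt : algebraMap B C v * t ∈ q'.primeCompl :=
      Submonoid.mul_mem _ (fun h => hv (hq'.le h)) ht
    have h4 : s • x = 0 := by
      rw [hsx]
      exact (IsLocalizedModule.eq_zero_iff q'.primeCompl ι).mpr ⟨⟨_, hvt⟩, hvn⟩
    exact ((IsLocalization.map_units (Localization.AtPrime q') (⟨s, hs⟩ : q'.primeCompl)).smul_left_cancel (x := x) (y := 0)).mp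
      (by rw [smul_zero, algebraMap_smul, h4])
  rw [Module.Flat.flat_iff_torsion_eq_bot_of_isBezout, Submodule.eq_bot_iff]
  intro x hx
  obtain ⟨⟨a, ha⟩, hax⟩ := (Submodule.mem_torsion_iff _).mp hx
  replace hax : a • x = 0 := hax
  obtain ⟨a', ha', hdvd⟩ := Polynomial.exists_eq_pow_rootMultiplicity_mul_and_not_dvd a
    (nonZeroDivisors.ne_zero ha) 0
  rw [map_zero, sub_zero] at ha' hdvd
  rw [Polynomial.X_dvd_iff] at hdvd
  have hu : algebraMap κ[X] C a' ∈ q'.primeCompl := by
    intro hmem
    change algebraMap κ[X] C a' ∈ q' at hmem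
    rw [← Polynomial.divX_mul_X_add a', map_add, map_mul,
      show algebraMap κ[X] C X = γ from Polynomial.aeval_X (R := κ) γ] at hmem
    have hmem' := (Ideal.add_mem_iff_right q' (q'.mul_mem_left _ (show γ ∈ q' from hq'.ge hg))).mp hmem
    exact ‹q'.IsPrime›.ne_top (Ideal.eq_top_of_isUnit_mem _ hmem'
      ((Polynomial.isUnit_C.mpr (isUnit_iff_ne_zero.mpr hdvd)).map _))
  have key : ∀ k : ℕ, ∀ y : T, (X : κ[X]) ^ k • y = 0 → y = 0 := by
    intro k
    induction k with
    | zero => intro y hy; simpa using hy
    | succ k ih =>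
      intro y hy
      rw [pow_succ', mul_smul, ← algebraMap_smul C (X : κ[X]),
        show algebraMap κ[X] C X = γ from Polynomial.aeval_X (R := κ) γ] at hy
      exact ih y (hγ _ hy)
  rw [ha', mul_smul] at hax
  have h5 := key _ _ hax
  rw [← algebraMap_smul C a', ← algebraMap_smul (Localization.AtPrime q')] at h5
  exact ((IsLocalization.map_units (Localization.AtPrime q') (⟨_, hu⟩ : q'.primeCompl)).smul_left_cancel (x := x) (y := 0)).mp
    (by rw [smul_zero]; exact h5)

open Polynomial in
theorem X_injective (W : Type u) [AddCommGroup W] [Module A W] :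
    Function.Injective (LinearMap.lsmul A[X] (A[X] ⊗[A] W) (X : A[X])) := by
  let m : A[X] →ₗ[A] A[X] := (LinearMap.lsmul A[X] A[X] (X : A[X])).restrictScalars A
  let r : A[X] →ₗ[A] A[X] :=
    { toFun := Polynomial.divX
      map_add' := fun _ _ => Polynomial.divX_add
      map_smul' := fun a p => by ext n; simp [Polynomial.coeff_divX] }
  have hrm : r ∘ₗ m = LinearMap.id := LinearMap.ext fun p => Polynomial.ext fun n => by
    simp [r, m, Polynomial.coeff_divX]
  have hc : ∀ y : A[X] ⊗[A] W, (X : A[X]) • y = m.rTensor W y := fun y => by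
    induction y using TensorProduct.induction_on with
    | zero => simp
    | tmul x w => rfl
    | add a b ha hb => rw [smul_add, map_add, ha, hb]
  intro a b hab
  have h2 := congrArg (r.rTensor W) ((hc a).symm.trans (hab.trans (hc b)))
  simpa only [← LinearMap.comp_apply, ← LinearMap.rTensor_comp, hrm, LinearMap.rTensor_id,
    LinearMap.id_apply] using h2

open Polynomial in
theorem isSMulRegular_and_flat [Algebra.FinitePresentation A B] (M : Type u) [AddCommGroup M]
    [Module B M] [Module A M] [IsScalarTower A B M] [Module.FinitePresentation B M] (q : Ideal B)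
    [q.IsPrime] (g : B) (hg : g ∈ q) (hflat : Module.Flat A (LocalizedModule q.primeCompl M))
    (hreg : IsSMulRegular
      (LocalizedModule q.primeCompl (M ⊗[A] (q.comap (algebraMap A B)).ResidueField)) g) :
    IsSMulRegular (LocalizedModule q.primeCompl M) g ∧
      Module.Flat A (LocalizedModule q.primeCompl (QuotSMulTop g M)) := by
  letI : Algebra A[X] B := (Polynomial.aeval (R := A) g).toRingHom.toAlgebra
  haveI : IsScalarTower A A[X] B := IsScalarTower.of_algebraMap_eq fun a =>
    ((Polynomial.aeval (R := A) g).commutes a).symm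
  have hX : algebraMap A[X] B X = g := Polynomial.aeval_X g
  letI : Module A[X] M := Module.compHom M (algebraMap A[X] B)
  haveI : IsScalarTower A[X] B M := IsScalarTower.of_compHom A[X] B M
  haveI := flat_polynomial M q g hg hX hflat hreg
  haveI := hflat
  let N := LocalizedModule q.primeCompl M
  have hsm : ∀ x : N, (X : A[X]) • x = g • x := fun x => by rw [← algebraMap_smul B (X : A[X]), hX]
  have hgreg : IsSMulRegular N g := by
    intro a b hab
    exact isSMulRegular_of_flat (R := A[X]) Polynomial.isRegular_X.left
      (show (X : A[X]) • a = (X : A[X]) • b by rw [hsm, hsm]; exact hab)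
  refine ⟨hgreg, ?_⟩
  let f : N →ₗ[A] N := (LinearMap.lsmul B N g).restrictScalars A
  let π : N →ₗ[A] LocalizedModule q.primeCompl (QuotSMulTop g M) :=
    ((LocalizedModule.map q.primeCompl (Submodule.mkQ (g • ⊤ : Submodule B M))).restrictScalars B).restrictScalars A
  have hker := ker_map_eq q.primeCompl g _ (exact_lsmul_mkQ M g)
  have hex : Function.Exact f π := fun x => by
    refine (LinearMap.mem_ker.symm.trans ((SetLike.ext_iff.mp hker x).trans ?_))
    rw [Submodule.mem_smul_pointwise_iff_exists]
    exact exists_congr fun y => by simp [f]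
  have hsurj : Function.Surjective π := LocalizedModule.map_surjective _ _ (Submodule.mkQ_surjective _)
  refine Groth.L02.flat_of_exact_of_rTensor_quotient f π hex hsurj fun I _ => ?_
  rw [injective_iff_map_eq_zero]
  intro z hz
  let W := A ⧸ I
  have hz' : (X : A[X]) • z = 0 := by
    rw [← hz]
    clear hz
    induction z using TensorProduct.induction_on with
    | zero => simp
    | tmul x w => rw [TensorProduct.smul_tmul', hsm]; rfl
    | add a b ha hb => rw [smul_add, map_add, ha, hb]
  let e := AlgebraTensorModule.cancelBaseChange A A[X] A[X] N W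
  let Y := A[X] ⊗[A] W
  have hinj := X_injective (A := A) W
  apply e.symm.injective
  rw [map_zero]
  apply Module.Flat.lTensor_preserves_injective_linearMap (M := N) _ hinj
  rw [map_zero]
  have h3 : ∀ w : N ⊗[A[X]] Y, (LinearMap.lsmul A[X] Y (X : A[X])).lTensor N w = (X : A[X]) • w := fun w => by
    induction w using TensorProduct.induction_on with
    | zero => simp
    | tmul x y => simp
    | add a b ha hb => rw [smul_add, map_add, ha, hb]
  rw [h3, ← map_smul, hz', map_zero]

section Fibre

variable (q : Ideal B) [q.IsPrime] (κ : Type u) [CommRing κ] [Algebra A κ]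

/-- Quotients by an element commute with the fibre and localisation. -/
theorem exists_quotEquiv (M Q : Type u) [AddCommGroup M] [Module B M] [Module A M] [IsScalarTower A B M]
    [AddCommGroup Q] [Module B Q] [Module A Q] [IsScalarTower A B Q] (p : M →ₗ[B] Q)
    (hp : Function.Surjective p) (g : B) (hex : Function.Exact (LinearMap.lsmul B M g) p) :
    Nonempty (QuotSMulTop g (LocalizedModule q.primeCompl (M ⊗[A] κ)) ≃ₗ[B]
      LocalizedModule q.primeCompl (Q ⊗[A] κ)) := by
  let π₀ : M ⊗[A] κ →ₗ[B] Q ⊗[A] κ := AlgebraTensorModule.map p LinearMap.id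
  have hπ₀ : ∀ z, π₀ z = (p.restrictScalars A).rTensor κ z := fun z => by
    induction z using TensorProduct.induction_on with
    | zero => rw [map_zero, map_zero]
    | tmul x y => rfl
    | add a b ha hb => rw [map_add, map_add, ha, hb]
  have hp' : Function.Surjective (p.restrictScalars A) := hp
  have hs₀ : Function.Surjective π₀ := fun y => by
    obtain ⟨z, hz⟩ := LinearMap.rTensor_surjective κ hp' y
    exact ⟨z, (hπ₀ z).trans hz⟩
  have h0 : Function.Exact ((LinearMap.lsmul B M g).restrictScalars A) (p.restrictScalars A) := hex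
  have h1 := rTensor_exact κ h0 hp'
  have hex₀ : Function.Exact (LinearMap.lsmul B (M ⊗[A] κ) g) π₀ := by
    have hc : ∀ z : M ⊗[A] κ, ((LinearMap.lsmul B M g).restrictScalars A).rTensor κ z = g • z := fun z =>
      (Groth.L20.smul_eq_rTensor g z).symm
    intro z
    rw [hπ₀]
    refine (h1 z).trans ?_
    simp only [Set.mem_range, hc, LinearMap.lsmul_apply]
  let π : LocalizedModule q.primeCompl (M ⊗[A] κ) →ₗ[B] LocalizedModule q.primeCompl (Q ⊗[A] κ) :=
    (LocalizedModule.map q.primeCompl π₀).restrictScalars B
  have hker := ker_map_eq q.primeCompl g π₀ hex₀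
  exact ⟨Submodule.quotEquivOfEq _ _ hker.symm ≪≫ₗ
    π.quotKerEquivOfSurjective (LocalizedModule.map_surjective _ _ hs₀)⟩

end Fibre

open RingTheory.Sequence in
/-- A sequence weakly regular on the fibre is weakly regular, with flat quotients. -/
theorem isWeaklyRegular_and_flat [Algebra.FinitePresentation A B] (q : Ideal B) [q.IsPrime] :
    ∀ (l : List B) (_ : ∀ b ∈ l, b ∈ q) (M : Type u) [AddCommGroup M] [Module B M] [Module A M]
      [IsScalarTower A B M] [Module.FinitePresentation B M],
      Module.Flat A (LocalizedModule q.primeCompl M) →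
      IsWeaklyRegular (LocalizedModule q.primeCompl (M ⊗[A] (q.comap (algebraMap A B)).ResidueField)) l →
      IsWeaklyRegular (LocalizedModule q.primeCompl M) l ∧
        ∀ i ≤ l.length, Module.Flat A
          (LocalizedModule q.primeCompl (M ⧸ (Ideal.ofList (l.take i) • (⊤ : Submodule B M)))) := by
  intro l
  induction l with
  | nil =>
    intro _ M _ _ _ _ _ hflat _
    refine ⟨IsWeaklyRegular.nil _ _, fun i _ => ?_⟩
    haveI := hflat
    let e : (M ⧸ (Ideal.ofList (([] : List B).take i) • (⊤ : Submodule B M))) ≃ₗ[B] M :=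
      Submodule.quotEquivOfEqBot _ (by simp)
    exact Module.Flat.of_linearEquiv ((IsLocalizedModule.mapEquiv q.primeCompl
      (LocalizedModule.mkLinearMap q.primeCompl _) (LocalizedModule.mkLinearMap q.primeCompl M) (Localization.AtPrime q) e).restrictScalars A)
  | cons g t ih =>
    intro hl M _ _ _ _ _ hflat hreg
    obtain ⟨hg, ht⟩ := (isWeaklyRegular_cons_iff _ g t).mp hreg
    obtain ⟨e⟩ := exists_quotEquiv (A := A) q (q.comap (algebraMap A B)).ResidueField M (QuotSMulTop g M)
      (Submodule.mkQ (g • ⊤ : Submodule B M)) (Submodule.mkQ_surjective _) g (exact_lsmul_mkQ M g)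
    haveI : Module.FinitePresentation B (QuotSMulTop g M) :=
      Module.finitePresentation_of_surjective _ (Submodule.mkQ_surjective (g • ⊤ : Submodule B M))
        (by rw [Submodule.ker_mkQ, Submodule.pointwise_smul_def]; exact (Module.Finite.fg_top).map _)
    obtain ⟨h1, h2⟩ := isSMulRegular_and_flat M q g (hl g (List.mem_cons_self ..)) hflat hg
    obtain ⟨h3, h4⟩ := ih (fun b hb => hl b (List.mem_cons_of_mem _ hb)) (QuotSMulTop g M) h2
      ((e.isWeaklyRegular_congr t).mp ht)
    let e' : QuotSMulTop g (LocalizedModule q.primeCompl M) ≃ₗ[B]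
        LocalizedModule q.primeCompl (QuotSMulTop g M) := by
      let π : LocalizedModule q.primeCompl M →ₗ[B] LocalizedModule q.primeCompl (QuotSMulTop g M) :=
        (LocalizedModule.map q.primeCompl (Submodule.mkQ (g • ⊤ : Submodule B M))).restrictScalars B
      refine Submodule.quotEquivOfEq _ (LinearMap.ker π) ?_ ≪≫ₗ
        π.quotKerEquivOfSurjective (LocalizedModule.map_surjective _ _ (Submodule.mkQ_surjective _))
      exact (ker_map_eq q.primeCompl g _ (exact_lsmul_mkQ M g)).symm
    refine ⟨(isWeaklyRegular_cons_iff _ g t).mpr ⟨h1, (e'.isWeaklyRegular_congr t).mpr h3⟩, fun i hi => ?_⟩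
    cases i with
    | zero =>
      haveI := hflat
      let e₀ : (M ⧸ (Ideal.ofList ((g :: t).take 0) • (⊤ : Submodule B M))) ≃ₗ[B] M :=
        Submodule.quotEquivOfEqBot _ (by simp)
      exact Module.Flat.of_linearEquiv ((IsLocalizedModule.mapEquiv q.primeCompl
        (LocalizedModule.mkLinearMap q.primeCompl _) (LocalizedModule.mkLinearMap q.primeCompl M) (Localization.AtPrime q) e₀).restrictScalars A)
    | succ i =>
      haveI := h4 i (by simpa using hi)
      let e₁ : (M ⧸ (Ideal.ofList ((g :: t).take (i + 1)) • (⊤ : Submodule B M))) ≃ₗ[B] _ :=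
        Submodule.quotEquivOfEq _ _ (by rw [List.take_succ_cons]) ≪≫ₗ
          Submodule.quotOfListConsSMulTopEquivQuotSMulTopInner M g (t.take i)
      exact Module.Flat.of_linearEquiv ((IsLocalizedModule.mapEquiv q.primeCompl
        (LocalizedModule.mkLinearMap q.primeCompl _) (LocalizedModule.mkLinearMap q.primeCompl _) (Localization.AtPrime q) e₁).restrictScalars A)

end Groth.L07.FibreRegular
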