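import Groth.Prelude.Def_CInt
import Groth.Agent.L01.Regular
import Groth.Agent.L04.CMLoc
import Groth.Agent.L07.QuasiRegular
import Groth.Agent.S3824
import Groth.Agent.S5803
import Mathlib.LinearAlgebra.Dimension.StrongRankCondition

/-! Minimal generators of regular ideals in Noetherian local rings. -/

namespace Groth.L07.RegIdeal

open IsLocalRing RingTheory.Sequence

set_option linter.style.haveILetI false

universe u

variable {A : Type u} [CommRing A] [IsLocalRing A]

/-- Independence modulo `mK`. -/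
def Indep {n : ℕ} (K : Ideal A) (f : Fin n → A) : Prop :=
  ∀ c : Fin n → A, ∑ i, c i * f i ∈ maximalIdeal A * K → ∀ i, c i ∈ maximalIdeal A

/-- A minimal generating family. -/
def IsMin {n : ℕ} (K : Ideal A) (f : Fin n → A) : Prop :=
  Ideal.span (Set.range f) = K ∧ Indep K f

theorem span_range_append {n p : ℕ} (f : Fin n → A) (g : Fin p → A) :
    Ideal.span (Set.range (Fin.append f g)) = Ideal.span (Set.range f) ⊔ Ideal.span (Set.range g) := by
  rw [← Ideal.span_union]
  congr 1
  ext x
  constructor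
  · rintro ⟨i, rfl⟩
    refine Fin.addCases (fun i => ?_) (fun i => ?_) i
    · exact Or.inl ⟨i, (Fin.append_left f g i).symm⟩
    · exact Or.inr ⟨i, (Fin.append_right f g i).symm⟩
  · rintro (⟨i, rfl⟩ | ⟨i, rfl⟩)
    · exact ⟨_, Fin.append_left f g i⟩
    · exact ⟨_, Fin.append_right f g i⟩

theorem ofList_ofFn {n : ℕ} (f : Fin n → A) : Ideal.ofList (List.ofFn f) = Ideal.span (Set.range f) :=
  Groth.L07.QReg.ofList_ofFn f

theorem mem_of_mem_ofFn {n : ℕ} {f : Fin n → A} {K : Ideal A} (h : Ideal.span (Set.range f) ≤ K)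
    {r : A} (hr : r ∈ List.ofFn f) : r ∈ K := by
  obtain ⟨i, rfl⟩ := List.mem_ofFn.mp hr
  exact h (Ideal.subset_span ⟨i, rfl⟩)

theorem exists_regular_family {K : Ideal A} (h : CInt.IsRegularIdeal K) :
    ∃ (n : ℕ) (f : Fin n → A), IsRegular A (List.ofFn f) ∧ Ideal.span (Set.range f) = K := by
  obtain ⟨rs, hrs, rfl⟩ := h
  exact ⟨rs.length, rs.get, by rw [List.ofFn_get]; exact hrs, by rw [← ofList_ofFn, List.ofFn_get]⟩

/-- Regular families are minimal. -/
theorem isMin_of_isRegular {n : ℕ} {f : Fin n → A} (h : IsRegular A (List.ofFn f)) :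
    IsMin (Ideal.span (Set.range f)) f := by
  classical
  set K := Ideal.span (Set.range f)
  have hKm : K ≤ maximalIdeal A := IsLocalRing.le_maximalIdeal fun htop => h.top_ne_smul (by
    rw [ofList_ofFn, smul_eq_mul, Ideal.mul_top]; exact htop.symm)
  refine ⟨rfl, fun c hc => ?_⟩
  obtain ⟨μ, hμ, hμc⟩ := (Submodule.mem_ideal_smul_span_iff_exists_sum (maximalIdeal A) f _).mp
    (show ∑ i, c i * f i ∈ maximalIdeal A • Submodule.span A (Set.range f) by
      rw [smul_eq_mul]; exact hc)
  have hq := Groth.L07.QReg.isQuasiRegular_iff_relCoeff.mp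
    (Groth.L07.QReg.isQuasiRegular_of_isWeaklyRegular h.1)
  intro i
  have h0 := hq 1 (∑ j, MvPolynomial.monomial (Finsupp.single j 1) (c j - μ j))
    (MvPolynomial.IsHomogeneous.sum _ _ 1 fun j _ => MvPolynomial.isHomogeneous_monomial _ (by simp))
    (by
      simp only [map_sum, MvPolynomial.eval_monomial, Finsupp.prod_single_index, pow_zero, pow_one,
        sub_mul, Finset.sum_sub_distrib]
      rw [← hμc, Finsupp.sum_fintype _ _ (fun j => zero_smul A (f j))]
      simp only [smul_eq_mul, sub_self])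
    (Finsupp.single i 1)
  rw [MvPolynomial.coeff_sum, Finset.sum_eq_single i
    (fun j _ hj => by rw [MvPolynomial.coeff_monomial, if_neg fun h' => hj (Finsupp.single_left_injective one_ne_zero h')])
    (fun h' => absurd (Finset.mem_univ i) h'), MvPolynomial.coeff_monomial, if_pos rfl] at h0
  simpa using add_mem (hKm h0) (hμ i)

/-- A minimal family is no longer than any generating family. -/
theorem card_le_of_indep {K : Ideal A} {n p : ℕ} {f : Fin n → A} {g : Fin p → A} (hf : Indep K f)
    (hfK : Ideal.span (Set.range f) = K) (hg : Ideal.span (Set.range g) = K) : n ≤ p := by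
  classical
  have h1 : ∀ i, ∃ C : Fin p → A, ∑ k, C k * g k = f i := fun i =>
    Ideal.mem_span_range_iff_exists_fun.mp (hg ▸ hfK ▸ Ideal.subset_span ⟨i, rfl⟩)
  have h2 : ∀ k, ∃ D : Fin n → A, ∑ i, D i * f i = g k := fun k =>
    Ideal.mem_span_range_iff_exists_fun.mp (hfK ▸ hg ▸ Ideal.subset_span ⟨k, rfl⟩)
  choose C hC using h1
  choose D hD using h2
  have hCD : (Matrix.of C * Matrix.of D).map (residue A) = 1 := by
    ext i l
    have h3 : ∀ j, ((Matrix.of C * Matrix.of D) i j - if i = j then 1 else 0) ∈ maximalIdeal A := by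
      apply hf
      have h4 : ∑ j, (Matrix.of C * Matrix.of D) i j * f j = f i := by
        simp only [Matrix.mul_apply, Matrix.of_apply, Finset.sum_mul]
        rw [Finset.sum_comm]
        simp only [mul_assoc, ← Finset.mul_sum, hD, hC]
      simp only [sub_mul, Finset.sum_sub_distrib, h4, ite_mul, one_mul, zero_mul, Finset.sum_ite_eq,
        Finset.mem_univ, if_true, sub_self]
      exact zero_mem _
    have h5 := (residue_eq_zero_iff _).mpr (h3 l)
    rw [map_sub, sub_eq_zero] at h5
    rw [Matrix.map_apply, h5, Matrix.one_apply]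
    split <;> simp
  rw [Matrix.map_mul] at hCD
  have hinj : Function.Injective (Matrix.vecMulLinear ((Matrix.of C).map (residue A))) := by
    intro v w hvw
    have := congrArg (fun z => Matrix.vecMul z ((Matrix.of D).map (residue A))) hvw
    simpa [Matrix.vecMul_vecMul, hCD] using this
  simpa using LinearMap.finrank_le_finrank_of_injective hinj

variable [IsNoetherianRing A]

/-- Extension of an independent family to a minimal generating family. -/
theorem exists_extend {K : Ideal A} {n : ℕ} {f : Fin n → A} (hfK : ∀ i, f i ∈ K) (hf : Indep K f)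
    {J : Ideal A} (hsup : Ideal.span (Set.range f) ⊔ J = K) :
    ∃ (p : ℕ) (g : Fin p → A), (∀ i, g i ∈ J) ∧ IsMin K (Fin.append f g) := by
  classical
  let S : Set ℕ := {p | ∃ g : Fin p → A, (∀ i, g i ∈ J) ∧ Ideal.span (Set.range f) ⊔ Ideal.span (Set.range g) = K}
  have hS : S.Nonempty := by
    obtain ⟨s, hs⟩ := (IsNoetherian.noetherian J : J.FG)
    let g : Fin s.card → A := fun i => (s.equivFin.symm i : A)
    have hg : Ideal.span (Set.range g) = J := by
      rw [← hs]
      congr 1
      ext x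
      constructor
      · rintro ⟨i, rfl⟩; exact (s.equivFin.symm i).2
      · intro hx; exact ⟨s.equivFin ⟨x, hx⟩, by simp [g]⟩
    exact ⟨s.card, g, fun i => hg ▸ Ideal.subset_span ⟨i, rfl⟩, by rw [hg, hsup]⟩
  obtain ⟨g, hgJ, hgK⟩ := Nat.find_spec hS
  refine ⟨_, g, hgJ, by rw [span_range_append, hgK], fun c hc => ?_⟩
  have hgc : ∀ k, c (Fin.natAdd n k) ∈ maximalIdeal A := by
    intro k
    by_contra hk
    have hu : IsUnit (c (Fin.natAdd n k)) := notMem_maximalIdeal.mp hk
    obtain ⟨p', hp'⟩ : ∃ p', Nat.find hS = p' + 1 := ⟨Nat.find hS - 1, by have := k.pos; omega⟩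
    let k' : Fin (p' + 1) := Fin.cast hp' k
    let g' : Fin p' → A := fun i => g (Fin.cast hp'.symm (k'.succAbove i))
    let L := Ideal.span (Set.range f) ⊔ Ideal.span (Set.range g')
    have hother : ∀ l, l ≠ k → g l ∈ L := fun l hl => by
      obtain ⟨i, hi⟩ := Fin.exists_succAbove_eq (x := Fin.cast hp' l) (y := k')
        (fun h => hl (Fin.cast_injective hp' h))
      exact Ideal.mem_sup_right (Ideal.subset_span ⟨i, by simp [g', hi]⟩)
    have hgk : g k ∈ L ⊔ maximalIdeal A * K := by
      rw [Fin.sum_univ_add] at hc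
      simp only [Fin.append_left, Fin.append_right] at hc
      rw [← Finset.add_sum_erase _ _ (Finset.mem_univ k)] at hc
      have hr1 : ∑ i, c (Fin.castAdd (Nat.find hS) i) * f i ∈ L :=
        sum_mem fun i _ => Ideal.mul_mem_left _ _ (Ideal.mem_sup_left (Ideal.subset_span ⟨i, rfl⟩))
      have hr2 : ∑ i ∈ Finset.univ.erase k, c (Fin.natAdd n i) * g i ∈ L :=
        sum_mem fun i hi => Ideal.mul_mem_left _ _ (hother i (Finset.ne_of_mem_erase hi))
      have h1 : c (Fin.natAdd n k) * g k ∈ L ⊔ maximalIdeal A * K := by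
        have := sub_mem (sub_mem (Ideal.mem_sup_right hc : _ ∈ L ⊔ maximalIdeal A * K)
          (Ideal.mem_sup_left hr1)) (Ideal.mem_sup_left hr2)
        convert this using 1
        abel
      exact (Ideal.unit_mul_mem_iff_mem _ hu).mp h1
    have hKL : K ≤ L := by
      refine Submodule.le_of_le_smul_of_le_jacobson_bot (I := maximalIdeal A) (IsNoetherian.noetherian K)
        (maximalIdeal_le_jacobson _) ?_
      rw [smul_eq_mul]
      conv_lhs => rw [← hgK]
      refine sup_le (le_sup_left.trans le_sup_left) (Ideal.span_le.mpr ?_)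
      rintro _ ⟨l, rfl⟩
      rcases eq_or_ne l k with rfl | hl
      · exact hgk
      · exact Ideal.mem_sup_left (hother l hl)
    refine Nat.find_min hS (show p' < Nat.find hS by omega) ⟨g', fun i => hgJ _, le_antisymm ?_ hKL⟩
    refine sup_le (le_sup_left.trans hgK.le) (Ideal.span_le.mpr ?_)
    rintro _ ⟨i, rfl⟩
    exact hgK.le (Ideal.mem_sup_right (Ideal.subset_span ⟨_, rfl⟩))
  have hfc : ∀ i, c (Fin.castAdd (Nat.find hS) i) ∈ maximalIdeal A := by
    refine hf _ ?_
    rw [Fin.sum_univ_add] at hc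
    simp only [Fin.append_left, Fin.append_right] at hc
    have h2 : ∑ i, c (Fin.natAdd n i) * g i ∈ maximalIdeal A * K :=
      sum_mem fun i _ => Ideal.mul_mem_mul (hgc i) (hgK ▸ Ideal.mem_sup_right (Ideal.subset_span ⟨i, rfl⟩))
    have := sub_mem hc h2
    rwa [add_sub_cancel_right] at this
  exact fun i => Fin.addCases hfc hgc i

/-- Minimal generating families exist. -/
theorem exists_isMin (K : Ideal A) : ∃ (p : ℕ) (g : Fin p → A), IsMin K g := by
  obtain ⟨p, g, -, h⟩ := exists_extend (K := K) (f := (Fin.elim0 : Fin 0 → A)) (fun i => i.elim0)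
    (fun c _ i => i.elim0) (J := K) (by
      rw [Set.range_eq_empty, Ideal.span_empty, bot_sup_eq])
  exact ⟨_, _, h⟩

/-- Minimal generators of a regular ideal form a regular sequence. -/
theorem isRegular_of_isMin {K : Ideal A} (hK : CInt.IsRegularIdeal K) {n : ℕ} {f : Fin n → A}
    (hf : IsMin K f) : IsRegular A (List.ofFn f) := by
  obtain ⟨p, g, hg, rfl⟩ := exists_regular_family hK
  obtain rfl : n = p := le_antisymm (card_le_of_indep hf.2 hf.1 rfl)
    (card_le_of_indep (isMin_of_isRegular hg).2 rfl hf.1)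
  have hne : Ideal.span (Set.range g) ≠ ⊤ := fun htop => hg.top_ne_smul (by
    rw [ofList_ofFn, smul_eq_mul, Ideal.mul_top]; exact htop.symm)
  have hq := Groth.Agent.S3824.result g f (Groth.L07.QReg.isQuasiRegular_of_isWeaklyRegular hg.1) hf.1
  refine ⟨Groth.Agent.S5803.result A n f (fun i => ?_) hq, ?_⟩
  · rw [IsLocalRing.ringJacobson_eq_maximalIdeal]
    exact le_maximalIdeal hne (hf.1 ▸ Ideal.subset_span ⟨i, rfl⟩)
  · rw [ofList_ofFn, smul_eq_mul, Ideal.mul_top, hf.1]
    exact hne.symm

/-- A regular sequence splits. -/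
theorem isRegularIdeal_split {n p : ℕ} {f : Fin n → A} {g : Fin p → A}
    (h : IsRegular A (List.ofFn (Fin.append f g))) :
    CInt.IsRegularIdeal (Ideal.span (Set.range f)) ∧
      CInt.IsRegularIdeal ((Ideal.span (Set.range f) ⊔ Ideal.span (Set.range g)).map
        (Ideal.Quotient.mk (Ideal.span (Set.range f)))) := by
  rw [List.ofFn_fin_append] at h
  obtain ⟨h1, h2⟩ := (isWeaklyRegular_append_iff A _ _).mp h.1
  have hne : Ideal.span (Set.range f) ⊔ Ideal.span (Set.range g) ≠ ⊤ := fun htop => h.top_ne_smul (by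
    rw [Ideal.ofList_append, ofList_ofFn, ofList_ofFn, smul_eq_mul, Ideal.mul_top]; exact htop.symm)
  set J := Ideal.span (Set.range f)
  refine ⟨⟨List.ofFn f, ⟨h1, ?_⟩, ofList_ofFn f⟩,
    ⟨(List.ofFn g).map (Ideal.Quotient.mk J), ⟨?_, ?_⟩, ?_⟩⟩
  · rw [ofList_ofFn, smul_eq_mul, Ideal.mul_top]
    exact fun htop => hne (top_le_iff.mp (htop.le.trans le_sup_left))
  · rw [← Ideal.Quotient.algebraMap_eq, isWeaklyRegular_map_algebraMap_iff]
    exact ((Submodule.quotEquivOfEq _ _ (by rw [ofList_ofFn, smul_eq_mul, Ideal.mul_top])).isWeaklyRegular_congr _).mp h2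
  · rw [← Ideal.map_ofList, ofList_ofFn, smul_eq_mul, Ideal.mul_top]
    intro htop
    apply hne
    have h3 := congrArg (Ideal.comap (Ideal.Quotient.mk J)) htop.symm
    rwa [Ideal.comap_top, Ideal.comap_map_of_surjective _ Ideal.Quotient.mk_surjective, ← RingHom.ker_eq_comap_bot,
      Ideal.mk_ker, sup_comm] at h3
  · rw [← Ideal.map_ofList, ofList_ofFn, Ideal.map_sup, Ideal.map_quotient_self, bot_sup_eq]

/-- If the generators of an ideal are independent in a larger regular ideal, both it and the quotient are regular. -/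
theorem isRegularIdeal_of_indep {J K : Ideal A} (hJK : J ≤ K) (hK : CInt.IsRegularIdeal K)
    {n : ℕ} {f : Fin n → A} (hf : Ideal.span (Set.range f) = J) (hind : Indep K f) :
    CInt.IsRegularIdeal J ∧ CInt.IsRegularIdeal (K.map (Ideal.Quotient.mk J)) := by
  subst hf
  obtain ⟨p, g, -, hmin⟩ := exists_extend (fun i => hJK (Ideal.subset_span ⟨i, rfl⟩)) hind (sup_eq_right.mpr hJK)
  have h := isRegularIdeal_split (isRegular_of_isMin hK hmin)
  rwa [← span_range_append, hmin.1] at h

/-- The converse direction of transitivity. -/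
theorem isRegularIdeal_of_regular_of_regular_quotient {J K : Ideal A} (hJK : J ≤ K)
    (hK : CInt.IsRegularIdeal K) (hKJ : CInt.IsRegularIdeal (K.map (Ideal.Quotient.mk J))) :
    CInt.IsRegularIdeal J := by
  classical
  obtain ⟨K₀, hK₀m, hK₀⟩ : ∃ K' : Ideal A, K' ≤ maximalIdeal A ∧ K' = K := by
    obtain ⟨rs, hrs, rfl⟩ := hK
    exact ⟨_, le_maximalIdeal fun htop => hrs.top_ne_smul (by rw [smul_eq_mul, Ideal.mul_top]; exact htop.symm), rfl⟩
  subst hK₀
  have hJne : J ≠ ⊤ := fun h => (maximalIdeal.isMaximal A).ne_top (top_le_iff.mp (h ▸ hJK.trans hK₀m))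
  haveI := Groth.L01.isLocalRing_quotient hJne
  obtain ⟨q, gb, hgb, hgbK⟩ := exists_regular_family hKJ
  choose g hg using fun i => Ideal.Quotient.mk_surjective (I := J) (gb i)
  have hgK : ∀ i, g i ∈ K₀ := fun i => by
    have : Ideal.Quotient.mk J (g i) ∈ K₀.map (Ideal.Quotient.mk J) := by
      rw [hg, ← hgbK]; exact Ideal.subset_span ⟨i, rfl⟩
    rwa [Ideal.mem_quotient_iff_mem hJK] at this
  have hmap : (maximalIdeal A).map (Ideal.Quotient.mk J) ≤ maximalIdeal (A ⧸ J) :=
    le_maximalIdeal fun h => by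
      have h1 : Ideal.Quotient.mk J 1 ∈ (maximalIdeal A).map (Ideal.Quotient.mk J) := by rw [h]; trivial
      rw [Ideal.mem_quotient_iff_mem (hJK.trans hK₀m)] at h1
      exact (maximalIdeal.isMaximal A).ne_top ((Ideal.eq_top_iff_one _).mpr h1)
  have hind : Indep K₀ g := fun c hc i => by
    have h1 : ∑ i, Ideal.Quotient.mk J (c i) * gb i ∈
        maximalIdeal (A ⧸ J) * K₀.map (Ideal.Quotient.mk J) := by
      have h2 := Ideal.mem_map_of_mem (Ideal.Quotient.mk J) hc
      rw [map_sum, Ideal.map_mul] at h2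
      simp only [map_mul, hg] at h2
      exact Ideal.mul_mono_left hmap h2
    rw [← hgbK] at h1
    have h3 := (isMin_of_isRegular hgb).2 _ h1 i
    by_contra h4
    exact h3 ((notMem_maximalIdeal.mp h4).map _)
  have hspan : Ideal.span (Set.range g) ⊔ J = K₀ := by
    refine le_antisymm (sup_le (Ideal.span_le.mpr (by rintro _ ⟨i, rfl⟩; exact hgK i)) hJK) fun x hx => ?_
    have h1 : Ideal.Quotient.mk J x ∈ (Ideal.span (Set.range g)).map (Ideal.Quotient.mk J) := by
      rw [Ideal.map_span, ← Set.range_comp, show (Ideal.Quotient.mk J) ∘ g = gb from funext hg, hgbK]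
      exact Ideal.mem_map_of_mem _ hx
    have h2 : x ∈ ((Ideal.span (Set.range g)).map (Ideal.Quotient.mk J)).comap (Ideal.Quotient.mk J) := h1
    rwa [Ideal.comap_map_of_surjective _ Ideal.Quotient.mk_surjective, ← RingHom.ker_eq_comap_bot, Ideal.mk_ker] at h2
  obtain ⟨p, h, hhJ, hmin⟩ := exists_extend hgK hind hspan
  have hreg := isRegular_of_isMin hK hmin
  have hperm : IsRegular A (List.ofFn (Fin.append h g)) :=
    IsLocalRing.isRegular_of_perm hreg (by
      rw [List.ofFn_fin_append, List.ofFn_fin_append]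
      exact List.perm_append_comm)
  obtain ⟨hh, -⟩ := isRegularIdeal_split hperm
  suffices J ≤ Ideal.span (Set.range h) by
    rwa [le_antisymm this (Ideal.span_le.mpr (by rintro _ ⟨i, rfl⟩; exact hhJ i))]
  have hwr : IsWeaklyRegular (A ⧸ J) (List.ofFn g) := by
    rw [← isWeaklyRegular_map_algebraMap_iff (A ⧸ J) (A ⧸ J), List.map_ofFn]
    rw [show (algebraMap A (A ⧸ J)) ∘ g = gb from funext hg]
    exact hgb.1
  -- the part of `J` in the span of `g` is small
  have key : ∀ (l : List A), (∀ r ∈ l, r ∈ maximalIdeal A) → IsWeaklyRegular (A ⧸ J) l →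
      ∀ z ∈ J, z ∈ Ideal.ofList l ⊔ Ideal.span (Set.range h) →
        z ∈ Ideal.ofList l * J ⊔ Ideal.span (Set.range h) := by
    intro l
    induction l using List.reverseRecOn with
    | nil =>
      intro _ _ z _ hz
      rw [Ideal.ofList_nil, bot_sup_eq] at hz
      exact Ideal.mem_sup_right hz
    | append_singleton l y ih =>
      intro hlm hwr z hzJ hz
      obtain ⟨hl, hy⟩ := (isWeaklyRegular_append_iff _ _ _).mp hwr
      have hy' := (isWeaklyRegular_singleton_iff _ _).mp hy
      rw [Ideal.ofList_append, Ideal.ofList_singleton] at hz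
      obtain ⟨v, hv, t, ht, rfl⟩ := Submodule.mem_sup.mp hz
      obtain ⟨u, hu, s, hs, rfl⟩ := Submodule.mem_sup.mp hv
      obtain ⟨w, rfl⟩ := Ideal.mem_span_singleton'.mp hs
      have htJ : t ∈ J := Ideal.span_le.mpr (by rintro _ ⟨i, rfl⟩; exact hhJ i) ht
      have htop : (Ideal.ofList l • (⊤ : Submodule A (A ⧸ J))) =
          ((Ideal.ofList l).map (Ideal.Quotient.mk J)).restrictScalars A := by
        rw [Ideal.smul_top_eq_map]; rfl
      have hw : w ∈ Ideal.ofList l ⊔ J := by
        have h1 : y • (Submodule.Quotient.mk (Ideal.Quotient.mk J w) :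
            (A ⧸ J) ⧸ (Ideal.ofList l • (⊤ : Submodule A (A ⧸ J)))) = 0 := by
          rw [← Submodule.Quotient.mk_smul, Submodule.Quotient.mk_eq_zero, htop]
          show Ideal.Quotient.mk J (y * w) ∈ (Ideal.ofList l).map (Ideal.Quotient.mk J)
          have h2 : Ideal.Quotient.mk J (y * w) = Ideal.Quotient.mk J (-u) := by
            rw [Ideal.Quotient.eq]
            have h3 := sub_mem hzJ htJ
            convert h3 using 1
            ring
          rw [h2]
          exact Ideal.mem_map_of_mem _ (neg_mem hu)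
        have h2 := hy'.right_eq_zero_of_smul h1
        rw [Submodule.Quotient.mk_eq_zero, htop] at h2
        have h3 : w ∈ ((Ideal.ofList l).map (Ideal.Quotient.mk J)).comap (Ideal.Quotient.mk J) := h2
        rwa [Ideal.comap_map_of_surjective _ Ideal.Quotient.mk_surjective, ← RingHom.ker_eq_comap_bot,
          Ideal.mk_ker] at h3
      obtain ⟨u', hu', w', hw', rfl⟩ := Submodule.mem_sup.mp hw
      have hz2 := ih (fun r hr => hlm r (List.mem_append_left _ hr)) hl (u + u' * y + t) (by
        have := sub_mem hzJ (J.mul_mem_right y hw')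
        convert this using 1
        ring) (add_mem (Ideal.mem_sup_left (add_mem hu ((Ideal.ofList l).mul_mem_right y hu')))
          (Ideal.mem_sup_right ht))
      rw [Ideal.ofList_append, Ideal.ofList_singleton]
      rw [show u + (u' + w') * y + t = (u + u' * y + t) + y * w' by ring]
      have hle : Ideal.ofList l * J ⊔ Ideal.span (Set.range h) ≤
          (Ideal.ofList l ⊔ Ideal.span {y}) * J ⊔ Ideal.span (Set.range h) :=
        sup_le_sup (Ideal.mul_mono le_sup_left le_rfl) le_rfl
      exact add_mem (hle hz2)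
        (Ideal.mem_sup_left (Ideal.mul_mem_mul (Ideal.mem_sup_right (Ideal.mem_span_singleton_self y)) hw'))
  refine Submodule.le_of_le_smul_of_le_jacobson_bot (I := maximalIdeal A) (IsNoetherian.noetherian J)
    (maximalIdeal_le_jacobson _) fun z hz => ?_
  rw [smul_eq_mul]
  have hzK : z ∈ Ideal.ofList (List.ofFn g) ⊔ Ideal.span (Set.range h) := by
    have h1 := hmin.1
    rw [span_range_append] at h1
    rw [ofList_ofFn, h1]
    exact hJK hz
  have hgm : Ideal.span (Set.range g) ≤ maximalIdeal A :=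
    Ideal.span_le.mpr (by rintro _ ⟨i, rfl⟩; exact hK₀m (hgK i))
  obtain ⟨a, ha, b, hb, rfl⟩ := Submodule.mem_sup.mp
    (key _ (fun r hr => mem_of_mem_ofFn hgm hr) hwr z hz hzK)
  exact Submodule.add_mem_sup hb (Ideal.mul_mono_left (ofList_ofFn g ▸ hgm) ha) |> (add_comm b a ▸ ·)

end Groth.L07.RegIdeal
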