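import Mathlib.RingTheory.Regular.Flat
import Mathlib.RingTheory.Nakayama
import Mathlib.RingTheory.Flat.EquationalCriterion
import Mathlib.RingTheory.Noetherian.Orzech
import Mathlib.RingTheory.TensorProduct.Quotient
import Mathlib.LinearAlgebra.StdBasis
import Mathlib.LinearAlgebra.Basis.Defs

/-! Flatness of a finite module from flatness modulo a regular sequence in the Jacobson radical. -/

namespace Groth.L07.RegFlat

open RingTheory.Sequence
open scoped TensorProduct Pointwise

universe u v

variable {B : Type u} [CommRing B] {N : Type*} [AddCommGroup N] [Module B N]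

/-- Relations lift modulo a sequence that is weakly regular on the target. -/
theorem ker_inf_smul_top_le {F : Type*} [AddCommGroup F] [Module B F] (g : F →ₗ[B] N)
    (hg : Function.Surjective g) : ∀ (fs : List B), IsWeaklyRegular N fs →
      ∀ x ∈ LinearMap.ker g, x ∈ Ideal.ofList fs • (⊤ : Submodule B F) →
        x ∈ Ideal.ofList fs • LinearMap.ker g := by
  intro fs
  induction fs using List.reverseRecOn with
  | nil => intro _ x _ hx; simpa using hx
  | append_singleton fs f ih =>
    intro hfs x hxk hx
    obtain ⟨h1, h2⟩ := (isWeaklyRegular_append_iff N _ _).mp hfs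
    rw [Ideal.ofList_append, Ideal.ofList_singleton, Submodule.sup_smul, Submodule.mem_sup] at hx
    obtain ⟨a, ha, b, hb, rfl⟩ := hx
    rw [Submodule.ideal_span_singleton_smul, Submodule.mem_smul_pointwise_iff_exists] at hb
    obtain ⟨y, -, rfl⟩ := hb
    have hgy : g y ∈ Ideal.ofList fs • (⊤ : Submodule B N) := by
      rw [← Submodule.Quotient.mk_eq_zero]
      apply (isWeaklyRegular_singleton_iff _ _).mp h2
      show f • Submodule.Quotient.mk (g y) = f • 0
      rw [smul_zero, ← Submodule.Quotient.mk_smul, Submodule.Quotient.mk_eq_zero]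
      have : f • g y = - g a := by
        rw [eq_neg_iff_add_eq_zero, ← map_smul, ← map_add, add_comm]; exact hxk
      rw [this]
      refine neg_mem ?_
      have := Submodule.mem_map_of_mem (f := g) ha
      rwa [Submodule.map_smul'', Submodule.map_top, LinearMap.range_eq_top.mpr hg] at this
    obtain ⟨z, hz, hzy⟩ : ∃ z ∈ Ideal.ofList fs • (⊤ : Submodule B F), g z = g y := by
      have hh : Submodule.map g (Ideal.ofList fs • (⊤ : Submodule B F)) = Ideal.ofList fs • ⊤ := by
        rw [Submodule.map_smul'', Submodule.map_top, LinearMap.range_eq_top.mpr hg]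
      rw [← hh] at hgy
      exact Submodule.mem_map.mp hgy
    have hk : y - z ∈ LinearMap.ker g := by rw [LinearMap.mem_ker, map_sub, hzy, sub_self]
    rw [Ideal.ofList_append, Ideal.ofList_singleton, Submodule.sup_smul, Submodule.mem_sup]
    refine ⟨a + f • z, ih h1 _ ?_ (add_mem ha (Submodule.smul_mem _ f hz)), f • (y - z), ?_, ?_⟩
    · rw [show a + f • z = (a + f • y) - f • (y - z) by rw [smul_sub]; abel]
      exact sub_mem hxk (Submodule.smul_mem _ f hk)
    · exact Submodule.smul_mem_smul (Ideal.mem_span_singleton_self f) hk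
    · rw [smul_sub]; abel

/-- A finite module over a Noetherian ring is projective when it is so modulo a sequence in the
radical which is weakly regular on it. -/
theorem projective_of_projective_quotient [IsNoetherianRing B] [Module.Finite B N]
    (fs : List B) (hrad : Ideal.ofList fs ≤ (⊥ : Ideal B).jacobson) (hreg : IsWeaklyRegular N fs)
    {C : Type*} [CommRing C] [Algebra B C] (hC : Function.Surjective (algebraMap B C))
    (hker : RingHom.ker (algebraMap B C) = Ideal.ofList fs)
    {N' : Type*} [AddCommGroup N'] [Module B N'] [Module C N'] [IsScalarTower B C N']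
    (π : N →ₗ[B] N') (hπ : Function.Surjective π)
    (hπker : LinearMap.ker π = Ideal.ofList fs • ⊤) [Module.Projective C N'] :
    Module.Projective B N := by
  classical
  obtain ⟨r, g, hg⟩ := Module.Finite.exists_fin' B N
  -- reduction of `g`
  let q : (Fin r → B) →ₗ[B] (Fin r → C) :=
    { toFun := fun x i => algebraMap B C (x i)
      map_add' := fun x y => by ext i; simp
      map_smul' := fun a x => by ext i; simp [Algebra.smul_def] }
  let gb : (Fin r → C) →ₗ[C] N' := Fintype.linearCombination C fun i => π (g (Pi.single i 1))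
  have hgb : ∀ x, gb (q x) = π (g x) := by
    intro x
    conv_rhs => rw [pi_eq_sum_univ' x, map_sum, map_sum]
    simp only [gb, Fintype.linearCombination_apply, q, LinearMap.coe_mk, AddHom.coe_mk, map_smul,
      algebraMap_smul]
  have hq : Function.Surjective q := fun y =>
    ⟨fun i => (hC (y i)).choose, funext fun i => (hC (y i)).choose_spec⟩
  have hgbs : Function.Surjective gb := fun n => by
    obtain ⟨m, rfl⟩ := hπ n
    obtain ⟨x, rfl⟩ := hg m
    exact ⟨q x, hgb x⟩
  obtain ⟨s, hs⟩ := Module.projective_lifting_property gb LinearMap.id hgbs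
  have hs' : ∀ n, gb (s n) = n := fun n => LinearMap.congr_fun hs n
  have hlift : ∀ w : Fin r → C, gb w = 0 → ∃ k ∈ LinearMap.ker g, q k = w := by
    intro w hw
    obtain ⟨x, rfl⟩ := hq w
    rw [hgb, ← LinearMap.mem_ker, hπker] at hw
    have hh : Submodule.map g (Ideal.ofList fs • (⊤ : Submodule B (Fin r → B))) = Ideal.ofList fs • ⊤ := by
      rw [Submodule.map_smul'', Submodule.map_top, LinearMap.range_eq_top.mpr hg]
    rw [← hh, Submodule.mem_map] at hw
    obtain ⟨z, hz, hzx⟩ := hw
    refine ⟨x - z, by rw [LinearMap.mem_ker, map_sub, hzx, sub_self], ?_⟩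
    have : q z = 0 := by
      refine Submodule.smul_induction_on (p := fun z => q z = 0) hz (fun a ha v _ => ?_)
        (fun a b ha hb => ?_)
      · have h0 : algebraMap B C a = 0 := by rw [← RingHom.mem_ker, hker]; exact ha
        funext i
        show algebraMap B C (a * v i) = 0
        rw [map_mul, h0, zero_mul]
      · rw [map_add, ha, hb, add_zero]
    rw [map_sub, this, sub_zero]
  choose k hk hqk using fun i : Fin r => hlift (q (Pi.single i 1) - s (gb (q (Pi.single i 1))))
    (by rw [map_sub, hs', sub_self])
  let ρ : (Fin r → B) →ₗ[B] LinearMap.ker g :=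
    Fintype.linearCombination B fun i => (⟨k i, hk i⟩ : LinearMap.ker g)
  have hqρ : ∀ x, q (ρ x : Fin r → B) = q x - s (gb (q x)) := by
    intro x
    have h1 : (ρ x : Fin r → B) = ∑ i, x i • k i := by
      simp [ρ, Fintype.linearCombination_apply, Submodule.coe_sum]
    rw [h1, map_sum]
    conv_rhs => rw [pi_eq_sum_univ' x, map_sum, map_sum, map_sum, ← Finset.sum_sub_distrib]
    refine Finset.sum_congr rfl fun i _ => ?_
    rw [map_smul, map_smul, hqk, smul_sub, LinearMap.map_smul_of_tower, LinearMap.map_smul_of_tower]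
  let σ : LinearMap.ker g →ₗ[B] LinearMap.ker g := ρ ∘ₗ (LinearMap.ker g).subtype
  have hmod : ∀ x : LinearMap.ker g, (σ x : Fin r → B) - x ∈ Ideal.ofList fs • LinearMap.ker g := by
    intro x
    refine ker_inf_smul_top_le g hg fs hreg _ (sub_mem (σ x).2 x.2) ?_
    have h0 : q ((σ x : Fin r → B) - x) = 0 := by
      rw [map_sub]
      show q ((ρ (x : Fin r → B) : LinearMap.ker g) : Fin r → B) - q x = 0
      rw [hqρ, hgb, x.2, map_zero, map_zero, sub_zero, sub_self]
    rw [pi_eq_sum_univ' ((σ x : Fin r → B) - (x : Fin r → B))]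
    refine Submodule.sum_mem _ fun i _ => Submodule.smul_mem_smul ?_ Submodule.mem_top
    rw [← hker, RingHom.mem_ker]
    exact congrFun h0 i
  have hsurj : Function.Surjective σ := by
    rw [← LinearMap.range_eq_top]
    have : Module.Finite B (LinearMap.ker g) := inferInstance
    refine eq_top_iff.mpr (Submodule.le_of_le_smul_of_le_jacobson_bot Module.Finite.fg_top hrad ?_)
    intro x _
    rw [Submodule.mem_sup]
    refine ⟨σ x, ⟨x, rfl⟩, x - σ x, ?_, by abel⟩
    have h := hmod x
    have hm : (Ideal.ofList fs • (⊤ : Submodule B (LinearMap.ker g))).map (LinearMap.ker g).subtype =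
        Ideal.ofList fs • LinearMap.ker g := by
      rw [Submodule.map_smul'', Submodule.map_top, Submodule.range_subtype]
    rw [← hm] at h
    obtain ⟨w, hw, hwe⟩ := Submodule.mem_map.mp h
    have : x - σ x = -w := Subtype.ext (by
      rw [Submodule.coe_sub, Submodule.coe_neg]
      rw [Submodule.subtype_apply] at hwe
      rw [hwe, neg_sub])
    rw [this]; exact neg_mem hw
  let e := LinearEquiv.ofBijective σ
    ⟨OrzechProperty.injective_of_surjective_endomorphism σ hsurj, hsurj⟩
  let P : (Fin r → B) →ₗ[B] (Fin r → B) :=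
    LinearMap.id - (LinearMap.ker g).subtype ∘ₗ e.symm.toLinearMap ∘ₗ ρ
  have hP : ∀ x ∈ LinearMap.ker g, P x = 0 := fun x hx => by
    have : ρ x = e ⟨x, hx⟩ := rfl
    simp [P, this]
  let sec : N →ₗ[B] (Fin r → B) :=
    (Submodule.liftQ (LinearMap.ker g) P hP) ∘ₗ
      (g.quotKerEquivOfSurjective hg).symm.toLinearMap
  refine Module.Projective.of_split sec g (LinearMap.ext fun n => ?_)
  obtain ⟨x, rfl⟩ := hg n
  have : (g.quotKerEquivOfSurjective hg).symm (g x) = Submodule.Quotient.mk x := by
    rw [LinearEquiv.symm_apply_eq]; rfl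
  show g (sec (g x)) = g x
  have h : sec (g x) = P x := by
    show Submodule.liftQ (LinearMap.ker g) P hP ((g.quotKerEquivOfSurjective hg).symm (g x)) = P x
    rw [this]; exact Submodule.liftQ_apply _ _ _
  rw [h]
  show g (x - (e.symm (ρ x) : Fin r → B)) = g x
  rw [map_sub, LinearMap.mem_ker.mp (e.symm (ρ x)).2, sub_zero]

/-- Regularity and flatness modulo the sequence, for a flat module. -/
theorem isWeaklyRegular_of_flat [Module.Flat B N] {fs : List B} (h : IsWeaklyRegular B fs) :
    IsWeaklyRegular N fs := by
  have := IsWeaklyRegular.isWeaklyRegular_rTensor (M₂ := N) h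
  exact ((TensorProduct.lid B N).isWeaklyRegular_congr fs).mp this

/-- Flat base change to the quotient. -/
theorem flat_quotient [Module.Flat B N] (I : Ideal B)
    {C : Type*} [CommRing C] [Algebra B C] (hC : Function.Surjective (algebraMap B C))
    (hker : RingHom.ker (algebraMap B C) = I)
    {N' : Type*} [AddCommGroup N'] [Module B N'] [Module C N'] [IsScalarTower B C N']
    (π : N →ₗ[B] N') (hπ : Function.Surjective π) (hπker : LinearMap.ker π = I • ⊤) :
    Module.Flat C N' := by
  let L : C ⊗[B] N →ₗ[C] N' := TensorProduct.AlgebraTensorModule.lift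
    (LinearMap.toSpanSingleton C (N →ₗ[B] N') π)
  have hL : ∀ c n, L (c ⊗ₜ n) = c • π n := fun c n => by simp [L]
  have hsL : Function.Surjective L := fun n => by
    obtain ⟨m, rfl⟩ := hπ n
    exact ⟨1 ⊗ₜ m, by rw [hL, one_smul]⟩
  have hrep : ∀ w : C ⊗[B] N, ∃ n, w = 1 ⊗ₜ n := by
    intro w
    induction w using TensorProduct.induction_on with
    | zero => exact ⟨0, (TensorProduct.tmul_zero _ _).symm⟩
    | tmul c n =>
      obtain ⟨b, rfl⟩ := hC c
      exact ⟨b • n, by rw [← TensorProduct.smul_tmul, Algebra.smul_def, mul_one]⟩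
    | add a b ha hb =>
      obtain ⟨n, rfl⟩ := ha; obtain ⟨m, rfl⟩ := hb
      exact ⟨n + m, (TensorProduct.tmul_add _ _ _).symm⟩
  refine Module.Flat.of_linearEquiv (LinearEquiv.ofBijective L ⟨?_, hsL⟩).symm
  rw [injective_iff_map_eq_zero]
  intro w hw
  obtain ⟨n, rfl⟩ := hrep w
  rw [hL, one_smul, ← LinearMap.mem_ker, hπker] at hw
  refine Submodule.smul_induction_on hw (fun a ha v _ => ?_) (fun a b ha hb => ?_)
  · rw [← TensorProduct.smul_tmul, Algebra.smul_def,
      show algebraMap B C a = 0 by rw [← RingHom.mem_ker, hker]; exact ha, zero_mul,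
      TensorProduct.zero_tmul]
  · rw [TensorProduct.tmul_add, ha, hb, add_zero]

theorem projective_of_flat {R : Type*} [CommRing R] [IsNoetherianRing R] (P : Type*)
    [AddCommGroup P] [Module R P] [Module.Finite R P] [Module.Flat R P] : Module.Projective R P := by
  haveI : Module.FinitePresentation R P := Module.finitePresentation_of_finite R P
  exact Module.Flat.projective_of_finitePresentation

/-- The criterion: flatness is regularity plus flatness modulo the sequence. -/
theorem flat_iff [IsNoetherianRing B] [Module.Finite B N]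
    (fs : List B) (hrad : Ideal.ofList fs ≤ (⊥ : Ideal B).jacobson) (hB : IsWeaklyRegular B fs)
    {C : Type*} [CommRing C] [Algebra B C] (hC : Function.Surjective (algebraMap B C))
    (hker : RingHom.ker (algebraMap B C) = Ideal.ofList fs)
    {N' : Type*} [AddCommGroup N'] [Module B N'] [Module C N'] [IsScalarTower B C N']
    (π : N →ₗ[B] N') (hπ : Function.Surjective π) (hπker : LinearMap.ker π = Ideal.ofList fs • ⊤) :
    Module.Flat B N ↔ Module.Flat C N' ∧ IsWeaklyRegular N fs := by
  refine ⟨fun _ => ⟨flat_quotient _ hC hker π hπ hπker, isWeaklyRegular_of_flat hB⟩, ?_⟩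
  rintro ⟨hflat, hreg⟩
  haveI : IsNoetherianRing C := isNoetherianRing_of_surjective B C (algebraMap B C) hC
  haveI : Module.Finite B N' := Module.Finite.of_surjective π hπ
  haveI : Module.Finite C N' := Module.Finite.of_restrictScalars_finite B C N'
  haveI := projective_of_flat (R := C) N'
  haveI := projective_of_projective_quotient fs hrad hreg hC hker π hπ hπker
  exact inferInstance

end Groth.L07.RegFlat
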