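import Groth.Prelude.Def_CInt
import Mathlib.RingTheory.Regular.RegularSequence
import Mathlib.RingTheory.AdicCompletion.Basic
import Mathlib.RingTheory.AdicCompletion.Noetherian
import Mathlib.RingTheory.Nakayama

/-! Weakly regular sequences, exact sequences and the first Koszul homology. -/

namespace Groth.L07.RegSeq

open RingTheory.Sequence Pointwise

set_option linter.style.haveILetI false

universe u v

variable {A : Type u} [CommRing A]

/-- The trivial relations of a family. -/
def triv {n : ℕ} (f : Fin n → A) (M : Type v) [AddCommGroup M] [Module A M] :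
    Submodule A (Fin n → M) :=
  Submodule.span A {v | ∃ (i j : Fin n) (x : M),
    v = f j • (Pi.single i x : Fin n → M) - f i • (Pi.single j x : Fin n → M)}

variable {M N : Type v} [AddCommGroup M] [Module A M] [AddCommGroup N] [Module A N]

theorem mem_span_smul_top_iff {n : ℕ} (f : Fin n → A) (y : M) :
    y ∈ Ideal.ofList (List.ofFn f) • (⊤ : Submodule A M) ↔ ∃ x : Fin n → M, ∑ i, f i • x i = y := by
  have hl : Ideal.ofList (List.ofFn f) = Ideal.span (Set.range f) := by
    simp only [Ideal.ofList, List.mem_ofFn]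
    rfl
  rw [hl]
  constructor
  · intro hy
    refine Submodule.smul_induction_on hy (fun a ha m _ => ?_) ?_
    · obtain ⟨c, rfl⟩ := Ideal.mem_span_range_iff_exists_fun.mp ha
      exact ⟨fun i => c i • m, by simp only [Finset.sum_smul, smul_smul, mul_comm]⟩
    · rintro _ _ ⟨x, rfl⟩ ⟨x', rfl⟩
      exact ⟨x + x', by simp [Finset.sum_add_distrib]⟩
  · rintro ⟨x, rfl⟩
    exact Submodule.sum_mem _ fun i _ =>
      Submodule.smul_mem_smul (Ideal.subset_span (Set.mem_range_self i)) trivial

theorem isWeaklyRegular_ofFn_succ {n : ℕ} (f : Fin (n + 1) → A) :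
    IsWeaklyRegular M (List.ofFn f) ↔ IsWeaklyRegular M (List.ofFn fun i => f i.castSucc) ∧
      ∀ y : M, f (Fin.last n) • y ∈ Ideal.ofList (List.ofFn fun i => f i.castSucc) • (⊤ : Submodule A M) →
        y ∈ Ideal.ofList (List.ofFn fun i => f i.castSucc) • (⊤ : Submodule A M) := by
  rw [List.ofFn_succ', List.concat_eq_append, isWeaklyRegular_append_iff,
    isWeaklyRegular_singleton_iff]
  refine and_congr_right fun _ => ⟨fun h y hy => ?_, fun h => ?_⟩
  · rw [← Submodule.Quotient.mk_eq_zero] at hy ⊢
    rw [Submodule.Quotient.mk_smul] at hy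
    exact h.right_eq_zero_of_smul hy
  · rw [isSMulRegular_iff_right_eq_zero_of_smul]
    intro y hy
    obtain ⟨y, rfl⟩ := Submodule.mkQ_surjective _ y
    rw [← map_smul] at hy
    exact (Submodule.Quotient.mk_eq_zero _).mpr (h y ((Submodule.Quotient.mk_eq_zero _).mp hy))

section Embed

variable {n : ℕ} (f : Fin (n + 1) → A)

/-- Extension by zero. -/
noncomputable def ext0 : (Fin n → M) →ₗ[A] (Fin (n + 1) → M) :=
  ∑ i, (LinearMap.single A (fun _ => M) i.castSucc) ∘ₗ LinearMap.proj i

theorem ext0_castSucc (m : Fin n → M) (i : Fin n) : ext0 (A := A) m i.castSucc = m i := by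
  simp [ext0, LinearMap.sum_apply, Finset.sum_apply, Pi.single_apply]

theorem ext0_last (m : Fin n → M) : ext0 (A := A) m (Fin.last n) = 0 := by
  simp [ext0, LinearMap.sum_apply, Finset.sum_apply, Pi.single_apply, Fin.castSucc_ne_last,
    ne_comm]

/-- The trivial relations involving the last element. -/
noncomputable def lastRel : (Fin n → M) →ₗ[A] (Fin (n + 1) → M) :=
  ∑ j, (f j.castSucc • LinearMap.single A (fun _ => M) (Fin.last n) -
    f (Fin.last n) • LinearMap.single A (fun _ => M) j.castSucc) ∘ₗ LinearMap.proj j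

theorem lastRel_last (x : Fin n → M) : lastRel f x (Fin.last n) = ∑ j, f j.castSucc • x j := by
  simp [lastRel, LinearMap.sum_apply, Finset.sum_apply, Pi.single_apply, Fin.castSucc_ne_last,
    ne_comm]

theorem lastRel_castSucc (x : Fin n → M) (i : Fin n) :
    lastRel f x i.castSucc = - (f (Fin.last n) • x i) := by
  simp [lastRel, LinearMap.sum_apply, Finset.sum_apply, Pi.single_apply, Fin.castSucc_ne_last]

theorem lastRel_mem (x : Fin n → M) : lastRel f x ∈ triv f M := by
  simp only [lastRel, LinearMap.sum_apply]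
  refine Submodule.sum_mem _ fun j _ => Submodule.subset_span ⟨Fin.last n, j.castSucc, x j, ?_⟩
  simp

theorem ext0_mem {t : Fin n → M} (ht : t ∈ triv (fun i => f i.castSucc) M) :
    ext0 (A := A) t ∈ triv f M := by
  have hs : ∀ (i : Fin n) (x : M),
      ext0 (A := A) (Pi.single i x : Fin n → M) = Pi.single i.castSucc x := by
    intro i x
    funext k
    induction k using Fin.lastCases with
    | last => simp [ext0_last, Fin.castSucc_ne_last, Pi.single_apply, ne_comm]
    | cast k => simp [ext0_castSucc, Pi.single_apply]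
  refine Submodule.span_le (p := (triv f M).comap (ext0 (A := A))).mpr ?_ ht
  rintro _ ⟨i, j, x, rfl⟩
  refine Submodule.subset_span ⟨i.castSucc, j.castSucc, x, ?_⟩
  rw [map_sub, map_smul, map_smul, hs, hs]

theorem triv_le : triv f M ≤
    (triv (fun i => f i.castSucc) M).map (ext0 (A := A)) ⊔ LinearMap.range (lastRel f) := by
  have hs : ∀ (i : Fin n) (x : M),
      ext0 (A := A) (Pi.single i x : Fin n → M) = Pi.single i.castSucc x := by
    intro i x
    funext k
    induction k using Fin.lastCases with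
    | last => simp [ext0_last, Fin.castSucc_ne_last, Pi.single_apply, ne_comm]
    | cast k => simp [ext0_castSucc, Pi.single_apply]
  have hl : ∀ (j : Fin n) (x : M), lastRel f (Pi.single j x : Fin n → M) =
      f j.castSucc • (Pi.single (Fin.last n) x : Fin (n + 1) → M) -
        f (Fin.last n) • (Pi.single j.castSucc x : Fin (n + 1) → M) := by
    intro j x
    rw [lastRel, LinearMap.sum_apply, Finset.sum_eq_single j]
    · simp
    · intro b _ hb; simp [hb]
    · simp
  refine Submodule.span_le.mpr ?_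
  rintro _ ⟨i, j, x, rfl⟩
  induction i using Fin.lastCases with
  | last =>
    induction j using Fin.lastCases with
    | last => simp only [sub_self]; exact zero_mem _
    | cast j => exact Submodule.mem_sup_right ⟨Pi.single j x, hl j x⟩
  | cast i =>
    induction j using Fin.lastCases with
    | last =>
      refine Submodule.mem_sup_right ⟨- Pi.single i x, ?_⟩
      rw [map_neg, hl, neg_sub]
    | cast j =>
      refine Submodule.mem_sup_left ⟨_, Submodule.subset_span ⟨i, j, x, rfl⟩, ?_⟩
      rw [map_sub, map_smul, map_smul, hs, hs]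

end Embed

theorem sum_smul_eq_zero_of_mem_triv {n : ℕ} {f : Fin n → A} {m : Fin n → M} (hm : m ∈ triv f M) :
    ∑ i, f i • m i = 0 := by
  refine Submodule.span_induction (p := fun m _ => ∑ i, f i • m i = 0) ?_ (by simp) ?_ ?_ hm
  · rintro _ ⟨i, j, x, rfl⟩
    simp [smul_sub, Pi.single_apply, smul_ite, Finset.sum_sub_distrib, smul_smul, mul_comm]
  · intro p q _ _ hp hq; simp [smul_add, Finset.sum_add_distrib, hp, hq]
  · intro c p _ hp; simp [smul_comm _ c, ← Finset.smul_sum, hp]

/-- A weakly regular sequence has no first Koszul homology. -/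
theorem koszulH1Zero_of_isWeaklyRegular : ∀ {n : ℕ} {f : Fin n → A},
    IsWeaklyRegular M (List.ofFn f) → CInt.KoszulH1Zero f M
  | 0, f, _ => fun m _ => by rw [Subsingleton.elim m 0]; exact zero_mem _
  | n + 1, f, h => by
    obtain ⟨h', hlast⟩ := (isWeaklyRegular_ofFn_succ f).mp h
    intro m hm
    rw [Fin.sum_univ_castSucc] at hm
    obtain ⟨x, hx⟩ := (mem_span_smul_top_iff _ _).mp (hlast (m (Fin.last n))
      ((mem_span_smul_top_iff _ _).mpr ⟨fun i => - m i.castSucc, by
        simp only [smul_neg, Finset.sum_neg_distrib]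
        exact (eq_neg_of_add_eq_zero_right hm).symm⟩))
    have hrel := koszulH1Zero_of_isWeaklyRegular h' (fun i => m i.castSucc + f (Fin.last n) • x i) (by
      simp only [smul_add, Finset.sum_add_distrib, smul_comm _ (f (Fin.last n)), ← Finset.smul_sum,
        hx]
      exact hm)
    have he : m = ext0 (A := A) (fun i => m i.castSucc + f (Fin.last n) • x i) + lastRel f x := by
      funext k
      induction k using Fin.lastCases with
      | last => simp [ext0_last, lastRel_last, hx]
      | cast k => simp [ext0_castSucc, lastRel_castSucc]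
    rw [he]
    exact add_mem (ext0_mem f hrel) (lastRel_mem f x)

/-- Divisibility forces containment when subquotients are separated. -/
theorem le_of_divisible {I : Ideal A} {g : A} (hg : g ∈ I)
    (hsep : ∀ (N : Submodule A M) (N' : Submodule A N), IsHausdorff I (N ⧸ N')) :
    ∀ {n : ℕ} (S T : Submodule A (Fin n → M)), S ≤ T →
      (∀ t ∈ T, ∃ s ∈ S, ∃ t' ∈ T, t = s + g • t') → T ≤ S
  | 0, S, T, _, _ => fun t _ => by rw [Subsingleton.elim t 0]; exact zero_mem _
  | n + 1, S, T, hST, h => by
    let p : (Fin (n + 1) → M) →ₗ[A] M := LinearMap.proj 0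
    have h1 : ∀ t ∈ T, p t ∈ S.map p := by
      intro t ht
      let N := T.map p
      have hpow : ∀ k : ℕ, ∀ y : N, ((S.map p).comap N.subtype).mkQ y ∈
          (I ^ k • ⊤ : Submodule A (N ⧸ (S.map p).comap N.subtype)) := by
        intro k
        induction k with
        | zero => intro y; simp
        | succ k ih =>
          rintro ⟨_, u, hu, rfl⟩
          obtain ⟨s, hs, u', hu', he⟩ := h u hu
          have : ((S.map p).comap N.subtype).mkQ ⟨p u, ⟨u, hu, rfl⟩⟩ =
              g • ((S.map p).comap N.subtype).mkQ ⟨p u', ⟨u', hu', rfl⟩⟩ := by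
            rw [← map_smul, Submodule.mkQ_apply, Submodule.mkQ_apply, Submodule.Quotient.eq,
              Submodule.mem_comap]
            exact ⟨s, hs, by simp [he]⟩
          rw [this, pow_succ', Submodule.mul_smul]
          exact Submodule.smul_mem_smul hg (ih _)
      haveI := hsep N ((S.map p).comap N.subtype)
      have := IsHausdorff.haus this _ (fun k => SModEq.zero.mpr (hpow k ⟨p t, ⟨t, ht, rfl⟩⟩))
      rw [Submodule.mkQ_apply, Submodule.Quotient.mk_eq_zero, Submodule.mem_comap] at this
      exact this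
    let tl : (Fin (n + 1) → M) →ₗ[A] (Fin n → M) := LinearMap.pi fun i => LinearMap.proj i.succ
    have h2 := le_of_divisible hg hsep ((S ⊓ LinearMap.ker p).map tl) ((T ⊓ LinearMap.ker p).map tl)
      (Submodule.map_mono (inf_le_inf_right _ hST)) (by
      rintro _ ⟨t, ⟨ht, htp⟩, rfl⟩
      obtain ⟨s, hs, t', ht', rfl⟩ := h t ht
      obtain ⟨s', hs', he⟩ := h1 t' ht'
      refine ⟨tl (s + g • s'), ⟨_, ⟨add_mem hs (S.smul_mem _ hs'), ?_⟩, rfl⟩, tl (t' - s'),
        ⟨_, ⟨sub_mem ht' (hST hs'), ?_⟩, rfl⟩, ?_⟩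
      · rw [SetLike.mem_coe, LinearMap.mem_ker, map_add, map_smul, he, ← map_smul, ← map_add]
        exact htp
      · rw [SetLike.mem_coe, LinearMap.mem_ker, map_sub, he, sub_self]
      · rw [← map_smul, ← map_add]; congr 1; rw [smul_sub]; abel)
    intro t ht
    obtain ⟨s, hs, he⟩ := h1 t ht
    have hk : t - s ∈ LinearMap.ker p := by rw [LinearMap.mem_ker, map_sub, he, sub_self]
    obtain ⟨s', ⟨hs', hsp⟩, he'⟩ := h2 ⟨t - s, ⟨sub_mem ht (hST hs), hk⟩, rfl⟩
    have : s' = t - s := by
      funext k
      induction k using Fin.cases with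
      | zero => exact (LinearMap.mem_ker.mp hsp).trans (LinearMap.mem_ker.mp hk).symm
      | succ k => exact congrFun he' k
    rw [← sub_add_cancel t s, ← this]
    exact add_mem hs' hs

/-- Vanishing of the first Koszul homology and separatedness give weak regularity. -/
theorem isWeaklyRegular_of_koszulH1Zero {I : Ideal A}
    (hsep : ∀ (N : Submodule A M) (N' : Submodule A N), IsHausdorff I (N ⧸ N')) :
    ∀ {n : ℕ} {f : Fin n → A}, (∀ i, f i ∈ I) → CInt.KoszulH1Zero f M →
      IsWeaklyRegular M (List.ofFn f)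
  | 0, f, _, _ => by rw [List.ofFn_zero]; exact IsWeaklyRegular.nil A M
  | n + 1, f, hI, h => by
    let f' : Fin n → A := fun i => f i.castSucc
    have key : ∀ (m : Fin n → M) (y : M), (∑ i, f' i • m i) + f (Fin.last n) • y = 0 →
        ∃ t ∈ triv f' M, ∃ x : Fin n → M, (∑ i, f' i • x i = y) ∧
          m = t - f (Fin.last n) • x := by
      intro m y hm
      obtain ⟨t, ht, r, ⟨x, rfl⟩, he⟩ := Submodule.mem_sup.mp
        (triv_le f (h (Fin.snoc m y) (by simpa [Fin.sum_univ_castSucc] using hm)))
      obtain ⟨t, ht, rfl⟩ := ht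
      refine ⟨t, ht, x, ?_, funext fun i => ?_⟩
      · simpa [ext0_last, lastRel_last] using congrFun he (Fin.last n)
      · have := congrFun he i.castSucc
        simp [ext0_castSucc, lastRel_castSucc] at this
        simp [← this, sub_eq_add_neg]
    let T : Submodule A (Fin n → M) :=
      LinearMap.ker (∑ i, f' i • (LinearMap.proj i : (Fin n → M) →ₗ[A] M))
    have hT : ∀ m, m ∈ T ↔ ∑ i, f' i • m i = 0 := fun m => by simp [T, LinearMap.sum_apply]
    have hTS : T ≤ triv f' M := by
      refine le_of_divisible (hI (Fin.last n)) hsep _ _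
        (fun t ht => (hT t).mpr (sum_smul_eq_zero_of_mem_triv ht)) (fun m hm => ?_)
      obtain ⟨t, ht, x, hx, rfl⟩ := key m 0 (by rw [smul_zero, add_zero]; exact (hT m).mp hm)
      exact ⟨t, ht, -x, (hT _).mpr (by simp [hx]), by simp [sub_eq_add_neg]⟩
    refine (isWeaklyRegular_ofFn_succ f).mpr ⟨isWeaklyRegular_of_koszulH1Zero hsep
      (fun i => hI i.castSucc) (fun m hm => hTS ((hT m).mpr hm)), fun y hy => ?_⟩
    obtain ⟨x, hx⟩ := (mem_span_smul_top_iff _ _).mp hy
    obtain ⟨-, -, x', hx', -⟩ := key (-x) y (by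
      simp only [Pi.neg_apply, smul_neg, Finset.sum_neg_distrib, hx, f', neg_add_cancel])
    exact (mem_span_smul_top_iff _ _).mpr ⟨x', hx'⟩

/-- The Noetherian case. -/
theorem isWeaklyRegular_of_koszulH1Zero_of_jacobson [IsNoetherianRing A] [Module.Finite A M]
    {n : ℕ} {f : Fin n → A} (hrad : ∀ i, f i ∈ (⊥ : Ideal A).jacobson)
    (h : CInt.KoszulH1Zero f M) : IsWeaklyRegular M (List.ofFn f) :=
  isWeaklyRegular_of_koszulH1Zero (I := Ideal.span (Set.range f))
    (fun N N' => IsHausdorff.of_le_jacobson _ (N ⧸ N')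
      (Ideal.span_le.mpr (by rintro _ ⟨i, rfl⟩; exact hrad i)))
    (fun i => Ideal.subset_span (Set.mem_range_self i)) h

/-- Weak regularity passes to the kernel of a surjection. -/
theorem isWeaklyRegular_first_of_exact : ∀ (rs : List A) {X Y Z : Type v} [AddCommGroup X]
    [Module A X] [AddCommGroup Y] [Module A Y] [AddCommGroup Z] [Module A Z] (i : X →ₗ[A] Y)
    (p : Y →ₗ[A] Z), Function.Injective i → Function.Exact i p → Function.Surjective p →
    IsWeaklyRegular Y rs → IsWeaklyRegular Z rs → IsWeaklyRegular X rs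
  | [], X, Y, Z, _, _, _, _, _, _, i, p, _, _, _, _, _ => IsWeaklyRegular.nil A X
  | r :: rs, X, Y, Z, _, _, _, _, _, _, i, p, hi, hex, hp, hY, hZ => by
    rw [isWeaklyRegular_cons_iff] at hY hZ ⊢
    refine ⟨hY.1.of_injective i hi, isWeaklyRegular_first_of_exact rs (QuotSMulTop.map r i)
      (QuotSMulTop.map r p) ?_ (QuotSMulTop.map_exact r hex hp) (QuotSMulTop.map_surjective r hp)
      hY.2 hZ.2⟩
    rw [injective_iff_map_eq_zero]
    intro a ha
    obtain ⟨a, rfl⟩ := Submodule.mkQ_surjective _ a
    obtain ⟨b, -, hb⟩ := (Submodule.mem_smul_pointwise_iff_exists _ _ _).mp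
      ((Submodule.Quotient.mk_eq_zero _).mp ha)
    have hgb : p b = 0 := hZ.1.right_eq_zero_of_smul (by
      rw [← map_smul, hb]; exact (hex _).mpr ⟨a, rfl⟩)
    obtain ⟨a', rfl⟩ := (hex _).mp hgb
    rw [← map_smul] at hb
    exact (Submodule.Quotient.mk_eq_zero _).mpr
      ((Submodule.mem_smul_pointwise_iff_exists _ _ _).mpr ⟨a', trivial, hi hb⟩)

/-- The first Koszul homology of a quotient. -/
theorem koszulH1Zero_of_exact {X Z : Type v} [AddCommGroup X] [Module A X] [AddCommGroup Z]
    [Module A Z] {n : ℕ} {f : Fin n → A} (i : X →ₗ[A] M) (p : M →ₗ[A] Z)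
    (hp : Function.Surjective p) (hex : Function.Exact i p) (h : CInt.KoszulH1Zero f M)
    (hinj : ∀ x, i x ∈ Ideal.ofList (List.ofFn f) • (⊤ : Submodule A M) →
      x ∈ Ideal.ofList (List.ofFn f) • (⊤ : Submodule A X)) : CInt.KoszulH1Zero f Z := by
  intro z hz
  choose m hm using fun k => hp (z k)
  have hpm : p (∑ k, f k • m k) = 0 := by simp [map_sum, hm, hz]
  obtain ⟨x, hx⟩ := (hex _).mp hpm
  obtain ⟨y, hy⟩ := (mem_span_smul_top_iff _ _).mp
    (hinj x ((mem_span_smul_top_iff _ _).mpr ⟨m, hx.symm⟩))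
  have hm' := h (fun k => m k - i (y k)) (by
    simp only [smul_sub, Finset.sum_sub_distrib, ← map_smul, ← map_sum, hy, hx, sub_self])
  have hpi : ∀ k, p (i (y k)) = 0 := fun k => (hex _).mpr ⟨_, rfl⟩
  let pp : (Fin n → M) →ₗ[A] (Fin n → Z) := LinearMap.pi fun k => p ∘ₗ LinearMap.proj k
  have hz' : pp (fun k => m k - i (y k)) = z := funext fun k => by simp [pp, hm, hpi]
  rw [← hz']
  refine Submodule.span_le (p := (triv f Z).comap pp).mpr ?_ hm'
  rintro _ ⟨a, b, u, rfl⟩
  refine Submodule.subset_span ⟨a, b, p u, funext fun k => ?_⟩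
  simp [pp, Pi.single_apply, apply_ite p]

end Groth.L07.RegSeq
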