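import Groth.Prelude.Def_Pi1
import Groth.Agent.L07.RegularIdeal
import Groth.Agent.L07.RegularFlat
import Groth.Agent.L01.CompletionReg
import Groth.Agent.L01.NagataComplete
import Groth.Agent.S2836

/-! Regular ideals of regular local rings and complete intersections. -/

namespace Groth.L07.RegQuot

open scoped Pointwise
open IsLocalRing RingTheory.Sequence Groth.L07.RegIdeal

set_option linter.style.haveILetI false

universe u

variable {A : Type u} [CommRing A] [IsLocalRing A] [IsNoetherianRing A]

/-- A minimal family has as many members as the minimal number of generators. -/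
theorem card_eq_spanFinrank {K : Ideal A} {n : ℕ} {f : Fin n → A} (hf : IsMin K f) :
    n = Submodule.spanFinrank K := by
  classical
  obtain ⟨s, hs, hsK⟩ := Submodule.FG.exists_span_finset_card_eq_spanFinrank (IsNoetherian.noetherian K)
  refine le_antisymm ?_ ?_
  · refine (card_le_of_indep hf.2 hf.1 (g := fun i : Fin s.card => (s.equivFin.symm i : A)) ?_).trans hs.le
    conv_rhs => rw [← hsK]
    congr 1
    ext x
    constructor
    · rintro ⟨i, rfl⟩; exact (s.equivFin.symm i).2
    · intro hx; exact ⟨s.equivFin ⟨x, hx⟩, by simp⟩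
  · have h : K = Ideal.ofList (List.ofFn f) := by rw [RegIdeal.ofList_ofFn, hf.1]
    rw [h]
    exact (Groth.L01.spanFinrank_ofList_le _).trans (List.length_ofFn).le

omit [IsNoetherianRing A] in
/-- An initial segment of an independent family is independent. -/
theorem indep_left {K : Ideal A} {n p : ℕ} {f : Fin n → A} {g : Fin p → A} (h : Indep K (Fin.append f g)) :
    Indep K f := by
  intro c hc i
  have h1 := h (Fin.append c 0) (by
    rw [Fin.sum_univ_add]
    simpa using hc) (Fin.castAdd p i)
  simpa using h1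

/-- An ideal with regular quotient in a regular local ring. -/
theorem regular_quotient_data {R : Type u} [CommRing R] [IsRegularLocalRing R] (J : Ideal R)
    (hJ : IsRegularLocalRing (R ⧸ J)) :
    CInt.IsRegularIdeal J ∧ ∃ (n : ℕ) (f : Fin n → R), Ideal.span (Set.range f) = J ∧
      Indep (maximalIdeal R) f := by
  obtain ⟨d, hd⟩ := Groth.L01.exists_dim_eq_nat (R := R)
  obtain ⟨l₁, l₂, hlen, hgen, hJl⟩ := Groth.L01.exists_lists_of_regular_quotient d R hd J hJ
  have hreg := Groth.L01.isRegular_of_ofList_eq_maximalIdeal (l₁ ++ l₂) hgen (by rw [hd, hlen])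
  have happ : List.ofFn (Fin.append l₁.get l₂.get) = l₁ ++ l₂ := by
    rw [List.ofFn_fin_append, List.ofFn_get, List.ofFn_get]
  rw [← happ] at hreg
  have hJ' : Ideal.span (Set.range l₁.get) = J := by
    rw [hJl, ← RegIdeal.ofList_ofFn, List.ofFn_get]
  refine ⟨hJ' ▸ (isRegularIdeal_split hreg).1, l₁.length, l₁.get, hJ', indep_left (g := l₂.get) ?_⟩
  have hspan : Ideal.span (Set.range (Fin.append l₁.get l₂.get)) = maximalIdeal R := by
    rw [← RegIdeal.ofList_ofFn, happ, hgen]
  exact hspan ▸ (isMin_of_isRegular hreg).2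

/-- Transitivity, in regular local rings. -/
theorem isRegularIdeal_map_of_regular {R : Type u} [CommRing R] [IsRegularLocalRing R] {J K : Ideal R}
    (hJK : J ≤ K) (hK : K ≤ maximalIdeal R) (hKreg : CInt.IsRegularIdeal K)
    (hJ : IsRegularLocalRing (R ⧸ J)) : CInt.IsRegularIdeal (K.map (Ideal.Quotient.mk J)) := by
  obtain ⟨-, n, f, hf, hind⟩ := regular_quotient_data J hJ
  exact (isRegularIdeal_of_indep hJK hKreg hf fun c hc =>
    hind c (Ideal.mul_mono_right hK hc)).2

/-- A regular ideal with regular quotient: the ring is regular. -/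
theorem isRegularLocalRing_of_quotient {J : Ideal A} [IsRegularLocalRing (A ⧸ J)]
    (hJ : CInt.IsRegularIdeal J) : IsRegularLocalRing A := by
  classical
  obtain ⟨rs, hrs, rfl⟩ := hJ
  refine IsRegularLocalRing.of_spanFinrank_maximalIdeal_le A ?_
  obtain ⟨s, hs, hsg⟩ := Submodule.FG.exists_span_finset_card_eq_spanFinrank
    (Ideal.fg_of_isNoetherianRing (maximalIdeal (A ⧸ Ideal.ofList rs)))
  let l : List A := rs ++ s.toList.map (Function.surjInv Ideal.Quotient.mk_surjective)
  have hle : maximalIdeal A ≤ Ideal.ofList l := by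
    intro y hy
    have h1 : Ideal.Quotient.mk (Ideal.ofList rs) y ∈
        (Ideal.ofList (s.toList.map (Function.surjInv Ideal.Quotient.mk_surjective))).map
          (Ideal.Quotient.mk (Ideal.ofList rs)) := by
      rw [Ideal.map_ofList, List.map_map,
        (funext (Function.surjInv_eq _) : Ideal.Quotient.mk (Ideal.ofList rs) ∘
          Function.surjInv Ideal.Quotient.mk_surjective = id), List.map_id]
      have hy' : Ideal.Quotient.mk (Ideal.ofList rs) y ∈ maximalIdeal (A ⧸ Ideal.ofList rs) := by
        rw [← IsLocalRing.map_maximalIdeal_of_surjective _ Ideal.Quotient.mk_surjective]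
        exact Ideal.mem_map_of_mem _ hy
      rw [← hsg] at hy'
      simpa [Ideal.ofList] using hy'
    have h2 : y ∈ ((Ideal.ofList (s.toList.map (Function.surjInv Ideal.Quotient.mk_surjective))).map
        (Ideal.Quotient.mk (Ideal.ofList rs))).comap (Ideal.Quotient.mk (Ideal.ofList rs)) := h1
    rw [Ideal.comap_map_of_surjective _ Ideal.Quotient.mk_surjective, ← RingHom.ker_eq_comap_bot,
      Ideal.mk_ker, sup_comm, ← Ideal.ofList_append] at h2
    exact h2
  have heq : Ideal.ofList l = maximalIdeal A := by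
    refine le_antisymm (le_maximalIdeal fun htop => ?_) hle
    have h3 := congrArg (Ideal.map (Ideal.Quotient.mk (Ideal.ofList rs))) htop
    rw [Ideal.ofList_append, Ideal.map_sup, Ideal.map_quotient_self, bot_sup_eq, Ideal.map_top,
      Ideal.map_ofList, List.map_map,
        (funext (Function.surjInv_eq _) : Ideal.Quotient.mk (Ideal.ofList rs) ∘
          Function.surjInv Ideal.Quotient.mk_surjective = id), List.map_id] at h3
    apply (maximalIdeal.isMaximal (A ⧸ Ideal.ofList rs)).ne_top
    rw [← hsg, ← h3]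
    simp [Ideal.ofList]
  have h4 : (maximalIdeal A).spanFinrank ≤ rs.length + (maximalIdeal (A ⧸ Ideal.ofList rs)).spanFinrank := by
    rw [← heq]
    exact (Groth.L01.spanFinrank_ofList_le l).trans (by simp [l, hs])
  rw [← ringKrullDim_add_length_eq_ringKrullDim_of_isRegular rs hrs,
    ← (isRegularLocalRing_iff (A ⧸ Ideal.ofList rs)).mp inferInstance]
  refine (Nat.cast_le.mpr h4).trans (le_of_eq ?_)
  push_cast
  exact add_comm _ _

/-- In a regular local ring a sequence cutting the dimension down is regular. -/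
theorem isWeaklyRegular_of_dim {R : Type u} [CommRing R] [IsRegularLocalRing R] (l : List R)
    (hl : ∀ r ∈ l, r ∈ maximalIdeal R)
    (hdim : ringKrullDim (R ⧸ Ideal.ofList l) + l.length ≤ ringKrullDim R) : IsWeaklyRegular R l := by
  induction l using List.reverseRecOn with
  | nil => exact IsWeaklyRegular.nil R R
  | append_singleton l y ih =>
    have hne : Ideal.ofList l ≠ ⊤ := fun h => (maximalIdeal.isMaximal R).ne_top
      (top_le_iff.mp (h ▸ Ideal.span_le.mpr fun r hr => hl r (List.mem_append_left _ hr)))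
    have hym : y ∈ maximalIdeal R := hl y (List.mem_append_right _ (List.mem_singleton_self y))
    haveI := Groth.L01.isLocalRing_quotient hne
    let π := Ideal.Quotient.mk (Ideal.ofList l)
    have hy' : π y ∈ maximalIdeal (R ⧸ Ideal.ofList l) := by
      rw [← IsLocalRing.map_maximalIdeal_of_surjective π Ideal.Quotient.mk_surjective]
      exact Ideal.mem_map_of_mem _ hym
    have heq : Ideal.ofList (l ++ [y]) = Ideal.ofList l ⊔ Ideal.span {y} := by
      rw [Ideal.ofList_append, Ideal.ofList_singleton]
    have hdrop : ringKrullDim (R ⧸ Ideal.ofList l) ≤ ringKrullDim (R ⧸ Ideal.ofList (l ++ [y])) + 1 := by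
      have h1 := ringKrullDim_le_ringKrullDim_quotSMulTop_succ (R := R ⧸ Ideal.ofList l) hy'
      refine h1.trans (add_le_add_left (le_of_eq ?_) 1)
      have e : (π y • (⊤ : Ideal (R ⧸ Ideal.ofList l))) = (Ideal.span {y}).map π := by
        rw [← Submodule.ideal_span_singleton_smul, smul_eq_mul, Ideal.mul_top, Ideal.map_span,
          Set.image_singleton]
      rw [ringKrullDim_eq_of_ringEquiv (Ideal.quotEquivOfEq e),
        ringKrullDim_eq_of_ringEquiv (DoubleQuot.quotQuotEquivQuotSup (Ideal.ofList l) (Ideal.span {y})),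
        ringKrullDim_eq_of_ringEquiv (Ideal.quotEquivOfEq heq)]
    have hlen : ((l ++ [y]).length : WithBot ℕ∞) = (l.length : WithBot ℕ∞) + 1 := by simp
    rw [hlen] at hdim
    have hIH := ih (fun r hr => hl r (List.mem_append_left _ hr)) (by
      refine le_trans ?_ hdim
      calc ringKrullDim (R ⧸ Ideal.ofList l) + (l.length : WithBot ℕ∞)
          ≤ (ringKrullDim (R ⧸ Ideal.ofList (l ++ [y])) + 1) + l.length := add_le_add_left hdrop _
        _ = _ := by rw [add_assoc, add_comm (1 : WithBot ℕ∞)])
    refine (isWeaklyRegular_append_iff R l [y]).mpr ⟨hIH, (isWeaklyRegular_singleton_iff _ _).mpr ?_⟩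
    have hlm : ∀ r ∈ l, r ∈ maximalIdeal R := fun r hr => hl r (List.mem_append_left _ hr)
    have hCM : LocCoh.IsCohenMacaulayModule R R :=
      (Groth.L04.isCohenMacaulayLocalRing_of_regular R).supportDim_eq_depth
    have hM := Groth.L04.isCohenMacaulayModule_quotient_ofList hCM hIH hlm
    let M := R ⧸ (Ideal.ofList l • (⊤ : Submodule R R))
    refine IsSMulRegular.of_right_eq_zero_of_smul fun z hz => ?_
    by_contra hz0
    have hmem : y ∈ ⋃ p ∈ associatedPrimes R M, (p : Set R) := by
      rw [biUnion_associatedPrimes_eq_compl_regular]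
      exact fun hreg => hz0 (IsSMulRegular.right_eq_zero_of_smul hreg hz)
    simp only [Set.mem_iUnion] at hmem
    obtain ⟨p, hp, hyp⟩ := hmem
    have h1 := Groth.L04.ringKrullDim_quotient_eq_supportDim_of_isCM hM hp
    have hann : Ideal.ofList l ≤ p := fun r hr => by
      haveI := IsAssociatedPrime.isPrime hp
      refine (IsAssociatedPrime.annihilator_le hp) (Submodule.mem_annihilator.mpr fun m _ => ?_)
      obtain ⟨m, rfl⟩ := Submodule.mkQ_surjective _ m
      rw [← map_smul, Submodule.mkQ_apply, Submodule.Quotient.mk_eq_zero]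
      exact Submodule.smul_mem_smul hr trivial
    have h2 : ringKrullDim (R ⧸ p) ≤ ringKrullDim (R ⧸ Ideal.ofList (l ++ [y])) :=
      ringKrullDim_le_of_surjective (Ideal.Quotient.factor (by
        rw [heq]; exact sup_le hann ((Ideal.span_singleton_le_iff_mem _).mpr hyp)))
        (Ideal.Quotient.factor_surjective _)
    rw [h1] at h2
    have h3 : Module.supportDim R M + l.length = ringKrullDim R := by
      rw [← Module.supportDim_self_eq_ringKrullDim]
      exact Groth.L04.supportDim_quotient_ofList_add hIH hlm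
    obtain ⟨a, ha⟩ := Groth.L01.exists_dim_eq_nat (R := R)
    haveI : Nontrivial (R ⧸ Ideal.ofList (l ++ [y])) := Ideal.Quotient.nontrivial_iff.mpr
      fun h => (maximalIdeal.isMaximal R).ne_top (top_le_iff.mp (h ▸ Ideal.span_le.mpr hl))
    haveI := Groth.L01.isLocalRing_quotient (I := Ideal.ofList (l ++ [y]))
      (Ideal.Quotient.nontrivial_iff.mp inferInstance)
    obtain ⟨b, hb⟩ := Groth.L01.exists_dim_eq_nat (R := R ⧸ Ideal.ofList (l ++ [y]))
    have h4 : ringKrullDim R ≤ ringKrullDim (R ⧸ Ideal.ofList (l ++ [y])) + l.length :=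
      h3 ▸ add_le_add_left h2 _
    rw [hb, ha] at hdim h4
    have h5 : b + (l.length + 1) ≤ a := by exact_mod_cast hdim
    have h6 : a ≤ b + l.length := by exact_mod_cast h4
    omega

omit [IsLocalRing A] [IsNoetherianRing A] in
/-- Relations of a regular sequence are Koszul relations. -/
theorem exists_koszul : ∀ {n : ℕ} {x : Fin n → A}, IsWeaklyRegular A (List.ofFn x) →
    ∀ b : Fin n → A, ∑ i, b i * x i = 0 → ∃ t : Fin n → Fin n → A, ∀ i, b i = ∑ j, (t i j - t j i) * x j := by
  intro n
  induction n with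
  | zero => exact fun _ _ _ => ⟨fun i => i.elim0, fun i => i.elim0⟩
  | succ n ih =>
    intro x hx b hb
    rw [List.ofFn_succ', List.concat_eq_append] at hx
    obtain ⟨h1, h2⟩ := (isWeaklyRegular_append_iff A _ _).mp hx
    have h3 := (isWeaklyRegular_singleton_iff _ _).mp h2
    rw [Fin.sum_univ_castSucc] at hb
    let J := Ideal.ofList (List.ofFn fun i : Fin n => x i.castSucc)
    have hbl : b (Fin.last n) ∈ J • (⊤ : Submodule A A) := by
      rw [← Submodule.Quotient.mk_eq_zero]
      refine h3.right_eq_zero_of_smul ?_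
      rw [← Submodule.Quotient.mk_smul, Submodule.Quotient.mk_eq_zero, smul_eq_mul, smul_eq_mul,
        Ideal.mul_top, mul_comm, eq_neg_of_add_eq_zero_right hb]
      exact neg_mem (sum_mem fun i _ => Ideal.mul_mem_left _ _
        (Ideal.subset_span (List.mem_ofFn.mpr ⟨i, rfl⟩)))
    rw [smul_eq_mul, Ideal.mul_top] at hbl
    simp only [J, RegIdeal.ofList_ofFn, Groth.L07.QReg.ofList_ofFn] at hbl
    obtain ⟨s, hs⟩ := Ideal.mem_span_range_iff_exists_fun.mp hbl
    obtain ⟨t, ht⟩ := ih h1 (fun j => b j.castSucc + s j * x (Fin.last n)) (by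
      rw [← hb, ← hs, Finset.sum_mul]
      simp only [add_mul, Finset.sum_add_distrib]
      congr 1
      exact Finset.sum_congr rfl fun j _ => by ring)
    refine ⟨Fin.lastCases (Fin.lastCases 0 s) (fun i => Fin.lastCases 0 (t i)), fun i => ?_⟩
    rw [Fin.sum_univ_castSucc]
    refine Fin.lastCases ?_ (fun i => ?_) i
    · simp [← hs]
    · simp only [Fin.lastCases_castSucc, Fin.lastCases_last, zero_sub]
      rw [← ht i]
      ring

omit [IsNoetherianRing A] in
theorem mem_maximal_of_surjective {S : Type u} [CommRing S] [IsLocalRing S] {π : A →+* S}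
    (hπ : Function.Surjective π) {a : A} : a ∈ maximalIdeal A ↔ π a ∈ maximalIdeal S := by
  haveI : IsLocalHom π := IsLocalHom.of_surjective π hπ
  rw [mem_maximalIdeal, mem_maximalIdeal, map_mem_nonunits_iff]

/-- Embedding dimensions in two presentations by ideals inside the square of the maximal ideal. -/
theorem exists_params {R B S : Type u} [CommRing R] [IsRegularLocalRing R] [CommRing B]
    [IsLocalRing B] [IsNoetherianRing B] [CommRing S] [IsLocalRing S] {p : R →+* S} {q : B →+* S}
    (hp : Function.Surjective p) (hq : Function.Surjective q)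
    (hker : RingHom.ker q ≤ maximalIdeal B ^ 2) {n : ℕ} {x : Fin n → R} (hx : IsMin (maximalIdeal R) x)
    (x' : Fin n → B) (hx' : ∀ i, q (x' i) = p (x i)) : Ideal.span (Set.range x') = maximalIdeal B := by
  have hmem : ∀ i, x' i ∈ maximalIdeal B := fun i => by
    rw [mem_maximal_of_surjective hq, hx', ← mem_maximal_of_surjective hp, ← hx.1]
    exact Ideal.subset_span ⟨i, rfl⟩
  refine le_antisymm (Ideal.span_le.mpr (by rintro _ ⟨i, rfl⟩; exact hmem i))
    (Groth.L01.maximalIdeal_le_of_le_sup_sq fun z hz => ?_)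
  obtain ⟨w, hw⟩ := hp (q z)
  have hwm : w ∈ maximalIdeal R := by
    rw [mem_maximal_of_surjective hp, hw, ← mem_maximal_of_surjective hq]; exact hz
  rw [← hx.1] at hwm
  obtain ⟨a, ha⟩ := Ideal.mem_span_range_iff_exists_fun.mp hwm
  choose a' ha' using fun i => hq (p (a i))
  have h1 : z - ∑ i, a' i * x' i ∈ RingHom.ker q := by
    rw [RingHom.mem_ker, map_sub, map_sum, ← hw, ← ha, map_sum, sub_eq_zero]
    simp only [map_mul, ha', hx']
  rw [show z = ∑ i, a' i * x' i + (z - ∑ i, a' i * x' i) by ring]
  exact add_mem (Ideal.mem_sup_left (sum_mem fun i _ => Ideal.mul_mem_left _ _ (Ideal.subset_span ⟨i, rfl⟩)))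
    (Ideal.mem_sup_right (hker h1))

/-- Two presentations, both inside the square of the maximal ideal. -/
theorem isRegularIdeal_core {R B S : Type u} [CommRing R] [IsRegularLocalRing R] [CommRing B]
    [IsRegularLocalRing B] [CommRing S] [IsLocalRing S] (p : R →+* S) (q : B →+* S)
    (hp : Function.Surjective p) (hq : Function.Surjective q)
    (hI : RingHom.ker p ≤ maximalIdeal R ^ 2) (hJ : RingHom.ker q ≤ maximalIdeal B ^ 2)
    (hreg : CInt.IsRegularIdeal (RingHom.ker q)) : CInt.IsRegularIdeal (RingHom.ker p) := by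
  classical
  obtain ⟨n, x, hx⟩ := exists_isMin (maximalIdeal R)
  choose x' hx' using fun i => hq (p (x i))
  have hgen := exists_params hp hq hJ hx x' hx'
  obtain ⟨n', y, hy⟩ := exists_isMin (maximalIdeal B)
  choose y' hy' using fun i => hp (q (y i))
  have hn : n = n' := le_antisymm (card_le_of_indep hx.2 hx.1 (exists_params hq hp hI hy y' hy'))
    (card_le_of_indep hy.2 hy.1 hgen)
  have hdimR : ringKrullDim R = n := by
    rw [← (isRegularLocalRing_iff R).mp inferInstance, card_eq_spanFinrank hx]
  have hdimB : ringKrullDim B = n := by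
    rw [← (isRegularLocalRing_iff B).mp inferInstance, ← card_eq_spanFinrank hy, hn]
  have hxreg := Groth.L01.isRegular_of_ofList_eq_maximalIdeal (List.ofFn x')
    (by rw [RegIdeal.ofList_ofFn, hgen]) (by rw [hdimB, List.length_ofFn])
  obtain ⟨r, f, hf⟩ := exists_isMin (RingHom.ker p)
  have hfm : ∀ l, f l ∈ maximalIdeal R := fun l =>
    Ideal.pow_le_self two_ne_zero (hI (hf.1 ▸ Ideal.subset_span ⟨l, rfl⟩))
  choose a ha using fun l => Ideal.mem_span_range_iff_exists_fun.mp (hx.1.symm ▸ hfm l)
  choose a' ha' using fun l i => hq (p (a l i))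
  let u : Fin r → B := fun l => ∑ i, a' l i * x' i
  have hu : ∀ l, u l ∈ RingHom.ker q := fun l => by
    have h1 : q (u l) = p (f l) := by
      rw [← ha l, map_sum, map_sum]
      simp only [map_mul, ha', hx']
    rw [RingHom.mem_ker, h1]
    exact (RingHom.mem_ker).mp (hf.1 ▸ Ideal.subset_span ⟨l, rfl⟩)
  have hind : Indep (RingHom.ker q) u := by
    intro c hc l₀
    rw [← hgen, mul_comm] at hc
    obtain ⟨μ, hμ, hμc⟩ := (Submodule.mem_ideal_smul_span_iff_exists_sum (RingHom.ker q) x' _).mp
      (show ∑ i, c i * u i ∈ RingHom.ker q • Submodule.span B (Set.range x') by rw [smul_eq_mul]; exact hc)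
    obtain ⟨t, ht⟩ := exists_koszul hxreg.1 (fun i => ∑ l, c l * a' l i - μ i) (by
      simp only [sub_mul, Finset.sum_sub_distrib, Finset.sum_mul]
      rw [Finset.sum_comm, sub_eq_zero]
      simp only [mul_assoc, ← Finset.mul_sum]
      rw [Finsupp.sum_fintype _ _ (fun i => zero_smul B (x' i))] at hμc
      simpa [smul_eq_mul] using hμc.symm)
    choose cR hcR using fun l => hp (q (c l))
    choose tR htR using fun i j => hp (q (t i j))
    let δ : Fin n → R := fun i => ∑ l, cR l * a l i - ∑ j, (tR i j - tR j i) * x j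
    have hδ : ∀ i, δ i ∈ RingHom.ker p := fun i => by
      have h1 : p (δ i) = q (∑ l, c l * a' l i - ∑ j, (t i j - t j i) * x' j) := by
        simp only [δ, map_sub, map_sum, map_mul, hcR, htR, ha', hx']
      rw [RingHom.mem_ker, h1, ← ht i, sub_sub_cancel]
      exact RingHom.mem_ker.mp (hμ i)
    have hanti : ∑ i, (∑ j, (tR i j - tR j i) * x j) * x i = 0 := by
      simp only [Finset.sum_mul, sub_mul, Finset.sum_sub_distrib]
      rw [sub_eq_zero, Finset.sum_comm]
      exact Finset.sum_congr rfl fun i _ => Finset.sum_congr rfl fun j _ => by ring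
    have h2 : ∑ l, cR l * f l ∈ maximalIdeal R * RingHom.ker p := by
      have h3 : ∑ l, cR l * f l = ∑ i, δ i * x i := by
        simp only [δ, sub_mul, Finset.sum_sub_distrib] at hanti ⊢
        rw [hanti, sub_zero]
        simp only [Finset.sum_mul, mul_assoc]
        rw [Finset.sum_comm]
        simp only [← Finset.mul_sum, ha]
      rw [h3, mul_comm]
      exact sum_mem fun i _ => Ideal.mul_mem_mul (hδ i) (hx.1 ▸ Ideal.subset_span ⟨i, rfl⟩)
    have h4 := hf.2 cR h2 l₀
    rwa [mem_maximal_of_surjective hp, hcR, ← mem_maximal_of_surjective hq] at h4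
  obtain ⟨k, g, -, hmin⟩ := exists_extend hu hind (J := RingHom.ker q)
    (sup_eq_right.mpr (Ideal.span_le.mpr (by rintro _ ⟨l, rfl⟩; exact hu l)))
  obtain ⟨c₀, h, hh, hhK⟩ := exists_regular_family hreg
  have hrk : r + k = c₀ := le_antisymm (card_le_of_indep hmin.2 hmin.1 hhK)
    (card_le_of_indep (isMin_of_isRegular hh).2 rfl (hmin.1.trans hhK.symm))
  have hdimS : ringKrullDim S + c₀ = n := by
    have h1 := ringKrullDim_add_length_eq_ringKrullDim_of_isRegular (List.ofFn h) hh
    rw [List.length_ofFn, ringKrullDim_eq_of_ringEquiv (Ideal.quotEquivOfEq (by rw [RegIdeal.ofList_ofFn, hhK])),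
      ringKrullDim_eq_of_ringEquiv (RingHom.quotientKerEquivOfSurjective hq), hdimB] at h1
    exact h1
  refine ⟨List.ofFn f, ⟨isWeaklyRegular_of_dim _ (fun z hz => ?_) ?_, ?_⟩, by rw [RegIdeal.ofList_ofFn, hf.1]⟩
  · obtain ⟨l, rfl⟩ := List.mem_ofFn.mp hz
    exact hfm l
  · rw [List.length_ofFn, ringKrullDim_eq_of_ringEquiv (Ideal.quotEquivOfEq (by rw [RegIdeal.ofList_ofFn, hf.1])),
      ringKrullDim_eq_of_ringEquiv (RingHom.quotientKerEquivOfSurjective hp), hdimR, ← hdimS]
    exact add_le_add le_rfl (by exact_mod_cast (show r ≤ c₀ by omega))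
  · rw [RegIdeal.ofList_ofFn, hf.1, smul_eq_mul, Ideal.mul_top]
    exact (RingHom.ker_ne_top p).symm

/-- Regularity of the defining ideal does not depend on the presentation. -/
theorem isRegularIdeal_of_presentation : ∀ (N : ℕ) (R B S : Type u) [CommRing R] [IsRegularLocalRing R]
    [CommRing B] [IsRegularLocalRing B] [CommRing S] [IsLocalRing S] (p : R →+* S) (q : B →+* S),
    (maximalIdeal R).spanFinrank + (maximalIdeal B).spanFinrank = N →
    Function.Surjective p → Function.Surjective q → CInt.IsRegularIdeal (RingHom.ker q) →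
    CInt.IsRegularIdeal (RingHom.ker p) := by
  intro N
  induction N using Nat.strong_induction_on with
  | _ N ih =>
    intro R B S _ _ _ _ _ _ p q hN hp hq hreg
    by_cases hI : RingHom.ker p ≤ maximalIdeal R ^ 2
    · by_cases hJ : RingHom.ker q ≤ maximalIdeal B ^ 2
      · exact isRegularIdeal_core p q hp hq hI hJ hreg
      · obtain ⟨y, hy, hy2⟩ := SetLike.not_le_iff_exists.mp hJ
        have hym : y ∈ maximalIdeal B := le_maximalIdeal (RingHom.ker_ne_top q) hy
        have hle : Ideal.span {y} ≤ RingHom.ker q := (Ideal.span_singleton_le_iff_mem _).mpr hy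
        obtain ⟨hB', -⟩ := Groth.L01.regular_quotient_of_notMem_sq hym hy2
        haveI := hB'
        have hlt := Groth.L01.spanFinrank_quotient_add_one_le hym hy2
        have hreg' := isRegularIdeal_map_of_regular hle (le_maximalIdeal (RingHom.ker_ne_top q)) hreg hB'
        rw [← Ideal.ker_quotient_lift q hle] at hreg'
        exact ih _ (by omega) R (B ⧸ Ideal.span {y}) S p (Ideal.Quotient.lift _ q hle) rfl hp
          (Ideal.Quotient.lift_surjective_of_surjective _ hle hq) hreg'
    · obtain ⟨x, hx, hx2⟩ := SetLike.not_le_iff_exists.mp hI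
      have hxm : x ∈ maximalIdeal R := le_maximalIdeal (RingHom.ker_ne_top p) hx
      have hle : Ideal.span {x} ≤ RingHom.ker p := (Ideal.span_singleton_le_iff_mem _).mpr hx
      obtain ⟨hR', -⟩ := Groth.L01.regular_quotient_of_notMem_sq hxm hx2
      haveI := hR'
      have hlt := Groth.L01.spanFinrank_quotient_add_one_le hxm hx2
      have h1 := ih _ (by omega) (R ⧸ Ideal.span {x}) B S (Ideal.Quotient.lift _ p hle) q rfl
        (Ideal.Quotient.lift_surjective_of_surjective _ hle hp) hq hreg
      rw [Ideal.ker_quotient_lift p hle] at h1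
      exact Groth.Agent.S2836.result R _ _ hle (le_maximalIdeal (RingHom.ker_ne_top p))
        (regular_quotient_data _ hR').1 h1

/-- The completion of a quotient. -/
theorem exists_completionQuotEquiv {S : Type u} [CommRing S] [IsLocalRing S] [IsNoetherianRing S]
    (p : A →+* S) (hp : Function.Surjective p) :
    Nonempty ((AdicCompletion (maximalIdeal A) A ⧸ (RingHom.ker p).map
      (algebraMap A (AdicCompletion (maximalIdeal A) A))) ≃+* AdicCompletion (maximalIdeal S) S) := by
  haveI := Groth.L01.AnalUnram.isNoetherianRing_completion A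
  haveI := Groth.L01.AnalUnram.isNoetherianRing_completion S
  set Ah := AdicCompletion (maximalIdeal A) A
  set Sh := AdicCompletion (maximalIdeal S) S
  set I' := (RingHom.ker p).map (algebraMap A Ah)
  have hI'le : I' ≤ maximalIdeal Ah := by
    rw [← Groth.L01.AnalUnram.completion_map_maximalIdeal]
    exact Ideal.map_mono (le_maximalIdeal (RingHom.ker_ne_top p))
  haveI : IsLocalRing (Ah ⧸ I') := Groth.L01.isLocalRing_quotient
    (ne_top_of_le_ne_top (maximalIdeal.isMaximal Ah).ne_top hI'le)
  haveI := Groth.L01.NagataComplete.isAdicComplete_quotient I'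
  have hmS : (maximalIdeal A).map p = maximalIdeal S := IsLocalRing.map_maximalIdeal_of_surjective p hp
  have hcA : (maximalIdeal A).map (algebraMap A Ah) = maximalIdeal Ah :=
    Groth.L01.AnalUnram.completion_map_maximalIdeal A
  have hcS : (maximalIdeal S).map (algebraMap S Sh) = maximalIdeal Sh :=
    Groth.L01.AnalUnram.completion_map_maximalIdeal S
  have hmQ : (maximalIdeal Ah).map (Ideal.Quotient.mk I') = maximalIdeal (Ah ⧸ I') :=
    IsLocalRing.map_maximalIdeal_of_surjective _ Ideal.Quotient.mk_surjective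
  let f : A →+* Sh := (algebraMap S Sh).comp p
  obtain ⟨φ, hφ, hφm⟩ := Groth.L01.CompletionExt.exists_extend f (by rw [← Ideal.map_map, hmS, hcS])
  have hφI : ∀ z ∈ I', φ z = 0 := by
    intro z hz
    refine (Ideal.map_le_iff_le_comap.mpr fun w hw => ?_ : I' ≤ RingHom.ker φ) hz
    rw [Ideal.mem_comap, RingHom.mem_ker, hφ]
    show algebraMap S Sh (p w) = 0
    rw [RingHom.mem_ker.mp hw, map_zero]
  let Φ := Ideal.Quotient.lift I' φ hφI
  let g₀ : A ⧸ RingHom.ker p →+* Ah ⧸ I' := Ideal.Quotient.lift (RingHom.ker p)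
    ((Ideal.Quotient.mk I').comp (algebraMap A Ah))
    fun w hw => Ideal.Quotient.eq_zero_iff_mem.mpr (Ideal.mem_map_of_mem _ hw)
  let g : S →+* Ah ⧸ I' := g₀.comp (RingHom.quotientKerEquivOfSurjective hp).symm.toRingHom
  have hg : ∀ w, g (p w) = Ideal.Quotient.mk I' (algebraMap A Ah w) := fun w => by
    have h1 : (RingHom.quotientKerEquivOfSurjective hp).symm (p w) = Ideal.Quotient.mk _ w :=
      RingHom.quotientKerEquivOfSurjective_symm_apply hp w
    show g₀ ((RingHom.quotientKerEquivOfSurjective hp).symm (p w)) = _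
    rw [h1]
    rfl
  have hgm : (maximalIdeal S).map g ≤ maximalIdeal (Ah ⧸ I') := by
    rw [← hmS, Ideal.map_map, show g.comp p = (Ideal.Quotient.mk I').comp (algebraMap A Ah) from RingHom.ext hg,
      ← Ideal.map_map, hcA, hmQ]
  obtain ⟨Ψ, hΨ, hΨm⟩ := Groth.L01.CompletionExt.exists_extend g hgm
  have hΦm : (maximalIdeal (Ah ⧸ I')).map Φ ≤ maximalIdeal Sh := by
    rw [← hmQ, Ideal.map_map, Ideal.Quotient.lift_comp_mk]
    exact hφm
  have h1 : Φ.comp Ψ = RingHom.id Sh := by
    refine Groth.L01.CompletionExt.ext_of_hausdorff _ _ ?_ (Ideal.map_id _).le fun s => ?_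
    · rw [← Ideal.map_map]
      exact (Ideal.map_mono hΨm).trans hΦm
    · obtain ⟨w, rfl⟩ := hp s
      show Φ (Ψ (algebraMap S Sh (p w))) = algebraMap S Sh (p w)
      rw [hΨ, hg]
      exact hφ w
  have h2 : Ψ.comp φ = Ideal.Quotient.mk I' := by
    refine Groth.L01.CompletionExt.ext_of_hausdorff _ _ ?_ hmQ.le fun w => ?_
    · rw [← Ideal.map_map]
      exact (Ideal.map_mono hφm).trans hΨm
    · show Ψ (φ (algebraMap A Ah w)) = _
      rw [hφ]
      show Ψ (algebraMap S Sh (p w)) = _
      rw [hΨ, hg]
  exact ⟨RingEquiv.ofRingHom Φ Ψ h1 (Ideal.Quotient.ringHom_ext (by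
    rw [RingHom.comp_assoc, Ideal.Quotient.lift_comp_mk, h2]; rfl))⟩

/-- A regular ideal has complete intersection quotient. -/
theorem isCompleteIntersection_of_isRegularIdeal {R S : Type u} [CommRing R] [IsRegularLocalRing R]
    [CommRing S] [IsLocalRing S] [IsNoetherianRing S] (p : R →+* S) (hp : Function.Surjective p)
    (h : CInt.IsRegularIdeal (RingHom.ker p)) : Pi1.IsCompleteIntersection S := by
  obtain ⟨rs, hrs, hI⟩ := h
  obtain ⟨e⟩ := exists_completionQuotEquiv p hp
  set Rh := AdicCompletion (maximalIdeal R) R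
  haveI hRh : IsRegularLocalRing Rh := (Groth.L01.CompletionReg.isRegularLocalRing_iff_completion R).mp inferInstance
  haveI := Groth.L01.CompletionExt.faithfullyFlat R
  refine ⟨Rh, inferInstance, inferInstance, rs.map (algebraMap R Rh), ?_, ⟨?_, ?_⟩, ⟨?_⟩⟩
  · intro r hr
    obtain ⟨w, hw, rfl⟩ := List.mem_map.mp hr
    rw [← Groth.L01.AnalUnram.completion_map_maximalIdeal]
    exact Ideal.mem_map_of_mem _ (le_maximalIdeal (RingHom.ker_ne_top p) (hI ▸ Ideal.subset_span hw))
  · rw [isWeaklyRegular_map_algebraMap_iff]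
    exact Groth.L07.RegFlat.isWeaklyRegular_of_flat hrs.1
  · rw [smul_eq_mul, Ideal.mul_top, ← Ideal.map_ofList, hI]
    intro htop
    exact (maximalIdeal.isMaximal Rh).ne_top (top_le_iff.mp (htop.le.trans (by
      rw [← Groth.L01.AnalUnram.completion_map_maximalIdeal]
      exact Ideal.map_mono (le_maximalIdeal (RingHom.ker_ne_top p)))))
  · exact e.symm.trans (Ideal.quotEquivOfEq (by rw [← hI, Ideal.map_ofList]))

/-- The kernel of a presentation of a complete intersection is regular. -/
theorem isRegularIdeal_of_isCompleteIntersection {R S : Type u} [CommRing R] [IsRegularLocalRing R]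
    [CommRing S] [IsLocalRing S] [IsNoetherianRing S] (p : R →+* S) (hp : Function.Surjective p)
    (h : Pi1.IsCompleteIntersection S) : CInt.IsRegularIdeal (RingHom.ker p) := by
  obtain ⟨B, _, _, rs, -, hrs, ⟨e₀⟩⟩ := h
  obtain ⟨e⟩ := exists_completionQuotEquiv p hp
  set Rh := AdicCompletion (maximalIdeal R) R
  set Sh := AdicCompletion (maximalIdeal S) S
  haveI hRh : IsRegularLocalRing Rh := (Groth.L01.CompletionReg.isRegularLocalRing_iff_completion R).mp inferInstance
  haveI := Groth.L01.CompletionExt.faithfullyFlat R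
  let q : B →+* Sh := e₀.symm.toRingHom.comp (Ideal.Quotient.mk (Ideal.ofList rs))
  let p' : Rh →+* Sh := e.toRingHom.comp (Ideal.Quotient.mk ((RingHom.ker p).map (algebraMap R Rh)))
  have hkq : RingHom.ker q = Ideal.ofList rs := by
    show RingHom.ker (e₀.symm.toRingHom.comp _) = _
    rw [RingHom.ker_comp_of_injective _ e₀.symm.injective, Ideal.mk_ker]
  have hkp : RingHom.ker p' = (RingHom.ker p).map (algebraMap R Rh) := by
    show RingHom.ker (e.toRingHom.comp _) = _
    rw [RingHom.ker_comp_of_injective _ e.injective, Ideal.mk_ker]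
  have h1 := isRegularIdeal_of_presentation _ Rh B Sh p' q rfl (e.surjective.comp Ideal.Quotient.mk_surjective)
    (e₀.symm.surjective.comp Ideal.Quotient.mk_surjective) (hkq ▸ ⟨rs, hrs, rfl⟩)
  rw [hkp] at h1
  obtain ⟨n, f, hf⟩ := exists_isMin (RingHom.ker p)
  let g : Fin n → Rh := algebraMap R Rh ∘ f
  have hg : Ideal.span (Set.range g) = (RingHom.ker p).map (algebraMap R Rh) := by
    rw [← hf.1, Ideal.map_span, ← Set.range_comp]
  have hind : Indep ((RingHom.ker p).map (algebraMap R Rh)) g := by
    intro c hc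
    choose c' hc' using fun i => Groth.L01.AnalUnram.exists_sub_mem R (c i)
    have h2 : algebraMap R Rh (∑ i, c' i * f i) ∈ (maximalIdeal R * RingHom.ker p).map (algebraMap R Rh) := by
      rw [Ideal.map_mul, Groth.L01.AnalUnram.completion_map_maximalIdeal]
      have h3 : ∑ i, (c i - algebraMap R Rh (c' i)) * g i ∈
          maximalIdeal Rh * (RingHom.ker p).map (algebraMap R Rh) :=
        sum_mem fun i _ => Ideal.mul_mem_mul (hc' i) (hg ▸ Ideal.subset_span ⟨i, rfl⟩)
      have := sub_mem hc h3
      simp only [sub_mul, Finset.sum_sub_distrib, sub_sub_cancel] at this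
      simpa [g, map_sum] using this
    have h4 : ∑ i, c' i * f i ∈ maximalIdeal R * RingHom.ker p :=
      (Ideal.comap_map_eq_self_of_faithfullyFlat (B := Rh) _).le h2
    intro i
    have h5 : algebraMap R Rh (c' i) ∈ maximalIdeal Rh := by
      rw [← Groth.L01.AnalUnram.completion_map_maximalIdeal]
      exact Ideal.mem_map_of_mem _ (hf.2 c' h4 i)
    have h6 := add_mem (hc' i) h5
    rwa [sub_add_cancel] at h6
  have hreg := isRegular_of_isMin h1 ⟨hg, hind⟩
  have hd := ringKrullDim_add_length_eq_ringKrullDim_of_isRegular (List.ofFn g) hreg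
  rw [List.length_ofFn, ringKrullDim_eq_of_ringEquiv (Ideal.quotEquivOfEq (by rw [RegIdeal.ofList_ofFn, hg])),
    ringKrullDim_eq_of_ringEquiv e, Groth.L01.CompletionReg.ringKrullDim_completion,
    Groth.L01.CompletionReg.ringKrullDim_completion] at hd
  refine ⟨List.ofFn f, ⟨isWeaklyRegular_of_dim _ (fun z hz => ?_) ?_, ?_⟩, by rw [RegIdeal.ofList_ofFn, hf.1]⟩
  · exact mem_of_mem_ofFn (hf.1.le.trans (le_maximalIdeal (RingHom.ker_ne_top p))) hz
  · rw [List.length_ofFn, ringKrullDim_eq_of_ringEquiv (Ideal.quotEquivOfEq (by rw [RegIdeal.ofList_ofFn, hf.1])),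
      ringKrullDim_eq_of_ringEquiv (RingHom.quotientKerEquivOfSurjective hp)]
    exact hd.le
  · rw [RegIdeal.ofList_ofFn, hf.1, smul_eq_mul, Ideal.mul_top]
    exact (RingHom.ker_ne_top p).symm

end Groth.L07.RegQuot
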