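import Groth.Agent.L22.AffineDim
import Groth.Agent.L04.RegularPd
import Groth.Agent.L07.RegularQuotient
import Groth.Agent.L07.RegularIdeal

/-! Regular ideals in polynomial rings over fields, through dimensions. -/

namespace Groth.L07.CIField

open IsLocalRing RingTheory.Sequence

set_option linter.style.haveILetI false

universe u

/-- Dimension is bounded by that of the closures of the image points along an injective map of
spectra. -/
theorem dim_le_of_primes {R B : Type u} [CommRing R] [CommRing B] (φ : R →+* B)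
    (hinj : Function.Injective (PrimeSpectrum.comap φ)) (n : WithBot ℕ∞)
    (h : ∀ P : PrimeSpectrum B, ringKrullDim (R ⧸ P.asIdeal.comap φ) ≤ n) : ringKrullDim B ≤ n := by
  refine iSup_le fun p => le_trans ?_ (h p.head)
  let q₀ := p.head.asIdeal.comap φ
  have hle : ∀ i, q₀ ≤ (p i).asIdeal.comap φ := fun i => Ideal.comap_mono (p.head_le i)
  let g : Fin (p.length + 1) → PrimeSpectrum (R ⧸ q₀) := fun i =>
    ⟨((p i).asIdeal.comap φ).map (Ideal.Quotient.mk q₀), Ideal.map_isPrime_of_surjective
      Ideal.Quotient.mk_surjective (by rw [Ideal.mk_ker]; exact hle i)⟩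
  refine Order.LTSeries.length_le_krullDim (LTSeries.mk p.length g fun i j hij => ?_)
  have hpij : p i ≤ p j := p.monotone hij.le
  refine lt_of_le_of_ne (Ideal.map_mono (Ideal.comap_mono hpij)) fun he => ?_
  have h1 := congrArg (fun z => z.asIdeal.comap (Ideal.Quotient.mk q₀)) he
  simp only [g, Ideal.comap_map_of_surjective _ Ideal.Quotient.mk_surjective, ← RingHom.ker_eq_comap_bot,
    Ideal.mk_ker, sup_eq_left.mpr (hle _)] at h1
  exact (p.strictMono hij).ne (hinj (PrimeSpectrum.ext h1))

variable {k : Type u} [Field k]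

/-- Inverting one element does not change the dimension of an affine domain. -/
theorem dim_away (D : Type u) [CommRing D] [IsDomain D] [Algebra k D] [Algebra.FiniteType k D]
    (g : D) (hg : g ≠ 0) : ringKrullDim (Localization.Away g) = ringKrullDim D := by
  haveI : IsDomain (Localization.Away g) :=
    IsLocalization.isDomain_localization (powers_le_nonZeroDivisors_of_noZeroDivisors hg)
  haveI : Algebra.FiniteType k (Localization.Away g) :=
    Algebra.FiniteType.trans (S := D) inferInstance (IsLocalization.finiteType_of_monoid_fg (Submonoid.powers g) _)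
  obtain ⟨d, -, -, -, hd, -⟩ := Groth.L22.AffineDim.exists_normalization k D
  obtain ⟨e, -, -, -, he, -⟩ := Groth.L22.AffineDim.exists_normalization k (Localization.Away g)
  let K := FractionRing D
  letI : Algebra (Localization.Away g) K := IsLocalization.localizationAlgebraOfSubmonoidLe
    (Localization.Away g) K (Submonoid.powers g) (nonZeroDivisors D)
    (powers_le_nonZeroDivisors_of_noZeroDivisors hg)
  haveI : IsScalarTower D (Localization.Away g) K :=
    IsLocalization.localization_isScalarTower_of_submonoid_le _ _ _ _ _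
  haveI : IsFractionRing (Localization.Away g) K :=
    IsFractionRing.isFractionRing_of_isDomain_of_isLocalization (Submonoid.powers g) _ _
  haveI : IsScalarTower k (Localization.Away g) K := IsScalarTower.of_algebraMap_eq fun x => by
    rw [IsScalarTower.algebraMap_apply k D K, IsScalarTower.algebraMap_apply k D (Localization.Away g),
      ← IsScalarTower.algebraMap_apply D (Localization.Away g) K]
  have h1 := Groth.L22.AffineDim.trdeg_fractionRing k D K hd
  have h2 := Groth.L22.AffineDim.trdeg_fractionRing k (Localization.Away g) K he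
  rw [hd, he, show e = d from Nat.cast_injective (h2.symm.trans h1)]

variable {d : ℕ}

/-- Height and dimension in affine space. -/
theorem exists_height_add (q : Ideal (MvPolynomial (Fin d) k)) [q.IsPrime] :
    ∃ h e : ℕ, q.height = h ∧ ringKrullDim (MvPolynomial (Fin d) k ⧸ q) = (e : WithBot ℕ∞) ∧
      h + e = d := by
  obtain ⟨h, e, d', hh, he, hd, hsum⟩ := Groth.L22.AffineDim.dim_formula k _ q
  rw [MvPolynomial.ringKrullDim_of_isNoetherianRing, ringKrullDim_eq_zero_of_field, Nat.card_fin,
    zero_add] at hd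
  have : d = d' := by exact_mod_cast hd
  exact ⟨h, e, hh, he, by omega⟩

variable {A : Type u} [CommRing A]

/-- Primes containing a regular sequence have height at least its length. -/
theorem height_ge_of_regular [IsRegularRing A] {c : ℕ} (f : Fin c → A) (Q : Ideal A) [Q.IsPrime]
    (hreg : IsRegular (Localization.AtPrime Q) (List.ofFn (algebraMap A (Localization.AtPrime Q) ∘ f)))
    (q : Ideal A) [q.IsPrime] (hfq : Ideal.span (Set.range f) ≤ q) (hqQ : q ≤ Q) :
    (c : ℕ∞) ≤ q.height := by
  let R := Localization.AtPrime Q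
  haveI : IsRegularLocalRing R := IsRegularRing.isRegularLocalRing_localization Q
  have hdisj : Disjoint (Q.primeCompl : Set A) (q : Set A) :=
    Set.disjoint_left.2 fun x hx hxp => hx (hqQ hxp)
  haveI := IsLocalization.isPrime_of_isPrime_disjoint Q.primeCompl R q ‹_› hdisj
  let q' := q.map (algebraMap A R)
  let l := List.ofFn (algebraMap A R ∘ f)
  have hl : Ideal.ofList l ≤ q' := by
    rw [Groth.L07.RegIdeal.ofList_ofFn, Ideal.span_le]
    rintro _ ⟨i, rfl⟩
    exact Ideal.mem_map_of_mem _ (hfq (Ideal.subset_span ⟨i, rfl⟩))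
  have hlm : ∀ r ∈ l, r ∈ maximalIdeal R := fun r hr =>
    le_maximalIdeal (Ideal.IsPrime.ne_top ‹q'.IsPrime›) (hl (Ideal.subset_span hr))
  have h1 := Groth.L04.supportDim_quotient_ofList_add hreg.toIsWeaklyRegular hlm
  have h2 := Groth.L04.height_add_ringKrullDim_quotient q'
  rw [Module.supportDim_self_eq_ringKrullDim,
    Module.supportDim_eq_of_equiv (Submodule.quotEquivOfEq _ (Ideal.ofList l) (by rw [smul_eq_mul, Ideal.mul_top])),
    Module.supportDim_quotient_eq_ringKrullDim] at h1
  have h3 : ringKrullDim (R ⧸ q') ≤ ringKrullDim (R ⧸ Ideal.ofList l) :=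
    ringKrullDim_le_of_surjective (Ideal.Quotient.factor hl) (Ideal.Quotient.factor_surjective hl)
  have h4 : ringKrullDim (R ⧸ q') + (c : WithBot ℕ∞) ≤ ringKrullDim (R ⧸ q') + (q'.height : WithBot ℕ∞) := by
    rw [h2, ← h1]
    refine (add_le_add_left h3 _).trans_eq ?_
    simp [l]
  rw [← IsLocalization.height_map_of_disjoint (S := R) Q.primeCompl q hdisj]
  obtain ⟨e, he⟩ : ∃ e : ℕ, ringKrullDim (R ⧸ q') = (e : WithBot ℕ∞) := by
    haveI := Groth.L01.isLocalRing_quotient (Ideal.IsPrime.ne_top ‹q'.IsPrime›)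
    obtain ⟨e, he⟩ := Groth.L01.exists_dim_eq_nat (R := R ⧸ q')
    exact ⟨e, he⟩
  rw [he] at h4
  have : (c : WithBot ℕ∞) ≤ ((q'.height : ℕ∞) : WithBot ℕ∞) := by
    cases hq : (q'.height) with
    | top => exact le_top
    | coe hh =>
      rw [hq] at h4
      have : e + c ≤ e + hh := by exact_mod_cast h4
      exact_mod_cast (show c ≤ hh by omega)
  exact_mod_cast this

/-- As many elements as the height form a regular sequence. -/
theorem isRegular_of_height [IsRegularRing A] {c : ℕ} (f : Fin c → A) (Q : Ideal A) [Q.IsPrime]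
    (hfQ : Ideal.span (Set.range f) ≤ Q)
    (hht : ∀ (q : Ideal A) [q.IsPrime], Ideal.span (Set.range f) ≤ q → q ≤ Q → (c : ℕ∞) ≤ q.height) :
    IsRegular (Localization.AtPrime Q) (List.ofFn (algebraMap A (Localization.AtPrime Q) ∘ f)) := by
  let R := Localization.AtPrime Q
  haveI : IsRegularLocalRing R := IsRegularRing.isRegularLocalRing_localization Q
  let l := List.ofFn (algebraMap A R ∘ f)
  have hl : Ideal.ofList l = (Ideal.span (Set.range f)).map (algebraMap A R) := by
    rw [Groth.L07.RegIdeal.ofList_ofFn, Ideal.map_span, ← Set.range_comp]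
  have hlne : (Ideal.span (Set.range f)).map (algebraMap A R) ≤ maximalIdeal R := by
    rw [← Localization.AtPrime.map_eq_maximalIdeal]
    exact Ideal.map_mono hfQ
  have hlm : ∀ r ∈ l, r ∈ maximalIdeal R := fun r hr => hlne (hl ▸ Ideal.subset_span hr)
  obtain ⟨D, hD⟩ := Groth.L01.exists_dim_eq_nat (R := R)
  have key : ∀ P : PrimeSpectrum (R ⧸ Ideal.ofList l),
      ∃ e h : ℕ, ringKrullDim (R ⧸ P.asIdeal.comap (Ideal.Quotient.mk _)) = (e : WithBot ℕ∞) ∧
        c ≤ h ∧ e + h = D := by
    intro P
    let P' := P.asIdeal.comap (Ideal.Quotient.mk (Ideal.ofList l))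
    have hlP : Ideal.ofList l ≤ P' := fun x hx => by
      rw [Ideal.mem_comap, Ideal.Quotient.eq_zero_iff_mem.mpr hx]; exact zero_mem _
    let q := P'.comap (algebraMap A R)
    have hfq : Ideal.span (Set.range f) ≤ q := Ideal.map_le_iff_le_comap.mp (hl ▸ hlP)
    have hqQ : q ≤ Q := by
      refine (Ideal.comap_mono (le_maximalIdeal (Ideal.IsPrime.ne_top inferInstance))).trans ?_
      exact (IsLocalization.AtPrime.under_maximalIdeal R Q).le
    have hdisj : Disjoint (Q.primeCompl : Set A) (q : Set A) :=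
      Set.disjoint_left.2 fun x hx hxp => hx (hqQ hxp)
    have hh := hht q hfq hqQ
    rw [← IsLocalization.height_map_of_disjoint (S := R) Q.primeCompl q hdisj,
      show q.map (algebraMap A R) = P' from IsLocalization.map_under Q.primeCompl R P'] at hh
    have h2 := Groth.L04.height_add_ringKrullDim_quotient P'
    haveI := Groth.L01.isLocalRing_quotient (Ideal.IsPrime.ne_top (inferInstance : P'.IsPrime))
    obtain ⟨e, he⟩ := Groth.L01.exists_dim_eq_nat (R := R ⧸ P')
    rw [he, hD] at h2
    haveI hP'p : P'.IsPrime := inferInstance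
    cases hP : Ideal.height P' with
    | top =>
      rw [hP] at h2
      have h2' : ((e : ℕ∞) + ⊤ : ℕ∞) = (D : ℕ∞) := WithBot.coe_injective
        (by rw [WithBot.coe_add, WithBot.coe_natCast, WithBot.coe_natCast]; exact h2)
      simp at h2'
    | coe h =>
      rw [hP] at h2 hh
      exact ⟨e, h, he, by exact_mod_cast hh, by exact_mod_cast h2⟩
  refine ⟨Groth.L07.RegQuot.isWeaklyRegular_of_dim l hlm ?_, fun htop => ?_⟩
  · haveI : Nonempty (PrimeSpectrum (R ⧸ Ideal.ofList l)) := by
      haveI := Groth.L01.isLocalRing_quotient (R := R) (I := Ideal.ofList l)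
        (fun h => (maximalIdeal.isMaximal R).ne_top (top_le_iff.mp (h ▸ hl ▸ hlne)))
      exact ⟨⟨maximalIdeal _, (maximalIdeal.isMaximal _).isPrime⟩⟩
    have hcD : c ≤ D := by
      obtain ⟨e, h, -, hch, hsum⟩ := key (Classical.arbitrary _)
      omega
    have h5 : ringKrullDim (R ⧸ Ideal.ofList l) ≤ ((D - c : ℕ) : WithBot ℕ∞) := by
      refine dim_le_of_primes (Ideal.Quotient.mk _)
        (PrimeSpectrum.comap_injective_of_surjective _ Ideal.Quotient.mk_surjective) _ fun P => ?_
      obtain ⟨e, h, he, hch, hsum⟩ := key P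
      rw [he]
      exact_mod_cast (show e ≤ D - c by omega)
    refine (add_le_add_left h5 _).trans ?_
    rw [hD]
    simp only [l, List.length_ofFn]
    exact_mod_cast (show D - c + c ≤ D by omega)
  · rw [smul_eq_mul, Ideal.mul_top] at htop
    exact (maximalIdeal.isMaximal R).ne_top (top_le_iff.mp (htop.le.trans (hl ▸ hlne)))

/-- An ideal generated by as many elements as its height is regular. -/
theorem isRegularIdeal_of_height [IsRegularRing A] {c : ℕ} (f : Fin c → A) (Q : Ideal A) [Q.IsPrime]
    (hfQ : Ideal.span (Set.range f) ≤ Q)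
    (hht : ∀ (q : Ideal A) [q.IsPrime], Ideal.span (Set.range f) ≤ q → q ≤ Q → (c : ℕ∞) ≤ q.height) :
    CInt.IsRegularIdeal ((Ideal.span (Set.range f)).map (algebraMap A (Localization.AtPrime Q))) :=
  ⟨_, isRegular_of_height f Q hfQ hht,
    by rw [Groth.L07.RegIdeal.ofList_ofFn, Ideal.map_span, ← Set.range_comp]⟩

/-- Heights spread from a prime to a neighbourhood. -/
theorem exists_dim_bound {c : ℕ} (J : Ideal (MvPolynomial (Fin d) k))
    (Q : Ideal (MvPolynomial (Fin d) k)) [Q.IsPrime]
    (hht : ∀ (q : Ideal (MvPolynomial (Fin d) k)) [q.IsPrime], J ≤ q → q ≤ Q → (c : ℕ∞) ≤ q.height) :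
    ∃ g ∉ Q, ∀ (q : Ideal (MvPolynomial (Fin d) k)) [q.IsPrime], J ≤ q → g ∉ q →
      ringKrullDim (MvPolynomial (Fin d) k ⧸ q) + (c : WithBot ℕ∞) ≤ (d : WithBot ℕ∞) := by
  classical
  have hfin : {m ∈ J.minimalPrimes | ¬ m ≤ Q}.Finite :=
    (Ideal.finite_minimalPrimes_of_isNoetherianRing _ J).subset fun m hm => hm.1
  choose! x hx hxQ using fun m (hm : m ∈ hfin.toFinset) =>
    SetLike.not_le_iff_exists.mp (hfin.mem_toFinset.mp hm).2
  refine ⟨∏ m ∈ hfin.toFinset, x m, fun hmem => ?_, fun q _ hJq hgq => ?_⟩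
  · obtain ⟨m, hm, hxm⟩ := (Ideal.IsPrime.prod_mem_iff (p := Q)).mp hmem
    exact hxQ m hm hxm
  obtain ⟨m, hm, hmq⟩ := Ideal.exists_minimalPrimes_le hJq
  have hmQ : m ≤ Q := by
    by_contra hne
    have hm' : m ∈ hfin.toFinset := hfin.mem_toFinset.mpr ⟨hm, hne⟩
    exact hgq (Ideal.mem_of_dvd _ (Finset.dvd_prod_of_mem x hm') (hmq (hx m hm')))
  haveI := hm.1.1
  have h1 : (c : ℕ∞) ≤ q.height := (hht m hm.1.2 hmQ).trans (Ideal.height_mono hmq)
  obtain ⟨h, e, hh, he, hsum⟩ := exists_height_add q
  rw [hh] at h1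
  rw [he]
  have : c ≤ h := by exact_mod_cast h1
  exact_mod_cast (show e + c ≤ d by omega)

end Groth.L07.CIField
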