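import Groth.Agent.L07.AvramovDiagram

/-! Avramov's theorem: complete intersections along flat local homomorphisms. -/

namespace Groth.L07.Avramov

open IsLocalRing

set_option linter.style.haveILetI false
set_option maxSynthPendingDepth 3

universe u

/-- Invariance under isomorphisms. -/
theorem isCompleteIntersection_of_ringEquiv {A B : Type u} [CommRing A] [CommRing B] [IsLocalRing A]
    [IsNoetherianRing A] [IsLocalRing B] [IsNoetherianRing B] (e : A ≃+* B)
    (h : Pi1.IsCompleteIntersection A) : Pi1.IsCompleteIntersection B := by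
  obtain ⟨C, _, hC, rs, hrs, hreg, ⟨E⟩⟩ := h
  obtain ⟨F⟩ := Groth.L07.RegQuot.exists_completionQuotEquiv e.toRingHom e.surjective
  have hker : (RingHom.ker e.toRingHom).map (algebraMap A (AdicCompletion (maximalIdeal A) A)) = ⊥ := by
    rw [show RingHom.ker e.toRingHom = ⊥ from (RingHom.injective_iff_ker_eq_bot _).mp e.injective, Ideal.map_bot]
  refine ⟨C, inferInstance, hC, rs, hrs, hreg, ⟨?_⟩⟩
  exact (F.symm.trans ((Ideal.quotEquivOfEq hker).trans (RingEquiv.quotientBot _))).trans E

theorem isCompleteIntersection_congr {A B : Type u} [CommRing A] [CommRing B] [IsLocalRing A]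
    [IsNoetherianRing A] [IsLocalRing B] [IsNoetherianRing B] (e : A ≃+* B) :
    Pi1.IsCompleteIntersection A ↔ Pi1.IsCompleteIntersection B :=
  ⟨isCompleteIntersection_of_ringEquiv e, isCompleteIntersection_of_ringEquiv e.symm⟩

variable (A : Type u) [CommRing A] [IsLocalRing A] [IsNoetherianRing A]

/-- The property is read on the completion. -/
theorem isCompleteIntersection_completion_iff :
    Pi1.IsCompleteIntersection (AdicCompletion (maximalIdeal A) A) ↔ Pi1.IsCompleteIntersection A := by
  let Ah := AdicCompletion (maximalIdeal A) A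
  haveI : IsNoetherianRing Ah := Groth.L01.AnalUnram.isNoetherianRing_completion A
  let e : AdicCompletion (maximalIdeal A) A ≃+* AdicCompletion (maximalIdeal Ah) Ah :=
    (AdicCompletion.ofAlgEquiv (maximalIdeal Ah)).toRingEquiv
  constructor
  · rintro ⟨C, _, hC, rs, hrs, hreg, ⟨E⟩⟩
    exact ⟨C, inferInstance, hC, rs, hrs, hreg, ⟨e.trans E⟩⟩
  · rintro ⟨C, _, hC, rs, hrs, hreg, ⟨E⟩⟩
    exact ⟨C, inferInstance, hC, rs, hrs, hreg, ⟨e.symm.trans E⟩⟩

/-- Avramov's theorem. -/
theorem isCompleteIntersection_iff {B : Type u} [CommRing B] [IsLocalRing B] [IsNoetherianRing B]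
    [Algebra A B] [IsLocalHom (algebraMap A B)] [Module.Flat A B] :
    Pi1.IsCompleteIntersection B ↔
      (Pi1.IsCompleteIntersection A ∧ Pi1.IsCompleteIntersection (EGA4.FibRing A B)) := by
  let Ah := AdicCompletion (maximalIdeal A) A
  let Bh := AdicCompletion (maximalIdeal B) B
  haveI : IsNoetherianRing Ah := Groth.L01.AnalUnram.isNoetherianRing_completion A
  haveI : IsNoetherianRing Bh := Groth.L01.AnalUnram.isNoetherianRing_completion B
  have hmB : (maximalIdeal B).map (algebraMap B Bh) = maximalIdeal Bh :=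
    Groth.L01.AnalUnram.completion_map_maximalIdeal B
  have hmA : (maximalIdeal A).map (algebraMap A Ah) = maximalIdeal Ah :=
    Groth.L01.AnalUnram.completion_map_maximalIdeal A
  obtain ⟨φ, hφ, hφm⟩ := Groth.L01.CompletionExt.exists_extend ((algebraMap B Bh).comp (algebraMap A B))
    (by rw [← Ideal.map_map, ← hmB]; exact Ideal.map_mono (IsLocalRing.map_maximalIdeal_le _))
  letI : Algebra Ah Bh := φ.toAlgebra
  haveI : IsScalarTower A Ah Bh := IsScalarTower.of_algebraMap_eq fun a => by
    show algebraMap A Bh a = φ (algebraMap A Ah a)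
    rw [hφ, IsScalarTower.algebraMap_apply A B Bh]
    rfl
  haveI : IsLocalHom (algebraMap Ah Bh) :=
    ((IsLocalRing.local_hom_TFAE (algebraMap Ah Bh)).out 0 2).mpr hφm
  haveI : Module.Flat A Bh := Module.Flat.trans A B Bh
  haveI : Module.Flat Ah Bh := by
    refine Groth.L20.flat_of_lTensor_maximalIdeal_injective Bh ?_
    let ι : maximalIdeal A →ₗ[A] maximalIdeal Ah :=
      ((Algebra.linearMap A Ah) ∘ₗ (maximalIdeal A).subtype).codRestrict ((maximalIdeal Ah).restrictScalars A)
        fun a => hmA.le (Ideal.mem_map_of_mem _ a.2)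
    let Φ : TensorProduct A Bh (maximalIdeal A) →ₗ[A] TensorProduct Ah Bh (maximalIdeal Ah) :=
      TensorProduct.lift <| LinearMap.mk₂ A (fun b a => b ⊗ₜ[Ah] ι a) (fun b b' a => TensorProduct.add_tmul b b' _)
        (fun c b a => (TensorProduct.smul_tmul' c b _).symm) (fun b a a' => by rw [map_add, TensorProduct.tmul_add])
        (fun c b a => by rw [map_smul, TensorProduct.tmul_smul])
    have hΦ : ∀ b a, Φ (b ⊗ₜ[A] a) = b ⊗ₜ[Ah] ι a := fun b a => rfl
    have hsurj : Function.Surjective Φ := by
      intro z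
      induction z using TensorProduct.induction_on with
      | zero => exact ⟨0, map_zero _⟩
      | tmul b y =>
        obtain ⟨y, hy⟩ := y
        have key : ∀ y, (hy : y ∈ Ideal.span (algebraMap A Ah '' (maximalIdeal A : Set A))) → ∀ b : Bh,
            ∃ w, Φ w = b ⊗ₜ[Ah] (⟨y, hmA.le hy⟩ : maximalIdeal Ah) := by
          intro y hy
          induction hy using Submodule.span_induction with
          | mem y hy =>
            obtain ⟨a, ha, rfl⟩ := hy
            exact fun b => ⟨b ⊗ₜ[A] ⟨a, ha⟩, rfl⟩
          | zero => exact fun b => ⟨0, by rw [map_zero]; exact (TensorProduct.tmul_zero _ _).symm⟩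
          | add y z _ _ h1 h2 =>
            intro b
            obtain ⟨w1, hw1⟩ := h1 b
            obtain ⟨w2, hw2⟩ := h2 b
            exact ⟨w1 + w2, by rw [map_add, hw1, hw2, ← TensorProduct.tmul_add]; rfl⟩
          | smul c y _ h1 =>
            intro b
            obtain ⟨w, hw⟩ := h1 (c • b)
            exact ⟨w, by rw [hw, TensorProduct.smul_tmul]; rfl⟩
        exact key y (hmA.ge hy) b
      | add a b ha hb =>
        obtain ⟨u, rfl⟩ := ha; obtain ⟨v, rfl⟩ := hb
        exact ⟨u + v, map_add _ _ _⟩
    have hcomp : ∀ w, TensorProduct.rid Ah Bh ((maximalIdeal Ah).subtype.lTensor Bh (Φ w)) =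
        TensorProduct.rid A Bh ((maximalIdeal A).subtype.lTensor Bh w) := by
      intro w
      induction w using TensorProduct.induction_on with
      | zero => simp
      | tmul b a =>
        rw [hΦ]
        simp only [LinearMap.lTensor_tmul, TensorProduct.rid_tmul, ι]
        exact algebraMap_smul Ah (a : A) b
      | add a b ha hb => simp only [map_add, ha, hb]
    rw [injective_iff_map_eq_zero]
    intro z hz
    obtain ⟨w, rfl⟩ := hsurj z
    have hinj : Function.Injective ((maximalIdeal A).subtype.lTensor Bh) :=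
      Module.Flat.lTensor_preserves_injective_linearMap _ Subtype.val_injective
    have h1 := hcomp w
    rw [hz, map_zero, eq_comm, LinearEquiv.map_eq_zero_iff] at h1
    rw [(injective_iff_map_eq_zero _).mp hinj w h1, map_zero]
  have hfib : EGA4.mB Ah Bh = (EGA4.mB A B).map (algebraMap B Bh) := by
    show (maximalIdeal Ah).map (algebraMap Ah Bh) = _
    rw [← hmA, Ideal.map_map, Ideal.map_map, ← IsScalarTower.algebraMap_eq, ← IsScalarTower.algebraMap_eq]
  haveI : IsNoetherianRing (EGA4.FibRing A B) := inferInstanceAs (IsNoetherianRing (B ⧸ EGA4.mB A B))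
  haveI : IsNoetherianRing (EGA4.FibRing Ah Bh) := inferInstanceAs (IsNoetherianRing (Bh ⧸ EGA4.mB Ah Bh))
  obtain ⟨F⟩ := Groth.L07.RegQuot.exists_completionQuotEquiv (A := B) (Ideal.Quotient.mk (EGA4.mB A B))
    Ideal.Quotient.mk_surjective
  haveI := Groth.L01.AnalUnram.isNoetherianRing_completion (EGA4.FibRing A B)
  let e : EGA4.FibRing Ah Bh ≃+* AdicCompletion (maximalIdeal (EGA4.FibRing A B)) (EGA4.FibRing A B) :=
    (Ideal.quotEquivOfEq (hfib.trans (by rw [Ideal.mk_ker]))).trans F
  rw [← isCompleteIntersection_completion_iff B, ← isCompleteIntersection_completion_iff A,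
    Groth.L07.AvramovDiagram.complete_case (A := Ah) (B := Bh), isCompleteIntersection_congr e,
    isCompleteIntersection_completion_iff (EGA4.FibRing A B)]

end Groth.L07.Avramov
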