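import Groth.Agent.L22.AffineDim
import Mathlib.RingTheory.ZariskisMainTheorem
import Mathlib.RingTheory.RingHom.QuasiFinite
import Mathlib.RingTheory.NoetherNormalization
import Mathlib.RingTheory.KrullDimension.Polynomial
import Mathlib.RingTheory.TensorProduct.MvPolynomial

/-! Semicontinuity of fibre dimension, algebraic part. -/

namespace Groth.L07.FibreDim

open TensorProduct PrimeSpectrum

set_option linter.style.haveILetI false

universe u

/-- Fibres of quasi-finite algebras do not raise the dimension. -/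
theorem krullDim_fibre_le {R S T : Type u} [CommRing R] [CommRing S] [CommRing T] [Algebra R S]
    [Algebra S T] [Algebra R T] [IsScalarTower R S T] [Algebra.QuasiFinite S T] (p : PrimeSpectrum R) :
    ringKrullDim (p.asIdeal.Fiber T) ≤ ringKrullDim (p.asIdeal.Fiber S) := by
  rw [ringKrullDim, ringKrullDim,
    ← Order.krullDim_eq_of_orderIso (preimageOrderIsoFiber R T p),
    ← Order.krullDim_eq_of_orderIso (preimageOrderIsoFiber R S p)]
  refine Order.krullDim_le_of_strictMono
    (fun q => ⟨comap (algebraMap S T) q.1, by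
      have hq : comap (algebraMap R T) q.1 = p := q.2
      simp only [Set.mem_preimage, Set.mem_singleton_iff]
      refine Eq.trans ?_ hq
      exact (congrArg (fun φ : R →+* T => comap φ (q : PrimeSpectrum T))
        (IsScalarTower.algebraMap_eq R S T)).symm⟩) fun q q' h => ?_
  have hle : q.1.asIdeal ≤ q'.1.asIdeal := h.le
  refine lt_of_le_of_ne (Ideal.comap_mono hle) fun he => h.ne (Subtype.ext (PrimeSpectrum.ext ?_))
  exact Algebra.QuasiFinite.eq_of_le_of_under_eq (R := S) _ _ hle
    (congrArg (fun z : {z : PrimeSpectrum S // z ∈ comap (algebraMap R S) ⁻¹' {p}} => z.1.asIdeal) he)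

/-- The fibres of affine space. -/
theorem ringKrullDim_fibre_mvPolynomial {R : Type u} [CommRing R] (p : PrimeSpectrum R) (s : ℕ) :
    ringKrullDim (p.asIdeal.Fiber (MvPolynomial (Fin s) R)) = s := by
  rw [ringKrullDim_eq_of_ringEquiv
    (MvPolynomial.algebraTensorAlgEquiv R p.asIdeal.ResidueField (σ := Fin s)).toRingEquiv,
    MvPolynomial.ringKrullDim_of_isNoetherianRing, ringKrullDim_eq_zero_of_field, Nat.card_fin,
    zero_add]

/-- Quasi-finiteness spreads to a principal open. -/
theorem exists_away_quasiFinite {S A : Type u} [CommRing S] [CommRing A] [Algebra S A]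
    [Algebra.FiniteType S A] (P : Ideal A) [P.IsPrime] [Algebra.QuasiFiniteAt S P] :
    ∃ r ∉ P, Algebra.QuasiFinite S (Localization.Away r) := by
  haveI : Algebra.WeaklyQuasiFiniteAt S P := inferInstance
  obtain ⟨S', hS', r, hr, H⟩ :=
    Algebra.QuasiFiniteAt.exists_fg_and_exists_notMem_and_awayMap_bijective (R := S) P
  haveI : Module.Finite S S' := ⟨(Submodule.fg_top _).mpr hS'⟩
  haveI : Algebra.QuasiFinite S (Localization.Away r) := .trans _ S' _
  exact ⟨r.1, hr, .of_surjective_algHom (Localization.awayMapₐ S'.val r) H.2⟩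

theorem exists_scale {R : Type u} [CommRing R] (p : Ideal R) [p.IsPrime] (s : ℕ) (r : Fin s → R)
    (hr : ∀ i, r i ∉ p) :
    Function.Surjective (MvPolynomial.aeval (fun i => MvPolynomial.C (algebraMap R p.ResidueField (r i)) *
      MvPolynomial.X i) : MvPolynomial (Fin s) p.ResidueField →ₐ[p.ResidueField]
        MvPolynomial (Fin s) p.ResidueField) := by
  intro f
  refine ⟨MvPolynomial.aeval (fun i => MvPolynomial.C (algebraMap R p.ResidueField (r i))⁻¹ *
    MvPolynomial.X i) f, ?_⟩
  rw [← AlgHom.comp_apply]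
  conv_rhs => rw [← AlgHom.id_apply (R := p.ResidueField) f]
  congr 1
  refine MvPolynomial.algHom_ext fun i => ?_
  have h0 : algebraMap R p.ResidueField (r i) ≠ 0 := fun h =>
    hr i (Ideal.algebraMap_residueField_eq_zero.mp h)
  simp only [AlgHom.comp_apply, MvPolynomial.aeval_X, map_mul, MvPolynomial.aeval_C, AlgHom.id_apply]
  rw [← mul_assoc, MvPolynomial.algebraMap_eq, ← map_mul, inv_mul_cancel₀ h0, map_one, one_mul]

/-- Near a point where the fibre has dimension at most `n` there is a quasi-finite map to affine space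
of dimension at most `n`. -/
theorem exists_quasiFinite_mvPolynomial {R A : Type u} [CommRing R] [CommRing A] [Algebra R A]
    [Algebra.FiniteType R A] (P : PrimeSpectrum A) (n : ℕ)
    (h : ringKrullDim ((comap (algebraMap R A) P).asIdeal.Fiber A) ≤ n) :
    ∃ r ∉ P.asIdeal, ∃ s ≤ n, ∃ ψ : MvPolynomial (Fin s) R →ₐ[R] A,
      ((algebraMap A (Localization.Away r)).comp ψ.toRingHom).QuasiFinite := by
  classical
  let p := comap (algebraMap R A) P
  let κ := p.asIdeal.ResidueField
  haveI : Nontrivial (p.asIdeal.Fiber A) :=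
    PrimeSpectrum.nonempty_iff_nontrivial.mp ⟨(preimageEquivFiber R A p) ⟨P, rfl⟩⟩
  obtain ⟨s, g, hg, hgfin⟩ := exists_finite_inj_algHom_of_fg κ (p.asIdeal.Fiber A)
  have hs : s ≤ n := by
    letI := g.toRingHom.toAlgebra
    haveI : Module.Finite (MvPolynomial (Fin s) κ) (p.asIdeal.Fiber A) := hgfin
    have h1 := Groth.L22.AffineDim.ringKrullDim_eq_of_isIntegral
      (R := MvPolynomial (Fin s) κ) (S := p.asIdeal.Fiber A) hg
    rw [MvPolynomial.ringKrullDim_of_isNoetherianRing, ringKrullDim_eq_zero_of_field, Nat.card_fin,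
      zero_add] at h1
    rw [h1] at h
    exact_mod_cast h
  choose r hr a ha using fun i => Ideal.Fiber.exists_smul_eq_one_tmul p.asIdeal (g (MvPolynomial.X i))
  let ψ : MvPolynomial (Fin s) R →ₐ[R] A := MvPolynomial.aeval a
  let h' : p.asIdeal.Fiber (MvPolynomial (Fin s) R) →ₐ[κ] p.asIdeal.Fiber A :=
    Algebra.TensorProduct.map (AlgHom.id κ κ) ψ
  let σ : MvPolynomial (Fin s) κ →ₐ[κ] MvPolynomial (Fin s) κ :=
    MvPolynomial.aeval (fun i => MvPolynomial.C (algebraMap R κ (r i)) * MvPolynomial.X i)
  let e := MvPolynomial.algebraTensorAlgEquiv R κ (σ := Fin s)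
  have he : h'.comp e.symm.toAlgHom = g.comp σ := by
    refine MvPolynomial.algHom_ext fun i => ?_
    simp only [AlgHom.comp_apply, AlgEquiv.coe_toAlgHom, e, MvPolynomial.algebraTensorAlgEquiv_symm_X, σ,
      MvPolynomial.aeval_X, h', Algebra.TensorProduct.map_tmul, AlgHom.id_apply, ψ]
    rw [map_one, ← ha i, MvPolynomial.C_mul', map_smul, algebraMap_smul]
  have hfin : h'.toRingHom.Finite := by
    have h1 : (h'.comp e.symm.toAlgHom).toRingHom.Finite := by
      rw [he]
      exact RingHom.Finite.comp hgfin (RingHom.Finite.of_surjective σ.toRingHom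
        (exists_scale p.asIdeal s r hr))
    have h2 : h'.toRingHom = (h'.comp e.symm.toAlgHom).toRingHom.comp e.toAlgHom.toRingHom := by
      ext x <;> simp
    rw [h2]
    exact h1.comp (RingHom.Finite.of_surjective _ e.surjective)
  letI := h'.toRingHom.toAlgebra
  haveI : Module.Finite (p.asIdeal.Fiber (MvPolynomial (Fin s) R)) (p.asIdeal.Fiber A) := hfin
  letI := ψ.toRingHom.toAlgebra
  haveI : IsScalarTower R (MvPolynomial (Fin s) R) A :=
    IsScalarTower.of_algebraMap_eq fun x => (ψ.commutes x).symm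
  haveI : Algebra.FiniteType (MvPolynomial (Fin s) R) A := Algebra.FiniteType.of_restrictScalars_finiteType R _ _
  let Q := comap (algebraMap (MvPolynomial (Fin s) R) A) P
  have hQp : comap (algebraMap R (MvPolynomial (Fin s) R)) Q = p := by
    show _ = comap (algebraMap R A) P
    rw [IsScalarTower.algebraMap_eq R (MvPolynomial (Fin s) R) A]
    rfl
  let F := comap (algebraMap (MvPolynomial (Fin s) R) A) ⁻¹' {Q}
  have hF : ∀ q ∈ F, q ∈ comap (algebraMap R A) ⁻¹' {p} := fun q hq => by
    rw [Set.mem_preimage, Set.mem_singleton_iff] at hq ⊢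
    rw [IsScalarTower.algebraMap_eq R (MvPolynomial (Fin s) R) A, PrimeSpectrum.comap_comp_apply, hq, hQp]
  let eA := preimageHomeomorphFiber R A p
  let j : F → PrimeSpectrum (p.asIdeal.Fiber A) := fun q => eA ⟨q.1, hF q.1 q.2⟩
  have hj : Topology.IsEmbedding j :=
    eA.isEmbedding.comp (Topology.IsEmbedding.inclusion hF)
  let eS := preimageEquivFiber R (MvPolynomial (Fin s) R) p
  have hjT : ∀ q : F, comap h'.toRingHom (j q) = eS ⟨Q, hQp⟩ := by
    intro q
    refine eS.symm.injective (Subtype.ext ?_)
    rw [Equiv.symm_apply_apply]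
    have hq : comap (algebraMap (MvPolynomial (Fin s) R) A) q.1 = Q := q.2
    have hq2 : (eA.symm (j q)).1 = q.1 := congrArg Subtype.val (eA.symm_apply_apply _)
    refine Eq.trans ?_ hq
    conv_rhs => rw [← hq2]
    show comap Algebra.TensorProduct.includeRight.toRingHom (comap h'.toRingHom (j q)) =
      comap ψ.toRingHom (comap Algebra.TensorProduct.includeRight.toRingHom (j q))
    rw [← PrimeSpectrum.comap_comp_apply, ← PrimeSpectrum.comap_comp_apply]
    refine congrArg (fun (φ : MvPolynomial (Fin s) R →+* p.asIdeal.Fiber A) => comap φ (j q)) ?_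
    ext x <;> simp [h']
    exact (Algebra.TensorProduct.algebraMap_apply' x).symm
  have hdisc : DiscreteTopology F := by
    have hd := Algebra.QuasiFinite.isDiscrete_comap_preimage_singleton
      (R := p.asIdeal.Fiber (MvPolynomial (Fin s) R)) (S := p.asIdeal.Fiber A) (eS ⟨Q, hQp⟩)
    haveI := (hd.mono (t := Set.range j) (by rintro _ ⟨q, rfl⟩; exact hjT q)).to_subtype
    exact hj.toHomeomorph.isEmbedding.discreteTopology
  haveI : Algebra.QuasiFiniteAt (MvPolynomial (Fin s) R) P.asIdeal :=
    Algebra.QuasiFiniteAt.of_isOpen_singleton_fiber P (isOpen_discrete _)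
  obtain ⟨r', hr', hqf⟩ := exists_away_quasiFinite (S := MvPolynomial (Fin s) R) P.asIdeal
  refine ⟨r', hr', s, hs, ψ, ?_⟩
  exact (RingHom.quasiFinite_algebraMap).mpr hqf

/-- Near a point, fibre dimensions are bounded by the fibre dimension at the point. -/
theorem exists_fibre_dim_le {R A : Type u} [CommRing R] [CommRing A] [Algebra R A]
    [Algebra.FiniteType R A] (P : PrimeSpectrum A) (n : ℕ)
    (h : ringKrullDim ((comap (algebraMap R A) P).asIdeal.Fiber A) ≤ n) :
    ∃ r ∉ P.asIdeal, ∀ (T : Type u) [CommRing T] [Algebra A T] [Algebra R T] [IsScalarTower R A T]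
      [IsLocalization.Away r T] (q : PrimeSpectrum R), ringKrullDim (q.asIdeal.Fiber T) ≤ n := by
  obtain ⟨r, hr, s, hs, ψ, hψ⟩ := exists_quasiFinite_mvPolynomial P n h
  refine ⟨r, hr, fun T _ _ _ _ _ q => ?_⟩
  let S := MvPolynomial (Fin s) R
  letI : Algebra S (Localization.Away r) := ((algebraMap A (Localization.Away r)).comp ψ.toRingHom).toAlgebra
  haveI : Algebra.QuasiFinite S (Localization.Away r) := hψ
  haveI : IsScalarTower R S (Localization.Away r) := IsScalarTower.of_algebraMap_eq fun x => by
    show _ = algebraMap A (Localization.Away r) (ψ (algebraMap R S x))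
    rw [ψ.commutes, ← IsScalarTower.algebraMap_apply]
  let e : T ≃ₐ[R] Localization.Away r :=
    (IsLocalization.algEquiv (Submonoid.powers r) T (Localization.Away r)).restrictScalars R
  rw [ringKrullDim_eq_of_ringEquiv
    (Algebra.TensorProduct.congr (AlgEquiv.refl (R := q.asIdeal.ResidueField)) e).toRingEquiv]
  refine (krullDim_fibre_le (S := S) (T := Localization.Away r) q).trans ?_
  rw [ringKrullDim_fibre_mvPolynomial]
  exact_mod_cast hs

end Groth.L07.FibreDim
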