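import Groth.Agent.L07.WRegLimit
import Mathlib.RingTheory.Localization.AtPrime.Basic
import Mathlib.RingTheory.Localization.Away.Basic
import Mathlib.RingTheory.Localization.Ideal

/-! Spreading out regular sequences from a prime. -/

namespace Groth.L07.RegSeq

open RingTheory.Sequence

universe u

variable {R : Type u} [CommRing R]

theorem exists_mul_mem_of_map_le {I J : Ideal R} (hI : I.FG) (p : Ideal R) [p.IsPrime]
    (S : Type u) [CommRing S] [Algebra R S] [IsLocalization.AtPrime S p]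
    (h : I.map (algebraMap R S) ≤ J.map (algebraMap R S)) :
    ∃ g ∉ p, ∀ y ∈ I, g * y ∈ J := by
  classical
  obtain ⟨T, rfl⟩ := hI
  have : ∀ t ∈ T, ∃ s ∉ p, s * t ∈ J := by
    intro t ht
    obtain ⟨s, hs, hst⟩ := (IsLocalization.algebraMap_mem_map_algebraMap_iff p.primeCompl S J t).mp
      (h (Ideal.mem_map_of_mem _ (Ideal.subset_span ht)))
    exact ⟨s, hs, hst⟩
  choose! s hs hst using this
  refine ⟨∏ t ∈ T, s t, fun h => ?_, fun y hy => ?_⟩
  · obtain ⟨t, ht, hts⟩ := Ideal.IsPrime.prod_mem_iff.mp h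
    exact hs t ht hts
  · refine Submodule.span_induction (p := fun y _ => (∏ t ∈ T, s t) * y ∈ J) ?_ (by simp) ?_ ?_ hy
    · intro t ht
      rw [← Finset.prod_erase_mul _ _ ht, mul_assoc]
      exact J.mul_mem_left _ (hst t ht)
    · intro a b _ _ ha hb; rw [mul_add]; exact add_mem ha hb
    · intro c a _ ha; rw [smul_eq_mul, mul_left_comm]; exact J.mul_mem_left _ ha

/-- A sequence weakly regular at a prime is weakly regular on a basic neighbourhood. -/
theorem exists_away_isWeaklyRegular [IsNoetherianRing R] (l : List R) (p : Ideal R) [p.IsPrime]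
    (S : Type u) [CommRing S] [Algebra R S] [IsLocalization.AtPrime S p]
    (h : IsWeaklyRegular S (l.map (algebraMap R S))) :
    ∃ g ∉ p, ∀ (T : Type u) [CommRing T] [Algebra R T] (g' : R),
      IsLocalization.Away g' T → g ∣ g' → IsWeaklyRegular T (l.map (algebraMap R T)) := by
  classical
  rw [isWeaklyRegular_iff_mem] at h
  have hcol : ∀ i : Fin l.length, ∃ g ∉ p,
      ∀ y : R, l[(i : ℕ)] * y ∈ Ideal.ofList (l.take i) → g * y ∈ Ideal.ofList (l.take i) := by
    intro i
    let J := Ideal.ofList (l.take i)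
    let K : Ideal R := Submodule.comap (LinearMap.mulLeft R l[(i : ℕ)]) J
    have hK : K.map (algebraMap R S) ≤ J.map (algebraMap R S) := by
      rw [Ideal.map_le_iff_le_comap]
      intro y hy
      have h1 := h i (by simp) (algebraMap R S y)
      rw [← List.map_take, ← Ideal.map_ofList, smul_eq_mul, Ideal.mul_top, List.getElem_map,
        smul_eq_mul, ← map_mul] at h1
      exact h1 (Ideal.mem_map_of_mem _ hy)
    obtain ⟨g, hg, hgK⟩ := exists_mul_mem_of_map_le (IsNoetherian.noetherian K) p S hK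
    exact ⟨g, hg, fun y hy => hgK y hy⟩
  choose g hg hgy using hcol
  refine ⟨∏ i, g i, fun h => ?_, fun T _ _ g' _ hdvd => ?_⟩
  · obtain ⟨i, -, hi⟩ := Ideal.IsPrime.prod_mem_iff.mp h
    exact hg i hi
  rw [isWeaklyRegular_iff_mem]
  intro i hi Y hY
  rw [List.length_map] at hi
  rw [← List.map_take, ← Ideal.map_ofList, smul_eq_mul, Ideal.mul_top] at hY ⊢
  obtain ⟨y, s, rfl⟩ := IsLocalization.exists_mk'_eq (Submonoid.powers g') Y
  rw [List.getElem_map, smul_eq_mul, IsLocalization.mul_mk'_eq_mk'_of_mul,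
    IsLocalization.mk'_mem_iff,
    IsLocalization.algebraMap_mem_map_algebraMap_iff (Submonoid.powers g') T] at hY
  rw [IsLocalization.mk'_mem_iff,
    IsLocalization.algebraMap_mem_map_algebraMap_iff (Submonoid.powers g') T]
  obtain ⟨m, hm, hmy⟩ := hY
  refine ⟨g' * m, mul_mem (Submonoid.mem_powers g') hm, ?_⟩
  obtain ⟨c, hc⟩ := (Finset.dvd_prod_of_mem g (Finset.mem_univ (⟨i, hi⟩ : Fin l.length))).trans hdvd
  have := hgy ⟨i, hi⟩ (m * y) (by
    rw [mul_left_comm]; exact hmy)
  rw [hc, show g ⟨i, hi⟩ * c * m * y = c * (g ⟨i, hi⟩ * (m * y)) by ring]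
  exact Ideal.mul_mem_left _ c this

end Groth.L07.RegSeq
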