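import Mathlib.RingTheory.Flat.Equalizer
import Mathlib.RingTheory.Regular.RegularSequence
import Mathlib.RingTheory.LocalRing.ResidueField.Basic
import Mathlib.LinearAlgebra.TensorProduct.Quotient

/-! Closed fibres of transversally regular sequences. -/

namespace Groth.L07.TransFibre

open TensorProduct IsLocalRing

set_option linter.style.haveILetI false

universe u

variable (A C : Type u) [CommRing A] [CommRing C] [Algebra A C]

/-- Regularity on the fibre of a quotient. -/
theorem regular_fibre [IsLocalRing A] {Cb : Type u} [CommRing Cb] (π : C →+* Cb) (hπ : Function.Surjective π)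
    (hker : RingHom.ker π = (maximalIdeal A).map (algebraMap A C)) (l : List C) (g : C) :
    Function.Injective
      (((LinearMap.lsmul C (C ⧸ Ideal.ofList l) g).restrictScalars A).lTensor (ResidueField A)) →
        IsSMulRegular (Cb ⧸ (Ideal.ofList (l.map π) • (⊤ : Submodule Cb Cb))) (π g) := by
  intro hinj
  refine IsSMulRegular.of_right_eq_zero_of_smul fun z hz => ?_
  obtain ⟨z, rfl⟩ := Submodule.mkQ_surjective _ z
  obtain ⟨c, rfl⟩ := hπ z
  rw [Submodule.mkQ_apply] at hz ⊢
  rw [← Submodule.Quotient.mk_smul, Submodule.Quotient.mk_eq_zero, smul_eq_mul, smul_eq_mul, ← map_mul,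
    Ideal.mul_top, ← Ideal.map_ofList, ← Ideal.mem_comap, Ideal.comap_map_of_surjective π hπ,
    ← RingHom.ker_eq_comap_bot, hker] at hz
  rw [Submodule.Quotient.mk_eq_zero, smul_eq_mul, Ideal.mul_top, ← Ideal.map_ofList, ← Ideal.mem_comap,
    Ideal.comap_map_of_surjective π hπ, ← RingHom.ker_eq_comap_bot, hker]
  let N := C ⧸ Ideal.ofList l
  let mN : Submodule A N := maximalIdeal A • ⊤
  let e := TensorProduct.quotTensorEquivQuotSMul N (maximalIdeal A)
  have he : ∀ x : N, (1 : A ⧸ maximalIdeal A) ⊗ₜ[A] x = 0 ↔ x ∈ mN := fun x => by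
    rw [← e.map_eq_zero_iff, show e ((1 : A ⧸ maximalIdeal A) ⊗ₜ[A] x) = Submodule.Quotient.mk x from ?_,
      Submodule.Quotient.mk_eq_zero]
    rw [show (1 : A ⧸ maximalIdeal A) = Ideal.Quotient.mk _ 1 from rfl,
      TensorProduct.quotTensorEquivQuotSMul_mk_tmul, one_smul]
  have hmem : ∀ x : C, (Ideal.Quotient.mk (Ideal.ofList l) x : N) ∈ mN ↔
      x ∈ Ideal.ofList l ⊔ (maximalIdeal A).map (algebraMap A C) := fun x => by
    have h1 : mN = ((maximalIdeal A).map (algebraMap A N)).restrictScalars A := Ideal.smul_top_eq_map _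
    rw [h1, Submodule.restrictScalars_mem,
      show (maximalIdeal A).map (algebraMap A N) =
        ((maximalIdeal A).map (algebraMap A C)).map (Ideal.Quotient.mk (Ideal.ofList l)) by
          rw [Ideal.map_map]; rfl,
      ← Ideal.mem_comap, Ideal.comap_map_of_surjective _ Ideal.Quotient.mk_surjective, ← RingHom.ker_eq_comap_bot,
      Ideal.mk_ker, sup_comm]
  have hinj' : Function.Injective
      (((LinearMap.lsmul C N g).restrictScalars A).lTensor (A ⧸ maximalIdeal A)) := hinj
  refine (hmem c).mp ((he _).mp (hinj' ?_))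
  rw [map_zero, LinearMap.lTensor_tmul]
  exact (he _).mpr ((hmem (g * c)).mpr hz)

/-- `J ∩ 𝔪C = 𝔪J` for flat quotients. -/
theorem mem_smul_of_flat (B : Type u) [CommRing B] [Algebra C B] [Algebra A B] [IsScalarTower A C B]
    [Module.Flat A B] (hsurj : Function.Surjective (algebraMap C B)) (a : Ideal A) (z : C)
    (hz : z ∈ a.map (algebraMap A C)) (hzJ : z ∈ RingHom.ker (algebraMap C B)) :
    z ∈ a.map (algebraMap A C) • RingHom.ker (algebraMap C B) := by
  set J := RingHom.ker (algebraMap C B)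
  let ι : ↥J →ₗ[A] C := (Submodule.subtype J).restrictScalars A
  let π : C →ₗ[A] B := (IsScalarTower.toAlgHom A C B).toLinearMap
  have hex : Function.Exact ι π := fun x =>
    ⟨fun h => ⟨⟨x, h⟩, rfl⟩, fun ⟨w, hw⟩ => hw ▸ w.2⟩
  have hinj := LinearMap.lTensor_injective_of_exact_of_flat (P := B) π hsurj ι Subtype.val_injective hex (A ⧸ a)
  let eC := TensorProduct.quotTensorEquivQuotSMul C a
  let eJ := TensorProduct.quotTensorEquivQuotSMul ↥J a
  have h1 : (1 : A ⧸ a) ⊗ₜ[A] z = 0 := by
    rw [← eC.map_eq_zero_iff, show (1 : A ⧸ a) = Ideal.Quotient.mk _ 1 from rfl,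
      TensorProduct.quotTensorEquivQuotSMul_mk_tmul, one_smul, Submodule.Quotient.mk_eq_zero, Ideal.smul_top_eq_map]
    exact hz
  have h2 : (1 : A ⧸ a) ⊗ₜ[A] (⟨z, hzJ⟩ : ↥J) = 0 := hinj (by rw [map_zero, LinearMap.lTensor_tmul]; exact h1)
  rw [← eJ.map_eq_zero_iff, show (1 : A ⧸ a) = Ideal.Quotient.mk _ 1 from rfl,
    TensorProduct.quotTensorEquivQuotSMul_mk_tmul, one_smul, Submodule.Quotient.mk_eq_zero] at h2
  refine Submodule.smul_induction_on (p := fun v : ↥J => (v : C) ∈ a.map (algebraMap A C) • J) h2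
    (fun r hr v _ => ?_) (fun u v hu hv => add_mem hu hv)
  show ((r • v : ↥J) : C) ∈ _
  rw [Submodule.coe_smul_of_tower, ← algebraMap_smul C r]
  exact Submodule.smul_mem_smul (Ideal.mem_map_of_mem _ hr) v.2

end Groth.L07.TransFibre
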