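import Groth.Agent.L07.CIField
import Groth.Agent.L07.FibreDimAlg
import Groth.Agent.L07.TransFibre
import Groth.Agent.L07.RegSpread
import Groth.Agent.L07.Avramov
import Groth.Prelude.Def_CInt
import Mathlib.RingTheory.RegularLocalRing.Polynomial

/-! Openness of the relative complete intersection locus, ring part. -/

namespace Groth.L07.CILocus

open TensorProduct PrimeSpectrum

set_option linter.style.haveILetI false
set_option maxSynthPendingDepth 3

universe u

/-- The localization of a surjection. -/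
theorem localRingHom_surjective {B B' : Type u} [CommRing B] [CommRing B'] (φ : B →+* B')
    (hφ : Function.Surjective φ) (p : Ideal B') [p.IsPrime] :
    Function.Surjective (Localization.localRingHom (p.comap φ) p φ rfl) ∧
      RingHom.ker (Localization.localRingHom (p.comap φ) p φ rfl) =
        (RingHom.ker φ).map (algebraMap B (Localization.AtPrime (p.comap φ))) := by
  let Q := p.comap φ
  constructor
  · intro z
    obtain ⟨a, ⟨s, hs⟩, rfl⟩ := IsLocalization.exists_mk'_eq p.primeCompl z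
    obtain ⟨a, rfl⟩ := hφ a
    obtain ⟨s, rfl⟩ := hφ s
    exact ⟨IsLocalization.mk' _ a (⟨s, hs⟩ : Q.primeCompl), Localization.localRingHom_mk' Q p φ rfl a ⟨s, hs⟩⟩
  · refine le_antisymm (fun z hz => ?_) (Ideal.map_le_iff_le_comap.mpr fun x hx => ?_)
    · obtain ⟨c, ⟨s, hs⟩, rfl⟩ := IsLocalization.exists_mk'_eq Q.primeCompl z
      rw [RingHom.mem_ker, Localization.localRingHom_mk', IsLocalization.mk'_eq_zero_iff] at hz
      obtain ⟨⟨t, ht⟩, htc⟩ := hz
      obtain ⟨t, rfl⟩ := hφ t
      rw [IsLocalization.mk'_mem_map_algebraMap_iff Q.primeCompl]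
      exact ⟨t, ht, (map_mul φ t c).trans htc⟩
    · rw [Ideal.mem_comap, RingHom.mem_ker, Localization.localRingHom_to_map, RingHom.mem_ker.mp hx,
        map_zero]

/-- The point of a fibre. -/
noncomputable def fibPrime (R : Type u) [CommRing R] {A : Type u} [CommRing A] [Algebra R A]
    (P : PrimeSpectrum A) : PrimeSpectrum ((comap (algebraMap R A) P).asIdeal.Fiber A) :=
  preimageEquivFiber R A _ ⟨P, rfl⟩

/-- The fibre through a point is a complete intersection there. -/
def CIAt (R : Type u) [CommRing R] {A : Type u} [CommRing A] [Algebra R A] (P : PrimeSpectrum A) :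
    Prop :=
  Pi1.IsCompleteIntersection (Localization.AtPrime (fibPrime R P).asIdeal)

theorem comap_fibPrime (R : Type u) [CommRing R] {A : Type u} [CommRing A] [Algebra R A]
    (P : PrimeSpectrum A) :
    (fibPrime R P).asIdeal.comap Algebra.TensorProduct.includeRight.toRingHom = P.asIdeal :=
  congrArg (fun z => z.1.asIdeal) ((preimageEquivFiber R A _).symm_apply_apply ⟨P, rfl⟩)

variable {R : Type u} [CommRing R] {d : ℕ}

local notation "Po" => MvPolynomial (Fin d) R

variable (I : Ideal (MvPolynomial (Fin d) R))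

/-- Reduction of polynomials to the fibre. -/
noncomputable def θ (p : PrimeSpectrum R) : Po →+* MvPolynomial (Fin d) p.asIdeal.ResidueField :=
  MvPolynomial.map (algebraMap R p.asIdeal.ResidueField)

/-- The fibre as a quotient of affine space. -/
noncomputable def φ (p : PrimeSpectrum R) :
    MvPolynomial (Fin d) p.asIdeal.ResidueField →ₐ[p.asIdeal.ResidueField] p.asIdeal.Fiber (Po ⧸ I) :=
  (Algebra.TensorProduct.map (AlgHom.id _ _) (Ideal.Quotient.mkₐ R I)).comp
    (MvPolynomial.algebraTensorAlgEquiv R p.asIdeal.ResidueField (σ := Fin d)).symm.toAlgHom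

theorem φ_θ (p : PrimeSpectrum R) (y : Po) :
    φ I p (θ p y) = (1 : p.asIdeal.ResidueField) ⊗ₜ[R] Ideal.Quotient.mk I y := by
  simp [φ, θ]

theorem φ_surjective (p : PrimeSpectrum R) : Function.Surjective (φ I p) := by
  intro z
  obtain ⟨w, rfl⟩ := LinearMap.lTensor_surjective p.asIdeal.ResidueField
    (g := (Ideal.Quotient.mkₐ R I).toLinearMap) Ideal.Quotient.mk_surjective z
  obtain ⟨v, rfl⟩ := (MvPolynomial.algebraTensorAlgEquiv R p.asIdeal.ResidueField (σ := Fin d)).symm.surjective w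
  exact ⟨v, rfl⟩

theorem ker_φ (p : PrimeSpectrum R) : RingHom.ker (φ I p).toRingHom = I.map (θ p) := by
  let e := MvPolynomial.algebraTensorAlgEquiv R p.asIdeal.ResidueField (σ := Fin d)
  have h1 : RingHom.ker (φ I p).toRingHom =
      (RingHom.ker (Algebra.TensorProduct.map (AlgHom.id R p.asIdeal.ResidueField)
        (Ideal.Quotient.mkₐ R I)).toRingHom).comap e.symm.toRingEquiv.toRingHom := by
    ext x; rfl
  rw [h1, show RingHom.ker (Algebra.TensorProduct.map (AlgHom.id R p.asIdeal.ResidueField)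
      (Ideal.Quotient.mkₐ R I)).toRingHom = _ from
      Algebra.TensorProduct.lTensor_ker _ (Ideal.Quotient.mkₐ_surjective R I),
    show RingHom.ker (Ideal.Quotient.mkₐ R I) = I from Ideal.Quotient.mkₐ_ker R I]
  rw [show e.symm.toRingEquiv.toRingHom = (e.toRingEquiv.symm : _ →+* _) from rfl, Ideal.comap_coe,
    Ideal.comap_symm, ← Ideal.map_coe e.toRingEquiv, AlgHom.coe_ideal_map, Ideal.map_map]
  congr 1
  ext x <;> simp [e, θ]

theorem exists_lift (p : PrimeSpectrum R) (x : MvPolynomial (Fin d) p.asIdeal.ResidueField) :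
    ∃ r ∉ p.asIdeal, ∃ y : Po, θ p y = MvPolynomial.C (algebraMap R p.asIdeal.ResidueField r) * x := by
  let e := MvPolynomial.algebraTensorAlgEquiv R p.asIdeal.ResidueField (σ := Fin d)
  obtain ⟨r, hr, y, hy⟩ := Ideal.Fiber.exists_smul_eq_one_tmul p.asIdeal (e.symm x)
  refine ⟨r, hr, y, ?_⟩
  have h1 := congrArg e hy
  rw [← algebraMap_smul p.asIdeal.ResidueField r, map_smul, AlgEquiv.apply_symm_apply] at h1
  rw [← MvPolynomial.smul_eq_C_mul, h1]
  simp [e, θ]

theorem C_ne {p : PrimeSpectrum R} {r : R} (hr : r ∉ p.asIdeal)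
    (Q : Ideal (MvPolynomial (Fin d) p.asIdeal.ResidueField)) [Q.IsPrime] :
    MvPolynomial.C (algebraMap R p.asIdeal.ResidueField r) ∉ Q := fun h =>
  Ideal.IsPrime.ne_top ‹_› (Ideal.eq_top_of_isUnit_mem _ h ((isUnit_iff_ne_zero.mpr fun h0 =>
    hr (Ideal.algebraMap_residueField_eq_zero.mp h0)).map MvPolynomial.C))

/-- Elements of an extended ideal come from the ideal, up to scalars. -/
theorem exists_lift_mem (p : PrimeSpectrum R) (K : Ideal Po)
    {x : MvPolynomial (Fin d) p.asIdeal.ResidueField} (hx : x ∈ K.map (θ p)) :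
    ∃ r ∉ p.asIdeal, ∃ y ∈ K, θ p y = MvPolynomial.C (algebraMap R p.asIdeal.ResidueField r) * x := by
  induction hx using Submodule.span_induction with
  | mem x hx =>
    obtain ⟨y, hy, rfl⟩ := hx
    exact ⟨1, fun h => p.2.ne_top ((Ideal.eq_top_iff_one _).mpr h), y, hy, by simp⟩
  | zero => exact ⟨1, fun h => p.2.ne_top ((Ideal.eq_top_iff_one _).mpr h), 0, K.zero_mem, by simp⟩
  | add x x' _ _ ih ih' =>
    obtain ⟨r, hr, y, hy, hxy⟩ := ih
    obtain ⟨r', hr', y', hy', hxy'⟩ := ih'
    refine ⟨r * r', fun h => (p.2.mem_or_mem h).elim hr hr', MvPolynomial.C r' * y + MvPolynomial.C r * y',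
      add_mem (K.mul_mem_left _ hy) (K.mul_mem_left _ hy'), ?_⟩
    rw [map_add, map_mul, map_mul, hxy, hxy']
    simp [θ]
    ring
  | smul a x _ ih =>
    obtain ⟨r, hr, y, hy, hxy⟩ := ih
    obtain ⟨r', hr', b, hb⟩ := exists_lift p a
    refine ⟨r' * r, fun h => (p.2.mem_or_mem h).elim hr' hr, b * y, K.mul_mem_left _ hy, ?_⟩
    rw [map_mul, hb, hxy, smul_eq_mul, map_mul, map_mul]
    ring

/-- The point of affine space over the residue field. -/
noncomputable abbrev polPrime (P : PrimeSpectrum (Po ⧸ I)) :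
    Ideal (MvPolynomial (Fin d) (comap (algebraMap R (Po ⧸ I)) P).asIdeal.ResidueField) :=
  (fibPrime R P).asIdeal.comap (φ I _).toRingHom

theorem comap_polPrime (P : PrimeSpectrum (Po ⧸ I)) :
    (polPrime I P).comap (θ _) = P.asIdeal.comap (Ideal.Quotient.mk I) := by
  conv_rhs => rw [← comap_fibPrime R P]
  rw [Ideal.comap_comap, Ideal.comap_comap]
  congr 1
  exact RingHom.ext fun y => φ_θ I _ y

theorem map_le_polPrime (P : PrimeSpectrum (Po ⧸ I)) : I.map (θ _) ≤ polPrime I P := by
  rw [← ker_φ]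
  exact fun x hx => by
    rw [Ideal.mem_comap, RingHom.mem_ker.mp hx]
    exact zero_mem _

/-- Affine space over the residue field of the image of a point. -/
abbrev Pol (P : PrimeSpectrum (Po ⧸ I)) : Type u :=
  MvPolynomial (Fin d) (comap (algebraMap R (Po ⧸ I)) P).asIdeal.ResidueField

/-- The criterion at a point. -/
theorem ciAt_iff (P : PrimeSpectrum (Po ⧸ I)) :
    CIAt R P ↔ CInt.IsRegularIdeal ((I.map (θ (comap (algebraMap R (Po ⧸ I)) P))).map
      (algebraMap (Pol I P) (Localization.AtPrime (polPrime I P)))) := by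
  haveI : IsRegularLocalRing (Localization.AtPrime (polPrime I P)) :=
    IsRegularRing.isRegularLocalRing_localization _
  obtain ⟨h1, h2⟩ := localRingHom_surjective (φ I _).toRingHom (φ_surjective I _) (fibPrime R P).asIdeal
  haveI : IsNoetherianRing (Localization.AtPrime (fibPrime R P).asIdeal) :=
    isNoetherianRing_of_surjective _ _ _ h1
  rw [ker_φ] at h2
  rw [← h2]
  exact ⟨Groth.L07.RegQuot.isRegularIdeal_of_isCompleteIntersection _ h1,
    Groth.L07.RegQuot.isCompleteIntersection_of_isRegularIdeal _ h1⟩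

/-- Generators of the ideal of a complete intersection fibre. -/
theorem exists_generators (P : PrimeSpectrum (Po ⧸ I)) (h : CIAt R P) :
    ∃ (c : ℕ) (f : Fin c → Po), (∀ i, f i ∈ I) ∧
      RingTheory.Sequence.IsRegular (Localization.AtPrime (polPrime I P))
        (List.ofFn (algebraMap (Pol I P) (Localization.AtPrime (polPrime I P)) ∘ (θ _ ∘ f))) ∧
      (Ideal.span (Set.range (θ (comap (algebraMap R (Po ⧸ I)) P) ∘ f))).map
          (algebraMap (Pol I P) (Localization.AtPrime (polPrime I P))) =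
        (I.map (θ _)).map (algebraMap (Pol I P) (Localization.AtPrime (polPrime I P))) := by
  classical
  set p := comap (algebraMap R (Po ⧸ I)) P
  let Q := polPrime I P
  let S := Localization.AtPrime Q
  obtain ⟨c, F, hF, hFJ⟩ := Groth.L07.RegIdeal.exists_regular_family ((ciAt_iff I P).mp h)
  have hj : ∀ i, ∃ y ∈ I, ∃ u : S, IsUnit u ∧ algebraMap _ S (θ p y) = u * F i := fun i => by
    obtain ⟨⟨⟨a, ha⟩, ⟨s, hs⟩⟩, he⟩ := (IsLocalization.mem_map_algebraMap_iff Q.primeCompl S).mp
      (hFJ ▸ Ideal.subset_span (Set.mem_range_self i))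
    obtain ⟨r, hr, y, hy, hya⟩ := exists_lift_mem p I ha
    refine ⟨y, hy, algebraMap _ S (MvPolynomial.C (algebraMap R p.asIdeal.ResidueField r)) * algebraMap _ S s,
      (IsLocalization.map_units S (⟨_, C_ne hr Q⟩ : Q.primeCompl)).mul
        (IsLocalization.map_units S (⟨s, hs⟩ : Q.primeCompl)), ?_⟩
    rw [hya, map_mul, ← he]
    ring
  choose f hfI u hu hfu using hj
  have hspan : Ideal.span (Set.range (algebraMap _ S ∘ (θ p ∘ f))) = Ideal.span (Set.range F) := by
    refine le_antisymm (Ideal.span_le.mpr ?_) (Ideal.span_le.mpr ?_)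
    · rintro _ ⟨i, rfl⟩
      show algebraMap _ S (θ p (f i)) ∈ Ideal.span (Set.range F)
      rw [hfu i]
      exact Ideal.mul_mem_left _ _ (Ideal.subset_span ⟨i, rfl⟩)
    · rintro _ ⟨i, rfl⟩
      obtain ⟨v, hv⟩ := (hu i).exists_left_inv
      rw [show F i = v * algebraMap _ S (θ p (f i)) by rw [hfu, ← mul_assoc, hv, one_mul]]
      exact Ideal.mul_mem_left _ _ (Ideal.subset_span ⟨i, rfl⟩)
  refine ⟨c, f, hfI, ?_, by rw [Ideal.map_span, ← Set.range_comp, hspan, hFJ]⟩
  refine Groth.L07.RegIdeal.isRegular_of_isMin ((ciAt_iff I P).mp h) ⟨hspan.trans hFJ, fun a ha i => ?_⟩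
  have h1 := (Groth.L07.RegIdeal.isMin_of_isRegular hF).2 (fun j => a j * u j) (by
    rw [hFJ]
    convert ha using 1
    exact Finset.sum_congr rfl fun j _ => by
      rw [Function.comp_apply, Function.comp_apply, hfu, mul_assoc]) i
  exact ((IsLocalRing.maximalIdeal.isMaximal S).isPrime.mem_or_mem h1).resolve_right fun hm => hm (hu i)

/-- With a flat quotient, generators of the fibre generate nearby. -/
theorem exists_mul_mem [Module.Flat R (Po ⧸ I)] (hI : I.FG) (P : PrimeSpectrum (Po ⧸ I)) {c : ℕ}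
    (f : Fin c → Po) (hfI : ∀ i, f i ∈ I)
    (hgen : (Ideal.span (Set.range (θ (comap (algebraMap R (Po ⧸ I)) P) ∘ f))).map
        (algebraMap (Pol I P) (Localization.AtPrime (polPrime I P))) =
      (I.map (θ _)).map (algebraMap (Pol I P) (Localization.AtPrime (polPrime I P)))) :
    ∃ g ∉ P.asIdeal.comap (Ideal.Quotient.mk I), ∀ y ∈ I, g * y ∈ Ideal.span (Set.range f) := by
  set p := comap (algebraMap R (Po ⧸ I)) P
  let Q := P.asIdeal.comap (Ideal.Quotient.mk I)
  let S := Localization.AtPrime Q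
  have hθQ : ∀ y, y ∈ Q ↔ θ p y ∈ polPrime I P := fun y => by
    rw [← Ideal.mem_comap, comap_polPrime]
  refine Groth.L07.RegSeq.exists_mul_mem_of_map_le hI Q S ?_
  refine Submodule.le_of_le_smul_of_le_jacobson_bot (I := IsLocalRing.maximalIdeal S) (hI.map _)
    (IsLocalRing.maximalIdeal_le_jacobson _) (Ideal.map_le_iff_le_comap.mpr fun y hy => ?_)
  have h1 : algebraMap (Pol I P) (Localization.AtPrime (polPrime I P)) (θ p y) ∈
      (Ideal.span (Set.range (θ p ∘ f))).map (algebraMap (Pol I P) (Localization.AtPrime (polPrime I P))) :=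
    hgen ▸ Ideal.mem_map_of_mem _ (Ideal.mem_map_of_mem _ hy)
  obtain ⟨s', hs', hs'y⟩ :=
    (IsLocalization.algebraMap_mem_map_algebraMap_iff (polPrime I P).primeCompl _ _ _).mp h1
  rw [Set.range_comp, ← Ideal.map_span] at hs'y
  obtain ⟨r, hr, z, hz, hzy⟩ := exists_lift_mem p (Ideal.span (Set.range f)) hs'y
  obtain ⟨r₀, hr₀, s₀, hs₀⟩ := exists_lift p s'
  let w := MvPolynomial.C r₀ * z - MvPolynomial.C r * s₀ * y
  have hw : w ∈ p.asIdeal.map (algebraMap R Po) := by
    have : w ∈ RingHom.ker (θ (d := d) p) := by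
      rw [RingHom.mem_ker, map_sub, map_mul, map_mul, map_mul, hzy, hs₀]
      simp only [θ, MvPolynomial.map_C]
      ring
    rw [θ, MvPolynomial.ker_map, Ideal.ker_algebraMap_residueField] at this
    exact this
  have hwI : w ∈ I :=
    sub_mem (I.mul_mem_left _ (Ideal.span_le.mpr (by rintro _ ⟨i, rfl⟩; exact hfI i) hz))
      (I.mul_mem_left _ hy)
  have hw2 : w ∈ p.asIdeal.map (algebraMap R Po) • I := by
    have := Groth.L07.TransFibre.mem_smul_of_flat (A := R) (C := Po) (Po ⧸ I) Ideal.Quotient.mk_surjective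
      p.asIdeal w hw (by rwa [Ideal.Quotient.algebraMap_eq, Ideal.mk_ker])
    rwa [Ideal.Quotient.algebraMap_eq, Ideal.mk_ker] at this
  have hmax : (p.asIdeal.map (algebraMap R Po)).map (algebraMap Po S) ≤ IsLocalRing.maximalIdeal S := by
    rw [← Localization.AtPrime.map_eq_maximalIdeal]
    refine Ideal.map_mono (Ideal.map_le_iff_le_comap.mpr fun a ha => ?_)
    rw [Ideal.mem_comap, hθQ]
    rw [θ, MvPolynomial.algebraMap_eq, MvPolynomial.map_C, Ideal.algebraMap_residueField_eq_zero.mpr ha, map_zero]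
    exact zero_mem _
  have hunit : IsUnit (algebraMap Po S (MvPolynomial.C r * s₀)) := by
    refine IsLocalization.map_units S (⟨_, fun hm => ?_⟩ : Q.primeCompl)
    replace hm := (hθQ _).mp hm
    rw [map_mul, hs₀] at hm
    rcases Ideal.IsPrime.mem_or_mem (inferInstance : (polPrime I P).IsPrime) hm with h' | h'
    · rw [θ, MvPolynomial.map_C] at h'
      exact C_ne hr _ h'
    · rcases Ideal.IsPrime.mem_or_mem (inferInstance : (polPrime I P).IsPrime) h' with h' | h'
      · exact C_ne hr₀ _ h'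
      · exact hs' h'
  obtain ⟨v, hv⟩ := hunit.exists_left_inv
  rw [Ideal.mem_comap]
  have hy' : algebraMap Po S y = v * algebraMap Po S (MvPolynomial.C r₀ * z) - v * algebraMap Po S w := by
    rw [show algebraMap Po S w = algebraMap Po S (MvPolynomial.C r₀ * z) -
      algebraMap Po S (MvPolynomial.C r * s₀) * algebraMap Po S y by simp [w], mul_sub, ← mul_assoc, hv]
    ring
  rw [hy']
  refine Submodule.sub_mem _ (Submodule.mem_sup_left ?_) (Submodule.mem_sup_right ?_)
  · exact Ideal.mul_mem_left _ _ (Ideal.mem_map_of_mem _ (Ideal.mul_mem_left _ _ hz))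
  · refine Submodule.smul_mem _ v ?_
    have h2 : algebraMap Po S w ∈ (p.asIdeal.map (algebraMap R Po) • I).map (algebraMap Po S) :=
      Ideal.mem_map_of_mem _ hw2
    rw [smul_eq_mul, Ideal.map_mul] at h2
    rw [smul_eq_mul]
    exact Ideal.mul_mono_left hmax h2

/-- Nearby the fibres have small dimension. -/
theorem exists_fibre_dim (P : PrimeSpectrum (Po ⧸ I)) {c : ℕ}
    (hht : ∀ (q : Ideal (MvPolynomial (Fin d) (comap (algebraMap R (Po ⧸ I)) P).asIdeal.ResidueField)) [q.IsPrime],
      I.map (θ _) ≤ q → q ≤ polPrime I P → (c : ℕ∞) ≤ q.height) :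
    ∃ g ∉ P.asIdeal, ∀ P' : PrimeSpectrum (Po ⧸ I), g ∉ P'.asIdeal →
      ∀ (q : Ideal (MvPolynomial (Fin d) (comap (algebraMap R (Po ⧸ I)) P').asIdeal.ResidueField)) [q.IsPrime],
        I.map (θ _) ≤ q → q ≤ polPrime I P' → (c : ℕ∞) ≤ q.height := by
  classical
  let A := Po ⧸ I
  set p := comap (algebraMap R A) P with hp
  obtain ⟨g, hg, hgdim⟩ := Groth.L07.CIField.exists_dim_bound _ (polPrime I P) hht
  have hcd : c ≤ d := by
    obtain ⟨h, e, hh, -, hsum⟩ := Groth.L07.CIField.exists_height_add (polPrime I P)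
    have := hht (polPrime I P) (map_le_polPrime I P) le_rfl
    rw [hh] at this
    have : c ≤ h := by exact_mod_cast this
    omega
  obtain ⟨r₀, hr₀, g₀, hg₀⟩ := exists_lift p g
  let a : A := Ideal.Quotient.mk I g₀
  have ha : a ∉ P.asIdeal := by
    show g₀ ∉ P.asIdeal.comap (Ideal.Quotient.mk I)
    rw [← comap_polPrime, Ideal.mem_comap, hg₀]
    exact fun h => (Ideal.IsPrime.mem_or_mem (inferInstance : (polPrime I P).IsPrime) h).elim (C_ne hr₀ _) hg
  let T₀ := Localization.Away a
  haveI : Algebra.FiniteType A T₀ := IsLocalization.finiteType_of_monoid_fg (Submonoid.powers a) _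
  haveI : Algebra.FiniteType R T₀ := Algebra.FiniteType.trans (S := A) inferInstance inferInstance
  obtain ⟨P₀, hP₀⟩ : P ∈ Set.range (comap (algebraMap A T₀)) := by
    rw [localization_away_comap_range T₀ a]; exact ha
  have hcomp : comap (algebraMap R T₀) P₀ = p := by
    rw [hp, ← hP₀, ← comap_comp_apply, ← IsScalarTower.algebraMap_eq]
  have hdim : ∀ q₀ : PrimeSpectrum R, q₀ = p → ringKrullDim (q₀.asIdeal.Fiber T₀) ≤ ((d - c : ℕ) : WithBot ℕ∞) := by
    rintro q₀ rfl
    let φ₀ : MvPolynomial (Fin d) p.asIdeal.ResidueField →+* p.asIdeal.Fiber T₀ :=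
      (Algebra.TensorProduct.map (AlgHom.id p.asIdeal.ResidueField p.asIdeal.ResidueField)
        (IsScalarTower.toAlgHom R A T₀)).toRingHom.comp (φ I p).toRingHom
    have hφ₀ : ∀ y, φ₀ (θ p y) = (1 : p.asIdeal.ResidueField) ⊗ₜ[R] algebraMap A T₀ (Ideal.Quotient.mk I y) :=
      fun y => by
        show Algebra.TensorProduct.map _ _ (φ I p (θ p y)) = _
        rw [φ_θ, Algebra.TensorProduct.map_tmul]
        rfl
    refine Groth.L07.CIField.dim_le_of_primes φ₀ (fun P₁ P₂ h12 => ?_) _ fun P₁ => ?_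
    · refine (preimageEquivFiber R T₀ p).symm.injective (Subtype.ext ?_)
      refine localization_comap_injective T₀ (Submonoid.powers a) ?_
      refine PrimeSpectrum.comap_injective_of_surjective _ (Ideal.Quotient.mk_surjective (I := I)) ?_
      have h13 := congrArg (comap (θ p)) h12
      rw [← comap_comp_apply, ← comap_comp_apply] at h13
      have e0 : φ₀.comp (θ p) = (Algebra.TensorProduct.includeRight.toRingHom).comp
          ((algebraMap A T₀).comp (Ideal.Quotient.mk I)) := RingHom.ext hφ₀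
      rw [e0] at h13
      simpa only [comap_comp_apply] using! h13
    · let q := P₁.asIdeal.comap φ₀
      have hJq : I.map (θ p) ≤ q := Ideal.map_le_iff_le_comap.mpr fun y hy => by
        rw [Ideal.mem_comap, Ideal.mem_comap, hφ₀, Ideal.Quotient.eq_zero_iff_mem.mpr hy, map_zero, tmul_zero]
        exact zero_mem _
      have hgq : g ∉ q := fun h => by
        have h1 : φ₀ (θ p g₀) ∈ P₁.asIdeal := by
          rw [hg₀, map_mul]; exact Ideal.mul_mem_left _ _ h
        rw [hφ₀] at h1
        exact P₁.2.ne_top (Ideal.eq_top_of_isUnit_mem _ h1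
          ((IsLocalization.Away.algebraMap_isUnit a).map Algebra.TensorProduct.includeRight.toRingHom))
      obtain ⟨h, e, -, he, -⟩ := Groth.L07.CIField.exists_height_add q
      have h2 := hgdim q hJq hgq
      rw [he] at h2 ⊢
      have : e + c ≤ d := by exact_mod_cast h2
      exact_mod_cast (show e ≤ d - c by omega)
  obtain ⟨r, hr, H⟩ := Groth.L07.FibreDim.exists_fibre_dim_le (R := R) P₀ (d - c) (hdim _ hcomp)
  obtain ⟨⟨a₂, t⟩, ha₂⟩ := IsLocalization.surj (Submonoid.powers a) r
  obtain ⟨g₂, rfl⟩ := Ideal.Quotient.mk_surjective a₂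
  refine ⟨a * Ideal.Quotient.mk I g₂, fun hmem => ?_, fun P' hP' => ?_⟩
  · rcases P.2.mem_or_mem hmem with h' | h'
    · exact ha h'
    · have h'' : algebraMap A T₀ (Ideal.Quotient.mk I g₂) ∈ P₀.asIdeal := by rw [← hP₀] at h'; exact h'
      rw [← ha₂] at h''
      exact (P₀.2.mem_or_mem h'').elim hr fun h3 =>
        P₀.2.ne_top (Ideal.eq_top_of_isUnit_mem _ h3 (IsLocalization.map_units T₀ t))
  set p' := comap (algebraMap R A) P'
  intro q _ hJq hqQ
  let T := Localization.Away r
  have hθ' : ∀ y, Ideal.Quotient.mk I y ∉ P'.asIdeal → θ p' y ∉ q := fun y hy h => hy <| by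
    show y ∈ P'.asIdeal.comap (Ideal.Quotient.mk I)
    rw [← comap_polPrime]
    exact hqQ h
  have hgg : θ p' (g₀ * g₂) ∉ q := hθ' _ (by rwa [map_mul])
  let D := MvPolynomial (Fin d) p'.asIdeal.ResidueField ⧸ q
  let gg : D := Ideal.Quotient.mk q (θ p' (g₀ * g₂))
  have hgg0 : gg ≠ 0 := fun h => hgg (Ideal.Quotient.eq_zero_iff_mem.mp h)
  let Dg := Localization.Away gg
  let jA : A →ₐ[R] Dg := Ideal.Quotient.liftₐ I
    { toRingHom := (algebraMap D Dg).comp ((Ideal.Quotient.mk q).comp (θ p'))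
      commutes' := fun x => by
        rw [IsScalarTower.algebraMap_apply R p'.asIdeal.ResidueField Dg,
          IsScalarTower.algebraMap_apply p'.asIdeal.ResidueField D Dg]
        show algebraMap D Dg (Ideal.Quotient.mk q (θ p' (MvPolynomial.C x))) = _
        rw [θ, MvPolynomial.map_C]
        rfl }
    (fun y hy => by
      show algebraMap D Dg (Ideal.Quotient.mk q (θ p' y)) = 0
      rw [Ideal.Quotient.eq_zero_iff_mem.mpr (hJq (Ideal.mem_map_of_mem _ hy)), map_zero])
  have hjA : ∀ y, jA (Ideal.Quotient.mk I y) = algebraMap D Dg (Ideal.Quotient.mk q (θ p' y)) := fun y => rfl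
  have hgu : IsUnit (jA a * jA (Ideal.Quotient.mk I g₂)) := by
    show IsUnit (jA (Ideal.Quotient.mk I g₀) * _)
    rw [hjA, hjA, ← map_mul, ← map_mul, ← map_mul]
    exact IsLocalization.Away.algebraMap_isUnit gg
  have hua : IsUnit (jA a) := isUnit_of_mul_isUnit_left hgu
  let jT₀ : T₀ →+* Dg := IsLocalization.Away.lift (S := T₀) a (g := jA.toRingHom) hua
  have hjT₀ : ∀ z, jT₀ (algebraMap A T₀ z) = jA z := fun z => IsLocalization.Away.lift_eq a hua z
  have hur : IsUnit (jT₀ r) := by
    have h3 : jT₀ r * jT₀ (algebraMap A T₀ t) = jA (Ideal.Quotient.mk I g₂) := by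
      rw [← map_mul, ha₂, hjT₀]
    exact isUnit_of_mul_isUnit_left (h3 ▸ isUnit_of_mul_isUnit_right hgu)
  let jT : T →ₐ[R] Dg :=
    { toRingHom := IsLocalization.Away.lift (S := T) r hur
      commutes' := fun x => by
        show IsLocalization.Away.lift r hur (algebraMap R T x) = _
        rw [IsScalarTower.algebraMap_apply R T₀ T, IsLocalization.Away.lift_eq,
          IsScalarTower.algebraMap_apply R A T₀, hjT₀, AlgHom.commutes] }
  let Ψ : p'.asIdeal.Fiber T →ₐ[p'.asIdeal.ResidueField] Dg :=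
    Algebra.TensorProduct.lift (Algebra.ofId _ _) jT (fun _ _ => Commute.all _ _)
  have hΨ : ∀ y, Ψ (1 ⊗ₜ[R] algebraMap A T (Ideal.Quotient.mk I y)) =
      algebraMap D Dg (Ideal.Quotient.mk q (θ p' y)) := fun y => by
    rw [Algebra.TensorProduct.lift_tmul, map_one, one_mul]
    show IsLocalization.Away.lift r hur (algebraMap A T (Ideal.Quotient.mk I y)) = _
    rw [IsScalarTower.algebraMap_apply A T₀ T, IsLocalization.Away.lift_eq, hjT₀, hjA]
  have hD : ∀ x : MvPolynomial (Fin d) p'.asIdeal.ResidueField,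
      algebraMap D Dg (Ideal.Quotient.mk q x) ∈ Ψ.range := fun x => by
    induction x using MvPolynomial.induction_on with
    | C c =>
      exact ⟨algebraMap _ _ c, by
        show Ψ (algebraMap p'.asIdeal.ResidueField _ c) = _
        rw [AlgHom.commutes, IsScalarTower.algebraMap_apply p'.asIdeal.ResidueField D Dg]
        rfl⟩
    | add x y hx hy => rw [map_add, map_add]; exact add_mem hx hy
    | mul_X x i hx =>
      rw [map_mul, map_mul]
      refine mul_mem hx ⟨1 ⊗ₜ[R] algebraMap A T (Ideal.Quotient.mk I (MvPolynomial.X i)), ?_⟩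
      show Ψ _ = _
      rw [hΨ]
      simp [θ]
  have hTu : IsUnit (algebraMap A T (a * Ideal.Quotient.mk I g₂)) := by
    rw [map_mul, IsScalarTower.algebraMap_apply A T₀ T, IsScalarTower.algebraMap_apply A T₀ T, ← ha₂, map_mul]
    exact ((IsLocalization.Away.algebraMap_isUnit a).map _).mul
      ((IsLocalization.Away.algebraMap_isUnit r).mul ((IsLocalization.map_units T₀ t).map _))
  have hinv : ∀ n : ℕ, ∃ w ∈ Ψ.range, algebraMap D Dg gg ^ n * w = 1 := fun n => by
    obtain ⟨v, hv⟩ := hTu.exists_right_inv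
    refine ⟨(Ψ (1 ⊗ₜ[R] v)) ^ n, pow_mem (AlgHom.mem_range_self Ψ _) n, ?_⟩
    rw [← mul_pow, show algebraMap D Dg gg = Ψ (1 ⊗ₜ[R] algebraMap A T (a * Ideal.Quotient.mk I g₂)) by
      rw [show a * Ideal.Quotient.mk I g₂ = Ideal.Quotient.mk I (g₀ * g₂) from (map_mul _ _ _).symm, hΨ],
      ← map_mul, Algebra.TensorProduct.tmul_mul_tmul, hv, one_mul, ← Algebra.TensorProduct.one_def,
      map_one, one_pow]
  have hsurj : Function.Surjective Ψ := fun z => by
    obtain ⟨⟨x, ⟨_, n, rfl⟩⟩, hx⟩ := IsLocalization.surj (Submonoid.powers gg) z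
    obtain ⟨x, rfl⟩ := Ideal.Quotient.mk_surjective x
    obtain ⟨w, hw, hw1⟩ := hinv n
    have : z = algebraMap D Dg (Ideal.Quotient.mk q x) * w := by
      rw [← hx, map_pow, mul_assoc, hw1, mul_one]
    rw [this]
    exact mul_mem (hD x) hw
  have h4 := (ringKrullDim_le_of_surjective Ψ.toRingHom hsurj).trans (H T p')
  haveI : Algebra.FiniteType p'.asIdeal.ResidueField D := inferInstance
  rw [Groth.L07.CIField.dim_away (k := p'.asIdeal.ResidueField) D gg hgg0] at h4
  obtain ⟨h, e, hh, he, hsum⟩ := Groth.L07.CIField.exists_height_add q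
  rw [he] at h4
  have : e ≤ d - c := by exact_mod_cast h4
  rw [hh]
  exact_mod_cast (show c ≤ h by omega)

/-- Openness of the locus of complete intersection fibres. -/
theorem exists_nhd_ciAt [Module.Flat R (Po ⧸ I)] (hI : I.FG) (P : PrimeSpectrum (Po ⧸ I))
    (h : CIAt R P) : ∃ g ∉ P.asIdeal, ∀ P' : PrimeSpectrum (Po ⧸ I), g ∉ P'.asIdeal → CIAt R P' := by
  classical
  obtain ⟨c, f, hfI, hreg, hgen⟩ := exists_generators I P h
  obtain ⟨g₁, hg₁, hg₁I⟩ := exists_mul_mem I hI P f hfI hgen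
  obtain ⟨g, hg, H⟩ := exists_fibre_dim I P (c := c) (fun q _ hJq hqQ =>
    Groth.L07.CIField.height_ge_of_regular _ _ hreg q
      ((Ideal.span_le.mpr (by rintro _ ⟨i, rfl⟩; exact Ideal.mem_map_of_mem _ (hfI i))).trans hJq) hqQ)
  refine ⟨Ideal.Quotient.mk I g₁ * g, fun hm => (P.2.mem_or_mem hm).elim hg₁ hg, fun P' hP' => ?_⟩
  set p' := comap (algebraMap R (Po ⧸ I)) P'
  let Q' := polPrime I P'
  have hle : Ideal.span (Set.range (θ p' ∘ f)) ≤ I.map (θ p') :=
    Ideal.span_le.mpr (by rintro _ ⟨i, rfl⟩; exact Ideal.mem_map_of_mem _ (hfI i))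
  have hg₁Q : θ p' g₁ ∉ Q' := fun hm => hP' (P'.asIdeal.mul_mem_right _ (by
    show g₁ ∈ P'.asIdeal.comap (Ideal.Quotient.mk I)
    rw [← comap_polPrime]; exact hm))
  have hfJ : ∀ y ∈ I, θ p' g₁ * θ p' y ∈ Ideal.span (Set.range (θ p' ∘ f)) := fun y hy => by
    rw [← map_mul, Set.range_comp, ← Ideal.map_span]
    exact Ideal.mem_map_of_mem _ (hg₁I y hy)
  have heq : (Ideal.span (Set.range (θ p' ∘ f))).map (algebraMap _ (Localization.AtPrime Q')) =
      (I.map (θ p')).map (algebraMap _ (Localization.AtPrime Q')) := by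
    refine le_antisymm (Ideal.map_mono hle) ?_
    rw [Ideal.map_map, Ideal.map_le_iff_le_comap]
    intro y hy
    exact (IsLocalization.algebraMap_mem_map_algebraMap_iff Q'.primeCompl _ _ _).mpr ⟨_, hg₁Q, hfJ y hy⟩
  rw [ciAt_iff, ← heq]
  refine Groth.L07.CIField.isRegularIdeal_of_height _ _ (hle.trans (map_le_polPrime I P')) fun q _ hfq hqQ => ?_
  refine H P' (fun hm => hP' (P'.asIdeal.mul_mem_left _ hm)) q ?_ hqQ
  refine Ideal.map_le_iff_le_comap.mpr fun y hy => ?_
  exact (Ideal.IsPrime.mem_or_mem ‹q.IsPrime› (hfq (hfJ y hy))).resolve_left fun h' => hg₁Q (hqQ h')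

end Groth.L07.CILocus
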