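import Groth.Agent.L07.SyntPres
import Groth.Agent.L07.CIField
import Groth.Agent.L07.RegSpread
import Groth.Agent.L07.CILocus
import Mathlib.RingTheory.EssentialFiniteness
import Mathlib.RingTheory.RegularLocalRing.Polynomial

/-! Complete intersections over a field. -/

namespace Groth.L07.Synt

open MvPolynomial

set_option linter.style.haveILetI false
set_option maxSynthPendingDepth 3

universe u

variable {k : Type u} [Field k] {n : ℕ}

theorem mem_span_range_dim {c : ℕ} (f : Fin c → MvPolynomial (Fin n) k)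
    (hne : Nontrivial (MvPolynomial (Fin n) k ⧸ Ideal.span (Set.range f))) :
    ((n - c : ℕ) : WithBot ℕ∞) ≤ ringKrullDim (MvPolynomial (Fin n) k ⧸ Ideal.span (Set.range f)) := by
  have hne' : Ideal.span (Set.range f) ≠ ⊤ := Ideal.Quotient.nontrivial_iff.mp hne
  obtain ⟨q, hq⟩ := Ideal.nonempty_minimalPrimes hne'
  haveI := hq.1.1
  have h1 : q.height ≤ c := by
    refine (Ideal.height_le_spanRank_toENat_of_mem_minimalPrimes _ _ hq).trans ?_
    have h2 : (Ideal.span (Set.range f)).spanFinrank ≤ c := by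
      refine (Submodule.spanFinrank_span_le_ncard_of_finite (Set.finite_range f)).trans ?_
      rw [← Set.image_univ]
      exact (Set.ncard_image_le (Set.finite_univ)).trans_eq (by rw [Set.ncard_univ, Nat.card_fin])
    have hfg : (Ideal.span (Set.range f)).FG := Submodule.fg_span (Set.finite_range f)
    rw [Submodule.fg_iff_spanRank_eq_spanFinrank.mpr hfg]
    simpa using (Nat.cast_le (α := ℕ∞)).mpr h2
  obtain ⟨h, e, hh, he, hsum⟩ := Groth.L07.CIField.exists_height_add q
  rw [hh] at h1
  have h3 : h ≤ c := by exact_mod_cast h1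
  refine le_trans ?_ (ringKrullDim_le_of_surjective (Ideal.Quotient.factor hq.1.2)
    (Ideal.Quotient.factor_surjective hq.1.2))
  rw [he]
  exact_mod_cast (show n - c ≤ e by omega)

/-- Bounded components make a global complete intersection. -/
theorem isGlobalCI_away {c : ℕ} (I : Ideal (MvPolynomial (Fin n) k)) (f : Fin c → MvPolynomial (Fin n) k)
    (hf : ∀ i, f i ∈ I) (g : MvPolynomial (Fin n) k) (hgI : ∀ y ∈ I, g * y ∈ Ideal.span (Set.range f))
    (hb : ∀ (q : Ideal (MvPolynomial (Fin n) k)) [q.IsPrime], I ≤ q → g ∉ q →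
      ringKrullDim (MvPolynomial (Fin n) k ⧸ q) + (c : WithBot ℕ∞) ≤ (n : WithBot ℕ∞)) :
    Synt.IsGlobalCI k (Localization.Away (Ideal.Quotient.mk I g)) := by
  let A := MvPolynomial (Fin n) k ⧸ I
  let T := Localization.Away (Ideal.Quotient.mk I g)
  rcases subsingleton_or_nontrivial T with hT | hT
  · exact Or.inl hT
  let ψ : MvPolynomial (Fin n) k →+* T := (algebraMap A T).comp (Ideal.Quotient.mk I)
  have key : ∀ P : PrimeSpectrum T, I ≤ P.asIdeal.comap ψ ∧ g ∉ P.asIdeal.comap ψ := fun P =>
    ⟨fun y hy => by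
      rw [Ideal.mem_comap, RingHom.comp_apply, Ideal.Quotient.eq_zero_iff_mem.mpr hy, map_zero]
      exact zero_mem _,
    fun h => P.2.ne_top (Ideal.eq_top_of_isUnit_mem _ h
      (IsLocalization.Away.algebraMap_isUnit (Ideal.Quotient.mk I g)))⟩
  have hinj : Function.Injective (PrimeSpectrum.comap ψ) := fun P₁ P₂ h =>
    PrimeSpectrum.localization_comap_injective T (Submonoid.powers (Ideal.Quotient.mk I g))
      (PrimeSpectrum.comap_injective_of_surjective _ Ideal.Quotient.mk_surjective
        (by simpa only [ψ, PrimeSpectrum.comap_comp_apply] using! h))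
  obtain ⟨P⟩ : Nonempty (PrimeSpectrum T) := inferInstance
  have hcn : c ≤ n := by
    obtain ⟨h, e, -, he, hsum⟩ := Groth.L07.CIField.exists_height_add (P.asIdeal.comap ψ)
    have h1 := hb _ (key P).1 (key P).2
    rw [he] at h1
    have : e + c ≤ n := by exact_mod_cast h1
    omega
  have hle : ringKrullDim T ≤ ((n - c : ℕ) : WithBot ℕ∞) := by
    refine Groth.L07.CIField.dim_le_of_primes ψ hinj _ fun P => ?_
    obtain ⟨h, e, -, he, hsum⟩ := Groth.L07.CIField.exists_height_add (P.asIdeal.comap ψ)
    have h1 := hb _ (key P).1 (key P).2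
    rw [he] at h1 ⊢
    have : e + c ≤ n := by exact_mod_cast h1
    exact_mod_cast (show e ≤ n - c by omega)
  obtain ⟨e⟩ := exists_away_equiv f g I hf hgI
  refine Or.inr ⟨n + 1, c + 1, by omega, e.symm.toAlgHom.comp (Ideal.Quotient.mkₐ k _), awayRel f g,
    e.symm.surjective.comp Ideal.Quotient.mk_surjective, ?_, ?_⟩
  · ext y
    rw [RingHom.mem_ker, ← Ideal.Quotient.eq_zero_iff_mem]
    exact e.symm.toAddEquiv.map_eq_zero_iff
  · refine le_antisymm (hle.trans_eq (by rw [show n + 1 - (c + 1) = n - c by omega])) ?_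
    haveI : Nontrivial (Synt.RelGCIRing k (n + 1) (c + 1) (awayRel f g)) := e.symm.toEquiv.nontrivial
    rw [ringKrullDim_eq_of_ringEquiv e.toRingEquiv]
    exact mem_span_range_dim (awayRel f g) inferInstance

theorem isGlobalCI_of_algEquiv {S S' : Type u} [CommRing S] [CommRing S'] [Algebra k S] [Algebra k S']
    (e : S ≃ₐ[k] S') (h : Synt.IsGlobalCI k S) : Synt.IsGlobalCI k S' := by
  rcases h with h | ⟨n, c, hcn, φ, r, hφ, hk, hd⟩
  · exact Or.inl (e.toEquiv.symm.injective.subsingleton)
  · refine Or.inr ⟨n, c, hcn, e.toAlgHom.comp φ, r, e.surjective.comp hφ, ?_,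
      by rw [← ringKrullDim_eq_of_ringEquiv e.toRingEquiv, hd]⟩
    rw [← hk]
    ext y
    exact e.toAddEquiv.map_eq_zero_iff

theorem bound_of_isGlobalCI {S : Type u} [CommRing S] {c : ℕ}
    (φ : MvPolynomial (Fin n) k →+* S) (hφ : Function.Surjective φ) (hcn : c ≤ n)
    (hd : ringKrullDim S = ((n - c : ℕ) : WithBot ℕ∞)) (q : Ideal (MvPolynomial (Fin n) k)) [q.IsPrime]
    (hq : RingHom.ker φ ≤ q) :
    ringKrullDim (MvPolynomial (Fin n) k ⧸ q) + (c : WithBot ℕ∞) ≤ (n : WithBot ℕ∞) ∧
      (c : ℕ∞) ≤ q.height := by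
  obtain ⟨h, e, hh, he, hsum⟩ := Groth.L07.CIField.exists_height_add q
  have h1 : ringKrullDim (MvPolynomial (Fin n) k ⧸ q) ≤ ringKrullDim S := by
    rw [← ringKrullDim_eq_of_ringEquiv (RingHom.quotientKerEquivOfSurjective hφ)]
    exact ringKrullDim_le_of_surjective (Ideal.Quotient.factor hq) (Ideal.Quotient.factor_surjective hq)
  rw [he, hd] at h1
  have h2 : e ≤ n - c := by exact_mod_cast h1
  rw [he, hh]
  exact ⟨by exact_mod_cast (show e + c ≤ n by omega), by exact_mod_cast (show c ≤ h by omega)⟩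

/-- Global complete intersections have complete intersection local rings. -/
theorem isCI_of_isGlobalCI {S : Type u} [CommRing S] [Algebra k S] (h : Synt.IsGlobalCI k S)
    (P : Ideal S) [hP : P.IsPrime] : Pi1.IsCompleteIntersection (Localization.AtPrime P) := by
  rcases h with h | ⟨n, c, hcn, φ, r, hφ, hk, hd⟩
  · exact absurd (Subsingleton.elim P ⊤) hP.ne_top
  · let Q := P.comap φ.toRingHom
    haveI : IsRegularLocalRing (Localization.AtPrime Q) := IsRegularRing.isRegularLocalRing_localization Q
    obtain ⟨h1, h2⟩ := Groth.L07.CILocus.localRingHom_surjective φ.toRingHom hφ P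
    haveI := isNoetherianRing_of_surjective _ _ _ h1
    refine Groth.L07.RegQuot.isCompleteIntersection_of_isRegularIdeal _ h1 ?_
    rw [h2, hk]
    have hle : RingHom.ker φ.toRingHom ≤ Q := Ideal.comap_mono bot_le
    refine Groth.L07.CIField.isRegularIdeal_of_height r Q (hk ▸ hle) fun q _ hrq _ => ?_
    exact (bound_of_isGlobalCI φ.toRingHom hφ hcn hd q (hk ▸ hrq)).2

/-- The regular presentation at a complete intersection point gives a neighbourhood. -/
theorem exists_globalCI_nhd (I : Ideal (MvPolynomial (Fin n) k)) (Q : Ideal (MvPolynomial (Fin n) k))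
    [Q.IsPrime] (hIQ : I ≤ Q)
    (h : CInt.IsRegularIdeal (I.map (algebraMap _ (Localization.AtPrime Q)))) :
    ∃ g ∉ Q, Synt.IsGlobalCI k (Localization.Away (Ideal.Quotient.mk I g)) := by
  classical
  let R := Localization.AtPrime Q
  obtain ⟨c, F, hF, hFI⟩ := Groth.L07.RegIdeal.exists_regular_family h
  have hj : ∀ i, ∃ y ∈ I, ∃ u : R, IsUnit u ∧ algebraMap _ R y = u * F i := fun i => by
    obtain ⟨⟨⟨a, ha⟩, s⟩, he⟩ := (IsLocalization.mem_map_algebraMap_iff Q.primeCompl R).mp
      (hFI ▸ Ideal.subset_span (Set.mem_range_self i))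
    exact ⟨a, ha, algebraMap (MvPolynomial (Fin n) k) R s, IsLocalization.map_units R s, by rw [← he, mul_comm]⟩
  choose f hfI u hu hfu using hj
  have hspan : Ideal.span (Set.range (algebraMap _ R ∘ f)) = Ideal.span (Set.range F) := by
    refine le_antisymm (Ideal.span_le.mpr ?_) (Ideal.span_le.mpr ?_)
    · rintro _ ⟨i, rfl⟩
      show algebraMap _ R (f i) ∈ Ideal.span (Set.range F)
      rw [hfu i]
      exact Ideal.mul_mem_left _ _ (Ideal.subset_span ⟨i, rfl⟩)
    · rintro _ ⟨i, rfl⟩
      obtain ⟨v, hv⟩ := (hu i).exists_left_inv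
      rw [show F i = v * algebraMap _ R (f i) by rw [hfu, ← mul_assoc, hv, one_mul]]
      exact Ideal.mul_mem_left _ _ (Ideal.subset_span ⟨i, rfl⟩)
  have heq : (Ideal.span (Set.range f)).map (algebraMap _ R) = I.map (algebraMap _ R) := by
    rw [Ideal.map_span, ← Set.range_comp, hspan, hFI]
  have hreg : RingTheory.Sequence.IsRegular R (List.ofFn (algebraMap _ R ∘ f)) := by
    refine Groth.L07.RegIdeal.isRegular_of_isMin h ⟨hspan.trans hFI, fun a ha i => ?_⟩
    have h1 := (Groth.L07.RegIdeal.isMin_of_isRegular hF).2 (fun j => a j * u j) (by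
      rw [hFI]
      convert ha using 1
      exact Finset.sum_congr rfl fun j _ => by rw [Function.comp_apply, hfu, mul_assoc]) i
    exact ((IsLocalRing.maximalIdeal.isMaximal R).isPrime.mem_or_mem h1).resolve_right fun hm => hm (hu i)
  obtain ⟨g₁, hg₁, hg₁I⟩ :=
    Groth.L07.RegSeq.exists_mul_mem_of_map_le (IsNoetherian.noetherian I) Q R heq.ge
  obtain ⟨g, hg, hgd⟩ := Groth.L07.CIField.exists_dim_bound I Q (c := c) (fun q _ hIq hqQ =>
    Groth.L07.CIField.height_ge_of_regular f Q hreg q
      ((Ideal.span_le.mpr (by rintro _ ⟨i, rfl⟩; exact hfI i)).trans hIq) hqQ)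
  refine ⟨g₁ * g, fun hm => (Ideal.IsPrime.mem_or_mem ‹Q.IsPrime› hm).elim hg₁ hg,
    isGlobalCI_away I f hfI _ (fun y hy => ?_) fun q _ hIq hgq => hgd q hIq fun h' => hgq (q.mul_mem_left _ h')⟩
  rw [mul_right_comm]
  exact Ideal.mul_mem_right _ _ (hg₁I y hy)

/-- Complete intersection points of algebras of finite type have global complete intersection
neighbourhoods. -/
theorem exists_globalCI_away {S : Type u} [CommRing S] [Algebra k S] [Algebra.FiniteType k S]
    (P : Ideal S) [P.IsPrime] (h : Pi1.IsCompleteIntersection (Localization.AtPrime P)) :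
    ∃ g ∉ P, Synt.IsGlobalCI k (Localization.Away g) := by
  obtain ⟨n, π, hπ⟩ := Algebra.FiniteType.iff_quotient_mvPolynomial''.mp (‹_› : Algebra.FiniteType k S)
  let Q := P.comap π.toRingHom
  haveI : IsRegularLocalRing (Localization.AtPrime Q) := IsRegularRing.isRegularLocalRing_localization Q
  obtain ⟨h1, h2⟩ := Groth.L07.CILocus.localRingHom_surjective π.toRingHom hπ P
  haveI := isNoetherianRing_of_surjective _ _ _ h1
  have hreg := Groth.L07.RegQuot.isRegularIdeal_of_isCompleteIntersection _ h1 h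
  rw [h2] at hreg
  obtain ⟨g, hg, hCI⟩ := exists_globalCI_nhd (RingHom.ker π.toRingHom) Q (Ideal.comap_mono bot_le) hreg
  let e : (MvPolynomial (Fin n) k ⧸ RingHom.ker π.toRingHom) ≃ₐ[k] S :=
    Ideal.quotientKerAlgEquivOfSurjective (f := π) hπ
  refine ⟨π g, hg, isGlobalCI_of_algEquiv ?_ hCI⟩
  exact AlgEquiv.ofRingEquiv (f := IsLocalization.ringEquivOfRingEquiv
    (M := Submonoid.powers (Ideal.Quotient.mk (RingHom.ker π.toRingHom) g)) (T := Submonoid.powers (π g))
    (Localization.Away (Ideal.Quotient.mk (RingHom.ker π.toRingHom) g)) (Localization.Away (π g))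
    e.toRingEquiv (by rw [Submonoid.map_powers]; rfl)) (fun x => by
    rw [IsScalarTower.algebraMap_apply k (MvPolynomial (Fin n) k ⧸ RingHom.ker π.toRingHom)
      (Localization.Away _), IsLocalization.ringEquivOfRingEquiv_eq]
    show algebraMap S _ (e (algebraMap k _ x)) = _
    rw [e.commutes, ← IsScalarTower.algebraMap_apply])

/-- Complete intersection over a field, intrinsically. -/
theorem isCIOver_iff {S : Type u} [CommRing S] [IsLocalRing S] [Algebra k S]
    [Algebra.EssFiniteType k S] : Synt.IsCIOver k S ↔ Pi1.IsCompleteIntersection S := by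
  haveI : IsNoetherianRing S := Algebra.EssFiniteType.isNoetherianRing k S
  constructor
  · rintro ⟨R, _, _, _, -, rs, -, hreg, ⟨e⟩⟩
    refine Groth.L07.RegQuot.isCompleteIntersection_of_isRegularIdeal
      ((e.symm.toAlgHom.toRingHom).comp (Ideal.Quotient.mk (Ideal.ofList rs)))
      (e.symm.surjective.comp Ideal.Quotient.mk_surjective) ⟨rs, hreg, ?_⟩
    ext y
    rw [RingHom.mem_ker, ← Ideal.Quotient.eq_zero_iff_mem]
    exact e.symm.toAddEquiv.map_eq_zero_iff.symm
  · intro h
    obtain ⟨n, π, hπ⟩ := Algebra.FiniteType.iff_quotient_mvPolynomial''.mp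
      (inferInstance : Algebra.FiniteType k (Algebra.EssFiniteType.subalgebra k S))
    let ψ : MvPolynomial (Fin n) k →ₐ[k] S := (Algebra.EssFiniteType.subalgebra k S).val.comp π
    let Q := (IsLocalRing.maximalIdeal S).comap ψ.toRingHom
    haveI : IsRegularLocalRing (Localization.AtPrime Q) := IsRegularRing.isRegularLocalRing_localization Q
    haveI : Algebra.EssFiniteType k (Localization.AtPrime Q) :=
      Algebra.EssFiniteType.comp k (MvPolynomial (Fin n) k) _
    have hu : ∀ y : Q.primeCompl, IsUnit (ψ y) := fun y =>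
      not_not.mp fun hnu => y.2 hnu
    let L : Localization.AtPrime Q →ₐ[k] S := IsLocalization.liftAlgHom (M := Q.primeCompl) (f := ψ) hu
    have hL : ∀ y, L (algebraMap _ _ y) = ψ y := fun y => IsLocalization.lift_eq _ _
    have hsurj : Function.Surjective L := fun s => by
      obtain ⟨⟨x, t⟩, hx⟩ := IsLocalization.surj (Algebra.EssFiniteType.submonoid k S) s
      obtain ⟨a, ha⟩ := hπ x
      obtain ⟨b, hb⟩ := hπ (t : Algebra.EssFiniteType.subalgebra k S)
      have hψa : ψ a = (x : S) := congrArg Subtype.val ha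
      have hψb : ψ b = ((t : Algebra.EssFiniteType.subalgebra k S) : S) := congrArg Subtype.val hb
      have htu : IsUnit (ψ b) := hψb ▸ t.2
      have hbQ : b ∈ Q.primeCompl := fun hm => hm htu
      refine ⟨IsLocalization.mk' _ a (⟨b, hbQ⟩ : Q.primeCompl), htu.mul_left_cancel ?_⟩
      rw [hψb]
      have h1 := congrArg L (IsLocalization.mk'_spec' (Localization.AtPrime Q) a (⟨b, hbQ⟩ : Q.primeCompl))
      rw [map_mul, hL, hL, hψa, hψb] at h1
      rw [h1, mul_comm]
      exact hx.symm
    obtain ⟨rs, hrs, hrk⟩ := Groth.L07.RegQuot.isRegularIdeal_of_isCompleteIntersection L.toRingHom hsurj h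
    refine ⟨Localization.AtPrime Q, inferInstance, inferInstance, inferInstance, inferInstance, rs,
      fun r hr => IsLocalRing.le_maximalIdeal (RingHom.ker_ne_top L.toRingHom) (hrk ▸ Ideal.subset_span hr),
      hrs, ⟨((Ideal.quotientEquivAlgOfEq k hrk).trans (Ideal.quotientKerAlgEquivOfSurjective (f := L) hsurj)).symm⟩⟩

theorem isCIOver_atPrime_iff {S : Type u} [CommRing S] [Algebra k S] [Algebra.FiniteType k S]
    (P : Ideal S) [P.IsPrime] :
    Synt.IsCIOver k (Localization.AtPrime P) ↔ Pi1.IsCompleteIntersection (Localization.AtPrime P) := by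
  haveI : Algebra.EssFiniteType k (Localization.AtPrime P) := Algebra.EssFiniteType.comp k S _
  exact isCIOver_iff

theorem isCI_away_iff {S : Type u} [CommRing S] [IsNoetherianRing S] {g : S} (P : Ideal (Localization.Away g))
    [P.IsPrime] :
    Pi1.IsCompleteIntersection (Localization.AtPrime (P.comap (algebraMap S (Localization.Away g)))) ↔
      Pi1.IsCompleteIntersection (Localization.AtPrime P) := by
  haveI : IsNoetherianRing (Localization.Away g) := IsLocalization.isNoetherianRing (Submonoid.powers g) _ inferInstance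
  haveI : IsNoetherianRing (Localization.AtPrime P) := IsLocalization.isNoetherianRing P.primeCompl _ inferInstance
  haveI : IsNoetherianRing (Localization.AtPrime (P.comap (algebraMap S (Localization.Away g)))) :=
    IsLocalization.isNoetherianRing (P.comap (algebraMap S (Localization.Away g))).primeCompl _ inferInstance
  exact Groth.L07.Avramov.isCompleteIntersection_congr
    (IsLocalization.localizationLocalizationAtPrimeIsoLocalization (Submonoid.powers g) P).toRingEquiv

/-- Local complete intersections over a field, through their local rings. -/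
theorem isLCIOver_iff {S : Type u} [CommRing S] [Algebra k S] :
    Synt.IsLCIOver k S ↔ Algebra.FiniteType k S ∧
      ∀ P : PrimeSpectrum S, Pi1.IsCompleteIntersection (Localization.AtPrime P.asIdeal) := by
  constructor
  · rintro ⟨hft, h⟩
    haveI := hft
    haveI : IsNoetherianRing S := Algebra.FiniteType.isNoetherianRing k S
    refine ⟨hft, fun P => ?_⟩
    obtain ⟨g, hg, hCI⟩ := h P
    obtain ⟨P', hP'⟩ : P ∈ Set.range (PrimeSpectrum.comap (algebraMap S (Localization.Away g))) := by
      rw [PrimeSpectrum.localization_away_comap_range (Localization.Away g) g]; exact hg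
    subst hP'
    exact (isCI_away_iff P'.asIdeal).mpr (isCI_of_isGlobalCI hCI P'.asIdeal)
  · rintro ⟨hft, h⟩
    haveI := hft
    exact ⟨hft, fun P => exists_globalCI_away P.asIdeal (h P)⟩

theorem isLCIOver_iff_maximal {S : Type u} [CommRing S] [Algebra k S] [Algebra.FiniteType k S] :
    Synt.IsLCIOver k S ↔ ∀ m : MaximalSpectrum S, Pi1.IsCompleteIntersection (Localization.AtPrime m.asIdeal) := by
  refine ⟨fun h m => ((isLCIOver_iff (k := k)).mp h).2 ⟨m.asIdeal, m.isMaximal.isPrime⟩, fun h => ⟨(inferInstance : Algebra.FiniteType k S), fun P => ?_⟩⟩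
  obtain ⟨m, hm, hPm⟩ := Ideal.exists_le_maximal P.asIdeal P.2.ne_top
  obtain ⟨g, hg, hCI⟩ := exists_globalCI_away (k := k) m (h ⟨m, hm⟩)
  exact ⟨g, fun h' => hg (hPm h'), hCI⟩

theorem isLCIOver_away {S : Type u} [CommRing S] [Algebra k S] (g : S) (h : Synt.IsLCIOver k S) :
    Synt.IsLCIOver k (Localization.Away g) := by
  obtain ⟨hft, h⟩ := isLCIOver_iff.mp h
  haveI := hft
  haveI : IsNoetherianRing S := Algebra.FiniteType.isNoetherianRing k S
  haveI : IsScalarTower k S (Localization.Away g) := inferInstance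
  haveI : Algebra.FiniteType S (Localization.Away g) := IsLocalization.finiteType_of_monoid_fg (Submonoid.powers g) _
  exact isLCIOver_iff.mpr ⟨Algebra.FiniteType.trans (S := S) inferInstance inferInstance, fun P =>
    (isCI_away_iff P.asIdeal).mp (h (PrimeSpectrum.comap (algebraMap S (Localization.Away g)) P))⟩

end Groth.L07.Synt
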