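import Groth.Agent.L07.CILocus
import Groth.Agent.L07.FibreRegular
import Groth.Agent.L07.QuasiRegular
import Groth.Agent.L07.SyntField
import Mathlib.RingTheory.Flat.Localization
import Mathlib.RingTheory.MvPolynomial.Basic

/-! Relative global complete intersections: regularity, flatness, syntomicity. -/

namespace Groth.L07.SyntRel

open TensorProduct PrimeSpectrum RingTheory.Sequence
open Groth.L07.CILocus

set_option linter.style.haveILetI false
set_option maxSynthPendingDepth 3

universe u

variable {R : Type u} [CommRing R] {n c : ℕ}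

local notation "Po" => MvPolynomial (Fin n) R

/-- Weak regularity on the localized fibre module is weak regularity in the fibre's local ring. -/
theorem isWeaklyRegular_localized_fibre (p : PrimeSpectrum R) (q' : Ideal Po) [q'.IsPrime]
    (Q : Ideal (MvPolynomial (Fin n) p.asIdeal.ResidueField)) [Q.IsPrime] (hQ : Q.comap (θ p) = q')
    (l : List Po)
    (h : IsWeaklyRegular (Localization.AtPrime Q)
      (l.map fun y => algebraMap (MvPolynomial (Fin n) p.asIdeal.ResidueField) (Localization.AtPrime Q) (θ p y))) :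
    IsWeaklyRegular (LocalizedModule q'.primeCompl (Po ⊗[R] p.asIdeal.ResidueField)) l := by
  let K := p.asIdeal.ResidueField
  let L := Localization.AtPrime Q
  letI : Algebra Po L := ((algebraMap (MvPolynomial (Fin n) K) L).comp (θ p)).toAlgebra
  letI : SMul Po L := Algebra.toSMul
  letI : Module Po L := Algebra.toModule
  haveI : IsScalarTower Po L L := IsScalarTower.right
  let ψ0 : Po ⊗[R] K ≃ₐ[R] MvPolynomial (Fin n) K :=
    (Algebra.TensorProduct.comm R Po K).trans
      ((MvPolynomial.algebraTensorAlgEquiv R K (σ := Fin n)).restrictScalars R)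
  have hψ0 : ∀ y : Po, ψ0 (y ⊗ₜ[R] 1) = θ p y := fun y => by simp [ψ0, θ, K]
  have hmul : ∀ (y : Po) z, ψ0 (y • z) = θ p y * ψ0 z := fun y z => by
    rw [Algebra.smul_def, map_mul, Algebra.TensorProduct.algebraMap_apply, Algebra.algebraMap_self_apply, hψ0]
  let ψ : Po ⊗[R] K →ₗ[Po] L :=
    { toFun := fun z => algebraMap (MvPolynomial (Fin n) K) L (ψ0 z)
      map_add' := fun a b => by rw [map_add, map_add]
      map_smul' := fun y z => by
        rw [hmul, map_mul, RingHom.id_apply, Algebra.smul_def, RingHom.algebraMap_toAlgebra]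
        rfl }
  have hψ : ∀ z, ψ z = algebraMap (MvPolynomial (Fin n) K) L (ψ0 z) := fun _ => rfl
  have hθ : ∀ y : Po, algebraMap Po L y = algebraMap (MvPolynomial (Fin n) K) L (θ p y) := fun _ => rfl
  haveI : IsLocalizedModule q'.primeCompl ψ := by
    refine ⟨fun ⟨s, hs⟩ => ?_, fun z => ?_, fun {a b} hab => ?_⟩
    · have hu : IsUnit (algebraMap Po L s) := by
        rw [hθ]
        exact IsLocalization.map_units L (⟨θ p s, fun hm => hs (hQ ▸ hm)⟩ : Q.primeCompl)
      refine (Module.End.isUnit_iff _).mpr ⟨fun a b hab => ?_, fun a => ?_⟩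
      · rw [Module.algebraMap_end_apply, Module.algebraMap_end_apply, Algebra.smul_def, Algebra.smul_def] at hab
        exact hu.mul_left_cancel hab
      · obtain ⟨v, hv⟩ := hu.exists_right_inv
        exact ⟨v * a, by rw [Module.algebraMap_end_apply, Algebra.smul_def, ← mul_assoc, hv, one_mul]⟩
    · obtain ⟨x, ⟨s, hs⟩, rfl⟩ := IsLocalization.exists_mk'_eq Q.primeCompl z
      obtain ⟨r, hr, y, hy⟩ := exists_lift p x
      obtain ⟨r', hr', t, ht⟩ := exists_lift p s
      refine ⟨⟨(MvPolynomial.C r' * y) ⊗ₜ[R] 1, ⟨t * MvPolynomial.C r, fun hm => ?_⟩⟩, ?_⟩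
      · rw [← hQ, SetLike.mem_coe, Ideal.mem_comap, map_mul, ht] at hm
        rcases Ideal.IsPrime.mem_or_mem ‹_› hm with h' | h'
        · exact (Ideal.IsPrime.mem_or_mem ‹_› h').elim (C_ne hr' _) hs
        · rw [show θ (d := n) p (MvPolynomial.C r) = MvPolynomial.C (algebraMap R K r) by simp [θ, K]] at h'
          exact C_ne hr _ h'
      · rw [hψ, hψ0]
        show (t * MvPolynomial.C r) • (IsLocalization.mk' L x (⟨s, hs⟩ : Q.primeCompl)) = _
        rw [Algebra.smul_def, hθ]
        simp only [map_mul, ht, hy, show ∀ a : R, θ (d := n) p (MvPolynomial.C a) =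
          MvPolynomial.C (algebraMap R K a) from fun a => by simp [θ, K]]
        rw [← IsLocalization.mk'_spec (M := Q.primeCompl) L x ⟨s, hs⟩]
        ring
    · rw [hψ, hψ] at hab
      obtain ⟨⟨s, hs⟩, he⟩ := IsLocalization.exists_of_eq (M := Q.primeCompl) hab
      obtain ⟨r', hr', t, ht⟩ := exists_lift p s
      refine ⟨⟨t, fun hm => ?_⟩, ψ0.injective ?_⟩
      · rw [← hQ, SetLike.mem_coe, Ideal.mem_comap, ht] at hm
        exact (Ideal.IsPrime.mem_or_mem ‹_› hm).elim (C_ne hr' _) hs
      · show ψ0 (t • a) = ψ0 (t • b)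
        rw [hmul, hmul, ht, mul_assoc, mul_assoc, he]
  refine ((IsLocalizedModule.iso q'.primeCompl ψ).isWeaklyRegular_congr l).mpr
    ((isWeaklyRegular_map_algebraMap_iff L L l).mp ?_)
  exact h

/-- A localized quotient of the ring is the quotient of the local ring. -/
theorem flat_quot (q' : Ideal Po) [q'.IsPrime] (l : List Po)
    (h : Module.Flat R (LocalizedModule q'.primeCompl (Po ⧸ (Ideal.ofList l • (⊤ : Submodule Po Po))))) :
    Module.Flat R (Localization.AtPrime q' ⧸
      Ideal.ofList (l.map (algebraMap Po (Localization.AtPrime q')))) := by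
  let L := Localization.AtPrime q'
  let K : Submodule Po Po := Ideal.ofList l • ⊤
  have hK : K.localized' L q'.primeCompl (Algebra.linearMap Po L) = Ideal.ofList (l.map (algebraMap Po L)) := by
    rw [← Ideal.map_ofList, ← Ideal.localized'_eq_map L q'.primeCompl]
    congr 1
    show Ideal.ofList l • ⊤ = _
    rw [smul_eq_mul, Ideal.mul_top]
  exact Module.Flat.of_linearEquiv
    (((IsLocalizedModule.iso q'.primeCompl (K.toLocalizedQuotient' L q'.primeCompl (Algebra.linearMap Po L))) ≪≫ₗ
      (Submodule.quotEquivOfEq _ _ hK).restrictScalars Po).restrictScalars R).symm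

/-- Elements cutting the fibre by their number are transversally regular. -/
theorem transversal (I : Ideal (MvPolynomial (Fin n) R)) (f : Fin c → MvPolynomial (Fin n) R)
    (hI : Ideal.span (Set.range f) = I) (P : PrimeSpectrum (Po ⧸ I))
    (q' : Ideal (MvPolynomial (Fin n) R)) [q'.IsPrime] (hq' : P.asIdeal.comap (Ideal.Quotient.mk I) = q')
    (hht : ∀ (q : Ideal (Pol I P)) [q.IsPrime],
      I.map (θ (comap (algebraMap R (Po ⧸ I)) P)) ≤ q → q ≤ polPrime I P → (c : ℕ∞) ≤ q.height) :
    IsRegular (Localization.AtPrime q')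
        ((List.ofFn f).map (algebraMap (MvPolynomial (Fin n) R) (Localization.AtPrime q'))) ∧
      ∀ i ≤ c, Module.Flat R (LocalizedModule q'.primeCompl (MvPolynomial (Fin n) R ⧸
        (Ideal.ofList ((List.ofFn f).take i) • (⊤ : Submodule (MvPolynomial (Fin n) R) (MvPolynomial (Fin n) R))))) := by
  subst hq'
  let q' := P.asIdeal.comap (Ideal.Quotient.mk I)
  set p := comap (algebraMap R (Po ⧸ I)) P
  have hQ : (polPrime I P).comap (θ p) = q' := comap_polPrime I P
  have hmap : I.map (θ p) = Ideal.span (Set.range (θ p ∘ f)) := by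
    rw [← hI, Ideal.map_span, ← Set.range_comp]
  have hreg := Groth.L07.CIField.isRegular_of_height (θ p ∘ f) (polPrime I P)
    (hmap.ge.trans (map_le_polPrime I P)) (fun q _ h1 h2 => hht q (hmap.trans_le h1) h2)
  have hfQ : ∀ b ∈ List.ofFn f, b ∈ q' := fun b hb => by
    obtain ⟨i, rfl⟩ := List.mem_ofFn.mp hb
    show Ideal.Quotient.mk I (f i) ∈ P.asIdeal
    rw [Ideal.Quotient.eq_zero_iff_mem.mpr (hI ▸ Ideal.subset_span ⟨i, rfl⟩)]
    exact zero_mem _
  have hw := isWeaklyRegular_localized_fibre p q' (polPrime I P) hQ (List.ofFn f)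
    (by simpa [List.map_ofFn, Function.comp_def] using hreg.toIsWeaklyRegular)
  haveI : Module.Flat R (LocalizedModule q'.primeCompl Po) := Localization.flat (R := R) (MvPolynomial (Fin n) R) q'.primeCompl
  obtain ⟨h1, h2⟩ := Groth.L07.FibreRegular.isWeaklyRegular_and_flat (A := R) q' (List.ofFn f) hfQ Po
    inferInstance hw
  refine ⟨⟨(isWeaklyRegular_map_algebraMap_iff _ _ _).mpr h1, fun htop => ?_⟩,
    fun i hi => h2 i (by rw [List.length_ofFn]; exact hi)⟩
  rw [smul_eq_mul, Ideal.mul_top] at htop
  refine (IsLocalRing.maximalIdeal.isMaximal (Localization.AtPrime q')).ne_top (top_le_iff.mp (htop.le.trans ?_))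
  rw [← Localization.AtPrime.map_eq_maximalIdeal, ← Ideal.map_ofList]
  exact Ideal.map_mono (Ideal.span_le.mpr hfQ)


variable {F : Fin c → MvPolynomial (Fin n) R}

/-- Heights in the fibres of a relative global complete intersection. -/
theorem height_ge_of_isRelGCI (h : Synt.IsRelGCI R n c F) (p : PrimeSpectrum R)
    (q : Ideal (MvPolynomial (Fin n) p.asIdeal.ResidueField)) [q.IsPrime]
    (hq : (Ideal.span (Set.range F)).map (θ p) ≤ q) : (c : ℕ∞) ≤ q.height := by
  let I := Ideal.span (Set.range F)
  rw [← ker_φ I p] at hq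
  let e := RingHom.quotientKerEquivOfSurjective (f := (φ I p).toRingHom) (φ_surjective I p)
  have hsur := Ideal.Quotient.factor_surjective hq
  haveI : Nontrivial (MvPolynomial (Fin n) p.asIdeal.ResidueField ⧸ RingHom.ker (φ I p).toRingHom) :=
    Ideal.Quotient.nontrivial_iff.mpr fun ht => (Ideal.IsPrime.ne_top ‹q.IsPrime›) (top_le_iff.mp (ht ▸ hq))
  obtain ⟨hcn, hdim⟩ := h p e.toEquiv.symm.nontrivial
  have h1 := ringKrullDim_le_of_surjective _ hsur
  rw [ringKrullDim_eq_of_ringEquiv e, hdim] at h1
  obtain ⟨a, b, ha, hb, hab⟩ := Groth.L07.CIField.exists_height_add q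
  rw [hb] at h1
  have : b ≤ n - c := by exact_mod_cast h1
  rw [ha]
  exact_mod_cast (show c ≤ a by omega)

/-- A relative global complete intersection is transversally regular at every point. -/
theorem transversal_of_isRelGCI (h : Synt.IsRelGCI R n c F) (q' : Ideal Po) [q'.IsPrime]
    (hq' : Ideal.span (Set.range F) ≤ q') :
    IsRegular (Localization.AtPrime q') ((List.ofFn F).map (algebraMap Po (Localization.AtPrime q'))) ∧
      ∀ i ≤ c, Module.Flat R (LocalizedModule q'.primeCompl
        (Po ⧸ (Ideal.ofList ((List.ofFn F).take i) • (⊤ : Submodule Po Po)))) := by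
  have hker : RingHom.ker (Ideal.Quotient.mk (Ideal.span (Set.range F))) ≤ q' := by rwa [Ideal.mk_ker]
  haveI := Ideal.map_isPrime_of_surjective Ideal.Quotient.mk_surjective hker
  have hc : (q'.map (Ideal.Quotient.mk (Ideal.span (Set.range F)))).comap
      (Ideal.Quotient.mk (Ideal.span (Set.range F))) = q' := by
    rw [Ideal.comap_map_of_surjective _ Ideal.Quotient.mk_surjective, ← RingHom.ker_eq_comap_bot,
      Ideal.mk_ker, sup_eq_left.mpr hq']
  exact transversal _ F rfl ⟨q'.map (Ideal.Quotient.mk _), inferInstance⟩ q' hc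
    (fun q _ h1 _ => height_ge_of_isRelGCI h _ q h1)

/-- A relative global complete intersection is flat. -/
theorem flat_of_isRelGCI (h : Synt.IsRelGCI R n c F) : Module.Flat R (Synt.RelGCIRing R n c F) := by
  refine Module.flat_of_isLocalized_maximal (S := Po) (M := Synt.RelGCIRing R n c F)
    (fun P => LocalizedModule P.primeCompl (Synt.RelGCIRing R n c F))
    (fun P _ => LocalizedModule.mkLinearMap P.primeCompl _) fun P _ => ?_
  by_cases hP : Ideal.span (Set.range F) ≤ P
  · have := (transversal_of_isRelGCI h P hP).2 c le_rfl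
    let e : (Po ⧸ (Ideal.ofList ((List.ofFn F).take c) • (⊤ : Submodule Po Po))) ≃ₗ[Po]
        Synt.RelGCIRing R n c F := Submodule.quotEquivOfEq _ _ (by
      rw [List.take_of_length_le (by simp), smul_eq_mul, Ideal.mul_top, Groth.L07.QReg.ofList_ofFn])
    exact Module.Flat.of_linearEquiv ((IsLocalizedModule.mapEquiv P.primeCompl
      (LocalizedModule.mkLinearMap P.primeCompl _) (LocalizedModule.mkLinearMap P.primeCompl _)
      (Localization.AtPrime P) e).restrictScalars R).symm
  · obtain ⟨y, hy, hyP⟩ := SetLike.not_le_iff_exists.mp hP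
    haveI : Subsingleton (LocalizedModule P.primeCompl (Synt.RelGCIRing R n c F)) := by
      rw [LocalizedModule.subsingleton_iff]
      exact fun m => ⟨y, hyP, by
        obtain ⟨m, rfl⟩ := Ideal.Quotient.mk_surjective m
        exact Ideal.Quotient.eq_zero_iff_mem.mpr (Ideal.mul_mem_right _ _ hy)⟩
    infer_instance

/-- The fibres of a relative global complete intersection are global complete intersections. -/
theorem isGlobalCI_fibre (h : Synt.IsRelGCI R n c F) (p : PrimeSpectrum R) :
    Synt.IsGlobalCI p.asIdeal.ResidueField (p.asIdeal.Fiber (Synt.RelGCIRing R n c F)) := by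
  rcases subsingleton_or_nontrivial (p.asIdeal.Fiber (Synt.RelGCIRing R n c F)) with hs | hs
  · exact Or.inl hs
  · obtain ⟨hcn, hdim⟩ := h p hs
    refine Or.inr ⟨n, c, hcn, φ _ p, θ p ∘ F, φ_surjective _ p, ?_, hdim⟩
    rw [ker_φ, Ideal.map_span, ← Set.range_comp]

theorem isSyntomic_of_isRelGCI (h : Synt.IsRelGCI R n c F) :
    Synt.IsSyntomic R (Synt.RelGCIRing R n c F) := by
  refine ⟨flat_of_isRelGCI h, Algebra.FinitePresentation.quotient (Submodule.fg_span (Set.finite_range F)),
    fun p => Groth.L07.Synt.isLCIOver_iff.mpr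
    ⟨inferInstance, fun P => Groth.L07.Synt.isCI_of_isGlobalCI (isGlobalCI_fibre h p) P.asIdeal⟩⟩

/-- The quadratic relations among the equations are trivial. -/
theorem mem_span_of_sum_mem_sq (h : Synt.IsRelGCI R n c F) (a : Fin c → Po)
    (ha : ∑ i, a i * F i ∈ Ideal.span (Set.range F) ^ 2) (i : Fin c) :
    a i ∈ Ideal.span (Set.range F) := by
  classical
  by_contra hai
  let I := Ideal.span (Set.range F)
  have hne : I.colon (Ideal.span {a i}) ≠ ⊤ := fun ht => hai (by
    simpa using Submodule.mem_colon.mp (ht ▸ Submodule.mem_top : (1 : Po) ∈ I.colon (Ideal.span {a i})) _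
      (Ideal.mem_span_singleton_self _))
  obtain ⟨M, hM, hle⟩ := Ideal.exists_le_maximal _ hne
  have hIM : I ≤ M := fun y hy => hle (Submodule.mem_colon.mpr fun z _ => Ideal.mul_mem_right _ _ hy)
  let L := Localization.AtPrime M
  have hreg := (transversal_of_isRelGCI h M hIM).1.toIsWeaklyRegular
  rw [List.map_ofFn] at hreg
  have hspan : Ideal.span (Set.range (algebraMap Po L ∘ F)) = I.map (algebraMap Po L) := by
    rw [Ideal.map_span, ← Set.range_comp]
  have := Groth.L07.QReg.isQuasiRegular_of_isWeaklyRegular hreg 1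
    (∑ j, MvPolynomial.C (algebraMap Po L (a j)) * MvPolynomial.X j)
    (MvPolynomial.IsHomogeneous.sum _ _ _ fun j _ => (MvPolynomial.isHomogeneous_X _ j).C_mul _)
    (by
      rw [hspan, ← Ideal.map_pow, show MvPolynomial.eval (algebraMap Po L ∘ F)
        (∑ j, MvPolynomial.C (algebraMap Po L (a j)) * MvPolynomial.X j) = algebraMap Po L (∑ j, a j * F j) by simp]
      exact Ideal.mem_map_of_mem _ ha) (Finsupp.single i 1)
  simp only [MvPolynomial.coeff_sum, MvPolynomial.coeff_C_mul, MvPolynomial.coeff_X,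
    mul_ite, mul_one, mul_zero, Finset.sum_ite_eq', Finset.mem_univ, if_true,
    Finsupp.single_left_inj one_ne_zero] at this
  rw [hspan] at this
  obtain ⟨s, hs, hsa⟩ := (IsLocalization.algebraMap_mem_map_algebraMap_iff M.primeCompl _ _ _).mp this
  refine hs (hle (Submodule.mem_colon.mpr fun z hz => ?_))
  obtain ⟨w, rfl⟩ := Ideal.mem_span_singleton'.mp hz
  rw [smul_eq_mul, mul_left_comm]
  exact I.mul_mem_left w hsa

end Groth.L07.SyntRel
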