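import Groth.Agent.L07.CIScheme
import Groth.Agent.S2843

/-! Complete intersection fibres and base change. -/

namespace Groth.L07.CIBaseChange

open CategoryTheory CategoryTheory.Limits AlgebraicGeometry

set_option linter.style.haveILetI false
set_option maxSynthPendingDepth 3

universe u

theorem isLocallyNoetherian_fiber {X S : Scheme.{u}} (f : X ⟶ S) [LocallyOfFiniteType f] (s : S) :
    IsLocallyNoetherian (f.fiber s) :=
  haveI : LocallyOfFiniteType (f.fiberToSpecResidueField s) :=
    inferInstanceAs (LocallyOfFiniteType (pullback.snd _ _))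
  LocallyOfFiniteType.isLocallyNoetherian (f.fiberToSpecResidueField s)

/-- The local ring of a fibre at a point only depends on the point of the source. -/
theorem isCI_fiberStalk_iff {X S : Scheme.{u}} (f : X ⟶ S) (x : X) (s : S) (z : f.fiber s)
    (hz : f.fiberι s z = x) :
    Pi1.IsCompleteIntersection (CInt.fiberStalk f x) ↔
      Pi1.IsCompleteIntersection ((f.fiber s).presheaf.stalk z) := by
  have hs : f.base x = s := by
    have : f.fiberι s z ∈ Set.range (f.fiberι s) := ⟨z, rfl⟩
    rw [f.range_fiberι s, hz] at this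
    exact this
  subst hs
  have : z = f.asFiber x :=
    (f.fiberι (f.base x)).isEmbedding.injective (hz.trans (f.fiberι_asFiber x).symm)
  subst this
  rfl

theorem isCI_stalk_iso {X Y : Scheme.{u}} (e : X ⟶ Y) [IsIso e] [IsLocallyNoetherian X]
    [IsLocallyNoetherian Y] (x : X) :
    Pi1.IsCompleteIntersection (Y.presheaf.stalk (e x)) ↔ Pi1.IsCompleteIntersection (X.presheaf.stalk x) :=
  Groth.L07.Avramov.isCompleteIntersection_congr (asIso (e.stalkMap x)).commRingCatIsoToRingEquiv

/-- Complete intersection stalks are invariant under extension of the ground field. -/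
theorem isCI_fieldExt {k k' : Type u} [Field k] [Field k'] (φ : k →+* k') {F F' : Scheme.{u}}
    (π : F ⟶ Spec (CommRingCat.of k)) [LocallyOfFiniteType π] (π' : F' ⟶ Spec (CommRingCat.of k'))
    (q : F' ⟶ F) (hq : IsPullback q π' π (Spec.map (CommRingCat.ofHom φ))) (z : F') :
    Pi1.IsCompleteIntersection (F.presheaf.stalk (q z)) ↔ Pi1.IsCompleteIntersection (F'.presheaf.stalk z) := by
  letI := φ.toAlgebra
  have hq' : IsPullback q π' π (Spec.map (CommRingCat.ofHom (algebraMap k k'))) := hq
  have key := Groth.Agent.S2843.result F π (hq'.isoPullback.hom z)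
  have hz : (pullback.fst π (Spec.map (CommRingCat.ofHom (algebraMap k k')))) (hq'.isoPullback.hom z) =
      q z := by
    rw [← Scheme.Hom.comp_apply, hq'.isoPullback_hom_fst]
  rw [hz] at key
  haveI : IsLocallyNoetherian (Spec (CommRingCat.of k')) := inferInstance
  haveI : LocallyOfFiniteType π' := MorphismProperty.of_isPullback hq ‹_›
  haveI := LocallyOfFiniteType.isLocallyNoetherian π'
  haveI := LocallyOfFiniteType.isLocallyNoetherian
    (pullback.snd π (Spec.map (CommRingCat.ofHom (algebraMap k k'))))
  exact key.trans (isCI_stalk_iso hq'.isoPullback.hom z)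

/-- Complete intersection fibre rings are invariant under base change. -/
theorem isCI_fiberStalk_baseChange {X S X' S' : Scheme.{u}} (f : X ⟶ S) [LocallyOfFiniteType f]
    {f' : X' ⟶ S'} {g : S' ⟶ S} {g' : X' ⟶ X} (h : IsPullback g' f' f g) (x' : X') :
    Pi1.IsCompleteIntersection (CInt.fiberStalk f' x') ↔
      Pi1.IsCompleteIntersection (CInt.fiberStalk f (g' x')) := by
  have hq := isPullback_fiberToSpecResidueField_of_isPullback h (f' x')
  haveI : LocallyOfFiniteType (f.fiberToSpecResidueField (g (f' x'))) :=
    (inferInstance : LocallyOfFiniteType (pullback.snd f (S.fromSpecResidueField (g (f' x')))))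
  have key := @isCI_fieldExt _ _ _ _ (g.residueFieldMap (f' x')).hom _ _
    (f.fiberToSpecResidueField (g (f' x'))) (inferInstanceAs (LocallyOfFiniteType
      (pullback.snd f (S.fromSpecResidueField (g (f' x'))))))
    _ _ hq (f'.asFiber x')
  set u := pullback.map f' (S'.fromSpecResidueField (f' x')) f (S.fromSpecResidueField (g (f' x'))) g'
    (Spec.map (g.residueFieldMap (f' x'))) g h.w.symm (by simp) with hu
  have hz2 : f.fiberι (g (f' x')) (u (f'.asFiber x')) = g' x' := by
    have hu2 : u ≫ f.fiberι _ = f'.fiberι _ ≫ g' := pullback.lift_fst _ _ _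
    exact (congrArg (fun m => m (f'.asFiber x')) hu2).trans (congrArg g' (f'.fiberι_asFiber x'))
  rw [isCI_fiberStalk_iff f (g' x') _ _ hz2]
  exact key.symm

end Groth.L07.CIBaseChange
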