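import Groth.Agent.L07.CILocus
import Groth.Agent.L07.CIScheme
import Groth.Agent.L07.CIBaseChange

/-! Openness of the relative complete intersection locus. -/

namespace Groth.L07.CILocus

open CategoryTheory AlgebraicGeometry PrimeSpectrum

set_option linter.style.haveILetI false
set_option maxSynthPendingDepth 3

universe u

theorem ciAt_iff_at {R : Type u} [CommRing R] {A : Type u} [CommRing A] [Algebra R A]
    (P : PrimeSpectrum A) (p : PrimeSpectrum R) (hp : comap (algebraMap R A) P = p) :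
    CIAt R P ↔ Pi1.IsCompleteIntersection
      (Localization.AtPrime (preimageEquivFiber R A p ⟨P, hp⟩).asIdeal) := by
  subst hp; rfl

theorem isCI_localization_equiv {B B' : Type u} [CommRing B] [CommRing B'] [IsNoetherianRing B]
    [IsNoetherianRing B'] (e : B ≃+* B') (q : Ideal B') [q.IsPrime] (p : Ideal B) [p.IsPrime]
    (h : p = q.comap e.toRingHom) :
    Pi1.IsCompleteIntersection (Localization.AtPrime p) ↔
      Pi1.IsCompleteIntersection (Localization.AtPrime q) := by
  subst h
  obtain ⟨h1, h2⟩ := localRingHom_surjective e.toRingHom e.surjective q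
  rw [(RingHom.injective_iff_ker_eq_bot e.toRingHom).mp e.injective, Ideal.map_bot] at h2
  haveI : IsNoetherianRing (Localization.AtPrime (q.comap e.toRingHom)) :=
    IsLocalization.isNoetherianRing (q.comap e.toRingHom).primeCompl _ inferInstance
  haveI : IsNoetherianRing (Localization.AtPrime q) :=
    IsLocalization.isNoetherianRing q.primeCompl _ inferInstance
  exact Groth.L07.Avramov.isCompleteIntersection_congr
    (RingEquiv.ofBijective _ ⟨(RingHom.injective_iff_ker_eq_bot _).mpr h2, h1⟩)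

/-- Invariance under isomorphisms of algebras. -/
theorem ciAt_algEquiv {R A B : Type u} [CommRing R] [CommRing A] [CommRing B] [Algebra R A] [Algebra R B]
    [Algebra.FiniteType R B] (e : A ≃ₐ[R] B) (P : PrimeSpectrum B) :
    CIAt R (comap e.toRingEquiv.toRingHom P) ↔ CIAt R P := by
  haveI : Algebra.FiniteType R A := .equiv ‹_› e.symm
  set p := comap (algebraMap R B) P
  have hp : comap (algebraMap R A) (comap e.toRingEquiv.toRingHom P) = p := by
    rw [← comap_comp_apply]
    exact congrArg (fun φ : R →+* B => comap φ P) (RingHom.ext e.commutes)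
  rw [ciAt_iff_at _ p hp, ciAt_iff_at P p rfl]
  haveI : IsNoetherianRing (p.asIdeal.Fiber A) := Algebra.FiniteType.isNoetherianRing p.asIdeal.ResidueField _
  haveI : IsNoetherianRing (p.asIdeal.Fiber B) := Algebra.FiniteType.isNoetherianRing p.asIdeal.ResidueField _
  let E : p.asIdeal.Fiber A ≃+* p.asIdeal.Fiber B := (Algebra.TensorProduct.congr
    (AlgEquiv.refl (R := R) (A₁ := p.asIdeal.ResidueField)) e).toRingEquiv
  refine isCI_localization_equiv E _ _ (congrArg PrimeSpectrum.asIdeal (?_ :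
    preimageEquivFiber R A p ⟨comap e.toRingEquiv.toRingHom P, hp⟩ =
      comap E.toRingHom (preimageEquivFiber R B p ⟨P, rfl⟩)))
  refine (preimageEquivFiber R A p).symm.injective (Subtype.ext ?_)
  rw [Equiv.symm_apply_apply]
  have hb : comap Algebra.TensorProduct.includeRight.toRingHom (preimageEquivFiber R B p ⟨P, rfl⟩) = P :=
    congrArg Subtype.val ((preimageEquivFiber R B p).symm_apply_apply ⟨P, rfl⟩)
  show comap e.toRingEquiv.toRingHom P =
    comap Algebra.TensorProduct.includeRight.toRingHom (comap E.toRingHom _)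
  conv_lhs => rw [← hb]
  rw [← comap_comp_apply, ← comap_comp_apply]
  refine congrArg (fun φ : A →+* p.asIdeal.Fiber B => comap φ _) (RingHom.ext fun a => ?_)
  simp [E]

/-- The openness for a flat finitely presented algebra. -/
theorem exists_nhd_ciAt' {R A : Type u} [CommRing R] [CommRing A] [Algebra R A]
    [Algebra.FinitePresentation R A] [Module.Flat R A] (P : PrimeSpectrum A) (h : CIAt R P) :
    ∃ g ∉ P.asIdeal, ∀ P' : PrimeSpectrum A, g ∉ P'.asIdeal → CIAt R P' := by
  obtain ⟨d, π, hπ, hker⟩ := Algebra.FinitePresentation.out (R := R) (A := A)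
  let e := Ideal.quotientKerAlgEquivOfSurjective hπ
  haveI : Module.Flat R (MvPolynomial (Fin d) R ⧸ RingHom.ker π) := Module.Flat.of_linearEquiv e.toLinearEquiv
  obtain ⟨g, hg, H⟩ := exists_nhd_ciAt (RingHom.ker π) hker (comap e.toRingEquiv.toRingHom P)
    ((ciAt_algEquiv e P).mpr h)
  exact ⟨e g, hg, fun P' hP' => (ciAt_algEquiv e P').mp (H _ hP')⟩

theorem isCI_fibRing_congr {R R' S S' : Type u} [CommRing R] [IsLocalRing R] [CommRing R'] [IsLocalRing R']
    [CommRing S] [CommRing S'] [Algebra R S] [Algebra R' S'] [IsLocalRing (EGA4.FibRing R S)]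
    [IsLocalRing (EGA4.FibRing R' S')] [IsNoetherianRing (EGA4.FibRing R S)]
    [IsNoetherianRing (EGA4.FibRing R' S')] (eR : R ≃+* R') (eS : S ≃+* S')
    (h : ∀ r, eS (algebraMap R S r) = algebraMap R' S' (eR r)) :
    Pi1.IsCompleteIntersection (EGA4.FibRing R S) ↔ Pi1.IsCompleteIntersection (EGA4.FibRing R' S') := by
  refine Groth.L07.Avramov.isCompleteIntersection_congr (Ideal.quotientEquiv _ _ eS ?_)
  rw [EGA4.mB, EGA4.mB, Ideal.map_map, show (eS : S →+* S').comp (algebraMap R S) = (algebraMap R' S').comp (eR : R →+* R')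
    from RingHom.ext h, ← Ideal.map_map]
  congr 1
  exact (IsLocalRing.map_ringEquiv_maximalIdeal eR).symm

/-- The fibre stalk on affine charts. -/
theorem ciAt_iff_fiberStalk {X S : Scheme.{u}} (f : X ⟶ S) [Flat f] [LocallyOfFiniteType f]
    {V : S.Opens} (hV : IsAffineOpen V) {W : X.Opens} (hW : IsAffineOpen W) (e : W ≤ f ⁻¹ᵁ V) (x : X)
    (hx : x ∈ W) :
    letI := (f.appLE V W e).hom.toAlgebra
    CIAt Γ(S, V) (hW.primeIdealOf ⟨x, hx⟩) ↔ Pi1.IsCompleteIntersection (CInt.fiberStalk f x) := by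
  letI := (f.appLE V W e).hom.toAlgebra
  haveI : Module.Flat Γ(S, V) Γ(X, W) := Flat.flat_appLE f hV hW e
  haveI : Algebra.FiniteType Γ(S, V) Γ(X, W) := LocallyOfFiniteType.finiteType_appLE f hV hW e
  let P := hW.primeIdealOf ⟨x, hx⟩
  let p := hV.primeIdealOf ⟨f x, e hx⟩
  have hp : comap (algebraMap Γ(S, V) Γ(X, W)) P = p := by
    haveI : IsOpenImmersion hV.fromSpec := hV.isOpenImmersion_fromSpec
    refine hV.fromSpec.isOpenEmbedding.injective ?_
    refine Eq.trans ?_ (hV.fromSpec_primeIdealOf ⟨f x, e hx⟩).symm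
    refine Eq.trans (congrArg (fun m : Spec Γ(X, W) ⟶ S => m P) (hV.SpecMap_appLE_fromSpec f hW e)) ?_
    exact congrArg f (hW.fromSpec_primeIdealOf ⟨x, hx⟩)
  rw [ciAt_iff_at P p hp]
  let Pb := preimageEquivFiber Γ(S, V) Γ(X, W) p ⟨P, hp⟩
  have hPb : Pb.asIdeal.comap Algebra.TensorProduct.includeRight = P.asIdeal :=
    congrArg (fun z => z.1.asIdeal) ((preimageEquivFiber Γ(S, V) Γ(X, W) p).symm_apply_apply ⟨P, hp⟩)
  obtain ⟨hover, alg, hloc, hcomm, -, ⟨eF⟩⟩ := Groth.L07.CIFibre.exists_fibre_local p.asIdeal Pb.asIdeal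
  haveI : IsNoetherianRing (p.asIdeal.Fiber Γ(X, W)) :=
    Algebra.FiniteType.isNoetherianRing p.asIdeal.ResidueField _
  haveI : IsNoetherianRing (Localization.AtPrime Pb.asIdeal) :=
    IsLocalization.isNoetherianRing Pb.asIdeal.primeCompl _ inferInstance
  haveI := eF.symm.isLocalRing
  haveI := isNoetherianRing_of_ringEquiv _ eF
  rw [Groth.L07.Avramov.isCompleteIntersection_congr eF]
  haveI : IsLocallyNoetherian (f.fiber (f x)) := Groth.L07.CIBaseChange.isLocallyNoetherian_fiber f (f x)
  obtain ⟨eX⟩ := Groth.L07.CIScheme.exists_fiberStalkEquiv f (f x) (f.asFiber x) x (f.fiberι_asFiber x)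
  letI := (f.stalkMap x).hom.toAlgebra
  haveI := eX.symm.isLocalRing
  haveI := isNoetherianRing_of_ringEquiv _ eX.symm
  refine Iff.trans ?_ (Groth.L07.Avramov.isCompleteIntersection_congr eX)
  letI := S.presheaf.algebra_section_stalk ⟨f x, e hx⟩
  letI := X.presheaf.algebra_section_stalk ⟨x, hx⟩
  haveI := hV.isLocalization_stalk ⟨f x, e hx⟩
  haveI h1 : IsLocalization.AtPrime (X.presheaf.stalk x) (Pb.asIdeal.comap Algebra.TensorProduct.includeRight) := by
    show IsLocalization (Pb.asIdeal.comap Algebra.TensorProduct.includeRight).primeCompl _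
    rw [show (Pb.asIdeal.comap Algebra.TensorProduct.includeRight).primeCompl = P.asIdeal.primeCompl from
      Submonoid.ext fun a => not_congr (iff_of_eq (congrArg (fun J : Ideal Γ(X, W) => a ∈ J) hPb))]
    exact hW.isLocalization_stalk ⟨x, hx⟩
  let eR : Localization.AtPrime p.asIdeal ≃+* S.presheaf.stalk (f x) :=
    (IsLocalization.algEquiv p.asIdeal.primeCompl _ _).toRingEquiv
  let eS : Localization.AtPrime (Pb.asIdeal.comap Algebra.TensorProduct.includeRight) ≃+* X.presheaf.stalk x :=
    (IsLocalization.algEquiv (Pb.asIdeal.comap Algebra.TensorProduct.includeRight).primeCompl _ _).toRingEquiv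
  refine isCI_fibRing_congr eR eS fun r => ?_
  have key : eS.toRingHom.comp (algebraMap (Localization.AtPrime p.asIdeal) _) =
      (algebraMap (S.presheaf.stalk (f x)) (X.presheaf.stalk x)).comp eR.toRingHom := by
    refine IsLocalization.ringHom_ext p.asIdeal.primeCompl (RingHom.ext fun a => ?_)
    simp only [RingHom.comp_apply, hcomm, eS, eR, RingEquiv.toRingHom_eq_coe, RingHom.coe_coe,
      AlgEquiv.coe_ringEquiv, AlgEquiv.commutes]
    simp only [RingHom.algebraMap_toAlgebra, Scheme.Hom.germ_stalkMap_apply, Scheme.Hom.appLE,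
      homOfLE_leOfHom, CommRingCat.hom_comp, RingHom.coe_comp, Function.comp_apply,
      X.presheaf.germ_res_apply]
  exact RingHom.congr_fun key r

/-- The relative complete intersection locus is open. -/
theorem isOpen_relCI {X S : Scheme.{u}} (f : X ⟶ S) [Flat f] [LocallyOfFinitePresentation f] :
    IsOpen {x : X | Pi1.IsCompleteIntersection (CInt.fiberStalk f x)} := by
  rw [isOpen_iff_forall_mem_open]
  intro x hx
  obtain ⟨_, ⟨V, hV, rfl⟩, hxV, -⟩ := S.isBasis_affineOpens.exists_subset_of_mem_open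
    (Set.mem_univ (f x)) isOpen_univ
  obtain ⟨_, ⟨W, hW, rfl⟩, hxW, hWV⟩ := X.isBasis_affineOpens.exists_subset_of_mem_open
    (show x ∈ f ⁻¹ᵁ V from hxV) (f ⁻¹ᵁ V).2
  letI := (f.appLE V W hWV).hom.toAlgebra
  haveI : Module.Flat Γ(S, V) Γ(X, W) := Flat.flat_appLE f hV hW hWV
  haveI : Algebra.FinitePresentation Γ(S, V) Γ(X, W) :=
    LocallyOfFinitePresentation.finitePresentation_appLE f hV hW hWV
  haveI : LocallyOfFiniteType f := inferInstance
  obtain ⟨g, hg, H⟩ := exists_nhd_ciAt' _ ((ciAt_iff_fiberStalk f hV hW hWV x hxW).mpr hx)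
  refine ⟨X.basicOpen g, fun y hy => ?_, (X.basicOpen g).2, ?_⟩
  · have hyW : y ∈ W := X.basicOpen_le g hy
    refine (ciAt_iff_fiberStalk f hV hW hWV y hyW).mp (H _ fun hm => ?_)
    have : hW.primeIdealOf ⟨y, hyW⟩ ∈ hW.fromSpec ⁻¹ᵁ X.basicOpen g := by
      show hW.fromSpec _ ∈ X.basicOpen g
      rw [hW.fromSpec_primeIdealOf]; exact hy
    rw [hW.fromSpec_preimage_basicOpen] at this
    exact this hm
  · have hmem : hW.primeIdealOf ⟨x, hxW⟩ ∈ PrimeSpectrum.basicOpen g := hg
    rw [← IsAffineOpen.fromSpec_preimage_basicOpen hW g] at hmem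
    have : hW.fromSpec (hW.primeIdealOf ⟨x, hxW⟩) ∈ X.basicOpen g := hmem
    rwa [hW.fromSpec_primeIdealOf] at this

end Groth.L07.CILocus
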