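import Groth.Agent.L07.SyntNhd
import Groth.Agent.L07.CILocusScheme

/-! Syntomic algebras: pointwise form and local structure. -/

namespace Groth.L07.SyntAlg

open TensorProduct PrimeSpectrum
open Groth.L07.CILocus Groth.L07.SyntNhd Groth.L07.Synt

set_option linter.style.haveILetI false
set_option maxSynthPendingDepth 3

universe u

section

variable {R A : Type u} [CommRing R] [CommRing A] [Algebra R A]

/-- The local rings of the fibres do not see localizations of the source. -/
theorem fibre_away (g : A) (p : PrimeSpectrum R) (P : PrimeSpectrum (Localization.Away g))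
    (hP : comap (algebraMap R (Localization.Away g)) P = p)
    (hp : comap (algebraMap R A) (comap (algebraMap A (Localization.Away g)) P) = p) :
    Nonempty (Localization.AtPrime (preimageEquivFiber R A p ⟨comap (algebraMap A (Localization.Away g)) P, hp⟩).asIdeal
      ≃ₐ[p.asIdeal.ResidueField]
      Localization.AtPrime (preimageEquivFiber R (Localization.Away g) p ⟨P, hP⟩).asIdeal) := by
  let T := Localization.Away g
  let F := p.asIdeal.Fiber A
  let G := p.asIdeal.Fiber T
  let m : F →ₐ[p.asIdeal.ResidueField] G :=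
    Algebra.TensorProduct.map (AlgHom.id p.asIdeal.ResidueField _) (IsScalarTower.toAlgHom R A T)
  letI : Algebra F G := m.toRingHom.toAlgebra
  haveI : IsScalarTower p.asIdeal.ResidueField F G := IsScalarTower.of_algebraMap_eq fun x => (m.commutes x).symm
  have H : (algebraMap F G).comp Algebra.TensorProduct.includeRight.toRingHom =
      Algebra.TensorProduct.includeRight.toRingHom.comp (algebraMap A T) :=
    RingHom.ext fun a => by
      show m ((1 : p.asIdeal.ResidueField) ⊗ₜ[R] a) = _
      rw [Algebra.TensorProduct.map_tmul]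
      rfl
  haveI hloc : IsLocalization ((Submonoid.powers g).map
      (Algebra.TensorProduct.includeRight (R := R) (A := p.asIdeal.ResidueField))) G :=
    IsLocalization.tensorProduct_tensorProduct_right R p.asIdeal.ResidueField (Submonoid.powers g) T H
  let QP := preimageEquivFiber R T p ⟨P, hP⟩
  have hQ : preimageEquivFiber R A p ⟨comap (algebraMap A T) P, hp⟩ = comap (algebraMap F G) QP := by
    refine (preimageEquivFiber R A p).symm.injective (Subtype.ext ?_)
    rw [Equiv.symm_apply_apply]
    have hb : comap Algebra.TensorProduct.includeRight.toRingHom QP = P :=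
      congrArg Subtype.val ((preimageEquivFiber R T p).symm_apply_apply ⟨P, hP⟩)
    show comap (algebraMap A T) P = comap Algebra.TensorProduct.includeRight.toRingHom (comap (algebraMap F G) QP)
    conv_lhs => rw [← hb]
    rw [← comap_comp_apply, ← comap_comp_apply, H]
  rw [hQ]
  haveI : IsLocalization (comap (algebraMap F G) QP).asIdeal.primeCompl (Localization.AtPrime QP.asIdeal) :=
    IsLocalization.isLocalization_isLocalization_atPrime_isLocalization
    ((Submonoid.powers g).map (Algebra.TensorProduct.includeRight (R := R) (A := p.asIdeal.ResidueField)))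
    (S := G) (Localization.AtPrime QP.asIdeal) QP.asIdeal
  exact ⟨(IsLocalization.algEquiv (comap (algebraMap F G) QP).asIdeal.primeCompl
    (Localization.AtPrime (comap (algebraMap F G) QP).asIdeal)
    (Localization.AtPrime QP.asIdeal)).restrictScalars p.asIdeal.ResidueField⟩

/-- Complete intersection fibres do not see localizations of the source. -/
theorem ciAt_away [Algebra.FiniteType R A] (g : A) (P : PrimeSpectrum (Localization.Away g)) :
    CIAt R P ↔ CIAt R (comap (algebraMap A (Localization.Away g)) P) := by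
  let T := Localization.Away g
  haveI : Algebra.FiniteType A T := IsLocalization.finiteType_of_monoid_fg (Submonoid.powers g) _
  haveI : Algebra.FiniteType R T := Algebra.FiniteType.trans (S := A) inferInstance inferInstance
  set p := comap (algebraMap R T) P with hP
  have hp : comap (algebraMap R A) (comap (algebraMap A T) P) = p := by
    rw [hP, ← comap_comp_apply, ← IsScalarTower.algebraMap_eq]
  rw [ciAt_iff_at P p rfl, ciAt_iff_at _ p hp]
  haveI : IsNoetherianRing (p.asIdeal.Fiber A) := Algebra.FiniteType.isNoetherianRing p.asIdeal.ResidueField _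
  haveI : IsNoetherianRing (p.asIdeal.Fiber T) := Algebra.FiniteType.isNoetherianRing p.asIdeal.ResidueField _
  haveI : IsNoetherianRing (Localization.AtPrime (preimageEquivFiber R T p ⟨P, rfl⟩).asIdeal) :=
    IsLocalization.isNoetherianRing (preimageEquivFiber R T p ⟨P, rfl⟩).asIdeal.primeCompl _ inferInstance
  haveI : IsNoetherianRing (Localization.AtPrime (preimageEquivFiber R A p ⟨comap (algebraMap A T) P, hp⟩).asIdeal) :=
    IsLocalization.isNoetherianRing (preimageEquivFiber R A p ⟨_, hp⟩).asIdeal.primeCompl _ inferInstance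
  obtain ⟨E⟩ := fibre_away g p P rfl hp
  exact (Groth.L07.Avramov.isCompleteIntersection_congr E.toRingEquiv).symm

/-- Flatness of local rings does not see localizations of the source. -/
theorem flat_away (g : A) (P : PrimeSpectrum (Localization.Away g)) :
    Module.Flat R (Localization.AtPrime P.asIdeal) ↔
      Module.Flat R (Localization.AtPrime (P.asIdeal.comap (algebraMap A (Localization.Away g)))) := by
  let e := (IsLocalization.localizationLocalizationAtPrimeIsoLocalization (Submonoid.powers g)
    P.asIdeal).restrictScalars R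
  exact ⟨fun _ => Module.Flat.of_linearEquiv e.toLinearEquiv, fun _ => Module.Flat.of_linearEquiv e.symm.toLinearEquiv⟩

/-- A principal open of a principal open is principal. -/
theorem exists_away_away (g : A) (P : PrimeSpectrum (Localization.Away g)) (g' : Localization.Away g)
    (hg' : g' ∉ P.asIdeal) :
    ∃ g₂, g₂ ∉ P.asIdeal.comap (algebraMap A (Localization.Away g)) ∧
      Nonempty (Localization.Away g₂ ≃ₐ[R] Localization.Away g') := by
  let T := Localization.Away g
  obtain ⟨⟨a, t⟩, ha⟩ := IsLocalization.surj (Submonoid.powers g) g'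
  have hu : IsUnit (algebraMap A T t) := IsLocalization.map_units T t
  have hass : Associated g' (algebraMap A T a) := ⟨hu.unit, ha⟩
  let L := Localization.Away g'
  haveI : IsLocalization.Away (algebraMap A T a) L := IsLocalization.Away.of_associated hass
  haveI : IsLocalization.Away (a * g) L := IsLocalization.Away.mul T L g a
  refine ⟨a * g, fun hm => ?_, ⟨(IsLocalization.algEquiv (Submonoid.powers (a * g))
    (Localization.Away (a * g)) L).restrictScalars R⟩⟩
  rw [Ideal.mem_comap, map_mul] at hm
  rcases P.2.mem_or_mem hm with h | h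
  · rw [← ha] at h
    exact (P.2.mem_or_mem h).elim hg' fun h' => P.2.ne_top (Ideal.eq_top_of_isUnit_mem _ h' hu)
  · exact P.2.ne_top (Ideal.eq_top_of_isUnit_mem _ h (IsLocalization.Away.algebraMap_isUnit g))

/-- Complete intersections over a field along isomorphisms. -/
theorem isCIOver_congr {k S S' : Type u} [Field k] [CommRing S] [CommRing S'] [IsLocalRing S] [IsLocalRing S']
    [Algebra k S] [Algebra k S'] (e : S ≃ₐ[k] S') : Synt.IsCIOver k S ↔ Synt.IsCIOver k S' :=
  ⟨fun ⟨W, _, _, _, h1, rs, h2, h3, ⟨e'⟩⟩ => ⟨W, inferInstance, inferInstance, inferInstance, h1, rs, h2, h3,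
      ⟨e.symm.trans e'⟩⟩,
    fun ⟨W, _, _, _, h1, rs, h2, h3, ⟨e'⟩⟩ => ⟨W, inferInstance, inferInstance, inferInstance, h1, rs, h2, h3,
      ⟨e.trans e'⟩⟩⟩

/-- Complete intersections over the residue field do not see localizations of the source. -/
theorem isCIOver_fibre_away (g : A) (p : PrimeSpectrum R) (P : PrimeSpectrum (Localization.Away g))
    (hP : comap (algebraMap R (Localization.Away g)) P = p)
    (hp : comap (algebraMap R A) (comap (algebraMap A (Localization.Away g)) P) = p) :
    Synt.IsCIOver p.asIdeal.ResidueField (Localization.AtPrime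
        (preimageEquivFiber R A p ⟨comap (algebraMap A (Localization.Away g)) P, hp⟩).asIdeal) ↔
      Synt.IsCIOver p.asIdeal.ResidueField (Localization.AtPrime
        (preimageEquivFiber R (Localization.Away g) p ⟨P, hP⟩).asIdeal) := by
  obtain ⟨E⟩ := fibre_away g p P hP hp
  refine isCIOver_congr ?_
  exact E

/-- The pointwise form of syntomicity. -/
theorem isSyntomic_iff [Algebra.FinitePresentation R A] :
    Synt.IsSyntomic R A ↔ Module.Flat R A ∧ ∀ P : PrimeSpectrum A, CIAt R P := by
  refine ⟨fun ⟨h1, _, h3⟩ => ⟨h1, fun P => (isLCIOver_iff.mp (h3 _)).2 (fibPrime R P)⟩,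
    fun ⟨h1, h2⟩ => ⟨h1, ‹_›, fun p => isLCIOver_iff.mpr ⟨inferInstance, fun Q => ?_⟩⟩⟩
  obtain ⟨⟨P, hP⟩, rfl⟩ := (preimageEquivFiber R A p).surjective Q
  exact (ciAt_iff_at P p hP).mp (h2 P)

theorem isSyntomic_of_algEquiv {B : Type u} [CommRing B] [Algebra R B] (e : A ≃ₐ[R] B)
    (h : Synt.IsSyntomic R A) : Synt.IsSyntomic R B := by
  haveI := h.2.1
  haveI : Algebra.FinitePresentation R B := Algebra.FinitePresentation.equiv e
  obtain ⟨h1, h2⟩ := isSyntomic_iff.mp h
  exact isSyntomic_iff.mpr ⟨Module.Flat.of_linearEquiv e.symm.toLinearEquiv,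
    fun P => (ciAt_algEquiv e P).mp (h2 _)⟩

/-- Principal localizations along an isomorphism. -/
theorem nonempty_awayCongr {B : Type u} [CommRing B] [Algebra R B] (e : A ≃ₐ[R] B) (a : A) :
    Nonempty (Localization.Away a ≃ₐ[R] Localization.Away (e a)) :=
  ⟨AlgEquiv.ofRingEquiv (f := IsLocalization.ringEquivOfRingEquiv (M := Submonoid.powers a)
    (T := Submonoid.powers (e a)) (Localization.Away a) (Localization.Away (e a)) e.toRingEquiv
    (by rw [Submonoid.map_powers]; rfl)) fun x => by
    rw [IsScalarTower.algebraMap_apply R A (Localization.Away a), IsLocalization.ringEquivOfRingEquiv_eq]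
    show algebraMap B _ (e (algebraMap R A x)) = _
    rw [e.commutes, ← IsScalarTower.algebraMap_apply]⟩

end

variable {R : Type u} [CommRing R] {n : ℕ}

local notation "Po" => MvPolynomial (Fin n) R

/-- With a flat local ring, generators of the fibre generate nearby. -/
theorem exists_mul_mem (I : Ideal Po) (hI : I.FG) (P : PrimeSpectrum (Po ⧸ I))
    [Module.Flat R (Localization.AtPrime P.asIdeal)] {c : ℕ}
    (f : Fin c → Po) (hfI : ∀ i, f i ∈ I)
    (hgen : (Ideal.span (Set.range (θ (comap (algebraMap R (Po ⧸ I)) P) ∘ f))).map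
        (algebraMap (Pol I P) (Localization.AtPrime (polPrime I P))) =
      (I.map (θ _)).map (algebraMap (Pol I P) (Localization.AtPrime (polPrime I P)))) :
    ∃ g ∉ P.asIdeal.comap (Ideal.Quotient.mk I), ∀ y ∈ I, g * y ∈ Ideal.span (Set.range f) := by
  set p := comap (algebraMap R (Po ⧸ I)) P
  let Q := P.asIdeal.comap (Ideal.Quotient.mk I)
  let S := Localization.AtPrime Q
  have hθQ : ∀ y, y ∈ Q ↔ θ p y ∈ polPrime I P := fun y => by
    rw [← Ideal.mem_comap, comap_polPrime]
  refine Groth.L07.RegSeq.exists_mul_mem_of_map_le hI Q S ?_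
  refine Submodule.le_of_le_smul_of_le_jacobson_bot (I := IsLocalRing.maximalIdeal S) (hI.map _)
    (IsLocalRing.maximalIdeal_le_jacobson _) (Ideal.map_le_iff_le_comap.mpr fun y hy => ?_)
  have h1 : algebraMap (Pol I P) (Localization.AtPrime (polPrime I P)) (θ p y) ∈
      (Ideal.span (Set.range (θ p ∘ f))).map (algebraMap (Pol I P) (Localization.AtPrime (polPrime I P))) :=
    hgen ▸ Ideal.mem_map_of_mem _ (Ideal.mem_map_of_mem _ hy)
  obtain ⟨s', hs', hs'y⟩ :=
    (IsLocalization.algebraMap_mem_map_algebraMap_iff (polPrime I P).primeCompl _ _ _).mp h1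
  rw [Set.range_comp, ← Ideal.map_span] at hs'y
  obtain ⟨r, hr, z, hz, hzy⟩ := exists_lift_mem p (Ideal.span (Set.range f)) hs'y
  obtain ⟨r₀, hr₀, s₀, hs₀⟩ := exists_lift p s'
  let w := MvPolynomial.C r₀ * z - MvPolynomial.C r * s₀ * y
  have hw : w ∈ p.asIdeal.map (algebraMap R Po) := by
    have : w ∈ RingHom.ker (θ (d := n) p) := by
      rw [RingHom.mem_ker, map_sub, map_mul, map_mul, map_mul, hzy, hs₀]
      simp only [θ, MvPolynomial.map_C]
      ring
    rw [θ, MvPolynomial.ker_map, Ideal.ker_algebraMap_residueField] at this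
    exact this
  have hwI : w ∈ I :=
    sub_mem (I.mul_mem_left _ (Ideal.span_le.mpr (by rintro _ ⟨i, rfl⟩; exact hfI i) hz))
      (I.mul_mem_left _ hy)
  obtain ⟨hsur, hker⟩ := localRingHom_surjective (Ideal.Quotient.mk I) Ideal.Quotient.mk_surjective P.asIdeal
  rw [Ideal.mk_ker] at hker
  letI : Algebra S (Localization.AtPrime P.asIdeal) :=
    (Localization.localRingHom Q P.asIdeal (Ideal.Quotient.mk I) rfl).toAlgebra
  haveI : IsScalarTower R S (Localization.AtPrime P.asIdeal) := IsScalarTower.of_algebraMap_eq fun x => by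
    rw [RingHom.algebraMap_toAlgebra, IsScalarTower.algebraMap_apply R Po S,
      IsScalarTower.algebraMap_apply R (Po ⧸ I) (Localization.AtPrime P.asIdeal)]
    erw [Localization.localRingHom_to_map]
    rw [Ideal.Quotient.mk_algebraMap]
  have hk : RingHom.ker (algebraMap S (Localization.AtPrime P.asIdeal)) = I.map (algebraMap Po S) := hker
  have h3 : algebraMap Po S w ∈ p.asIdeal.map (algebraMap R S) := by
    rw [IsScalarTower.algebraMap_eq R Po S, ← Ideal.map_map]; exact Ideal.mem_map_of_mem _ hw
  have h4 : algebraMap Po S w ∈ RingHom.ker (algebraMap S (Localization.AtPrime P.asIdeal)) :=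
    hk ▸ Ideal.mem_map_of_mem _ hwI
  have hw2 : algebraMap Po S w ∈ p.asIdeal.map (algebraMap R S) • I.map (algebraMap Po S) :=
    hk ▸ Groth.L07.TransFibre.mem_smul_of_flat (A := R) (C := S) (Localization.AtPrime P.asIdeal)
      hsur p.asIdeal (algebraMap Po S w) h3 h4
  have hmax : p.asIdeal.map (algebraMap R S) ≤ IsLocalRing.maximalIdeal S := by
    rw [← Localization.AtPrime.map_eq_maximalIdeal, IsScalarTower.algebraMap_eq R Po S, ← Ideal.map_map]
    refine Ideal.map_mono (Ideal.map_le_iff_le_comap.mpr fun a ha => ?_)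
    rw [Ideal.mem_comap, hθQ]
    rw [θ, MvPolynomial.algebraMap_eq, MvPolynomial.map_C, Ideal.algebraMap_residueField_eq_zero.mpr ha, map_zero]
    exact zero_mem _
  have hunit : IsUnit (algebraMap Po S (MvPolynomial.C r * s₀)) := by
    refine IsLocalization.map_units S (⟨_, fun hm => ?_⟩ : Q.primeCompl)
    replace hm := (hθQ _).mp hm
    rw [map_mul, hs₀] at hm
    rcases Ideal.IsPrime.mem_or_mem (inferInstance : (polPrime I P).IsPrime) hm with h' | h'
    · rw [θ, MvPolynomial.map_C] at h'
      exact C_ne hr _ h'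
    · rcases Ideal.IsPrime.mem_or_mem (inferInstance : (polPrime I P).IsPrime) h' with h' | h'
      · exact C_ne hr₀ _ h'
      · exact hs' h'
  obtain ⟨v, hv⟩ := hunit.exists_left_inv
  rw [Ideal.mem_comap]
  have hy' : algebraMap Po S y = v * algebraMap Po S (MvPolynomial.C r₀ * z) - v * algebraMap Po S w := by
    rw [show algebraMap Po S w = algebraMap Po S (MvPolynomial.C r₀ * z) -
      algebraMap Po S (MvPolynomial.C r * s₀) * algebraMap Po S y by simp [w], mul_sub, ← mul_assoc, hv]
    ring
  rw [hy']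
  refine Submodule.sub_mem _ (Submodule.mem_sup_left ?_) (Submodule.mem_sup_right ?_)
  · exact Ideal.mul_mem_left _ _ (Ideal.mem_map_of_mem _ (Ideal.mul_mem_left _ _ hz))
  · refine Submodule.smul_mem _ v ?_
    rw [smul_eq_mul] at hw2 ⊢
    exact Ideal.mul_mono_left hmax hw2

/-- A flat point with complete intersection fibre has a standard neighbourhood. -/
theorem exists_relGCI_nhd (I : Ideal Po) (hI : I.FG) (P : PrimeSpectrum (Po ⧸ I))
    [Module.Flat R (Localization.AtPrime P.asIdeal)] (h : CIAt R P) :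
    ∃ (c : ℕ) (F : Fin c → MvPolynomial (Fin n) R) (y : MvPolynomial (Fin n) R),
      Ideal.Quotient.mk I y ∉ P.asIdeal ∧ Synt.IsRelGCI R (n + 1) (c + 1) (awayRel F y) ∧
        Nonempty (Localization.Away (Ideal.Quotient.mk I y) ≃ₐ[R]
          Synt.RelGCIRing R (n + 1) (c + 1) (awayRel F y)) := by
  obtain ⟨c, f, hfI, hreg, hgen⟩ := exists_generators I P h
  obtain ⟨g, hg, hgI⟩ := exists_mul_mem I hI P f hfI hgen
  let J := Ideal.span (Set.range f)
  have hJI : J ≤ I := Ideal.span_le.mpr (by rintro _ ⟨i, rfl⟩; exact hfI i)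
  set p := comap (algebraMap R (Po ⧸ I)) P with hp
  have hJQ : J.map (θ p) ≤ polPrime I P := (Ideal.map_mono hJI).trans (map_le_polPrime I P)
  have hht : ∀ (q : Ideal (Pol I P)) [q.IsPrime], J.map (θ p) ≤ q → q ≤ polPrime I P → (c : ℕ∞) ≤ q.height :=
    fun q _ h1 h2 => Groth.L07.CIField.height_ge_of_regular (θ p ∘ f) (polPrime I P) hreg q
      (le_trans (by rw [Ideal.map_span, ← Set.range_comp]) h1) h2
  obtain ⟨PJ, hPJ, hgood⟩ : ∃ PJ : PrimeSpectrum (Po ⧸ J),
      PJ.asIdeal.comap (Ideal.Quotient.mk J) = P.asIdeal.comap (Ideal.Quotient.mk I) ∧ Good J c PJ := by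
    have key : ∀ (p₀ : PrimeSpectrum R) (Q : Ideal (MvPolynomial (Fin n) p₀.asIdeal.ResidueField)) [Q.IsPrime],
        J.map (θ p₀) ≤ Q →
        (∀ (q : Ideal (MvPolynomial (Fin n) p₀.asIdeal.ResidueField)) [q.IsPrime],
          J.map (θ p₀) ≤ q → q ≤ Q → (c : ℕ∞) ≤ q.height) →
        ∃ PJ : PrimeSpectrum (Po ⧸ J), PJ.asIdeal.comap (Ideal.Quotient.mk J) = Q.comap (θ p₀) ∧ Good J c PJ := by
      intro p₀ Q _ h1 h2
      obtain ⟨PJ, hPJ, rfl⟩ := exists_point J p₀ Q h1
      refine ⟨PJ, hPJ, fun q _ h3 h4 => h2 q h3 ?_⟩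
      rw [eq_polPrime J PJ Q h1 hPJ.symm]
      exact h4
    obtain ⟨PJ, h1, h2⟩ := key p (polPrime I P) hJQ hht
    exact ⟨PJ, h1.trans (comap_polPrime I P), h2⟩
  obtain ⟨g₁, hg₁, H⟩ := exists_fibre_dim J PJ (c := c) hgood
  obtain ⟨y₁, rfl⟩ := Ideal.Quotient.mk_surjective g₁
  refine ⟨c, f, g * y₁, fun hm => ?_, isRelGCI_awayRel_of_good f _ fun P' hP' => H P' fun hm => hP' ?_,
    exists_away_equiv f _ I hfI fun y hy => ?_⟩
  · have hm' : g * y₁ ∈ P.asIdeal.comap (Ideal.Quotient.mk I) := hm
    rcases Ideal.IsPrime.mem_or_mem inferInstance hm' with h' | h'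
    · exact hg h'
    · exact hg₁ ((hPJ.ge) h')
  · rw [map_mul]; exact Ideal.mul_mem_left _ _ hm
  · rw [mul_assoc, mul_left_comm g]; exact Ideal.mul_mem_left _ _ (by rw [mul_comm]; simpa [mul_comm] using hgI y hy)

/-- The same, for any finitely presented algebra. -/
theorem exists_relGCI_nhd' {A : Type u} [CommRing A] [Algebra R A] [Algebra.FinitePresentation R A]
    (P : PrimeSpectrum A) [Module.Flat R (Localization.AtPrime P.asIdeal)] (h : CIAt R P) :
    ∃ g ∉ P.asIdeal, ∃ (m c : ℕ) (F : Fin c → MvPolynomial (Fin m) R), Synt.IsRelGCI R m c F ∧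
      Nonempty (Localization.Away g ≃ₐ[R] Synt.RelGCIRing R m c F) := by
  obtain ⟨d, π, hπ, hker⟩ := Algebra.FinitePresentation.out (R := R) (A := A)
  let e := Ideal.quotientKerAlgEquivOfSurjective hπ
  let P₀ := comap e.toRingEquiv.toRingHom P
  haveI : Module.Flat R (Localization.AtPrime P₀.asIdeal) := by
    let E : Localization.AtPrime P₀.asIdeal ≃ₐ[R] Localization.AtPrime P.asIdeal :=
      Localization.localAlgEquiv P₀.asIdeal P.asIdeal e rfl
    exact Module.Flat.of_linearEquiv E.toLinearEquiv
  obtain ⟨c, F, y, hy, hF, ⟨E⟩⟩ := exists_relGCI_nhd (RingHom.ker π) hker P₀ ((ciAt_algEquiv e P).mpr h)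
  obtain ⟨E'⟩ := nonempty_awayCongr e (Ideal.Quotient.mk (RingHom.ker π) y)
  exact ⟨e (Ideal.Quotient.mk (RingHom.ker π) y), hy, d + 1, c + 1, _, hF, ⟨E'.symm.trans E⟩⟩

end Groth.L07.SyntAlg
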