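import Groth.Agent.L07.KoszulFlat

/-! Concatenation of Koszul-regular sequences. -/

set_option autoImplicit false
set_option linter.style.haveILetI false
set_option backward.isDefEq.respectTransparency.types false

universe u

open CategoryTheory CategoryTheory.Limits CochainComplex CohIII
open Groth.L04.Koszul
open Groth.L28.Kun (Z cl cl_surjective cl_eq_zero_iff homologyMap_cl)

namespace Groth.L07.KoszulAppend

variable {A : Type u} [CommRing A]

/-- Five lemma for cones of multiplications. -/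
theorem bijective_cone {K L : CochainComplex (ModuleCat.{u} A) ℤ} (g : A) (π : K ⟶ L)
    (comm : (g • 𝟙 K) ≫ π = π ≫ (g • 𝟙 L))
    (h : ∀ n : ℤ, Function.Bijective (HomologicalComplex.homologyMap π n).hom) (n : ℤ) :
    Function.Bijective
      (HomologicalComplex.homologyMap (mappingCone.map (g • 𝟙 K) (g • 𝟙 L) π π comm) n).hom := by
  let Φ := mappingCone.map (g • 𝟙 K) (g • 𝟙 L) π π comm
  have hsq : mappingCone.inr (g • 𝟙 K) ≫ Φ = π ≫ mappingCone.inr (g • 𝟙 L) := by
    refine HomologicalComplex.Hom.ext (funext fun i => ModuleCat.hom_ext (LinearMap.ext fun x => ?_))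
    show Φ.f i ((mappingCone.inr (g • 𝟙 K)).f i x) = (mappingCone.inr (g • 𝟙 L)).f i (π.f i x)
    rw [inr_f_eq _ (j := i + 1) rfl, inr_f_eq _ (j := i + 1) rfl, map_cmk, map_zero]
  have hinr : ∀ c : K.homology n,
      HomologicalComplex.homologyMap Φ n (HomologicalComplex.homologyMap (mappingCone.inr (g • 𝟙 K)) n c) =
        HomologicalComplex.homologyMap (mappingCone.inr (g • 𝟙 L)) n (HomologicalComplex.homologyMap π n c) :=
    fun c => by rw [← homologyMap_comp_apply, ← homologyMap_comp_apply, hsq]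
  have hδ : ∀ c, deltaC (g • 𝟙 L) n (n + 1) rfl (HomologicalComplex.homologyMap Φ n c) =
      HomologicalComplex.homologyMap π (n + 1) (deltaC (g • 𝟙 K) n (n + 1) rfl c) :=
    fun c => deltaC_naturality _ _ π π comm rfl c
  constructor
  · refine (injective_iff_map_eq_zero _).mpr fun c hc => ?_
    have h0 : deltaC (g • 𝟙 K) n (n + 1) rfl c = 0 := (h (n + 1)).1 (by
      rw [map_zero]
      exact (hδ c).symm.trans (by erw [hc]; exact map_zero _))
    obtain ⟨a, rfl⟩ := (exact_inr_deltaC _ n (n + 1) rfl c).1 h0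
    obtain ⟨b, hb⟩ := (exact_map_inr (g • 𝟙 L) n _).1 ((hinr a).symm.trans hc)
    obtain ⟨b', rfl⟩ := (h n).2 b
    refine (exact_map_inr (g • 𝟙 K) n _).2 ⟨b', (h n).1 (Eq.trans ?_ hb)⟩
    rw [← homologyMap_comp_apply, comm, homologyMap_comp_apply]
  · intro d
    obtain ⟨p, hp⟩ := (h (n + 1)).2 (deltaC (g • 𝟙 L) n (n + 1) rfl d)
    have h0 : HomologicalComplex.homologyMap (g • 𝟙 K) (n + 1) p = 0 := (h (n + 1)).1 (by
      rw [map_zero, ← homologyMap_comp_apply, comm, homologyMap_comp_apply, hp]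
      exact (exact_deltaC_map _ n (n + 1) rfl _).2 ⟨d, rfl⟩)
    obtain ⟨c, rfl⟩ := (exact_deltaC_map (g • 𝟙 K) n (n + 1) rfl p).1 h0
    have h1 : deltaC (g • 𝟙 L) n (n + 1) rfl (d - HomologicalComplex.homologyMap Φ n c) = 0 := by
      rw [map_sub, hδ, hp, sub_self]
    obtain ⟨b, hb⟩ := (exact_inr_deltaC _ n (n + 1) rfl _).1 h1
    obtain ⟨a, rfl⟩ := (h n).2 b
    refine ⟨c + HomologicalComplex.homologyMap (mappingCone.inr (g • 𝟙 K)) n a, ?_⟩
    rw [map_add]
    show HomologicalComplex.homologyMap Φ n c + HomologicalComplex.homologyMap Φ n _ = d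
    rw [hinr, hb, add_sub_cancel]

/-- The augmentation of a Koszul-regular sequence extends to longer sequences. -/
theorem exists_augmentation (M : ModuleCat.{u} A) (fs : List A)
    (h : ∀ n : ℤ, n < 0 → IsZero ((koszulCx M fs).homology n)) :
    ∀ gs : List A, ∃ π : koszulCx M (gs ++ fs) ⟶
        koszulCx (ModuleCat.of A (M ⧸ (Ideal.ofList fs • ⊤ : Submodule A M))) gs,
      ∀ n : ℤ, Function.Bijective (HomologicalComplex.homologyMap π n).hom
  | g :: gs => by
    obtain ⟨π, hπ⟩ := exists_augmentation M fs h gs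
    have comm : stepHom M g (gs ++ fs) ≫ π = π ≫ stepHom _ g gs := by
      rw [Linear.smul_comp, Linear.comp_smul, Category.id_comp, Category.comp_id]
    exact ⟨mappingCone.map _ _ π π comm, bijective_cone g π comm hπ⟩
  | [] => by
    let Q := ModuleCat.of A (M ⧸ (Ideal.ofList fs • ⊤ : Submodule A M))
    let K := koszulCx M fs
    have h1 : ∀ x : K.X 0, x ∈ Z K 0 := fun x => (ModuleCat.isZero_iff_subsingleton.1
      (isZero_X M fs ((0 : ℤ) + 1) (Or.inl (by norm_num)))).elim _ _
    let ε : K.X 0 ⟶ Q := ModuleCat.ofHom ((topEquiv M fs).symm.toLinearMap.comp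
      ((cl K 0).comp (LinearMap.codRestrict _ LinearMap.id h1)))
    have hε : ∀ i : ℤ, (ComplexShape.up ℤ).Rel i 0 → K.d i 0 ≫ ε = 0 := fun i hi => by
      refine ModuleCat.hom_ext (LinearMap.ext fun y => ?_)
      show (topEquiv M fs).symm (cl K 0 ⟨K.d i 0 y, h1 _⟩) = 0
      rw [(cl_eq_zero_iff K hi ⟨K.d i 0 y, h1 _⟩).mpr ⟨y, rfl⟩, map_zero]
    let π : koszulCx M ([] ++ fs) ⟶ koszulCx Q [] := HomologicalComplex.mkHomToSingle ε hε
    refine ⟨π, fun n => ?_⟩
    by_cases hn : n = 0
    · subst hn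
      have hval : ∀ z : Z K 0, HomologicalComplex.homologyMap π 0 (cl K 0 z) =
          topMap Q [] ((topEquiv M fs).symm (cl K 0 z)) := fun z => by
        show _ = cl (koszulCx Q []) 0 _
        erw [homologyMap_cl]
        refine congrArg _ (Subtype.ext ?_)
        show (HomologicalComplex.mkHomToSingle ε hε).f 0 z.1 = _
        rw [HomologicalComplex.mkHomToSingle_f]
        rfl
      have htop : Function.Bijective (topMap Q []) := by
        refine ⟨(injective_iff_map_eq_zero _).mpr fun x hx => ?_, topMap_surjective Q []⟩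
        rw [← LinearMap.mem_ker, ker_topMap, Ideal.ofList_nil, Submodule.bot_smul, Submodule.mem_bot] at hx
        exact hx
      have heq : (HomologicalComplex.homologyMap π 0).hom =
          (topMap Q []).comp (topEquiv M fs).symm.toLinearMap := by
        refine LinearMap.ext fun c => ?_
        obtain ⟨z, rfl⟩ := cl_surjective K 0 c
        exact hval z
      rw [heq, LinearMap.coe_comp]
      exact htop.comp (topEquiv M fs).symm.bijective
    · haveI : Subsingleton ((koszulCx Q []).homology n) :=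
        subsingleton_homology_of_out Q [] n (by simp only [List.length_nil]; omega)
      haveI : Subsingleton (K.homology n) := by
        rcases lt_or_gt_of_ne hn with hlt | hgt
        · exact ModuleCat.isZero_iff_subsingleton.1 (h n hlt)
        · exact subsingleton_homology_of_out M fs n (Or.inl hgt)
      exact ⟨fun x y _ => Subsingleton.elim (α := K.homology n) x y, fun y => ⟨0, Subsingleton.elim _ _⟩⟩

/-- Vanishing of Koszul cohomology backwards along semilinear isomorphisms. -/
theorem isZero_transfer' {B' : Type u} [CommRing B'] (φ : A →+* B') (M : ModuleCat.{u} A) (M' : ModuleCat.{u} B')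
    (e : M ≃+ M') (he : ∀ (b : A) (m : M), e (b • m) = φ b • e m) (l : List A) (n : ℤ)
    (h : IsZero ((koszulCx M' (l.map φ)).homology n)) : IsZero ((koszulCx M l).homology n) := by
  obtain ⟨E, -, hd⟩ := Groth.L07.KoszulBC.exists_cxEquiv φ M M' e he l
  haveI := ModuleCat.isZero_iff_subsingleton.1 h
  obtain ⟨i, rfl⟩ : ∃ i, n = i + 1 := ⟨n - 1, (sub_add_cancel n 1).symm⟩
  refine ModuleCat.isZero_iff_subsingleton.2 (subsingleton_of_forall_eq 0 fun c => ?_)
  obtain ⟨z, rfl⟩ := cl_surjective _ _ c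
  have hZ : E (i + 1) z.1 ∈ Z (koszulCx M' (l.map φ)) (i + 1) := by
    show (koszulCx M' (l.map φ)).d (i + 1) (i + 1 + 1) (E (i + 1) z.1) = 0
    rw [hd, show (koszulCx M l).d (i + 1) (i + 1 + 1) z.1 = 0 from z.2, map_zero]
  obtain ⟨y, hy⟩ := (cl_eq_zero_iff _ (m := i) rfl ⟨_, hZ⟩).mp (Subsingleton.elim _ _)
  obtain ⟨x, rfl⟩ := (E i).surjective y
  rw [cl_eq_zero_iff _ (m := i) rfl]
  exact ⟨x, (E (i + 1)).injective ((hd i x).symm.trans hy)⟩

/-- A Koszul-regular sequence extended by one which is Koszul-regular modulo it. -/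
theorem isKoszulRegularSeq_append {C : Type u} [CommRing C] (σ : A →+* C) (hσ : Function.Surjective σ)
    (fs gs : List A) (hker : RingHom.ker σ = Ideal.ofList fs) (hf : LCI.IsKoszulRegularSeq A fs)
    (hg : LCI.IsKoszulRegularSeq C (gs.map σ)) : LCI.IsKoszulRegularSeq A (gs ++ fs) := by
  rw [Groth.L07.KoszulPerm.isKoszulRegularSeq_iff] at hf hg ⊢
  intro n hn
  obtain ⟨π, hπ⟩ := exists_augmentation (ModuleCat.of A A) fs hf gs
  have hI : (Ideal.ofList fs • ⊤ : Submodule A A) = RingHom.ker σ := by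
    rw [hker, Ideal.smul_eq_mul, Ideal.mul_top]
  let Q := A ⧸ (Ideal.ofList fs • ⊤ : Submodule A A)
  let e : Q ≃+ C := (Submodule.quotEquivOfEq _ _ hI).toAddEquiv.trans
    (RingHom.quotientKerEquivOfSurjective hσ).toAddEquiv
  have he : ∀ (b : A) (m : Q), e (b • m) = σ b • e m := by
    intro b m
    obtain ⟨a, rfl⟩ := Submodule.Quotient.mk_surjective _ m
    exact map_mul σ b a
  haveI := ModuleCat.isZero_iff_subsingleton.1
    (isZero_transfer' σ (ModuleCat.of A Q) (ModuleCat.of C C) e he gs n (hg n hn))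
  exact ModuleCat.isZero_iff_subsingleton.2 ⟨fun x y => (hπ n).1 (Subsingleton.elim _ _)⟩

end Groth.L07.KoszulAppend
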