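import Groth.Agent.L07.KoszulLocal
import Groth.Agent.L04.Koszul.Depth
import Mathlib.LinearAlgebra.DirectSum.Finsupp
import Mathlib.LinearAlgebra.TensorProduct.RightExactness
import Mathlib.RingTheory.Flat.Basic

/-! A Koszul-regular sequence with flat quotient stays Koszul-regular after base change. -/

set_option autoImplicit false
set_option backward.isDefEq.respectTransparency.types false

namespace Groth.L07.KoszulBC

open CategoryTheory CategoryTheory.Limits CochainComplex CohIII RingTheory.Sequence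
open Groth.L04.Koszul
open Groth.L28.Kun (Z cl cl_surjective cl_eq_zero_iff homologyMap_cl)
open scoped TensorProduct

set_option linter.style.haveILetI false
set_option maxSynthPendingDepth 3

universe u

section Functoriality

variable {B : Type u} [CommRing B]

theorem kmap_add {M N : ModuleCat.{u} B} (g h : M ⟶ N) :
    ∀ fs : List B, kmap (g + h) fs = kmap g fs + kmap h fs := by
  intro fs
  induction fs with
  | nil => exact Functor.map_add _
  | cons f fs ih =>
    refine HomologicalComplex.Hom.ext (funext fun n => ModuleCat.hom_ext (LinearMap.ext fun z => ?_))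
    obtain ⟨p, x, rfl⟩ := exists_cmk_cons M n (n + 1) rfl z
    refine (kmap_cmk (g + h) f fs rfl p x).trans ?_
    rw [ih]
    refine Eq.trans ?_ (congrArg₂ (· + ·) (kmap_cmk g f fs rfl p x) (kmap_cmk h f fs rfl p x)).symm
    exact cmk_add _ rfl _ _ _ _

theorem kmap_comp {M N P : ModuleCat.{u} B} (g : M ⟶ N) (h : N ⟶ P) :
    ∀ fs : List B, kmap (g ≫ h) fs = kmap g fs ≫ kmap h fs := by
  intro fs
  induction fs with
  | nil => exact Functor.map_comp _ _ _
  | cons f l ih =>
    refine HomologicalComplex.Hom.ext (funext fun n => ModuleCat.hom_ext (LinearMap.ext fun z => ?_))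
    obtain ⟨p, x, rfl⟩ := exists_cmk_cons M n (n + 1) rfl z
    refine (kmap_cmk (g ≫ h) f l rfl p x).trans ?_
    rw [ih]
    refine Eq.trans ?_ (congrArg (fun w => (kmap h (f :: l)).f n w) (kmap_cmk g f l rfl p x)).symm
    exact (kmap_cmk h f l rfl _ _).symm

/-- The map on Koszul cohomology, additively in the morphism. -/
noncomputable def hmap {M N : ModuleCat.{u} B} (fs : List B) (n : ℤ) :
    (M ⟶ N) →+ ((koszulCx M fs).homology n ⟶ (koszulCx N fs).homology n) :=
  AddMonoidHom.mk' (fun g => HomologicalComplex.homologyMap (kmap g fs) n)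
    (fun g h => by rw [kmap_add, HomologicalComplex.homologyMap_add])

theorem hmap_comp {M N P : ModuleCat.{u} B} (fs : List B) (n : ℤ) (g : M ⟶ N) (h : N ⟶ P) :
    hmap fs n (g ≫ h) = hmap fs n g ≫ hmap fs n h := by
  show HomologicalComplex.homologyMap (kmap (g ≫ h) fs) n = _
  rw [kmap_comp, HomologicalComplex.homologyMap_comp]
  rfl

theorem hmap_id (M : ModuleCat.{u} B) (fs : List B) (n : ℤ) : hmap fs n (𝟙 M) = 𝟙 _ := by
  show HomologicalComplex.homologyMap (kmap (𝟙 M) fs) n = _
  have h : kmap (𝟙 M) fs = 𝟙 (koszulCx M fs) := by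
    have h' := kmap_smul_id (M := M) (1 : B) fs
    rwa [one_smul, one_smul] at h'
  rw [h, HomologicalComplex.homologyMap_id]

theorem isZero_of_iso {M N : ModuleCat.{u} B} (e : M ≅ N) (fs : List B) (n : ℤ)
    (h : IsZero ((koszulCx M fs).homology n)) : IsZero ((koszulCx N fs).homology n) := by
  rw [IsZero.iff_id_eq_zero, ← hmap_id, ← e.inv_hom_id, hmap_comp, h.eq_of_tgt (hmap fs n e.inv) 0, zero_comp]

theorem topMap_kmap {M N : ModuleCat.{u} B} (g : M ⟶ N) : ∀ (fs : List B) (m : M),
    HomologicalComplex.homologyMap (kmap g fs) 0 (topMap M fs m) = topMap N fs (g m) := by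
  intro fs
  induction fs with
  | nil =>
    intro m
    rw [topMap, topMap, LinearMap.comp_apply, LinearMap.comp_apply, homologyMap_cl]
    refine congrArg _ (Subtype.ext ((single_X_eq (M := N) 0 rfl).1 ?_))
    refine (kmap_nil_apply g 0 rfl _).trans ?_
    erw [(HomologicalComplex.singleObjXIsoOfEq (ComplexShape.up ℤ) (0 : ℤ) M 0 rfl).inv_hom_id_apply,
      (HomologicalComplex.singleObjXIsoOfEq (ComplexShape.up ℤ) (0 : ℤ) N 0 rfl).inv_hom_id_apply]
  | cons f fs ih =>
    intro m
    show HomologicalComplex.homologyMap (kmap g (f :: fs)) 0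
        (HomologicalComplex.homologyMap (mappingCone.inr (stepHom M f fs)) 0 (topMap M fs m)) =
      HomologicalComplex.homologyMap (mappingCone.inr (stepHom N f fs)) 0 (topMap N fs (g m))
    rw [← ih]
    refine (homologyMap_comp_apply _ _ 0 _).symm.trans (Eq.trans ?_ (homologyMap_comp_apply _ _ 0 _))
    congr 2
    refine congrArg (fun φ => HomologicalComplex.homologyMap φ 0)
      (HomologicalComplex.Hom.ext (funext fun n => ModuleCat.hom_ext (LinearMap.ext fun x => ?_)))
    show (kmap g (f :: fs)).f n ((mappingCone.inr (stepHom M f fs)).f n x) =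
      (mappingCone.inr (stepHom N f fs)).f n ((kmap g fs).f n x)
    rw [inr_f_eq (stepHom M f fs) (j := n + 1) rfl, inr_f_eq (stepHom N f fs) (j := n + 1) rfl]
    exact (kmap_cmk g f fs rfl 0 x).trans (by rw [map_zero])

/-- Koszul cohomology commutes with direct sums. -/
theorem isZero_finsupp (ι : Type u) (M : ModuleCat.{u} B) (fs : List B) (n : ℤ)
    (h : IsZero ((koszulCx M fs).homology n)) :
    IsZero ((koszulCx (ModuleCat.of B (ι →₀ M)) fs).homology n) := by
  classical
  let P := ModuleCat.of B (ι →₀ M)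
  let p : ι → (P ⟶ M) := fun i => ModuleCat.ofHom (Finsupp.lapply i)
  let q : ι → (M ⟶ P) := fun i => ModuleCat.ofHom (Finsupp.lsingle i)
  let e : Finset ι → (P ⟶ P) := fun s => ∑ i ∈ s, p i ≫ q i
  have he : ∀ (s : Finset ι) (v : P), v.support ⊆ s → e s v = v := fun s v hv => by
    show (∑ i ∈ s, p i ≫ q i).hom v = v
    rw [ModuleCat.hom_sum, LinearMap.sum_apply]
    refine Finsupp.ext fun j => ?_
    rw [Finsupp.finsetSum_apply]
    show ∑ i ∈ s, Finsupp.single i (v i) j = v j
    simp only [Finsupp.single_apply, Finset.sum_ite_eq']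
    split_ifs with hj
    · rfl
    · exact (Finsupp.notMem_support_iff.mp fun hm => hj (hv hm)).symm
  have key : ∀ (l : List B) (m : ℤ) (z : (koszulCx P l).X m), ∃ s₀ : Finset ι,
      ∀ s, s₀ ⊆ s → (kmap (e s) l).f m z = z := by
    intro l
    induction l with
    | nil =>
      intro m z
      by_cases hm : m = 0
      · refine ⟨Finsupp.support ((HomologicalComplex.singleObjXIsoOfEq (ComplexShape.up ℤ) (0 : ℤ) P m hm).hom z :
          ι →₀ M), fun s hs => (single_X_eq (M := P) m hm).1 ?_⟩
        rw [kmap_nil_apply]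
        exact he s _ hs
      · exact ⟨∅, fun s _ => (ModuleCat.isZero_iff_subsingleton.1 (isZero_X P [] m
          (by simp only [List.length_nil]; omega))).elim _ _⟩
    | cons f l ih =>
      intro m z
      obtain ⟨a, x, rfl⟩ := exists_cmk_cons P m (m + 1) rfl z
      obtain ⟨s₁, h₁⟩ := ih _ a
      obtain ⟨s₂, h₂⟩ := ih _ x
      refine ⟨s₁ ∪ s₂, fun s hs => (kmap_cmk (e s) f l rfl a x).trans ?_⟩
      rw [h₁ s (Finset.union_subset_left hs), h₂ s (Finset.union_subset_right hs)]
  refine ModuleCat.isZero_iff_subsingleton.2 (subsingleton_of_forall_eq 0 fun c => ?_)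
  obtain ⟨z, rfl⟩ := cl_surjective _ n c
  obtain ⟨s, hs⟩ := key fs n z.1
  have h1 : (hmap fs n (e s)).hom (cl _ n z) = cl _ n z := by
    show HomologicalComplex.homologyMap (kmap (e s) fs) n (cl _ n z) = _
    rw [homologyMap_cl]
    exact congrArg _ (Subtype.ext (hs s (Finset.Subset.refl s)))
  rw [← h1, map_sum, ModuleCat.hom_sum, LinearMap.sum_apply]
  refine Finset.sum_eq_zero fun i _ => ?_
  rw [hmap_comp]
  show (hmap fs n (q i)).hom ((hmap fs n (p i)).hom (cl _ n z)) = 0
  haveI := ModuleCat.isZero_iff_subsingleton.1 h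
  rw [Subsingleton.elim ((hmap fs n (p i)).hom (cl _ n z)) 0, map_zero]

/-- Vanishing Koszul cohomology persists in localizations. -/
theorem isZero_localized {M N : ModuleCat.{u} B} (g : M ⟶ N) (S : Submonoid B)
    (hsurj : ∀ y : N, ∃ (x : M) (s : S), g x = (s : B) • y)
    (hker : ∀ x : M, g x = 0 → ∃ s : S, (s : B) • x = 0)
    (hunit : ∀ s : S, Function.Bijective fun y : N => (s : B) • y)
    (fs : List B) (n : ℤ) (h : IsZero ((koszulCx M fs).homology n)) :
    IsZero ((koszulCx N fs).homology n) := by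
  haveI := ModuleCat.isZero_iff_subsingleton.1 h
  have hunitX : ∀ (l : List B) (m : ℤ) (s : S),
      Function.Bijective fun y : (koszulCx N l).X m => (s : B) • y := by
    intro l
    induction l with
    | nil =>
      intro m s
      by_cases hm : m = 0
      · refine ⟨fun y y' hy => (single_X_eq (M := N) m hm).1 ((hunit s).1 ?_), fun y => ?_⟩
        · exact (map_smul _ _ _).symm.trans ((congrArg _ hy).trans (map_smul _ _ _))
        · obtain ⟨u, hu⟩ := (hunit s).2
            ((HomologicalComplex.singleObjXIsoOfEq (ComplexShape.up ℤ) (0 : ℤ) N m hm).hom y)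
          obtain ⟨u', rfl⟩ := (single_X_eq (M := N) m hm).2 u
          exact ⟨u', (single_X_eq (M := N) m hm).1 ((map_smul _ _ _).trans hu)⟩
      · haveI := ModuleCat.isZero_iff_subsingleton.1 (isZero_X N [] m
          (by simp only [List.length_nil]; omega))
        exact ⟨fun _ _ _ => Subsingleton.elim _ _, fun y => ⟨y, Subsingleton.elim _ _⟩⟩
    | cons f l ih =>
      intro m s
      refine ⟨fun y y' hy => ?_, fun y => ?_⟩
      · obtain ⟨a, x, rfl⟩ := exists_cmk_cons N m (m + 1) rfl y
        obtain ⟨a', x', rfl⟩ := exists_cmk_cons N m (m + 1) rfl y'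
        obtain ⟨h1, h2⟩ := cmk_inj _ rfl ((smul_cmk _ _ _ _ _).symm.trans (hy.trans (smul_cmk _ _ _ _ _)))
        rw [(ih _ s).1 h1, (ih _ s).1 h2]
      · obtain ⟨a, x, rfl⟩ := exists_cmk_cons N m (m + 1) rfl y
        obtain ⟨a', rfl⟩ := (ih _ s).2 a
        obtain ⟨x', rfl⟩ := (ih _ s).2 x
        exact ⟨cmk (stepHom N f l) m (m + 1) rfl a' x', smul_cmk _ _ _ _ _⟩
  refine ModuleCat.isZero_iff_subsingleton.2 (subsingleton_of_forall_eq 0 fun c => ?_)
  obtain ⟨w, rfl⟩ := cl_surjective _ n c
  obtain ⟨z, t, hz⟩ := (KoszulLocal.kmap_localized g S hsurj hker fs n).1 w.1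
  have h1 : (kmap g fs).f (n + 1) ((koszulCx M fs).d n (n + 1) z) = 0 := by
    rw [← ConcreteCategory.comp_apply, ← (kmap g fs).comm n (n + 1), ConcreteCategory.comp_apply, hz,
      map_smul, show (koszulCx N fs).d n (n + 1) w.1 = 0 from w.2, smul_zero]
  obtain ⟨s, hs⟩ := (KoszulLocal.kmap_localized g S hsurj hker fs (n + 1)).2 _ h1
  have hzc : (s : B) • z ∈ Z (koszulCx M fs) n := by
    show (koszulCx M fs).d n (n + 1) ((s : B) • z) = 0
    rw [map_smul, hs]
  obtain ⟨y, hy⟩ := (cl_eq_zero_iff _ (m := n - 1) (by omega) ⟨_, hzc⟩).mp (Subsingleton.elim _ _)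
  obtain ⟨v, hv⟩ := (hunitX fs (n - 1) (s * t)).2 ((kmap g fs).f (n - 1) y)
  rw [cl_eq_zero_iff _ (m := n - 1) (by omega)]
  refine ⟨v, (hunitX fs n (s * t)).1 ?_⟩
  show ((s * t : S) : B) • _ = ((s * t : S) : B) • _
  rw [← map_smul]
  refine (congrArg _ hv).trans ?_
  rw [← ConcreteCategory.comp_apply, (kmap g fs).comm (n - 1) n, ConcreteCategory.comp_apply, hy, map_smul, hz,
    Submonoid.coe_mul, mul_smul]

end Functoriality

theorem isZero_of_isKoszulRegularSeq {B : Type u} [CommRing B] (l : List B)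
    (h : LCI.IsKoszulRegularSeq B l) (i : ℤ) (hi : i ≠ 0) :
    IsZero ((koszulCx (ModuleCat.of B B) l).homology i) :=
  (h i hi).of_iso ((HomologicalComplex.homologyFunctor _ _ i).mapIso (eqToIso (koszul_eq l))).symm

section BaseChange

variable {A B : Type u} [CommRing A] [CommRing B] [Algebra A B]

theorem mem_smul_top_of_flat (l : List B) [Module.Flat A (B ⧸ Ideal.ofList l)] {X Y : Type u}
    [AddCommGroup X] [Module A X] [AddCommGroup Y] [Module A Y] (g : X →ₗ[A] Y) (hg : Function.Injective g)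
    (m : B ⊗[A] X) (hm : g.baseChange B m ∈ Ideal.ofList l • (⊤ : Submodule B (B ⊗[A] Y))) :
    m ∈ Ideal.ofList l • (⊤ : Submodule B (B ⊗[A] X)) := by
  let I := Ideal.ofList l
  let π : B →ₗ[A] B ⧸ I := (Ideal.Quotient.mkₐ A I).toLinearMap
  have hπ : Function.Surjective π := Ideal.Quotient.mk_surjective
  have hex : Function.Exact ((Submodule.subtype I).restrictScalars A) π := fun x =>
    ⟨fun h => ⟨⟨x, Ideal.Quotient.eq_zero_iff_mem.mp h⟩, rfl⟩,
      fun ⟨w, hw⟩ => hw ▸ Ideal.Quotient.eq_zero_iff_mem.mpr w.2⟩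
  have hkill : ∀ z ∈ I • (⊤ : Submodule B (B ⊗[A] Y)), π.rTensor Y z = 0 := by
    intro z hz
    refine Submodule.smul_induction_on hz (fun r hr y _ => ?_) (fun a b ha hb => by rw [map_add, ha, hb, add_zero])
    induction y using TensorProduct.induction_on with
    | zero => rw [smul_zero, map_zero]
    | add a b ha hb => rw [smul_add, map_add, ha trivial, hb trivial, add_zero]
    | tmul b y =>
      rw [TensorProduct.smul_tmul', LinearMap.rTensor_tmul,
        show π (r • b) = 0 from Ideal.Quotient.eq_zero_iff_mem.mpr (Ideal.mul_mem_right _ _ hr), TensorProduct.zero_tmul]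
  have hcomm : g.lTensor (B ⧸ I) (π.rTensor X m) = π.rTensor Y (g.lTensor B m) := by
    rw [← LinearMap.comp_apply, ← LinearMap.comp_apply, LinearMap.lTensor_comp_rTensor,
      LinearMap.rTensor_comp_lTensor]
  have h1 : π.rTensor X m = 0 := by
    refine Module.Flat.lTensor_preserves_injective_linearMap g hg ?_
    rw [map_zero, hcomm]
    exact hkill _ hm
  obtain ⟨w, rfl⟩ := (rTensor_exact X hex hπ m).mp h1
  clear hm h1 hcomm
  induction w using TensorProduct.induction_on with
  | zero => rw [map_zero]; exact zero_mem _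
  | add a b ha hb =>
    rw [map_add]
    exact add_mem ha hb
  | tmul i x =>
    rw [LinearMap.rTensor_tmul]
    show (i : B) ⊗ₜ[A] x ∈ _
    rw [show (i : B) ⊗ₜ[A] x = (i : B) • ((1 : B) ⊗ₜ[A] x) by rw [TensorProduct.smul_tmul', smul_eq_mul, mul_one]]
    exact Submodule.smul_mem_smul i.2 trivial

/-- Koszul regularity with flat quotient is universal. -/
theorem isZero_baseChange [Module.Flat A B] (l : List B) [Module.Flat A (B ⧸ Ideal.ofList l)]
    (h : ∀ n : ℤ, n ≠ 0 → IsZero ((koszulCx (ModuleCat.of B B) l).homology n)) :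
    ∀ (m : ℕ) (N : Type u) [AddCommGroup N] [Module A N],
      IsZero ((koszulCx (ModuleCat.of B (B ⊗[A] N)) l).homology (-((m : ℤ) + 1))) := by
  intro m
  induction m using Nat.strong_induction_on with
  | _ m ih =>
  intro N _ _
  classical
  let F := N →₀ A
  let π : F →ₗ[A] N := Finsupp.linearCombination A id
  have hπ : Function.Surjective π := Finsupp.linearCombination_id_surjective A N
  let ι := (LinearMap.ker π).subtype
  let fι := ι.baseChange B
  let fπ := π.baseChange B
  have hex : Function.Exact fι fπ := lTensor_exact B (LinearMap.exact_subtype_ker_map π) hπ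
  have hS : (ShortComplex.moduleCatMkOfKerLERange (ModuleCat.ofHom fι) (ModuleCat.ofHom fπ)
      (LinearMap.exact_iff.mp hex).ge).ShortExact := by
    refine { exact := ?_, mono_f := ?_, epi_g := ?_ }
    · rw [ShortComplex.ShortExact.moduleCat_exact_iff_function_exact]; exact hex
    · rw [ModuleCat.mono_iff_injective]
      exact Module.Flat.lTensor_preserves_injective_linearMap ι Subtype.val_injective
    · rw [ModuleCat.epi_iff_surjective]
      exact LinearMap.lTensor_surjective B hπ
  have hK := kSeq_shortExact hS l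
  have hF : ∀ n : ℤ, n ≠ 0 → IsZero ((koszulCx (ModuleCat.of B (B ⊗[A] F)) l).homology n) := fun n hn =>
    isZero_of_iso (TensorProduct.finsuppScalarRight A B B N).symm.toModuleIso l n
      (isZero_finsupp N _ l n (h n hn))
  refine ModuleCat.isZero_iff_subsingleton.2 (subsingleton_of_forall_eq 0 fun d => ?_)
  obtain ⟨j, hj⟩ : ∃ j : ℤ, -((m : ℤ) + 1) + 1 = j := ⟨_, rfl⟩
  have e₃ := (ShortComplex.ShortExact.moduleCat_exact_iff_function_exact _).1
    (hK.homology_exact₃ (-((m : ℤ) + 1)) j (by simpa using hj))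
  have e₁ := (ShortComplex.ShortExact.moduleCat_exact_iff_function_exact _).1
    (hK.homology_exact₁ (-((m : ℤ) + 1)) j (by simpa using hj))
  have hδ : (hK.δ (-((m : ℤ) + 1)) j (by simpa using hj)).hom d = 0 := by
    rcases Nat.eq_zero_or_pos m with rfl | hm
    · obtain rfl : j = 0 := by omega
      have hinj : ∀ c : (koszulCx (ModuleCat.of B (B ⊗[A] LinearMap.ker π)) l).homology 0,
          HomologicalComplex.homologyMap (kmap (ModuleCat.ofHom fι) l) 0 c = 0 → c = 0 := fun c hc => by
        obtain ⟨c, rfl⟩ := topMap_surjective _ l c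
        rw [topMap_kmap, ← LinearMap.mem_ker, ker_topMap] at hc
        rw [← LinearMap.mem_ker, ker_topMap]
        exact mem_smul_top_of_flat l ι Subtype.val_injective c hc
      exact hinj _ ((e₁ _).2 ⟨d, rfl⟩)
    · obtain ⟨k, rfl⟩ : ∃ k, m = k + 1 := ⟨m - 1, by omega⟩
      obtain rfl : j = -((k : ℤ) + 1) := by push_cast at hj ⊢; omega
      exact @Subsingleton.elim _ (ModuleCat.subsingleton_of_isZero (ih k (by omega) (LinearMap.ker π))) _ _
  obtain ⟨c, rfl⟩ := (e₃ d).1 hδ
  exact (congrArg _ (@Subsingleton.elim _ (ModuleCat.subsingleton_of_isZero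
    (hF (-((m : ℤ) + 1)) (by omega))) c 0)).trans (map_zero _)

theorem isZero_baseChange' [Module.Flat A B] (l : List B) [Module.Flat A (B ⧸ Ideal.ofList l)]
    (h : LCI.IsKoszulRegularSeq B l) (N : Type u) [AddCommGroup N] [Module A N] (n : ℤ) (hn : n ≠ 0) :
    IsZero ((koszulCx (ModuleCat.of B (B ⊗[A] N)) l).homology n) := by
  rcases lt_or_gt_of_ne hn with hlt | hgt
  · obtain ⟨m, rfl⟩ : ∃ m : ℕ, n = -((m : ℤ) + 1) := ⟨(-n - 1).toNat, by omega⟩
    refine isZero_baseChange l (fun i hi => ?_) m N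
    exact isZero_of_isKoszulRegularSeq l h i hi
  · exact ModuleCat.isZero_iff_subsingleton.2 (subsingleton_homology_of_out _ l n (Or.inl hgt))

end BaseChange

section Transfer

variable {B B' : Type u} [CommRing B] [CommRing B']

/-- The Koszul complex only depends on the module up to semilinear isomorphism. -/
theorem exists_cxEquiv (φ : B →+* B') (M : ModuleCat.{u} B) (M' : ModuleCat.{u} B') (e : M ≃+ M')
    (he : ∀ (b : B) (m : M), e (b • m) = φ b • e m) : ∀ l : List B,
    ∃ E : ∀ n, (koszulCx M l).X n ≃+ (koszulCx M' (l.map φ)).X n,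
      (∀ (n : ℤ) (b : B) x, E n (b • x) = φ b • E n x) ∧
      ∀ (n : ℤ) x, (koszulCx M' (l.map φ)).d n (n + 1) (E n x) = E (n + 1) ((koszulCx M l).d n (n + 1) x) := by
  intro l
  induction l with
  | nil =>
    let i := fun (n : ℤ) (hn : n = 0) =>
      (HomologicalComplex.singleObjXIsoOfEq (ComplexShape.up ℤ) (0 : ℤ) M n hn).toLinearEquiv
    let i' := fun (n : ℤ) (hn : n = 0) =>
      (HomologicalComplex.singleObjXIsoOfEq (ComplexShape.up ℤ) (0 : ℤ) M' n hn).toLinearEquiv
    have hsub : ∀ n : ℤ, n ≠ 0 → Subsingleton ((koszulCx M []).X n) := fun n hn =>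
      ModuleCat.isZero_iff_subsingleton.1 (isZero_X M [] n (by simp only [List.length_nil]; omega))
    have hsub' : ∀ n : ℤ, n ≠ 0 → Subsingleton ((koszulCx M' ([] : List B')).X n) := fun n hn =>
      ModuleCat.isZero_iff_subsingleton.1 (isZero_X M' [] n (by simp only [List.length_nil]; omega))
    let E : ∀ n, (koszulCx M []).X n ≃+ (koszulCx M' []).X n := fun n =>
      if hn : n = 0 then ((i n hn).toAddEquiv.trans e).trans (i' n hn).symm.toAddEquiv
      else
        { toFun := fun _ => 0, invFun := fun _ => 0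
          left_inv := fun _ => (hsub n hn).elim _ _, right_inv := fun _ => (hsub' n hn).elim _ _
          map_add' := fun _ _ => (hsub' n hn).elim _ _ }
    refine ⟨E, fun n b x => ?_, fun n x => ?_⟩
    · by_cases hn : n = 0
      · simp only [E, dif_pos hn]
        show (i' n hn).symm (e (i n hn (b • x))) = φ b • (i' n hn).symm (e (i n hn x))
        rw [← map_smul, ← he]
        exact congrArg _ (congrArg e (map_smul (i n hn) b x))
      · exact (hsub' n hn).elim _ _
    · by_cases hn : n + 1 = 0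
      · rw [(hsub n (by omega)).elim x 0, map_zero, map_zero, map_zero, map_zero]
      · exact (hsub' (n + 1) hn).elim _ _
  | cons f l ih =>
    obtain ⟨E, hE, hd⟩ := ih
    let φ₁ := stepHom M f l
    let φ₂ := stepHom M' (φ f) (l.map φ)
    let G : ∀ n, (koszulCx M (f :: l)).X n ≃+ (koszulCx M' ((f :: l).map φ)).X n := fun n =>
      ((Groth.L02.PC.coneEquiv φ₁ n (n + 1) rfl).toAddEquiv.trans ((E (n + 1)).prodCongr (E n))).trans
        (Groth.L02.PC.coneEquiv φ₂ n (n + 1) rfl).symm.toAddEquiv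
    have hG : ∀ n p x, G n (cmk φ₁ n (n + 1) rfl p x) = cmk φ₂ n (n + 1) rfl (E (n + 1) p) (E n x) := fun n p x => by
      show cmk φ₂ n (n + 1) rfl
        (E (n + 1) (Groth.L02.PC.coneEquiv φ₁ n (n + 1) rfl (cmk φ₁ n (n + 1) rfl p x)).1)
        (E n (Groth.L02.PC.coneEquiv φ₁ n (n + 1) rfl (cmk φ₁ n (n + 1) rfl p x)).2) = _
      rw [coneEquiv_cmk]
    refine ⟨G, fun n b z => ?_, fun n z => ?_⟩
    · obtain ⟨p, x, rfl⟩ := exists_cmk_cons M n (n + 1) rfl z
      refine (congrArg (G n) (smul_cmk φ₁ rfl b p x)).trans ((hG n _ _).trans ?_)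
      rw [hE, hE]
      exact ((smul_cmk φ₂ rfl (φ b) _ _).symm).trans (congrArg _ (hG n p x).symm)
    · obtain ⟨p, x, rfl⟩ := exists_cmk_cons M n (n + 1) rfl z
      refine (congrArg _ (hG n p x)).trans ((d_cmk φ₂ rfl rfl _ _).trans ?_)
      refine Eq.trans ?_ (congrArg _ (d_cmk φ₁ rfl rfl p x)).symm
      refine Eq.trans ?_ (hG (n + 1) _ _).symm
      rw [map_neg, map_add, hd, hd]
      congr 2
      exact (hE (n + 1) f p).symm

/-- Vanishing of Koszul cohomology along semilinear isomorphisms. -/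
theorem isZero_transfer (φ : B →+* B') (M : ModuleCat.{u} B) (M' : ModuleCat.{u} B') (e : M ≃+ M')
    (he : ∀ (b : B) (m : M), e (b • m) = φ b • e m) (l : List B) (n : ℤ)
    (h : IsZero ((koszulCx M l).homology n)) : IsZero ((koszulCx M' (l.map φ)).homology n) := by
  obtain ⟨E, -, hd⟩ := exists_cxEquiv φ M M' e he l
  haveI := ModuleCat.isZero_iff_subsingleton.1 h
  obtain ⟨i, rfl⟩ : ∃ i, n = i + 1 := ⟨n - 1, (sub_add_cancel n 1).symm⟩
  refine ModuleCat.isZero_iff_subsingleton.2 (subsingleton_of_forall_eq 0 fun c => ?_)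
  obtain ⟨z, rfl⟩ := cl_surjective _ _ c
  obtain ⟨x, hx⟩ := (E (i + 1)).surjective z.1
  have hxZ : x ∈ Z (koszulCx M l) (i + 1) := by
    refine (E (i + 1 + 1)).injective ?_
    rw [← hd, hx, map_zero]
    exact z.2
  obtain ⟨y, hy⟩ := (cl_eq_zero_iff _ (m := i) rfl ⟨x, hxZ⟩).mp (Subsingleton.elim _ _)
  rw [cl_eq_zero_iff _ (m := i) rfl]
  exact ⟨E i y, by rw [hd, hy, hx]⟩

/-- In a Noetherian local ring a Koszul-regular sequence in the maximal ideal is regular. -/
theorem isWeaklyRegular_of_koszul {R : Type u} [CommRing R] [IsNoetherianRing R] [IsLocalRing R]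
    (xs : List R) (hxs : ∀ x ∈ xs, x ∈ IsLocalRing.maximalIdeal R)
    (h : ∀ n : ℤ, n ≠ 0 → IsZero ((koszulCx (ModuleCat.of R R) xs).homology n)) :
    IsWeaklyRegular R xs := by
  have hne : Ideal.ofList xs • (⊤ : Submodule R R) ≠ ⊤ := fun ht =>
    (IsLocalRing.maximalIdeal.isMaximal R).ne_top (top_le_iff.mp (ht.ge.trans
      ((Ideal.mul_top _).le.trans (Ideal.span_le.mpr hxs))))
  obtain ⟨r, hr⟩ := ENat.ne_top_iff_exists.mp (Groth.L04.idealDepth_ne_top hne)
  refine (Groth.L04.idealDepth_eq_length_iff xs hxs).mp ?_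
  obtain ⟨-, h2⟩ := depth_sensitive xs hxs r R hr.symm
  by_contra hne'
  refine h2 ((r : ℤ) - xs.length) (by omega) (h _ fun h0 => hne' ?_)
  rw [← hr]
  exact_mod_cast (show r = xs.length by omega)

end Transfer

end Groth.L07.KoszulBC
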