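import Groth.Prelude.Def_EGA43
import Mathlib.AlgebraicGeometry.Morphisms.FinitePresentation
import Mathlib.AlgebraicGeometry.PullbackCarrier
import Mathlib.AlgebraicGeometry.Stalk
import Mathlib.RingTheory.Ideal.MinimalPrime.Localization
import Mathlib.AlgebraicGeometry.Morphisms.UniversallyClosed
import Mathlib.AlgebraicGeometry.Morphisms.ClosedImmersion

/-! Formal properties of openness and universal openness at a point. -/

set_option autoImplicit false
set_option linter.style.haveILetI false
set_option maxSynthPendingDepth 3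

universe u

open CategoryTheory CategoryTheory.Limits AlgebraicGeometry Topology

namespace Groth.L07.UnivOpenAt

open EGA43 (IsOpenAt IsUnivOpenAt)

/-- Universal openness at a point, read in any pullback square. -/
theorem of_isPullback {X Y Y' P : Scheme.{u}} {f : X ⟶ Y} {g : Y' ⟶ Y} {a : P ⟶ X} {b : P ⟶ Y'}
    (hP : IsPullback a b f g) {x : X} (h : IsUnivOpenAt f x) (p : P) (hp : a.base p = x) :
    IsOpenAt b.base p := by
  have h' := h Y' g (hP.isoPullback.hom.base p) (by
    rw [← Scheme.Hom.comp_apply, hP.isoPullback_hom_fst]; exact hp)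
  intro U hU
  have h1 := h' (hP.isoPullback.hom.base '' U) (hP.isoPullback.hom.isOpenEmbedding.isOpenMap.image_mem_nhds hU)
  rw [← Scheme.Hom.comp_apply, hP.isoPullback_hom_snd, ← Set.image_comp] at h1
  refine Filter.mem_of_superset h1 ?_
  rintro _ ⟨q, hq, rfl⟩
  exact ⟨q, hq, by rw [Function.comp_apply, ← Scheme.Hom.comp_apply, hP.isoPullback_hom_snd]⟩

theorem isOpenAt_comp {X Y Z : Scheme.{u}} {f : X ⟶ Y} {g : Y ⟶ Z} {x : X} (hf : IsOpenAt f.base x)
    (hg : IsOpenAt g.base (f.base x)) : IsOpenAt (f ≫ g).base x := by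
  intro U hU
  have h := hg _ (hf U hU)
  rw [← Set.image_comp] at h
  simpa using h

theorem comp {X Y Z : Scheme.{u}} {f : X ⟶ Y} {g : Y ⟶ Z} {x : X} (hf : IsUnivOpenAt f x)
    (hg : IsUnivOpenAt g (f.base x)) : IsUnivOpenAt (f ≫ g) x := by
  intro Z' c x' hx'
  let s : pullback (f ≫ g) c ⟶ pullback g c :=
    pullback.lift (pullback.fst _ _ ≫ f) (pullback.snd _ _) (by rw [Category.assoc]; exact pullback.condition)
  have hsq : IsPullback (pullback.fst (f ≫ g) c) s f (pullback.fst g c) :=
    IsPullback.of_bot (by rw [pullback.lift_snd]; exact IsPullback.of_hasPullback (f ≫ g) c)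
      (pullback.lift_fst _ _ _).symm (IsPullback.of_hasPullback g c)
  have h1 := of_isPullback hsq hf x' hx'
  have h2 := of_isPullback (IsPullback.of_hasPullback g c) hg (s.base x') (by
    rw [← Scheme.Hom.comp_apply, pullback.lift_fst, Scheme.Hom.comp_apply, hx'])
  have := isOpenAt_comp h1 h2
  rwa [pullback.lift_snd] at this

theorem right_of_comp {X Y Z : Scheme.{u}} {f : X ⟶ Y} {g : Y ⟶ Z} {x : X}
    (h : IsUnivOpenAt (f ≫ g) x) : IsUnivOpenAt g (f.base x) := by
  intro Z' c y' hy'
  obtain ⟨x', hx1, hx2⟩ := Scheme.Pullback.exists_preimage_pullback (f := f) (g := pullback.fst g c) x y' hy'.symm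
  have hbig : IsPullback (pullback.fst f (pullback.fst g c)) (pullback.snd f (pullback.fst g c) ≫ pullback.snd g c)
      (f ≫ g) c :=
    (IsPullback.of_hasPullback f (pullback.fst g c)).paste_vert (IsPullback.of_hasPullback g c)
  have h1 := of_isPullback hbig h x' hx1
  intro U hU
  have h2 := h1 ((pullback.snd f (pullback.fst g c)).base ⁻¹' U)
    ((Scheme.Hom.continuous _).continuousAt.preimage_mem_nhds (hx2.symm ▸ hU))
  rw [Scheme.Hom.comp_apply, hx2] at h2
  refine Filter.mem_of_superset h2 ?_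
  rintro _ ⟨q, hq, rfl⟩
  exact ⟨_, hq, (Scheme.Hom.comp_apply _ _ _).symm⟩

theorem baseChange {X Y Y' P : Scheme.{u}} {f : X ⟶ Y} {g : Y' ⟶ Y} {a : P ⟶ X} {b : P ⟶ Y'}
    (hP : IsPullback a b f g) {x : X} (h : IsUnivOpenAt f x) (p : P) (hp : a.base p = x) :
    IsUnivOpenAt b p := by
  intro Y'' c x'' hx''
  refine of_isPullback ((IsPullback.of_hasPullback b c).paste_horiz hP) h x'' ?_
  rw [Scheme.Hom.comp_apply, hx'', hp]

/-- A constructible set of an affine spectrum containing all generizations of a point is a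
neighbourhood of it. -/
theorem mem_nhds_of_isConstructible {R : Type u} [CommRing R] {E : Set (PrimeSpectrum R)}
    (hE : IsConstructible E) {p : PrimeSpectrum R} (h : ∀ q, q ⤳ p → q ∈ E) : E ∈ nhds p := by
  obtain ⟨S, _, f, hf⟩ := PrimeSpectrum.exists_range_eq_of_isConstructible hE.compl
  refine mem_interior_iff_mem_nhds.mp ?_
  rw [interior_eq_compl_closure_compl, Set.mem_compl_iff]
  intro hp
  rw [← hf, PrimeSpectrum.closure_range_comap, PrimeSpectrum.mem_zeroLocus] at hp
  obtain ⟨q, hq, hqp⟩ := Ideal.exists_minimalPrimes_le (J := p.asIdeal) hp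
  obtain ⟨r, hr, -, hrq⟩ := Ideal.exists_comap_eq_of_mem_minimalPrimes f (I := ⊥) q hq
  have hmem : (⟨q, hq.1.1⟩ : PrimeSpectrum R) ∈ Eᶜ := hf ▸ ⟨⟨r, hr⟩, PrimeSpectrum.ext hrq⟩
  exact hmem (h _ ((PrimeSpectrum.le_iff_specializes _ _).mp hqp))

/-- A morphism locally of finite presentation is open at a point as soon as the image of every
neighbourhood contains all generizations of the image. -/
theorem isOpenAt_of_lfp {X Y : Scheme.{u}} (f : X ⟶ Y) [LocallyOfFinitePresentation f] (x : X)
    (h : ∀ U ∈ nhds x, ∀ y, y ⤳ f.base x → y ∈ f.base '' U) : IsOpenAt f.base x := by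
  intro W hW
  obtain ⟨_, ⟨V, hV, rfl⟩, hxV, -⟩ := Y.isBasis_affineOpens.exists_subset_of_mem_open
    (Set.mem_univ (f.base x)) isOpen_univ
  replace hV : IsAffineOpen V := hV
  obtain ⟨W', hW'sub, hW'o, hxW'⟩ := mem_nhds_iff.mp hW
  obtain ⟨_, ⟨U, hU, rfl⟩, hxU, hUsub⟩ := X.isBasis_affineOpens.exists_subset_of_mem_open
    (show x ∈ W' ∩ f.base ⁻¹' (V : Set Y) from ⟨hxW', hxV⟩) (hW'o.inter (V.2.preimage f.continuous))
  replace hU : IsAffineOpen U := hU
  have e : U ≤ f ⁻¹ᵁ V := fun z hz => (hUsub hz).2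
  have hfp := LocallyOfFinitePresentation.finitePresentation_appLE f hV hU e
  have hc : IsConstructible (Set.range (PrimeSpectrum.comap (f.appLE V U e).hom)) :=
    PrimeSpectrum.isConstructible_range_comap hfp
  have key : Spec.map (f.appLE V U e) ≫ hV.fromSpec = hU.fromSpec ≫ f :=
    IsAffineOpen.SpecMap_appLE_fromSpec f hV hU e
  have himg : hV.fromSpec.base '' Set.range (PrimeSpectrum.comap (f.appLE V U e).hom) = f.base '' (U : Set X) := by
    have e2 : ∀ z, hV.fromSpec.base ((Spec.map (f.appLE V U e)).base z) = f.base (hU.fromSpec.base z) := fun z => by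
      rw [← Scheme.Hom.comp_apply, key, Scheme.Hom.comp_apply]
    rw [← hU.range_fromSpec]
    ext w
    constructor
    · rintro ⟨_, ⟨z, rfl⟩, rfl⟩
      exact ⟨_, ⟨z, rfl⟩, (e2 z).symm⟩
    · rintro ⟨_, ⟨z, rfl⟩, rfl⟩
      exact ⟨_, ⟨z, rfl⟩, e2 z⟩
  let p := hV.primeIdealOf ⟨f.base x, hxV⟩
  have hp : hV.fromSpec.base p = f.base x := hV.fromSpec_primeIdealOf ⟨f.base x, hxV⟩
  have h1 : Set.range (PrimeSpectrum.comap (f.appLE V U e).hom) ∈ nhds p := by
    refine mem_nhds_of_isConstructible hc fun q hq => ?_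
    have h2 := h (U : Set X) (U.2.mem_nhds hxU) (hV.fromSpec.base q)
      (hp ▸ hq.map hV.fromSpec.continuous)
    rw [← himg] at h2
    obtain ⟨r, hr, hrq⟩ := h2
    rwa [← hV.fromSpec.isOpenEmbedding.injective hrq]
  have h3 := hV.fromSpec.isOpenEmbedding.isOpenMap.image_mem_nhds h1
  have h3' : _ ∈ nhds (f.base x) := hp ▸ h3
  exact Filter.mem_of_superset h3' (himg.le.trans (Set.image_mono fun z hz => hW'sub (hUsub hz).1))

/-- Universal openness at a point for morphisms locally of finite presentation can be tested on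
the local scheme of the base. -/
theorem of_fromSpecStalk {X Y : Scheme.{u}} (f : X ⟶ Y) [LocallyOfFinitePresentation f] (x : X)
    (x₁ : ↥(pullback f (Y.fromSpecStalk (f.base x))))
    (hx₁ : (pullback.fst f (Y.fromSpecStalk (f.base x))).base x₁ = x)
    (h : IsUnivOpenAt (pullback.snd f (Y.fromSpecStalk (f.base x))) x₁) : IsUnivOpenAt f x := by
  intro Y' g x' hx'
  haveI : LocallyOfFinitePresentation (pullback.snd f g) := inferInstance
  refine isOpenAt_of_lfp _ _ fun U hU z hz => ?_
  set y' := (pullback.snd f g).base x' with hy'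
  have hgy : g.base y' = f.base x := by
    rw [hy', ← Scheme.Hom.comp_apply, ← pullback.condition, Scheme.Hom.comp_apply, hx']
  -- the map of local schemes
  obtain ⟨α, hα⟩ : ∃ α : Spec (Y'.presheaf.stalk y') ⟶ Spec (Y.presheaf.stalk (f.base x)),
      α ≫ Y.fromSpecStalk (f.base x) = Y'.fromSpecStalk y' ≫ g :=
    ⟨Spec.map (Y.presheaf.stalkSpecializes (specializes_of_eq hgy) ≫ g.stalkMap y'), by
      rw [Spec.map_comp, Category.assoc, Scheme.SpecMap_stalkSpecializes_fromSpecStalk,
        Scheme.SpecMap_stalkMap_fromSpecStalk]⟩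
  let j := Y.fromSpecStalk (f.base x)
  let j' := Y'.fromSpecStalk y'
  -- the local piece of the base change
  let P := pullback (pullback.snd f g) j'
  let l : P ⟶ pullback f j := pullback.lift (pullback.fst _ _ ≫ pullback.fst f g) (pullback.snd _ _ ≫ α) (by
    rw [Category.assoc, pullback.condition, Category.assoc, hα, ← Category.assoc, pullback.condition, Category.assoc])
  have hP : IsPullback l (pullback.snd (pullback.snd f g) j') (pullback.snd f j) α := by
    refine IsPullback.of_right ?_ (pullback.lift_snd _ _ _) (IsPullback.of_hasPullback f j)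
    rw [pullback.lift_fst, hα]
    exact (IsPullback.of_hasPullback (pullback.snd f g) j').paste_horiz (IsPullback.of_hasPullback f g)
  obtain ⟨c, hc⟩ : y' ∈ Set.range j'.base := by
    rw [Scheme.range_fromSpecStalk]; exact specializes_rfl
  obtain ⟨p, hp1, hp2⟩ := Scheme.Pullback.exists_preimage_pullback (f := pullback.snd f g) (g := j') x' c hc.symm
  have hl : l.base p = x₁ := by
    refine (pullback.fst f j).isEmbedding.injective ?_
    rw [← Scheme.Hom.comp_apply, pullback.lift_fst, Scheme.Hom.comp_apply, hp1, hx', hx₁]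
  have hopen := of_isPullback hP h p hl ((pullback.fst (pullback.snd f g) j').base ⁻¹' U)
    ((Scheme.Hom.continuous _).continuousAt.preimage_mem_nhds (hp1 ▸ hU))
  obtain ⟨q, hq⟩ : z ∈ Set.range j'.base := by rw [Scheme.range_fromSpecStalk]; exact hz
  have hqc : q ⤳ c := by
    rw [← j'.isEmbedding.toIsInducing.specializes_iff, hq, hc]; exact hz
  rw [hp2] at hopen
  obtain ⟨r, hr, hrq⟩ := mem_of_mem_nhds (hqc hopen)
  exact ⟨_, hr, by rw [← Scheme.Hom.comp_apply, pullback.condition, Scheme.Hom.comp_apply, hrq, hq]⟩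

/-- Openness at a point descends along closed surjections. -/
theorem isOpenAt_of_closedMap {X Y Y₁ : Scheme.{u}} (v : Y₁ ⟶ Y) (hv : IsClosedMap v.base) [Surjective v]
    (f : X ⟶ Y) (x : X)
    (h : ∀ x₁ : ↥(pullback f v), (pullback.fst f v).base x₁ = x → IsOpenAt (pullback.snd f v).base x₁) :
    IsOpenAt f.base x := by
  intro U hU
  refine mem_interior_iff_mem_nhds.mp ?_
  have key : v.base ⁻¹' {f.base x} ⊆ interior (v.base ⁻¹' (f.base '' U)) := by
    intro y₁ hy₁
    obtain ⟨x₁, h1, h2⟩ := Scheme.Pullback.exists_preimage_pullback (f := f) (g := v) x y₁ hy₁.symm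
    have h3 := h x₁ h1 ((pullback.fst f v).base ⁻¹' U)
      ((Scheme.Hom.continuous _).continuousAt.preimage_mem_nhds (h1.symm ▸ hU))
    rw [h2] at h3
    refine mem_interior_iff_mem_nhds.mpr (Filter.mem_of_superset h3 ?_)
    rintro _ ⟨q, hq, rfl⟩
    exact ⟨_, hq, by rw [← Scheme.Hom.comp_apply, pullback.condition, Scheme.Hom.comp_apply]⟩
  refine mem_interior.mpr ⟨(v.base '' (interior (v.base ⁻¹' (f.base '' U)))ᶜ)ᶜ, ?_,
    (hv _ isOpen_interior.isClosed_compl).isOpen_compl, ?_⟩
  · intro y hy
    obtain ⟨y₁, rfl⟩ := v.surjective y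
    exact interior_subset (s := v.base ⁻¹' (f.base '' U)) (by_contra fun hc => hy ⟨y₁, hc, rfl⟩)
  · rintro ⟨y₁, hy₁, hy₁'⟩
    exact hy₁ (key hy₁')

theorem of_universallyClosed {X Y Y₁ : Scheme.{u}} (v : Y₁ ⟶ Y) [UniversallyClosed v] [Surjective v]
    (f : X ⟶ Y) (x : X)
    (h : ∀ x₁ : ↥(pullback f v), (pullback.fst f v).base x₁ = x → IsUnivOpenAt (pullback.snd f v) x₁) :
    IsUnivOpenAt f x := by
  intro Y' g x' hx'
  haveI : UniversallyClosed (pullback.snd v g) := inferInstance
  haveI : Surjective (pullback.snd v g) := inferInstance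
  refine isOpenAt_of_closedMap (pullback.snd v g) (pullback.snd v g).isClosedMap _ x' fun x'' hx'' => ?_
  let m : pullback (pullback.snd f g) (pullback.snd v g) ⟶ pullback f v :=
    pullback.lift (pullback.fst _ _ ≫ pullback.fst f g) (pullback.snd _ _ ≫ pullback.fst v g) (by
      simp [pullback.condition, pullback.condition_assoc])
  have hP : IsPullback m (pullback.snd (pullback.snd f g) (pullback.snd v g)) (pullback.snd f v) (pullback.fst v g) := by
    refine IsPullback.of_right ?_ (pullback.lift_snd _ _ _) (IsPullback.of_hasPullback f v)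
    rw [pullback.lift_fst, pullback.condition]
    exact (IsPullback.of_hasPullback (pullback.snd f g) (pullback.snd v g)).paste_horiz (IsPullback.of_hasPullback f g)
  refine of_isPullback hP (h (m.base x'') ?_) x'' rfl
  rw [← Scheme.Hom.comp_apply, pullback.lift_fst, Scheme.Hom.comp_apply, hx'', hx']

theorem of_finite_closed_cover {X Y : Scheme.{u}} (f : X ⟶ Y) (x : X) {ι : Type*}
    [Finite ι] (T : ι → Scheme.{u}) (g : ∀ i, T i ⟶ Y) [∀ i, IsClosedImmersion (g i)]
    (hcov : ⋃ i, Set.range (g i).base = Set.univ)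
    (h : ∀ i, ∀ x' : ↥(pullback f (g i)), (pullback.fst f (g i)).base x' = x →
      IsUnivOpenAt (pullback.snd f (g i)) x') :
    IsUnivOpenAt f x := by
  intro Y' c x' hx' U hU
  set y' := (pullback.snd f c).base x' with hy'
  have key : ∀ i, ∀ᶠ z in nhds y', ∀ t : ↥(pullback (g i) c),
      (pullback.snd (g i) c).base t = z → z ∈ (pullback.snd f c).base '' U := by
    intro i
    let k := pullback.snd (g i) c
    haveI : IsClosedImmersion k := inferInstance
    by_cases hmem : y' ∈ Set.range k.base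
    · obtain ⟨t₀, ht₀⟩ := hmem
      let m : pullback (pullback.snd f c) k ⟶ pullback f (g i) :=
        pullback.lift (pullback.fst _ _ ≫ pullback.fst f c) (pullback.snd _ _ ≫ pullback.fst (g i) c) (by
          simp [k, pullback.condition, pullback.condition_assoc])
      have hP : IsPullback m (pullback.snd (pullback.snd f c) k) (pullback.snd f (g i)) (pullback.fst (g i) c) := by
        refine IsPullback.of_right ?_ (pullback.lift_snd _ _ _) (IsPullback.of_hasPullback f (g i))
        rw [pullback.lift_fst, pullback.condition]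
        exact (IsPullback.of_hasPullback (pullback.snd f c) k).paste_horiz (IsPullback.of_hasPullback f c)
      obtain ⟨p, hp1, hp2⟩ := Scheme.Pullback.exists_preimage_pullback (f := pullback.snd f c) (g := k) x' t₀ ht₀.symm
      have h1 := of_isPullback hP (h i (m.base p) (by
        rw [← Scheme.Hom.comp_apply, pullback.lift_fst, Scheme.Hom.comp_apply, hp1, hx'])) p rfl
        ((pullback.fst (pullback.snd f c) k).base ⁻¹' U)
        ((Scheme.Hom.continuous _).continuousAt.preimage_mem_nhds (hp1.symm ▸ hU))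
      rw [hp2, k.isEmbedding.toIsInducing.nhds_eq_comap, Filter.mem_comap, ht₀] at h1
      obtain ⟨s, hs, hsub⟩ := h1
      filter_upwards [hs] with z hz t ht
      obtain ⟨q, hq, hqt⟩ := hsub (show k.base t ∈ s by rwa [show k.base t = z from ht])
      exact ⟨_, hq, by rw [← Scheme.Hom.comp_apply, pullback.condition, Scheme.Hom.comp_apply, hqt]; exact ht⟩
    · filter_upwards [k.isClosedEmbedding.isClosed_range.isOpen_compl.mem_nhds hmem] with z hz t ht
      exact absurd ⟨t, ht⟩ hz
  filter_upwards [Filter.eventually_all.mpr key] with z hz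
  obtain ⟨i, t₁, ht₁⟩ := Set.mem_iUnion.mp (hcov.symm ▸ Set.mem_univ (c.base z))
  obtain ⟨t, -, ht⟩ := Scheme.Pullback.exists_preimage_pullback (f := g i) (g := c) t₁ z ht₁
  exact hz i t ht

end Groth.L07.UnivOpenAt
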