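import Groth.Agent.L07.FibreDimSemi
import Groth.Prelude.Def_MoreMor
import Mathlib.AlgebraicGeometry.AffineSpace
import Mathlib.AlgebraicGeometry.Morphisms.QuasiFinite

/-!
Dimensions of closures of points in fibres, under quasi-finite morphisms (EGA IV 13.3).
-/

universe u

open CategoryTheory AlgebraicGeometry TopologicalSpace Topology

namespace Groth.L07.EquidimQF

open Groth.L22

set_option maxSynthPendingDepth 3
set_option linter.style.haveILetI false
set_option backward.isDefEq.respectTransparency.types false
set_option backward.isDefEq.respectTransparency false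

/-- Krull dimension of the closure of a point as a height for the specialisation order. -/
theorem dim_closure_eq_height {α : Type*} [TopologicalSpace α] [QuasiSober α] [T0Space α] (a : α) :
    letI := specializationOrder α
    topologicalKrullDim (closure ({a} : Set α)) = (Order.height a : WithBot ℕ∞) := by
  letI := specializationOrder α
  letI := specializationOrder (closure ({a} : Set α))
  haveI : QuasiSober (closure ({a} : Set α)) :=
    (isClosed_closure.isClosedEmbedding_subtypeVal).quasiSober
  haveI : T0Space (closure ({a} : Set α)) := inferInstance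
  rw [Order.height_eq_krullDim_Iic]
  show Order.krullDim (IrreducibleCloseds (closure ({a} : Set α))) = _
  refine (@Order.krullDim_eq_of_orderIso _ _ _ (specializationOrder (closure ({a} : Set α))).toPreorder
    irreducibleSetEquivPoints).trans ?_
  refine @Order.krullDim_eq_of_orderIso _ _ (specializationOrder (closure ({a} : Set α))).toPreorder _
    { toFun := fun b => ⟨b.1, specializes_iff_mem_closure.mpr b.2⟩
      invFun := fun b => ⟨b.1, specializes_iff_mem_closure.mp b.2⟩
      left_inv := fun b => rfl
      right_inv := fun b => rfl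
      map_rel_iff' := fun {b c} => ?_ }
  show c.1 ⤳ b.1 ↔ c ⤳ b
  exact (IsEmbedding.subtypeVal.isInducing.specializes_iff)

/-- A continuous map without specializations inside its fibres does not decrease the dimension of
closures of points. -/
theorem dim_closure_le {α β : Type*} [TopologicalSpace α] [TopologicalSpace β] [QuasiSober α] [T0Space α]
    [QuasiSober β] [T0Space β] (φ : α → β) (hc : Continuous φ)
    (hd : ∀ a b, a ⤳ b → φ a = φ b → a = b) (a : α) :
    topologicalKrullDim (closure ({a} : Set α)) ≤ topologicalKrullDim (closure ({φ a} : Set β)) := by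
  letI := specializationOrder α
  letI := specializationOrder β
  rw [dim_closure_eq_height, dim_closure_eq_height]
  refine WithBot.coe_le_coe.mpr (Order.height_le_height_apply_of_strictMono φ (fun b c hbc => ?_) a)
  refine lt_of_le_of_ne (show φ c ⤳ φ b from Specializes.map hbc.le hc) fun h => hbc.ne ?_
  exact (hd c b hbc.le h.symm).symm

/-- The dimension is attained on closures of points. -/
theorem dim_le_of_dim_closure_le {α : Type*} [TopologicalSpace α] [QuasiSober α] [T0Space α]
    {c : WithBot ℕ∞} (h : ∀ a : α, topologicalKrullDim (closure ({a} : Set α)) ≤ c) :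
    topologicalKrullDim α ≤ c := by
  letI := specializationOrder α
  show Order.krullDim (IrreducibleCloseds α) ≤ c
  rw [Order.krullDim_eq_of_orderIso (irreducibleSetEquivPoints (α := α)), Order.krullDim_eq_iSup_height]
  exact iSup_le fun a => (dim_closure_eq_height a).ge.trans (h a)

/-- In an irreducible space of finite dimension only the generic point has closure of full dimension. -/
theorem eq_genericPoint_of_dim_le {α : Type*} [TopologicalSpace α] [QuasiSober α] [T0Space α]
    [IrreducibleSpace α] {a : α} {e : ℕ} (hα : topologicalKrullDim α ≤ e)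
    (ha : (e : WithBot ℕ∞) ≤ topologicalKrullDim (closure ({a} : Set α))) : a = genericPoint α := by
  letI := specializationOrder α
  by_contra hne
  have h0 : a < genericPoint α := lt_of_le_of_ne ((genericPoint_spec α).specializes trivial) hne
  have h1 := Order.height_add_one_le h0
  have h2 : (Order.height (genericPoint α) : WithBot ℕ∞) ≤ (e : WithBot ℕ∞) := by
    rw [← dim_closure_eq_height]
    exact (topologicalKrullDim_subspace_le α _).trans hα
  rw [dim_closure_eq_height] at ha
  have h3 : (e : ℕ∞) ≤ Order.height a := WithBot.coe_le_coe.mp ha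
  have h4 : Order.height (genericPoint α) ≤ (e : ℕ∞) := WithBot.coe_le_coe.mp h2
  have h5 : (e : ℕ∞) + 1 ≤ (e : ℕ∞) := (add_le_add h3 le_rfl).trans (h1.trans h4)
  have h6 : e + 1 ≤ e := by exact_mod_cast h5
  omega

/-- Maximal points and irreducible components. -/
theorem closure_singleton_mem_irreducibleComponents_iff {α : Type*} [TopologicalSpace α] [QuasiSober α]
    [T0Space α] (p : α) :
    closure ({p} : Set α) ∈ irreducibleComponents α ↔ ∀ q, q ⤳ p → q = p := by
  constructor
  · intro h q hq
    have h1 : closure ({p} : Set α) ⊆ closure {q} :=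
      closure_minimal (by simpa [← specializes_iff_mem_closure] using hq) isClosed_closure
    have h2 := h.2 isIrreducible_singleton.closure h1
    exact ((specializes_iff_mem_closure.mpr (h2 (subset_closure rfl))).antisymm hq).eq.symm
  · intro h
    obtain ⟨Z, hZ, hsub⟩ := exists_mem_irreducibleComponents_subset_of_isIrreducible _
      (isIrreducible_singleton (x := p)).closure
    obtain ⟨q, hq⟩ := QuasiSober.sober hZ.1 (isClosed_of_mem_irreducibleComponents Z hZ)
    have : q ⤳ p := hq.specializes (hsub (subset_closure rfl))
    rw [← h q this, hq.def]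
    exact hZ

variable {U P Y : Scheme.{u}}

/-- Dimensions of closures cannot grow along a morphism over a field. -/
theorem dim_closure_map_le (g : U ⟶ P) (pr : P ⟶ Y) [LocallyOfFiniteType g] [LocallyOfFiniteType pr]
    (y : Y) (a : (g ≫ pr).fiber y) :
    topologicalKrullDim (closure ({MoreMor.fiberMap g pr y a} : Set (pr.fiber y))) ≤
      topologicalKrullDim (closure ({a} : Set ((g ≫ pr).fiber y))) := by
  let k : Type u := Y.residueField y
  letI : ((g ≫ pr).fiber y).Over (Spec (CommRingCat.of k)) := ⟨(g ≫ pr).fiberToSpecResidueField y⟩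
  letI : (pr.fiber y).Over (Spec (CommRingCat.of k)) := ⟨pr.fiberToSpecResidueField y⟩
  haveI : LocallyOfFiniteType ((g ≫ pr).fiber y ↘ Spec (CommRingCat.of k)) :=
    MorphismProperty.pullback_snd _ _ inferInstance
  haveI : LocallyOfFiniteType (pr.fiber y ↘ Spec (CommRingCat.of k)) :=
    MorphismProperty.pullback_snd _ _ inferInstance
  letI : ∀ b, Algebra k (((g ≫ pr).fiber y).residueField b) := fun b => Curv2.resAlgebra k _ b
  letI : ∀ b, Algebra k ((pr.fiber y).residueField b) := fun b => Curv2.resAlgebra k _ b
  set φ := MoreMor.fiberMap g pr y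
  have hφ : φ ≫ pr.fiberToSpecResidueField y = (g ≫ pr).fiberToSpecResidueField y :=
    Limits.pullback.lift_snd _ _ _
  obtain ⟨n, hn, htr⟩ := SchemeDim.exists_dim_closure_eq_trdeg k ((g ≫ pr).fiber y) a
  obtain ⟨m, hm, htr'⟩ := SchemeDim.exists_dim_closure_eq_trdeg k (pr.fiber y) (φ a)
  rw [hn, hm]
  let ψ : (pr.fiber y).residueField (φ a) →ₐ[k] ((g ≫ pr).fiber y).residueField a :=
    { (φ.residueFieldMap a).hom with
      commutes' := fun c => by
        show (φ.residueFieldMap a).hom (Curv2.resMap k (pr.fiber y) (φ a) c) =
          Curv2.resMap k ((g ≫ pr).fiber y) a c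
        have hst : φ.appTop.hom (Coh.toGlobal (pr.fiber y ↘ Spec (CommRingCat.of k)) c) =
            Coh.toGlobal ((g ≫ pr).fiber y ↘ Spec (CommRingCat.of k)) c := by
          show φ.appTop.hom (((pr.fiberToSpecResidueField y).appTop).hom _) =
            (((g ≫ pr).fiberToSpecResidueField y).appTop).hom _
          rw [← hφ]
          rfl
        show (φ.residueFieldMap a).hom ((pr.fiber y).residue (φ a) ((pr.fiber y).presheaf.germ ⊤ (φ a) trivial _)) =
          ((g ≫ pr).fiber y).residue a (((g ≫ pr).fiber y).presheaf.germ ⊤ a trivial _)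
        rw [← CommRingCat.comp_apply, Scheme.residue_residueFieldMap, CommRingCat.comp_apply]
        exact congrArg _ ((Scheme.Hom.germ_stalkMap_apply φ ⊤ a trivial _).trans (congrArg _ hst)) }
  have h := trdeg_le_of_injective ψ (φ.residueFieldMap a).hom.injective
  rw [htr, htr'] at h
  exact_mod_cast h

/-- Closures of points keep their dimension in the fibres of a quasi-finite morphism. -/
theorem dim_closure_map_eq (g : U ⟶ P) (pr : P ⟶ Y) [LocallyOfFiniteType g] [LocallyQuasiFinite g]
    [LocallyOfFiniteType pr] (y : Y) (a : (g ≫ pr).fiber y) :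
    topologicalKrullDim (closure ({a} : Set ((g ≫ pr).fiber y))) =
      topologicalKrullDim (closure ({MoreMor.fiberMap g pr y a} : Set (pr.fiber y))) := by
  refine le_antisymm (dim_closure_le _ (MoreMor.fiberMap g pr y).continuous (fun b c hbc he => ?_) a)
    (dim_closure_map_le g pr y a)
  apply ((g ≫ pr).fiberι y).isEmbedding.injective
  have h1 : (g ≫ pr).fiberι y b ⤳ (g ≫ pr).fiberι y c := hbc.map ((g ≫ pr).fiberι y).continuous
  have key : ∀ d, g ((g ≫ pr).fiberι y d) = pr.fiberι y (MoreMor.fiberMap g pr y d) := fun d => by
    have e : MoreMor.fiberMap g pr y ≫ pr.fiberι y = (g ≫ pr).fiberι y ≫ g :=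
      Limits.pullback.lift_fst _ _ _
    rw [← Scheme.Hom.comp_apply, ← Scheme.Hom.comp_apply, e]
  have h2 : g ((g ≫ pr).fiberι y b) = g ((g ≫ pr).fiberι y c) := by rw [key, key, he]
  haveI := (g.isDiscrete_preimage_singleton (g ((g ≫ pr).fiberι y c))).to_subtype
  have h3 : (⟨_, h2⟩ : g ⁻¹' {g ((g ≫ pr).fiberι y c)}) ⤳ ⟨(g ≫ pr).fiberι y c, rfl⟩ :=
    IsEmbedding.subtypeVal.isInducing.specializes_iff.mp h1
  exact congrArg Subtype.val h3.eq

end Groth.L07.EquidimQF
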