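import Groth.Agent.L07.Chevalley

/-!
Universal openness at a point over a geometrically unibranch point (EGA IV 14.4.1).
-/

universe u

open CategoryTheory CategoryTheory.Limits AlgebraicGeometry TopologicalSpace Topology

namespace Groth.L07.Chevalley

open Groth.L07.Equidim Groth.L07.EquidimQF

set_option maxSynthPendingDepth 3
set_option linter.style.haveILetI false
set_option backward.isDefEq.respectTransparency.types false
set_option backward.isDefEq.respectTransparency false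

/-- The normalisation of a geometrically unibranch local ring. -/
theorem exists_normal_local {A : Type u} [CommRing A] [IsLocalRing A] (h : CAlg2.IsGeomUnibranch A) :
    ∃ (C : Type u) (_ : CommRing C) (_ : IsDomain C) (_ : IsIntegrallyClosed C) (ψ : A →+* C),
      ψ.IsIntegral ∧ (∀ a, ψ a = 0 → IsNilpotent a) ∧
      ∀ (K : Type u) [Field K] (f g : C →+* K), f.comp ψ = g.comp ψ →
        RingHom.ker (f.comp ψ) = IsLocalRing.maximalIdeal A → f = g := by
  haveI := h.1.1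
  refine ⟨CAlg2.normRed A, inferInstance, inferInstance,
    integralClosure.isIntegrallyClosedOfFiniteExtension (FractionRing (CAlg2.red A)),
    Groth.L28.Unibranch.toNorm A, Groth.L28.Unibranch.toNorm_isIntegral A, fun a ha => ?_,
    fun K _ f g hfg hk => Groth.L28.Unibranch.hom_ext_normRed h f g hfg hk⟩
  have h1 : algebraMap (CAlg2.red A) (FractionRing (CAlg2.red A)) (Ideal.Quotient.mk (nilradical A) a) = 0 :=
    congrArg Subtype.val ha
  rw [← map_zero (algebraMap (CAlg2.red A) (FractionRing (CAlg2.red A)))] at h1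
  exact mem_nilradical.mp (Ideal.Quotient.eq_zero_iff_mem.mp (IsFractionRing.injective _ _ h1))

/-- Uniqueness of the point above a point lying over the closed point. -/
theorem eq_of_isPullback {A C : Type u} [CommRing A] [IsLocalRing A] [CommRing C] (ψ : A →+* C)
    (hext : ∀ (K : Type u) [Field K] (f g : C →+* K), f.comp ψ = g.comp ψ →
        RingHom.ker (f.comp ψ) = IsLocalRing.maximalIdeal A → f = g)
    {T' T : Scheme.{u}} {a : T' ⟶ T} {b : T' ⟶ Spec (CommRingCat.of C)} {h : T ⟶ Spec (CommRingCat.of A)}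
    (hP : IsPullback a b h (Spec.map (CommRingCat.ofHom ψ))) (p₁ p₂ : T') (he : a p₁ = a p₂)
    (hy : h (a p₁) = IsLocalRing.closedPoint A) : p₁ = p₂ := by
  obtain ⟨z, hz1, hz2⟩ := Scheme.Pullback.exists_preimage_pullback (f := a) (g := a) p₁ p₂ he
  let K : Type u := (pullback a a).residueField z
  let w := (pullback a a).fromSpecResidueField z
  let m₁ := w ≫ pullback.fst a a
  let m₂ := w ≫ pullback.snd a a
  have ha : m₁ ≫ a = m₂ ≫ a := by simp only [m₁, m₂, Category.assoc, pullback.condition]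
  obtain ⟨f₁, hf₁⟩ := Spec.map_surjective (m₁ ≫ b)
  obtain ⟨f₂, hf₂⟩ := Spec.map_surjective (m₂ ≫ b)
  have hb : Spec.map (CommRingCat.ofHom ψ ≫ f₁) = Spec.map (CommRingCat.ofHom ψ ≫ f₂) := by
    rw [Spec.map_comp, Spec.map_comp, hf₁, hf₂, Category.assoc m₁, Category.assoc m₂, ← hP.w,
      ← Category.assoc m₁, ← Category.assoc m₂, ha]
  have hff : f₁.hom.comp ψ = f₂.hom.comp ψ := congrArg CommRingCat.Hom.hom (Spec.map_injective hb)
  let c : Spec ((pullback a a).residueField z) := IsLocalRing.closedPoint _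
  have hc : m₁ c = p₁ := by
    show (w ≫ pullback.fst a a) c = p₁
    rw [Scheme.Hom.comp_apply]
    exact (congrArg _ (Scheme.fromSpecResidueField_apply z c)).trans hz1
  have hker : RingHom.ker (f₁.hom.comp ψ) = IsLocalRing.maximalIdeal A := by
    have h1 : Spec.map (CommRingCat.ofHom ψ ≫ f₁) c = IsLocalRing.closedPoint A := by
      rw [Spec.map_comp, hf₁, Category.assoc, ← hP.w, Scheme.Hom.comp_apply, Scheme.Hom.comp_apply, hc]
      exact hy
    have h2 := congrArg PrimeSpectrum.asIdeal h1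
    rw [RingHom.ker_eq_comap_bot]
    refine Eq.trans ?_ h2
    show Ideal.comap (f₁.hom.comp ψ) ⊥ = Ideal.comap (CommRingCat.ofHom ψ ≫ f₁).hom c.asIdeal
    rw [show c.asIdeal = (⊥ : Ideal K) from IsLocalRing.maximalIdeal_eq_bot]
    rfl
  have hf : f₁ = f₂ := CommRingCat.hom_ext (hext K f₁.hom f₂.hom hff hker)
  have hm : m₁ = m₂ := hP.hom_ext ha (by rw [← hf₁, ← hf₂, hf])
  rw [← hc, hm]
  show (w ≫ pullback.snd a a) c = p₂
  rw [Scheme.Hom.comp_apply]
  exact (congrArg _ (Scheme.fromSpecResidueField_apply z c)).trans hz2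

/-- Generizations lift at a point below which some point lies over the generic one. -/
theorem exists_lift_normal {U : Scheme.{u}} {B : Type u} [CommRing B] [IsDomain B]
    [IsIntegrallyClosed B] (g : U ⟶ Spec (CommRingCat.of B)) [LocallyOfFiniteType g] [LocallyQuasiFinite g]
    {u ζ : U} (hζ : ζ ⤳ u) (hζb : (g ζ).asIdeal = ⊥) {t : Spec (CommRingCat.of B)} (ht : t ⤳ g u) :
    ∃ w, w ⤳ u ∧ g w = t := by
  obtain ⟨W, hW, huW, -⟩ := exists_isAffineOpen_mem_and_subset (TopologicalSpace.Opens.mem_top u)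
  obtain ⟨φ, hφ⟩ := Spec.map_surjective (hW.fromSpec ≫ g)
  haveI : LocallyOfFiniteType (Spec.map φ) := hφ ▸ inferInstance
  haveI : LocallyQuasiFinite (Spec.map φ) := hφ ▸ inferInstance
  let q0 := hW.primeIdealOf ⟨u, huW⟩
  let P0 := hW.primeIdealOf ⟨ζ, hζ.mem_open W.2 huW⟩
  have hu : hW.fromSpec q0 = u := hW.fromSpec_primeIdealOf ⟨u, huW⟩
  have hz : hW.fromSpec P0 = ζ := hW.fromSpec_primeIdealOf ⟨ζ, hζ.mem_open W.2 huW⟩
  algebraize [φ.hom]
  haveI : Algebra.FiniteType B Γ(U, W) :=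
    RingHom.finiteType_algebraMap.mp ((HasRingHomProperty.Spec_iff (P := @LocallyOfFiniteType) (φ := φ)).mp inferInstance)
  haveI : Algebra.QuasiFinite B Γ(U, W) :=
    RingHom.quasiFinite_algebraMap.mp ((HasRingHomProperty.Spec_iff (P := @LocallyQuasiFinite)).mp inferInstance)
  haveI := q0.2
  haveI := P0.2
  have hPq : P0.asIdeal ≤ q0.asIdeal := by
    refine (PrimeSpectrum.le_iff_specializes P0 q0).mpr (hW.fromSpec.isOpenEmbedding.isInducing.specializes_iff.mp ?_)
    rw [hu, hz]; exact hζ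
  have hPB : P0.asIdeal.comap (algebraMap B Γ(U, W)) = ⊥ := by
    have : Spec.map φ P0 = g ζ := by rw [hφ, Scheme.Hom.comp_apply, hz]
    rw [← hζb, ← this]
    rfl
  let P := P0.asIdeal
  let S := Γ(U, W) ⧸ P
  haveI : IsDomain S := Ideal.Quotient.isDomain P
  have hinj : Function.Injective (algebraMap B S) := by
    rw [injective_iff_map_eq_zero]
    intro b hb
    rw [IsScalarTower.algebraMap_apply B Γ(U, W) S, Ideal.Quotient.algebraMap_eq,
      Ideal.Quotient.eq_zero_iff_mem] at hb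
    have : b ∈ P.comap (algebraMap B Γ(U, W)) := hb
    rwa [hPB, Ideal.mem_bot] at this
  haveI : Algebra.FiniteType B S :=
    Algebra.FiniteType.of_surjective (Ideal.Quotient.mkₐ B P) Ideal.Quotient.mk_surjective
  haveI : Algebra.QuasiFinite B S :=
    Algebra.QuasiFinite.of_surjective_algHom (Ideal.Quotient.mkₐ B P) Ideal.Quotient.mk_surjective
  let qS : Ideal S := q0.asIdeal.map (Ideal.Quotient.mk P)
  haveI : qS.IsPrime := Ideal.map_isPrime_of_surjective Ideal.Quotient.mk_surjective (by rw [Ideal.mk_ker]; exact hPq)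
  have hqS : qS.comap (Ideal.Quotient.mk P) = q0.asIdeal := by
    rw [Ideal.comap_map_of_surjective _ Ideal.Quotient.mk_surjective, ← RingHom.ker_eq_comap_bot, Ideal.mk_ker,
      sup_eq_left.mpr hPq]
  let t' : PrimeSpectrum B := t
  have ht' : t'.asIdeal ≤ qS.comap (algebraMap B S) := by
    have h1 : t' ⤳ PrimeSpectrum.comap φ.hom q0 := by
      have : Spec.map φ q0 = g u := by rw [hφ, Scheme.Hom.comp_apply, hu]
      rw [← this] at ht
      exact ht
    intro x hx
    have := (PrimeSpectrum.le_iff_specializes t' _).mpr h1 hx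
    show Ideal.Quotient.mk P (algebraMap B Γ(U, W) x) ∈ qS
    rw [← Ideal.mem_comap, hqS]
    exact this
  obtain ⟨Q, hQ, hQle, hQo⟩ := exists_prime_le hinj qS t'.asIdeal ht'
  let Q0 : PrimeSpectrum Γ(U, W) := ⟨Q.comap (Ideal.Quotient.mk P), Ideal.IsPrime.comap _⟩
  refine ⟨hW.fromSpec Q0, ?_, ?_⟩
  · rw [← hu]
    refine Specializes.map ((PrimeSpectrum.le_iff_specializes Q0 q0).mp ?_) hW.fromSpec.continuous
    show Q0.asIdeal ≤ q0.asIdeal
    rw [← hqS]
    exact Ideal.comap_mono hQle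
  · rw [← Scheme.Hom.comp_apply, ← hφ]
    exact PrimeSpectrum.ext hQo

/-- Openness at a point from a universally closed cover of the base by a normal affine scheme with
a single point above the image. -/
theorem exists_lift_of_cover {U T : Scheme.{u}} {B : Type u} [CommRing B] [IsDomain B] [IsIntegrallyClosed B]
    (ν : Spec (CommRingCat.of B) ⟶ T) [UniversallyClosed ν] [Surjective ν]
    (g : U ⟶ T) [LocallyOfFiniteType g] [LocallyQuasiFinite g] {u ζ : U} (hζ : ζ ⤳ u)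
    (hmax : ∀ q, q ⤳ g ζ → q = g ζ) (hfib : ∀ p₁ p₂, ν p₁ = g u → ν p₂ = g u → p₁ = p₂)
    {t : T} (ht : t ⤳ g u) : ∃ w, w ⤳ u ∧ g w = t := by
  let b0 : PrimeSpectrum B := ⟨⊥, Ideal.isPrime_bot⟩
  have hgen : ∀ p : Spec (CommRingCat.of B), (b0 : Spec (CommRingCat.of B)) ⤳ p := fun p =>
    (PrimeSpectrum.le_iff_specializes b0 p).mp bot_le
  have hb : ν b0 = g ζ := by
    obtain ⟨t1, ht1⟩ := ν.surjective (g ζ)
    exact hmax _ (ht1 ▸ (hgen t1).map ν.continuous)
  obtain ⟨ζ', hζ'1, hζ'2⟩ := Scheme.Pullback.exists_preimage_pullback (f := g) (g := ν) ζ b0 hb.symm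
  have hcl : IsClosedMap (pullback.fst g ν) := Scheme.Hom.isClosedMap _
  obtain ⟨u', hu', rfl⟩ : u ∈ pullback.fst g ν '' closure {ζ'} := by
    rw [← hcl.closure_image_eq_of_continuous (pullback.fst g ν).continuous, Set.image_singleton, hζ'1]
    exact specializes_iff_mem_closure.mp hζ
  have hζu : ζ' ⤳ u' := specializes_iff_mem_closure.mpr hu'
  obtain ⟨t', rfl⟩ := ν.surjective t
  obtain ⟨t'', ht'', he⟩ : g (pullback.fst g ν u') ∈ ν '' closure {t'} := by
    rw [← ν.isClosedMap.closure_image_eq_of_continuous ν.continuous, Set.image_singleton]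
    exact specializes_iff_mem_closure.mp ht
  have hsnd : t'' = pullback.snd g ν u' := hfib _ _ he (by
    rw [← Scheme.Hom.comp_apply (pullback.snd g ν), ← pullback.condition, Scheme.Hom.comp_apply])
  obtain ⟨w, hw, hwt⟩ := exists_lift_normal (pullback.snd g ν) hζu (by rw [hζ'2])
    (hsnd ▸ specializes_iff_mem_closure.mpr ht'' : t' ⤳ pullback.snd g ν u')
  refine ⟨pullback.fst g ν w, hw.map (pullback.fst g ν).continuous, ?_⟩
  rw [← Scheme.Hom.comp_apply, pullback.condition, Scheme.Hom.comp_apply, hwt]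

/-- A dominating point of the source below `x` gives universal openness at `x`. -/
theorem isUnivOpenAt_of_dominant {X Y : Scheme.{u}} [IsLocallyNoetherian Y] (f : X ⟶ Y) [LocallyOfFiniteType f]
    (x : X) (hgu : CAlg2.IsGeomUnibranch (Y.presheaf.stalk (f x))) (e : ℕ) (D : X.Opens) (hxD : x ∈ D)
    (g : (D : Scheme.{u}) ⟶ 𝔸(ULift.{u} (Fin e); Y)) [LocallyQuasiFinite g]
    (hg : g ≫ (𝔸(ULift.{u} (Fin e); Y) ↘ Y) = D.ι ≫ f) (ζ : (D : Scheme.{u})) (hζx : D.ι ζ ⤳ x)
    (hζ : ∀ q, q ⤳ g ζ → q = g ζ) : EGA43.IsUnivOpenAt f x := by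
  let E := ULift.{u} (Fin e)
  let A := Y.presheaf.stalk (f x)
  obtain ⟨C, _, _, _, ψ, hψi, hψn, hψe⟩ := exists_normal_local hgu
  let jA := Y.fromSpecStalk (f x)
  let f₁ := pullback.snd f jA
  haveI : LocallyOfFinitePresentation f := LocallyOfFinitePresentation.iff_locallyOfFiniteType.mpr inferInstance
  obtain ⟨x₁, hx₁, hx₁c⟩ := Scheme.Pullback.exists_preimage_pullback (f := f) (g := jA) x
    (IsLocalRing.closedPoint A) Y.fromSpecStalk_closedPoint.symm
  refine Groth.L07.UnivOpenAt.of_fromSpecStalk f x x₁ hx₁ ?_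
  obtain ⟨c, hc⟩ : f (D.ι ζ) ∈ Set.range jA := by
    rw [Scheme.range_fromSpecStalk]; exact hζx.map f.continuous
  obtain ⟨ζ₁, hζ₁, -⟩ := Scheme.Pullback.exists_preimage_pullback (f := f) (g := jA) (D.ι ζ) c hc.symm
  let D₁ := pullback.fst f jA ⁻¹ᵁ D
  have big : IsPullback (pullback.fst f jA ∣_ D) (D₁.ι ≫ f₁) (D.ι ≫ f) jA :=
    (isPullback_morphismRestrict (pullback.fst f jA) D).paste_vert (IsPullback.of_hasPullback f jA)
  let mA := AffineSpace.map E jA
  have bot := AffineSpace.isPullback_map (n := E) jA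
  haveI : IsPreimmersion mA :=
    MorphismProperty.of_isPullback (P := @IsPreimmersion) bot.flip inferInstance
  let g₁ := bot.lift ((pullback.fst f jA ∣_ D) ≫ g) (D₁.ι ≫ f₁) (by rw [Category.assoc, hg]; exact big.w)
  have hg₁1 : g₁ ≫ mA = (pullback.fst f jA ∣_ D) ≫ g := bot.lift_fst _ _ _
  have hg₁2 : g₁ ≫ (𝔸(E; Spec A) ↘ Spec A) = D₁.ι ≫ f₁ := bot.lift_snd _ _ _
  have top : IsPullback (pullback.fst f jA ∣_ D) g₁ g mA :=
    IsPullback.of_bot (by rw [hg₁2, hg]; exact big) hg₁1.symm bot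
  haveI : LocallyQuasiFinite g₁ := MorphismProperty.of_isPullback (P := @LocallyQuasiFinite) top inferInstance
  haveI : LocallyOfFiniteType (g₁ ≫ (𝔸(E; Spec A) ↘ Spec A)) := hg₁2 ▸ inferInstance
  haveI : LocallyOfFiniteType g₁ := locallyOfFiniteType_of_comp g₁ (𝔸(E; Spec A) ↘ Spec A)
  let z₁ : (D₁ : Scheme.{u}) := ⟨ζ₁, show pullback.fst f jA ζ₁ ∈ D from hζ₁.symm ▸ ζ.2⟩
  let y₁ : (D₁ : Scheme.{u}) := ⟨x₁, show pullback.fst f jA x₁ ∈ D from hx₁.symm ▸ hxD⟩
  have hz₁ : z₁ ⤳ y₁ := by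
    refine D₁.ι.isOpenEmbedding.isInducing.specializes_iff.mp ((pullback.fst f jA).isEmbedding.isInducing.specializes_iff.mp ?_)
    show pullback.fst f jA ζ₁ ⤳ pullback.fst f jA x₁
    rw [hζ₁, hx₁]; exact hζx
  have hz₁max : ∀ q, q ⤳ g₁ z₁ → q = g₁ z₁ := by
    intro q hq
    have h1 : (pullback.fst f jA ∣_ D) z₁ = ζ := D.ι.isOpenEmbedding.injective (by
      rw [← Scheme.Hom.comp_apply, morphismRestrict_ι, Scheme.Hom.comp_apply]
      exact hζ₁)
    have h2 : mA (g₁ z₁) = g ζ := by rw [← Scheme.Hom.comp_apply, hg₁1, Scheme.Hom.comp_apply, h1]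
    refine mA.isEmbedding.injective ?_
    rw [h2]
    exact hζ _ (h2 ▸ hq.map mA.continuous)
  refine Groth.L07.UnivOpenPointwise.of_affineSpace f₁ x₁ fun m p hp => ?_
  let N := ULift.{u} (Fin m)
  haveI : IsNoetherianRing A := inferInstance
  haveI : IsLocallyNoetherian 𝔸(E; Spec A) :=
    LocallyOfFiniteType.isLocallyNoetherian (𝔸(E; Spec A) ↘ Spec A)
  haveI : IsLocallyNoetherian 𝔸(N; 𝔸(E; Spec A)) :=
    LocallyOfFiniteType.isLocallyNoetherian (𝔸(N; 𝔸(E; Spec A)) ↘ 𝔸(E; Spec A))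
  -- the normal cover of the affine spaces
  let ν0 := Spec.map (CommRingCat.ofHom ψ)
  haveI : IsIntegralHom ν0 := IsIntegralHom.SpecMap_iff.mpr hψi
  haveI : Surjective ν0 := ⟨fun q => by
    obtain ⟨Q, hQ, hQq⟩ := Groth.L28.AWN.exists_comap_of_integral hψi hψn q.asIdeal
    exact ⟨⟨Q, hQ⟩, PrimeSpectrum.ext hQq⟩⟩
  let ν1 := (AffineSpace.SpecIso E (CommRingCat.of C)).inv ≫ AffineSpace.map E ν0
  haveI := isIntegrallyClosed_mvPolynomial C e
  haveI : IsIntegrallyClosed (MvPolynomial E C) :=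
    IsIntegrallyClosed.of_equiv (MvPolynomial.renameEquiv C Equiv.ulift.symm).toRingEquiv
  have sq1 : IsPullback ν1 ((AffineSpace.SpecIso E (CommRingCat.of C)).inv ≫ (𝔸(E; Spec (CommRingCat.of C)) ↘ Spec (CommRingCat.of C)))
      (𝔸(E; Spec A) ↘ Spec A) ν0 :=
    by
    have i1 : IsPullback (AffineSpace.SpecIso E (CommRingCat.of C)).inv
        ((AffineSpace.SpecIso E (CommRingCat.of C)).inv ≫ (𝔸(E; Spec (CommRingCat.of C)) ↘ Spec (CommRingCat.of C)))
        (𝔸(E; Spec (CommRingCat.of C)) ↘ Spec (CommRingCat.of C)) (𝟙 _) :=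
      IsPullback.of_horiz_isIso ⟨by rw [Category.comp_id]⟩
    have h := i1.paste_horiz (AffineSpace.isPullback_map (n := E) ν0)
    rw [Category.id_comp] at h
    exact h
  haveI := isIntegrallyClosed_mvPolynomial (MvPolynomial E C) m
  haveI : IsIntegrallyClosed (MvPolynomial N (MvPolynomial E C)) :=
    IsIntegrallyClosed.of_equiv (MvPolynomial.renameEquiv (MvPolynomial E C) Equiv.ulift.symm).toRingEquiv
  let ν2 := (AffineSpace.SpecIso N (CommRingCat.of (MvPolynomial E C))).inv ≫ AffineSpace.map N ν1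
  have sq2 : IsPullback ν2 ((AffineSpace.SpecIso N (CommRingCat.of (MvPolynomial E C))).inv ≫
      (𝔸(N; Spec (CommRingCat.of (MvPolynomial E C))) ↘ Spec (CommRingCat.of (MvPolynomial E C))))
      (𝔸(N; 𝔸(E; Spec A)) ↘ 𝔸(E; Spec A)) ν1 :=
    by
    have i1 : IsPullback (AffineSpace.SpecIso N (CommRingCat.of (MvPolynomial E C))).inv
        ((AffineSpace.SpecIso N (CommRingCat.of (MvPolynomial E C))).inv ≫
          (𝔸(N; Spec (CommRingCat.of (MvPolynomial E C))) ↘ Spec (CommRingCat.of (MvPolynomial E C))))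
        (𝔸(N; Spec (CommRingCat.of (MvPolynomial E C))) ↘ Spec (CommRingCat.of (MvPolynomial E C))) (𝟙 _) :=
      IsPullback.of_horiz_isIso ⟨by rw [Category.comp_id]⟩
    have h := i1.paste_horiz (AffineSpace.isPullback_map (n := N) ν1)
    rw [Category.id_comp] at h
    exact h
  have sq := sq2.paste_vert sq1
  haveI : UniversallyClosed ν0 := inferInstance
  haveI : UniversallyClosed ν2 := MorphismProperty.of_isPullback (P := @UniversallyClosed) sq.flip inferInstance
  haveI : Surjective ν2 := MorphismProperty.of_isPullback (P := @Surjective) sq.flip inferInstance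
  let gN := AffineSpace.map N g₁
  haveI : LocallyOfFiniteType gN :=
    MorphismProperty.of_isPullback (P := @LocallyOfFiniteType) (AffineSpace.isPullback_map (n := N) g₁).flip inferInstance
  haveI : LocallyQuasiFinite gN :=
    MorphismProperty.of_isPullback (P := @LocallyQuasiFinite) (AffineSpace.isPullback_map (n := N) g₁).flip inferInstance
  haveI : LocallyOfFinitePresentation gN :=
    LocallyOfFinitePresentation.iff_locallyOfFiniteType.mpr inferInstance
  obtain ⟨p', hp', hp'2⟩ := Scheme.exists_preimage_of_isPullback (AffineSpace.isPullback_map (n := N) D₁.ι) p y₁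
    (by rw [show (𝔸(N; pullback f jA) ↘ pullback f jA) p = x₁ from hp]; rfl)
  -- a point below `p'` over the generic point
  haveI : Flat (𝔸(N; (D₁ : Scheme.{u})) ↘ (D₁ : Scheme.{u})) := flat_over _
  obtain ⟨q0, hq0, hq0z⟩ := Flat.generalizingMap (𝔸(N; (D₁ : Scheme.{u})) ↘ (D₁ : Scheme.{u}))
    (show z₁ ⤳ (𝔸(N; (D₁ : Scheme.{u})) ↘ (D₁ : Scheme.{u})) p' from hp'2.symm ▸ hz₁)
  set prD := 𝔸(N; (D₁ : Scheme.{u})) ↘ (D₁ : Scheme.{u})
  let ζN := prD.fiberι z₁ (genericPoint (prD.fiber z₁))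
  have hζN : ζN ⤳ p' := by
    obtain ⟨d, hd⟩ : q0 ∈ Set.range (prD.fiberι z₁) := by rw [prD.range_fiberι]; exact hq0z
    exact (hd ▸ ((genericPoint_spec (prD.fiber z₁)).specializes (y := d) trivial).map (prD.fiberι z₁).continuous).trans hq0
  have hζNmax : ∀ q, q ⤳ gN ζN → q = gN ζN := by
    intro q hq
    have hzN : prD ζN = z₁ := apply_fiberι prD z₁ _
    have hbase : (𝔸(N; 𝔸(E; Spec A)) ↘ 𝔸(E; Spec A)) (gN ζN) = g₁ z₁ := by
      rw [← Scheme.Hom.comp_apply, AffineSpace.map_over, Scheme.Hom.comp_apply, hzN]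
    have hq' : (𝔸(N; 𝔸(E; Spec A)) ↘ 𝔸(E; Spec A)) q = (𝔸(N; 𝔸(E; Spec A)) ↘ 𝔸(E; Spec A)) (gN ζN) := by
      have h3 := hq.map (𝔸(N; 𝔸(E; Spec A)) ↘ 𝔸(E; Spec A)).continuous
      rw [hbase] at h3 ⊢
      exact hz₁max _ h3
    obtain ⟨ζ₂, hζ₂, rfl⟩ := exists_lift_generization (AffineSpace.isPullback_map (n := N) g₁).flip ζN q hq hq'
    have h4 : prD ζ₂ ⤳ z₁ := hzN ▸ hζ₂.map prD.continuous
    have h5 : g₁ (prD ζ₂) = g₁ z₁ := by
      rw [← Scheme.Hom.comp_apply prD, ← AffineSpace.map_over, Scheme.Hom.comp_apply, hq', hbase]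
    have h6 : prD ζ₂ = z₁ := by
      haveI := (g₁.isDiscrete_preimage_singleton (g₁ z₁)).to_subtype
      have h7 : (⟨_, h5⟩ : g₁ ⁻¹' {g₁ z₁}) ⤳ ⟨z₁, rfl⟩ := IsEmbedding.subtypeVal.isInducing.specializes_iff.mp h4
      exact congrArg Subtype.val h7.eq
    obtain ⟨d, hd⟩ : ζ₂ ∈ Set.range (prD.fiberι z₁) := by rw [prD.range_fiberι]; exact h6
    have h8 : ζN ⤳ ζ₂ :=
      hd ▸ ((genericPoint_spec (prD.fiber z₁)).specializes (y := d) trivial).map (prD.fiberι z₁).continuous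
    rw [(hζ₂.antisymm h8).eq]
  have hopen1 : EGA43.IsOpenAt gN.base p' := by
    refine Groth.L07.UnivOpenAt.isOpenAt_of_lfp gN p' fun S hS t ht => ?_
    obtain ⟨w, hw, rfl⟩ := exists_lift_of_cover ν2 gN hζN hζNmax (fun p₁ p₂ h₁ h₂ => by
      refine eq_of_isPullback ψ hψe sq p₁ p₂ (h₁.trans h₂.symm) ?_
      show ((𝔸(N; 𝔸(E; Spec A)) ↘ 𝔸(E; Spec A)) ≫ (𝔸(E; Spec A) ↘ Spec A)) (ν2 p₁) = _
      rw [h₁]
      have e1 : gN ≫ (𝔸(N; 𝔸(E; Spec A)) ↘ 𝔸(E; Spec A)) ≫ (𝔸(E; Spec A) ↘ Spec A) =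
          (𝔸(N; (D₁ : Scheme.{u})) ↘ (D₁ : Scheme.{u})) ≫ D₁.ι ≫ f₁ := by
        rw [← Category.assoc, AffineSpace.map_over, Category.assoc, hg₁2]
      show (gN ≫ (𝔸(N; 𝔸(E; Spec A)) ↘ 𝔸(E; Spec A)) ≫ (𝔸(E; Spec A) ↘ Spec A)) p' = _
      rw [e1]
      show f₁ (D₁.ι (prD p')) = _
      rw [hp'2]
      exact hx₁c) ht
    exact ⟨w, mem_of_mem_nhds (hw hS), rfl⟩
  haveI : IsOpenImmersion (AffineSpace.map N D₁.ι) :=
    MorphismProperty.of_isPullback (P := @IsOpenImmersion) (AffineSpace.isPullback_map (n := N) D₁.ι).flip inferInstance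
  have hfac : AffineSpace.map N D₁.ι ≫ AffineSpace.map N f₁ =
      gN ≫ AffineSpace.map N (𝔸(E; Spec A) ↘ Spec A) := by
    rw [← AffineSpace.map_comp, ← AffineSpace.map_comp, hg₁2]
  have hproj : EGA43.IsOpenAt (AffineSpace.map N (𝔸(E; Spec A) ↘ Spec A)).base (gN p') := fun S hS =>
    (isOpenMap_map_projection (n := N) E (Spec A)).image_mem_nhds hS
  have hopen : EGA43.IsOpenAt (AffineSpace.map N D₁.ι ≫ AffineSpace.map N f₁).base p' := by
    rw [hfac]
    exact Groth.L07.UnivOpenAt.isOpenAt_comp hopen1 hproj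
  subst hp'
  intro S hS
  have h3 : AffineSpace.map N D₁.ι ⁻¹' S ∈ nhds p' :=
    (AffineSpace.map N D₁.ι).continuous.continuousAt.preimage_mem_nhds hS
  refine Filter.mem_of_superset (hopen _ h3) ?_
  rintro _ ⟨w, hw, rfl⟩
  exact ⟨_, hw, rfl⟩

end Groth.L07.Chevalley
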