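import Groth.Agent.L07.OpenFibreDim
import Groth.Agent.L07.ChevalleyPoint

/-!
Auxiliary dimension facts for the equivalences of openness at a maximal point of a fibre.
-/

universe u

open CategoryTheory CategoryTheory.Limits AlgebraicGeometry TopologicalSpace Topology

namespace Groth.L07.OpenEquiv

open Groth.L22 Groth.L07.Equidim Groth.L07.EquidimQF Groth.L07.OpenFibreDim

set_option maxSynthPendingDepth 3
set_option linter.style.haveILetI false
set_option backward.isDefEq.respectTransparency.types false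
set_option backward.isDefEq.respectTransparency false

variable {X Y : Scheme.{u}}

/-- Near a maximal point of its fibre, the fibre lies in the closure of that point. -/
theorem exists_nhd_fibre (f : X ⟶ Y) [LocallyOfFiniteType f] (x : X)
    (hmax : ∀ x' : X, f x' = f x → x' ⤳ x → x' = x) :
    ∃ N : X.Opens, x ∈ N ∧ ∀ q ∈ N, f q = f x → x ⤳ q := by
  let y := f x
  haveI : LocallyOfFiniteType (f.fiberToSpecResidueField y) :=
    MorphismProperty.pullback_snd _ _ inferInstance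
  haveI : IsLocallyNoetherian (f.fiber y) :=
    LocallyOfFiniteType.isLocallyNoetherian (f.fiberToSpecResidueField y)
  obtain ⟨c, hc⟩ := exists_fiber_point f x
  have hcmax : ∀ c', c' ⤳ c → c' = c := fun c' hc' => by
    apply (f.fiberι y).isEmbedding.injective
    rw [hc]
    refine hmax _ (apply_fiberι f y c') ?_
    have h := hc'.map (f.fiberι y).continuous
    rwa [hc] at h
  obtain ⟨V, hcV, hV⟩ := exists_nhd_maximal (X := f.fiber y) c
  obtain ⟨O, hO, hOV⟩ := (f.fiberι y).isEmbedding.isInducing.isOpen_iff.mp V.2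
  refine ⟨⟨O, hO⟩, ?_, fun q hq hfq => ?_⟩
  · show x ∈ O
    rw [← hc, ← Set.mem_preimage, hOV]; exact hcV
  · obtain ⟨q', rfl⟩ : q ∈ Set.range (f.fiberι y) := by rw [f.range_fiberι]; exact hfq
    have hq' : q' ∈ V := by show q' ∈ V.carrier; rw [← hOV]; exact hq
    obtain ⟨p, hp, hpmax⟩ := exists_maximal_generization q'
    obtain rfl := hcmax p (hV p (hp.mem_open V.2 hq') hpmax)
    have h := hp.map (f.fiberι y).continuous
    rwa [hc] at h

/-- The local dimension of a set containing a neighbourhood of a maximal point in its fibre. -/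
theorem localDim_eq_fibreDimAt (f : X ⟶ Y) [LocallyOfFiniteType f] (x : X)
    (hmax : ∀ x' : X, f x' = f x → x' ⤳ x → x' = x) (Z : Set X) (hZ : closure {x} ⊆ Z) (hx : x ∈ Z ∩ f.base ⁻¹' {f.base x}) :
    FlatMor.localDim ↥(Z ∩ f.base ⁻¹' {f.base x}) ⟨x, hx⟩ = FlatMor.fibreDimAt f x := by
  have key : ∀ U : X.Opens, topologicalKrullDim
      ↥((Subtype.val ⁻¹' (U : Set X)) : Set ↥(Z ∩ f.base ⁻¹' {f.base x})) =
      topologicalKrullDim ↥((U : Set X) ∩ (Z ∩ f.base ⁻¹' {f.base x})) := fun U =>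
    (SchemeDim.topologicalKrullDim_eq_of_isEmbedding (IsEmbedding.subtypeVal.comp IsEmbedding.subtypeVal)
      (by rw [Set.range_comp, Subtype.range_coe, Subtype.image_preimage_coe, Set.inter_comm])).symm
  obtain ⟨N, hxN, hN⟩ := exists_nhd_fibre f x hmax
  apply le_antisymm
  · obtain ⟨U, hxU, hU⟩ := (Groth.L07.FibreDim.fibreDimAt_le_iff f x _).mp le_rfl
    refine (iInf_le _ (⟨⟨_, U.2.preimage continuous_subtype_val⟩, hxU⟩ :
      {V : Opens ↥(Z ∩ f.base ⁻¹' {f.base x}) // ⟨x, hx⟩ ∈ V})).trans ?_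
    refine (key U).le.trans ((SchemeDim.topologicalKrullDim_mono ?_).trans hU)
    exact fun w hw => ⟨hw.1, hw.2.2⟩
  · refine le_iInf ?_
    rintro ⟨⟨V, hV⟩, hxV⟩
    obtain ⟨O, hO, rfl⟩ := isOpen_induced_iff.mp hV
    refine (Groth.L07.FibreDim.fibreDimAt_le_iff f x _).mpr ⟨⟨O, hO⟩ ⊓ N, ⟨hxV, hxN⟩, ?_⟩
    refine le_of_le_of_eq (SchemeDim.topologicalKrullDim_mono ?_) (key ⟨O, hO⟩).symm
    exact fun w hw => ⟨hw.1.1, hZ (specializes_iff_mem_closure.mp (hN w hw.1.2 hw.2)), hw.2⟩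

/-- An open piece of a fibre of dimension at least `d` has a point with closure of dimension at least `d`. -/
theorem exists_fdim_le (f : X ⟶ Y) [LocallyOfFiniteType f] (D : X.Opens) (y : Y) (d : ℕ)
    (h : (d : WithBot ℕ∞) ≤ topologicalKrullDim ↥((D : Set X) ∩ f.base ⁻¹' {y})) :
    ∃ a ∈ D, f a = y ∧ (d : WithBot ℕ∞) ≤ fdim f a := by
  by_contra hne
  push Not at hne
  let f' := D.ι ≫ f
  have hdim : topologicalKrullDim (f'.fiber y) = topologicalKrullDim ↥((D : Set X) ∩ f.base ⁻¹' {y}) := by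
    refine (SchemeDim.topologicalKrullDim_eq_of_isEmbedding (f := fun w => D.ι (f'.fiberι y w))
      (D.ι.isEmbedding.comp (f'.fiberι y).isEmbedding) ?_).symm
    ext w
    constructor
    · rintro ⟨v, rfl⟩
      exact ⟨(f'.fiberι y v).2, apply_fiberι f' y v⟩
    · rintro ⟨hw, hwy⟩
      obtain ⟨v, hv⟩ : (⟨w, hw⟩ : (D : Scheme.{u})) ∈ Set.range (f'.fiberι y) := by
        rw [f'.range_fiberι]; exact hwy
      exact ⟨v, congrArg D.ι hv⟩
  have hlt : ∀ v, topologicalKrullDim (closure ({v} : Set (f'.fiber y))) < (d : WithBot ℕ∞) := fun v => by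
    rw [← fdim_fiberι, fdim_comp D.ι f f' rfl]
    exact hne _ (f'.fiberι y v).2 (apply_fiberι f' y v)
  rw [← hdim] at h
  rcases d with _ | n
  · have : IsEmpty (f'.fiber y) := ⟨fun v => by
      obtain ⟨k, hk⟩ := exists_nat_fdim f' (f'.fiberι y v)
      have := hlt v
      rw [← fdim_fiberι, hk] at this
      exact absurd (WithBot.coe_lt_coe.mp this) (by simp)⟩
    have : topologicalKrullDim (f'.fiber y) ≤ ⊥ := dim_le_of_dim_closure_le fun a => (IsEmpty.false a).elim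
    exact absurd (h.trans this) (by simp)
  · have hle : topologicalKrullDim (f'.fiber y) ≤ (n : WithBot ℕ∞) := dim_le_of_dim_closure_le fun v => by
      obtain ⟨k, hk⟩ := exists_nat_fdim f' (f'.fiberι y v)
      have h' := hlt v
      rw [← fdim_fiberι, hk] at h' ⊢
      have : k < n + 1 := by exact_mod_cast h'
      exact_mod_cast Nat.lt_succ_iff.mp this
    have : n + 1 ≤ n := by exact_mod_cast h.trans hle
    omega

/-- Points of affine space have fibre closures of dimension at most the rank. -/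
theorem fdim_affineSpace_le {n : Type u} [Finite n] (p : ↥𝔸(n; Y)) :
    fdim (𝔸(n; Y) ↘ Y) p ≤ (Nat.card n : WithBot ℕ∞) := by
  rw [← dim_fiber_affineSpace n Y ((𝔸(n; Y) ↘ Y) p)]
  refine (SchemeDim.topologicalKrullDim_mono Set.inter_subset_right).trans (le_of_eq ?_)
  exact SchemeDim.topologicalKrullDim_eq_of_isEmbedding (f := (𝔸(n; Y) ↘ Y).fiberι _)
    (Scheme.Hom.isEmbedding _) (Scheme.Hom.range_fiberι _ _)

/-- Condition b) from the lower bound for the fibre dimensions. -/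
theorem exists_component [IsLocallyNoetherian Y] (f : X ⟶ Y) [LocallyOfFiniteType f] (x : X)
    (hmax : ∀ x' : X, f x' = f x → x' ⤳ x → x' = x)
    {η : Y} (hc : ∀ U : X.Opens, x ∈ U →
        FlatMor.fibreDimAt f x ≤ topologicalKrullDim ↥((U : Set X) ∩ f.base ⁻¹' {η}))
    (hηmax : ∀ η', η' ⤳ η → η' = η) :
    ∃ ζ : X, ζ ⤳ x ∧ (∀ ζ', ζ' ⤳ ζ → ζ' = ζ) ∧ f ζ = η ∧ fdim f ζ = FlatMor.fibreDimAt f x := by
  haveI : IsLocallyNoetherian X := LocallyOfFiniteType.isLocallyNoetherian f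
  obtain ⟨d, hd⟩ := exists_nat_fdim f x
  rw [← fdim_eq_fibreDimAt f x hmax, hd]
  obtain ⟨V, hxV, hV⟩ := exists_nhd_maximal x
  obtain ⟨U1, hxU1, hU1⟩ := (Groth.L07.FibreDim.fibreDimAt_le_iff f x (d : WithBot ℕ∞)).mp
    (by rw [← fdim_eq_fibreDimAt f x hmax, hd])
  obtain ⟨D, g, hxD, hDU, hg, hqf⟩ := exists_qf_affineSpace f (V ⊓ U1) x ⟨hxV, hxU1⟩ d
    ((SchemeDim.topologicalKrullDim_mono (Set.inter_subset_inter_left _ fun w hw => hw.2)).trans hU1)
  haveI := hqf
  obtain ⟨a, haD, hfa, had⟩ := exists_fdim_le f D η d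
    (le_of_eq_of_le (hd.symm.trans (fdim_eq_fibreDimAt f x hmax)) (hc D hxD))
  obtain ⟨ζ, hζa, hζmax⟩ := exists_maximal_generization a
  have hζD : ζ ∈ D := hζa.mem_open D.2 haD
  have hfζ : f ζ = η := hηmax _ (hfa ▸ hζa.map f.continuous)
  refine ⟨ζ, hV ζ (hDU hζD).1 hζmax, hζmax, hfζ, le_antisymm ?_ (had.trans ?_)⟩
  · let pr := 𝔸(ULift.{u} (Fin d); Y) ↘ Y
    haveI : LocallyOfFiniteType (g ≫ pr) := hg ▸ inferInstance
    haveI : LocallyOfFiniteType g := locallyOfFiniteType_of_comp g pr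
    have e1 := fdim_comp g pr (D.ι ≫ f) hg ⟨ζ, hζD⟩
    rw [fdim_comp D.ι f (D.ι ≫ f) rfl ⟨ζ, hζD⟩] at e1
    refine (le_of_eq e1).trans ((fdim_affineSpace_le _).trans (le_of_eq ?_))
    simp
  · refine SchemeDim.topologicalKrullDim_mono fun w hw => ⟨?_, ?_⟩
    · exact closure_minimal (Set.singleton_subset_iff.mpr (specializes_iff_mem_closure.mp hζa)) isClosed_closure hw.1
    · show f w = f ζ
      exact (show f w = f a from hw.2).trans (hfa.trans hfζ.symm)

/-- Universal openness from condition b). -/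
theorem isUnivOpenAt_of_component [IsLocallyNoetherian Y] (f : X ⟶ Y) [LocallyOfFiniteType f] (x : X)
    (hmax : ∀ x' : X, f x' = f x → x' ⤳ x → x' = x) (hy : CAlg2.IsGeomUnibranch (Y.presheaf.stalk (f x)))
    {ζ : X} (hζ : ζ ⤳ x) (hηmax : ∀ η', η' ⤳ f ζ → η' = f ζ) (hfd : fdim f ζ = FlatMor.fibreDimAt f x) :
    EGA43.IsUnivOpenAt f x := by
  obtain ⟨d, hd⟩ := exists_nat_fdim f x
  rw [← fdim_eq_fibreDimAt f x hmax, hd] at hfd
  obtain ⟨U1, hxU1, hU1⟩ := (Groth.L07.FibreDim.fibreDimAt_le_iff f x (d : WithBot ℕ∞)).mp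
    (by rw [← fdim_eq_fibreDimAt f x hmax, hd])
  obtain ⟨D, g, hxD, -, hg, hqf⟩ := exists_qf_affineSpace f U1 x hxU1 d hU1
  haveI := hqf
  let pr := 𝔸(ULift.{u} (Fin d); Y) ↘ Y
  haveI : LocallyOfFiniteType (g ≫ pr) := hg ▸ inferInstance
  haveI : LocallyOfFiniteType g := locallyOfFiniteType_of_comp g pr
  let ζD : (D : Scheme.{u}) := ⟨ζ, hζ.mem_open D.2 hxD⟩
  have hpr : pr (g ζD) = f ζ := by
    rw [← Scheme.Hom.comp_apply, hg]; rfl
  refine Groth.L07.Chevalley.isUnivOpenAt_of_dominant f x hy d D hxD g hg ζD hζ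
    ((affineSpace_maximal_iff _ (g ζD)).mpr ⟨fun η hη => ?_, genericPoint_of_fdim _ (g ζD) ?_⟩)
  · change η ⤳ pr (g ζD) at hη
    show η = pr (g ζD)
    rw [hpr] at hη ⊢
    exact hηmax η hη
  · rw [← fdim_comp g pr (D.ι ≫ f) hg ζD, fdim_comp D.ι f (D.ι ≫ f) rfl ζD]
    refine le_of_eq (Eq.trans ?_ hfd.symm)
    simp

end Groth.L07.OpenEquiv
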