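import Groth.Agent.L07.Equidim
import Groth.Agent.L07.FibreDimAlg

/-!
The criterion EGA IV 13.3.1: equidimensional iff locally quasi-finite dominant over affine space.
-/

universe u

open CategoryTheory CategoryTheory.Limits AlgebraicGeometry TopologicalSpace Topology

namespace Groth.L07.Equidim

open Groth.L22 Groth.L07.EquidimQF

set_option maxSynthPendingDepth 3
set_option linter.style.haveILetI false
set_option backward.isDefEq.respectTransparency.types false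
set_option backward.isDefEq.respectTransparency false

variable {X Y : Scheme.{u}}

theorem closure_image_closure' {α β : Type*} [TopologicalSpace α] [TopologicalSpace β] {φ : α → β}
    (hφ : Continuous φ) (a : α) : closure (φ '' closure {a}) = closure {φ a} := by
  rw [closure_image_closure hφ, Set.image_singleton]

/-- A quasi-finite morphism to affine space lifting a fibre normalisation. -/
theorem exists_qf_affineSpace (f : X ⟶ Y) [LocallyOfFiniteType f] (U : X.Opens) (x : X) (hx : x ∈ U)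
    (e : ℕ) (hdim : topologicalKrullDim ((U : Set X) ∩ f ⁻¹' {f x} : Set X) ≤ (e : WithBot ℕ∞)) :
    ∃ (D : X.Opens) (g : (D : Scheme.{u}) ⟶ 𝔸(ULift.{u} (Fin e); Y)),
      x ∈ D ∧ D ≤ U ∧ g ≫ (𝔸(ULift.{u} (Fin e); Y) ↘ Y) = D.ι ≫ f ∧ LocallyQuasiFinite g := by
  classical
  obtain ⟨V, hV, hyV, -⟩ := exists_isAffineOpen_mem_and_subset (TopologicalSpace.Opens.mem_top (f x))
  obtain ⟨W, hW, hxW, hWU⟩ := exists_isAffineOpen_mem_and_subset (show x ∈ U ⊓ f ⁻¹ᵁ V from ⟨hx, hyV⟩)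
  have hWV : W ≤ f ⁻¹ᵁ V := fun w hw => (hWU hw).2
  letI := (f.appLE V W hWV).hom.toAlgebra
  haveI : Algebra.FiniteType Γ(Y, V) Γ(X, W) := f.finiteType_appLE hV hW hWV
  let P := hW.primeIdealOf ⟨x, hxW⟩
  have hP : PrimeSpectrum.comap (algebraMap Γ(Y, V) Γ(X, W)) P = hV.primeIdealOf ⟨f x, hyV⟩ :=
    IsAffineOpen.comap_primeIdealOf_appLE V hV W hW hWV hxW
  have hdimF : ringKrullDim ((PrimeSpectrum.comap (algebraMap Γ(Y, V) Γ(X, W)) P).asIdeal.Fiber Γ(X, W)) ≤ e := by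
    rw [hP, ← Groth.L07.FibreDim.dim_affine_fibre f hV hW hWV hyV]
    exact (SchemeDim.topologicalKrullDim_mono
      (Set.inter_subset_inter_left _ (fun w hw => (hWU hw).1))).trans hdim
  obtain ⟨r, hr, s, hs, ψ, hψ⟩ := Groth.L07.FibreDim.exists_quasiFinite_mvPolynomial P e hdimF
  let ψ' : MvPolynomial (ULift.{u} (Fin e)) Γ(Y, V) →ₐ[Γ(Y, V)] MvPolynomial (Fin s) Γ(Y, V) :=
    MvPolynomial.aeval fun i => if h : (i.down : ℕ) < s then MvPolynomial.X ⟨i.down, h⟩ else 0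
  have hψ' : Function.Surjective ψ' := by
    rw [← AlgHom.range_eq_top, eq_top_iff, ← MvPolynomial.adjoin_range_X, Algebra.adjoin_le_iff]
    rintro _ ⟨j, rfl⟩
    exact ⟨MvPolynomial.X (ULift.up (Fin.castLE hs j)), by simp [ψ']⟩
  let D := X.basicOpen r
  have hDW : D ≤ W := X.basicOpen_le r
  haveI := hW.isLocalization_basicOpen r
  let ε : Localization.Away r →+* Γ(X, D) :=
    (IsLocalization.algEquiv (Submonoid.powers r) (Localization.Away r) Γ(X, D)).toRingEquiv.toRingHom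
  have hε : Function.Bijective ε :=
    (IsLocalization.algEquiv (Submonoid.powers r) (Localization.Away r) Γ(X, D)).bijective
  let χ : MvPolynomial (ULift.{u} (Fin e)) Γ(Y, V) →+* Γ(X, D) :=
    ε.comp (((algebraMap Γ(X, W) (Localization.Away r)).comp ψ.toRingHom).comp ψ'.toRingHom)
  have hχ : χ.QuasiFinite :=
    (RingHom.QuasiFinite.of_finite (RingHom.Finite.of_surjective ε hε.2)).comp
      (hψ.comp (RingHom.QuasiFinite.of_finite (RingHom.Finite.of_surjective ψ'.toRingHom hψ')))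
  have hDa : IsAffineOpen D := hW.basicOpen r
  let m := AffineSpace.map (ULift.{u} (Fin e)) hV.fromSpec
  haveI : IsOpenImmersion m :=
    MorphismProperty.of_isPullback (P := @IsOpenImmersion)
      (AffineSpace.isPullback_map (n := ULift.{u} (Fin e)) hV.fromSpec).flip inferInstance
  haveI : LocallyQuasiFinite (Spec.map (CommRingCat.ofHom χ)) :=
    (HasRingHomProperty.Spec_iff (P := @LocallyQuasiFinite)).mpr hχ
  haveI : LocallyQuasiFinite m := inferInstance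
  refine ⟨D, hDa.isoSpec.hom ≫ Spec.map (CommRingCat.ofHom χ) ≫
    (AffineSpace.SpecIso (ULift.{u} (Fin e)) Γ(Y, V)).inv ≫ m, ?_, fun w hw => (hWU (hDW hw)).1, ?_,
    inferInstance⟩
  · refine (congrArg (· ∈ X.basicOpen r) (hW.fromSpec_primeIdealOf ⟨x, hxW⟩)).mp ?_
    show hW.primeIdealOf ⟨x, hxW⟩ ∈ hW.fromSpec ⁻¹ᵁ X.basicOpen r
    rw [hW.fromSpec_preimage_basicOpen]
    exact hr
  · simp only [Category.assoc, m, AffineSpace.map_over, AffineSpace.SpecIso_inv_over_assoc]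
    rw [← Spec.map_comp_assoc]
    have hC : CommRingCat.ofHom MvPolynomial.C ≫ CommRingCat.ofHom χ = f.appLE V D (hDW.trans hWV) := by
      ext a
      show χ (MvPolynomial.C a) = (f.appLE V D (hDW.trans hWV)).hom a
      rw [← Scheme.Hom.appLE_map f hWV (homOfLE hDW).op]
      show ε (algebraMap _ (Localization.Away r) (ψ (ψ' (MvPolynomial.C a)))) = _
      rw [show ψ' (MvPolynomial.C a) = algebraMap _ _ a from ψ'.commutes a, AlgHom.commutes]
      exact (IsLocalization.algEquiv (Submonoid.powers r) (Localization.Away r) Γ(X, D)).commutes _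
    rw [hC, hV.SpecMap_appLE_fromSpec f hDa (hDW.trans hWV), hDa.isoSpec_hom_fromSpec_assoc]

/-- EGA IV 13.3.1, a) implies b). -/
theorem exists_qf_of_isEquidimAt (f : X ⟶ Y) [LocallyOfFiniteType f] (x : X) (h : EGA43.IsEquidimAt f x) :
    ∃ (e : ℕ) (D : X.Opens) (g : (D : Scheme.{u}) ⟶ 𝔸(ULift.{u} (Fin e); Y)),
      x ∈ D ∧ g ≫ (𝔸(ULift.{u} (Fin e); Y) ↘ Y) = D.ι ≫ f ∧ LocallyQuasiFinite g ∧
      ∀ ζ : (D : Scheme.{u}), (∀ q, q ⤳ ζ → q = ζ) → (∀ q, q ⤳ g ζ → q = g ζ) ∧ f (D.ι ζ) ⤳ f x := by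
  obtain ⟨e, U, hxU, hU1, hU2⟩ := h
  set fU := U.ι ≫ f with hfU
  have hdim : topologicalKrullDim ((U : Set X) ∩ f ⁻¹' {f x} : Set X) ≤ (e : WithBot ℕ∞) := by
    let x' : (U : Scheme.{u}) := ⟨x, hxU⟩
    have hF : topologicalKrullDim (fU.fiber (fU x')) ≤ (e : WithBot ℕ∞) := by
      refine dim_le_of_dim_closure_le fun a => ?_
      obtain ⟨C, hC, hsub⟩ := exists_mem_irreducibleComponents_subset_of_isIrreducible _
        (isIrreducible_singleton (x := a)).closure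
      exact (SchemeDim.topologicalKrullDim_mono hsub).trans (hU2 x' C hC).le
    refine le_of_eq_of_le ?_ hF
    refine SchemeDim.topologicalKrullDim_eq_of_isEmbedding
      (f := U.ι ∘ fU.fiberι (fU x')) (U.ι.isEmbedding.comp (Scheme.Hom.isEmbedding _)) ?_
    rw [Set.range_comp, Scheme.Hom.range_fiberι]
    ext w
    constructor
    · rintro ⟨v, hv, rfl⟩
      exact ⟨v.2, hv⟩
    · rintro ⟨hwU, hwy⟩
      exact ⟨⟨w, hwU⟩, hwy, rfl⟩
  obtain ⟨D, g, hxD, hDU, hg, hqf⟩ := exists_qf_affineSpace f U x hxU e hdim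
  refine ⟨e, D, g, hxD, hg, hqf, fun ζ hζ => ?_⟩
  haveI : LocallyOfFiniteType (g ≫ (𝔸(ULift.{u} (Fin e); Y) ↘ Y)) := hg ▸ inferInstance
  haveI : LocallyOfFiniteType g := locallyOfFiniteType_of_comp g (𝔸(ULift.{u} (Fin e); Y) ↘ Y)
  let j := X.homOfLE hDU
  have hjf : j ≫ fU = D.ι ≫ f := by rw [hfU, Scheme.homOfLE_ι_assoc]
  have hζU := (maximal_openImmersion_iff j ζ).mp hζ
  obtain ⟨W, hW, hyW, hWc⟩ := hU1 _ ((closure_singleton_mem_irreducibleComponents_iff (j ζ)).mpr hζU)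
  rw [closure_image_closure' fU.continuous] at hWc
  have hjζ : fU (j ζ) = f (D.ι ζ) := by rw [← Scheme.Hom.comp_apply, hjf, Scheme.Hom.comp_apply]
  have hηmax : ∀ q, q ⤳ f (D.ι ζ) → q = f (D.ι ζ) := by
    rw [← hjζ, ← closure_singleton_mem_irreducibleComponents_iff]
    exact hWc ▸ hW
  have hfdim : fdim (D.ι ≫ f) ζ = (e : WithBot ℕ∞) := by
    rw [fdim_comp j fU (D.ι ≫ f) hjf ζ]
    obtain ⟨c, hc⟩ := exists_fiber_point fU (j ζ)
    rw [← hc, fdim_fiberι]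
    refine hU2 (j ζ) _ ((closure_singleton_mem_irreducibleComponents_iff c).mpr fun q hq => ?_)
    apply (fU.fiberι _).isEmbedding.injective
    rw [hc]
    refine hζU _ ?_
    have h' := hq.map (fU.fiberι _).continuous
    rwa [hc] at h'
  rw [fdim_comp g _ _ hg ζ] at hfdim
  have hgen := genericPoint_of_fdim (ULift.{u} (Fin e)) (g ζ) (by rw [hfdim]; simp)
  have hpr : (𝔸(ULift.{u} (Fin e); Y) ↘ Y) (g ζ) = f (D.ι ζ) := by
    rw [← Scheme.Hom.comp_apply, hg, Scheme.Hom.comp_apply]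
  refine ⟨(affineSpace_maximal_iff _ (g ζ)).mpr ⟨?_, hgen⟩, ?_⟩
  · rw [hpr]; exact hηmax
  · rw [← hjζ, specializes_iff_mem_closure, hWc]
    exact hyW

/-- EGA IV 13.3.1, b) implies a). -/
theorem isEquidimAt_of_qf [IsLocallyNoetherian Y] (f : X ⟶ Y) [LocallyOfFiniteType f] (x : X) (e : ℕ)
    (U : X.Opens) (g : (U : Scheme.{u}) ⟶ 𝔸(ULift.{u} (Fin e); Y)) (hx : x ∈ U)
    (hg : g ≫ (𝔸(ULift.{u} (Fin e); Y) ↘ Y) = U.ι ≫ f) [LocallyQuasiFinite g]
    (hmax : ∀ ζ : (U : Scheme.{u}), (∀ q, q ⤳ ζ → q = ζ) → ∀ q, q ⤳ g ζ → q = g ζ) :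
    EGA43.IsEquidimAt f x := by
  haveI : IsLocallyNoetherian X := LocallyOfFiniteType.isLocallyNoetherian f
  haveI : LocallyOfFiniteType (g ≫ (𝔸(ULift.{u} (Fin e); Y) ↘ Y)) := hg ▸ inferInstance
  haveI : LocallyOfFiniteType g := locallyOfFiniteType_of_comp g (𝔸(ULift.{u} (Fin e); Y) ↘ Y)
  obtain ⟨V, hxV, hV⟩ := exists_nhd_maximal x
  let j := X.homOfLE (inf_le_left : U ⊓ V ≤ U)
  have hg' : (j ≫ g) ≫ (𝔸(ULift.{u} (Fin e); Y) ↘ Y) = (U ⊓ V).ι ≫ f := by
    rw [Category.assoc, hg, Scheme.homOfLE_ι_assoc]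
  have hmax' : ∀ ζ, (∀ q, q ⤳ ζ → q = ζ) → ∀ q, q ⤳ (j ≫ g) ζ → q = (j ≫ g) ζ := fun ζ hζ => by
    simp only [Scheme.Hom.comp_apply]
    exact hmax _ ((maximal_openImmersion_iff j ζ).mp hζ)
  refine ⟨e, U ⊓ V, ⟨hx, hxV⟩, fun (Z : Set ((U ⊓ V : X.Opens) : Scheme.{u})) hZ => ?_, fun x' C hC => ?_⟩
  · obtain ⟨ζ, hζ⟩ := QuasiSober.sober (α := ((U ⊓ V : X.Opens) : Scheme.{u})) hZ.1 (isClosed_of_mem_irreducibleComponents Z hZ)
    have hζmax := (closure_singleton_mem_irreducibleComponents_iff ζ).mp (hζ.def.symm ▸ hZ)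
    refine ⟨closure {((U ⊓ V).ι ≫ f) ζ}, ?_, ?_, ?_⟩
    · rw [closure_singleton_mem_irreducibleComponents_iff, ← hg', Scheme.Hom.comp_apply]
      exact ((affineSpace_maximal_iff _ _).mp (hmax' ζ hζmax)).1
    · rw [← specializes_iff_mem_closure, Scheme.Hom.comp_apply]
      exact (hV _ ζ.2.2 ((maximal_openImmersion_iff (U ⊓ V).ι ζ).mp hζmax)).map f.continuous
    · rw [← hζ.def, closure_image_closure' ((U ⊓ V).ι ≫ f).continuous]
  · have := fibre_components_dim (ULift.{u} (Fin e)) (j ≫ g) _ hg' hmax' _ hC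
    simpa using this

end Groth.L07.Equidim
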