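import Groth.Agent.L07.UnivOpenPointwise
import Groth.Agent.L07.CIScheme
import Mathlib.RingTheory.KrullDimension.Regular
import Mathlib.RingTheory.Ideal.KrullsHeightTheorem

/-! Openness at a point, lifting of generizations and dimension of local rings. -/

set_option autoImplicit false
set_option linter.style.haveILetI false
set_option maxSynthPendingDepth 3

universe u

open CategoryTheory CategoryTheory.Limits AlgebraicGeometry Topology

namespace Groth.L07.OpenDim

open EGA43 (IsOpenAt IsUnivOpenAt)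

/-- Near a point, the points of a closed set have generizations in it passing through the point. -/
theorem forall_generization_closed {P : Scheme.{u}} [IsLocallyNoetherian P] {C : Set P} (hC : IsClosed C)
    (x : P) (hx : x ∈ C) :
    ∃ O : Set P, O ∈ nhds x ∧ ∀ w ∈ O ∩ C, ∃ ζ ∈ C, ζ ⤳ w ∧ ζ ⤳ x := by
  let I := Scheme.IdealSheafData.vanishingIdeal (⟨C, hC⟩ : TopologicalSpace.Closeds P)
  let i := I.subschemeι
  have hr : Set.range i.base = C := by
    rw [Scheme.IdealSheafData.range_subschemeι]; simp [I]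
  haveI : IsLocallyNoetherian I.subscheme := LocallyOfFiniteType.isLocallyNoetherian i
  obtain ⟨x₀, rfl⟩ : x ∈ Set.range i.base := hr ▸ hx
  obtain ⟨O, hO, hgen⟩ := Groth.L07.UnivOpenPointwise.forall_generization_component x₀
  rw [i.isEmbedding.toIsInducing.nhds_eq_comap, Filter.mem_comap] at hO
  obtain ⟨O', hO', hsub⟩ := hO
  refine ⟨O', hO', fun w hw => ?_⟩
  obtain ⟨w₀, rfl⟩ : w ∈ Set.range i.base := hr ▸ hw.2
  obtain ⟨ζ, h1, h2⟩ := hgen w₀ (hsub hw.1)
  exact ⟨i.base ζ, hr ▸ ⟨ζ, rfl⟩, h1.map i.continuous, h2.map i.continuous⟩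

/-- Openness at a point of a locally Noetherian scheme lifts generizations. -/
theorem exists_lift_of_isOpenAt {X Y : Scheme.{u}} [IsLocallyNoetherian X] (f : X ⟶ Y) {x : X}
    (h : IsOpenAt f.base x) {y : Y} (hy : y ⤳ f.base x) : ∃ w : X, w ⤳ x ∧ f.base w = y := by
  obtain ⟨O, hO, hgen⟩ := forall_generization_closed
    ((isClosed_closure (s := ({y} : Set Y))).preimage f.continuous) x hy.mem_closure
  obtain ⟨w, hw, hwy⟩ := mem_of_mem_nhds (hy (h O hO))
  obtain ⟨ζ, hζC, hζw, hζx⟩ := hgen w ⟨hw, show f.base w ∈ closure {y} from hwy ▸ subset_closure rfl⟩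
  have h2 := hζw.map f.continuous
  rw [hwy] at h2
  exact ⟨ζ, hζx, (h2.antisymm (specializes_iff_mem_closure.mpr hζC)).eq⟩

theorem ringKrullDim_quotient_succ_le {R : Type u} [CommRing R] {r : R}
    (hn : ∀ p ∈ minimalPrimes R, r ∉ p) (hne : Ideal.span {r} ≠ ⊤) :
    ringKrullDim (R ⧸ Ideal.span {r}) + 1 ≤ ringKrullDim R := by
  have : Nonempty (PrimeSpectrum.zeroLocus (R := R) (Ideal.span {r})) := by
    rwa [Set.nonempty_coe_sort, Set.nonempty_iff_ne_empty, ne_eq, PrimeSpectrum.zeroLocus_empty_iff_eq_top]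
  have := Ideal.Quotient.nontrivial_iff.mpr hne
  have := (Ideal.Quotient.mk (Ideal.span {r})).domain_nontrivial
  rw [ringKrullDim_quotient, Order.krullDim_eq_iSup_length, ringKrullDim,
    Order.krullDim_eq_iSup_length, ← WithBot.coe_one, ← WithBot.coe_add,
    ENat.iSup_add, WithBot.coe_le_coe, iSup_le_iff]
  intro l
  obtain ⟨p, hp, hp'⟩ := Ideal.exists_minimalPrimes_le (J := l.head.1.asIdeal) bot_le
  let p' : PrimeSpectrum R := ⟨p, hp.1.1⟩
  have hp' : p' < l.head := lt_of_le_of_ne hp' fun h ↦ hn p hp (by simpa [p', ← h] using l.head.2)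
  refine le_trans ?_ (le_iSup _ ((l.map Subtype.val (fun _ _ ↦ id)).cons p' hp'))
  set_option linter.unreachableTactic false in
  simp [RelSeries.cons, RelSeries.append] <;> exact le_rfl

/-- A local homomorphism with closed fibre a point and surjective on spectra does not lower dimension. -/
theorem le_dim_of_comap_surjective : ∀ (n : ℕ) (A C : Type u) [CommRing A] [CommRing C] [IsLocalRing A]
    [IsLocalRing C] [IsNoetherianRing A] [IsNoetherianRing C] (φ : A →+* C),
    Function.Surjective (PrimeSpectrum.comap φ) →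
    (∀ P : Ideal C, P.IsPrime → P.comap φ = IsLocalRing.maximalIdeal A → P = IsLocalRing.maximalIdeal C) →
    (n : WithBot ℕ∞) ≤ ringKrullDim A → (n : WithBot ℕ∞) ≤ ringKrullDim C := by
  intro n
  induction n with
  | zero => intro A C _ _ _ _ _ _ φ _ _ _; simpa using ringKrullDim_nonneg_of_nontrivial
  | succ n ih =>
    intro A C _ _ _ _ _ _ φ hsurj hprim hn
    classical
    have hA : ¬ (∀ p : Ideal A, p.IsPrime → p = IsLocalRing.maximalIdeal A) := by
      intro hall
      haveI : Ring.KrullDimLE 0 A := Ring.KrullDimLE.mk₀ fun p hp => hall p hp ▸ inferInstance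
      have h0 : ringKrullDim A ≤ ((0 : ℕ) : WithBot ℕ∞) := Order.KrullDimLE.krullDim_le
      have h1 := Nat.cast_le.mp (hn.trans h0)
      omega
    push Not at hA
    obtain ⟨p₀, hp₀, hp₀m⟩ := hA
    let F := (minimalPrimes.finite_of_isNoetherianRing C).toFinset
    have hnot : ¬ ((IsLocalRing.maximalIdeal A : Set A) ⊆ ⋃ Q ∈ (↑F : Set (Ideal C)), (Q.comap φ : Set A)) := by
      rw [Ideal.subset_union_prime (f := fun Q : Ideal C => Q.comap φ) ⊥ ⊥ fun Q hQ _ _ => by
        haveI : Q.IsPrime := ((Set.Finite.mem_toFinset _).mp hQ).1.1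
        infer_instance]
      rintro ⟨Q, hQ, hle⟩
      rw [Set.Finite.mem_toFinset] at hQ
      haveI : Q.IsPrime := hQ.1.1
      have hQm : Q = IsLocalRing.maximalIdeal C := hprim Q inferInstance
        ((IsLocalRing.le_maximalIdeal (Ideal.IsPrime.ne_top inferInstance)).antisymm hle)
      obtain ⟨P, hP⟩ := hsurj ⟨p₀, hp₀⟩
      have hPm : P.asIdeal = IsLocalRing.maximalIdeal C :=
        (IsLocalRing.le_maximalIdeal P.isPrime.ne_top).antisymm
          (hQm ▸ hQ.2 ⟨P.isPrime, bot_le⟩ (hQm ▸ IsLocalRing.le_maximalIdeal P.isPrime.ne_top))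
      refine hp₀m ?_
      have e : P.asIdeal.comap φ = p₀ := congrArg PrimeSpectrum.asIdeal hP
      rw [← e, hPm, ← hQm]
      exact (IsLocalRing.le_maximalIdeal (Ideal.IsPrime.ne_top inferInstance)).antisymm hle
    obtain ⟨t, htm, ht⟩ := Set.not_subset.mp hnot
    simp only [Set.mem_iUnion, not_exists] at ht
    have hn' : ∀ Q ∈ minimalPrimes C, φ t ∉ Q := fun Q hQ hm =>
      ht Q (Finset.mem_coe.mpr ((Set.Finite.mem_toFinset _).mpr hQ)) hm
    obtain ⟨P₀, hP₀⟩ := hsurj ⟨IsLocalRing.maximalIdeal A, inferInstance⟩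
    have hP₀m := hprim P₀.asIdeal P₀.isPrime (congrArg PrimeSpectrum.asIdeal hP₀)
    have htC : φ t ∈ IsLocalRing.maximalIdeal C := hP₀m ▸ (show φ t ∈ P₀.asIdeal from
      (SetLike.ext_iff.mp (congrArg PrimeSpectrum.asIdeal hP₀) t).mpr htm)
    have hneA : Ideal.span {t} ≠ (⊤ : Ideal A) := fun e => (IsLocalRing.maximalIdeal.isMaximal A).ne_top
      (top_le_iff.mp (e ▸ Ideal.span_le.mpr (by simpa using htm)))
    have hneC : Ideal.span {φ t} ≠ (⊤ : Ideal C) := fun e => (IsLocalRing.maximalIdeal.isMaximal C).ne_top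
      (top_le_iff.mp (e ▸ Ideal.span_le.mpr (by simpa using htC)))
    haveI := Ideal.Quotient.nontrivial_iff.mpr hneA
    haveI := Ideal.Quotient.nontrivial_iff.mpr hneC
    haveI : IsLocalRing (A ⧸ Ideal.span {t}) := IsLocalRing.of_surjective' _ Ideal.Quotient.mk_surjective
    haveI : IsLocalRing (C ⧸ Ideal.span {φ t}) := IsLocalRing.of_surjective' _ Ideal.Quotient.mk_surjective
    let ψ : A ⧸ Ideal.span {t} →+* C ⧸ Ideal.span {φ t} :=
      Ideal.quotientMap _ φ (Ideal.span_le.mpr (by simp))
    have hψ : ∀ P : Ideal (C ⧸ Ideal.span {φ t}), (P.comap ψ).comap (Ideal.Quotient.mk (Ideal.span {t})) =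
        (P.comap (Ideal.Quotient.mk (Ideal.span {φ t}))).comap φ := fun P => rfl
    have h1 : (n : WithBot ℕ∞) ≤ ringKrullDim (C ⧸ Ideal.span {φ t}) := by
      refine ih _ _ ψ ?_ ?_ ?_
      · intro p
        obtain ⟨P, hP⟩ := hsurj ⟨p.asIdeal.comap (Ideal.Quotient.mk _), inferInstance⟩
        have e : P.asIdeal.comap φ = p.asIdeal.comap (Ideal.Quotient.mk _) := congrArg PrimeSpectrum.asIdeal hP
        have hmem : P ∈ Set.range (PrimeSpectrum.comap (Ideal.Quotient.mk (Ideal.span {φ t}))) := by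
          rw [range_comap_of_surjective _ _ Ideal.Quotient.mk_surjective, Ideal.mk_ker,
            PrimeSpectrum.mem_zeroLocus]
          refine Ideal.span_le.mpr (Set.singleton_subset_iff.mpr ?_)
          show t ∈ P.asIdeal.comap φ
          rw [e, Ideal.mem_comap, Ideal.Quotient.eq_zero_iff_mem.mpr (Ideal.mem_span_singleton_self t)]
          exact Ideal.zero_mem _
        obtain ⟨P', rfl⟩ := hmem
        refine ⟨P', PrimeSpectrum.ext (Ideal.comap_injective_of_surjective _ Ideal.Quotient.mk_surjective ?_)⟩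
        exact (hψ _).trans e
      · intro P hP hPm
        refine Ideal.comap_injective_of_surjective _ (Ideal.Quotient.mk_surjective (I := Ideal.span {φ t})) ?_
        haveI := hP
        have hmax : ∀ {R : Type u} [CommRing R] [IsLocalRing R] (J : Ideal R) [IsLocalRing (R ⧸ J)],
            (IsLocalRing.maximalIdeal (R ⧸ J)).comap (Ideal.Quotient.mk J) = IsLocalRing.maximalIdeal R :=
          fun J => IsLocalRing.eq_maximalIdeal
            (Ideal.comap_isMaximal_of_surjective _ Ideal.Quotient.mk_surjective)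
        rw [hmax]
        refine hprim _ inferInstance ?_
        rw [← hψ, hPm, hmax]
      · have h2 := ringKrullDim_le_ringKrullDim_quotient_add_card (R := A) (s := {t})
          (by rw [IsLocalRing.ringJacobson_eq_maximalIdeal]; simpa using htm)
        rw [Finset.coe_singleton, Finset.card_singleton, Nat.cast_one] at h2
        have h3 := hn.trans h2
        rw [Nat.cast_add, Nat.cast_one] at h3
        revert h3
        generalize ringKrullDim (A ⧸ Ideal.span {t}) = x
        intro h3
        induction x with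
        | bot => simp at h3
        | coe a => exact WithBot.coe_le_coe.mpr ((ENat.add_le_add_iff_right ENat.one_ne_top).mp (WithBot.coe_le_coe.mp h3))
    rw [Nat.cast_add, Nat.cast_one]
    exact le_trans (add_le_add h1 le_rfl) (ringKrullDim_quotient_succ_le hn' hneC)

/-- The dimension inequality of a local homomorphism. -/
theorem dim_le_add_fibre (A B : Type u) [CommRing A] [CommRing B] [IsLocalRing A] [IsLocalRing B]
    [IsNoetherianRing A] [IsNoetherianRing B] [Algebra A B] [IsLocalHom (algebraMap A B)] :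
    ringKrullDim B ≤ ringKrullDim A +
      ringKrullDim (B ⧸ (IsLocalRing.maximalIdeal A).map (algebraMap A B)) := by
  let m := IsLocalRing.maximalIdeal A
  let M := IsLocalRing.maximalIdeal B
  haveI : M.LiesOver m := ⟨(IsLocalRing.maximalIdeal_comap (algebraMap A B)).symm⟩
  have hne : m.map (algebraMap A B) ≠ ⊤ := fun e => (IsLocalRing.maximalIdeal.isMaximal B).ne_top
    (top_le_iff.mp (e ▸ Ideal.map_le_iff_le_comap.mpr (Ideal.LiesOver.over (p := m) (P := M)).le))
  haveI := Ideal.Quotient.nontrivial_iff.mpr hne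
  haveI : IsLocalRing (B ⧸ m.map (algebraMap A B)) := IsLocalRing.of_surjective' _ Ideal.Quotient.mk_surjective
  have h := Ideal.height_le_height_add_of_liesOver m M
  rw [← IsLocalRing.maximalIdeal_height_eq_ringKrullDim, ← IsLocalRing.maximalIdeal_height_eq_ringKrullDim,
    ← IsLocalRing.maximalIdeal_height_eq_ringKrullDim, ← WithBot.coe_add, WithBot.coe_le_coe]
  have e : M.map (Ideal.Quotient.mk (m.map (algebraMap A B))) = IsLocalRing.maximalIdeal _ :=
    IsLocalRing.eq_maximalIdeal (Ideal.IsMaximal.map_of_surjective_of_ker_le Ideal.Quotient.mk_surjective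
      (by rw [Ideal.mk_ker]; exact Ideal.map_le_iff_le_comap.mpr (Ideal.LiesOver.over (p := m) (P := M)).le))
  rwa [e] at h

end Groth.L07.OpenDim

namespace Groth.L07.OpenDim

open EGA43 (IsOpenAt IsUnivOpenAt)

/-- The local ring of the fibre as a quotient of the local ring. -/
theorem fibre_ringKrullDim {X Y : Scheme.{u}} (f : X ⟶ Y) (x : X) :
    ringKrullDim ((f.fiber (f.base x)).presheaf.stalk (f.asFiber x)) =
      ringKrullDim (X.presheaf.stalk x ⧸
        (IsLocalRing.maximalIdeal (Y.presheaf.stalk (f.base x))).map (f.stalkMap x).hom) := by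
  obtain ⟨e⟩ := Groth.L07.CIScheme.exists_fiberStalkEquiv f (f.base x) (f.asFiber x) x (f.fiberι_asFiber x)
  exact (ringKrullDim_eq_of_ringEquiv e).symm

theorem ringKrullDim_stalk_le {X Y : Scheme.{u}} [IsLocallyNoetherian Y] [IsLocallyNoetherian X]
    (f : X ⟶ Y) (x : X) :
    ringKrullDim (X.presheaf.stalk x) ≤
      ringKrullDim (Y.presheaf.stalk (f.base x)) + ringKrullDim ((f.fiber (f.base x)).presheaf.stalk (f.asFiber x)) := by
  rw [fibre_ringKrullDim]
  letI := (f.stalkMap x).hom.toAlgebra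
  haveI : IsLocalHom (algebraMap (Y.presheaf.stalk (f.base x)) (X.presheaf.stalk x)) :=
    inferInstanceAs (IsLocalHom (f.stalkMap x).hom)
  exact dim_le_add_fibre (Y.presheaf.stalk (f.base x)) (X.presheaf.stalk x)

/-- Openness at the maximal points of the fibre gives lifting of all primes below those. -/
theorem exists_prime_le_of_isOpenAt {X Y : Scheme.{u}} [IsLocallyNoetherian X] (f : X ⟶ Y) (x : X)
    (h : ∀ z : ↥(f.fiber (f.base x)), f.asFiber x ∈ closure {z} →
      (∀ z' : ↥(f.fiber (f.base x)), z ∈ closure {z'} → z' = z) →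
      IsOpenAt f.base ((f.fiberι (f.base x)).base z))
    (Q : Ideal (X.presheaf.stalk x))
    (hQ : Q ∈ ((IsLocalRing.maximalIdeal (Y.presheaf.stalk (f.base x))).map (f.stalkMap x).hom).minimalPrimes)
    (p : Ideal (Y.presheaf.stalk (f.base x))) [p.IsPrime] :
    ∃ P : Ideal (X.presheaf.stalk x), P.IsPrime ∧ P ≤ Q ∧ P.comap (f.stalkMap x).hom = p := by
  let jx := X.fromSpecStalk x
  let jy := Y.fromSpecStalk (f.base x)
  let φ := (f.stalkMap x).hom
  have key : ∀ a, f.base (jx.base a) = jy.base ((Spec.map (f.stalkMap x)).base a) := fun a => by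
    rw [← Scheme.Hom.comp_apply, ← Scheme.SpecMap_stalkMap_fromSpecStalk, Scheme.Hom.comp_apply]
  have hm : ∀ (P : Ideal (X.presheaf.stalk x)) [P.IsPrime],
      (IsLocalRing.maximalIdeal (Y.presheaf.stalk (f.base x))).map φ ≤ P →
      f.base (jx.base (⟨P, inferInstance⟩ : PrimeSpectrum (X.presheaf.stalk x))) = f.base x := by
    intro P _ hP
    refine (key _).trans ?_
    refine Eq.trans ?_ (Y.fromSpecStalk_closedPoint (x := f.base x))
    refine congrArg _ (PrimeSpectrum.ext ?_)
    exact ((IsLocalRing.maximalIdeal.isMaximal _).eq_of_le (Ideal.IsPrime.ne_top inferInstance)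
      (Ideal.map_le_iff_le_comap.mp hP)).symm
  haveI : Q.IsPrime := hQ.1.1
  set z₀ := jx.base (⟨Q, inferInstance⟩ : PrimeSpectrum (X.presheaf.stalk x)) with hz₀
  have hz₀x : z₀ ⤳ x := by
    have h1 : z₀ ∈ Set.range jx.base := ⟨_, rfl⟩
    rwa [Scheme.range_fromSpecStalk] at h1
  obtain ⟨z, hz⟩ : z₀ ∈ Set.range (f.fiberι (f.base x)).base := by
    rw [Scheme.Hom.range_fiberι]; exact hm Q hQ.1.2
  have hopen : IsOpenAt f.base z₀ := by
    rw [← hz]
    refine h z ?_ fun z' hz' => ?_
    · rw [← specializes_iff_mem_closure, ← (f.fiberι (f.base x)).isEmbedding.toIsInducing.specializes_iff, hz,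
        f.fiberι_asFiber]
      exact hz₀x
    · rw [← specializes_iff_mem_closure, ← (f.fiberι (f.base x)).isEmbedding.toIsInducing.specializes_iff,
        hz] at hz'
      obtain ⟨P, hP⟩ : (f.fiberι (f.base x)).base z' ∈ Set.range jx.base := by
        rw [Scheme.range_fromSpecStalk]; exact hz'.trans hz₀x
      have hPQ : (P : PrimeSpectrum (X.presheaf.stalk x)).asIdeal ≤ Q := by
        refine (PrimeSpectrum.le_iff_specializes (P : PrimeSpectrum (X.presheaf.stalk x)) ⟨Q, inferInstance⟩).mpr ?_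
        exact jx.isEmbedding.toIsInducing.specializes_iff.mp (hP ▸ hz')
      have hPm : (IsLocalRing.maximalIdeal (Y.presheaf.stalk (f.base x))).map φ ≤
          (P : PrimeSpectrum (X.presheaf.stalk x)).asIdeal := by
        rw [Ideal.map_le_iff_le_comap]
        have h1 : f.base (jx.base P) = f.base x := by
          rw [hP]
          exact (Scheme.Hom.range_fiberι f (f.base x)).le ⟨z', rfl⟩
        have h2 := (key P).symm.trans (h1.trans (Y.fromSpecStalk_closedPoint (x := f.base x)).symm)
        exact (congrArg PrimeSpectrum.asIdeal (jy.isEmbedding.injective h2)).ge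
      apply (f.fiberι (f.base x)).isEmbedding.injective
      rw [hz, ← hP, hz₀]
      exact congrArg _ (PrimeSpectrum.ext (hPQ.antisymm (hQ.2 ⟨P.2, hPm⟩ hPQ)))
  obtain ⟨w, hw, hfw⟩ := exists_lift_of_isOpenAt f hopen (y := jy.base (⟨p, inferInstance⟩ : PrimeSpectrum _))
    (by
      rw [hm Q hQ.1.2]
      have h1 : jy.base (⟨p, inferInstance⟩ : PrimeSpectrum (Y.presheaf.stalk (f.base x))) ∈ Set.range jy.base :=
        ⟨_, rfl⟩
      rwa [Scheme.range_fromSpecStalk] at h1)
  obtain ⟨P, rfl⟩ : w ∈ Set.range jx.base := by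
    rw [Scheme.range_fromSpecStalk]; exact hw.trans hz₀x
  refine ⟨(P : PrimeSpectrum (X.presheaf.stalk x)).asIdeal, P.2, ?_, ?_⟩
  · exact (PrimeSpectrum.le_iff_specializes (P : PrimeSpectrum (X.presheaf.stalk x)) ⟨Q, inferInstance⟩).mpr
      (jx.isEmbedding.toIsInducing.specializes_iff.mp hw)
  · exact congrArg PrimeSpectrum.asIdeal (jy.isEmbedding.injective ((key P).symm.trans hfw))

theorem ringKrullDim_add_fibre_le {X Y : Scheme.{u}} [IsLocallyNoetherian X] [IsLocallyNoetherian Y]
    (f : X ⟶ Y) (x : X)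
    (h : ∀ z : ↥(f.fiber (f.base x)), f.asFiber x ∈ closure {z} →
      (∀ z' : ↥(f.fiber (f.base x)), z ∈ closure {z'} → z' = z) →
      IsOpenAt f.base ((f.fiberι (f.base x)).base z)) :
    ringKrullDim (Y.presheaf.stalk (f.base x)) +
        ringKrullDim ((f.fiber (f.base x)).presheaf.stalk (f.asFiber x)) ≤
      ringKrullDim (X.presheaf.stalk x) := by
  rw [fibre_ringKrullDim]
  set A := Y.presheaf.stalk (f.base x)
  set B := X.presheaf.stalk x
  set φ := (f.stalkMap x).hom
  set I := (IsLocalRing.maximalIdeal A).map φ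
  have hA : ∀ Q ∈ I.minimalPrimes, ringKrullDim A ≤ (Q.height : WithBot ℕ∞) := by
    intro Q hQ
    haveI : Q.IsPrime := hQ.1.1
    let C := Localization.AtPrime Q
    rw [← IsLocalization.AtPrime.ringKrullDim_eq_height Q C]
    haveI : IsNoetherianRing C := IsLocalization.isNoetherianRing Q.primeCompl C inferInstance
    have hprim : ∀ P : Ideal C, P.IsPrime → P.comap ((algebraMap B C).comp φ) = IsLocalRing.maximalIdeal A →
        P = IsLocalRing.maximalIdeal C := by
      intro P hP hPm
      haveI := hP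
      have h1 : I ≤ P.comap (algebraMap B C) := Ideal.map_le_iff_le_comap.mpr (by rw [Ideal.comap_comap, hPm])
      have h2 : P.comap (algebraMap B C) ≤ Q := by
        exact (Ideal.comap_mono (IsLocalRing.le_maximalIdeal hP.ne_top)).trans
          (IsLocalization.AtPrime.under_maximalIdeal C Q).le
      have h3 : P.comap (algebraMap B C) = Q := h2.antisymm (hQ.2 ⟨inferInstance, h1⟩ h2)
      exact (IsLocalization.map_under Q.primeCompl C P).symm.trans
        ((congrArg (Ideal.map (algebraMap B C)) h3).trans Localization.AtPrime.map_eq_maximalIdeal)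
    have hsurj : Function.Surjective (PrimeSpectrum.comap ((algebraMap B C).comp φ)) := by
      intro p
      obtain ⟨P, hP, hPQ, hPp⟩ := exists_prime_le_of_isOpenAt f x h Q hQ p.asIdeal
      haveI := hP
      have hd : Disjoint (Q.primeCompl : Set B) (P : Set B) := Set.disjoint_left.mpr fun b hb hb' => hb (hPQ hb')
      refine ⟨⟨P.map (algebraMap B C), IsLocalization.isPrime_of_isPrime_disjoint Q.primeCompl C P hP hd⟩,
        PrimeSpectrum.ext ?_⟩
      show (P.map (algebraMap B C)).comap ((algebraMap B C).comp φ) = p.asIdeal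
      rw [← Ideal.comap_comap]
      exact (congrArg (Ideal.comap φ) (IsLocalization.under_map_of_isPrime_disjoint Q.primeCompl C hP hd)).trans hPp
    obtain ⟨n, hn⟩ := ENat.ne_top_iff_exists.mp
      (Ideal.height_ne_top (I := IsLocalRing.maximalIdeal A) (IsLocalRing.maximalIdeal.isMaximal A).ne_top)
    have hn' : ringKrullDim A = (n : WithBot ℕ∞) := by
      rw [← IsLocalRing.maximalIdeal_height_eq_ringKrullDim, ← hn]; rfl
    exact hn' ▸ le_dim_of_comap_surjective n A C _ hsurj hprim hn'.ge
  haveI hne : Nontrivial (B ⧸ I) := Ideal.Quotient.nontrivial_iff.mpr fun e =>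
    (IsLocalRing.maximalIdeal.isMaximal B).ne_top (top_le_iff.mp (e ▸ Ideal.map_le_iff_le_comap.mpr
      (IsLocalRing.maximalIdeal_comap φ).ge))
  haveI : Nonempty (PrimeSpectrum.zeroLocus (R := B) I) :=
    ⟨⟨IsLocalRing.closedPoint B, Ideal.map_le_iff_le_comap.mpr (IsLocalRing.maximalIdeal_comap φ).ge⟩⟩
  rw [ringKrullDim_quotient, Order.krullDim_eq_iSup_length, ← IsLocalRing.maximalIdeal_height_eq_ringKrullDim,
    ringKrullDim, Order.krullDim_eq_iSup_height_add_coheight_of_nonempty, ← WithBot.coe_add, WithBot.coe_le_coe,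
    ENat.add_iSup]
  refine iSup_le fun l => ?_
  obtain ⟨Q, hQ, hQl⟩ := Ideal.exists_minimalPrimes_le (J := l.head.1.asIdeal) (I := I) l.head.2
  have h1 := hA Q hQ
  rw [← IsLocalRing.maximalIdeal_height_eq_ringKrullDim, WithBot.coe_le_coe] at h1
  refine le_trans ?_ (le_iSup _ (⟨Q, hQ.1.1⟩ : PrimeSpectrum B))
  refine add_le_add (h1.trans (le_of_eq ?_)) (Order.length_le_coheight (p := l.map Subtype.val (fun _ _ h => h)) ?_)
  · exact PrimeSpectrum.height_eq_orderHeight ⟨Q, hQ.1.1⟩
  · exact hQl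

end Groth.L07.OpenDim
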