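import Groth.Agent.L07.OpenFibreDimAlg
import Groth.Agent.L07.EquidimCrit
import Groth.Agent.L07.OpenDim

/-!
Openness at a maximal point of a fibre bounds the nearby fibre dimensions below.
-/

universe u

open CategoryTheory CategoryTheory.Limits AlgebraicGeometry TopologicalSpace Topology

namespace Groth.L07.OpenFibreDim

open Groth.L22 Groth.L07.Equidim Groth.L07.EquidimQF

set_option maxSynthPendingDepth 3
set_option linter.style.haveILetI false
set_option backward.isDefEq.respectTransparency.types false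
set_option backward.isDefEq.respectTransparency false

theorem exists_nat_fdim {X Y : Scheme.{u}} (f : X ⟶ Y) [LocallyOfFiniteType f] (u : X) :
    ∃ d : ℕ, fdim f u = (d : WithBot ℕ∞) := by
  let k : Type u := Y.residueField (f u)
  letI : (f.fiber (f u)).Over (Spec (CommRingCat.of k)) := ⟨f.fiberToSpecResidueField (f u)⟩
  haveI : LocallyOfFiniteType (f.fiber (f u) ↘ Spec (CommRingCat.of k)) :=
    MorphismProperty.pullback_snd _ _ inferInstance
  letI : ∀ b, Algebra k ((f.fiber (f u)).residueField b) := fun b => Curv2.resAlgebra k _ b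
  obtain ⟨n, hn, -⟩ := SchemeDim.exists_dim_closure_eq_trdeg k (f.fiber (f u)) (f.asFiber u)
  exact ⟨n, by rw [← hn, ← fdim_fiberι, f.fiberι_asFiber]⟩

theorem fdim_eq_fibreDimAt {X Y : Scheme.{u}} (f : X ⟶ Y) [LocallyOfFiniteType f] (x : X)
    (hmax : ∀ x' : X, f x' = f x → x' ⤳ x → x' = x) : fdim f x = FlatMor.fibreDimAt f x := by
  refine le_antisymm (fdim_le_fibreDimAt f x) ?_
  obtain ⟨c, hc⟩ := exists_fiber_point f x
  have h := fibreDimAt_le_closure f (f x) c fun c' hc' => by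
    apply (f.fiberι (f x)).isEmbedding.injective
    rw [hc]
    refine hmax _ (apply_fiberι f (f x) c') ?_
    have h' := hc'.map (f.fiberι (f x)).continuous
    rwa [hc] at h'
  rw [← fdim_fiberι, hc] at h
  exact h

/-- Openness at a maximal point of a fibre bounds the dimensions of the nearby fibres below. -/
theorem le_dim_fibre_of_isOpenAt {X Y : Scheme.{u}} [IsLocallyNoetherian Y] (f : X ⟶ Y) [LocallyOfFiniteType f]
    (x : X) (hmax : ∀ x' : X, f x' = f x → x' ⤳ x → x' = x) (hopen : EGA43.IsOpenAt f.base x)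
    (U : X.Opens) (hxU : x ∈ U) {y' : Y} (hy' : y' ⤳ f x) :
    FlatMor.fibreDimAt f x ≤ topologicalKrullDim ↥((U : Set X) ∩ f.base ⁻¹' {y'}) := by
  classical
  by_cases hne : y' = f x
  · subst hne
    exact (Groth.L07.FibreDim.fibreDimAt_le_iff f x _).mpr ⟨U, hxU, le_rfl⟩
  haveI : IsLocallyNoetherian X := LocallyOfFiniteType.isLocallyNoetherian f
  obtain ⟨d, hd⟩ := exists_nat_fdim f x
  rw [← fdim_eq_fibreDimAt f x hmax, hd]
  obtain ⟨U', hxU', hU'⟩ := (Groth.L07.FibreDim.fibreDimAt_le_iff f x (d : WithBot ℕ∞)).mp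
    (by rw [← fdim_eq_fibreDimAt f x hmax, hd])
  obtain ⟨D, g₀, hxD, hDU, hg₀, hqf⟩ := exists_qf_affineSpace f (U ⊓ U') x ⟨hxU, hxU'⟩ d
    ((SchemeDim.topologicalKrullDim_mono (Set.inter_subset_inter_left _ fun w hw => hw.2)).trans hU')
  obtain ⟨W, hW, hxW, hWD⟩ := exists_isAffineOpen_mem_and_subset hxD
  haveI : IsAffine (W : Scheme.{u}) := hW
  haveI : IsNoetherian (W : Scheme.{u}) := {}
  let E := ULift.{u} (Fin d)
  let pr := 𝔸(E; Y) ↘ Y
  let g := X.homOfLE hWD ≫ g₀
  let fW := W.ι ≫ f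
  have hg : g ≫ pr = fW := by rw [Category.assoc, hg₀, Scheme.homOfLE_ι_assoc]
  haveI : LocallyOfFiniteType (g ≫ pr) := hg ▸ inferInstance
  haveI : LocallyOfFiniteType g := locallyOfFiniteType_of_comp g pr
  haveI : LocallyQuasiFinite g := inferInstance
  have hgpr : ∀ w, pr (g w) = f (W.ι w) := fun w => by
    rw [← Scheme.Hom.comp_apply, hg, Scheme.Hom.comp_apply]
  have hfdimW : ∀ w : (W : Scheme.{u}), fdim f (W.ι w) = fdim pr (g w) := fun w => by
    rw [← fdim_comp g pr fW hg, fdim_comp W.ι f fW rfl]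
  let xW : (W : Scheme.{u}) := ⟨x, hxW⟩
  have hpgen : ∀ q, pr q = f x → g xW ⤳ q := fun q hq =>
    genericPoint_of_fdim E (g xW) (by rw [← hfdimW]; exact (by simp [E]; exact hd.ge)) q (hq.trans (hgpr xW).symm)
  let C : Set (W : Scheme.{u}) := fW ⁻¹' closure {y'}
  obtain ⟨S, hSfin, hScl, hSirr, hS⟩ :=
    NoetherianSpace.exists_finite_set_isClosed_irreducible (show IsClosed C from isClosed_closure.preimage fW.continuous)
  by_cases hex : ∃ q : (W : Scheme.{u}), q ∈ C ∧ fW q = y' ∧ (d : WithBot ℕ∞) ≤ fdim pr (g q)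
  · obtain ⟨q, -, hqy, hqd⟩ := hex
    rw [← hfdimW] at hqd
    refine hqd.trans ?_
    rw [← fdim_comp W.ι f fW rfl q]
    refine le_of_eq_of_le (SchemeDim.topologicalKrullDim_eq_of_isEmbedding
      (f := fun w : ↥(closure ({q} : Set (W : Scheme.{u})) ∩ fW.base ⁻¹' {fW.base q}) => W.ι w.1)
      (W.ι.isEmbedding.comp IsEmbedding.subtypeVal) rfl).symm (SchemeDim.topologicalKrullDim_mono ?_)
    rintro _ ⟨⟨w, -, hw⟩, rfl⟩
    exact ⟨(hDU (hWD w.2)).1, (show f (W.ι w) = fW q from hw).trans hqy⟩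
  exfalso
  push Not at hex
  let gen : Set (W : Scheme.{u}) := {q | closure {q} ∈ S}
  have hgenfin : gen.Finite := by
    refine Set.Finite.of_finite_image (f := fun q => closure ({q} : Set (W : Scheme.{u}))) (hSfin.subset ?_) ?_
    · rintro _ ⟨q, hq, rfl⟩; exact hq
    · intro a _ b _ hab
      have e : closure ({a} : Set (W : Scheme.{u})) = closure {b} := hab
      exact ((specializes_iff_mem_closure.mpr (show b ∈ closure {a} by rw [e]; exact subset_closure rfl)).antisymm
        (specializes_iff_mem_closure.mpr (show a ∈ closure {b} by rw [← e]; exact subset_closure rfl))).eq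
  let B : Set ↥𝔸(E; Y) := ⋃ q ∈ gen, closure {g q}
  have hB : IsClosed B := hgenfin.isClosed_biUnion fun q _ => isClosed_closure
  have hgC : ∀ w ∈ C, g w ∈ B := by
    intro w hw
    rw [hS] at hw
    obtain ⟨Z, hZ, hwZ⟩ := hw
    obtain ⟨q, hq⟩ := QuasiSober.sober (hSirr Z hZ) (hScl Z hZ)
    refine Set.mem_biUnion (show q ∈ gen by show closure {q} ∈ S; rw [hq.def]; exact hZ) ?_
    exact specializes_iff_mem_closure.mp ((hq.specializes hwZ).map g.continuous)
  have hxC : xW ∈ C := specializes_iff_mem_closure.mp hy'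
  let Wo : Set Y := pr '' Bᶜ
  have hWo : IsOpen Wo := (AffineSpace.isOpenMap_over Y) _ hB.isOpen_compl
  have hy'Wo : y' ∈ Wo := by
    let η' := pr.fiberι y' (genericPoint (pr.fiber y'))
    refine ⟨η', fun hη => ?_, apply_fiberι pr y' _⟩
    obtain ⟨q, hq, hqη⟩ := Set.mem_iUnion₂.mp hη
    have hsp := specializes_iff_mem_closure.mpr hqη
    have hqC : q ∈ C := by rw [hS]; exact ⟨_, hq, subset_closure rfl⟩
    have h1 : pr (g q) ⤳ y' := apply_fiberι pr y' _ ▸ hsp.map pr.continuous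
    have hfq : fW q = y' := by
      rw [hgpr] at h1
      exact (h1.antisymm (specializes_iff_mem_closure.mpr hqC)).eq
    refine (hex q hqC hfq).not_ge ?_
    have hgen' : ∀ b, pr b = y' → g q ⤳ b := fun b hb => by
      obtain ⟨a, rfl⟩ : b ∈ Set.range (pr.fiberι y') := by rw [pr.range_fiberι]; exact hb
      exact hsp.trans (((genericPoint_spec _).specializes trivial).map (pr.fiberι y').continuous)
    refine le_of_eq ?_
    rw [show (d : WithBot ℕ∞) = (Nat.card E : WithBot ℕ∞) by simp [E], ← dim_fiber_affineSpace E Y y']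
    refine (SchemeDim.topologicalKrullDim_eq_of_isEmbedding (f := pr.fiberι y') (Scheme.Hom.isEmbedding _) ?_).symm
    rw [Scheme.Hom.range_fiberι, show pr.base (g q) = y' from (hgpr q).trans hfq, eq_comm, Set.inter_eq_right]
    exact fun b hb => specializes_iff_mem_closure.mp (hgen' b hb)
  have hxWo : f x ∉ Wo := by
    rintro ⟨b, hb, hbx⟩
    exact hb (hB.closure_subset_iff.mpr (Set.singleton_subset_iff.mpr (hgC _ hxC))
      (specializes_iff_mem_closure.mp (hpgen b hbx)))
  -- a prime with one-dimensional quotient inside `Wo`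
  let A := Y.presheaf.stalk (f x)
  let j := Y.fromSpecStalk (f x)
  obtain ⟨p', hp'⟩ : y' ∈ Set.range j := by rw [Y.range_fromSpecStalk]; exact hy'
  obtain ⟨_, ⟨c, rfl⟩, hpc, hcsub⟩ := PrimeSpectrum.isTopologicalBasis_basic_opens.exists_subset_of_mem_open
    (show (p' : PrimeSpectrum A) ∈ (j ⁻¹' Wo : Set (PrimeSpectrum A)) from (show j p' ∈ Wo from hp'.symm ▸ hy'Wo))
    (hWo.preimage j.continuous)
  have hcm : c ∈ IsLocalRing.maximalIdeal A := by
    by_contra hc
    exact hxWo (Y.fromSpecStalk_closedPoint (x := f x) ▸ hcsub (show (IsLocalRing.closedPoint A) ∈ _ from hc))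
  let P' : Ideal A := (p' : PrimeSpectrum A).asIdeal
  obtain ⟨𝔮, ⟨hqp, hP'q, hcq⟩, hqmax⟩ := set_has_maximal_iff_noetherian.mpr
    (inferInstance : IsNoetherian A A) {Q : Ideal A | Q.IsPrime ∧ P' ≤ Q ∧ c ∉ Q}
    ⟨P', (p' : PrimeSpectrum A).2, le_rfl, hpc⟩
  let R1 := A ⧸ 𝔮
  haveI : IsDomain R1 := Ideal.Quotient.isDomain 𝔮
  haveI : IsLocalRing R1 := IsLocalRing.of_surjective' _ Ideal.Quotient.mk_surjective
  have hdim : ∀ Q : Ideal R1, Q.IsPrime → Q ≠ ⊥ → Q = IsLocalRing.maximalIdeal R1 := fun Q hQ hQ0 =>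
    eq_maximalIdeal_of_forall_mem (c := Ideal.Quotient.mk 𝔮 c) (fun T hT hT0 => by
      by_contra hcT
      have hlt : 𝔮 < T.comap (Ideal.Quotient.mk 𝔮) := by
        refine lt_of_le_of_ne (fun a ha => ?_) fun e => hT0 ?_
        · rw [Ideal.mem_comap, Ideal.Quotient.eq_zero_iff_mem.mpr ha]; exact zero_mem _
        · rw [← Ideal.map_comap_of_surjective _ Ideal.Quotient.mk_surjective T, ← e, Ideal.map_quotient_self]
      exact hqmax _ ⟨Ideal.IsPrime.comap _, hP'q.trans hlt.le, hcT⟩ hlt)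
      (fun e => hcq (Ideal.Quotient.eq_zero_iff_mem.mp e)) Q hQ0
  let q1 : PrimeSpectrum A := ⟨𝔮, hqp⟩
  let y1 := j q1
  have hy1Wo : y1 ∈ Wo := hcsub hcq
  have hy1x : y1 ⤳ f x := by
    have : y1 ∈ Set.range j := ⟨_, rfl⟩
    rwa [Y.range_fromSpecStalk] at this
  obtain ⟨x1, hx1, hfx1⟩ := Groth.L07.OpenDim.exists_lift_of_isOpenAt f hopen hy1x
  let w1 : (W : Scheme.{u}) := ⟨x1, hx1.mem_open W.2 hxW⟩
  have hw1 : w1 ⤳ xW := W.ι.isOpenEmbedding.isInducing.specializes_iff.mp hx1
  have hw1C : w1 ∈ C := by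
    refine specializes_iff_mem_closure.mp ?_
    show y' ⤳ f x1
    rw [hfx1, ← hp']
    exact Specializes.map ((PrimeSpectrum.le_iff_specializes (p' : PrimeSpectrum A) q1).mp hP'q) j.continuous
  -- compute in affine space over `R1`
  let h : Spec (CommRingCat.of R1) ⟶ Y := Spec.map (CommRingCat.ofHom (Ideal.Quotient.mk 𝔮)) ≫ j
  haveI : IsClosedImmersion (Spec.map (CommRingCat.ofHom (Ideal.Quotient.mk 𝔮))) :=
    IsClosedImmersion.spec_of_surjective _ Ideal.Quotient.mk_surjective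
  let M := (AffineSpace.SpecIso E (CommRingCat.of R1)).inv ≫ AffineSpace.map E h
  haveI : IsPreimmersion (AffineSpace.map E h) :=
    MorphismProperty.of_isPullback (P := @IsPreimmersion) (AffineSpace.isPullback_map (n := E) h).flip inferInstance
  haveI : IsPreimmersion M := inferInstance
  have hMpr : M ≫ pr = Spec.map (CommRingCat.ofHom (MvPolynomial.C (σ := E) (R := R1))) ≫ h := by
    rw [Category.assoc, AffineSpace.map_over, AffineSpace.SpecIso_inv_over_assoc]
  have hlift : ∀ (b : ↥𝔸(E; Y)) (r : Spec (CommRingCat.of R1)), pr b = h r → ∃ b1, M b1 = b := by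
    intro b r hbr
    obtain ⟨o, ho, -⟩ := Scheme.exists_preimage_of_isPullback (AffineSpace.isPullback_map (n := E) h) b r hbr
    exact ⟨(AffineSpace.SpecIso E (CommRingCat.of R1)).hom o, by
      rw [← Scheme.Hom.comp_apply, Iso.hom_inv_id_assoc, ho]⟩
  let c1 : Spec (CommRingCat.of R1) := IsLocalRing.closedPoint R1
  have hhc : h c1 = f x := by
    show j (Spec.map _ c1) = f x
    refine Eq.trans (congrArg j (PrimeSpectrum.ext ?_)) Y.fromSpecStalk_closedPoint
    exact IsLocalRing.eq_maximalIdeal (Ideal.comap_isMaximal_of_surjective (K := IsLocalRing.maximalIdeal R1) _ Ideal.Quotient.mk_surjective)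
  let b1 : Spec (CommRingCat.of R1) := (⟨⊥, Ideal.isPrime_bot⟩ : PrimeSpectrum R1)
  have hhb : h b1 = y1 := by
    show j (Spec.map _ b1) = y1
    refine congrArg j (PrimeSpectrum.ext ?_)
    exact (RingHom.ker_eq_comap_bot _).symm.trans Ideal.mk_ker
  obtain ⟨p1, hp1⟩ := hlift (g xW) c1 ((hgpr xW).trans hhc.symm)
  obtain ⟨z1, hz1⟩ := hlift (g w1) b1 ((hgpr w1).trans (hfx1.trans hhb.symm))
  have hover : ∀ b : Spec (CommRingCat.of (MvPolynomial E R1)),
      pr (M b) = h (Spec.map (CommRingCat.ofHom MvPolynomial.C) b) := fun b => by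
    rw [← Scheme.Hom.comp_apply, hMpr, Scheme.Hom.comp_apply]
  have hz1p1 : z1 ⤳ p1 := M.isEmbedding.isInducing.specializes_iff.mp (by rw [hz1, hp1]; exact hw1.map g.continuous)
  let Mi : Ideal (MvPolynomial E R1) := (IsLocalRing.maximalIdeal R1).map MvPolynomial.C
  have hMi : Mi.IsPrime := by
    have : Mi = RingHom.ker (MvPolynomial.map (σ := E) (Ideal.Quotient.mk (IsLocalRing.maximalIdeal R1))) := by
      rw [MvPolynomial.ker_map, Ideal.mk_ker]
    rw [this]; exact RingHom.ker_isPrime _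
  let z1' : PrimeSpectrum (MvPolynomial E R1) := z1
  let p1' : PrimeSpectrum (MvPolynomial E R1) := p1
  have hz1c : z1'.asIdeal.comap MvPolynomial.C = ⊥ := by
    have e : Spec.map (CommRingCat.ofHom MvPolynomial.C) z1 = b1 := by
      refine h.isEmbedding.injective ?_
      rw [← hover, hz1, hhb]
      exact (hgpr w1).trans hfx1
    exact congrArg PrimeSpectrum.asIdeal e
  have hp1le : p1'.asIdeal ≤ Mi := by
    let M0 : PrimeSpectrum (MvPolynomial E R1) := ⟨Mi, hMi⟩
    refine (PrimeSpectrum.le_iff_specializes p1' M0).mpr (M.isEmbedding.isInducing.specializes_iff.mp ?_)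
    rw [show M p1' = g xW from hp1]
    refine hpgen _ ?_
    rw [hover, ← hhc]
    congr 1
    refine PrimeSpectrum.ext ?_
    show Mi.comap MvPolynomial.C = IsLocalRing.maximalIdeal R1
    exact ((IsLocalRing.maximalIdeal.isMaximal R1).eq_of_le (Ideal.IsPrime.ne_top (Ideal.IsPrime.comap _))
      Ideal.le_comap_map).symm
  have hz1bot : z1'.asIdeal = ⊥ := by
    by_contra hne0
    haveI := z1'.2
    have hle0 : z1'.asIdeal ≤ p1'.asIdeal := (PrimeSpectrum.le_iff_specializes z1' p1').mpr hz1p1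
    have hle : z1'.asIdeal ≤ Mi := hle0.trans hp1le
    have heq := eq_map_maximalIdeal hdim z1'.asIdeal hne0 hle
    haveI : IsLocalHom (Ideal.Quotient.mk 𝔮) := IsLocalHom.of_surjective _ Ideal.Quotient.mk_surjective
    have hcm1 : Ideal.Quotient.mk 𝔮 c ∈ IsLocalRing.maximalIdeal R1 := fun hu =>
      hcm (isUnit_of_map_unit (Ideal.Quotient.mk 𝔮) c hu)
    have : Ideal.Quotient.mk 𝔮 c ∈ (⊥ : Ideal R1) := by
      rw [← hz1c, heq]
      exact Ideal.le_comap_map hcm1
    exact hcq (Ideal.Quotient.eq_zero_iff_mem.mp (Ideal.mem_bot.mp this))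
  obtain ⟨b, hb, hby⟩ := hy1Wo
  obtain ⟨b', hb'⟩ := hlift b b1 (hby.trans hhb.symm)
  have hzb : g w1 ⤳ b := by
    rw [← hb', ← hz1]
    refine Specializes.map ((PrimeSpectrum.le_iff_specializes z1' b').mp ?_) M.continuous
    show z1'.asIdeal ≤ (b' : PrimeSpectrum (MvPolynomial E R1)).asIdeal
    rw [hz1bot]; exact bot_le
  exact hb (hB.closure_subset_iff.mpr (Set.singleton_subset_iff.mpr (hgC _ hw1C))
    (specializes_iff_mem_closure.mp hzb))

end Groth.L07.OpenFibreDim
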