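import Groth.Agent.L07.OpenEquiv
import Mathlib.AlgebraicGeometry.Morphisms.UniversallyOpen
import Mathlib.AlgebraicGeometry.ResidueField

/-!
Universal openness along a fibre over a geometrically unibranch point.
-/

universe u

open CategoryTheory CategoryTheory.Limits AlgebraicGeometry TopologicalSpace Topology

namespace Groth.L07.OpenEquiv

open Groth.L22 Groth.L07.Equidim Groth.L07.EquidimQF Groth.L07.OpenFibreDim

set_option maxSynthPendingDepth 3
set_option linter.style.haveILetI false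
set_option backward.isDefEq.respectTransparency.types false
set_option backward.isDefEq.respectTransparency false

variable {X Y : Scheme.{u}}

/-- Universal openness passes to specialisations inside a fibre. -/
theorem isUnivOpenAt_of_specializes (f : X ⟶ Y) {z x : X} (hzx : z ⤳ x) (hfz : f z = f x)
    (h : EGA43.IsUnivOpenAt f z) : EGA43.IsUnivOpenAt f x := by
  intro Y' g x' hx' U hU
  let y' := pullback.snd f g x'
  have hgy : g y' = f x := by
    rw [← Scheme.Hom.comp_apply, ← pullback.condition, Scheme.Hom.comp_apply, hx']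
  let hK : Spec (Y'.residueField y') ⟶ Spec (Y.residueField (g y')) := Spec.map (g.residueFieldMap y')
  have big : IsPullback ((pullback.snd f g).fiberι y' ≫ pullback.fst f g)
      ((pullback.snd f g).fiberToSpecResidueField y') f (Y'.fromSpecResidueField y' ≫ g) :=
    IsPullback.paste_horiz (IsPullback.of_hasPullback (pullback.snd f g) _) (IsPullback.of_hasPullback f g)
  rw [← Scheme.Hom.SpecMap_residueFieldMap_fromSpecResidueField] at big
  have hfib : IsPullback (f.fiberι (g y')) (f.fiberToSpecResidueField (g y')) f (Y.fromSpecResidueField (g y')) :=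
    IsPullback.of_hasPullback _ _
  let l := hfib.lift ((pullback.snd f g).fiberι y' ≫ pullback.fst f g)
    ((pullback.snd f g).fiberToSpecResidueField y' ≫ hK) (by rw [Category.assoc]; exact big.w)
  have hl : l ≫ f.fiberι (g y') = (pullback.snd f g).fiberι y' ≫ pullback.fst f g := hfib.lift_fst _ _ _
  have top : IsPullback l ((pullback.snd f g).fiberToSpecResidueField y') (f.fiberToSpecResidueField (g y')) hK :=
    IsPullback.of_right (by rw [hl]; exact big) (hfib.lift_snd _ _ _) hfib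
  haveI : UniversallyOpen hK := inferInstance
  haveI : UniversallyOpen l := MorphismProperty.of_isPullback (P := @UniversallyOpen) top.flip inferInstance
  obtain ⟨U₀, hU₀U, hU₀o, hxU₀⟩ := mem_nhds_iff.mp hU
  obtain ⟨c', hc'⟩ := exists_fiber_point (pullback.snd f g) x'
  let O : Set ((pullback.snd f g).fiber y') := (pullback.snd f g).fiberι y' ⁻¹' U₀
  have hO : IsOpen (l '' O) := l.isOpenMap _ (hU₀o.preimage (Scheme.Hom.continuous _))
  obtain ⟨cz, hcz⟩ : z ∈ Set.range (f.fiberι (g y')) := by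
    rw [f.range_fiberι]; exact hfz.trans hgy.symm
  have hlc : f.fiberι (g y') (l c') = x := by
    rw [← Scheme.Hom.comp_apply, hl, Scheme.Hom.comp_apply]
    exact (congrArg _ hc').trans hx'
  have hsp : cz ⤳ l c' := (f.fiberι (g y')).isEmbedding.isInducing.specializes_iff.mp (by rw [hcz, hlc]; exact hzx)
  obtain ⟨q, hq, hqz⟩ := hsp.mem_open hO ⟨c', show (pullback.snd f g).fiberι y' c' ∈ U₀ by rw [hc']; exact hxU₀, rfl⟩
  have h1 : pullback.fst f g ((pullback.snd f g).fiberι y' q) = z := by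
    rw [← Scheme.Hom.comp_apply, ← hl, Scheme.Hom.comp_apply, hqz, hcz]
  have h2 := h Y' g _ h1 U₀ (hU₀o.mem_nhds hq)
  rw [show (pullback.snd f g).base ((pullback.snd f g).fiberι y' q) = y' from apply_fiberι _ _ _] at h2
  exact Filter.mem_of_superset h2 (Set.image_mono hU₀U)

/-- Semicontinuity of the fibre dimension along a fibre. -/
theorem fibreDimAt_le_of_specializes (f : X ⟶ Y) {z x : X} (hzx : z ⤳ x) (hfz : f z = f x) :
    FlatMor.fibreDimAt f z ≤ FlatMor.fibreDimAt f x := by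
  obtain ⟨U, hxU, hU⟩ := (Groth.L07.FibreDim.fibreDimAt_le_iff f x _).mp le_rfl
  exact (Groth.L07.FibreDim.fibreDimAt_le_iff f z _).mpr ⟨U, hzx.mem_open U.2 hxU, by rw [hfz]; exact hU⟩

theorem exists_nat_fibreDimAt (f : X ⟶ Y) [LocallyOfFiniteType f] (x : X) :
    ∃ d : ℕ, FlatMor.fibreDimAt f x = (d : WithBot ℕ∞) := by
  let k : Type u := Y.residueField (f x)
  letI : (f.fiber (f x)).Over (Spec (CommRingCat.of k)) := ⟨f.fiberToSpecResidueField (f x)⟩
  haveI : LocallyOfFiniteType (f.fiber (f x) ↘ Spec (CommRingCat.of k)) :=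
    MorphismProperty.pullback_snd _ _ inferInstance
  letI : ∀ b, Algebra k ((f.fiber (f x)).residueField b) := fun b => Curv2.resAlgebra k _ b
  obtain ⟨a, b, -, -, h⟩ := SchemeDim.exists_localDim k (f.fiber (f x)) (f.asFiber x)
  exact ⟨a + b, h⟩

/-- Every point of a fibre has a maximal generisation in it. -/
theorem exists_maximal_in_fibre (f : X ⟶ Y) (a : X) :
    ∃ z, z ⤳ a ∧ f z = f a ∧ ∀ z', f z' = f z → z' ⤳ z → z' = z := by
  obtain ⟨c, hc⟩ := exists_fiber_point f a
  obtain ⟨p, hp, hpmax⟩ := exists_maximal_generization c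
  have hfz : f (f.fiberι (f a) p) = f a := apply_fiberι f (f a) p
  refine ⟨f.fiberι (f a) p, by have h := hp.map (f.fiberι (f a)).continuous; rwa [hc] at h, hfz, fun z' hz' hsp => ?_⟩
  obtain ⟨p', rfl⟩ : z' ∈ Set.range (f.fiberι (f a)) := by
    rw [f.range_fiberι]; exact hz'.trans hfz
  rw [hpmax p' ((f.fiberι (f a)).isEmbedding.isInducing.specializes_iff.mp hsp)]

theorem fdim_mono (f : X ⟶ Y) {z a : X} (hza : z ⤳ a) (hfz : f z = f a) : fdim f a ≤ fdim f z := by
  refine SchemeDim.topologicalKrullDim_mono fun w hw => ⟨?_, hw.2.trans hfz.symm⟩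
  exact closure_minimal (Set.singleton_subset_iff.mpr (specializes_iff_mem_closure.mp hza)) isClosed_closure hw.1

/-- Some fibre component through the point realises the local dimension of the fibre. -/
theorem exists_maximal_fdim_eq (f : X ⟶ Y) [LocallyOfFiniteType f] (x : X) :
    ∃ z, z ⤳ x ∧ f z = f x ∧ (∀ z', f z' = f z → z' ⤳ z → z' = z) ∧ fdim f z = FlatMor.fibreDimAt f x := by
  let y := f x
  haveI : LocallyOfFiniteType (f.fiberToSpecResidueField y) :=
    MorphismProperty.pullback_snd _ _ inferInstance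
  haveI : IsLocallyNoetherian (f.fiber y) :=
    LocallyOfFiniteType.isLocallyNoetherian (f.fiberToSpecResidueField y)
  obtain ⟨c, hc⟩ := exists_fiber_point f x
  obtain ⟨V, hcV, hV⟩ := exists_nhd_maximal (X := f.fiber y) c
  obtain ⟨O, hO, hOV⟩ := (f.fiberι y).isEmbedding.isInducing.isOpen_iff.mp V.2
  have hxO : x ∈ O := by rw [← hc, ← Set.mem_preimage, hOV]; exact hcV
  obtain ⟨d, hd⟩ := exists_nat_fibreDimAt f x
  have hge : FlatMor.fibreDimAt f x ≤ topologicalKrullDim ↥((O : Set X) ∩ f.base ⁻¹' {y}) :=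
    (Groth.L07.FibreDim.fibreDimAt_le_iff f x _).mpr ⟨⟨O, hO⟩, hxO, le_rfl⟩
  obtain ⟨a, ha, hfa, had⟩ := exists_fdim_le f ⟨O, hO⟩ y d (hd ▸ hge)
  obtain ⟨z, hza, hfz, hzmax⟩ := exists_maximal_in_fibre f a
  have hfzy : f z = y := hfz.trans hfa
  obtain ⟨p, rfl⟩ : z ∈ Set.range (f.fiberι y) := by rw [f.range_fiberι]; exact hfzy
  have hpV : p ∈ V := by show p ∈ V.carrier; rw [← hOV]; exact hza.mem_open hO ha
  have hpc : p ⤳ c := hV p hpV fun q hq => (f.fiberι y).isEmbedding.injective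
    (hzmax _ ((apply_fiberι f y q).trans hfzy.symm) (hq.map (f.fiberι y).continuous))
  have hzx : f.fiberι y p ⤳ x := hc ▸ hpc.map (f.fiberι y).continuous
  refine ⟨_, hzx, hfzy, hzmax, le_antisymm ?_ ((hd.le.trans had).trans (fdim_mono f hza hfz))⟩
  exact (fdim_le_fibreDimAt f _).trans (fibreDimAt_le_of_specializes f hzx hfzy)

/-- Dimension of an open piece of a fibre from its maximal points. -/
theorem dim_fibre_le (f : X ⟶ Y) [LocallyOfFiniteType f] (U : X.Opens) (y : Y) (c : WithBot ℕ∞)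
    (h : ∀ z ∈ U, f z = y → (∀ z', f z' = f z → z' ⤳ z → z' = z) → fdim f z ≤ c) :
    topologicalKrullDim ↥((U : Set X) ∩ f.base ⁻¹' {y}) ≤ c := by
  let f' := U.ι ≫ f
  rw [SchemeDim.topologicalKrullDim_eq_of_isEmbedding (f := fun w => U.ι (f'.fiberι y w))
    (U.ι.isEmbedding.comp (f'.fiberι y).isEmbedding) (S := (U : Set X) ∩ f.base ⁻¹' {y}) ?_]
  · refine dim_le_of_dim_closure_le fun v => ?_
    rw [← fdim_fiberι, fdim_comp U.ι f f' rfl]
    obtain ⟨z, hz, hfz, hzmax⟩ := exists_maximal_in_fibre f (U.ι (f'.fiberι y v))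
    exact (fdim_mono f hz hfz).trans
      (h z (hz.mem_open U.2 (f'.fiberι y v).2) (hfz.trans (apply_fiberι f' y v)) hzmax)
  · ext w
    constructor
    · rintro ⟨v, rfl⟩
      exact ⟨(f'.fiberι y v).2, apply_fiberι f' y v⟩
    · rintro ⟨hw, hwy⟩
      obtain ⟨v, hv⟩ : (⟨w, hw⟩ : (U : Scheme.{u})) ∈ Set.range (f'.fiberι y) := by
        rw [f'.range_fiberι]; exact hwy
      exact ⟨v, congrArg U.ι hv⟩

/-- The local dimension at a point of a set containing a fibre component of full dimension through it. -/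
theorem localDim_eq_of_component (f : X ⟶ Y) [LocallyOfFiniteType f] {z x : X} (hzx : z ⤳ x) (hfz : f z = f x)
    (hmax : ∀ z', f z' = f z → z' ⤳ z → z' = z) (hfd : fdim f z = FlatMor.fibreDimAt f x)
    (Z : Set X) (hZ : closure {z} ⊆ Z) (hx : x ∈ Z ∩ f.base ⁻¹' {f.base x}) :
    FlatMor.localDim ↥(Z ∩ f.base ⁻¹' {f.base x}) ⟨x, hx⟩ = FlatMor.fibreDimAt f x := by
  have key : ∀ U : X.Opens, topologicalKrullDim
      ↥((Subtype.val ⁻¹' (U : Set X)) : Set ↥(Z ∩ f.base ⁻¹' {f.base x})) =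
      topologicalKrullDim ↥((U : Set X) ∩ (Z ∩ f.base ⁻¹' {f.base x})) := fun U =>
    (SchemeDim.topologicalKrullDim_eq_of_isEmbedding (IsEmbedding.subtypeVal.comp IsEmbedding.subtypeVal)
      (by rw [Set.range_comp, Subtype.range_coe, Subtype.image_preimage_coe, Set.inter_comm])).symm
  apply le_antisymm
  · obtain ⟨U, hxU, hU⟩ := (Groth.L07.FibreDim.fibreDimAt_le_iff f x _).mp le_rfl
    refine (iInf_le _ (⟨⟨_, U.2.preimage continuous_subtype_val⟩, hxU⟩ :
      {V : Opens ↥(Z ∩ f.base ⁻¹' {f.base x}) // ⟨x, hx⟩ ∈ V})).trans ?_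
    refine (key U).le.trans ((SchemeDim.topologicalKrullDim_mono ?_).trans hU)
    exact fun w hw => ⟨hw.1, hw.2.2⟩
  · refine le_iInf ?_
    rintro ⟨⟨V, hV⟩, hxV⟩
    obtain ⟨O, hO, rfl⟩ := isOpen_induced_iff.mp hV
    obtain ⟨N, hzN, hN⟩ := exists_nhd_fibre f z hmax
    rw [← hfd, fdim_eq_fibreDimAt f z hmax]
    refine (Groth.L07.FibreDim.fibreDimAt_le_iff f z _).mpr
      ⟨⟨O, hO⟩ ⊓ N, ⟨hzx.mem_open hO hxV, hzN⟩, ?_⟩
    refine le_of_le_of_eq (SchemeDim.topologicalKrullDim_mono ?_) (key ⟨O, hO⟩).symm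
    exact fun w hw => ⟨hw.1.1, hZ (specializes_iff_mem_closure.mp (hN w hw.1.2 hw.2)), hw.2.trans hfz⟩

/-- Universal openness at all points of a fibre from its maximal points. -/
theorem isUnivOpenAt_of_components [IsLocallyNoetherian Y] (f : X ⟶ Y) [LocallyOfFiniteType f] (y : Y)
    (hy : CAlg2.IsGeomUnibranch (Y.presheaf.stalk y))
    (h : ∀ z, f z = y → (∀ z', f z' = f z → z' ⤳ z → z' = z) →
      ∃ ζ, ζ ⤳ z ∧ (∀ η', η' ⤳ f ζ → η' = f ζ) ∧ fdim f ζ = FlatMor.fibreDimAt f z)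
    (x : X) (hx : f x = y) : EGA43.IsUnivOpenAt f x := by
  obtain ⟨z, hzx, hfz, hzmax⟩ := exists_maximal_in_fibre f x
  obtain rfl : f z = y := hfz.trans hx
  obtain ⟨ζ, hζ, hηmax, hfd⟩ := h z rfl hzmax
  exact isUnivOpenAt_of_specializes f hzx hfz (isUnivOpenAt_of_component f z hzmax hy hζ hηmax hfd)

/-- A component through a point from the fibre dimensions over a maximal point of the base. -/
theorem exists_component_through [IsLocallyNoetherian Y] (f : X ⟶ Y) [LocallyOfFiniteType f] (x : X)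
    {η : Y} (hηmax : ∀ η', η' ⤳ η → η' = η)
    (h : ∀ U : X.Opens, topologicalKrullDim ↥((U : Set X) ∩ f.base ⁻¹' {f.base x}) ≤
        topologicalKrullDim ↥((U : Set X) ∩ f.base ⁻¹' {η})) :
    ∃ z ζ, z ⤳ x ∧ f z = f x ∧ (∀ z', f z' = f z → z' ⤳ z → z' = z) ∧
      fdim f z = FlatMor.fibreDimAt f x ∧
      ζ ⤳ z ∧ (∀ ζ', ζ' ⤳ ζ → ζ' = ζ) ∧ f ζ = η ∧ fdim f ζ = FlatMor.fibreDimAt f x := by
  obtain ⟨z, hzx, hfz, hzmax, hzd⟩ := exists_maximal_fdim_eq f x
  obtain ⟨ζ, hζ, hζmax, hfζ, hζd⟩ := exists_component f z hzmax (η := η) (fun U hU => by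
    refine ((Groth.L07.FibreDim.fibreDimAt_le_iff f z _).mpr ⟨U, hU, le_rfl⟩).trans ?_
    rw [hfz]
    exact h U) hηmax
  refine ⟨z, ζ, hzx, hfz, hzmax, hzd, hζ, hζmax, hfζ, ?_⟩
  rw [hζd, ← fdim_eq_fibreDimAt f z hzmax, hzd]

/-- Openness along a fibre bounds the dimensions of its open pieces by those of nearby fibres. -/
theorem dim_fibre_le_of_isOpenAt [IsLocallyNoetherian Y] (f : X ⟶ Y) [LocallyOfFiniteType f] (y : Y)
    (h : ∀ x, f x = y → EGA43.IsOpenAt f.base x) (U : X.Opens) {y' : Y} (hy' : y' ⤳ y) :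
    topologicalKrullDim ↥((U : Set X) ∩ f.base ⁻¹' {y}) ≤ topologicalKrullDim ↥((U : Set X) ∩ f.base ⁻¹' {y'}) := by
  refine dim_fibre_le f U y _ fun z hzU hfz hzmax => ?_
  rw [fdim_eq_fibreDimAt f z hzmax]
  exact le_dim_fibre_of_isOpenAt f z hzmax (h z hfz) U hzU (hfz ▸ hy')

end Groth.L07.OpenEquiv
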