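import Groth.Agent.L07.FibreDimAlg
import Groth.Agent.L22.SchemeDim
import Mathlib.AlgebraicGeometry.Fiber

/-! Semicontinuity of fibre dimension. -/

namespace Groth.L07.FibreDim

open CategoryTheory AlgebraicGeometry TopologicalSpace Topology
open Groth.L22

set_option linter.style.haveILetI false

universe u

/-- The dimension of the fibre inside an affine open. -/
theorem dim_affine_fibre {X S : Scheme.{u}} (f : X ⟶ S) {V : S.Opens} (hV : IsAffineOpen V)
    {W : X.Opens} (hW : IsAffineOpen W) (e : W ≤ f ⁻¹ᵁ V) {y : S} (hy : y ∈ V) :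
    letI := (f.appLE V W e).hom.toAlgebra
    topologicalKrullDim ((W : Set X) ∩ f ⁻¹' {y} : Set X) =
      ringKrullDim ((hV.primeIdealOf ⟨y, hy⟩).asIdeal.Fiber Γ(X, W)) := by
  letI := (f.appLE V W e).hom.toAlgebra
  let p := hV.primeIdealOf ⟨y, hy⟩
  have key : ∀ z : PrimeSpectrum Γ(X, W), f (hW.fromSpec z) =
      hV.fromSpec (PrimeSpectrum.comap (algebraMap Γ(S, V) Γ(X, W)) z) := fun z => by
    exact (congrArg (fun m : Spec Γ(X, W) ⟶ S => m z) (hV.SpecMap_appLE_fromSpec f hW e)).symm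
  let F : Set (PrimeSpectrum Γ(X, W)) := PrimeSpectrum.comap (algebraMap Γ(S, V) Γ(X, W)) ⁻¹' {p}
  let ψ : F → X := fun z => hW.fromSpec z.1
  have hψ : IsEmbedding ψ := hW.fromSpec.isOpenEmbedding.isEmbedding.comp IsEmbedding.subtypeVal
  have hrange : Set.range ψ = (W : Set X) ∩ f ⁻¹' {y} := by
    ext w
    constructor
    · rintro ⟨⟨z, hz⟩, rfl⟩
      refine ⟨hW.range_fromSpec ▸ ⟨z, rfl⟩, ?_⟩
      show f (hW.fromSpec z) = y
      have hz' : PrimeSpectrum.comap (algebraMap Γ(S, V) Γ(X, W)) z = p := hz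
      rw [key, hz']
      exact hV.fromSpec_primeIdealOf ⟨y, hy⟩
    · rintro ⟨hw, hwy⟩
      obtain ⟨z, rfl⟩ := hW.range_fromSpec.symm ▸ hw
      refine ⟨⟨z, ?_⟩, rfl⟩
      refine hV.fromSpec.isOpenEmbedding.injective ?_
      refine ((key z).symm.trans (show f (hW.fromSpec z) = y from hwy)).trans ?_
      exact (hV.fromSpec_primeIdealOf ⟨y, hy⟩).symm
  rw [SchemeDim.topologicalKrullDim_eq_of_isEmbedding hψ hrange,
    (PrimeSpectrum.preimageHomeomorphFiber Γ(S, V) Γ(X, W) p).isHomeomorph.topologicalKrullDim_eq,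
    PrimeSpectrum.topologicalKrullDim_eq_ringKrullDim]

/-- Bounds on the local fibre dimension are realised on open neighbourhoods in the source. -/
theorem fibreDimAt_le_iff {X S : Scheme.{u}} (f : X ⟶ S) (x : X) (n : WithBot ℕ∞) :
    FlatMor.fibreDimAt f x ≤ n ↔ ∃ U : X.Opens, x ∈ U ∧
      topologicalKrullDim ((U : Set X) ∩ f ⁻¹' {f x} : Set X) ≤ n := by
  have he := (f.fiberι (f x)).isEmbedding
  have key : ∀ U : X.Opens, topologicalKrullDim ((f.fiberι (f x) ⁻¹' (U : Set X)) : Set _) =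
      topologicalKrullDim ((U : Set X) ∩ f ⁻¹' {f x} : Set X) := fun U => by
    refine (SchemeDim.topologicalKrullDim_eq_of_isEmbedding (he.comp IsEmbedding.subtypeVal) ?_).symm
    rw [Set.range_comp, Subtype.range_coe, Set.image_preimage_eq_inter_range, f.range_fiberι]
  constructor
  · intro h
    haveI : Nonempty {U : Opens (f.fiber (f x)) // f.asFiber x ∈ U} := ⟨⟨⊤, trivial⟩⟩
    obtain ⟨⟨U', hU'⟩, hdim⟩ := ciInf_mem (fun U : {U : Opens (f.fiber (f x)) // f.asFiber x ∈ U} =>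
      topologicalKrullDim ((U.1 : Set (f.fiber (f x))) : Set _))
    obtain ⟨U₀, hU₀, heq⟩ := he.isInducing.isOpen_iff.mp U'.2
    refine ⟨⟨U₀, hU₀⟩, ?_, ?_⟩
    · have : f.asFiber x ∈ f.fiberι (f x) ⁻¹' U₀ := heq ▸ hU'
      rwa [Set.mem_preimage, f.fiberι_asFiber] at this
    · rw [← key ⟨U₀, hU₀⟩]
      refine le_trans (le_of_eq ?_) h
      refine Eq.trans ?_ hdim
      show topologicalKrullDim ((f.fiberι (f x) ⁻¹' U₀) : Set _) = _
      rw [heq]
      rfl
  · rintro ⟨U, hxU, hU⟩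
    refine iInf_le_of_le ⟨(Opens.comap ⟨f.fiberι (f x), (f.fiberι (f x)).continuous⟩ U), ?_⟩ ?_
    · show f.fiberι (f x) (f.asFiber x) ∈ U
      rwa [f.fiberι_asFiber]
    · exact (key U).trans_le hU

/-- Upper semicontinuity of the local fibre dimension on the source. -/
theorem isOpen_fibreDimAt_le {X S : Scheme.{u}} (f : X ⟶ S) [LocallyOfFiniteType f] (n : ℕ) :
    IsOpen {x : X | FlatMor.fibreDimAt f x ≤ n} := by
  rw [isOpen_iff_forall_mem_open]
  intro x hx
  obtain ⟨U, hxU, hU⟩ := (fibreDimAt_le_iff f x n).mp hx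
  obtain ⟨_, ⟨V, hV, rfl⟩, hxV, -⟩ := S.isBasis_affineOpens.exists_subset_of_mem_open
    (Set.mem_univ (f x)) isOpen_univ
  obtain ⟨_, ⟨W, hW, rfl⟩, hxW, hWU⟩ := X.isBasis_affineOpens.exists_subset_of_mem_open
    (show x ∈ U ⊓ f ⁻¹ᵁ V from ⟨hxU, hxV⟩) (U ⊓ f ⁻¹ᵁ V).2
  have e : W ≤ f ⁻¹ᵁ V := fun w hw => (hWU hw).2
  letI := (f.appLE V W e).hom.toAlgebra
  haveI : Algebra.FiniteType Γ(S, V) Γ(X, W) := LocallyOfFiniteType.finiteType_appLE f hV hW e
  let P := hW.primeIdealOf ⟨x, hxW⟩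
  have hP : PrimeSpectrum.comap (algebraMap Γ(S, V) Γ(X, W)) P = hV.primeIdealOf ⟨f x, hxV⟩ := by
    haveI : IsOpenImmersion hV.fromSpec := hV.isOpenImmersion_fromSpec
    refine hV.fromSpec.isOpenEmbedding.injective ?_
    refine Eq.trans ?_ (hV.fromSpec_primeIdealOf ⟨f x, hxV⟩).symm
    refine Eq.trans (congrArg (fun m : Spec Γ(X, W) ⟶ S => m P) (hV.SpecMap_appLE_fromSpec f hW e)) ?_
    exact congrArg f (hW.fromSpec_primeIdealOf ⟨x, hxW⟩)
  have hdim : ringKrullDim ((PrimeSpectrum.comap (algebraMap Γ(S, V) Γ(X, W)) P).asIdeal.Fiber Γ(X, W)) ≤ n := by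
    rw [hP, ← dim_affine_fibre f hV hW e hxV]
    exact le_trans (SchemeDim.topologicalKrullDim_mono
      (Set.inter_subset_inter_left _ fun w hw => (hWU hw).1)) hU
  obtain ⟨r, hr, H⟩ := exists_fibre_dim_le P n hdim
  refine ⟨X.basicOpen r, fun w hw => ?_, (X.basicOpen r).2, ?_⟩
  · have e' : X.basicOpen r ≤ f ⁻¹ᵁ V := (X.basicOpen_le r).trans e
    refine (fibreDimAt_le_iff f w n).mpr ⟨X.basicOpen r, hw, ?_⟩
    rw [dim_affine_fibre f hV (hW.basicOpen r) e' (e' hw)]
    letI := (f.appLE V (X.basicOpen r) e').hom.toAlgebra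
    haveI := hW.isLocalization_basicOpen r
    haveI : IsScalarTower Γ(S, V) Γ(X, W) Γ(X, X.basicOpen r) := IsScalarTower.of_algebraMap_eq' <| by
      show (f.appLE V (X.basicOpen r) e').hom = (X.presheaf.map _).hom.comp (f.appLE V W e).hom
      rw [← CommRingCat.hom_comp, Scheme.Hom.appLE_map]
    exact H _ _
  · have hmem : P ∈ PrimeSpectrum.basicOpen r := hr
    rw [← IsAffineOpen.fromSpec_preimage_basicOpen hW r] at hmem
    have : hW.fromSpec P ∈ X.basicOpen r := hmem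
    rwa [hW.fromSpec_primeIdealOf ⟨x, hxW⟩] at this

/-- The dimension is bounded when it is bounded locally. -/
theorem dim_le_of_localDim_le {T : Type*} [TopologicalSpace T] (c : WithBot ℕ∞)
    (h : ∀ t : T, FlatMor.localDim T t ≤ c) : topologicalKrullDim T ≤ c := by
  refine iSup_le fun p => ?_
  obtain ⟨t, ht⟩ := p.head.isIrreducible.nonempty
  haveI : Nonempty {U : Opens T // t ∈ U} := ⟨⟨⊤, trivial⟩⟩
  obtain ⟨⟨U, hU⟩, hdim⟩ := ciInf_mem (fun U : {U : Opens T // t ∈ U} =>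
    topologicalKrullDim ((U.1 : Set T) : Set T))
  exact (Groth.L06.Dim.length_le_of_head_inter p U.2 ⟨t, ht, hU⟩).trans (hdim.trans_le (h t))

/-- The dimension of a fibre in terms of the local dimensions. -/
theorem fiber_dim_le_iff {X S : Scheme.{u}} (f : X ⟶ S) (s : S) (c : WithBot ℕ∞) :
    topologicalKrullDim (f.fiber s) ≤ c ↔ ∀ x : X, f x = s → FlatMor.fibreDimAt f x ≤ c := by
  constructor
  · rintro h x rfl
    exact iInf_le_of_le ⟨⊤, trivial⟩ ((topologicalKrullDim_subspace_le _ _).trans h)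
  · intro h
    refine dim_le_of_localDim_le c fun t => ?_
    suffices ∀ (x : X) (hx : f x = s) (z : f.fiber s), f.fiberι s z = x →
        FlatMor.localDim (f.fiber s) z ≤ c from
      this _ ((f.range_fiberι s).subset ⟨t, rfl⟩) t rfl
    intro x hx z hz
    subst hx
    rw [(f.fiberι _).isEmbedding.injective (hz.trans (f.fiberι_asFiber x).symm)]
    exact h x rfl

/-- For a closed morphism the dimension of the fibre is upper semicontinuous on the target. -/
theorem isOpen_fiber_dim_le {X S : Scheme.{u}} (f : X ⟶ S) [LocallyOfFiniteType f]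
    (hf : IsClosedMap f) (c : WithBot ℕ∞) : IsOpen {s : S | topologicalKrullDim (f.fiber s) ≤ c} := by
  have key : ∀ D : Set X, IsClosed D → (∀ x, FlatMor.fibreDimAt f x ≤ c ↔ x ∉ D) →
      IsOpen {s : S | topologicalKrullDim (f.fiber s) ≤ c} := fun D hD H => by
    have : {s : S | topologicalKrullDim (f.fiber s) ≤ c} = (f '' D)ᶜ := by
      ext s
      simp only [Set.mem_ofPred_eq, fiber_dim_le_iff, H, Set.mem_compl_iff, Set.mem_image, not_exists,
        not_and]
      exact forall_congr' fun x => ⟨fun h hx e => h e hx, fun h e hx => h hx e⟩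
    rw [this]
    exact (hf D hD).isOpen_compl
  have hne : ∀ x : X, FlatMor.fibreDimAt f x ≠ ⊥ := fun x h => by
    obtain ⟨U, hxU, hU⟩ := (fibreDimAt_le_iff f x ⊥).mp h.le
    haveI : Nonempty ((U : Set X) ∩ f ⁻¹' {f x} : Set X) := ⟨⟨x, hxU, rfl⟩⟩
    have h0 := Groth.L06.Dim.nonneg (X := ((U : Set X) ∩ f ⁻¹' {f x} : Set X))
    rw [le_bot_iff.mp hU, le_bot_iff] at h0
    exact WithBot.coe_ne_bot h0
  induction c with
  | bot =>
    exact key Set.univ isClosed_univ fun x => by simpa using hne x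
  | coe m =>
    induction m with
    | top => exact key ∅ isClosed_empty fun x => by simp
    | coe n =>
      exact key {x | FlatMor.fibreDimAt f x ≤ (n : WithBot ℕ∞)}ᶜ
        (isOpen_fibreDimAt_le f n).isClosed_compl fun x => by simp

end Groth.L07.FibreDim
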