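import Groth.Agent.L02.Flat
import Mathlib.RingTheory.Regular.RegularSequence
import Mathlib.RingTheory.Filtration
import Mathlib.RingTheory.Finiteness.Basic
import Mathlib.RingTheory.QuotSMulTop
import Mathlib.LinearAlgebra.DirectSum.Finsupp
import Mathlib.LinearAlgebra.Dimension.Free
import Mathlib.Algebra.Module.Torsion.Basic
import Mathlib.RingTheory.LocalRing.RingHom.Basic

/-! Regular sequences on the closed fibre, for local homomorphisms of Noetherian local rings. -/

namespace Groth.L07.FibreRegularLocal

open TensorProduct IsLocalRing RingTheory.Sequence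
open scoped Pointwise

set_option linter.style.haveILetI false
set_option maxSynthPendingDepth 3

universe u

variable {A B : Type u} [CommRing A] [CommRing B] [Algebra A B]

theorem rTensor_smul' {M N : Type u} [AddCommGroup M] [Module B M] [Module A M] [IsScalarTower A B M]
    [AddCommGroup N] [Module A N] {N' : Type u} [AddCommGroup N'] [Module A N'] (f : N →ₗ[A] N') (g : B)
    (z : M ⊗[A] N) : f.lTensor M (g • z) = g • f.lTensor M z := by
  induction z using TensorProduct.induction_on with
  | zero => simp
  | tmul m n => rfl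
  | add a b ha hb => simp only [smul_add, map_add, ha, hb]

variable [IsLocalRing A] (M : Type u) [AddCommGroup M] [Module B M] [Module A M] [IsScalarTower A B M]

/-- Regularity on the closed fibre in tensor form. -/
theorem regular_tensor_residue (g : B)
    (hg : IsSMulRegular (M ⧸ ((maximalIdeal A).map (algebraMap A B) • (⊤ : Submodule B M))) g) :
    IsSMulRegular (M ⊗[A] ResidueField A) g := by
  have hsurj : ∀ z : M ⊗[A] ResidueField A, ∃ m : M, z = m ⊗ₜ 1 := by
    intro z
    induction z using TensorProduct.induction_on with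
    | zero => exact ⟨0, (TensorProduct.zero_tmul M _).symm⟩
    | tmul m c =>
      obtain ⟨a, rfl⟩ := IsLocalRing.residue_surjective c
      refine ⟨a • m, ?_⟩
      rw [smul_tmul, Algebra.smul_def, mul_one]
      rfl
    | add a b ha hb =>
      obtain ⟨x, rfl⟩ := ha
      obtain ⟨y, rfl⟩ := hb
      exact ⟨x + y, (TensorProduct.add_tmul x y _).symm⟩
  let W : M →ₗ[B] M ⊗[A] ResidueField A :=
    { toFun := fun m => m ⊗ₜ 1
      map_add' := fun x y => TensorProduct.add_tmul x y _
      map_smul' := fun b x => (TensorProduct.smul_tmul' b x _).symm }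
  have h0 : ((maximalIdeal A).map (algebraMap A B) • (⊤ : Submodule B M)) ≤ LinearMap.ker W := by
    have h1 : (maximalIdeal A).map (algebraMap A B) ≤ (⊤ : Submodule B M).annihilator ⊔
        Submodule.colon (LinearMap.ker W) (Set.univ : Set M) := by
      refine le_trans (Ideal.map_le_iff_le_comap.mpr fun a ha => ?_) le_sup_right
      rw [Ideal.mem_comap, Submodule.mem_colon]
      intro m _
      rw [LinearMap.mem_ker, algebraMap_smul]
      show (a • m) ⊗ₜ[A] (1 : ResidueField A) = 0
      rw [smul_tmul, Algebra.smul_def, mul_one, show algebraMap A (ResidueField A) a = 0 from (IsLocalRing.residue_eq_zero_iff a).mpr ha, TensorProduct.tmul_zero]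
    refine Submodule.smul_le.mpr fun r hr m _ => ?_
    obtain ⟨p, hp, q, hq, rfl⟩ := Submodule.mem_sup.mp (h1 hr)
    rw [add_smul, (Submodule.mem_annihilator.mp hp) m trivial, zero_add]
    exact Submodule.mem_colon.mp hq m trivial
  refine IsSMulRegular.of_right_eq_zero_of_smul fun z hz => ?_
  obtain ⟨m, rfl⟩ := hsurj z
  have h2 : g • (Submodule.Quotient.mk m :
      M ⧸ ((maximalIdeal A).map (algebraMap A B) • (⊤ : Submodule B M))) = 0 := by
    rw [← Submodule.Quotient.mk_smul, Submodule.Quotient.mk_eq_zero]
    -- the kernel of the map to the fibre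
    have hker : LinearMap.ker W ≤ ((maximalIdeal A).map (algebraMap A B) • (⊤ : Submodule B M)) := by
      intro y hy
      let π := ((maximalIdeal A).map (algebraMap A B) • (⊤ : Submodule B M)).mkQ
      have hπ : ∀ a ∈ maximalIdeal A, ∀ m : M, π (a • m) = 0 := fun a ha m => by
        rw [Submodule.mkQ_apply, Submodule.Quotient.mk_eq_zero, ← algebraMap_smul B a m]
        exact Submodule.smul_mem_smul (Ideal.mem_map_of_mem _ ha) trivial
      let β : ResidueField A →ₗ[A] M →ₗ[A]
          (M ⧸ ((maximalIdeal A).map (algebraMap A B) • (⊤ : Submodule B M))) :=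
        Submodule.liftQ (maximalIdeal A)
          (LinearMap.toSpanSingleton A _ (π.restrictScalars A))
          (fun a ha => LinearMap.ext fun m => by
            show a • π m = 0
            rw [← LinearMap.map_smul_of_tower, hπ a ha])
      have h3 : TensorProduct.lift β.flip (y ⊗ₜ[A] (1 : ResidueField A)) = π y := by
        rw [TensorProduct.lift.tmul]
        show (1 : A) • π y = π y
        rw [one_smul]
      rw [show y ⊗ₜ[A] (1 : ResidueField A) = 0 from hy, map_zero] at h3
      exact (Submodule.Quotient.mk_eq_zero _).mp h3.symm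
    exact hker (show W (g • m) = 0 by rw [map_smul]; exact hz)
  exact h0 ((Submodule.Quotient.mk_eq_zero _).mp (hg.right_eq_zero_of_smul h2))

variable [Module.Flat A M] {g : B}

/-- Regularity on modules killed by a power of the maximal ideal. -/
theorem regular_of_pow_killed (hg : IsSMulRegular (M ⊗[A] ResidueField A) g) :
    ∀ (n : ℕ) (X : Type u) [AddCommGroup X] [Module A X],
      (∀ a ∈ maximalIdeal A ^ n, ∀ x : X, a • x = 0) → IsSMulRegular (M ⊗[A] X) g := by
  intro n
  induction n with
  | zero =>
    intro X _ _ h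
    haveI : Subsingleton X := subsingleton_of_forall_eq 0 fun x => by
      rw [← one_smul A x]; exact h 1 (by simp) x
    intro a b _
    exact Subsingleton.elim a b
  | succ n ih =>
    intro X _ _ h
    let X₁ : Submodule A X := maximalIdeal A • ⊤
    have h1 : IsSMulRegular (M ⊗[A] ↥X₁) g := ih _ fun a ha x => by
      refine Subtype.ext ?_
      show a • (x : X) = 0
      refine Submodule.smul_induction_on (p := fun v => a • v = 0) x.2 (fun r hr v _ => ?_)
        (fun u v hu hv => by rw [smul_add, hu, hv, add_zero])
      rw [smul_smul]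
      exact h _ (pow_succ (maximalIdeal A) n ▸ Ideal.mul_mem_mul ha hr) v
    have h2 : IsSMulRegular (M ⊗[A] (X ⧸ X₁)) g := by
      have hX : Module.IsTorsionBySet A (X ⧸ X₁) (maximalIdeal A : Set A) := fun x r => by
        obtain ⟨x, rfl⟩ := Submodule.mkQ_surjective X₁ x
        rw [← map_smul, Submodule.mkQ_apply, Submodule.Quotient.mk_eq_zero]
        exact Submodule.smul_mem_smul r.2 trivial
      letI : Module (ResidueField A) (X ⧸ X₁) := hX.module
      haveI : IsScalarTower A (ResidueField A) (X ⧸ X₁) := hX.isScalarTower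
      let b := Module.Free.chooseBasis (ResidueField A) (X ⧸ X₁)
      let e : (X ⧸ X₁) ≃ₗ[A] (_ →₀ ResidueField A) := b.repr.restrictScalars A
      let e' := TensorProduct.AlgebraTensorModule.congr (LinearEquiv.refl B M) e ≪≫ₗ
        TensorProduct.finsuppRight A B M (ResidueField A) _
      intro x y hxy
      apply e'.injective
      ext i
      apply hg
      have h3 := congrArg (fun v => (e' v) i) hxy
      simpa only [map_smul, Finsupp.smul_apply] using h3
    refine IsSMulRegular.of_right_eq_zero_of_smul fun z hz => ?_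
    have h3 : X₁.mkQ.lTensor M z = 0 := h2.right_eq_zero_of_smul (by rw [← rTensor_smul', hz, map_zero])
    obtain ⟨w, rfl⟩ := (lTensor_exact M (LinearMap.exact_subtype_mkQ X₁) X₁.mkQ_surjective z).mp h3
    rw [← rTensor_smul'] at hz
    rw [h1.right_eq_zero_of_smul (Module.Flat.lTensor_preserves_injective_linearMap (M := M) X₁.subtype
      Subtype.val_injective (hz.trans (map_zero _).symm)), map_zero]

variable [IsLocalRing B] [IsNoetherianRing B] [IsLocalHom (algebraMap A B)] [Module.Finite B M]

/-- Regularity on tensor products with finite modules. -/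
theorem regular_of_finite (hg : IsSMulRegular (M ⊗[A] ResidueField A) g) (X : Type u) [AddCommGroup X]
    [Module A X] [Module.Finite A X] : IsSMulRegular (M ⊗[A] X) g := by
  haveI : Module.Finite B (M ⊗[A] X) :=
    Module.Finite.equiv (AlgebraTensorModule.cancelBaseChange A B B M X)
  refine IsSMulRegular.of_right_eq_zero_of_smul fun z hz => ?_
  rw [← Submodule.mem_bot B, ← Ideal.iInf_pow_smul_eq_bot_of_isLocalRing (maximalIdeal B)
    (maximalIdeal.isMaximal B).ne_top, Submodule.mem_iInf]
  intro n
  let Xn : Submodule A X := maximalIdeal A ^ n • ⊤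
  have h1 : IsSMulRegular (M ⊗[A] (X ⧸ Xn)) g := regular_of_pow_killed M hg n _ fun a ha x => by
    obtain ⟨x, rfl⟩ := Submodule.mkQ_surjective Xn x
    rw [← map_smul, Submodule.mkQ_apply, Submodule.Quotient.mk_eq_zero]
    exact Submodule.smul_mem_smul ha trivial
  obtain ⟨w, rfl⟩ := (lTensor_exact M (LinearMap.exact_subtype_mkQ Xn) Xn.mkQ_surjective z).mp
    (h1.right_eq_zero_of_smul (by rw [← rTensor_smul', hz, map_zero]))
  clear hz h1
  induction w using TensorProduct.induction_on with
  | zero => simp
  | add a b ha hb => rw [map_add]; exact add_mem ha hb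
  | tmul m x =>
    rw [LinearMap.lTensor_tmul]
    refine Submodule.smul_induction_on (p := fun v => m ⊗ₜ[A] v ∈ maximalIdeal B ^ n • (⊤ : Submodule B (M ⊗[A] X)))
      x.2 (fun r hr v _ => ?_) (fun u v hu hv => by rw [TensorProduct.tmul_add]; exact add_mem hu hv)
    rw [TensorProduct.tmul_smul, ← algebraMap_smul B r]
    refine Submodule.smul_mem_smul ?_ trivial
    have h2 := Ideal.mem_map_of_mem (algebraMap A B) hr
    rw [Ideal.map_pow] at h2
    exact Ideal.pow_right_mono (IsLocalRing.map_maximalIdeal_le _) n h2

variable [IsNoetherianRing A]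

/-- The fibre criterion for one element. -/
theorem isSMulRegular_and_flat (hg : IsSMulRegular (M ⊗[A] ResidueField A) g) :
    IsSMulRegular M g ∧ Module.Flat A (QuotSMulTop g M) := by
  have hreg : IsSMulRegular M g := by
    intro a b hab
    apply (AlgebraTensorModule.rid A B M).symm.injective
    apply regular_of_finite M hg A
    simp only [← map_smul]
    exact congrArg _ hab
  refine ⟨hreg, ?_⟩
  let f : M →ₗ[A] M := (LinearMap.lsmul B M g).restrictScalars A
  let π : M →ₗ[A] QuotSMulTop g M := (Submodule.mkQ (g • ⊤ : Submodule B M)).restrictScalars A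
  refine Groth.L02.flat_of_exact_of_rTensor_quotient f π ?_ (Submodule.mkQ_surjective _) fun I _ => ?_
  · intro x
    show Submodule.mkQ (g • ⊤ : Submodule B M) x = 0 ↔ _
    rw [Submodule.mkQ_apply, Submodule.Quotient.mk_eq_zero, Submodule.mem_smul_pointwise_iff_exists]
    exact ⟨fun ⟨y, _, hy⟩ => ⟨y, hy⟩, fun ⟨y, hy⟩ => ⟨y, trivial, hy⟩⟩
  · have hf : ∀ z : M ⊗[A] (A ⧸ I), f.rTensor (A ⧸ I) z = g • z := fun z => by
      induction z using TensorProduct.induction_on with
      | zero => simp
      | tmul x y => rfl
      | add a b ha hb => rw [map_add, ha, hb, smul_add]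
    intro a b hab
    rw [hf, hf] at hab
    exact regular_of_finite M hg (A ⧸ I) hab

omit [IsLocalRing A] [Module.Flat A M] [IsLocalRing B] [IsNoetherianRing B] [IsLocalHom (algebraMap A B)]
  [Module.Finite B M] [IsNoetherianRing A] [Module A M] [IsScalarTower A B M] in
/-- Reduction modulo an element commutes with reduction modulo an ideal. -/
theorem exists_quotSwap (a : Ideal B) (g : B) :
    Nonempty (QuotSMulTop g (M ⧸ (a • (⊤ : Submodule B M))) ≃ₗ[B]
      (QuotSMulTop g M ⧸ (a • (⊤ : Submodule B (QuotSMulTop g M))))) :=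
  ⟨QuotSMulTop.congr g (quotTensorEquivQuotSMul M a).symm ≪≫ₗ
    (QuotSMulTop.tensorQuotSMulTopEquivQuotSMulTop g (B ⧸ a) M).symm ≪≫ₗ
    quotTensorEquivQuotSMul (QuotSMulTop g M) a⟩

omit [Module.Flat A M] [Module.Finite B M] in
/-- The fibre criterion for sequences. -/
theorem isWeaklyRegular_and_flat : ∀ (l : List B) (M : Type u) [AddCommGroup M] [Module B M] [Module A M]
    [IsScalarTower A B M] [Module.Finite B M] [Module.Flat A M],
    IsWeaklyRegular (M ⧸ ((maximalIdeal A).map (algebraMap A B) • (⊤ : Submodule B M))) l →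
      IsWeaklyRegular M l ∧
        ∀ i ≤ l.length, Module.Flat A (M ⧸ (Ideal.ofList (l.take i) • (⊤ : Submodule B M))) := by
  intro l
  induction l with
  | nil =>
    intro M _ _ _ _ _ _ _
    refine ⟨IsWeaklyRegular.nil _ _, fun i _ => ?_⟩
    exact Module.Flat.of_linearEquiv
      ((Submodule.quotEquivOfEqBot (Ideal.ofList (([] : List B).take i) • (⊤ : Submodule B M))
        (by simp)).restrictScalars A)
  | cons g t ih =>
    intro M _ _ _ _ _ _ hreg
    obtain ⟨hg, ht⟩ := (isWeaklyRegular_cons_iff _ g t).mp hreg
    obtain ⟨h1, h2⟩ := isSMulRegular_and_flat M (regular_tensor_residue M g hg)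
    haveI := h2
    obtain ⟨e⟩ := exists_quotSwap M ((maximalIdeal A).map (algebraMap A B)) g
    obtain ⟨h3, h4⟩ := ih (QuotSMulTop g M) ((e.isWeaklyRegular_congr t).mp ht)
    refine ⟨(isWeaklyRegular_cons_iff _ g t).mpr ⟨h1, h3⟩, fun i hi => ?_⟩
    cases i with
    | zero =>
      exact Module.Flat.of_linearEquiv
        ((Submodule.quotEquivOfEqBot (Ideal.ofList ((g :: t).take 0) • (⊤ : Submodule B M))
          (by simp)).restrictScalars A)
    | succ i =>
      haveI := h4 i (by simpa using hi)
      let e₁ : (M ⧸ (Ideal.ofList ((g :: t).take (i + 1)) • (⊤ : Submodule B M))) ≃ₗ[B] _ :=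
        Submodule.quotEquivOfEq _ _ (by rw [List.take_succ_cons]) ≪≫ₗ
          Submodule.quotOfListConsSMulTopEquivQuotSMulTopInner M g (t.take i)
      exact Module.Flat.of_linearEquiv (e₁.restrictScalars A)

end Groth.L07.FibreRegularLocal
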