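import Groth.Agent.L07.FlatStage
import Groth.Agent.L20.LocalCriterion
import Mathlib.RingTheory.Flat.Localization
import Mathlib.RingTheory.Flat.FaithfullyFlat.Basic
import Mathlib.RingTheory.LocalRing.ResidueField.Ideal
import Mathlib.RingTheory.Finiteness.ModuleFinitePresentation

/-! The fibre criterion of flatness, without Noetherian hypotheses. -/

namespace Groth.L07.FibreFlat

open TensorProduct MvPolynomial IsLocalRing

set_option linter.style.haveILetI false
set_option maxSynthPendingDepth 3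

universe u

/-- Tensoring a flat module with a localisation keeps it flat over the base. -/
theorem flat_tensor_of_flat {R B : Type u} [CommRing R] [CommRing B] [Algebra R B] (S : Type u)
    [CommRing S] [Algebra B S] [Algebra R S] [IsScalarTower R B S] [Module.Flat B S]
    (M : Type u) [AddCommGroup M] [Module B M] [Module R M] [IsScalarTower R B M] [Module.Flat R M] :
    Module.Flat R (S ⊗[B] M) := by
  rw [Module.Flat.iff_lTensor_injective]
  intro I _
  let g : M ⊗[R] I →ₗ[B] M ⊗[R] R := AlgebraTensorModule.lTensor B M I.subtype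
  have hg : Function.Injective g :=
    Module.Flat.lTensor_preserves_injective_linearMap _ I.injective_subtype
  let e₁ := AlgebraTensorModule.assoc R B S S M (↥I)
  let e₂ := AlgebraTensorModule.assoc R B S S M R
  have h1 : Function.Injective (g.lTensor S) := Module.Flat.lTensor_preserves_injective_linearMap _ hg
  have h2 : ∀ z, e₂ (I.subtype.lTensor (S ⊗[B] M) z) = g.lTensor S (e₁ z) := by
    intro z
    induction z using TensorProduct.induction_on with
    | zero => simp
    | tmul x i =>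
      induction x using TensorProduct.induction_on with
      | zero => simp
      | tmul s m => simp [e₁, e₂, g]
      | add a b ha hb => simp only [TensorProduct.add_tmul, map_add, ha, hb]
    | add a b ha hb => simp only [map_add, ha, hb]
  intro a b hab
  exact e₁.injective (h1 (by rw [← h2, ← h2, hab]))

/-- The fibre criterion at a prime. -/
theorem flat_atPrime_of_fibre {R B : Type u} [CommRing R] [CommRing B] [IsNoetherianRing B]
    [Algebra R B] (M : Type u) [AddCommGroup M] [Module B M] [Module R M] [IsScalarTower R B M]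
    [Module.Finite B M] [Module.Flat R M] (q : Ideal B) [q.IsPrime]
    (I : Ideal (Localization.AtPrime q))
    (hI : I = (q.comap (algebraMap R B)).map (algebraMap R (Localization.AtPrime q)))
    (h : Module.Flat (Localization.AtPrime q ⧸ I) ((Localization.AtPrime q ⧸ I) ⊗[B] M)) :
    Module.Flat (Localization.AtPrime q) (Localization.AtPrime q ⊗[B] M) := by
  let Bq := Localization.AtPrime q
  let p := q.comap (algebraMap R B)
  haveI : IsNoetherianRing Bq := IsLocalization.isNoetherianRing q.primeCompl Bq inferInstance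
  haveI : Module.Flat B Bq := IsLocalization.flat Bq q.primeCompl
  haveI : Module.Flat R (Bq ⊗[B] M) := flat_tensor_of_flat Bq M
  haveI : IsLocalHom (algebraMap Bq Bq) := ⟨fun a ha => ha⟩
  have hne : I ≠ ⊤ := by
    intro htop
    have : I ≤ maximalIdeal Bq := by
      rw [hI, Ideal.map_le_iff_le_comap]
      intro r hr
      rw [Ideal.mem_comap, IsScalarTower.algebraMap_apply R B Bq,
        IsLocalization.AtPrime.to_map_mem_maximal_iff Bq q]
      exact hr
    exact (maximalIdeal.isMaximal Bq).ne_top (eq_top_iff.mpr (htop ▸ this))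
  haveI : Module.Flat (Bq ⧸ I) ((Bq ⧸ I) ⊗[Bq] (Bq ⊗[B] M)) :=
    Module.Flat.of_linearEquiv (AlgebraTensorModule.cancelBaseChange B Bq (Bq ⧸ I) (Bq ⧸ I) M)
  refine Groth.L20.flat_of_lTensor_injective_of_flat_quotient Bq I hne ?_
  -- injectivity of the multiplication on the ideal
  have hmem : ∀ r : p, algebraMap R Bq r ∈ I := fun r => hI ▸ Ideal.mem_map_of_mem _ r.2
  let σ : (Bq ⊗[B] M) ⊗[R] ↥p →ₗ[R] (Bq ⊗[B] M) ⊗[Bq] ↥I := TensorProduct.lift
    (LinearMap.mk₂ R (fun x r => x ⊗ₜ[Bq] (⟨algebraMap R Bq r, hmem r⟩ : I))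
      (fun x y r => TensorProduct.add_tmul _ _ _)
      (fun c x r => by rw [TensorProduct.smul_tmul'])
      (fun x r s => by rw [← TensorProduct.tmul_add]; congr 1; exact Subtype.ext (map_add _ _ _))
      (fun c x r => by
        rw [← TensorProduct.tmul_smul]; congr 1
        exact Subtype.ext (by simp [Algebra.smul_def]; rfl)))
  have hσ : Function.Surjective σ := by
    intro z
    induction z using TensorProduct.induction_on with
    | zero => exact ⟨0, map_zero _⟩
    | tmul x i =>
      obtain ⟨i, hi⟩ := i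
      have hi' : i ∈ Ideal.span (algebraMap R Bq '' (p : Set R)) := by rw [hI] at hi; exact hi
      refine Submodule.span_induction (p := fun i _ => ∀ (hi : i ∈ I) (x : Bq ⊗[B] M),
        ∃ w, σ w = x ⊗ₜ[Bq] (⟨i, hi⟩ : I)) ?_ ?_ ?_ ?_ hi' hi x
      · rintro _ ⟨r, hr, rfl⟩ _ x
        exact ⟨x ⊗ₜ[R] (⟨r, hr⟩ : p), rfl⟩
      · intro _ x
        exact ⟨0, by rw [map_zero, show (⟨0, _⟩ : I) = 0 from rfl, TensorProduct.tmul_zero]⟩
      · intro a b ha hb iha ihb _ x
        have ha' : a ∈ I := by rw [hI]; exact ha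
        have hb' : b ∈ I := by rw [hI]; exact hb
        obtain ⟨wa, hwa⟩ := iha ha' x
        obtain ⟨wb, hwb⟩ := ihb hb' x
        exact ⟨wa + wb, by rw [map_add, hwa, hwb, ← TensorProduct.tmul_add]; rfl⟩
      · intro c a ha iha _ x
        have ha' : a ∈ I := by rw [hI]; exact ha
        obtain ⟨w, hw⟩ := iha ha' (c • x)
        exact ⟨w, by rw [hw, TensorProduct.smul_tmul]; rfl⟩
    | add a b ha hb =>
      obtain ⟨wa, rfl⟩ := ha
      obtain ⟨wb, rfl⟩ := hb
      exact ⟨wa + wb, map_add _ _ _⟩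
  rw [injective_iff_map_eq_zero]
  intro z hz
  obtain ⟨w, rfl⟩ := hσ z
  have hcomp : ∀ w, TensorProduct.rid Bq (Bq ⊗[B] M) (I.subtype.lTensor (Bq ⊗[B] M) (σ w)) =
      TensorProduct.rid R (Bq ⊗[B] M) (p.subtype.lTensor (Bq ⊗[B] M) w) := by
    intro w
    induction w using TensorProduct.induction_on with
    | zero => simp
    | tmul x r =>
      simp only [σ, TensorProduct.lift.tmul, LinearMap.mk₂_apply, LinearMap.lTensor_tmul,
        TensorProduct.rid_tmul, Submodule.subtype_apply]
      exact algebraMap_smul Bq (r : R) x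
    | add a b ha hb => simp only [map_add, ha, hb]
  have h0 : TensorProduct.rid R (Bq ⊗[B] M) (p.subtype.lTensor (Bq ⊗[B] M) w) = 0 := by
    rw [← hcomp, hz, map_zero]
  have : w = 0 := Module.Flat.lTensor_preserves_injective_linearMap (M := Bq ⊗[B] M) _ p.injective_subtype
    ((TensorProduct.rid R _).injective (by rw [h0, map_zero, map_zero]))
  rw [this, map_zero]

/-- Descent of fibrewise flatness to a Noetherian stage of a pushout. -/
theorem flat_fibre_stage {A R' B₁ B : Type u} [CommRing A] [CommRing R'] [CommRing B₁] [CommRing B]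
    [Algebra R' A] [Algebra R' B₁] [Algebra A B] [Algebra B₁ B] [Algebra R' B]
    [IsScalarTower R' A B] [IsScalarTower R' B₁ B]
    (huniv : ∀ (D' : Type u) [CommRing D'] (f : A →+* D') (g : B₁ →+* D'),
      f.comp (algebraMap R' A) = g.comp (algebraMap R' B₁) →
      ∃ χ : B →+* D', χ.comp (algebraMap A B) = f ∧ χ.comp (algebraMap B₁ B) = g)
    (M₁ : Type u) [AddCommGroup M₁] [Module B₁ M₁] {M : Type u} [AddCommGroup M] [Module B M]
    (eM : B ⊗[B₁] M₁ ≃ₗ[B] M) (p : Ideal A) [p.IsPrime] (p₀ : Ideal R') [p₀.IsPrime]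
    [hlies : p.LiesOver p₀]
    (hfib : Module.Flat (B ⊗[A] p.ResidueField) ((B ⊗[A] p.ResidueField) ⊗[B] M))
    (D₀ : Type u) [CommRing D₀] [Algebra B₁ D₀] [Algebra R' D₀] [IsScalarTower R' B₁ D₀]
    (hker₀ : p₀ ≤ RingHom.ker (algebraMap R' D₀))
    (hunit₀ : p₀.primeCompl ≤ (IsUnit.submonoid D₀).comap (algebraMap R' D₀)) :
    Module.Flat D₀ (D₀ ⊗[B₁] M₁) := by
  let κ₀ := p₀.ResidueField
  let κ := p.ResidueField
  let κD : κ₀ →+* D₀ := Ideal.ResidueField.lift p₀ (algebraMap R' D₀) hker₀ hunit₀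
  letI := κD.toAlgebra
  haveI : IsScalarTower R' κ₀ D₀ := IsScalarTower.of_algebraMap_eq fun r =>
    (Ideal.ResidueField.lift_algebraMap p₀ (algebraMap R' D₀) hker₀ hunit₀ r).symm
  letI : Algebra κ₀ κ := (Ideal.ResidueField.mapₐ p₀ p (Algebra.ofId R' A) hlies.over).toRingHom.toAlgebra
  haveI : IsScalarTower R' κ₀ κ := IsScalarTower.of_algebraMap_eq fun r =>
    ((Ideal.ResidueField.mapₐ p₀ p (Algebra.ofId R' A) hlies.over).commutes r).symm
  let D' := D₀ ⊗[κ₀] κ
  let ρA : A →+* D' := (Algebra.TensorProduct.includeRight (R := κ₀) (A := D₀) (B := κ)).toRingHom.comp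
    (algebraMap A κ)
  obtain ⟨χ, hχA, hχB⟩ := huniv D' ρA ((algebraMap D₀ D').comp (algebraMap B₁ D₀)) (RingHom.ext fun c => by
    show (1 : D₀) ⊗ₜ[κ₀] algebraMap A κ (algebraMap R' A c) =
      (algebraMap B₁ D₀ (algebraMap R' B₁ c)) ⊗ₜ[κ₀] (1 : κ)
    rw [← IsScalarTower.algebraMap_apply R' B₁ D₀, ← IsScalarTower.algebraMap_apply R' A κ,
      IsScalarTower.algebraMap_apply R' κ₀ D₀, IsScalarTower.algebraMap_apply R' κ₀ κ,
      Algebra.algebraMap_eq_smul_one, Algebra.algebraMap_eq_smul_one (A := D₀),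
      TensorProduct.smul_tmul])
  letI : Algebra A D' := ρA.toAlgebra
  let χA : B →ₐ[A] D' :=
    { χ with
      commutes' := fun a => DFunLike.congr_fun hχA a }
  let κA : κ →ₐ[A] D' :=
    { (Algebra.TensorProduct.includeRight (R := κ₀) (A := D₀) (B := κ)).toRingHom with
      commutes' := fun a => rfl }
  let θ : B ⊗[A] κ →ₐ[A] D' := Algebra.TensorProduct.lift χA κA fun _ _ => Commute.all _ _
  letI := θ.toRingHom.toAlgebra
  letI := χ.toAlgebra
  haveI : IsScalarTower B (B ⊗[A] κ) D' := IsScalarTower.of_algebraMap_eq fun b => by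
    show χ b = θ (b ⊗ₜ[A] (1 : κ))
    simp [θ, χA]
  haveI : IsScalarTower B₁ B D' := IsScalarTower.of_algebraMap_eq fun b => by
    show algebraMap B₁ D' b = χ (algebraMap B₁ B b)
    rw [IsScalarTower.algebraMap_apply B₁ D₀ D']
    exact (DFunLike.congr_fun hχB b).symm
  haveI := hfib
  haveI : Module.Flat D' (D' ⊗[B] M) :=
    Module.Flat.of_linearEquiv (AlgebraTensorModule.cancelBaseChange B (B ⊗[A] κ) D' D' M).symm
  haveI : Module.Flat D' (D' ⊗[B₁] M₁) := Module.Flat.of_linearEquiv
    ((AlgebraTensorModule.cancelBaseChange B₁ B D' D' M₁).symm ≪≫ₗ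
      AlgebraTensorModule.congr (LinearEquiv.refl D' D') eM)
  haveI : Module.Flat D' (D' ⊗[D₀] (D₀ ⊗[B₁] M₁)) :=
    Module.Flat.of_linearEquiv (AlgebraTensorModule.cancelBaseChange B₁ D₀ D' D' M₁)
  exact Module.Flat.of_flat_tensorProduct D₀ _ D'

/-- The fibre criterion for a pushout of a Noetherian stage. -/
theorem flat_of_pushout_fibres {A R' B₁ B : Type u} [CommRing A] [CommRing R'] [CommRing B₁]
    [IsNoetherianRing B₁] [CommRing B] [Algebra R' A] [Algebra R' B₁] [Algebra A B] [Algebra B₁ B]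
    [Algebra R' B] [IsScalarTower R' A B] [IsScalarTower R' B₁ B] (M₁ : Type u) [AddCommGroup M₁]
    [Module B₁ M₁] [Module R' M₁] [IsScalarTower R' B₁ M₁] [Module.Finite B₁ M₁] [Module.Flat R' M₁]
    (huniv : ∀ (D' : Type u) [CommRing D'] (f : A →+* D') (g : B₁ →+* D'),
      f.comp (algebraMap R' A) = g.comp (algebraMap R' B₁) →
      ∃ χ : B →+* D', χ.comp (algebraMap A B) = f ∧ χ.comp (algebraMap B₁ B) = g)
    {M : Type u} [AddCommGroup M] [Module B M] (eM : B ⊗[B₁] M₁ ≃ₗ[B] M)
    (hfib : ∀ (p : Ideal A) [p.IsPrime],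
      Module.Flat (B ⊗[A] p.ResidueField) ((B ⊗[A] p.ResidueField) ⊗[B] M)) : Module.Flat B M := by
  refine Module.flat_of_isLocalized_maximal (R := B) B M (fun P _ => Localization.AtPrime P ⊗[B] M)
    (fun P _ => TensorProduct.mk B (Localization.AtPrime P) M 1) fun q _ => ?_
  refine (Module.flat_iff_of_isLocalization (Localization.AtPrime q) q.primeCompl _).mp ?_
  let q₀ : Ideal B₁ := q.comap (algebraMap B₁ B)
  let p : Ideal A := q.comap (algebraMap A B)
  let p₀ : Ideal R' := q₀.comap (algebraMap R' B₁)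
  haveI hlies : p.LiesOver p₀ := ⟨by
    simp only [p, p₀, q₀, Ideal.under_def, Ideal.comap_comap, ← IsScalarTower.algebraMap_eq]⟩
  let B₀q := Localization.AtPrime q₀
  let I₀ : Ideal B₀q := p₀.map (algebraMap R' B₀q)
  have hker₀ : p₀ ≤ RingHom.ker (algebraMap R' (B₀q ⧸ I₀)) := fun r hr => by
    rw [RingHom.mem_ker, IsScalarTower.algebraMap_apply R' B₀q (B₀q ⧸ I₀)]
    show Ideal.Quotient.mk I₀ (algebraMap R' B₀q r) = 0
    rw [Ideal.Quotient.eq_zero_iff_mem]
    exact Ideal.mem_map_of_mem _ hr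
  have hunit₀ : p₀.primeCompl ≤ (IsUnit.submonoid (B₀q ⧸ I₀)).comap (algebraMap R' (B₀q ⧸ I₀)) := by
    intro r hr
    show IsUnit (algebraMap R' (B₀q ⧸ I₀) r)
    rw [IsScalarTower.algebraMap_apply R' B₀q (B₀q ⧸ I₀)]
    refine IsUnit.map _ ?_
    rw [IsScalarTower.algebraMap_apply R' B₁ B₀q]
    exact IsLocalization.map_units B₀q (⟨algebraMap R' B₁ r, hr⟩ : q₀.primeCompl)
  haveI h₀ : Module.Flat B₀q (B₀q ⊗[B₁] M₁) := flat_atPrime_of_fibre M₁ q₀ I₀ rfl
    (flat_fibre_stage huniv M₁ eM p p₀ (hfib p) (B₀q ⧸ I₀) hker₀ hunit₀)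
  let Bq := Localization.AtPrime q
  letI : Algebra B₀q Bq := (Localization.localRingHom q₀ q (algebraMap B₁ B) rfl).toAlgebra
  haveI : IsScalarTower B₁ B₀q Bq := IsScalarTower.of_algebraMap_eq fun b => by
    rw [RingHom.algebraMap_toAlgebra, Localization.localRingHom_to_map,
      ← IsScalarTower.algebraMap_apply]
  exact Module.Flat.of_linearEquiv
    (((AlgebraTensorModule.congr (LinearEquiv.refl Bq Bq) eM).symm ≪≫ₗ
      AlgebraTensorModule.cancelBaseChange B₁ B Bq Bq M₁) ≪≫ₗ
      (AlgebraTensorModule.cancelBaseChange B₁ B₀q Bq Bq M₁).symm)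

open Groth.L07.FlatDescent in
/-- Flatness from the fibres. -/
theorem flat_of_fibres (A B M : Type u) [CommRing A] [CommRing B] [Algebra A B]
    [Algebra.FinitePresentation A B] [AddCommGroup M] [Module B M] [Module A M]
    [IsScalarTower A B M] [Module.FinitePresentation B M] [Module.Flat A M]
    (hfib : ∀ (p : Ideal A) [p.IsPrime],
      Module.Flat (B ⊗[A] p.ResidueField) ((B ⊗[A] p.ResidueField) ⊗[B] M)) : Module.Flat B M := by
  classical
  obtain ⟨d, φ, hφ, hφker⟩ := Algebra.FinitePresentation.out (R := A) (A := B)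
  letI := φ.toRingHom.toAlgebra
  haveI : IsScalarTower A (MvPolynomial (Fin d) A) B :=
    IsScalarTower.of_algebraMap_eq fun a => (φ.commutes a).symm
  haveI : Module.FinitePresentation (MvPolynomial (Fin d) A) B :=
    Module.finitePresentation_of_surjective (Algebra.linearMap _ B) hφ hφker
  letI : Module (MvPolynomial (Fin d) A) M := Module.compHom M φ.toRingHom
  haveI : IsScalarTower (MvPolynomial (Fin d) A) B M :=
    ⟨fun p b m => by rw [Algebra.smul_def, mul_smul]; rfl⟩
  haveI : IsScalarTower A (MvPolynomial (Fin d) A) M :=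
    ⟨fun a p m => by
      show φ (a • p) • m = a • φ p • m
      rw [map_smul, smul_assoc]⟩
  haveI : Module.FinitePresentation (MvPolynomial (Fin d) A) M :=
    Module.FinitePresentation.trans (MvPolynomial (Fin d) A) M B
  obtain ⟨n, L, e₀, hL⟩ := Module.FinitePresentation.exists_fin (MvPolynomial (Fin d) A) M
  let π : F d n A →ₗ[MvPolynomial (Fin d) A] M := e₀.symm.toLinearMap ∘ₗ L.mkQ
  have hπ : Function.Surjective π := e₀.symm.surjective.comp (Submodule.mkQ_surjective L)
  have hπker : ∀ y, π y = 0 ↔ y ∈ L := fun y => by simp [π, Submodule.Quotient.mk_eq_zero]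
  obtain ⟨G, hG⟩ := hL
  obtain ⟨Gi, hGi⟩ := hφker
  let W : Finset A := (G.biUnion fun y => (supp y).image (co y)) ∪ Gi.biUnion fun g => g.coeffs
  let R := Algebra.adjoin ℤ (W : Set A)
  haveI : IsNoetherianRing R := by
    haveI : Algebra.FiniteType ℤ R := R.fg_iff_finiteType.mp ⟨W, rfl⟩
    exact Algebra.FiniteType.isNoetherianRing ℤ R
  have hlift : ∀ y ∈ G, ∃ z : F d n R, ψ A z = y := by
    intro y hy
    have : ∀ i, y i ∈ Set.range (MvPolynomial.map (algebraMap R A)) := fun i => by
      rw [MvPolynomial.mem_range_map_iff_coeffs_subset]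
      intro c hc
      obtain ⟨m, hm, rfl⟩ := MvPolynomial.mem_coeffs_iff.mp hc
      exact ⟨⟨_, Algebra.subset_adjoin (Finset.mem_union_left _ (Finset.mem_biUnion.mpr ⟨y, hy,
        Finset.mem_image.mpr ⟨(i, m), Finset.mem_biUnion.mpr ⟨i, Finset.mem_univ _,
          Finset.mem_map.mpr ⟨m, hm, rfl⟩⟩, rfl⟩⟩))⟩, rfl⟩
    choose z hz using this
    exact ⟨z, funext hz⟩
  choose! z hz using hlift
  have hlifti : ∀ g ∈ Gi, ∃ g' : MvPolynomial (Fin d) R, MvPolynomial.map (algebraMap R A) g' = g := by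
    intro g hg
    rw [← Set.mem_range, MvPolynomial.mem_range_map_iff_coeffs_subset]
    intro c hc
    exact ⟨⟨c, Algebra.subset_adjoin (Finset.mem_union_right _ (Finset.mem_biUnion.mpr ⟨g, hg, hc⟩))⟩, rfl⟩
  choose! gi hgi using hlifti
  let K : Submodule (MvPolynomial (Fin d) R) (F d n R) := Submodule.span _
    (z '' (G : Set (F d n A)) ∪
      Set.image2 (fun g (j : Fin n) => gi g • (Pi.single j 1 : F d n R)) (Gi : Set (MvPolynomial (Fin d) A))
        Set.univ)
  have hKL : (KC A K : Submodule A (F d n A)) = L.restrictScalars A := by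
    apply le_antisymm
    · rw [KC, Submodule.span_le]
      rintro _ ⟨k, hk, rfl⟩
      refine Submodule.span_induction (p := fun k _ => ψ A k ∈ L) ?_ (by simp) ?_ ?_ hk
      · rintro _ (⟨y, hy, rfl⟩ | ⟨g, hg, j, -, rfl⟩)
        · rw [hz y hy, ← hG]; exact Submodule.subset_span hy
        · rw [ψ_poly_smul, hgi g hg, ← hπker, map_smul]
          show φ g • π _ = 0
          rw [show φ g = 0 from (hGi ▸ Ideal.subset_span hg : g ∈ RingHom.ker φ.toRingHom), zero_smul]
      · intro a b _ _ ha hb; rw [map_add]; exact add_mem ha hb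
      · intro c a _ ha; rw [ψ_poly_smul]; exact L.smul_mem _ ha
    · intro y hy
      rw [Submodule.restrictScalars_mem, ← hG] at hy
      refine (Submodule.span_le (p := KP (C := A) K)).mpr ?_ hy
      intro g hg
      rw [← hz g hg]
      exact ψ_mem K (Submodule.subset_span (Or.inl ⟨g, hg, rfl⟩))
  haveI : Module.Flat A (MC A K) := Module.Flat.of_linearEquiv
    (Submodule.quotEquivOfEq _ _ hKL ≪≫ₗ Submodule.Quotient.restrictScalarsEquiv A L ≪≫ₗ
      e₀.symm.restrictScalars A)
  obtain ⟨R', hR', hflat⟩ := exists_fg_stage K A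
  haveI : Algebra.FiniteType R R' := R'.fg_iff_finiteType.mp hR'
  haveI : IsNoetherianRing R' := Algebra.FiniteType.isNoetherianRing R R'
  let gj : MvPolynomial (Fin d) A → MvPolynomial (Fin d) R' := fun g =>
    MvPolynomial.map (algebraMap R R') (gi g)
  have hgj : ∀ g ∈ Gi, MvPolynomial.map (algebraMap R' A) (gj g) = g := fun g hg => by
    simp only [gj, MvPolynomial.map_map, ← IsScalarTower.algebraMap_eq]
    exact hgi g hg
  let I₁ : Ideal (MvPolynomial (Fin d) R') := Ideal.span (gj '' (Gi : Set (MvPolynomial (Fin d) A)))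
  let K' : Submodule (MvPolynomial (Fin d) R') (F d n R') := KP (C := R') K
  let B₁ := MvPolynomial (Fin d) R' ⧸ I₁
  let M₁ := F d n R' ⧸ K'
  have htor : Module.IsTorsionBySet (MvPolynomial (Fin d) R') M₁ I₁ := by
    rintro x ⟨p, hp⟩
    obtain ⟨y, rfl⟩ := Submodule.mkQ_surjective _ x
    show p • K'.mkQ y = 0
    rw [← map_smul]
    refine (Submodule.Quotient.mk_eq_zero _).mpr ?_
    refine Submodule.span_induction (p := fun p _ => ∀ y : F d n R', p • y ∈ K') ?_
      (fun y => by rw [zero_smul]; exact zero_mem _)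
      (fun a b _ _ ha hb y => by rw [add_smul]; exact add_mem (ha y) (hb y))
      (fun c a _ ha y => by rw [smul_eq_mul, mul_smul]; exact K'.smul_mem c (ha y)) hp y
    rintro _ ⟨g, hg, rfl⟩ y
    rw [pi_eq_sum_univ' y, Finset.smul_sum]
    refine Submodule.sum_mem _ fun j _ => ?_
    rw [smul_comm]
    refine K'.smul_mem _ ?_
    have h1 : ψ R' (gi g • (Pi.single j 1 : F d n R)) ∈ KC R' K :=
      ψ_mem K (Submodule.subset_span (Or.inr ⟨g, hg, j, trivial, rfl⟩))
    have h2 : ψ R' (gi g • (Pi.single j 1 : F d n R)) = gj g • (Pi.single j 1 : F d n R') := by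
      rw [ψ_poly_smul]
      congr 1
      funext i
      rw [ψ_apply]
      by_cases hi : i = j
      · subst hi; simp
      · simp [Pi.single_eq_of_ne hi]
    rw [h2] at h1
    exact h1
  letI : Module B₁ M₁ := htor.module
  haveI : IsScalarTower (MvPolynomial (Fin d) R') B₁ M₁ := htor.isScalarTower
  haveI : IsScalarTower R' B₁ M₁ := htor.isScalarTower
  haveI : Module.Finite B₁ M₁ := Module.Finite.of_restrictScalars_finite (MvPolynomial (Fin d) R') B₁ M₁
  haveI : Module.Flat R' M₁ := Module.Flat.of_linearEquiv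
    ((Submodule.Quotient.restrictScalarsEquiv R' K').symm ≪≫ₗ Submodule.quotEquivOfEq _ _ rfl :
      M₁ ≃ₗ[R'] MC R' K)
  let Φ : MvPolynomial (Fin d) R' →+* B := φ.toRingHom.comp (MvPolynomial.map (algebraMap R' A))
  let ι : B₁ →+* B := Ideal.Quotient.lift I₁ Φ (fun p hp => by
    refine (Ideal.span_le (I := RingHom.ker Φ)).mpr ?_ hp
    rintro _ ⟨g, hg, rfl⟩
    show φ (MvPolynomial.map _ (gj g)) = 0
    rw [hgj g hg]
    exact (hGi ▸ Ideal.subset_span hg : g ∈ RingHom.ker φ.toRingHom))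
  letI := ι.toAlgebra
  letI : Module B₁ M := Module.compHom M ι
  haveI : IsScalarTower B₁ B M := ⟨fun r b m => by
    rw [Algebra.smul_def, mul_smul]; rfl⟩
  have hι : ∀ p, algebraMap B₁ B (Ideal.Quotient.mk I₁ p) = φ (MvPolynomial.map (algebraMap R' A) p) :=
    fun p => rfl
  -- comparison of the modules
  have hjwd : ∀ y ∈ K', π (ψ A y) = 0 := fun y hy =>
    (hπker _).mpr (by
      have : ψ A y ∈ KC A K := KC_KP K R' A ▸ ψ_mem K' hy
      rwa [hKL] at this)
  let j : M₁ →ₗ[B₁] M :=
    { toFun := fun x => Quotient.liftOn' x (fun y => π (ψ A y)) (fun a b hab => by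
        rw [← sub_eq_zero, ← map_sub, ← map_sub]
        exact hjwd _ ((Submodule.quotientRel_def _).mp hab))
      map_add' := fun x y => by
        obtain ⟨a, rfl⟩ := Submodule.mkQ_surjective _ x
        obtain ⟨b, rfl⟩ := Submodule.mkQ_surjective _ y
        show π (ψ A (a + b)) = π (ψ A a) + π (ψ A b)
        rw [map_add, map_add]
      map_smul' := fun c x => by
        obtain ⟨c, rfl⟩ := Ideal.Quotient.mk_surjective c
        obtain ⟨a, rfl⟩ := Submodule.mkQ_surjective _ x
        show π (ψ A (c • a)) = algebraMap B₁ B (Ideal.Quotient.mk I₁ c) • π (ψ A a)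
        rw [ψ_poly_smul, map_smul, hι]
        rfl }
  have hj : ∀ y, j (K'.mkQ y) = π (ψ A y) := fun y => rfl
  let fwd : B ⊗[B₁] M₁ →ₗ[B] M := LinearMap.liftBaseChange B j
  let β : F d n A → B ⊗[B₁] M₁ := fun y =>
    ∑ i, φ (y i) • ((1 : B) ⊗ₜ[B₁] K'.mkQ (Pi.single i 1 : F d n R'))
  have hψsingle : ∀ i, ψ A (Pi.single i 1 : F d n R') = (Pi.single i 1 : F d n A) := fun i => by
    funext k
    rw [ψ_apply]
    by_cases hk : k = i
    · subst hk; simp
    · simp [Pi.single_eq_of_ne hk]
  have hfwdβ : ∀ y, fwd (β y) = π y := by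
    intro y
    conv_rhs => rw [pi_eq_sum_univ' y]
    simp only [β, map_sum]
    refine Finset.sum_congr rfl fun i _ => ?_
    rw [map_smul, LinearMap.liftBaseChange_tmul, one_smul, hj, hψsingle, map_smul]
    rfl
  have hβψ : ∀ y : F d n R', β (ψ A y) = 1 ⊗ₜ[B₁] K'.mkQ y := by
    intro y
    conv_rhs => rw [pi_eq_sum_univ' y, map_sum, TensorProduct.tmul_sum]
    refine Finset.sum_congr rfl fun i _ => ?_
    rw [map_smul, ← algebraMap_smul B₁ (y i), Ideal.Quotient.algebraMap_eq, TensorProduct.tmul_smul,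
      ψ_apply, ← hι]
    exact algebraMap_smul B _ _
  have hnorm : ∀ x : B ⊗[B₁] M₁, ∃ y, β y = x := by
    intro x
    induction x using TensorProduct.induction_on with
    | zero => exact ⟨0, by simp [β]⟩
    | tmul b m =>
      obtain ⟨a, rfl⟩ := Submodule.mkQ_surjective _ m
      obtain ⟨c, rfl⟩ := hφ b
      refine ⟨c • ψ A a, ?_⟩
      have : β (c • ψ A a) = φ c • β (ψ A a) := by
        simp [β, Finset.smul_sum, smul_smul]
      rw [this, hβψ, TensorProduct.smul_tmul', smul_eq_mul, mul_one]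
    | add u v hu hv =>
      obtain ⟨a, rfl⟩ := hu
      obtain ⟨b, rfl⟩ := hv
      exact ⟨a + b, by simp [β, add_smul, Finset.sum_add_distrib]⟩
  have hfwd : Function.Bijective fwd := by
    constructor
    · rw [injective_iff_map_eq_zero]
      intro x hx
      obtain ⟨y, rfl⟩ := hnorm x
      rw [hfwdβ, hπker, ← hG] at hx
      refine Submodule.span_induction (p := fun y _ => β y = 0) ?_ (by simp [β])
        (fun a b _ _ ha hb => by
          have : β (a + b) = β a + β b := by simp [β, add_smul, Finset.sum_add_distrib]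
          rw [this, ha, hb, add_zero])
        (fun c a _ ha => by
          have : β (c • a) = φ c • β a := by simp [β, Finset.smul_sum, smul_smul]
          rw [this, ha, smul_zero]) hx
      intro g hg
      have h1 : ψ R' (z g) ∈ K' := ψ_mem K (Submodule.subset_span (Or.inl ⟨g, hg, rfl⟩))
      rw [← hz g hg, ← ψ_ψ R' A, hβψ, Submodule.mkQ_apply, (Submodule.Quotient.mk_eq_zero _).mpr h1,
        TensorProduct.tmul_zero]
    · intro m
      obtain ⟨y, rfl⟩ := hπ m
      exact ⟨β y, hfwdβ y⟩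
  let eM : B ⊗[B₁] M₁ ≃ₗ[B] M := LinearEquiv.ofBijective fwd hfwd
  -- pointwise
  haveI : IsScalarTower R' B₁ B := IsScalarTower.of_algebraMap_eq fun r => by
    show algebraMap R' B r = algebraMap B₁ B (Ideal.Quotient.mk I₁ (MvPolynomial.C r))
    rw [hι, MvPolynomial.map_C, ← MvPolynomial.algebraMap_eq, AlgHom.commutes,
      ← IsScalarTower.algebraMap_apply]
  refine flat_of_pushout_fibres (A := A) (R' := R') (B₁ := B₁) M₁ ?_ eM hfib
  intro D' _ f g hfg
  let v : Fin d → D' := fun k => g (Ideal.Quotient.mk I₁ (X k))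
  have hcomp : ∀ r : MvPolynomial (Fin d) R',
      eval₂ f v (MvPolynomial.map (algebraMap R' A) r) = g (Ideal.Quotient.mk I₁ r) := by
    intro r
    show ((eval₂Hom f v).comp (MvPolynomial.map (algebraMap R' A))) r =
      (g.comp (Ideal.Quotient.mk I₁)) r
    congr 1
    refine MvPolynomial.ringHom_ext (fun c => ?_) (fun k => ?_)
    · simp only [RingHom.comp_apply, MvPolynomial.map_C, coe_eval₂Hom, eval₂_C]
      exact DFunLike.congr_fun hfg c
    · simp [v]
  let χ : B →+* D' := RingHom.liftOfSurjective φ.toRingHom hφ ⟨eval₂Hom f v, by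
    rw [← hGi, Ideal.span_le]
    intro y hy
    show eval₂ f v y = 0
    rw [← hgj y hy, hcomp, show Ideal.Quotient.mk I₁ (gj y) = 0 from
      Ideal.Quotient.eq_zero_iff_mem.mpr (Ideal.subset_span ⟨y, hy, rfl⟩), map_zero]⟩
  have hχ : ∀ x, χ (φ x) = eval₂ f v x := fun x =>
    RingHom.liftOfSurjective_comp_apply φ.toRingHom hφ _ x
  refine ⟨χ, RingHom.ext fun a => ?_, RingHom.ext fun b => ?_⟩
  · rw [RingHom.comp_apply, ← φ.commutes, hχ, MvPolynomial.algebraMap_eq, eval₂_C]
  · obtain ⟨r, rfl⟩ := Ideal.Quotient.mk_surjective b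
    rw [RingHom.comp_apply, hι, hχ, hcomp]

end Groth.L07.FibreFlat
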