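import Groth.Agent.L07.SyntScheme
import Groth.Agent.L07.FibreDimSemi

/-! The fibre dimension of relative global complete intersections. -/

namespace Groth.L07.SyntDim

open CategoryTheory AlgebraicGeometry TopologicalSpace Topology PrimeSpectrum
open Groth.L07.Synt Groth.L07.SyntNhd

set_option linter.style.haveILetI false
set_option maxSynthPendingDepth 3

universe u

variable {R : Type u} [CommRing R] {n c : ℕ} {F : Fin c → MvPolynomial (Fin n) R}

/-- Nonempty fibres of principal localizations have the expected dimension. -/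
theorem dim_fibre_away (hF : Synt.IsRelGCI R n c F) (g : Synt.RelGCIRing R n c F) (p : PrimeSpectrum R)
    (hne : Nontrivial (p.asIdeal.Fiber (Localization.Away g))) :
    ringKrullDim (p.asIdeal.Fiber (Localization.Away g)) = ((n - c : ℕ) : WithBot ℕ∞) := by
  obtain ⟨h, rfl⟩ := Ideal.Quotient.mk_surjective g
  have hG : Synt.IsRelGCI R (n + 1) (c + 1) (awayRel F h) := by
    refine isRelGCI_awayRel_of_good F h fun P _ => good_of_dim F _ (hF _ ?_) P rfl
    exact PrimeSpectrum.nontrivial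
      (preimageEquivFiber R _ (comap (algebraMap R (MvPolynomial (Fin n) R ⧸ Ideal.span (Set.range F))) P) ⟨P, rfl⟩)
  obtain ⟨e⟩ := exists_away_equiv F h (Ideal.span (Set.range F)) (fun i => Ideal.subset_span ⟨i, rfl⟩)
    (fun y hy => Ideal.mul_mem_left _ h hy)
  let e' : p.asIdeal.Fiber (Localization.Away (Ideal.Quotient.mk (Ideal.span (Set.range F)) h)) ≃+*
      p.asIdeal.Fiber (Synt.RelGCIRing R (n + 1) (c + 1) (awayRel F h)) :=
    (Algebra.TensorProduct.congr (AlgEquiv.refl (R := R) (A₁ := p.asIdeal.ResidueField)) e).toRingEquiv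
  haveI := e'.symm.toEquiv.nontrivial
  obtain ⟨-, hd⟩ := hG p inferInstance
  rw [ringKrullDim_eq_of_ringEquiv e', hd, Nat.add_sub_add_right]

theorem fibreDimAt_spec (hF : Synt.IsRelGCI R n c F) (x : Spec (CommRingCat.of (Synt.RelGCIRing R n c F))) :
    FlatMor.fibreDimAt (Spec.map (CommRingCat.ofHom (algebraMap R (Synt.RelGCIRing R n c F)))) x =
      ((n - c : ℕ) : WithBot ℕ∞) := by
  let T := Synt.RelGCIRing R n c F
  let f : Spec (CommRingCat.of T) ⟶ Spec (CommRingCat.of R) := Spec.map (CommRingCat.ofHom (algebraMap R T))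
  let p : PrimeSpectrum R := comap (algebraMap R T) x
  have key : ∀ g : T, g ∉ (x : PrimeSpectrum T).asIdeal →
      topologicalKrullDim (((PrimeSpectrum.basicOpen g : Set (PrimeSpectrum T)) ∩
        comap (algebraMap R T) ⁻¹' {p} : Set (PrimeSpectrum T))) = ((n - c : ℕ) : WithBot ℕ∞) := by
    intro g hg
    let Tg := Localization.Away g
    let A : Set (PrimeSpectrum Tg) := comap (algebraMap R Tg) ⁻¹' {p}
    have hemb := PrimeSpectrum.localization_away_isOpenEmbedding Tg g
    have hr : Set.range (fun z : A => comap (algebraMap T Tg) z.1) =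
        (PrimeSpectrum.basicOpen g : Set (PrimeSpectrum T)) ∩ comap (algebraMap R T) ⁻¹' {p} := by
      rw [← PrimeSpectrum.localization_away_comap_range Tg g]
      ext w
      constructor
      · rintro ⟨⟨z, hz⟩, rfl⟩
        exact ⟨⟨z, rfl⟩, (comap_comp_apply (algebraMap R T) (algebraMap T Tg) z).symm.trans
          ((IsScalarTower.algebraMap_eq R T Tg) ▸ hz)⟩
      · rintro ⟨⟨z, rfl⟩, hz⟩
        refine ⟨⟨z, ?_⟩, rfl⟩
        show comap (algebraMap R Tg) z = p
        rw [IsScalarTower.algebraMap_eq R T Tg, comap_comp_apply]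
        exact hz
    rw [Groth.L22.SchemeDim.topologicalKrullDim_eq_of_isEmbedding (hemb.isEmbedding.comp IsEmbedding.subtypeVal) hr,
      (PrimeSpectrum.preimageHomeomorphFiber R Tg p).isHomeomorph.topologicalKrullDim_eq,
      PrimeSpectrum.topologicalKrullDim_eq_ringKrullDim]
    refine dim_fibre_away hF g p ?_
    obtain ⟨z, hz⟩ : x ∈ Set.range (comap (algebraMap T Tg)) := by
      rw [PrimeSpectrum.localization_away_comap_range Tg g]; exact hg
    refine PrimeSpectrum.nontrivial (preimageEquivFiber R Tg p ⟨z, ?_⟩)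
    show comap (algebraMap R Tg) z = p
    rw [IsScalarTower.algebraMap_eq R T Tg, comap_comp_apply, hz]
  refine le_antisymm ((Groth.L07.FibreDim.fibreDimAt_le_iff f x _).mpr ⟨⊤, trivial, ?_⟩) (not_lt.mp fun hlt => ?_)
  · refine le_of_eq (Eq.trans ?_ (key 1 ((x : PrimeSpectrum T).isPrime.one_notMem)))
    rw [PrimeSpectrum.basicOpen_one]
    rfl
  · obtain ⟨U, hxU, hU⟩ := (Groth.L07.FibreDim.fibreDimAt_le_iff f x _).mp le_rfl
    obtain ⟨_, ⟨g, rfl⟩, hxg, hgU⟩ := PrimeSpectrum.isTopologicalBasis_basic_opens.exists_subset_of_mem_open hxU U.2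
    exact absurd (((key g hxg).symm.le.trans (Groth.L22.SchemeDim.topologicalKrullDim_mono
      (Set.inter_subset_inter_left _ hgU))).trans hU) hlt.not_ge

/-- The local fibre dimension is local on source and target. -/
theorem fibreDimAt_congr {X S X' S' : Scheme.{u}} (f : X ⟶ S) (f' : X' ⟶ S') (j : X' ⟶ X) [IsOpenImmersion j]
    (i : S' ⟶ S) [IsOpenImmersion i] (w : j ≫ f = f' ≫ i) (x : X') :
    FlatMor.fibreDimAt f (j x) = FlatMor.fibreDimAt f' x := by
  have hfib : ∀ U : Set X', j '' (U ∩ f' ⁻¹' {f' x}) = j '' U ∩ f ⁻¹' {f (j x)} := fun U => by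
    have hw : ∀ z, f (j z) = i (f' z) := fun z => congrArg (fun m : X' ⟶ S => m z) w
    ext y
    constructor
    · rintro ⟨z, ⟨hz, hz'⟩, rfl⟩
      exact ⟨⟨z, hz, rfl⟩, show f (j z) = f (j x) by rw [hw, hw, show f' z = f' x from hz']⟩
    · rintro ⟨⟨z, hz, rfl⟩, hz'⟩
      exact ⟨z, ⟨hz, i.isOpenEmbedding.injective (((hw z).symm.trans hz').trans (hw x))⟩, rfl⟩
  have hdim : ∀ U : Set X', topologicalKrullDim (U ∩ f' ⁻¹' {f' x} : Set X') =
      topologicalKrullDim (j '' U ∩ f ⁻¹' {f (j x)} : Set X) := fun U => by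
    refine (Groth.L22.SchemeDim.topologicalKrullDim_eq_of_isEmbedding
      (j.isOpenEmbedding.isEmbedding.comp IsEmbedding.subtypeVal) ?_).symm
    rw [Set.range_comp, Subtype.range_coe, hfib]
  refine le_antisymm ?_ ?_
  · obtain ⟨U, hxU, hU⟩ := (Groth.L07.FibreDim.fibreDimAt_le_iff f' x _).mp le_rfl
    refine (Groth.L07.FibreDim.fibreDimAt_le_iff f (j x) _).mpr ⟨j ''ᵁ U, ⟨x, hxU, rfl⟩, ?_⟩
    rw [Scheme.Hom.coe_image, ← hdim]
    exact hU
  · obtain ⟨U, hxU, hU⟩ := (Groth.L07.FibreDim.fibreDimAt_le_iff f (j x) _).mp le_rfl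
    refine (Groth.L07.FibreDim.fibreDimAt_le_iff f' x _).mpr ⟨j ⁻¹ᵁ U, hxU, ?_⟩
    rw [hdim]
    exact (Groth.L22.SchemeDim.topologicalKrullDim_mono
      (Set.inter_subset_inter_left _ (Set.image_preimage_subset _ _))).trans hU

/-- The fibre dimension of a syntomic morphism is locally constant. -/
theorem isLocallyConstant {X S : Scheme.{u}} (f : X ⟶ S) (hf : Synt.IsSyntomicMor f) :
    IsLocallyConstant (fun x : ↑X => FlatMor.fibreDimAt f x) := by
  refine IsLocallyConstant.iff_exists_open _ |>.mpr fun x => ?_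
  obtain ⟨_, ⟨V, hV, rfl⟩, hxV, -⟩ := S.isBasis_affineOpens.exists_subset_of_mem_open
    (Set.mem_univ (f x)) isOpen_univ
  obtain ⟨U, e, hxU, R, _, n, c, F, hF, e₁, e₂, he⟩ := Groth.L07.SyntScheme.exists_standard f x ⟨V, hV⟩ hxV (hf x)
  refine ⟨U.1, U.1.2, hxU, fun y hy => ?_⟩
  have w : (e₁.inv ≫ U.1.ι) ≫ f =
      Spec.map (CommRingCat.ofHom (algebraMap R (Synt.RelGCIRing R n c F))) ≫ e₂.inv ≫ Scheme.Opens.ι V := by
    rw [Category.assoc, ← Scheme.Hom.resLE_comp_ι f e, Iso.inv_comp_eq, reassoc_of% he, Iso.hom_inv_id_assoc]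
  have key : ∀ (z : X), z ∈ U.1 → FlatMor.fibreDimAt f z = ((n - c : ℕ) : WithBot ℕ∞) := fun z hz => by
    have h1 := fibreDimAt_congr f _ (e₁.inv ≫ U.1.ι) (e₂.inv ≫ Scheme.Opens.ι V) w (e₁.hom ⟨z, hz⟩)
    rw [fibreDimAt_spec hF] at h1
    rw [← h1]
    congr 1
    exact (congrArg (fun m : (U.1 : Scheme.{u}) ⟶ X => m ⟨z, hz⟩) (e₁.hom_inv_id_assoc U.1.ι)).symm
  exact (key y hy).trans (key x hxU).symm

end Groth.L07.SyntDim
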