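import Groth.Agent.L07.DimFormulaApps
import Groth.Agent.L18.KerReduced

/-!
The dimension formula for closed irreducible subsets.
-/

universe u

open CategoryTheory CategoryTheory.Limits AlgebraicGeometry TopologicalSpace Topology

namespace Groth.L07.DimToolkit

open Groth.L22 Groth.L07.Equidim Groth.L07.EquidimQF

set_option maxSynthPendingDepth 3
set_option linter.style.haveILetI false
set_option backward.isDefEq.respectTransparency.types false
set_option backward.isDefEq.respectTransparency false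

variable {X Y : Scheme.{u}}

theorem range_subschemeι_vanishingIdeal (X' : Closeds X) :
    Set.range (Scheme.IdealSheafData.vanishingIdeal X').subschemeι = (X' : Set X) := by
  rw [Scheme.IdealSheafData.range_subschemeι, Groth.L18.support_vanishingIdeal]

theorem irreducible_of_range_eq {Z : Scheme.{u}} (i : Z ⟶ X) [IsClosedImmersion i] (ξ : X)
    (hS : Set.range i = closure {ξ}) : ∃ _ : IrreducibleSpace Z, i (genericPoint Z) = ξ := by
  obtain ⟨z, hz⟩ : ξ ∈ Set.range i := hS ▸ subset_closure rfl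
  have hgen : IsGenericPoint z (Set.univ : Set Z) := by
    show closure {z} = Set.univ
    rw [i.isClosedEmbedding.isInducing.closure_eq_preimage_closure_image, Set.image_singleton, hz]
    exact Set.eq_univ_of_forall fun w => show i w ∈ closure {ξ} from hS ▸ ⟨w, rfl⟩
  have h : IsIrreducible (Set.univ : Set Z) := hgen.def ▸ isIrreducible_singleton.closure
  haveI hI : IrreducibleSpace Z := { isPreirreducible_univ := h.2, toNonempty := ⟨z⟩ }
  exact ⟨hI, (congrArg i ((genericPoint_spec Z).eq hgen)).trans hz⟩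

/-- The dimensions attached to an irreducible closed subset at one of its points. -/
theorem sub_data [IsLocallyNoetherian Y] (f : X ⟶ Y) [LocallyOfFiniteType f] (x : X) (X' : Closeds X)
    (hirr : IsIrreducible (X' : Set X))
    (w : ↥(Scheme.IdealSheafData.vanishingIdeal X').subscheme)
    (hw : (Scheme.IdealSheafData.vanishingIdeal X').subschemeι.base w = x)
    (v : ↥(Scheme.IdealSheafData.vanishingIdeal
      (⟨closure (f.base '' (X' : Set X)), isClosed_closure⟩ : Closeds Y)).subscheme)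
    (hv : (Scheme.IdealSheafData.vanishingIdeal
      (⟨closure (f.base '' (X' : Set X)), isClosed_closure⟩ : Closeds Y)).subschemeι.base v = f.base x)
    (η' : Y) (hη' : closure ({η'} : Set Y) = closure (f.base '' (X' : Set X))) :
    ∃ dA dA' dB' a b b' e' : ℕ,
      ringKrullDim (Y.presheaf.stalk (f.base x)) = (dA : WithBot ℕ∞) ∧
      ringKrullDim ((Scheme.IdealSheafData.vanishingIdeal
        (⟨closure (f.base '' (X' : Set X)), isClosed_closure⟩ : Closeds Y)).subscheme.presheaf.stalk v) =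
          (dA' : WithBot ℕ∞) ∧
      ringKrullDim ((Scheme.IdealSheafData.vanishingIdeal X').subscheme.presheaf.stalk w) = (dB' : WithBot ℕ∞) ∧
      ringKrullDim ((f.fiber (f.base x)).presheaf.stalk (f.asFiber x)) = (b : WithBot ℕ∞) ∧
      ringKrullDim ((((Scheme.IdealSheafData.vanishingIdeal X').subschemeι ≫ f).fiber
        (((Scheme.IdealSheafData.vanishingIdeal X').subschemeι ≫ f).base w)).presheaf.stalk
          (((Scheme.IdealSheafData.vanishingIdeal X').subschemeι ≫ f).asFiber w)) = (b' : WithBot ℕ∞) ∧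
      topologicalKrullDim ↥((X' : Set X) ∩ f.base ⁻¹' {η'}) = (e' : WithBot ℕ∞) ∧
      FlatMor.fibreDimAt f x = ((a + b : ℕ) : WithBot ℕ∞) ∧
      FlatMor.fibreDimAt ((Scheme.IdealSheafData.vanishingIdeal X').subschemeι ≫ f) w =
        ((a + b' : ℕ) : WithBot ℕ∞) ∧
      dA' ≤ dA ∧ b' ≤ b ∧ e' ≤ a + b' ∧ dB' + a ≤ dA' + e' := by
  haveI : IsLocallyNoetherian X := LocallyOfFiniteType.isLocallyNoetherian f
  let i := (Scheme.IdealSheafData.vanishingIdeal X').subschemeι
  let j := (Scheme.IdealSheafData.vanishingIdeal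
    (⟨closure (f.base '' (X' : Set X)), isClosed_closure⟩ : Closeds Y)).subschemeι
  change i w = x at hw
  change j v = f x at hv
  haveI := LocallyOfFiniteType.isLocallyNoetherian i
  haveI := LocallyOfFiniteType.isLocallyNoetherian j
  obtain ⟨ξ, hξ⟩ := QuasiSober.sober hirr X'.isClosed
  have hri : Set.range i = closure {ξ} := (range_subschemeι_vanishingIdeal X').trans hξ.def.symm
  obtain ⟨_, hgi⟩ := irreducible_of_range_eq i ξ hri
  have hrj : Set.range j = closure {η'} := (range_subschemeι_vanishingIdeal _).trans hη'.symm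
  obtain ⟨_, hgj⟩ := irreducible_of_range_eq j η' hrj
  have hfξ : f ξ = η' := by
    have h1 : closure {f ξ} = closure (f.base '' (X' : Set X)) :=
      (closure_image_closure' f.continuous ξ).symm.trans (by rw [hξ.def])
    exact (show IsGenericPoint (f ξ) (closure {η'}) from h1.trans hη'.symm).eq rfl
  have hξx : i (genericPoint _) ⤳ i w := ((genericPoint_spec _).specializes trivial).map i.continuous
  have hξx' : ξ ⤳ x := by rwa [hgi, hw] at hξx
  have hηx : j (genericPoint _) ⤳ j v := ((genericPoint_spec _).specializes trivial).map j.continuous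
  obtain ⟨A, B, n, N, hA, hB, hn, hN, hle, -⟩ := formula f hξx'
  obtain ⟨a, b, ha, hb, hab⟩ := exists_fibreDimAt f x
  obtain ⟨a', b', ha', hb', hab'⟩ := exists_fibreDimAt (i ≫ f) w
  obtain ⟨dA, hdA⟩ := exists_nat_dim_stalk (f x)
  obtain rfl : a = n := by exact_mod_cast ha.symm.trans hn
  rw [fdim_comp i f (i ≫ f) rfl, hw, ha] at ha'
  obtain rfl : a = a' := by exact_mod_cast ha'
  have hdB' : ringKrullDim ((Scheme.IdealSheafData.vanishingIdeal X').subscheme.presheaf.stalk w) =
      (A : WithBot ℕ∞) := by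
    rw [dim_stalk_closedImmersion i w hξx, ← hA,
      dim_locQuot_congr hw _ (hgi ▸ hξx'), dim_locQuot_congr' hgi _ hξx']
  have hdA' : ringKrullDim ((Scheme.IdealSheafData.vanishingIdeal
      (⟨closure (f.base '' (X' : Set X)), isClosed_closure⟩ : Closeds Y)).subscheme.presheaf.stalk v) =
      (B : WithBot ℕ∞) := by
    rw [dim_stalk_closedImmersion j v hηx, ← hB,
      dim_locQuot_congr hv _ (by rw [← hv]; exact hηx),
      dim_locQuot_congr' (hgj.trans hfξ.symm) _ (hξx'.map f.continuous)]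
  have hB' : B ≤ dA := by exact_mod_cast hB.symm.le.trans ((dim_locQuot_le _ _ _).trans hdA.le)
  have h1 := fibreDimAt_comp_le i f w
  rw [hw, hab, hab'] at h1
  have h1' : a + b' ≤ a + b := by exact_mod_cast h1
  have hN' : topologicalKrullDim ↥((X' : Set X) ∩ f.base ⁻¹' {η'}) = (N : WithBot ℕ∞) := by
    rw [← hN, fdim, hξ.def, hfξ]
  have h2 := fdim_le_fibreDimAt_of_specializes (i ≫ f) (x := w) ((genericPoint_spec _).specializes trivial)
  rw [fdim_comp i f (i ≫ f) rfl, hgi, hN, hab'] at h2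
  have h2' : N ≤ a + b' := by exact_mod_cast h2
  exact ⟨dA, B, A, a, b, b', N, hdA, hdA', hdB', hb, hb', hN', hab, hab', hB', by omega, h2', hle⟩

/-- Ideals outside all minimal primes cut down the dimension. -/
theorem dim_quotient_succ_le {R : Type u} [CommRing R] [IsNoetherianRing R] {I : Ideal R} (hI : I ≠ ⊤)
    (h : ∀ p ∈ minimalPrimes R, ¬ I ≤ p) : ringKrullDim (R ⧸ I) + 1 ≤ ringKrullDim R := by
  obtain ⟨r, hrI, hr⟩ : ∃ r ∈ I, ∀ p ∈ minimalPrimes R, r ∉ p := by
    by_contra hcon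
    push Not at hcon
    have hsub : (I : Set R) ⊆ ⋃ p ∈ minimalPrimes R, (p : Set R) := fun r hr => by
      obtain ⟨p, hp, hrp⟩ := hcon r hr
      exact Set.mem_biUnion hp hrp
    obtain ⟨p, hp, hle⟩ := (Ideal.subset_union_prime_finite (minimalPrimes.finite_of_isNoetherianRing R) (⊥ : Ideal R) ⊥
      fun p hp _ _ => hp.1.1).mp hsub
    exact h p hp hle
  have hle : Ideal.span {r} ≤ I := (Ideal.span_singleton_le_iff_mem (I := I)).mpr hrI
  refine le_trans (add_le_add (ringKrullDim_le_of_surjective (Ideal.Quotient.factor hle)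
    (Ideal.Quotient.factor_surjective hle)) le_rfl)
    (Groth.L07.OpenDim.ringKrullDim_quotient_succ_le hr fun h' => hI (top_le_iff.mp (h' ▸ hle)))

/-- A point off the maximal point of the base: the fibre has smaller local dimension. -/
theorem fibre_dim_succ_le [IsLocallyNoetherian Y] (f : X ⟶ Y) [LocallyOfFiniteType f] (x : X)
    (h : ∀ ξ, ξ ⤳ x → (∀ q, q ⤳ ξ → q = ξ) → f ξ ≠ f x) :
    ringKrullDim ((f.fiber (f x)).presheaf.stalk (f.asFiber x)) + 1 ≤ ringKrullDim (X.presheaf.stalk x) := by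
  haveI : IsLocallyNoetherian X := LocallyOfFiniteType.isLocallyNoetherian f
  rw [Groth.L07.OpenDim.fibre_ringKrullDim]
  haveI : IsLocalHom (f.stalkMap x).hom := f.toLRSHom.prop x
  refine dim_quotient_succ_le (fun htop => ?_) fun p hp hle => ?_
  · refine (IsLocalRing.maximalIdeal.isMaximal (X.presheaf.stalk x)).ne_top (top_le_iff.mp ?_)
    rw [← htop, Ideal.map_le_iff_le_comap]
    exact fun a ha hu => ha ((isUnit_map_iff (f.stalkMap x).hom a).mp hu)
  · haveI := hp.1.1
    let P : PrimeSpectrum (X.presheaf.stalk x) := ⟨p, hp.1.1⟩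
    refine h _ (Groth.L07.EquidimPoint.specializes_point x P)
      ((Groth.L07.EquidimPoint.minimal_stalk_iff x P).mp
        ((Groth.L07.EquidimPoint.minimalPrimes_iff P).mp hp)) ?_
    rw [← Scheme.Hom.comp_apply, ← Scheme.SpecMap_stalkMap_fromSpecStalk, Scheme.Hom.comp_apply]
    refine Eq.trans ?_ (Y.fromSpecStalk_closedPoint (x := f x))
    refine congrArg _ (PrimeSpectrum.ext ?_)
    exact ((IsLocalRing.maximalIdeal.isMaximal _).eq_of_le (Ideal.IsPrime.ne_top inferInstance)
      (Ideal.map_le_iff_le_comap.mp hle)).symm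

/-- Over an irreducible base: fibre dimensions near a point of equidimensionality. -/
theorem equidim_data [IsLocallyNoetherian Y] (f : X ⟶ Y) [LocallyOfFiniteType f]
    (x : X) (h : EGA43.IsEquidimAt f x) :
    ∃ e : ℕ, ∀ p, p ⤳ x → FlatMor.fibreDimAt f p = (e : WithBot ℕ∞) ∧
      ∀ ξ, ξ ⤳ p → (∀ q, q ⤳ ξ → q = ξ) → (∀ η, η ⤳ f ξ → η = f ξ) ∧ fdim f ξ = (e : WithBot ℕ∞) := by
  obtain ⟨e, D, g, hxD, hg, hqf, hmaxg⟩ := exists_qf_of_isEquidimAt f x h
  haveI := hqf
  let pr := 𝔸(ULift.{u} (Fin e); Y) ↘ Y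
  haveI : LocallyOfFiniteType (g ≫ pr) := hg ▸ inferInstance
  haveI : LocallyOfFiniteType g := locallyOfFiniteType_of_comp g pr
  have hfd : ∀ w : (D : Scheme.{u}), fdim f (D.ι w) = fdim pr (g w) := fun w => by
    rw [← fdim_comp D.ι f (D.ι ≫ f) rfl, fdim_comp g pr _ hg]
  have hup : ∀ z : X, z ∈ D → fdim f z ≤ (e : WithBot ℕ∞) := fun z hz => by
    have h2 := Groth.L07.OpenEquiv.fdim_affineSpace_le (g ⟨z, hz⟩)
    rw [← hfd] at h2
    refine le_trans h2 (le_of_eq ?_)
    simp
  refine ⟨e, fun p hp => ?_⟩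
  have hξdata : ∀ ξ, ξ ⤳ p → (∀ q, q ⤳ ξ → q = ξ) →
      (∀ η, η ⤳ f ξ → η = f ξ) ∧ fdim f ξ = (e : WithBot ℕ∞) := by
    intro ξ hξ hmax
    have hξD : ξ ∈ D := (hξ.trans hp).mem_open D.2 hxD
    obtain ⟨hm, -⟩ := hmaxg ⟨ξ, hξD⟩ ((maximal_openImmersion_iff D.ι ⟨ξ, hξD⟩).mpr hmax)
    obtain ⟨hη, hgen⟩ := (affineSpace_maximal_iff _ _).mp hm
    have hpr : ∀ w : (D : Scheme.{u}), pr (g w) = f (D.ι w) := fun w => by
      rw [← Scheme.Hom.comp_apply, hg, Scheme.Hom.comp_apply]
    refine ⟨fun η' hη' => ?_, ?_⟩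
    · have h1 := hη η' (by rw [hpr]; exact hη')
      rwa [hpr] at h1
    · rw [show ξ = D.ι ⟨ξ, hξD⟩ from rfl, hfd]
      have h2 : fdim pr (g ⟨ξ, hξD⟩) = topologicalKrullDim ↥(pr.fiber (pr (g ⟨ξ, hξD⟩))) := by
        refine SchemeDim.topologicalKrullDim_eq_of_isEmbedding (pr.fiberι _).isEmbedding ?_ |>.trans rfl
        rw [pr.range_fiberι]
        exact Set.ext fun q => ⟨fun hq => ⟨specializes_iff_mem_closure.mp (hgen q hq), hq⟩, fun hq => hq.2⟩
      rw [h2, dim_fiber_affineSpace]
      simp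
  refine ⟨le_antisymm ?_ ?_, hξdata⟩
  · obtain ⟨z, hzp, -, -, hzd⟩ := Groth.L07.OpenEquiv.exists_maximal_fdim_eq f p
    rw [← hzd]
    exact hup z ((hzp.trans hp).mem_open D.2 hxD)
  · obtain ⟨ξ, hξ, hξmax⟩ := exists_maximal_generization p
    exact (hξdata ξ hξ hξmax).2.symm.le.trans (fdim_le_fibreDimAt_of_specializes f hξ)

/-- EGA IV 13.3.?: closed irreducible subsets of the expected codimension and fibre dimension. -/
theorem sub_equidim [IrreducibleSpace Y] [IsLocallyNoetherian Y] (f : X ⟶ Y) [LocallyOfFiniteType f]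
    (x : X) (hf : EGA43.IsEquidimAt f x) (X' : Closeds X) (x' : X)
    (hx' : closure ({x'} : Set X) = (X' : Set X)) (hx : x ∈ X') (n : ℕ)
    (hcodim : ringKrullDim (X.presheaf.stalk x') ≤ n)
    (hdim : FlatMor.localDim ↥((X' : Set X) ∩ f.base ⁻¹' {f.base x}) ⟨x, ⟨hx, rfl⟩⟩ + n ≤
      FlatMor.fibreDimAt f x) :
    ringKrullDim (X.presheaf.stalk x') = n ∧
      FlatMor.localDim ↥((X' : Set X) ∩ f.base ⁻¹' {f.base x}) ⟨x, ⟨hx, rfl⟩⟩ + n = FlatMor.fibreDimAt f x ∧
      ∀ w : ↥(Scheme.IdealSheafData.vanishingIdeal X').subscheme,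
        (Scheme.IdealSheafData.vanishingIdeal X').subschemeι.base w = x →
        EGA43.IsEquidimAt ((Scheme.IdealSheafData.vanishingIdeal X').subschemeι ≫ f) w := by
  haveI : IsLocallyNoetherian X := LocallyOfFiniteType.isLocallyNoetherian f
  let i := (Scheme.IdealSheafData.vanishingIdeal X').subschemeι
  have hri : Set.range i = closure {x'} := (range_subschemeι_vanishingIdeal X').trans hx'.symm
  obtain ⟨_, hgi⟩ := irreducible_of_range_eq i x' hri
  have hx'x : x' ⤳ x := specializes_iff_mem_closure.mpr (hx' ▸ hx)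
  obtain ⟨w₀, hw₀⟩ : x ∈ Set.range i := by rw [range_subschemeι_vanishingIdeal]; exact hx
  obtain ⟨e, he⟩ := equidim_data f x hf
  obtain ⟨a, b, ha, hb, hab⟩ := exists_fibreDimAt f x'
  obtain ⟨hex', hξdata⟩ := he x' hx'x
  rw [hex'] at hab
  have hab' : e = a + b := by exact_mod_cast hab
  obtain ⟨L, hL⟩ := Groth.L07.OpenEquiv.exists_nat_fibreDimAt (i ≫ f) w₀
  have hloc := localDim_eq_fibreDimAt_comp i f w₀ X' (range_subschemeι_vanishingIdeal X') x hw₀ ⟨hx, rfl⟩
  rw [hL] at hloc
  rw [hloc, (he x (specializes_refl x)).1] at hdim ⊢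
  have hdim' : L + n ≤ e := by exact_mod_cast hdim
  have haL : a ≤ L := by
    have h2 := fdim_le_fibreDimAt_of_specializes (i ≫ f) (x := w₀) ((genericPoint_spec _).specializes trivial)
    rw [fdim_comp i f (i ≫ f) rfl, hgi, ha, hL] at h2
    exact_mod_cast h2
  obtain ⟨d, hd⟩ := exists_nat_dim_stalk x'
  rw [hd] at hcodim
  have hdn : d ≤ n := by exact_mod_cast hcodim
  have hbd : b ≤ d := by
    have h3 : ringKrullDim ((f.fiber (f.base x')).presheaf.stalk (f.asFiber x')) ≤
        ringKrullDim (X.presheaf.stalk x') := by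
      rw [Groth.L07.OpenDim.fibre_ringKrullDim]
      exact ringKrullDim_quotient_le _
    rw [hd] at h3
    change ringKrullDim ((f.fiber (f x')).presheaf.stalk (f.asFiber x')) ≤ _ at h3
    rw [hb] at h3
    exact_mod_cast h3
  have hη : ∀ η, η ⤳ f x' → η = f x' := by
    by_contra hcon
    have h4 := fibre_dim_succ_le f x' fun ξ hξ hmax heq => hcon (heq ▸ (hξdata ξ hξ hmax).1)
    rw [hb, hd] at h4
    have h4' : b + 1 ≤ d := by exact_mod_cast h4
    omega
  refine ⟨by rw [hd, show d = n by omega], by exact_mod_cast (show L + n = e by omega), fun w hw => ?_⟩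
  obtain rfl : w = w₀ := i.isEmbedding.injective (hw.trans hw₀.symm)
  refine isEquidimAt_of_components (i ≫ f) w L hL.le fun ξ hξ hmax => ?_
  obtain rfl := hmax _ ((genericPoint_spec _).specializes trivial)
  refine ⟨?_, ?_⟩
  · rw [Scheme.Hom.comp_apply, hgi]; exact hη
  · rw [fdim_comp i f (i ≫ f) rfl, hgi, ha]
    exact_mod_cast (show L ≤ a by omega)

end Groth.L07.DimToolkit
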