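import Groth.Agent.L07.GrFlatBase

/-! Syzygies of flat finitely presented modules are finitely presented. -/

namespace Groth.L07.FlatDescent

open MvPolynomial TensorProduct

set_option linter.style.haveILetI false
set_option maxSynthPendingDepth 3

universe u

/-- The kernel of a surjection between flat modules is flat. -/
theorem flat_ker {R : Type u} [CommRing R] {M N : Type u} [AddCommGroup M] [AddCommGroup N] [Module R M]
    [Module R N] [Module.Flat R M] [Module.Flat R N] (g : M →ₗ[R] N) (hg : Function.Surjective g) :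
    Module.Flat R (LinearMap.ker g) := by
  rw [Module.Flat.iff_rTensor_injective]
  intro I _
  have h1 : Function.Injective ((LinearMap.ker g).subtype.lTensor ↥I) :=
    LinearMap.lTensor_injective_of_exact_of_flat (P := N) g hg (LinearMap.ker g).subtype
      (Submodule.injective_subtype _) (LinearMap.exact_subtype_ker_map g) ↥I
  have h2 : Function.Injective (I.subtype.rTensor M) :=
    Module.Flat.rTensor_preserves_injective_linearMap _ I.injective_subtype
  have h3 : ((LinearMap.ker g).subtype.lTensor R) ∘ₗ I.subtype.rTensor (LinearMap.ker g) =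
      I.subtype.rTensor M ∘ₗ (LinearMap.ker g).subtype.lTensor ↥I := by
    rw [LinearMap.lTensor_comp_rTensor, LinearMap.rTensor_comp_lTensor]
  intro a b hab
  apply h1
  apply h2
  rw [← LinearMap.comp_apply, ← h3, ← LinearMap.comp_apply, ← h3, LinearMap.comp_apply,
    LinearMap.comp_apply, hab]

variable {d n m : ℕ}

/-- The map given by a family of vectors. -/
noncomputable def Lc {C : Type u} [CommRing C] (z : Fin m → F d n C) :
    F d m C →ₗ[MvPolynomial (Fin d) C] F d n C :=
  ∑ i, (LinearMap.proj i).smulRight (z i)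

theorem Lc_apply {C : Type u} [CommRing C] (z : Fin m → F d n C) (y : F d m C) :
    Lc z y = ∑ i, y i • z i := by
  simp [Lc]

/-- Kernels commute with scalar extension when the cokernel is flat. -/
theorem ker_le_KC {C A : Type u} [CommRing C] [CommRing A] [Algebra C A] (z : Fin m → F d n C)
    [Module.Flat C (F d n C ⧸ (LinearMap.range (Lc z)).restrictScalars C)] {y : F d m A}
    (hy : Lc (fun i => ψ A (z i)) y = 0) : y ∈ KC A (LinearMap.ker (Lc z)) := by
  let ΦC : F d m C →ₗ[C] F d n C := (Lc z).restrictScalars C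
  let ΦA : F d m A →ₗ[A] F d n A := (Lc fun i => ψ A (z i)).restrictScalars A
  obtain ⟨t, rfl⟩ := (Θ_bijective (C := C) (d := d) (n := m) A).2 y
  have hnat : ∀ s, Θ (C := C) A (ΦC.lTensor A s) = ΦA (Θ (C := C) A s) := by
    intro s
    induction s using TensorProduct.induction_on with
    | zero => simp
    | tmul a b =>
      simp only [Θ, LinearMap.lTensor_tmul, LinearMap.liftBaseChange_tmul, map_smul, ΦC, ΦA,
        LinearMap.restrictScalars_apply, Lc_apply, map_sum, ψ_poly_smul, ψ_apply]
    | add a b ha hb => simp [ha, hb]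
  have h0 : ΦC.lTensor A t = 0 := (Θ_bijective (C := C) (d := d) (n := n) A).1 (by
    rw [hnat, map_zero]; exact hy)
  let ρ : F d m C →ₗ[C] LinearMap.range ΦC := ΦC.rangeRestrict
  haveI : Module.Flat C (F d n C ⧸ LinearMap.range ΦC) := by
    have : LinearMap.range ΦC = (LinearMap.range (Lc z)).restrictScalars C :=
      SetLike.coe_injective rfl
    rw [this]; infer_instance
  have hinj := LinearMap.lTensor_injective_of_exact_of_flat (P := F d n C ⧸ LinearMap.range ΦC)
    (LinearMap.range ΦC).mkQ (Submodule.mkQ_surjective _) (LinearMap.range ΦC).subtype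
    (Submodule.injective_subtype _) (LinearMap.exact_subtype_mkQ _) A
  have h1 : ρ.lTensor A t = 0 := hinj (by
    rw [map_zero, ← LinearMap.comp_apply, ← LinearMap.lTensor_comp]
    exact h0)
  have hex : Function.Exact (LinearMap.ker ΦC).subtype ρ := fun x => by
    rw [← Subtype.coe_inj]
    exact ⟨fun hx => ⟨⟨x, hx⟩, rfl⟩, by rintro ⟨x, rfl⟩; exact x.2⟩
  obtain ⟨v, rfl⟩ := (lTensor_exact A hex (LinearMap.surjective_rangeRestrict ΦC) t).mp h1
  clear hy h0 h1
  induction v using TensorProduct.induction_on with
  | zero => simp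
  | tmul a b =>
    rw [LinearMap.lTensor_tmul, Θ, LinearMap.liftBaseChange_tmul]
    exact Submodule.smul_mem _ _ (ψ_mem _ b.2)
  | add a b ha hb => simp only [map_add]; exact add_mem ha hb

/-- Relations of a flat finitely presented module are finitely presented. -/
theorem fp_of_flat_quotient {A : Type u} [CommRing A]
    (L : Submodule (MvPolynomial (Fin d) A) (F d n A)) (hL : L.FG) [Module.Flat A (F d n A ⧸ L)] :
    Module.FinitePresentation (MvPolynomial (Fin d) A) L := by
  classical
  obtain ⟨m, gen, hgen⟩ := Submodule.fg_iff_exists_fin_generating_family.mp hL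
  let W : Finset A := Finset.univ.biUnion fun i : Fin m => (supp (gen i)).image (co (gen i))
  let R := Algebra.adjoin ℤ (W : Set A)
  haveI : IsNoetherianRing R := by
    haveI : Algebra.FiniteType ℤ R := R.fg_iff_finiteType.mp ⟨W, rfl⟩
    exact Algebra.FiniteType.isNoetherianRing ℤ R
  have hlift : ∀ i, ∃ z : F d n R, ψ A z = gen i := by
    intro i
    have : ∀ j, gen i j ∈ Set.range (MvPolynomial.map (algebraMap R A)) := fun j => by
      rw [MvPolynomial.mem_range_map_iff_coeffs_subset]
      intro c hc
      obtain ⟨a, ha, rfl⟩ := MvPolynomial.mem_coeffs_iff.mp hc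
      exact ⟨⟨_, Algebra.subset_adjoin (Finset.mem_biUnion.mpr ⟨i, Finset.mem_univ _,
        Finset.mem_image.mpr ⟨(j, a), Finset.mem_biUnion.mpr ⟨j, Finset.mem_univ _,
          Finset.mem_map.mpr ⟨a, ha, rfl⟩⟩, rfl⟩⟩)⟩, rfl⟩
    choose z hz using this
    exact ⟨z, funext hz⟩
  choose z hz using hlift
  let K : Submodule (MvPolynomial (Fin d) R) (F d n R) := Submodule.span _ (Set.range z)
  have hKC : ∀ (C : Type u) [CommRing C] [Algebra R C],
      KC C K = (LinearMap.range (Lc fun i => (ψ C (z i) : F d n C))).restrictScalars C := by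
    intro C _ _
    apply le_antisymm
    · rw [KC, Submodule.span_le]
      rintro _ ⟨k, hk, rfl⟩
      refine Submodule.span_induction (p := fun k _ => ψ C k ∈ LinearMap.range (Lc fun i => ψ C (z i)))
        ?_ (by simp) (fun a b _ _ ha hb => by rw [map_add]; exact add_mem ha hb)
        (fun c a _ ha => by rw [ψ_poly_smul]; exact Submodule.smul_mem _ _ ha) hk
      rintro _ ⟨i, rfl⟩
      refine ⟨Pi.single i 1, ?_⟩
      rw [Lc_apply, Finset.sum_eq_single i (fun j _ hj => by simp [Pi.single_eq_of_ne hj]) (by simp)]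
      simp
    · rintro _ ⟨y, rfl⟩
      rw [Lc_apply]
      exact Submodule.sum_mem _ fun i _ => poly_smul_mem K _ (ψ_mem K (Submodule.subset_span ⟨i, rfl⟩))
  have hLr : LinearMap.range (Lc gen) = L := by
    rw [← hgen]
    apply le_antisymm
    · rintro _ ⟨y, rfl⟩
      rw [Lc_apply]
      exact Submodule.sum_mem _ fun i _ => Submodule.smul_mem _ _ (Submodule.subset_span ⟨i, rfl⟩)
    · rw [Submodule.span_le]
      rintro _ ⟨i, rfl⟩
      refine ⟨Pi.single i 1, ?_⟩
      rw [Lc_apply, Finset.sum_eq_single i (fun j _ hj => by simp [Pi.single_eq_of_ne hj]) (by simp)]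
      simp
  haveI : Module.Flat A (MC A K) := by
    have e : KC A K = L.restrictScalars A := by
      rw [hKC A, show (fun i => (ψ A (z i) : F d n A)) = gen from funext hz, hLr]
    exact Module.Flat.of_linearEquiv
      (Submodule.quotEquivOfEq _ _ e ≪≫ₗ Submodule.Quotient.restrictScalarsEquiv A L)
  obtain ⟨R', hR', hflat⟩ := exists_fg_stage K A
  haveI : Algebra.FiniteType R R' := R'.fg_iff_finiteType.mp hR'
  haveI : IsNoetherianRing R' := Algebra.FiniteType.isNoetherianRing R R'
  let z' : Fin m → F d n R' := fun i => ψ R' (z i)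
  haveI : Module.Flat R' (F d n R' ⧸ (LinearMap.range (Lc z')).restrictScalars R') :=
    Module.Flat.of_linearEquiv (Submodule.quotEquivOfEq _ _ (hKC R').symm)
  obtain ⟨Gz, hGz⟩ := (IsNoetherian.noetherian (LinearMap.ker (Lc z')) : (LinearMap.ker (Lc z')).FG)
  have hgen' : (fun i => (ψ A (z' i) : F d n A)) = gen := funext fun i => by
    simp only [z', ψ_ψ, hz]
  have hker : LinearMap.ker (Lc gen) =
      Submodule.span (MvPolynomial (Fin d) A) (ψ (R := R') A '' (Gz : Set (F d m R'))) := by
    apply le_antisymm
    · intro y hy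
      have h1 : y ∈ KC A (LinearMap.ker (Lc z')) :=
        ker_le_KC z' (by rw [hgen']; exact hy)
      refine Submodule.span_le.mpr (fun v hv => ?_ : (ψ (R := R') A '' (LinearMap.ker (Lc z') : Set (F d m R'))) ⊆
        ((Submodule.span (MvPolynomial (Fin d) A) (ψ (R := R') A '' (Gz : Set (F d m R')))).restrictScalars A : Set _)) h1
      obtain ⟨u, hu, rfl⟩ := hv
      rw [SetLike.mem_coe, ← hGz] at hu
      refine Submodule.span_induction (p := fun u _ => ψ (R := R') A u ∈
        Submodule.span (MvPolynomial (Fin d) A) (ψ (R := R') A '' (Gz : Set (F d m R'))))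
        ?_ (by simp) (fun a b _ _ ha hb => by rw [map_add]; exact add_mem ha hb)
        (fun c a _ ha => by rw [ψ_poly_smul]; exact Submodule.smul_mem _ _ ha) hu
      exact fun u hu => Submodule.subset_span ⟨u, hu, rfl⟩
    · rw [Submodule.span_le]
      rintro _ ⟨u, hu, rfl⟩
      have hu' : Lc z' u = 0 := (hGz ▸ Submodule.subset_span hu : u ∈ LinearMap.ker (Lc z'))
      have h2 := congrArg (ψ (R := R') A) hu'
      rw [map_zero, Lc_apply, map_sum] at h2
      show Lc gen (ψ A u) = 0
      rw [Lc_apply, ← hgen']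
      simpa only [ψ_poly_smul, ψ_apply] using h2
  let f : F d m A →ₗ[MvPolynomial (Fin d) A] L :=
    (Lc gen).codRestrict L fun y => hLr ▸ LinearMap.mem_range_self _ y
  refine Module.finitePresentation_of_surjective f (fun x => ?_) ?_
  · obtain ⟨y, hy⟩ := (hLr.symm ▸ x.2 : (x : F d n A) ∈ LinearMap.range (Lc gen))
    exact ⟨y, Subtype.ext hy⟩
  · rw [LinearMap.ker_codRestrict, hker]
    exact Submodule.fg_span (Gz.finite_toSet.image _)

end Groth.L07.FlatDescent
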