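import Groth.Agent.L07.KoszulFlat
import Groth.Prelude.Def_RegImm
import Mathlib.AlgebraicGeometry.Morphisms.Flat
import Mathlib.AlgebraicGeometry.Morphisms.Immersion

/-! Flat base change of regular immersions. -/

set_option autoImplicit false
set_option linter.style.haveILetI false

universe u

open CategoryTheory CategoryTheory.Limits AlgebraicGeometry

namespace Groth.L07.RegImmBC

/-- The kernel of the base change of a surjection. -/
theorem ker_of_isPushout {B C B' C' : CommRingCat.{u}} {σ : B ⟶ C} {φ : B ⟶ B'} {ψ : C ⟶ C'} {σ' : B' ⟶ C'}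
    (h : IsPushout σ φ ψ σ') (hσ : Function.Surjective σ.hom) :
    RingHom.ker σ'.hom = (RingHom.ker σ.hom).map φ.hom := by
  let J := (RingHom.ker σ.hom).map φ.hom
  have hJ : RingHom.ker σ.hom ≤ RingHom.ker ((Ideal.Quotient.mk J).comp φ.hom) := fun b hb => by
    rw [RingHom.mem_ker, RingHom.comp_apply, Ideal.Quotient.eq_zero_iff_mem]
    exact Ideal.mem_map_of_mem _ hb
  let l : C ⟶ CommRingCat.of (B' ⧸ J) :=
    CommRingCat.ofHom (σ.hom.liftOfSurjective hσ ⟨(Ideal.Quotient.mk J).comp φ.hom, hJ⟩)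
  have hl : σ ≫ l = φ ≫ CommRingCat.ofHom (Ideal.Quotient.mk J) := by
    ext b
    exact RingHom.liftOfRightInverse_comp_apply σ.hom _ (Function.rightInverse_surjInv hσ)
      ⟨(Ideal.Quotient.mk J).comp φ.hom, hJ⟩ b
  refine le_antisymm (fun x hx => Ideal.Quotient.eq_zero_iff_mem.mp ?_) (Ideal.map_le_iff_le_comap.mpr fun b hb => ?_)
  · calc Ideal.Quotient.mk J x = h.desc l (CommRingCat.ofHom (Ideal.Quotient.mk J)) hl (σ'.hom x) :=
        (congrArg (fun m : B' ⟶ CommRingCat.of (B' ⧸ J) => m x) (h.inr_desc l _ hl)).symm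
      _ = 0 := by rw [RingHom.mem_ker.mp hx]; exact map_zero _
  · rw [Ideal.mem_comap, RingHom.mem_ker]
    refine (congrArg (fun m : B ⟶ C' => m b) h.w).symm.trans ?_
    show ψ.hom (σ.hom b) = 0
    rw [RingHom.mem_ker.mp hb, map_zero]

/-- The flat base change of a Koszul-regular immersion is Koszul-regular, near each point. -/
theorem isRegularImmersion_baseChange {X Y X' Y' : Scheme.{u}} (i : Y ⟶ X) (g : X' ⟶ X) [Flat g]
    (i' : Y' ⟶ X') (g' : Y' ⟶ Y) (hsq : IsPullback g' i' i g)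
    (hi : RegImm.IsRegularImmersion .koszul i) : RegImm.IsRegularImmersion .koszul i' := by
  haveI := hi.1
  refine ⟨MorphismProperty.of_isPullback hsq hi.1, fun z => ?_⟩
  obtain ⟨⟨W, hW⟩, hzW, hcl, rs, hrs, hker⟩ := hi.2 (g' z)
  have hz : i' z ∈ g ⁻¹ᵁ W := by
    show g (i' z) ∈ W
    rw [show g (i' z) = i (g' z) from (congrArg (fun m : Y' ⟶ X => m z) hsq.w).symm]
    exact hzW
  obtain ⟨_, ⟨W', hW', rfl⟩, hzW', hle⟩ := X'.isBasis_affineOpens.exists_subset_of_mem_open hz (g ⁻¹ᵁ W).2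
  haveI : IsClosedImmersion (i ∣_ W) := hcl
  haveI : IsAffine (W : Scheme.{u}) := hW
  have hUY : i' ⁻¹ᵁ W' = g' ⁻¹ᵁ (i ⁻¹ᵁ W) ⊓ i' ⁻¹ᵁ W' := by
    rw [eq_comm, inf_eq_right]
    intro y hy
    show i (g' y) ∈ W
    rw [show i (g' y) = g (i' y) from congrArg (fun m : Y' ⟶ X => m y) hsq.w]
    exact hle hy
  have hUX : IsAffineOpen (i ⁻¹ᵁ W) := isAffine_of_isAffineHom (i ∣_ W)
  have hσ : Function.Surjective (i.appLE W (i ⁻¹ᵁ W) le_rfl).hom := by
    rw [← Scheme.Hom.app_eq_appLE]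
    have h3 : Function.Surjective ((i ∣_ W).appTop).hom := (i ∣_ W).app_surjective ⊤ (isAffineOpen_top _)
    rw [morphismRestrict_appTop] at h3
    have h4 : Function.Surjective (i.app (W.ι ''ᵁ ⊤)).hom :=
      Function.Surjective.of_comp_left (f := Y.presheaf.map (eqToHom (image_morphismRestrict_preimage i W ⊤)).op) h3
        (ConcreteCategory.bijective_of_isIso _).1
    have key : ∀ W₀ : X.Opens, W₀ = W → Function.Surjective (i.app W₀).hom →
        Function.Surjective (i.app W).hom := by rintro W₀ rfl h; exact h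
    exact key _ W.ι_image_top h4
  have hcl' : IsClosedImmersion (i' ∣_ W') := by
    have hp := Scheme.Hom.isPullback_resLE hsq hle (le_rfl : i ⁻¹ᵁ W ≤ i ⁻¹ᵁ W) hUY
    rw [Scheme.Hom.resLE_eq_morphismRestrict, Scheme.Hom.resLE_eq_morphismRestrict] at hp
    exact MorphismProperty.of_isPullback hp hcl
  have hpush := (isIso_pushoutSection_iff hsq hle (le_rfl : i ⁻¹ᵁ W ≤ i ⁻¹ᵁ W) hUY).mp
    (isIso_pushoutSection_of_isAffineOpen hsq hle le_rfl hUY hW hW' hUX)
  refine ⟨⟨W', hW'⟩, hzW', hcl', rs.map (g.appLE W W' hle).hom,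
    Groth.L07.KoszulFlat.isKoszulRegularSeq_map _ (Flat.flat_appLE g hW hW' hle) rs hrs, ?_⟩
  show RingHom.ker (i'.app W').hom = _
  have hk := ker_of_isPushout hpush hσ
  simp only [← Scheme.Hom.app_eq_appLE] at hk
  rw [hk, hker, Ideal.map_ofList]

end Groth.L07.RegImmBC
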