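import Groth.Agent.L07.KoszulIdeal

/-! Descent of Koszul-regular ideals. -/

set_option autoImplicit false
set_option linter.style.haveILetI false
set_option maxSynthPendingDepth 3

universe u

open PrimeSpectrum (basicOpen)

namespace Groth.L07.KoszulIdeal

variable {A B : Type u} [CommRing A] [CommRing B]

theorem map_localRingHom (φ : A →+* B) (q : Ideal B) [q.IsPrime] (f : List A) :
    (f.map (algebraMap A (Localization.AtPrime (q.comap φ)))).map (Localization.localRingHom (q.comap φ) q φ rfl) =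
      (f.map φ).map (algebraMap B (Localization.AtPrime q)) := by
  rw [List.map_map, List.map_map]
  exact List.map_congr_left fun x _ => Localization.localRingHom_to_map (q.comap φ) q φ rfl x

theorem regular_localRingHom_iff (φ : A →+* B) (hφ : φ.Flat) (q : Ideal B) [q.IsPrime] (f : List A) :
    LCI.IsKoszulRegularSeq (Localization.AtPrime (q.comap φ)) (f.map (algebraMap A _)) ↔
      LCI.IsKoszulRegularSeq (Localization.AtPrime q) ((f.map φ).map (algebraMap B _)) := by
  rw [← map_localRingHom]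
  exact ⟨Groth.L07.KoszulFlat.isKoszulRegularSeq_map _ (flat_localRingHom φ hφ q) _,
    Groth.L07.KoszulDescent.isKoszulRegularSeq_of_map _ (faithfullyFlat_localRingHom φ hφ q) _⟩

/-- Regularity on a basic open from regularity at its points. -/
theorem regular_away (g : A) (f : List A) (h : ∀ p : PrimeSpectrum A, g ∉ p.asIdeal →
    LCI.IsKoszulRegularSeq (Localization.AtPrime p.asIdeal) (f.map (algebraMap A _))) :
    LCI.IsKoszulRegularSeq (Localization.Away g) (f.map (algebraMap A (Localization.Away g))) := by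
  refine Groth.L07.KoszulDescent.isKoszulRegularSeq_of_forall_atPrime _ fun P _ _ => ?_
  refine (regular_localRingHom_iff (algebraMap A (Localization.Away g))
    (RingHom.flat_algebraMap_iff.mpr (IsLocalization.flat _ (Submonoid.powers g))) P f).mp ?_
  exact h ⟨P.comap (algebraMap A (Localization.Away g)), inferInstance⟩ fun e =>
    Ideal.IsPrime.ne_top (I := P) inferInstance (Ideal.eq_top_of_isUnit_mem P e (IsLocalization.Away.algebraMap_isUnit g))

/-- The points at which `f₁` is Koszul-regular have open preimage. -/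
theorem isOpen_preimage_regular (φ : A →+* B) (hφ : φ.Flat) (I : Ideal A) (h : LCI.IsKoszulRegularIdeal (I.map φ))
    (f₁ : List A) (gA : A) (hmemI : ∀ x ∈ f₁, x ∈ I) (hgenA : ∀ x ∈ I, gA * x ∈ Ideal.ofList f₁) :
    IsOpen (PrimeSpectrum.comap φ ⁻¹' {p' : PrimeSpectrum A | gA ∉ p'.asIdeal ∧
      LCI.IsKoszulRegularSeq (Localization.AtPrime p'.asIdeal) (f₁.map (algebraMap A _))}) := by
  let W : Set (PrimeSpectrum A) := {p' | gA ∉ p'.asIdeal ∧
    LCI.IsKoszulRegularSeq (Localization.AtPrime p'.asIdeal) (f₁.map (algebraMap A _))}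
  have hUW : ∀ q' : PrimeSpectrum B, PrimeSpectrum.comap φ q' ∈ W ↔ φ gA ∉ q'.asIdeal ∧
      LCI.IsKoszulRegularSeq (Localization.AtPrime q'.asIdeal) ((f₁.map φ).map (algebraMap B _)) :=
    fun q' => and_congr Iff.rfl (regular_localRingHom_iff φ hφ q'.asIdeal f₁)
  show IsOpen (PrimeSpectrum.comap φ ⁻¹' W)
  rw [isOpen_iff_forall_mem_open]
  intro q' hq'
  obtain ⟨hgq', hreg'⟩ := (hUW q').mp hq'
  by_cases hle : I.map φ ≤ q'.asIdeal
  · obtain ⟨g', hg', h', hh'⟩ := exists_seqOn h q'.asIdeal hle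
    have key : ∀ r : PrimeSpectrum B, g' ∉ r.asIdeal → φ gA ∉ r.asIdeal →
        Ideal.ofList (h'.map (algebraMap B (Localization.AtPrime r.asIdeal))) =
          Ideal.ofList ((f₁.map φ).map (algebraMap B (Localization.AtPrime r.asIdeal))) := by
      intro r hr hrA
      rw [← hh'.map_eq _ (IsLocalization.map_units _ (⟨g', hr⟩ : r.asIdeal.primeCompl)), Ideal.map_map,
        List.map_map, ← RingHom.coe_comp]
      refine map_eq _ (g := gA) ?_ hmemI fun x hx => ⟨1, by rw [pow_one]; exact hgenA x hx⟩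
      exact IsLocalization.map_units _ (⟨φ gA, hrA⟩ : r.asIdeal.primeCompl)
    have hlt : f₁.length ≤ h'.length := by
      have hproper : Ideal.ofList ((f₁.map φ).map (algebraMap B (Localization.AtPrime q'.asIdeal))) ≠ ⊤ := by
        rw [← key q' hg' hgq', ← hh'.map_eq _ (IsLocalization.map_units _ (⟨g', hg'⟩ : q'.asIdeal.primeCompl))]
        intro e
        refine (IsLocalRing.maximalIdeal.isMaximal (Localization.AtPrime q'.asIdeal)).ne_top ?_
        rw [eq_top_iff, ← e]
        exact (Ideal.map_mono hle).trans Localization.AtPrime.map_eq_maximalIdeal.le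
      have := Groth.L07.KoszulRel.length_le_of_ofList_eq hproper hreg' rfl (key q' hg' hgq')
      simpa using this
    refine ⟨(basicOpen (g' * φ gA) : Set (PrimeSpectrum B)), fun r hr => ?_, (basicOpen _).2, ?_⟩
    · obtain ⟨hr1, hr2⟩ : g' ∉ r.asIdeal ∧ φ gA ∉ r.asIdeal :=
        ⟨fun e => hr (Ideal.mul_mem_right _ _ e), fun e => hr (Ideal.mul_mem_left _ _ e)⟩
      refine (hUW r).mpr ⟨hr2, ?_⟩
      refine Groth.L07.KoszulDescent.isKoszulRegularSeq_of_length_le (hh'.regular _
        (RingHom.flat_algebraMap_iff.mpr (IsLocalization.flat _ r.asIdeal.primeCompl))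
        (IsLocalization.map_units _ (⟨g', hr1⟩ : r.asIdeal.primeCompl))) (key r hr1 hr2) ?_
      simpa using hlt
    · exact fun e => (q'.isPrime.mem_or_mem e).elim hg' hgq'
  · obtain ⟨x, hx, hxq⟩ : ∃ x ∈ f₁, φ x ∉ q'.asIdeal := by
      by_contra! hc
      refine hle (Ideal.map_le_iff_le_comap.mpr fun x hx => ?_)
      have h1 : φ (gA * x) ∈ q'.asIdeal :=
        (Ideal.span_le.mpr fun y hy => hc y hy : Ideal.ofList f₁ ≤ q'.asIdeal.comap φ) (hgenA x hx)
      rw [map_mul] at h1
      exact (q'.isPrime.mem_or_mem h1).resolve_left hgq'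
    refine ⟨(basicOpen (φ x * φ gA) : Set (PrimeSpectrum B)), fun r hr => ?_, (basicOpen _).2, ?_⟩
    · refine (hUW r).mpr ⟨fun e => hr (Ideal.mul_mem_left _ _ e), ?_⟩
      refine Groth.L07.KoszulDescent.isKoszulRegularSeq_of_eq_top _ (Ideal.eq_top_of_isUnit_mem _
        (Ideal.subset_span (List.mem_map.mpr ⟨φ x, List.mem_map.mpr ⟨x, hx, rfl⟩, rfl⟩))
        (IsLocalization.map_units _ (⟨φ x, fun e => hr (Ideal.mul_mem_right _ _ e)⟩ : r.asIdeal.primeCompl)))
    · exact fun e => (q'.isPrime.mem_or_mem e).elim hxq hgq'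

/-- Descent near a point of a Koszul-regular ideal, along a flat map inducing a submersion there. -/
theorem exists_seqOn_descend (φ : A →+* B) (hφ : φ.Flat) (I : Ideal A) (hfg : I.FG)
    (h : LCI.IsKoszulRegularIdeal (I.map φ)) (q : PrimeSpectrum B) (hIp : I ≤ q.asIdeal.comap φ)
    (htop : ∀ W : Set (PrimeSpectrum A), IsOpen (PrimeSpectrum.comap φ ⁻¹' W) → PrimeSpectrum.comap φ q ∈ W →
      ∃ W', IsOpen W' ∧ PrimeSpectrum.comap φ q ∈ W' ∧ W' ⊆ W) :
    ∃ g ∉ q.asIdeal.comap φ, ∃ l, SeqOn I g l := by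
  classical
  let p := q.asIdeal.comap φ
  obtain ⟨s, hs⟩ := hfg
  let f₀ := s.toList
  have hf₀ : Ideal.ofList f₀ = I := by
    rw [← hs]
    show Ideal.span {x | x ∈ s.toList} = _
    simp [Finset.mem_toList]
  have hIq : I.map φ ≤ q.asIdeal := Ideal.map_le_iff_le_comap.mpr hIp
  obtain ⟨gB, hgB, hseq, hh⟩ := exists_seqOn h q.asIdeal hIq
  let L := Localization.AtPrime p
  let M := Localization.AtPrime q.asIdeal
  let α := Localization.localRingHom p q.asIdeal φ rfl
  have hffα : α.FaithfullyFlat := faithfullyFlat_localRingHom φ hφ q.asIdeal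
  have eM : (I.map φ).map (algebraMap B M) = (I.map (algebraMap A L)).map α := by
    rw [Ideal.map_map, Ideal.map_map]
    congr 1
    exact RingHom.ext fun x => (Localization.localRingHom_to_map p q.asIdeal φ rfl x).symm
  have ehl := hh.map_eq (algebraMap B M) (IsLocalization.map_units M (⟨gB, hgB⟩ : q.asIdeal.primeCompl))
  have regM := hh.regular (algebraMap B M) (RingHom.flat_algebraMap_iff.mpr (IsLocalization.flat _ q.asIdeal.primeCompl))
    (IsLocalization.map_units M (⟨gB, hgB⟩ : q.asIdeal.primeCompl))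
  -- few generators at `p`
  obtain ⟨F', hF', hlen, hgen⟩ := exists_sublist (hseq.map (algebraMap B M)) ((f₀.map (algebraMap A L)).map α) (by
    rw [← ehl, eM, ← hf₀, Ideal.map_ofList, Ideal.map_ofList])
  rw [List.length_map] at hlen
  choose pre hpre hpre' using fun y (hy : y ∈ F') => List.mem_map.mp (hF' y hy)
  choose pre₀ hpre₀ hpre₀' using fun y (hy : y ∈ F') => List.mem_map.mp (hpre y hy)
  let f₁ : List A := F'.pmap pre₀ fun _ hy => hy
  have hf₁ : ∀ x ∈ f₁, x ∈ f₀ := fun x hx => by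
    obtain ⟨y, hy, rfl⟩ := List.mem_pmap.mp hx
    exact hpre₀ y hy
  have hf₁' : (f₁.map (algebraMap A L)).map α = F' := by
    rw [List.map_map, List.map_pmap]
    refine (List.pmap_congr_left (g := fun y _ => y) F' (H₂ := fun y hy => hy) fun y hy _ _ => ?_).trans ((List.pmap_eq_map ..).trans (List.map_id' _))
    rw [Function.comp_apply, hpre₀', hpre']
  have hf₁len : f₁.length = F'.length := List.length_pmap ..
  have hI₁ : Ideal.ofList (f₁.map (algebraMap A L)) = Ideal.ofList (f₀.map (algebraMap A L)) := by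
    letI := α.toAlgebra
    haveI : Module.FaithfullyFlat L M := hffα
    rw [← Ideal.comap_map_eq_self_of_faithfullyFlat (B := M) (Ideal.ofList (f₁.map (algebraMap A L))),
      ← Ideal.comap_map_eq_self_of_faithfullyFlat (B := M) (Ideal.ofList (f₀.map (algebraMap A L))),
      Ideal.map_ofList, Ideal.map_ofList]
    congr 1
    show Ideal.ofList ((f₁.map (algebraMap A L)).map α) = Ideal.ofList ((f₀.map (algebraMap A L)).map α)
    rw [hf₁', hgen]
  have hden : ∀ x ∈ f₀, ∃ t ∉ p, t * x ∈ Ideal.ofList f₁ := fun x hx => by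
    obtain ⟨t, ht, h'⟩ := (IsLocalization.algebraMap_mem_map_algebraMap_iff p.primeCompl L (Ideal.ofList f₁) x).mp (by
      rw [Ideal.map_ofList, hI₁]
      exact Ideal.subset_span (List.mem_map.mpr ⟨x, hx, rfl⟩))
    exact ⟨t, ht, h'⟩
  choose t ht htx using hden
  let gA : A := ∏ x ∈ f₀.toFinset.attach, t x.1 (List.mem_toFinset.mp x.2)
  have hgA : gA ∉ p := by
    have : gA ∈ p.primeCompl := Submonoid.prod_mem _ fun x _ => ht _ _
    exact this
  have hgenA : ∀ x ∈ I, gA * x ∈ Ideal.ofList f₁ := by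
    intro x hx
    suffices I ≤ Submodule.comap (LinearMap.mulLeft A gA) (Ideal.ofList f₁) from this hx
    rw [← hf₀]
    refine Ideal.span_le.mpr fun y hy => ?_
    show gA * y ∈ Ideal.ofList f₁
    obtain ⟨c, hc⟩ : t y hy ∣ gA := Finset.dvd_prod_of_mem (fun x : {x // x ∈ f₀.toFinset} =>
      t x.1 (List.mem_toFinset.mp x.2)) (Finset.mem_attach _ ⟨y, List.mem_toFinset.mpr hy⟩)
    rw [hc, mul_right_comm]
    exact Ideal.mul_mem_right _ _ (htx y hy)
  have hmemI : ∀ x ∈ f₁, x ∈ I := fun x hx => hf₀ ▸ Ideal.subset_span (hf₁ x hx)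
  let W : Set (PrimeSpectrum A) := {p' | gA ∉ p'.asIdeal ∧
    LCI.IsKoszulRegularSeq (Localization.AtPrime p'.asIdeal) (f₁.map (algebraMap A _))}
  have hUW : ∀ q' : PrimeSpectrum B, PrimeSpectrum.comap φ q' ∈ W ↔ φ gA ∉ q'.asIdeal ∧
      LCI.IsKoszulRegularSeq (Localization.AtPrime q'.asIdeal) ((f₁.map φ).map (algebraMap B _)) :=
    fun q' => and_congr Iff.rfl (regular_localRingHom_iff φ hφ q'.asIdeal f₁)
  have hopen : IsOpen (PrimeSpectrum.comap φ ⁻¹' W) := isOpen_preimage_regular φ hφ I h f₁ gA hmemI hgenA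
  have hqW : PrimeSpectrum.comap φ q ∈ W := by
    refine (hUW q).mpr ⟨hgA, Groth.L07.KoszulDescent.isKoszulRegularSeq_of_length_le regM ?_ (by rw [List.length_map, List.length_map, List.length_map, hf₁len]; exact hlen)⟩
    rw [← map_localRingHom, ← ehl, eM, ← hf₀, Ideal.map_ofList, Ideal.map_ofList]
    show _ = Ideal.ofList ((f₁.map (algebraMap A L)).map α)
    rw [hf₁', hgen]
  obtain ⟨W', hW'o, hpW', hsub⟩ := htop W hopen hqW
  obtain ⟨_, ⟨g, rfl⟩, hpg, hgW⟩ := PrimeSpectrum.isTopologicalBasis_basic_opens.exists_subset_of_mem_open hpW' hW'o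
  refine ⟨g * gA, fun e => ((inferInstance : p.IsPrime).mem_or_mem e).elim hpg hgA, f₁, hmemI,
    fun x hx => ⟨1, by rw [pow_one, mul_assoc]; exact Ideal.mul_mem_left _ _ (hgenA x hx)⟩, ?_⟩
  exact regular_away (g * gA) f₁ fun p' hp' => (hsub (hgW (show g ∉ p'.asIdeal from
    fun e => hp' (Ideal.mul_mem_right _ _ e)))).2

/-- Faithfully flat descent of Koszul-regular ideals. -/
theorem isKoszulRegularIdeal_descend (φ : A →+* B) (hφ : φ.FaithfullyFlat) (I : Ideal A)
    (h : LCI.IsKoszulRegularIdeal (I.map φ)) : LCI.IsKoszulRegularIdeal I := by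
  have hfg : I.FG := by
    letI := φ.toAlgebra
    haveI : Module.FaithfullyFlat A B := hφ
    exact Ideal.FG.of_FG_map_of_faithfullyFlat (S := B) (fg_of_isKoszulRegularIdeal h)
  obtain ⟨hflat, hsurj⟩ := RingHom.FaithfullyFlat.iff_flat_and_comap_surjective.mp hφ
  have hq := PrimeSpectrum.isQuotientMap_of_generalizingMap hsurj hflat.generalizingMap_comap
  refine isKoszulRegularIdeal_of_seqOn fun p _ hIp => ?_
  obtain ⟨q, hqp⟩ := hsurj ⟨p, inferInstance⟩
  have e : q.asIdeal.comap φ = p := congrArg PrimeSpectrum.asIdeal hqp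
  subst e
  exact exists_seqOn_descend φ hflat I hfg h q hIp fun W hW hm => ⟨W, hq.isOpen_preimage.mp hW, hm, subset_rfl⟩

/-- Descent near a point along a flat map with open spectrum map. -/
theorem exists_seqOn_of_isOpenMap (φ : A →+* B) (hφ : φ.Flat) (ho : IsOpenMap (PrimeSpectrum.comap φ))
    (I : Ideal A) (hfg : I.FG) (q : Ideal B) [q.IsPrime] (hIp : I ≤ q.comap φ) {gB : B} {l : List B}
    (hgB : gB ∉ q) (hl : SeqOn (I.map φ) gB l) : ∃ g ∉ q.comap φ, ∃ l', SeqOn I g l' := by
  let C := Localization.Away gB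
  let ψ : B →+* C := algebraMap B C
  have hψ : ψ.Flat := RingHom.flat_algebraMap_iff.mpr (IsLocalization.flat _ (Submonoid.powers gB))
  obtain ⟨r, hr⟩ : (⟨q, inferInstance⟩ : PrimeSpectrum B) ∈ Set.range (PrimeSpectrum.comap ψ) := by
    rw [PrimeSpectrum.localization_away_comap_range C gB]
    exact hgB
  have hreg : LCI.IsKoszulRegularIdeal (I.map (ψ.comp φ)) := isKoszulRegularIdeal_of_seqOn fun p _ _ => by
    have h1 := hl.map ψ hψ
    rw [Ideal.map_map] at h1
    refine ⟨ψ gB, fun e => ?_, _, h1⟩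
    exact (inferInstance : p.IsPrime).ne_top (Ideal.eq_top_of_isUnit_mem _ e (IsLocalization.Away.algebraMap_isUnit gB))
  have hrq : r.asIdeal.comap (ψ.comp φ) = q.comap φ := by
    rw [← Ideal.comap_comap, show r.asIdeal.comap ψ = q from congrArg PrimeSpectrum.asIdeal hr]
  have hop : IsOpenMap (PrimeSpectrum.comap (ψ.comp φ)) := by
    rw [PrimeSpectrum.comap_comp]
    exact ho.comp (PrimeSpectrum.localization_away_isOpenEmbedding C gB).isOpenMap
  rw [← hrq] at hIp ⊢
  exact exists_seqOn_descend _ (hφ.comp hψ) I hfg hreg r hIp fun W hW hm =>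
    ⟨PrimeSpectrum.comap (ψ.comp φ) '' (PrimeSpectrum.comap (ψ.comp φ) ⁻¹' W), hop _ hW, ⟨r, hm, rfl⟩,
      Set.image_preimage_subset _ _⟩

end Groth.L07.KoszulIdeal
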