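import Groth.Agent.L07.RegAtPresent

/-! Regularity of composed quotients. -/

set_option autoImplicit false
set_option linter.style.haveILetI false
set_option maxSynthPendingDepth 3

universe u

namespace Groth.L07.KoszulIdeal

variable {A C : Type u} [CommRing A] [CommRing C]

/-- Regular modulo a regular ideal: regular. -/
theorem regAt_comap_of_surjective (σ : A →+* C) (hσ : Function.Surjective σ) (K : Ideal C) (Q : Ideal C) [Q.IsPrime]
    (hker : RegAt (RingHom.ker σ) (Q.comap σ)) (hK : RegAt K Q) : RegAt (K.comap σ) (Q.comap σ) := by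
  obtain ⟨g₁, hg₁, l₁, hl₁⟩ := hker
  obtain ⟨g₂, hg₂, l₂, hl₂⟩ := hK
  obtain ⟨b, rfl⟩ := hσ g₂
  let G := g₁ * b
  let M := Localization.Away G
  obtain ⟨τ, hτs, hτ, hτk⟩ := away_map σ hσ G
  have hu : ∀ x, x ∣ G → IsUnit (algebraMap A M x) := fun x hx =>
    isUnit_of_dvd_unit (map_dvd _ hx) (IsLocalization.Away.algebraMap_isUnit G)
  have hu' : IsUnit (algebraMap C (Localization.Away (σ G)) (σ b)) :=
    isUnit_of_dvd_unit (map_dvd _ (map_dvd σ (dvd_mul_left b g₁))) (IsLocalization.Away.algebraMap_isUnit (σ G))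
  have hflat := RingHom.flat_algebraMap_iff.mpr (IsLocalization.flat M (Submonoid.powers G) (R := A))
  let pre : List A := l₂.map (Function.surjInv hσ)
  have hpre : pre.map σ = l₂ := by
    rw [List.map_map]
    exact (List.map_congr_left fun x _ => Function.surjInv_eq hσ x).trans (List.map_id l₂)
  let fs := l₁.map (algebraMap A M)
  let gs := pre.map (algebraMap A M)
  have hfk : RingHom.ker τ = Ideal.ofList fs := by rw [hτk]; exact hl₁.map_eq _ (hu g₁ (dvd_mul_right _ _))
  have hgτ : gs.map τ = l₂.map (algebraMap C (Localization.Away (σ G))) := by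
    conv_rhs => rw [← hpre, List.map_map]
    rw [List.map_map]
    exact List.map_congr_left fun x _ => RingHom.congr_fun hτ x
  have hgreg : LCI.IsKoszulRegularSeq (Localization.Away (σ G)) (gs.map τ) := by
    rw [hgτ]
    exact hl₂.regular _ (RingHom.flat_algebraMap_iff.mpr (IsLocalization.flat _ (Submonoid.powers (σ G)))) hu'
  have happ := Groth.L07.KoszulAppend.isKoszulRegularSeq_append τ hτs fs gs hfk
    (hl₁.regular _ hflat (hu g₁ (dvd_mul_right _ _))) hgreg
  have eK : K = (Ideal.ofList pre).map σ ⊔ K := (sup_eq_right.mpr (by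
    rw [Ideal.map_ofList, hpre]; exact Ideal.span_le.mpr hl₂.1)).symm
  have hmem : ∀ x ∈ K.comap σ, ∃ k : ℕ, G ^ k * x ∈ Ideal.ofList pre ⊔ RingHom.ker σ := fun x hx => by
    obtain ⟨k, hk⟩ := hl₂.2.1 (σ x) hx
    refine ⟨k, ?_⟩
    rw [RingHom.ker_eq_comap_bot, ← Ideal.comap_map_of_surjective σ hσ, Ideal.mem_comap, Ideal.map_ofList, hpre,
      map_mul, map_pow, map_mul, mul_pow, mul_assoc]
    exact Ideal.mul_mem_left _ _ hk
  obtain ⟨l', -, hl'⟩ := exists_seqOn_of_away (I := K.comap σ) happ (by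
    refine le_antisymm ?_ (Ideal.span_le.mpr fun z hz => ?_)
    · refine (map_le_map_of_pow (algebraMap A M) (J := Ideal.ofList pre ⊔ RingHom.ker σ) (hu G dvd_rfl) hmem).trans ?_
      rw [Ideal.map_sup, Ideal.map_ofList, hl₁.map_eq _ (hu g₁ (dvd_mul_right _ _)), ← Ideal.ofList_append]
    · rcases List.mem_append.mp (show z ∈ gs ++ fs from hz) with h | h
      · obtain ⟨w, hw, rfl⟩ := List.mem_map.mp h
        refine Ideal.mem_map_of_mem _ ?_
        rw [Ideal.mem_comap]
        exact hl₂.1 _ (hpre ▸ List.mem_map.mpr ⟨w, hw, rfl⟩)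
      · obtain ⟨w, hw, rfl⟩ := List.mem_map.mp h
        refine Ideal.mem_map_of_mem _ ?_
        rw [Ideal.mem_comap, RingHom.mem_ker.mp (hl₁.1 w hw)]
        exact zero_mem K)
  exact ⟨G, fun e => ((inferInstance : (Q.comap σ).IsPrime).mem_or_mem e).elim hg₁ hg₂, l', hl'⟩

end Groth.L07.KoszulIdeal
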