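import Groth.Agent.L07.KoszulBCAlg
import Groth.Agent.L07.RegAtComp
import Mathlib.AlgebraicGeometry.Morphisms.Flat
import Mathlib.AlgebraicGeometry.Morphisms.QuasiCompact
import Mathlib.AlgebraicGeometry.Morphisms.LocalFlatDescent

/-! Base change, descent and composition of Koszul morphisms. -/

set_option autoImplicit false
set_option linter.style.haveILetI false
set_option maxSynthPendingDepth 3

universe u

open CategoryTheory CategoryTheory.Limits AlgebraicGeometry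

namespace Groth.L07.KoszulChart

open Groth.L07.KoszulIdeal (RegAt)

/-- The chart above a pair of affine charts in a cartesian square. -/
theorem exists_baseChange_chart {X Y X' Y' : Scheme.{u}} {f : X ⟶ Y} {g : Y' ⟶ Y} {f' : X' ⟶ Y'} {g' : X' ⟶ X}
    (hsq : IsPullback g' f' f g) {U : X.Opens} (hU : IsAffineOpen U) {V : Y.Opens} (hV : IsAffineOpen V)
    (e : U ≤ f ⁻¹ᵁ V) {V' : Y'.Opens} (hV' : IsAffineOpen V') (eV : V' ≤ g ⁻¹ᵁ V) {n : ℕ}
    (α : MvPolynomial (Fin n) Γ(Y, V) →+* Γ(X, U)) (hα : Function.Surjective α)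
    (hαC : α.comp MvPolynomial.C = (f.appLE V U e).hom) :
    ∃ (U' : X'.Opens) (hU' : IsAffineOpen U') (e' : U' ≤ f' ⁻¹ᵁ V')
      (α' : MvPolynomial (Fin n) Γ(Y', V') →+* Γ(X', U')),
      U' = g' ⁻¹ᵁ U ⊓ f' ⁻¹ᵁ V' ∧ Function.Surjective α' ∧ α'.comp MvPolynomial.C = (f'.appLE V' U' e').hom ∧
      RingHom.ker α' = (RingHom.ker α).map (MvPolynomial.map (g.appLE V V' eV).hom) ∧
      ∀ (x' : X') (hx' : x' ∈ U') (hx : g' x' ∈ U),
        ((hU'.primeIdealOf ⟨x', hx'⟩).asIdeal.comap α').comap (MvPolynomial.map (g.appLE V V' eV).hom) =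
          (hU.primeIdealOf ⟨g' x', hx⟩).asIdeal.comap α := by
  let U' := g' ⁻¹ᵁ U ⊓ f' ⁻¹ᵁ V'
  have hUY : U' = g' ⁻¹ᵁ U ⊓ f' ⁻¹ᵁ V' := rfl
  haveI : IsAffine (U : Scheme.{u}) := hU
  haveI : IsAffine (V : Scheme.{u}) := hV
  haveI : IsAffine (V' : Scheme.{u}) := hV'
  have hp := Scheme.Hom.isPullback_resLE hsq eV e hUY
  have hU' : IsAffineOpen U' := IsAffine.of_isIso hp.isoPullback.hom
  have hpush := (isIso_pushoutSection_iff hsq eV e hUY).mp
    (isIso_pushoutSection_of_isAffineOpen hsq eV e hUY hV hV' hU)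
  obtain ⟨α', hα', hα'C, hcomp, hker⟩ := presentation_baseChange hpush α hα hαC
  refine ⟨U', hU', inf_le_right, α', rfl, hα', hα'C, hker, fun x' hx' hx => ?_⟩
  rw [Ideal.comap_comap, hcomp, ← Ideal.comap_comap]
  congr 1
  exact congrArg PrimeSpectrum.asIdeal
    (IsAffineOpen.comap_primeIdealOf_appLE (f := g') U hU U' hU' inf_le_left hx')

theorem ker_le_prime {R B : Type u} [CommRing R] [CommRing B] (α : R →+* B) (q : Ideal B) :
    RingHom.ker α ≤ q.comap α := fun x hx => by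
  rw [Ideal.mem_comap, RingHom.mem_ker.mp hx]; exact zero_mem q

theorem exists_affine_nhd {X : Scheme.{u}} (x : X) (O : X.Opens) (hx : x ∈ O) :
    ∃ V : X.Opens, IsAffineOpen V ∧ x ∈ V ∧ V ≤ O := by
  obtain ⟨_, ⟨V, hV, rfl⟩, hxV, hle⟩ := (X.isBasis_affineOpens).exists_subset_of_mem_open hx O.2
  exact ⟨V, hV, hxV, hle⟩

/-- Koszul morphisms are stable under flat base change. -/
theorem isKoszulAt_baseChange {X Y X' Y' : Scheme.{u}} (f : X ⟶ Y) (g : Y' ⟶ Y) [Flat g]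
    (f' : X' ⟶ Y') (g' : X' ⟶ X) (hsq : IsPullback g' f' f g) (x' : X') (h : Synt.IsKoszulAt f (g' x')) :
    Synt.IsKoszulAt f' x' := by
  obtain ⟨V, hV, hxV, -⟩ := exists_affine_nhd (f (g' x')) ⊤ trivial
  have hgf : g (f' x') = f (g' x') := (congrArg (fun m : X' ⟶ Y => m x') hsq.w).symm
  obtain ⟨V', hV', hxV', eV⟩ := exists_affine_nhd (f' x') (g ⁻¹ᵁ V) (show g (f' x') ∈ V by rw [hgf]; exact hxV)
  obtain ⟨U, hU, e, hx, n, α, -, hα, hαC, hreg⟩ := exists_chart f (g' x') h hV hxV ⊤ trivial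
  obtain ⟨U', hU', e', α', hU'eq, hα', hα'C, hker, hprime⟩ :=
    exists_baseChange_chart hsq hU hV e hV' eV α hα hαC
  have hx' : x' ∈ U' := hU'eq ▸ ⟨hx, hxV'⟩
  rw [isKoszulAt_iff f' hU' hV' e' MvPolynomial.C (smooth_C _ n) α' hα' hα'C x' hx', hker]
  refine RegAt.map _ ((flat_map _ n).1 (Flat.flat_appLE g hV hV' eV)) _ ?_
  rw [hprime x' hx' hx]
  exact hreg

/-- An affine scheme mapping onto a quasi-compact open by a flat map. -/
theorem exists_affine_flat_cover {Y : Scheme.{u}} (V : Y.Opens) (hV : IsCompact (V : Set Y)) :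
    ∃ (T : Scheme.{u}) (_ : IsAffine T) (t : T ⟶ Y), Flat t ∧ Set.range t = V := by
  haveI : CompactSpace (V : Scheme.{u}) := isCompact_iff_compactSpace.mp hV
  let 𝒰 := (V : Scheme.{u}).affineCover.finiteSubcover
  let j : (∐ fun i : 𝒰.I₀ => 𝒰.X i) ⟶ (V : Scheme.{u}) := Sigma.desc fun i => 𝒰.f i
  haveI : Flat j := by
    haveI : IsZariskiLocalAtSource @Flat.{u} := HasRingHomProperty.instIsZariskiLocalAtSource (Q := RingHom.Flat)
    exact IsZariskiLocalAtSource.sigmaDesc fun i => inferInstanceAs (Flat (𝒰.f i))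
  refine ⟨_, inferInstanceAs (IsAffine (∐ fun i : 𝒰.I₀ => 𝒰.X i)), j ≫ V.ι, inferInstance, ?_⟩
  ext y
  constructor
  · rintro ⟨t, rfl⟩
    exact (j t).2
  · intro hy
    obtain ⟨i, z, hz⟩ := 𝒰.exists_eq ⟨y, hy⟩
    refine ⟨Sigma.ι 𝒰.X i z, ?_⟩
    have : (Sigma.ι 𝒰.X i ≫ j) z = (⟨y, hy⟩ : (V : Scheme.{u})) := by rw [Sigma.ι_desc]; exact hz
    exact congrArg (fun w : (V : Scheme.{u}) => (V.ι w : Y)) this

/-- Koszul morphisms descend along flat surjective quasi-compact base change. -/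
theorem isKoszulAt_descend {X Y X' Y' : Scheme.{u}} (f : X ⟶ Y) (g : Y' ⟶ Y) [Flat g] [Surjective g] [QuasiCompact g]
    (f' : X' ⟶ Y') (g' : X' ⟶ X) (hsq : IsPullback g' f' f g) (hf' : ∀ x' : X', Synt.IsKoszulAt f' x') (x : X) :
    Synt.IsKoszulAt f x := by
  obtain ⟨V, hV, hxV, -⟩ := exists_affine_nhd (f x) ⊤ trivial
  obtain ⟨T, hT, t, htflat, htr⟩ := exists_affine_flat_cover (g ⁻¹ᵁ V) (g.isCompact_preimage hV.isCompact)
  -- base change to `T`
  let X'' := pullback f' t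
  have hsqT : IsPullback (pullback.fst f' t) (pullback.snd f' t) f' t := IsPullback.of_hasPullback f' t
  have hbig : IsPullback (pullback.fst f' t ≫ g') (pullback.snd f' t) f (t ≫ g) := hsqT.paste_horiz hsq
  have hT' : IsAffineOpen (⊤ : T.Opens) := isAffineOpen_top T
  have eV : (⊤ : T.Opens) ≤ (t ≫ g) ⁻¹ᵁ V := fun z _ => by
    have : t z ∈ (g ⁻¹ᵁ V : Y'.Opens) := by rw [← SetLike.mem_coe, ← htr]; exact ⟨z, rfl⟩
    exact this
  haveI : Flat (t ≫ g) := inferInstance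
  -- a chart at `x`
  obtain ⟨U, hU, hxU, hUV⟩ := exists_affine_nhd x (f ⁻¹ᵁ V) hxV
  haveI : LocallyOfFiniteType f' := by
    haveI : IsZariskiLocalAtSource @LocallyOfFiniteType.{u} :=
      HasRingHomProperty.instIsZariskiLocalAtSource (Q := RingHom.FiniteType)
    choose U₀ P i π hxU hft hi hπ e' using hf'
    refine IsZariskiLocalAtSource.of_iSup_eq_top (P := @LocallyOfFiniteType.{u}) U₀
      (top_le_iff.mp fun z _ => TopologicalSpace.Opens.mem_iSup.mpr ⟨z, hxU z⟩) hft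
  -- finite type descends
  have hψ : ((t ≫ g).appLE V ⊤ eV).hom.FaithfullyFlat := by
    rw [RingHom.FaithfullyFlat.iff_flat_and_comap_surjective]
    refine ⟨Flat.flat_appLE (t ≫ g) hV hT' eV, fun p => ?_⟩
    obtain ⟨y, hy, hp⟩ := exists_primeIdealOf hV p.asIdeal
    obtain ⟨y', rfl⟩ := g.surjective y
    obtain ⟨z, rfl⟩ : y' ∈ Set.range t := by rw [htr]; exact hy
    exact ⟨hT'.primeIdealOf ⟨z, trivial⟩,
      (IsAffineOpen.comap_primeIdealOf_appLE (f := t ≫ g) V hV ⊤ hT' eV trivial).trans (PrimeSpectrum.ext hp)⟩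
  haveI : LocallyOfFiniteType f := MorphismProperty.of_isPullback_of_descendsAlong (P := @LocallyOfFiniteType.{u})
    (Q := @Surjective ⊓ @Flat ⊓ @QuasiCompact) hsq.flip ⟨⟨inferInstance, inferInstance⟩, inferInstance⟩ ‹_›
  have hft : (f.appLE V U hUV).hom.FiniteType := finiteType_appLE f hU hV hUV inferInstance
  obtain ⟨n, α, hα, hαC⟩ := exists_presentation _ hft
  obtain ⟨U', hU', e', α', hU'eq, hα', hα'C, hker, -⟩ := exists_baseChange_chart hbig hU hV hUV hT' eV α hα hαC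
  have hKRI : LCI.IsKoszulRegularIdeal (RingHom.ker α') := by
    rw [Groth.L07.KoszulIdeal.isKoszulRegularIdeal_ker_iff _ hα']
    intro 𝔮 _
    obtain ⟨z, hz, rfl⟩ := exists_primeIdealOf hU' 𝔮
    exact (isKoszulAt_iff (pullback.snd f' t) hU' hT' e' MvPolynomial.C (smooth_C _ n) α' hα' hα'C z hz).mp
      (isKoszulAt_baseChange f' t _ _ hsqT z (hf' _))
  rw [hker] at hKRI
  have hK := Groth.L07.KoszulIdeal.isKoszulRegularIdeal_descend _ ((flat_map _ n).2 hψ) _ hKRI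
  rw [isKoszulAt_iff f hU hV hUV MvPolynomial.C (smooth_C _ n) α hα hαC x hxU]
  exact (Groth.L07.KoszulIdeal.isKoszulRegularIdeal_ker_iff _ hα).mp hK _

/-- Composites of Koszul morphisms. -/
theorem isKoszulAt_comp {X Y Z : Scheme.{u}} (f : X ⟶ Y) (g : Y ⟶ Z) (x : X) (hf : Synt.IsKoszulAt f x)
    (hg : Synt.IsKoszulAt g (f x)) : Synt.IsKoszulAt (f ≫ g) x := by
  obtain ⟨W, hW, hxW, -⟩ := exists_affine_nhd (g (f x)) ⊤ trivial
  obtain ⟨V, hV, eV, hxV, m, β, -, hβ, hβC, hregβ⟩ := exists_chart g (f x) hg hW hxW ⊤ trivial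
  obtain ⟨U, hU, eU, hxU, n, α, -, hα, hαC, hregα⟩ := exists_chart f x hf hV hxV ⊤ trivial
  let A := Γ(Z, W)
  let σ : MvPolynomial (Fin n) (MvPolynomial (Fin m) A) →+* MvPolynomial (Fin n) Γ(Y, V) := MvPolynomial.map β
  have hσ : Function.Surjective σ := MvPolynomial.map_surjective β hβ
  let γ := α.comp σ
  have e : U ≤ (f ≫ g) ⁻¹ᵁ W := fun z hz => eV (eU hz)
  have hγC : γ.comp (MvPolynomial.C.comp MvPolynomial.C) = ((f ≫ g).appLE W U e).hom := by
    refine RingHom.ext fun a => ?_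
    show α (MvPolynomial.map β (MvPolynomial.C (MvPolynomial.C a))) = _
    rw [MvPolynomial.map_C, show β (MvPolynomial.C a) = (g.appLE W V eV).hom a from RingHom.congr_fun hβC a,
      show ∀ b, α (MvPolynomial.C b) = (f.appLE V U eU).hom b from fun b => RingHom.congr_fun hαC b,
      ← RingHom.comp_apply, ← CommRingCat.hom_comp, Scheme.Hom.appLE_comp_appLE]
  rw [isKoszulAt_iff (f ≫ g) hU hW e (MvPolynomial.C.comp MvPolynomial.C)
    ((smooth_C A m).comp (smooth_C _ n)) γ (hα.comp hσ) hγC x hxU]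
  show RegAt (RingHom.ker (α.comp σ)) ((_ : Ideal Γ(X, U)).comap (α.comp σ))
  rw [← RingHom.comap_ker, ← Ideal.comap_comap]
  refine Groth.L07.KoszulIdeal.regAt_comap_of_surjective σ hσ _ _ ?_ hregα
  rw [show RingHom.ker σ = (RingHom.ker β).map MvPolynomial.C from MvPolynomial.ker_map β]
  refine RegAt.map _ ?_ _ ?_
  · rw [← MvPolynomial.algebraMap_eq]
    exact RingHom.flat_algebraMap_iff.mpr inferInstance
  · suffices hP : (((hU.primeIdealOf ⟨x, hxU⟩).asIdeal.comap α).comap σ).comap MvPolynomial.C =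
        (hV.primeIdealOf ⟨f x, hxV⟩).asIdeal.comap β from hP ▸ hregβ
    rw [Ideal.comap_comap, Ideal.comap_comap,
      show (σ.comp MvPolynomial.C) = MvPolynomial.C.comp β from RingHom.ext fun r => MvPolynomial.map_C β r,
      ← RingHom.comp_assoc, show α.comp MvPolynomial.C = (f.appLE V U eU).hom from hαC, ← Ideal.comap_comap]
    congr 1
    exact (congrArg PrimeSpectrum.asIdeal
      (IsAffineOpen.comap_primeIdealOf_appLE (f := f) V hV U hU eU hxU))

end Groth.L07.KoszulChart
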