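import Groth.Agent.L07.RegAtSmooth
import Groth.Agent.L16.ProjSpace.StdSmooth

/-! Independence of the presentation. -/

set_option autoImplicit false
set_option linter.style.haveILetI false
set_option maxSynthPendingDepth 3

universe u

open MvPolynomial
open scoped TensorProduct

namespace Groth.L07.KoszulIdeal

variable {A B : Type u} [CommRing A] [CommRing B] [Algebra A B] {n m : ℕ}

/-- Regularity of the kernels of two presentations by standard smooth algebras agrees at primes over the same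
prime. -/
theorem regAt_ker_iff {P₁ P₂ : Type u} [CommRing P₁] [CommRing P₂] [Algebra A P₁] [Algebra A P₂]
    [Algebra.IsStandardSmooth A P₁] [Algebra.IsStandardSmooth A P₂]
    (α : P₁ →ₐ[A] B) (hα : Function.Surjective α) (β : P₂ →ₐ[A] B) (hβ : Function.Surjective β)
    (𝔮 : Ideal B) [𝔮.IsPrime] :
    RegAt (RingHom.ker α.toRingHom) (𝔮.comap α.toRingHom) ↔ RegAt (RingHom.ker β.toRingHom) (𝔮.comap β.toRingHom) := by
  let γ : P₁ ⊗[A] P₂ →+* B := (Algebra.TensorProduct.lift α β fun _ _ => Commute.all _ _).toRingHom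
  let e : P₂ ⊗[A] P₁ ≃+* P₁ ⊗[A] P₂ := (Algebra.TensorProduct.comm A P₂ P₁).toRingEquiv
  let f₁ : P₁ →+* P₁ ⊗[A] P₂ := algebraMap P₁ _
  let f₂ : P₂ →+* P₁ ⊗[A] P₂ := e.toRingHom.comp (algebraMap P₂ _)
  have hs₁ : f₁.IsStandardSmooth := RingHom.isStandardSmooth_algebraMap.mpr inferInstance
  have hs₂ : f₂.IsStandardSmooth :=
    RingHom.IsStandardSmooth.comp (RingHom.IsStandardSmoothOfRelativeDimension.equiv e).isStandardSmooth
      (RingHom.isStandardSmooth_algebraMap.mpr inferInstance)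
  have h1 : γ.comp f₁ = α.toRingHom := RingHom.ext fun x => by
    show γ (x ⊗ₜ[A] (1 : P₂)) = α x
    simp [γ]
  have h2 : γ.comp f₂ = β.toRingHom := RingHom.ext fun y => by
    show γ (Algebra.TensorProduct.comm A P₂ P₁ (y ⊗ₜ[A] (1 : P₁))) = β y
    simp [γ]
  have key : ∀ {R : Type u} [CommRing R] (f : R →+* P₁ ⊗[A] P₂) (π : R →+* B), γ.comp f = π → Function.Surjective π →
      f.IsStandardSmooth → (RegAt (RingHom.ker γ) (𝔮.comap γ) ↔ RegAt (RingHom.ker π) (𝔮.comap π)) := by
    intro R _ f π e hπ hf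
    subst e
    have := regAt_iff_of_standardSmooth f hf (RingHom.ker γ) (fun y => by
      obtain ⟨x, rfl⟩ := Ideal.Quotient.mk_surjective y
      obtain ⟨r, hr⟩ := hπ (γ x)
      exact ⟨r, Ideal.Quotient.eq.mpr (by rw [RingHom.mem_ker, map_sub]; exact sub_eq_zero.mpr hr)⟩)
      (𝔮.comap γ) (fun x hx => by rw [Ideal.mem_comap, RingHom.mem_ker.mp hx]; exact zero_mem 𝔮)
    rwa [RingHom.comap_ker, Ideal.comap_comap] at this
  exact (key f₁ α.toRingHom h1 hα hs₁).symm.trans (key f₂ β.toRingHom h2 hβ hs₂)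

theorem isStandardSmooth_mvPolynomial (A : Type u) [CommRing A] (n : ℕ) :
    Algebra.IsStandardSmooth A (MvPolynomial (Fin n) A) :=
  haveI := Groth.L16.isStandardSmoothOfRelativeDimension_mvPolynomial A (Fin n)
  Algebra.IsStandardSmoothOfRelativeDimension.isStandardSmooth (Nat.card (Fin n))

theorem isStandardSmooth_away (A : Type u) [CommRing A] (n : ℕ) (G : MvPolynomial (Fin n) A) :
    Algebra.IsStandardSmooth A (Localization.Away G) := by
  haveI := isStandardSmooth_mvPolynomial A n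
  haveI := Algebra.IsStandardSmoothOfRelativeDimension.localization_away (S := Localization.Away G) G
  haveI : Algebra.IsStandardSmooth (MvPolynomial (Fin n) A) (Localization.Away G) :=
    Algebra.IsStandardSmoothOfRelativeDimension.isStandardSmooth 0
  exact Algebra.IsStandardSmooth.trans A (MvPolynomial (Fin n) A) (Localization.Away G)

theorem isKoszulRegularIdeal_ker_iff {R : Type u} [CommRing R] (π : R →+* B) (hπ : Function.Surjective π) :
    LCI.IsKoszulRegularIdeal (RingHom.ker π) ↔ ∀ (𝔮 : Ideal B) [𝔮.IsPrime], RegAt (RingHom.ker π) (𝔮.comap π) := by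
  rw [isKoszulRegularIdeal_iff]
  refine ⟨fun h 𝔮 _ => h _ (fun x hx => by rw [Ideal.mem_comap, RingHom.mem_ker.mp hx]; exact zero_mem 𝔮),
    fun h p _ hp => ?_⟩
  haveI := Ideal.map_isPrime_of_surjective hπ hp
  have := h (p.map π)
  rwa [Ideal.comap_map_of_surjective π hπ, ← RingHom.ker_eq_comap_bot, sup_eq_left.mpr hp] at this

/-- Koszul regularity of the kernel does not depend on the presentation. -/
theorem isKoszulRegularIdeal_ker_of_presentation (α : MvPolynomial (Fin n) A →ₐ[A] B) (hα : Function.Surjective α)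
    (β : MvPolynomial (Fin m) A →ₐ[A] B) (hβ : Function.Surjective β)
    (h : LCI.IsKoszulRegularIdeal (RingHom.ker α.toRingHom)) : LCI.IsKoszulRegularIdeal (RingHom.ker β.toRingHom) := by
  rw [isKoszulRegularIdeal_ker_iff _ hβ]
  intro 𝔮 _
  haveI := isStandardSmooth_mvPolynomial A n
  haveI := isStandardSmooth_mvPolynomial A m
  exact (regAt_ker_iff α hα β hβ 𝔮).mp ((isKoszulRegularIdeal_ker_iff _ hα).mp h 𝔮)

/-- Being a local complete intersection is local on the source. -/
theorem isLCI_of_localizations {k : ℕ} (g : Fin k → B) (hg : Ideal.span (Set.range g) = ⊤)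
    (h : ∀ j, LCI.IsLCI A (Localization.Away (g j))) : LCI.IsLCI A B := by
  have hft : Algebra.FiniteType A B := Algebra.FiniteType.of_span_eq_top_target (Set.range g) hg
    (by rintro _ ⟨j, rfl⟩; exact (h j).1)
  obtain ⟨n, α, hα⟩ := Algebra.FiniteType.iff_quotient_mvPolynomial''.mp hft
  refine ⟨hft, n, α, hα, (isKoszulRegularIdeal_ker_iff _ hα).mpr fun 𝔮 _ => ?_⟩
  obtain ⟨j, hj⟩ : ∃ j, g j ∉ 𝔮 := by
    by_contra! hc
    exact (inferInstance : 𝔮.IsPrime).ne_top (top_le_iff.mp (hg ▸ Ideal.span_le.mpr (by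
      rintro _ ⟨j, rfl⟩; exact hc j)))
  obtain ⟨G, hG⟩ := hα (g j)
  obtain ⟨-, m, β, hβ, hreg⟩ := h j
  let M := Localization.Away G
  let ψ : MvPolynomial (Fin n) A →+* M := algebraMap _ M
  let S := Localization.Away (g j)
  have huG : IsUnit (((IsScalarTower.toAlgHom A B S).comp α) G) := by
    show IsUnit (algebraMap B S (α G))
    rw [hG]; exact IsLocalization.Away.algebraMap_isUnit (g j)
  let α₁ : M →ₐ[A] S := IsLocalization.liftAlgHom (M := Submonoid.powers G) (f := (IsScalarTower.toAlgHom A B S).comp α)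
    fun y => by
      obtain ⟨_, e, rfl⟩ := y
      rw [map_pow]; exact huG.pow e
  have hψ : α₁.toRingHom.comp ψ = (algebraMap B S).comp α.toRingHom :=
    RingHom.ext fun x => IsLocalization.lift_eq _ x
  have hα₁ : Function.Surjective α₁ := fun y => by
    obtain ⟨b, ⟨_, e, rfl⟩, rfl⟩ := IsLocalization.exists_mk'_eq (Submonoid.powers (g j)) y
    obtain ⟨x, rfl⟩ := hα b
    refine ⟨IsLocalization.mk' M x (⟨G ^ e, e, rfl⟩ : Submonoid.powers G), ?_⟩
    rw [IsLocalization.eq_mk'_iff_mul_eq]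
    show α₁ _ * algebraMap B S (g j ^ e) = algebraMap B S (α x)
    rw [show g j ^ e = α (G ^ e) by rw [map_pow, hG], show algebraMap B S (α (G ^ e)) = α₁ (ψ (G ^ e)) from (RingHom.congr_fun hψ _).symm, ← map_mul,
      IsLocalization.mk'_spec]
    exact RingHom.congr_fun hψ x
  let 𝔮' : Ideal S := 𝔮.map (algebraMap B S)
  have hd : Disjoint (Submonoid.powers (g j) : Set B) (𝔮 : Set B) :=
    (Ideal.disjoint_powers_iff_notMem_of_isPrime _).mpr hj
  haveI : 𝔮'.IsPrime := IsLocalization.isPrime_of_isPrime_disjoint (Submonoid.powers (g j)) S 𝔮 inferInstance hd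
  have hc : 𝔮'.comap (algebraMap B S) = 𝔮 :=
    IsLocalization.comap_map_of_isPrime_disjoint (Submonoid.powers (g j)) S inferInstance hd
  haveI := isStandardSmooth_away A n G
  haveI := isStandardSmooth_mvPolynomial A m
  have hreg₁ := (regAt_ker_iff α₁ hα₁ β hβ 𝔮').mpr ((isKoszulRegularIdeal_ker_iff _ hβ).mp hreg 𝔮')
  have hP : 𝔮.comap α.toRingHom = (𝔮'.comap α₁.toRingHom).comap ψ := by
    rw [Ideal.comap_comap, hψ, ← Ideal.comap_comap, hc]
  haveI := Ideal.comap_isPrime α₁.toRingHom 𝔮'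
  rw [hP]
  refine regAt_descend ψ (RingHom.flat_algebraMap_iff.mpr (IsLocalization.flat _ (Submonoid.powers G)))
    (PrimeSpectrum.localization_away_isOpenEmbedding M G).isOpenMap _ _ ?_ ?_
  · rw [← hP]
    exact fun x hx => by rw [Ideal.mem_comap, RingHom.mem_ker.mp hx]; exact zero_mem 𝔮
  · suffices (RingHom.ker α.toRingHom).map ψ = RingHom.ker α₁.toRingHom from this ▸ hreg₁
    refine le_antisymm (Ideal.map_le_iff_le_comap.mpr fun x hx => ?_) fun z hz => ?_
    · rw [Ideal.mem_comap, RingHom.mem_ker, ← RingHom.comp_apply, hψ, RingHom.comp_apply, RingHom.mem_ker.mp hx, map_zero]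
    · obtain ⟨x, s, rfl⟩ := IsLocalization.exists_mk'_eq (Submonoid.powers G) z
      rw [IsLocalization.mk'_mem_map_algebraMap_iff (Submonoid.powers G)]
      have h0 : algebraMap B S (α x) = 0 := by
        rw [show algebraMap B S (α x) = α₁.toRingHom (ψ x) from (RingHom.congr_fun hψ x).symm,
          ← IsLocalization.mk'_spec (M := Submonoid.powers G) M x s, map_mul, RingHom.mem_ker.mp hz, zero_mul]
      obtain ⟨⟨_, e, rfl⟩, he⟩ := (IsLocalization.map_eq_zero_iff (Submonoid.powers (g j)) S _).mp h0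
      refine ⟨G ^ e, ⟨e, rfl⟩, RingHom.mem_ker.mpr ?_⟩
      show α (G ^ e * x) = 0
      rw [map_mul, map_pow, hG]; exact he

end Groth.L07.KoszulIdeal
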