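import Groth.Agent.L07.RegImmComp
import Groth.Agent.L07.RegAtPresent
import Mathlib.AlgebraicGeometry.Morphisms.Separated
import Mathlib.AlgebraicGeometry.Morphisms.Smooth

/-! Koszul-regular immersions at a point, through affine charts; change of smooth ambient scheme. -/

set_option autoImplicit false
set_option linter.style.haveILetI false
set_option maxSynthPendingDepth 3

universe u

open CategoryTheory CategoryTheory.Limits AlgebraicGeometry

namespace Groth.L07.RegImmAt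

open Groth.L07.KoszulIdeal (RegAt SeqOn)
open Groth.L07.RegImmComp (Cut app_surjective)

theorem ker_restrict {X Y : Scheme.{u}} {i : Y ⟶ X} {W W' : X.Opens} (hW : IsAffineOpen W)
    (hW' : IsAffineOpen W') (hle : W' ≤ W) (hcl : IsClosedImmersion (i ∣_ W)) :
    IsClosedImmersion (i ∣_ W') ∧
      RingHom.ker (i.app W').hom = (RingHom.ker (i.app W).hom).map (X.presheaf.map (homOfLE hle).op).hom := by
  haveI := hcl
  haveI : IsAffine (W : Scheme.{u}) := hW
  have hUX : IsAffineOpen (i ⁻¹ᵁ W) := isAffine_of_isAffineHom (i ∣_ W)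
  have hsq : IsPullback (𝟙 Y) i i (𝟙 X) := IsPullback.of_horiz_isIso ⟨by simp⟩
  have hle' : W' ≤ (𝟙 X : X ⟶ X) ⁻¹ᵁ W := hle
  have hUY : i ⁻¹ᵁ W' = (𝟙 Y : Y ⟶ Y) ⁻¹ᵁ (i ⁻¹ᵁ W) ⊓ i ⁻¹ᵁ W' := by
    rw [eq_comm, inf_eq_right]
    exact fun y hy => hle hy
  refine ⟨?_, ?_⟩
  · have hp := Scheme.Hom.isPullback_resLE hsq hle' (le_rfl : i ⁻¹ᵁ W ≤ i ⁻¹ᵁ W) hUY
    rw [Scheme.Hom.resLE_eq_morphismRestrict, Scheme.Hom.resLE_eq_morphismRestrict] at hp
    exact MorphismProperty.of_isPullback hp hcl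
  have hpush := (isIso_pushoutSection_iff hsq hle' (le_rfl : i ⁻¹ᵁ W ≤ i ⁻¹ᵁ W) hUY).mp
    (isIso_pushoutSection_of_isAffineOpen hsq hle' le_rfl hUY hW hW' hUX)
  have hσ : Function.Surjective (i.appLE W (i ⁻¹ᵁ W) le_rfl).hom := by
    rw [← Scheme.Hom.app_eq_appLE]; exact app_surjective i W hW hcl
  have hk := Groth.L07.RegImmBC.ker_of_isPushout hpush hσ
  simp only [← Scheme.Hom.app_eq_appLE] at hk
  rw [hk]
  congr 1

/-- Regularity of a closed immersion at a point, read in an affine chart. -/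
theorem regularAt_iff {X Y : Scheme.{u}} (i : Y ⟶ X) (W : X.Opens) (hW : IsAffineOpen W)
    (hcl : IsClosedImmersion (i ∣_ W)) (y : Y) (hy : i y ∈ W) :
    RegImm.IsRegularImmersionAt .koszul i y ↔
      RegAt (RingHom.ker (i.app W).hom) (hW.primeIdealOf ⟨i y, hy⟩).asIdeal := by
  have hmem : ∀ g : Γ(X, W), i y ∈ X.basicOpen g ↔ g ∉ (hW.primeIdealOf ⟨i y, hy⟩).asIdeal := fun g => by
    have h1 : hW.fromSpec (hW.primeIdealOf ⟨i y, hy⟩) = i y := hW.fromSpec_primeIdealOf ⟨i y, hy⟩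
    have h2 : hW.primeIdealOf ⟨i y, hy⟩ ∈ hW.fromSpec ⁻¹ᵁ X.basicOpen g ↔ i y ∈ X.basicOpen g := by
      show hW.fromSpec (hW.primeIdealOf ⟨i y, hy⟩) ∈ X.basicOpen g ↔ _
      rw [h1]
    rw [← h2, hW.fromSpec_preimage_basicOpen]
    rfl
  constructor
  · rintro ⟨⟨U, hU⟩, hyU, hclU, rs, hrs, hker⟩
    obtain ⟨g, g', e, hyg⟩ := exists_basicOpen_le_affine_inter hW hU (i y) ⟨hy, hyU⟩
    have hleU : X.basicOpen g ≤ U := e.trans_le (X.basicOpen_le g')
    obtain ⟨-, rs', -, hrs', hker'⟩ :=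
      Groth.L07.RegImmComp.cut_restrict (n := rs.length) hU (hW.basicOpen g) hleU ⟨hclU, rs, rfl, hrs, hker⟩
    obtain ⟨-, hk⟩ := ker_restrict hW (hW.basicOpen g) (X.basicOpen_le g) hcl
    letI := hW.isLocalization_basicOpen g
    let ε := IsLocalization.algEquiv (Submonoid.powers g) Γ(X, X.basicOpen g) (Localization.Away g)
    obtain ⟨l', -, hl'⟩ := Groth.L07.KoszulIdeal.exists_seqOn_of_away
      (Groth.L07.KoszulFlat.isKoszulRegularSeq_map ε.toRingHom (RingHom.Flat.of_bijective ε.bijective) rs' hrs')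
      (show (RingHom.ker (i.app W).hom).map (algebraMap Γ(X, W) (Localization.Away g)) = _ by
        rw [← Ideal.map_ofList, ← hker', hk, Ideal.map_map]
        congr 1
        exact RingHom.ext fun x => (ε.commutes x).symm)
    exact ⟨g, (hmem g).mp hyg, l', hl'⟩
  · rintro ⟨g, hg, l, hl⟩
    obtain ⟨hc, hk⟩ := ker_restrict hW (hW.basicOpen g) (X.basicOpen_le g) hcl
    letI := hW.isLocalization_basicOpen g
    have hu : IsUnit (algebraMap Γ(X, W) Γ(X, X.basicOpen g) g) := IsLocalization.Away.algebraMap_isUnit g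
    refine ⟨⟨X.basicOpen g, hW.basicOpen g⟩, (hmem g).mpr hg, hc,
      l.map (algebraMap Γ(X, W) Γ(X, X.basicOpen g)),
      hl.regular _ (RingHom.flat_algebraMap_iff.mpr (IsLocalization.flat _ (Submonoid.powers g))) hu, ?_⟩
    rw [hk]
    exact hl.map_eq _ hu

/-- Closedness passes to smaller opens. -/
theorem restrict_closed {X Y : Scheme.{u}} (i : Y ⟶ X) {W W' : X.Opens} (hle : W' ≤ W)
    (hcl : IsClosedImmersion (i ∣_ W)) : IsClosedImmersion (i ∣_ W') := by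
  have hsq : IsPullback (𝟙 Y) i i (𝟙 X) := IsPullback.of_horiz_isIso ⟨by simp⟩
  have hp := Scheme.Hom.isPullback_resLE hsq (show W' ≤ (𝟙 X : X ⟶ X) ⁻¹ᵁ W from hle)
    (le_rfl : i ⁻¹ᵁ W ≤ i ⁻¹ᵁ W) (show i ⁻¹ᵁ W' = (𝟙 Y : Y ⟶ Y) ⁻¹ᵁ (i ⁻¹ᵁ W) ⊓ i ⁻¹ᵁ W' by
      rw [eq_comm, inf_eq_right]
      exact fun y hy => hle hy)
  rw [Scheme.Hom.resLE_eq_morphismRestrict, Scheme.Hom.resLE_eq_morphismRestrict] at hp
  exact MorphismProperty.of_isPullback hp hcl

/-- An immersion is closed near each point. -/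
theorem exists_isClosedImmersion_restrict {X Y : Scheme.{u}} (i : Y ⟶ X) [IsImmersion i] (y : Y) :
    ∃ W : X.Opens, i y ∈ W ∧ IsClosedImmersion (i ∣_ W) := by
  refine ⟨i.coborderRange, subset_coborder ⟨y, rfl⟩, ?_⟩
  have hall : i ⁻¹ᵁ i.coborderRange = ⊤ := top_le_iff.mp fun z _ => subset_coborder ⟨z, rfl⟩
  haveI : IsIso (i ⁻¹ᵁ i.coborderRange).ι := by
    rw [hall]; exact inferInstanceAs (IsIso (Scheme.topIso Y).hom)
  have : i ∣_ i.coborderRange = (i ⁻¹ᵁ i.coborderRange).ι ≫ i.liftCoborder := by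
    rw [← cancel_mono i.coborderRange.ι, morphismRestrict_ι, Category.assoc, Scheme.Hom.liftCoborder_ι]
  rw [this]
  infer_instance

/-- The smooth change of ambient scheme in a pair of affine charts. -/
theorem regularAt_chart_iff {X V V' : Scheme.{u}} (j : X ⟶ V') (p : V' ⟶ V) (x : X)
    (D : V.Opens) (hD : IsAffineOpen D) (D' : V'.Opens) (hD' : IsAffineOpen D') (eD' : D' ≤ p ⁻¹ᵁ D)
    [IsSeparated (p.resLE D D' eD')]
    (hss' : (p.appLE D D' eD').hom.IsStandardSmooth) (hjD : j ⁻¹ᵁ D' = (j ≫ p) ⁻¹ᵁ D)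
    (hclD : IsClosedImmersion ((j ≫ p) ∣_ D)) (hxr : (j ≫ p) x ∈ D) :
    RegImm.IsRegularImmersionAt .koszul (j ≫ p) x ↔ RegImm.IsRegularImmersionAt .koszul j x := by
  haveI := hclD
  haveI : IsAffine (D : Scheme.{u}) := hD
  haveI : IsAffine (D' : Scheme.{u}) := hD'
  have hclD' : IsClosedImmersion (j ∣_ D') := by
    haveI : IsClosedImmersion (j ∣_ D' ≫ p.resLE D D' eD') := by
      rw [← Scheme.Hom.resLE_eq_morphismRestrict, Scheme.Hom.resLE_comp_resLE,
        Scheme.Hom.resLE_congr (j ≫ p) _ rfl hjD @IsClosedImmersion, Scheme.Hom.resLE_eq_morphismRestrict]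
      exact hclD
    exact IsClosedImmersion.of_comp (j ∣_ D') (p.resLE D D' eD')
  have hxD : (j ≫ p) x ∈ D := hxr
  have hxD' : j x ∈ D' := by
    show x ∈ j ⁻¹ᵁ D'
    rw [hjD]; exact hxD
  rw [regularAt_iff (j ≫ p) D hD hclD x hxD, regularAt_iff j D' hD' hclD' x hxD']
  let f := (p.appLE D D' eD').hom
  have hcomp : ∀ t, j.app D' (f t) = X.presheaf.map (eqToHom hjD).op ((j ≫ p).app D t) := fun t => by
    show ((p.appLE D D' eD') ≫ j.app D') t = ((j ≫ p).app D ≫ X.presheaf.map (eqToHom hjD).op) t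
    congr 2
    rw [Scheme.Hom.app_eq_appLE, Scheme.Hom.appLE_comp_appLE, Scheme.Hom.app_eq_appLE, Scheme.Hom.appLE_map]
  have hbij : Function.Bijective (X.presheaf.map (eqToHom hjD).op).hom := ConcreteCategory.bijective_of_isIso _
  have hkerD : (RingHom.ker (j.app D').hom).comap f = RingHom.ker ((j ≫ p).app D).hom := by
    ext t
    rw [Ideal.mem_comap, RingHom.mem_ker, RingHom.mem_ker, hcomp]
    exact map_eq_zero_iff _ hbij.1
  have hsurj : Function.Surjective ((Ideal.Quotient.mk (RingHom.ker (j.app D').hom)).comp f) := fun y => by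
    obtain ⟨w, rfl⟩ := Ideal.Quotient.mk_surjective y
    obtain ⟨v, hv⟩ := hbij.2 (j.app D' w)
    obtain ⟨t, rfl⟩ := app_surjective (j ≫ p) D hD hclD v
    refine ⟨t, Ideal.Quotient.eq.mpr ?_⟩
    rw [RingHom.mem_ker, map_sub, hcomp, hv, sub_self]
  have hJP : RingHom.ker (j.app D').hom ≤ (hD'.primeIdealOf ⟨j x, hxD'⟩).asIdeal := by
    haveI := hclD'
    have hj' : IsAffineOpen (j ⁻¹ᵁ D') := isAffine_of_isAffineHom (j ∣_ D')
    intro w hw
    have := IsAffineOpen.comap_primeIdealOf_appLE (f := j) D' hD' (j ⁻¹ᵁ D') hj' le_rfl (show x ∈ j ⁻¹ᵁ D' from hxD')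
    rw [← this]
    rw [PrimeSpectrum.comap_asIdeal, Ideal.mem_comap, ← Scheme.Hom.app_eq_appLE, RingHom.mem_ker.mp hw]
    exact zero_mem _
  rw [Groth.L07.KoszulIdeal.regAt_iff_of_standardSmooth f hss' _ hsurj _ hJP, hkerD,
    show ((hD'.primeIdealOf ⟨j x, hxD'⟩).asIdeal).comap f = (hD.primeIdealOf ⟨(j ≫ p) x, hxD⟩).asIdeal from
      congrArg PrimeSpectrum.asIdeal (IsAffineOpen.comap_primeIdealOf_appLE (f := p) D hD D' hD' eD' hxD')]


/-- Changing the ambient scheme by a smooth morphism. -/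
theorem regularAt_comp_smooth_iff {X V V' : Scheme.{u}} (j : X ⟶ V') (p : V' ⟶ V) [Smooth p] (i : X ⟶ V)
    (h : j ≫ p = i) (x : X) (W : V.Opens) (hxW : i x ∈ W) (hcl : IsClosedImmersion (i ∣_ W)) :
    RegImm.IsRegularImmersionAt .koszul i x ↔ RegImm.IsRegularImmersionAt .koszul j x := by
  subst h
  obtain ⟨U, hU, U', hU', hxU', e, hss⟩ := Smooth.exists_isStandardSmooth p (j x)
  have hxU : (j ≫ p) x ∈ U := e hxU'
  -- a basic open inside `U ⊓ W` whose preimage lies in `U'`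
  obtain ⟨a, ha, hxa⟩ := hU.exists_basicOpen_le (V := W) ⟨(j ≫ p) x, hxW⟩ hxU
  have hDa := hU.basicOpen a
  have hcla : IsClosedImmersion ((j ≫ p) ∣_ V.basicOpen a) := restrict_closed (j ≫ p) ha hcl
  haveI := hcla
  haveI : IsAffine (V.basicOpen a : Scheme.{u}) := hDa
  have hpre : IsAffineOpen ((j ≫ p) ⁻¹ᵁ V.basicOpen a) := isAffine_of_isAffineHom ((j ≫ p) ∣_ V.basicOpen a)
  obtain ⟨c, hc, hxc⟩ := hpre.exists_basicOpen_le (V := j ⁻¹ᵁ U') ⟨x, hxU'⟩ hxa
  obtain ⟨b, rfl⟩ := app_surjective (j ≫ p) (V.basicOpen a) hDa hcla c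
  obtain ⟨r, g', eD, hxr⟩ := exists_basicOpen_le_affine_inter hU (hDa.basicOpen b) ((j ≫ p) x)
    ⟨hxU, by show x ∈ (j ≫ p) ⁻¹ᵁ V.basicOpen b; rw [(j ≫ p).preimage_basicOpen b]; exact hxc⟩
  -- the two charts
  let D := V.basicOpen r
  let D' := V'.basicOpen (p.appLE U U' e r)
  have hD := hU.basicOpen r
  have hD' := hU'.basicOpen (p.appLE U U' e r)
  have hDb : D ≤ V.basicOpen b := eD.trans_le (V.basicOpen_le g')
  have eD' : D' ≤ p ⁻¹ᵁ D := by simp [D, D', Scheme.Hom.appLE]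
  have hss' : (p.appLE D D' eD').hom.IsStandardSmooth := by
    letI := hU.isLocalization_basicOpen r
    letI := hU'.isLocalization_basicOpen (p.appLE U U' e r)
    rw [IsAffineOpen.appLE_eq_away_map p hU hU' e r]
    exact RingHom.isStandardSmooth_localizationPreserves.away _ r _ _ hss
  have hjD : j ⁻¹ᵁ D' = (j ≫ p) ⁻¹ᵁ D := by
    refine le_antisymm (fun z hz => eD' hz) fun z hz => ?_
    have hz1 : j z ∈ U' := hc (by rw [← (j ≫ p).preimage_basicOpen b]; exact hDb hz)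
    show j z ∈ V'.basicOpen (p.appLE U U' e r)
    simp only [Scheme.Hom.appLE, CommRingCat.hom_comp, RingHom.comp_apply, Scheme.basicOpen_res]
    refine ⟨hz1, ?_⟩
    rw [← p.preimage_basicOpen r]
    exact hz
  have hclD : IsClosedImmersion ((j ≫ p) ∣_ D) := restrict_closed (j ≫ p) (hDb.trans (V.basicOpen_le b)) hcla
  haveI : IsAffine (D : Scheme.{u}) := hD
  haveI : IsAffine (D' : Scheme.{u}) := hD'
  exact regularAt_chart_iff j p x D hD D' hD' eD' hss' hjD hclD hxr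

end Groth.L07.RegImmAt
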