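import Groth.Agent.L03.RegImmFlat
import Groth.Agent.L07.RegImmAt
import Groth.Agent.L07.KoszulMor
import Groth.Agent.L07.H1Ideal
import Groth.Agent.L14.PPSmooth.QRDescent
import Groth.Agent.L22.LocalDim

/-! Regular immersions of the kinds Koszul, `H₁` and quasi descend along fpqc base change. -/

set_option autoImplicit false
set_option linter.style.haveILetI false
set_option maxSynthPendingDepth 3
set_option backward.isDefEq.respectTransparency false
set_option backward.isDefEq.respectTransparency.types false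

universe u

open CategoryTheory CategoryTheory.Limits AlgebraicGeometry

namespace Groth.L07.RegImmDescent

/-- `I` is locally generated by sequences of kind `k`, in terms of localisations. -/
def LocSeq (k : RegImm.Kind) {A : Type u} [CommRing A] (I : Ideal A) : Prop :=
  ∀ (p : Ideal A) [p.IsPrime], I ≤ p → ∃ g ∉ p, ∃ l : List (Localization.Away g),
    k.Seq (Localization.Away g) l ∧ I.map (algebraMap A (Localization.Away g)) = Ideal.ofList l

theorem locSeq_descend (k : RegImm.Kind) (hk : k ≠ RegImm.Kind.regular) {A B : Type u} [CommRing A]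
    [CommRing B] (φ : A →+* B) (hφ : φ.FaithfullyFlat) (I : Ideal A) (h : LocSeq k (I.map φ)) :
    LocSeq k I := by
  cases k with
  | regular => exact absurd rfl hk
  | koszul =>
    intro p hp hIp
    exact Groth.L07.KoszulIdeal.isKoszulRegularIdeal_descend φ hφ I
      (fun P hP => h P.asIdeal hP) ⟨p, hp⟩ hIp
  | h1 =>
    have hB : Groth.L07.H1Seq.IsH1Ideal (I.map φ) := fun q hq hIq => by
      obtain ⟨g, hg, l, hl, hgen⟩ := h q hIq
      obtain ⟨l', -, hl'⟩ := Groth.L07.H1Seq.exists_seqOn_of_away (l := l) hl hgen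
      exact ⟨g, hg, l', hl'⟩
    intro p hp hIp
    obtain ⟨g, hg, l, hl⟩ := Groth.L07.H1Seq.isH1Ideal_descend φ hφ I hB p hIp
    exact ⟨g, hg, _, hl.2.2, hl.map_eq _ (IsLocalization.Away.algebraMap_isUnit g)⟩
  | quasi =>
    letI := φ.toAlgebra
    haveI : Module.FaithfullyFlat A B := hφ
    have hB : PP16.IsLocallyQuasiRegular B (I.map (algebraMap A B)) := fun q hq hIq => by
      obtain ⟨g, hg, l, hl, hgen⟩ := h q hIq
      exact ⟨g, hg, l.length, l.get, hl, by rw [Set.range_list_get]; exact hgen.symm⟩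
    intro p hp hIp
    obtain ⟨g, hg, r, f, hf, hgen⟩ := Groth.L14.LocQR.descent hB p hIp
    have hlen : (List.ofFn f).length = r := List.length_ofFn
    have hget : (List.ofFn f).get = f ∘ Fin.cast hlen := by
      funext i
      simp
      rfl
    refine ⟨g, hg, List.ofFn f, ?_, ?_⟩
    · show CAlgX.IsQuasiRegular _
      rw [hget]
      exact Groth.L03.RegImmFlat.isQuasiRegular_cast hlen hf
    · rw [← hgen]
      show Ideal.span _ = Ideal.span _
      congr 1
      ext x
      simp [List.mem_ofFn]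

variable {X Z : Scheme.{u}}

theorem mem_basicOpen_iff_prime {U : X.Opens} (hU : IsAffineOpen U) {x : X} (hx : x ∈ U) (g : Γ(X, U)) :
    x ∈ X.basicOpen g ↔ g ∉ (hU.primeIdealOf ⟨x, hx⟩).asIdeal :=
  Groth.L22.LocalDim.mem_basicOpen_iff hU hx g

/-- The kernel of a closed immersion over an affine open is contained in the primes of its image. -/
theorem ker_le_primeIdealOf (i : Z ⟶ X) {U : X.Opens} (hU : IsAffineOpen U) (z : Z) (hz : i z ∈ U) :
    RingHom.ker (i.app U).hom ≤ (hU.primeIdealOf ⟨i z, hz⟩).asIdeal := by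
  intro a ha
  by_contra hna
  have h1 : i z ∈ X.basicOpen a := (mem_basicOpen_iff_prime hU hz a).2 hna
  have h2 : z ∈ i ⁻¹ᵁ X.basicOpen a := h1
  rw [Scheme.preimage_basicOpen, show i.app U a = 0 from ha, Scheme.basicOpen_zero] at h2
  exact h2

/-- Over an affine open, the primes containing the kernel come from the source. -/
theorem exists_point_of_ker_le (i : Z ⟶ X) {U : X.Opens} (hU : IsAffineOpen U)
    (hcl : IsClosedImmersion (i ∣_ U)) (p : Spec Γ(X, U))
    (hp : RingHom.ker (i.app U).hom ≤ p.asIdeal) :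
    ∃ (z : Z) (hz : i z ∈ U), hU.primeIdealOf ⟨i z, hz⟩ = p := by
  haveI := hcl
  haveI : IsAffine (U : Scheme.{u}) := hU
  have hUX : IsAffineOpen (i ⁻¹ᵁ U) := isAffine_of_isAffineHom (i ∣_ U)
  have hσ := Groth.L07.RegImmComp.app_surjective i U hU hcl
  have hmem : p.asIdeal ∈ Set.range (fun q : Spec Γ(Z, i ⁻¹ᵁ U) => q.asIdeal.comap (i.app U).hom) :=
    ⟨(⟨p.asIdeal.map (i.app U).hom, Ideal.map_isPrime_of_surjective hσ hp⟩ : PrimeSpectrum _), by
      show (p.asIdeal.map (i.app U).hom).comap (i.app U).hom = p.asIdeal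
      rw [Ideal.comap_map_of_surjective _ hσ, ← RingHom.ker_eq_comap_bot, sup_eq_left.2 hp]⟩
  obtain ⟨q, hq⟩ := hmem
  have hq' : Spec.map (i.app U) q = p := PrimeSpectrum.ext hq
  have key : hU.fromSpec p = i (hUX.fromSpec q) := by
    rw [← hq', Scheme.Hom.app_eq_appLE]
    have := congr(($(hU.SpecMap_appLE_fromSpec i hUX le_rfl)) q)
    simpa using this
  have hz : i (hUX.fromSpec q) ∈ U := by
    rw [← key]
    exact Groth.L22.LocalDim.fromSpec_mem hU p
  refine ⟨_, hz, hU.fromSpec.isOpenEmbedding.injective ?_⟩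
  rw [hU.fromSpec_primeIdealOf]
  exact key.symm

/-- A regular immersion gives local sequences in any affine chart. -/
theorem locSeq_of_regular (k : RegImm.Kind) (i : Z ⟶ X) {U : X.Opens} (hU : IsAffineOpen U)
    (hcl : IsClosedImmersion (i ∣_ U)) (hi : RegImm.IsRegularImmersion k i) :
    LocSeq k (RingHom.ker (i.app U).hom) := by
  intro p hp hIp
  obtain ⟨z, hz, hzp⟩ := exists_point_of_ker_le i hU hcl (⟨p, hp⟩ : PrimeSpectrum _) hIp
  obtain ⟨⟨W, hW⟩, hzW, hclW, rs, hrs, hker⟩ := hi.2 z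
  obtain ⟨g, g', e, hzg⟩ := exists_basicOpen_le_affine_inter hU hW (i z) ⟨hz, hzW⟩
  have hgp : g ∉ p := by
    have := (mem_basicOpen_iff_prime hU hz g).1 hzg
    rwa [hzp] at this
  have hleW : X.basicOpen g ≤ W := e.trans_le (X.basicOpen_le g')
  obtain ⟨-, hk⟩ := Groth.L07.RegImmAt.ker_restrict hU (hU.basicOpen g) (X.basicOpen_le g) hcl
  obtain ⟨-, hkW⟩ := Groth.L07.RegImmAt.ker_restrict hW (hU.basicOpen g) hleW hclW
  letI := hU.isLocalization_basicOpen g
  let ε := IsLocalization.algEquiv (Submonoid.powers g) Γ(X, X.basicOpen g) (Localization.Away g)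
  let ψ : Γ(X, W) →+* Localization.Away g :=
    ε.toRingEquiv.toRingHom.comp (X.presheaf.map (homOfLE hleW).op).hom
  have hψ : ψ.Flat := by
    refine RingHom.Flat.comp ?_ (RingHom.Flat.of_bijective ε.bijective)
    have := Flat.flat_appLE (𝟙 X) hW (hU.basicOpen g) hleW
    simpa [Scheme.Hom.appLE] using this
  have hgen : (RingHom.ker (i.app U).hom).map (algebraMap Γ(X, U) (Localization.Away g)) =
      Ideal.ofList (rs.map ψ) := by
    rw [← Ideal.map_ofList, ← hker, ← Ideal.map_map, ← hkW, hk, Ideal.map_map]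
    congr 1
    exact RingHom.ext fun x => (ε.commutes x).symm
  refine ⟨g, hgp, rs.map ψ, Groth.L03.RegImmFlat.seq_map ψ hψ k rs hrs ?_, hgen⟩
  rw [← hgen]
  intro htop
  have hP := IsLocalization.isPrime_of_isPrime_disjoint (Submonoid.powers g)
    (Localization.Away g) p hp ((Ideal.disjoint_powers_iff_notMem g hp.isRadical).2 hgp)
  exact hP.ne_top (eq_top_iff.2 (htop ▸ Ideal.map_mono hIp))

/-- Local sequences in an affine chart give regularity at its points. -/
theorem regularAt_of_locSeq (k : RegImm.Kind) (i : Z ⟶ X) {U : X.Opens} (hU : IsAffineOpen U)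
    (hcl : IsClosedImmersion (i ∣_ U)) (h : LocSeq k (RingHom.ker (i.app U).hom)) (z : Z)
    (hz : i z ∈ U) : RegImm.IsRegularImmersionAt k i z := by
  obtain ⟨g, hg, l, hl, hgen⟩ := h (hU.primeIdealOf ⟨i z, hz⟩).asIdeal (ker_le_primeIdealOf i hU z hz)
  have hzg : i z ∈ X.basicOpen g := (mem_basicOpen_iff_prime hU hz g).2 hg
  obtain ⟨hc, hk⟩ := Groth.L07.RegImmAt.ker_restrict hU (hU.basicOpen g) (X.basicOpen_le g) hcl
  letI := hU.isLocalization_basicOpen g
  let ε := IsLocalization.algEquiv (Submonoid.powers g) (Localization.Away g) Γ(X, X.basicOpen g)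
  have hgen' : RingHom.ker (i.app (X.basicOpen g)).hom = Ideal.ofList (l.map ε.toRingEquiv.toRingHom) := by
    rw [hk, ← Ideal.map_ofList, ← hgen, Ideal.map_map]
    congr 1
    exact RingHom.ext fun x => (ε.commutes x).symm
  refine ⟨⟨X.basicOpen g, hU.basicOpen g⟩, hzg, hc, l.map ε.toRingEquiv.toRingHom,
    Groth.L03.RegImmFlat.seq_map _ (RingHom.Flat.of_bijective ε.bijective) k l hl ?_, hgen'⟩
  haveI : Nonempty (i ⁻¹ᵁ X.basicOpen g).toScheme := ⟨⟨z, hzg⟩⟩
  haveI := Scheme.component_nontrivial Z (i ⁻¹ᵁ X.basicOpen g)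
  exact fun h => RingHom.ker_ne_top _ (hgen'.trans h)

/-- fpqc descent of regular immersions. -/
theorem descend {X' : Scheme.{u}} (i : Z ⟶ X) [IsImmersion i] (g : X' ⟶ X) [Flat g] [Surjective g]
    [QuasiCompact g] (k : RegImm.Kind) (hk : k ≠ RegImm.Kind.regular)
    (h : RegImm.IsRegularImmersion k (pullback.snd i g)) : RegImm.IsRegularImmersion k i := by
  refine ⟨‹_›, fun z => ?_⟩
  obtain ⟨W, hzW, hclW⟩ := Groth.L07.RegImmAt.exists_isClosedImmersion_restrict i z
  obtain ⟨_, ⟨U, hU, rfl⟩, hzU, hUW⟩ := X.isBasis_affineOpens.exists_subset_of_mem_open hzW W.2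
  change X.Opens at U
  replace hU : IsAffineOpen U := hU
  have hcl := Groth.L07.RegImmAt.restrict_closed i (show U ≤ W from hUW) hclW
  refine regularAt_of_locSeq k i hU hcl ?_ z hzU
  obtain ⟨T, hT, t, ht, htr⟩ := Groth.L07.KoszulChart.exists_affine_flat_cover (g ⁻¹ᵁ U)
    (g.isCompact_preimage hU.isCompact)
  haveI := ht
  let i' := pullback.snd (pullback.snd i g) t
  let g' := pullback.fst (pullback.snd i g) t ≫ pullback.fst i g
  have hsq : IsPullback g' i' i (t ≫ g) :=
    (IsPullback.of_hasPullback (pullback.snd i g) t).paste_horiz (IsPullback.of_hasPullback i g)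
  have hi' : RegImm.IsRegularImmersion k i' :=
    Groth.L03.RegImmFlat.isRegularImmersion_baseChange k (pullback.snd i g) t i' _
      (IsPullback.of_hasPullback _ _) h
  have hmemU : ∀ w, (t ≫ g) w ∈ U := fun w => by
    have : t w ∈ Set.range t := ⟨w, rfl⟩
    rw [htr] at this
    exact this
  have hle : (⊤ : T.Opens) ≤ (t ≫ g) ⁻¹ᵁ U := fun w _ => hmemU w
  haveI : IsAffine (U : Scheme.{u}) := hU
  haveI := hcl
  have hUZ : IsAffineOpen (i ⁻¹ᵁ U) := isAffine_of_isAffineHom (i ∣_ U)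
  have hUY : i' ⁻¹ᵁ ⊤ = g' ⁻¹ᵁ (i ⁻¹ᵁ U) ⊓ i' ⁻¹ᵁ ⊤ := by
    rw [eq_comm, inf_eq_right]
    intro w hw
    show i (g' w) ∈ U
    rw [show i (g' w) = (t ≫ g) (i' w) from congrArg (fun m : _ ⟶ X => m w) hsq.w]
    exact hmemU _
  have hcl' : IsClosedImmersion (i' ∣_ ⊤) := by
    have hp := Scheme.Hom.isPullback_resLE hsq hle (le_rfl : i ⁻¹ᵁ U ≤ i ⁻¹ᵁ U) hUY
    rw [Scheme.Hom.resLE_eq_morphismRestrict, Scheme.Hom.resLE_eq_morphismRestrict] at hp
    exact MorphismProperty.of_isPullback hp hcl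
  have hpush := (isIso_pushoutSection_iff hsq hle (le_rfl : i ⁻¹ᵁ U ≤ i ⁻¹ᵁ U) hUY).mp
    (isIso_pushoutSection_of_isAffineOpen hsq hle le_rfl hUY hU (isAffineOpen_top T) hUZ)
  have hσ : Function.Surjective (i.appLE U (i ⁻¹ᵁ U) le_rfl).hom := by
    rw [← Scheme.Hom.app_eq_appLE]
    exact Groth.L07.RegImmComp.app_surjective i U hU hcl
  have hk' := Groth.L07.RegImmBC.ker_of_isPushout hpush hσ
  simp only [← Scheme.Hom.app_eq_appLE] at hk'
  have hloc := locSeq_of_regular k i' (isAffineOpen_top T) hcl' hi'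
  rw [hk'] at hloc
  refine locSeq_descend k hk _ ?_ _ hloc
  rw [RingHom.FaithfullyFlat.iff_flat_and_comap_surjective]
  refine ⟨Flat.flat_appLE (t ≫ g) hU (isAffineOpen_top T) hle, fun p => ?_⟩
  obtain ⟨x', hx'⟩ := g.surjective (hU.fromSpec p)
  have hx'mem : x' ∈ g ⁻¹ᵁ U := by
    show g x' ∈ U
    rw [hx']
    exact Groth.L22.LocalDim.fromSpec_mem hU p
  obtain ⟨w, hw⟩ : x' ∈ Set.range t := by rw [htr]; exact hx'mem
  refine ⟨(isAffineOpen_top T).primeIdealOf ⟨w, trivial⟩, hU.fromSpec.isOpenEmbedding.injective ?_⟩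
  show hU.fromSpec (Spec.map _ _) = _
  rw [← hx', ← hw]
  have := congr(($(hU.SpecMap_appLE_fromSpec (t ≫ g) (isAffineOpen_top T) hle))
    ((isAffineOpen_top T).primeIdealOf ⟨w, trivial⟩))
  rw [Scheme.Hom.comp_apply, Scheme.Hom.comp_apply, (isAffineOpen_top T).fromSpec_primeIdealOf] at this
  exact this

end Groth.L07.RegImmDescent
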