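import Groth.Agent.L07.KoszulGeneric
import Groth.Agent.L07.RegImmBC
import Groth.Agent.L07.RegImmDescent
import Mathlib.AlgebraicGeometry.Morphisms.Smooth
import Mathlib.AlgebraicGeometry.Limits
import Mathlib.RingTheory.RingHom.Smooth

/-!
A Koszul-regular closed immersion becomes a regular immersion after a surjective smooth base change.
-/

set_option autoImplicit false
set_option maxSynthPendingDepth 3
set_option linter.style.haveILetI false
set_option backward.isDefEq.respectTransparency false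
set_option backward.isDefEq.respectTransparency.types false

universe u

open CategoryTheory CategoryTheory.Limits AlgebraicGeometry TopologicalSpace Opposite

namespace Groth.L07.KoszulSmoothCover

variable {X Z X' Z' : Scheme.{u}}

/-- The ideal of a base change of a closed immersion, on affine opens. -/
theorem ker_baseChange {i : Z ⟶ X} {g : X' ⟶ X} {i' : Z' ⟶ X'} {g' : Z' ⟶ Z}
    [IsClosedImmersion i] (hsq : IsPullback g' i' i g) {W : X.Opens} (hW : IsAffineOpen W)
    {W' : X'.Opens} (hW' : IsAffineOpen W') (hle : W' ≤ g ⁻¹ᵁ W) :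
    RingHom.ker (i'.app W').hom = (RingHom.ker (i.app W).hom).map (g.appLE W W' hle).hom := by
  have hUY : i' ⁻¹ᵁ W' = g' ⁻¹ᵁ (i ⁻¹ᵁ W) ⊓ i' ⁻¹ᵁ W' := by
    rw [eq_comm, inf_eq_right]
    intro y hy
    show i (g' y) ∈ W
    rw [show i (g' y) = g (i' y) from congrArg (fun m : Z' ⟶ X => m y) hsq.w]
    exact hle hy
  have hUX : IsAffineOpen (i ⁻¹ᵁ W) := hW.preimage i
  have hσ : Function.Surjective (i.appLE W (i ⁻¹ᵁ W) le_rfl).hom := by
    rw [← Scheme.Hom.app_eq_appLE]; exact i.app_surjective W hW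
  have hpush := (isIso_pushoutSection_iff hsq hle (le_rfl : i ⁻¹ᵁ W ≤ i ⁻¹ᵁ W) hUY).mp
    (isIso_pushoutSection_of_isAffineOpen hsq hle le_rfl hUY hW hW' hUX)
  have hk := Groth.L07.RegImmBC.ker_of_isPushout hpush hσ
  simp only [← Scheme.Hom.app_eq_appLE] at hk
  exact hk

theorem appLE_specMap_fromSpec {W : X.Opens} (hW : IsAffineOpen W) {B : CommRingCat.{u}}
    (φ : Γ(X, W) ⟶ B) (e : ⊤ ≤ (Spec.map φ ≫ hW.fromSpec) ⁻¹ᵁ W) :
    (Spec.map φ ≫ hW.fromSpec).appLE W ⊤ e = φ ≫ (Scheme.ΓSpecIso B).inv := by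
  have e₂ : (⊤ : (Spec B).Opens) ≤ Spec.map φ ⁻¹ᵁ ⊤ := le_rfl
  rw [← Scheme.Hom.appLE_comp_appLE (Spec.map φ) hW.fromSpec W ⊤ ⊤ hW.fromSpec_preimage_self.ge e₂,
    show hW.fromSpec.appLE W ⊤ hW.fromSpec_preimage_self.ge = (Scheme.ΓSpecIso Γ(X, W)).inv by
      rw [Scheme.Hom.appLE, hW.fromSpec_app_self, Category.assoc, ← Functor.map_comp,
        Subsingleton.elim ((eqToHom hW.fromSpec_preimage_self).op ≫ _) (𝟙 _),
        CategoryTheory.Functor.map_id, Category.comp_id],
    show (Spec.map φ).appLE ⊤ ⊤ e₂ = (Spec.map φ).appTop from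
      (Scheme.Hom.app_eq_appLE (f := Spec.map φ) (U := ⊤)).symm]
  exact (Scheme.ΓSpecIso_inv_naturality φ).symm

theorem exists_smooth_cover (i : Z ⟶ X) [IsClosedImmersion i]
    (hi : RegImm.IsRegularImmersion RegImm.Kind.koszul i) :
    ∃ (X' : Scheme.{u}) (g : X' ⟶ X), Smooth g ∧ Surjective g ∧
      RegImm.IsRegularImmersion RegImm.Kind.regular (pullback.snd i g) := by
  choose U hzU hcl rs hrs hker using hi.2
  choose σ hσ gs hgs hspan using fun z => Groth.L07.KoszulGeneric.exists_weaklyRegular (rs z) (hrs z)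
  let B : Z → CommRingCat.{u} := fun z => CommRingCat.of (MvPolynomial (σ z) Γ(X, (U z).1))
  let c : ∀ z, Γ(X, (U z).1) ⟶ B z := fun z => CommRingCat.ofHom MvPolynomial.C
  let C₀ : X.Opens := ⟨(Set.range i)ᶜ, i.isClosedEmbedding.isClosed_range.isOpen_compl⟩
  let F : Option Z → Scheme.{u} := fun o => o.elim C₀.toScheme fun z => Spec (B z)
  let m : ∀ o, F o ⟶ X := fun o => match o with
    | none => C₀.ι
    | some z => Spec.map (c z) ≫ (U z).2.fromSpec
  have hsm : ∀ o, Smooth (m o) := by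
    rintro (_ | z)
    · exact inferInstanceAs (Smooth C₀.ι)
    · haveI := hσ z
      haveI : Smooth (Spec.map (c z)) := (HasRingHomProperty.Spec_iff (P := @Smooth)).mpr (by
        show (algebraMap Γ(X, (U z).1) (MvPolynomial (σ z) Γ(X, (U z).1))).Smooth
        rw [RingHom.smooth_algebraMap]
        exact ⟨inferInstance, inferInstance⟩)
      exact inferInstanceAs (Smooth (Spec.map (c z) ≫ (U z).2.fromSpec))
  let g : ∐ F ⟶ X := Sigma.desc m
  have hg : Smooth g := IsZariskiLocalAtSource.sigmaDesc hsm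
  refine ⟨∐ F, g, hg, ?_, ?_⟩
  · refine Surjective.sigmaDesc_of_union_range_eq_univ (Set.eq_univ_of_forall fun x => ?_)
    by_cases hx : x ∈ Set.range i
    · obtain ⟨z, rfl⟩ := hx
      obtain ⟨p, hp⟩ : i z ∈ Set.range (U z).2.fromSpec := by
        rw [IsAffineOpen.range_fromSpec]; exact hzU z
      let r : B z ⟶ Γ(X, (U z).1) := CommRingCat.ofHom MvPolynomial.constantCoeff
      refine Set.mem_iUnion.mpr ⟨some z, Spec.map r p, ?_⟩
      show (U z).2.fromSpec ((Spec.map r ≫ Spec.map (c z)) p) = i z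
      rw [← Spec.map_comp, show c z ≫ r = 𝟙 _ from CommRingCat.hom_ext
        (RingHom.ext fun a => MvPolynomial.constantCoeff_C _ a), Spec.map_id]
      exact hp
    · exact Set.mem_iUnion.mpr ⟨none, ⟨x, hx⟩, rfl⟩
  · haveI : IsClosedImmersion (pullback.snd i g) := MorphismProperty.pullback_snd _ _ inferInstance
    refine ⟨inferInstance, fun y => ?_⟩
    obtain ⟨o, q, hq⟩ : ∃ o q, Sigma.ι F o q = pullback.snd i g y := by
      obtain ⟨q, hq⟩ := (sigmaOpenCover F).covers (pullback.snd i g y)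
      exact ⟨_, q, hq⟩
    have hgq : g (Sigma.ι F o q) = i (pullback.fst i g y) := by
      rw [hq]
      exact congrArg (fun f : pullback i g ⟶ X => f y) pullback.condition.symm
    rcases o with _ | z
    · exfalso
      have : C₀.ι q = g (Sigma.ι F none q) :=
        congrArg (fun f : F none ⟶ X => f q) (Sigma.ι_desc m none).symm
      exact q.2 ⟨pullback.fst i g y, (hgq.symm.trans this.symm)⟩
    let j : Spec (B z) ⟶ ∐ F := Sigma.ι F (some z)
    haveI : IsOpenImmersion j := inferInstanceAs (IsOpenImmersion (Sigma.ι F (some z)))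
    have hj : j ≫ g = Spec.map (c z) ≫ (U z).2.fromSpec := Sigma.ι_desc m (some z)
    let W' : (∐ F).Opens := j ''ᵁ ⊤
    have hW' : IsAffineOpen W' := (isAffineOpen_top _).image_of_isOpenImmersion j
    have hle : W' ≤ g ⁻¹ᵁ (U z).1 := by
      rintro _ ⟨p, -, rfl⟩
      show g (j p) ∈ (U z).1
      rw [show g (j p) = (U z).2.fromSpec (Spec.map (c z) p) from congrArg (fun f : Spec (B z) ⟶ X => f p) hj,
        ← SetLike.mem_coe, ← IsAffineOpen.range_fromSpec (U z).2]
      exact Set.mem_range_self _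
    have he : ⊤ ≤ j ⁻¹ᵁ W' := (j.preimage_image_eq ⊤).ge
    haveI : IsIso (j.appLE W' ⊤ he) := by
      rw [show j.appLE W' ⊤ he = (j.appIso ⊤).hom from (Scheme.Hom.appIso_hom' j ⊤).symm]
      infer_instance
    let E : B z ≅ Γ(∐ F, W') := (Scheme.ΓSpecIso (B z)).symm ≪≫ (asIso (j.appLE W' ⊤ he)).symm
    have hE : g.appLE (U z).1 W' hle = c z ≫ E.hom := by
      have h0 := Scheme.Hom.appLE_comp_appLE j g (U z).1 W' ⊤ hle he
      simp only [hj] at h0
      rw [appLE_specMap_fromSpec] at h0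
      show _ = c z ≫ (Scheme.ΓSpecIso (B z)).inv ≫ inv (j.appLE W' ⊤ he)
      rw [← Category.assoc, IsIso.eq_comp_inv]
      exact h0
    have hy : pullback.snd i g y ∈ W' := ⟨q, trivial, hq⟩
    refine ⟨⟨W', hW'⟩, hy, inferInstance, (gs z).map E.hom.hom, ⟨?_, ?_⟩, ?_⟩
    rotate_left 2
    · show RingHom.ker ((pullback.snd i g).app W').hom = _
      rw [ker_baseChange (IsPullback.of_hasPullback i g) (U z).2 hW' hle, hker z, hE, CommRingCat.hom_comp,
        ← Ideal.map_map, ← Ideal.map_ofList E.hom.hom (gs z), hspan z]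
      rfl
    · exact (AddEquiv.isWeaklyRegular_congr
        (e := E.commRingCatIsoToRingEquiv.toAddEquiv) (as := gs z) (bs := (gs z).map E.hom.hom)
        (List.forall₂_map_right_iff.mpr <| List.forall₂_same.mpr fun r _ x =>
          map_mul E.hom.hom r x)).mp (hgs z)
    · rw [Ideal.smul_eq_mul, Ideal.mul_top]
      intro htop
      have h1 := Groth.L07.RegImmDescent.ker_le_primeIdealOf (pullback.snd i g) hW' y hy
      rw [ker_baseChange (IsPullback.of_hasPullback i g) (U z).2 hW' hle, hker z, hE, CommRingCat.hom_comp,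
        ← Ideal.map_map] at h1
      rw [← Ideal.map_ofList, hspan z] at htop
      exact (hW'.primeIdealOf ⟨_, hy⟩).isPrime.ne_top (top_le_iff.mp (htop.le.trans h1))

end Groth.L07.KoszulSmoothCover
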