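import Groth.Agent.L07.RegAtPresent
import Groth.Agent.L07.RegSpread
import Groth.Agent.L07.RegularQuotient
import Mathlib.RingTheory.RegularLocalRing.Polynomial
import Mathlib.AlgebraicGeometry.Noetherian

/-! Maps of regular schemes are local complete intersections. -/

set_option autoImplicit false
set_option linter.style.haveILetI false
set_option maxSynthPendingDepth 3

universe u

open CategoryTheory AlgebraicGeometry RingTheory.Sequence

namespace Groth.L07.KoszulIdeal

/-- In a Noetherian ring a regular sequence of generators at a prime gives regularity near it. -/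
theorem regAt_of_atPrime {R : Type u} [CommRing R] [IsNoetherianRing R] (I Q : Ideal R) [Q.IsPrime] (hIQ : I ≤ Q)
    (L : Type u) [CommRing L] [IsLocalRing L] [IsNoetherianRing L] [Algebra R L] [IsLocalization.AtPrime L Q]
    (rs : List L) (hrs : IsWeaklyRegular L rs) (e : I.map (algebraMap R L) = Ideal.ofList rs) : RegAt I Q := by
  classical
  have hreg : LCI.IsKoszulRegularSeq L rs := by
    rw [Groth.L07.KoszulPerm.isKoszulRegularSeq_iff]
    exact fun n hn => Groth.L04.Koszul.isZero_of_isWeaklyRegular _ (ModuleCat.of L L) hrs n hn.ne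
  have key : ∀ x ∈ rs, ∃ a ∈ I, ∃ v : L, IsUnit v ∧ x * v = algebraMap R L a := fun x hx => by
    obtain ⟨⟨a, s⟩, he⟩ := (IsLocalization.mem_map_algebraMap_iff Q.primeCompl L).mp
      (e.ge (Ideal.subset_span hx))
    exact ⟨a.1, a.2, _, IsLocalization.map_units L s, he⟩
  choose a haI v hv hav using key
  let l := rs.pmap a fun _ h => h
  have hlI : ∀ x ∈ l, x ∈ I := fun x hx => by
    obtain ⟨y, hy, rfl⟩ := List.mem_pmap.mp hx
    exact haI y hy
  have hspan : Ideal.ofList (l.map (algebraMap R L)) = Ideal.ofList rs := by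
    refine le_antisymm (Ideal.span_le.mpr fun z hz => ?_) (Ideal.span_le.mpr fun x hx => ?_)
    · obtain ⟨w, hw, rfl⟩ := List.mem_map.mp (show z ∈ _ from hz)
      obtain ⟨y, hy, rfl⟩ := List.mem_pmap.mp hw
      rw [← hav y hy]
      exact Ideal.mul_mem_right _ _ (Ideal.subset_span hy)
    · refine (Ideal.mul_unit_mem_iff_mem _ (hv x hx)).mp ?_
      rw [hav x hx]
      exact Ideal.subset_span (List.mem_map.mpr ⟨_, List.mem_pmap.mpr ⟨x, hx, rfl⟩, rfl⟩)
  have hmax : ∀ x ∈ l.map (algebraMap R L), x ∈ IsLocalRing.maximalIdeal L := fun x hx => by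
    obtain ⟨y, hy, rfl⟩ := List.mem_map.mp hx
    exact (IsLocalization.AtPrime.to_map_mem_maximal_iff L Q y).mpr (hIQ (hlI y hy))
  have hK : LCI.IsKoszulRegularSeq L (l.map (algebraMap R L)) :=
    Groth.L07.KoszulPerm.isKoszulRegularSeq_of_ofList_eq hspan.symm (by simp [l]) hreg
  have hw := Groth.L07.KoszulBC.isWeaklyRegular_of_koszul _ hmax
    (fun n hn => Groth.L07.KoszulBC.isZero_of_isKoszulRegularSeq _ hK n hn)
  obtain ⟨g, hg, hT⟩ := Groth.L07.RegSeq.exists_away_isWeaklyRegular l Q L hw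
  obtain ⟨t, ht, htI⟩ := Groth.L07.RegSeq.exists_mul_mem_of_map_le (IsNoetherian.noetherian I) Q L
    (J := Ideal.ofList l) (by rw [e, Ideal.map_ofList, hspan])
  refine ⟨g * t, fun hm => (‹Q.IsPrime›.mem_or_mem hm).elim hg ht, l, hlI, fun x hx => ⟨1, ?_⟩, ?_⟩
  · rw [pow_one, mul_assoc]
    exact Ideal.mul_mem_left _ _ (htI x hx)
  · have hw' := hT (Localization.Away (g * t)) (g * t) inferInstance (dvd_mul_right g t)
    rw [Groth.L07.KoszulPerm.isKoszulRegularSeq_iff]
    exact fun n hn => Groth.L04.Koszul.isZero_of_isWeaklyRegular _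
      (ModuleCat.of (Localization.Away (g * t)) (Localization.Away (g * t))) hw' n hn.ne

/-- A prime of a regular ring with regular quotient at it. -/
theorem regAt_ker_of_regular {R B : Type u} [CommRing R] [IsRegularRing R] [CommRing B] (π : R →+* B)
    (hπ : Function.Surjective π) (𝔮 : Ideal B) [𝔮.IsPrime] [IsRegularLocalRing (Localization.AtPrime 𝔮)] :
    RegAt (RingHom.ker π) (𝔮.comap π) := by
  let Q := 𝔮.comap π
  let L := Localization.AtPrime Q
  let b : L →+* Localization.AtPrime 𝔮 := Localization.localRingHom Q 𝔮 π rfl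
  haveI : IsRegularLocalRing L := IsRegularRing.isRegularLocalRing_localization Q
  have hb : ∀ x, b (algebraMap R L x) = algebraMap B _ (π x) := fun x => Localization.localRingHom_to_map Q 𝔮 π rfl x
  have hsurj : Function.Surjective b := fun y => by
    obtain ⟨z, ⟨s, hs⟩, rfl⟩ := IsLocalization.exists_mk'_eq 𝔮.primeCompl y
    obtain ⟨z, rfl⟩ := hπ z
    obtain ⟨s, rfl⟩ := hπ s
    refine ⟨IsLocalization.mk' L z (⟨s, hs⟩ : Q.primeCompl), ?_⟩
    rw [IsLocalization.eq_mk'_iff_mul_eq]
    show b _ * algebraMap B _ (π s) = _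
    rw [← hb, ← map_mul, IsLocalization.mk'_spec (M := Q.primeCompl), hb]
  have hker : RingHom.ker b = (RingHom.ker π).map (algebraMap R L) := by
    refine le_antisymm (fun z hz => ?_) (Ideal.map_le_iff_le_comap.mpr fun c hc => ?_)
    · obtain ⟨c, s, rfl⟩ := IsLocalization.exists_mk'_eq Q.primeCompl z
      rw [IsLocalization.mk'_mem_map_algebraMap_iff Q.primeCompl]
      have h0 : algebraMap B (Localization.AtPrime 𝔮) (π c) = 0 := by
        rw [← hb, ← IsLocalization.mk'_spec (M := Q.primeCompl) L c s, map_mul, RingHom.mem_ker.mp hz, zero_mul]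
      obtain ⟨⟨w, hw⟩, hwc⟩ := (IsLocalization.map_eq_zero_iff 𝔮.primeCompl _ _).mp h0
      obtain ⟨w, rfl⟩ := hπ w
      exact ⟨w, hw, RingHom.mem_ker.mpr ((map_mul π w c).trans hwc)⟩
    · rw [Ideal.mem_comap, RingHom.mem_ker, hb, RingHom.mem_ker.mp hc, map_zero]
  haveI : IsRegularLocalRing (L ⧸ RingHom.ker b) :=
    IsRegularLocalRing.of_ringEquiv (RingHom.quotientKerEquivOfSurjective hsurj).symm
  obtain ⟨rs, hrs, e⟩ := (Groth.L07.RegQuot.regular_quotient_data (RingHom.ker b) inferInstance).1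
  exact regAt_of_atPrime (RingHom.ker π) Q (fun x hx => by
    rw [Ideal.mem_comap, RingHom.mem_ker.mp hx]; exact zero_mem _) L rs hrs.toIsWeaklyRegular
    (hker.symm.trans e.symm)

end Groth.L07.KoszulIdeal

namespace Groth.L07.KoszulChart

theorem isRegularRing_sections {X : Scheme.{u}} [IsLocallyNoetherian X]
    (hX : ∀ x : X, IsRegularLocalRing (X.presheaf.stalk x)) {V : X.Opens} (hV : IsAffineOpen V) :
    IsRegularRing Γ(X, V) := by
  haveI : IsNoetherianRing Γ(X, V) := IsLocallyNoetherian.component_noetherian ⟨V, hV⟩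
  refine isRegularRing_iff.2 fun p hp => ?_
  let x := hV.fromSpec (⟨p, hp⟩ : PrimeSpectrum Γ(X, V))
  have hx : x ∈ V := by rw [← SetLike.mem_coe, ← hV.range_fromSpec]; exact ⟨_, rfl⟩
  letI := TopCat.Presheaf.algebra_section_stalk X.presheaf (⟨x, hx⟩ : V)
  have : IsLocalization p.primeCompl (X.presheaf.stalk x) := hV.isLocalization_stalk' ⟨p, hp⟩ hx
  have := hX x
  exact IsRegularLocalRing.of_ringEquiv
    (IsLocalization.algEquiv p.primeCompl (X.presheaf.stalk x) (Localization.AtPrime p)).toRingEquiv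

end Groth.L07.KoszulChart
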