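import Groth.Agent.L07.RegImmAt
import Mathlib.AlgebraicGeometry.Morphisms.FiniteType

/-! Independence of the smooth ambient scheme. -/

set_option autoImplicit false
set_option linter.style.haveILetI false
set_option maxSynthPendingDepth 3

universe u

open CategoryTheory CategoryTheory.Limits AlgebraicGeometry

namespace Groth.L07.RegImmAt

/-- Regularity at a point only depends on a neighbourhood in the source. -/
theorem regularAt_restrict_iff {X Y Y' : Scheme.{u}} (k : Y' ⟶ Y) [IsOpenImmersion k] (i : Y ⟶ X) [IsImmersion i]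
    (y : Y') :
    RegImm.IsRegularImmersionAt .koszul (k ≫ i) y ↔ RegImm.IsRegularImmersionAt .koszul i (k y) := by
  obtain ⟨W₀, hyW₀, hcl₀⟩ := exists_isClosedImmersion_restrict i (k y)
  obtain ⟨_, ⟨W, hW, rfl⟩, hyW, hWle⟩ :=
    (X.isBasis_affineOpens).exists_subset_of_mem_open hyW₀ W₀.2
  have hcl := restrict_closed i hWle hcl₀
  haveI := hcl
  haveI : IsAffine (W : Scheme.{u}) := hW
  have hpre : IsAffineOpen (i ⁻¹ᵁ W) := isAffine_of_isAffineHom (i ∣_ W)
  obtain ⟨c, hc, hyc⟩ := hpre.exists_basicOpen_le (V := k.opensRange) ⟨k y, ⟨y, rfl⟩⟩ hyW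
  obtain ⟨b, rfl⟩ := Groth.L07.RegImmComp.app_surjective i W hW hcl c
  let D := X.basicOpen b
  have hD := hW.basicOpen b
  have hclD : IsClosedImmersion (i ∣_ D) := restrict_closed i (X.basicOpen_le b) hcl
  have hrange : i ⁻¹ᵁ D ≤ k.opensRange := by
    rw [i.preimage_basicOpen b]; exact hc
  have hyD : i (k y) ∈ D := by
    show k y ∈ i ⁻¹ᵁ D
    rw [i.preimage_basicOpen b]; exact hyc
  haveI : IsIso (k ∣_ i ⁻¹ᵁ D) := by
    haveI : Surjective (k ∣_ i ⁻¹ᵁ D) := ⟨fun z => by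
      obtain ⟨y', hy'⟩ := hrange z.2
      exact ⟨⟨y', show k y' ∈ i ⁻¹ᵁ D by rw [hy']; exact z.2⟩, Subtype.ext ((morphismRestrict_base_coe k _ _).trans hy')⟩⟩
    haveI : Epi (k ∣_ i ⁻¹ᵁ D).base := (TopCat.epi_iff_surjective _).mpr (k ∣_ i ⁻¹ᵁ D).surjective
    exact IsOpenImmersion.isIso _
  have hclk : IsClosedImmersion ((k ≫ i) ∣_ D) := by
    rw [morphismRestrict_comp]
    haveI := hclD
    haveI : IsClosedImmersion (k ∣_ i ⁻¹ᵁ D) := inferInstance
    exact IsClosedImmersion.comp (k ∣_ i ⁻¹ᵁ D) (i ∣_ D)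
  have hker : RingHom.ker ((k ≫ i).app D).hom = RingHom.ker (i.app D).hom := by
    haveI : IsIso (k.app (i ⁻¹ᵁ D)) := k.isIso_app _ hrange
    ext t
    rw [RingHom.mem_ker, RingHom.mem_ker]
    show k.app (i ⁻¹ᵁ D) (i.app D t) = 0 ↔ _
    exact map_eq_zero_iff _ (ConcreteCategory.bijective_of_isIso (k.app (i ⁻¹ᵁ D))).1
  rw [regularAt_iff (k ≫ i) D hD hclk y hyD, regularAt_iff i D hD hclD (k y) hyD, hker]
  rfl

/-- An immersion regular at a point is a regular immersion near it. -/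
theorem exists_open_regular_iff {X Y : Scheme.{u}} (i : Y ⟶ X) [IsImmersion i] (y : Y) :
    (∃ V : Y.Opens, y ∈ V ∧ RegImm.IsRegularImmersion .koszul (V.ι ≫ i)) ↔
      RegImm.IsRegularImmersionAt .koszul i y := by
  constructor
  · rintro ⟨V, hy, -, h⟩
    exact (regularAt_restrict_iff V.ι i ⟨y, hy⟩).mp (h ⟨y, hy⟩)
  · rintro ⟨U, hyU, hcl, rs, hrs, hker⟩
    exact ⟨i ⁻¹ᵁ U.1, hyU, inferInstance, fun z =>
      (regularAt_restrict_iff (i ⁻¹ᵁ U.1).ι i z).mpr ⟨U, z.2, hcl, rs, hrs, hker⟩⟩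

theorem regularAt_comp_smooth_iff' {X V V' : Scheme.{u}} (j : X ⟶ V') (p : V' ⟶ V) [Smooth p] (i : X ⟶ V)
    [IsImmersion i] (h : j ≫ p = i) (x : X) :
    RegImm.IsRegularImmersionAt .koszul i x ↔ RegImm.IsRegularImmersionAt .koszul j x := by
  obtain ⟨W, hxW, hcl⟩ := exists_isClosedImmersion_restrict i x
  exact regularAt_comp_smooth_iff j p i h x W hxW hcl

/-- Regularity at a point does not depend on the smooth ambient scheme. -/
theorem regularAt_iff_of_smooth {S X P P' : Scheme.{u}} (p : P ⟶ S) (p' : P' ⟶ S) [Smooth p] [Smooth p']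
    (i : X ⟶ P) (i' : X ⟶ P') [IsImmersion i] [IsImmersion i'] (h : i ≫ p = i' ≫ p') (x : X) :
    RegImm.IsRegularImmersionAt .koszul i x ↔ RegImm.IsRegularImmersionAt .koszul i' x := by
  haveI : Smooth (pullback.fst p p') := inferInstance
  haveI : Smooth (pullback.snd p p') := inferInstance
  rw [regularAt_comp_smooth_iff' (pullback.lift i i' h) (pullback.fst p p') i (pullback.lift_fst _ _ _) x,
    regularAt_comp_smooth_iff' (pullback.lift i i' h) (pullback.snd p p') i' (pullback.lift_snd _ _ _) x]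

/-- The local complete intersection property of a morphism, read in any smooth ambient scheme. -/
theorem regularAt_of_isKoszulAt {X Y Z : Scheme.{u}} (f : X ⟶ Y) (x : X) (hf : Synt.IsKoszulAt f x)
    (p : Z ⟶ Y) [Smooth p] (i : X ⟶ Z) [IsImmersion i] (h : i ≫ p = f) :
    RegImm.IsRegularImmersionAt .koszul i x := by
  obtain ⟨U, P, i', π, hxU, -, ⟨hi', hreg⟩, hπ, e⟩ := hf
  haveI := hi'
  haveI := hπ
  refine (regularAt_restrict_iff U.ι i ⟨x, hxU⟩).mp
    ((regularAt_iff_of_smooth π p i' (U.ι ≫ i) ?_ ⟨x, hxU⟩).mp (hreg ⟨x, hxU⟩))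
  rw [e, Category.assoc, h]

/-- Cancelling a smooth morphism on the right. -/
theorem isKoszulAt_of_comp_smooth {X Y S : Scheme.{u}} (f : X ⟶ Y) (g : Y ⟶ S) [Smooth g] (x : X)
    (h : Synt.IsKoszulAt (f ≫ g) x) : Synt.IsKoszulAt f x := by
  obtain ⟨U, P, i, π, hxU, hft, ⟨hi, hreg⟩, hπ, e⟩ := h
  haveI := hi
  haveI := hπ
  haveI : Smooth (pullback.fst π g) := inferInstance
  have e' : i ≫ π = (U.ι ≫ f) ≫ g := by rw [e, Category.assoc]
  haveI : IsImmersion (pullback.lift i (U.ι ≫ f) e' ≫ pullback.fst π g) := by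
    rw [pullback.lift_fst]; exact hi
  haveI : IsImmersion (pullback.lift i (U.ι ≫ f) e') := IsImmersion.of_comp _ (pullback.fst π g)
  refine ⟨U, pullback π g, pullback.lift i (U.ι ≫ f) e', pullback.snd π g, hxU, ?_, ⟨inferInstance, fun z => ?_⟩,
    inferInstance, pullback.lift_snd _ _ _⟩
  · haveI : LocallyOfFiniteType ((U.ι ≫ f) ≫ g) := by rw [Category.assoc]; exact hft
    exact locallyOfFiniteType_of_comp (U.ι ≫ f) g
  · exact (regularAt_comp_smooth_iff' _ (pullback.fst π g) i (pullback.lift_fst _ _ _) z).mp (hreg z)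

/-- A regular immersion is Koszul at each point. -/
theorem isKoszulAt_of_regularImmersion {Z X : Scheme.{u}} (i : Z ⟶ X) (k : RegImm.Kind)
    (hk : k = RegImm.Kind.regular ∨ k = RegImm.Kind.koszul) (hi : RegImm.IsRegularImmersion k i) (z : Z) :
    Synt.IsKoszulAt i z := by
  haveI := hi.1
  have hreg : ∀ z, RegImm.IsRegularImmersionAt .koszul i z := fun z => by
    obtain ⟨U, hzU, hcl, rs, hrs, hker⟩ := hi.2 z
    refine ⟨U, hzU, hcl, rs, ?_, hker⟩
    rcases hk with rfl | rfl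
    · show LCI.IsKoszulRegularSeq _ rs
      rw [Groth.L07.KoszulPerm.isKoszulRegularSeq_iff]
      exact fun n hn => Groth.L04.Koszul.isZero_of_isWeaklyRegular rs (ModuleCat.of _ _) hrs.toIsWeaklyRegular n hn.ne
    · exact hrs
  exact ⟨⊤, X, (⊤ : Z.Opens).ι ≫ i, 𝟙 X, trivial, inferInstance,
    ⟨inferInstance, fun w => (regularAt_restrict_iff (⊤ : Z.Opens).ι i w).mpr (hreg _)⟩, inferInstance,
    Category.comp_id _⟩

end Groth.L07.RegImmAt
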