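import Groth.Agent.L07.CMInterAlg
import Groth.Agent.L07.RegImmBC
import Groth.Agent.L07.KoszulSmoothCover
import Groth.Agent.L07.RegImmDescent
import Groth.Agent.L07.RegImmAt
import Groth.Agent.L07.RegularLCI
import Groth.Agent.L14.RegImmStalk.Stalk

/-!
Proper intersections of regularly immersed closed subschemes of a Cohen-Macaulay scheme.
-/

set_option autoImplicit false
set_option maxSynthPendingDepth 3
set_option linter.style.haveILetI false
set_option backward.isDefEq.respectTransparency false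
set_option backward.isDefEq.respectTransparency.types false

universe u

open CategoryTheory CategoryTheory.Limits AlgebraicGeometry TopologicalSpace RingTheory.Sequence

namespace Groth.L07.CMInterScheme

/-- Lifting a regular sequence of a stalk to a basic open, keeping its length. -/
theorem exists_lift {R : Type u} [CommRing R] [IsNoetherianRing R] (I Q : Ideal R) [Q.IsPrime] (hIQ : I ≤ Q)
    (L : Type u) [CommRing L] [IsLocalRing L] [IsNoetherianRing L] [Algebra R L] [IsLocalization.AtPrime L Q]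
    (rs : List L) (hrs : IsWeaklyRegular L rs) (e : I.map (algebraMap R L) = Ideal.ofList rs) :
    ∃ g ∉ Q, ∃ l : List R, l.length = rs.length ∧ ∀ (T : Type u) [CommRing T] [Algebra R T],
      IsLocalization.Away g T → IsWeaklyRegular T (l.map (algebraMap R T)) ∧
        I.map (algebraMap R T) = Ideal.ofList (l.map (algebraMap R T)) := by
  classical
  have hreg : LCI.IsKoszulRegularSeq L rs := by
    rw [Groth.L07.KoszulPerm.isKoszulRegularSeq_iff]
    exact fun n hn => Groth.L04.Koszul.isZero_of_isWeaklyRegular _ (ModuleCat.of L L) hrs n hn.ne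
  have key : ∀ x ∈ rs, ∃ a ∈ I, ∃ v : L, IsUnit v ∧ x * v = algebraMap R L a := fun x hx => by
    obtain ⟨⟨a, s⟩, he⟩ := (IsLocalization.mem_map_algebraMap_iff Q.primeCompl L).mp
      (e.ge (Ideal.subset_span hx))
    exact ⟨a.1, a.2, _, IsLocalization.map_units L s, he⟩
  choose a haI v hv hav using key
  let l := rs.pmap a fun _ h => h
  have hlI : ∀ x ∈ l, x ∈ I := fun x hx => by
    obtain ⟨y, hy, rfl⟩ := List.mem_pmap.mp hx
    exact haI y hy
  have hspan : Ideal.ofList (l.map (algebraMap R L)) = Ideal.ofList rs := by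
    refine le_antisymm (Ideal.span_le.mpr fun z hz => ?_) (Ideal.span_le.mpr fun x hx => ?_)
    · obtain ⟨w, hw, rfl⟩ := List.mem_map.mp (show z ∈ _ from hz)
      obtain ⟨y, hy, rfl⟩ := List.mem_pmap.mp hw
      rw [← hav y hy]
      exact Ideal.mul_mem_right _ _ (Ideal.subset_span hy)
    · refine (Ideal.mul_unit_mem_iff_mem _ (hv x hx)).mp ?_
      rw [hav x hx]
      exact Ideal.subset_span (List.mem_map.mpr ⟨_, List.mem_pmap.mpr ⟨x, hx, rfl⟩, rfl⟩)
  have hmax : ∀ x ∈ l.map (algebraMap R L), x ∈ IsLocalRing.maximalIdeal L := fun x hx => by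
    obtain ⟨y, hy, rfl⟩ := List.mem_map.mp hx
    exact (IsLocalization.AtPrime.to_map_mem_maximal_iff L Q y).mpr (hIQ (hlI y hy))
  have hK : LCI.IsKoszulRegularSeq L (l.map (algebraMap R L)) :=
    Groth.L07.KoszulPerm.isKoszulRegularSeq_of_ofList_eq hspan.symm (by simp [l]) hreg
  have hw := Groth.L07.KoszulBC.isWeaklyRegular_of_koszul _ hmax
    (fun n hn => Groth.L07.KoszulBC.isZero_of_isKoszulRegularSeq _ hK n hn)
  obtain ⟨g, hg, hT⟩ := Groth.L07.RegSeq.exists_away_isWeaklyRegular l Q L hw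
  obtain ⟨t, ht, htI⟩ := Groth.L07.RegSeq.exists_mul_mem_of_map_le (IsNoetherian.noetherian I) Q L
    (J := Ideal.ofList l) (by rw [e, Ideal.map_ofList, hspan])
  refine ⟨g * t, fun hm => (‹Q.IsPrime›.mem_or_mem hm).elim hg ht, l, by simp [l], fun T _ _ hloc =>
    ⟨hT T (g * t) hloc (dvd_mul_right g t), ?_⟩⟩
  rw [← Ideal.map_ofList]
  refine le_antisymm (Ideal.map_le_iff_le_comap.mpr fun x hx => ?_) (Ideal.map_mono (Ideal.span_le.mpr hlI))
  have hu : IsUnit (algebraMap R T t) :=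
    isUnit_of_dvd_unit (map_dvd _ (dvd_mul_left t g)) (IsLocalization.Away.algebraMap_isUnit (g * t))
  rw [Ideal.mem_comap, ← Ideal.unit_mul_mem_iff_mem _ hu, ← map_mul]
  exact Ideal.mem_map_of_mem _ (htI x hx)

variable {X Y Z : Scheme.{u}} (iY : Y ⟶ X) (iZ : Z ⟶ X) [IsClosedImmersion iY] [IsClosedImmersion iZ]

/-- The ideal of the intersection is the sum of the two ideals. -/
theorem ker_inter {V : X.Opens} (hV : IsAffineOpen V) :
    RingHom.ker ((pullback.fst iY iZ ≫ iY).app V).hom =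
      RingHom.ker (iY.app V).hom ⊔ RingHom.ker (iZ.app V).hom := by
  have hY' : IsAffineOpen (iY ⁻¹ᵁ V) := hV.preimage iY
  have h := Groth.L07.KoszulSmoothCover.ker_baseChange (i := iZ) (g := iY) (i' := pullback.fst iY iZ)
    (g' := pullback.snd iY iZ) (IsPullback.of_hasPullback iY iZ).flip hV hY' le_rfl
  rw [← Scheme.Hom.app_eq_appLE] at h
  rw [Scheme.Hom.comp_app, CommRingCat.hom_comp, ← RingHom.comap_ker, h,
    Ideal.comap_map_of_surjective _ (iY.app_surjective V hV), ← RingHom.ker_eq_comap_bot, sup_comm]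

/-- A regular immersion of codimension `a`, read in a stalk. -/
theorem exists_stalk_seq [IsLocallyNoetherian X] (i : Y ⟶ X) [IsClosedImmersion i] (a : ℕ)
    (h : RegImm.IsRegularImmersionOfCodim RegImm.Kind.regular a i) {V : X.Opens} (hV : IsAffineOpen V)
    (x : X) (hx : x ∈ V) (hle : RingHom.ker (i.app V).hom ≤ (hV.primeIdealOf ⟨x, hx⟩).asIdeal) :
    ∃ rs : List (X.presheaf.stalk x), rs.length = a ∧ IsWeaklyRegular (X.presheaf.stalk x) rs ∧
      (RingHom.ker (i.app V).hom).map (X.presheaf.germ V x hx).hom = Ideal.ofList rs := by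
  obtain ⟨z, hz, hzp⟩ := Groth.L07.RegImmDescent.exists_point_of_ker_le i hV inferInstance
    (hV.primeIdealOf ⟨x, hx⟩) hle
  have hxz : i z = x := by
    have := congrArg hV.fromSpec hzp
    rwa [hV.fromSpec_primeIdealOf, hV.fromSpec_primeIdealOf] at this
  subst hxz
  obtain ⟨⟨U, hU⟩, hzU, hcl, rs, hlen, hrs, hker⟩ := h.2 z
  haveI : IsNoetherianRing Γ(X, U) := IsLocallyNoetherian.component_noetherian ⟨U, hU⟩
  letI : Algebra Γ(X, U) (X.presheaf.stalk (i z)) := (X.presheaf.germ U (i z) hzU).hom.toAlgebra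
  haveI := hU.isLocalization_stalk ⟨i z, hzU⟩
  haveI : IsNoetherianRing (X.presheaf.stalk (i z)) :=
    IsLocalization.isNoetherianRing (hU.primeIdealOf ⟨i z, hzU⟩).asIdeal.primeCompl _ inferInstance
  refine ⟨rs.map (X.presheaf.germ U (i z) hzU).hom, by simp [hlen],
    Groth.L14.RegImmStalk.isWeaklyRegular_of_kind RegImm.Kind.regular hrs _
      (hker ▸ Groth.L07.RegImmDescent.ker_le_primeIdealOf i hU z hzU) (X.presheaf.stalk (i z)), ?_⟩
  rw [← Groth.L14.RegImmStalk.ker_stalkMap i hV inferInstance z hz,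
    Groth.L14.RegImmStalk.ker_stalkMap i hU hcl z hzU, hker, Ideal.map_ofList]

variable (a b : ℕ) (hY : RegImm.IsRegularImmersionOfCodim RegImm.Kind.regular a iY)
  (hZ : RegImm.IsRegularImmersionOfCodim RegImm.Kind.regular b iZ)
  (hcodim : ∀ w : ↥(pullback iY iZ), ((a + b : ℕ) : WithBot ℕ∞) ≤
    ringKrullDim (X.presheaf.stalk ((pullback.fst iY iZ ≫ iY).base w)))

include hY hZ hcodim

/-- Proper intersection, read in a stalk. -/
theorem exists_stalk_data [IsLocallyNoetherian X]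
    (hCM : ∀ x : X, LocCoh.IsCohenMacaulayLocalRing (X.presheaf.stalk x))
    {V : X.Opens} (hV : IsAffineOpen V) (x : X) (hx : x ∈ V)
    (hleY : RingHom.ker (iY.app V).hom ≤ (hV.primeIdealOf ⟨x, hx⟩).asIdeal)
    (hleZ : RingHom.ker (iZ.app V).hom ≤ (hV.primeIdealOf ⟨x, hx⟩).asIdeal) :
    ∃ as bs : List (X.presheaf.stalk x), as.length = a ∧ bs.length = b ∧
      (RingHom.ker (iY.app V).hom).map (X.presheaf.germ V x hx).hom = Ideal.ofList as ∧
      (RingHom.ker (iZ.app V).hom).map (X.presheaf.germ V x hx).hom = Ideal.ofList bs ∧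
      IsWeaklyRegular (X.presheaf.stalk x) as ∧ IsWeaklyRegular (X.presheaf.stalk x) (as ++ bs) ∧
      IsWeaklyRegular (X.presheaf.stalk x) (bs ++ as) := by
  obtain ⟨as, ha, has, heY⟩ := exists_stalk_seq iY a hY hV x hx hleY
  obtain ⟨bs, hb, hbs, heZ⟩ := exists_stalk_seq iZ b hZ hV x hx hleZ
  haveI := hCM x
  letI : Algebra Γ(X, V) (X.presheaf.stalk x) := (X.presheaf.germ V x hx).hom.toAlgebra
  haveI := hV.isLocalization_stalk ⟨x, hx⟩
  have hmax : Ideal.ofList as ⊔ Ideal.ofList bs ≤ IsLocalRing.maximalIdeal (X.presheaf.stalk x) := by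
    rw [← IsLocalization.AtPrime.map_eq_maximalIdeal (hV.primeIdealOf ⟨x, hx⟩).asIdeal, ← heY, ← heZ]
    exact sup_le (Ideal.map_mono hleY) (Ideal.map_mono hleZ)
  have hht : ∀ (P : Ideal (X.presheaf.stalk x)) [P.IsPrime], Ideal.ofList as ⊔ Ideal.ofList bs ≤ P →
      ((a + b : ℕ) : ℕ∞) ≤ P.height := by
    intro P hP hle
    rw [← heY, ← heZ, ← Ideal.map_sup, ← ker_inter iY iZ hV, Ideal.map_le_iff_le_comap] at hle
    obtain ⟨w, hw, hwp⟩ := Groth.L07.RegImmDescent.exists_point_of_ker_le (pullback.fst iY iZ ≫ iY) hV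
      inferInstance (⟨P.comap (algebraMap Γ(X, V) (X.presheaf.stalk x)), inferInstance⟩ : PrimeSpectrum _) hle
    have h1 := hcodim w
    letI : Algebra Γ(X, V) (X.presheaf.stalk ((pullback.fst iY iZ ≫ iY) w)) :=
      (X.presheaf.germ V _ hw).hom.toAlgebra
    haveI := hV.isLocalization_stalk ⟨_, hw⟩
    rw [IsLocalization.AtPrime.ringKrullDim_eq_height (hV.primeIdealOf ⟨_, hw⟩).asIdeal, hwp] at h1
    change _ ≤ ((P.under Γ(X, V)).height : WithBot ℕ∞) at h1
    rw [IsLocalization.height_under (hV.primeIdealOf ⟨x, hx⟩).asIdeal.primeCompl P] at h1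
    rw [← WithBot.coe_natCast, WithBot.coe_le_coe] at h1
    exact h1
  refine ⟨as, bs, ha, hb, heY, heZ, has, ?_, ?_⟩
  · refine Groth.L07.CMInterAlg.isWeaklyRegular_of_le_height _ (fun r hr => hmax ?_) fun P _ hle => ?_
    · rw [← Ideal.ofList_append]; exact Ideal.subset_span hr
    · rw [List.length_append, ha, hb]
      exact hht P (by rwa [← Ideal.ofList_append])
  · refine Groth.L07.CMInterAlg.isWeaklyRegular_of_le_height _ (fun r hr => hmax ?_) fun P _ hle => ?_
    · rw [sup_comm, ← Ideal.ofList_append]; exact Ideal.subset_span hr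
    · rw [List.length_append, ha, hb, add_comm b a]
      exact hht P (by rwa [sup_comm, ← Ideal.ofList_append])

theorem inter_regular [IsLocallyNoetherian X]
    (hCM : ∀ x : X, LocCoh.IsCohenMacaulayLocalRing (X.presheaf.stalk x)) :
    RegImm.IsRegularImmersionOfCodim RegImm.Kind.regular (a + b) (pullback.fst iY iZ ≫ iY) := by
  refine ⟨inferInstance, fun w => ?_⟩
  obtain ⟨_, ⟨V, hV, rfl⟩, hx, -⟩ := X.isBasis_affineOpens.exists_subset_of_mem_open
    (Set.mem_univ ((pullback.fst iY iZ ≫ iY) w)) isOpen_univ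
  have hle := Groth.L07.RegImmDescent.ker_le_primeIdealOf (pullback.fst iY iZ ≫ iY) hV w hx
  have hle' := hle
  rw [ker_inter iY iZ hV, sup_le_iff] at hle'
  obtain ⟨as, bs, ha, hb, heY, heZ, -, hab, -⟩ :=
    exists_stalk_data iY iZ a b hY hZ hcodim hCM hV _ hx hle'.1 hle'.2
  haveI : IsNoetherianRing Γ(X, V) := IsLocallyNoetherian.component_noetherian ⟨V, hV⟩
  letI : Algebra Γ(X, V) (X.presheaf.stalk ((pullback.fst iY iZ ≫ iY) w)) := (X.presheaf.germ V _ hx).hom.toAlgebra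
  haveI := hV.isLocalization_stalk ⟨_, hx⟩
  haveI : IsNoetherianRing (X.presheaf.stalk ((pullback.fst iY iZ ≫ iY) w)) :=
    IsLocalization.isNoetherianRing (hV.primeIdealOf ⟨_, hx⟩).asIdeal.primeCompl _ inferInstance
  obtain ⟨g, hg, l, hl, hT⟩ := exists_lift (RingHom.ker ((pullback.fst iY iZ ≫ iY).app V).hom)
    (hV.primeIdealOf ⟨_, hx⟩).asIdeal hle (X.presheaf.stalk ((pullback.fst iY iZ ≫ iY) w)) (as ++ bs) hab (by
      rw [ker_inter iY iZ hV, Ideal.ofList_append, ← heY, ← heZ, Ideal.map_sup]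
      rfl)
  let D := X.basicOpen g
  have hD : IsAffineOpen D := hV.basicOpen g
  have hzD : (pullback.fst iY iZ ≫ iY) w ∈ D :=
    (Groth.L07.RegImmDescent.mem_basicOpen_iff_prime hV hx g).2 hg
  obtain ⟨hclD, hkD⟩ := Groth.L07.RegImmAt.ker_restrict (i := pullback.fst iY iZ ≫ iY) hV hD
    (X.basicOpen_le g) inferInstance
  haveI := hV.isLocalization_basicOpen g
  obtain ⟨hlD, hgen⟩ := hT Γ(X, D) (hV.isLocalization_basicOpen g)
  have hgen' : RingHom.ker ((pullback.fst iY iZ ≫ iY).app D).hom =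
      Ideal.ofList (l.map (algebraMap Γ(X, V) Γ(X, D))) := hkD.trans hgen
  refine ⟨⟨D, hD⟩, hzD, hclD, _, by simp [hl, ha, hb], ⟨hlD, fun htop => ?_⟩, hgen'⟩
  rw [smul_eq_mul, Ideal.mul_top, ← hgen'] at htop
  exact (hD.primeIdealOf ⟨_, hzD⟩).isPrime.ne_top
    (top_le_iff.mp (htop.le.trans (Groth.L07.RegImmDescent.ker_le_primeIdealOf _ hD w hzD)))

theorem inter_tor [IsLocallyNoetherian X]
    (hCM : ∀ x : X, LocCoh.IsCohenMacaulayLocalRing (X.presheaf.stalk x))
    (U : X.Opens) (hU : IsAffineOpen U) (i : ℕ) (hi : 0 < i) :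
    Subsingleton (@DRing.Tor Γ(X, U) _ i Γ(Y, iY ⁻¹ᵁ U) Γ(Z, iZ ⁻¹ᵁ U) _ (iY.app U).hom.toModule _
      (iZ.app U).hom.toModule) := by
  letI := (iY.app U).hom.toAlgebra
  letI := (iZ.app U).hom.toAlgebra
  refine Groth.L07.CMInterAlg.subsingleton_of_iso_tor
    (Ideal.quotientKerAlgEquivOfSurjective
      (f := Algebra.ofId Γ(X, U) Γ(Y, iY ⁻¹ᵁ U)) (iY.app_surjective U hU)).toLinearEquiv
    (Ideal.quotientKerAlgEquivOfSurjective
      (f := Algebra.ofId Γ(X, U) Γ(Z, iZ ⁻¹ᵁ U)) (iZ.app_surjective U hU)).toLinearEquiv i ?_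
  refine Groth.L07.CMInterAlg.subsingleton_tor_quot _ _ i hi fun m hm hmY hmZ => ?_
  have hx : hU.fromSpec ⟨m, hm.isPrime⟩ ∈ U := Groth.L22.LocalDim.fromSpec_mem hU _
  have hp : hU.primeIdealOf ⟨_, hx⟩ = ⟨m, hm.isPrime⟩ :=
    hU.fromSpec.isOpenEmbedding.injective (hU.fromSpec_primeIdealOf _)
  obtain ⟨as, bs, -, -, heY, heZ, has, -, hba⟩ :=
    exists_stalk_data iY iZ a b hY hZ hcodim hCM hU _ hx (by rw [hp]; exact hmY) (by rw [hp]; exact hmZ)
  letI : Algebra Γ(X, U) (X.presheaf.stalk (hU.fromSpec ⟨m, hm.isPrime⟩)) :=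
    (X.presheaf.germ U _ hx).hom.toAlgebra
  have hloc := hU.isLocalization_stalk ⟨_, hx⟩
  rw [hp] at hloc
  refine ⟨X.presheaf.stalk (hU.fromSpec ⟨m, hm.isPrime⟩), inferInstance, inferInstance, hloc, ?_⟩
  have key : ∀ (I J : Ideal (X.presheaf.stalk (hU.fromSpec ⟨m, hm.isPrime⟩))),
      I = Ideal.ofList as → J = Ideal.ofList bs →
      Subsingleton (DRing.Tor (X.presheaf.stalk (hU.fromSpec ⟨m, hm.isPrime⟩)) i (_ ⧸ I) (_ ⧸ J)) := by
    rintro _ _ rfl rfl
    exact Groth.L07.CMInterAlg.subsingleton_tor_of_regular as bs has hba i hi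
  exact key _ _ heY heZ

end Groth.L07.CMInterScheme
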