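import Groth.Agent.L07.Avramov
import Groth.Agent.L06.FlatFibre
import Groth.Agent.L07.RegularFlat
import Groth.Prelude.Def_CAlg

/-! Complete intersection fibres along flat maps. -/

namespace Groth.L07.CIFibre

open IsLocalRing TensorProduct

set_option linter.style.haveILetI false
set_option maxSynthPendingDepth 3

universe u

variable {R S : Type u} [CommRing R] [CommRing S] [Algebra R S]

/-- The local rings of a fibre ring. -/
theorem exists_fibre_local [Module.Flat R S] (p : Ideal R) [p.IsPrime] (P : Ideal (p.Fiber S)) [P.IsPrime] :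
    ∃ (_ : (P.comap (Algebra.TensorProduct.includeRight (R := R) (A := p.ResidueField) (B := S))).LiesOver p)
      (_ : Algebra (Localization.AtPrime p)
        (Localization.AtPrime (P.comap (Algebra.TensorProduct.includeRight (R := R) (A := p.ResidueField) (B := S)))))
      (_ : IsLocalHom (algebraMap (Localization.AtPrime p)
        (Localization.AtPrime (P.comap (Algebra.TensorProduct.includeRight (R := R) (A := p.ResidueField) (B := S)))))),
      (∀ r, algebraMap (Localization.AtPrime p)
          (Localization.AtPrime (P.comap (Algebra.TensorProduct.includeRight (R := R) (A := p.ResidueField) (B := S))))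
          (algebraMap R _ r) = algebraMap S _ (algebraMap R S r)) ∧
      Module.Flat (Localization.AtPrime p)
        (Localization.AtPrime (P.comap (Algebra.TensorProduct.includeRight (R := R) (A := p.ResidueField) (B := S)))) ∧
      Nonempty (Localization.AtPrime P ≃+* EGA4.FibRing (Localization.AtPrime p)
        (Localization.AtPrime (P.comap (Algebra.TensorProduct.includeRight (R := R) (A := p.ResidueField) (B := S))))) := by
  haveI : (P.comap (Algebra.TensorProduct.includeRight (R := R) (A := p.ResidueField) (B := S))).LiesOver p :=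
    inferInstance
  let g := Localization.localRingHom p (P.comap Algebra.TensorProduct.includeRight)
    (algebraMap R S) (Ideal.over_def _ p)
  letI := g.toAlgebra
  haveI : IsLocalHom (algebraMap (Localization.AtPrime p)
      (Localization.AtPrime (P.comap (Algebra.TensorProduct.includeRight (R := R) (A := p.ResidueField) (B := S))))) :=
    Localization.isLocalHom_localRingHom _ _ _ _
  haveI : Localization.AtPrime.IsLiesOverAlgebra p
      (P.comap (Algebra.TensorProduct.includeRight (R := R) (A := p.ResidueField) (B := S))) := ⟨rfl⟩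
  refine ⟨inferInstance, g.toAlgebra, inferInstance, fun r => Localization.localRingHom_to_map _ _ _ _ r,
    RingHom.Flat.localRingHom (RingHom.flat_algebraMap_iff.mpr inferInstance) _ p (Ideal.over_def _ p),
    ⟨((Ideal.Fiber.localizationAlgEquivQuotient p P).toRingEquiv).trans (Ideal.quotEquivOfEq ?_)⟩⟩
  show _ = (maximalIdeal (Localization.AtPrime p)).map _
  rw [← Localization.AtPrime.map_eq_maximalIdeal, Ideal.map_map]
  congr 1
  exact RingHom.ext fun r => (Localization.localRingHom_to_map p _ (algebraMap R S) (Ideal.over_def _ p) r).symm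

/-- The local homomorphism at a prime, with its fibre. -/
theorem exists_local_map [Module.Flat R S] (p : Ideal R) [p.IsPrime] (Q : Ideal S) [Q.IsPrime] [Q.LiesOver p] :
    ∃ (_ : Algebra (Localization.AtPrime p) (Localization.AtPrime Q))
      (_ : IsLocalHom (algebraMap (Localization.AtPrime p) (Localization.AtPrime Q))),
      (∀ r, algebraMap (Localization.AtPrime p) (Localization.AtPrime Q) (algebraMap R _ r) =
        algebraMap S _ (algebraMap R S r)) ∧
      Module.Flat (Localization.AtPrime p) (Localization.AtPrime Q) ∧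
      ∃ (P : Ideal (p.Fiber S)) (_ : P.IsPrime),
        Nonempty (Localization.AtPrime P ≃+* EGA4.FibRing (Localization.AtPrime p) (Localization.AtPrime Q)) := by
  obtain ⟨P, hP⟩ : ∃ P : PrimeSpectrum (p.Fiber S),
      P.asIdeal.comap Algebra.TensorProduct.includeRight = Q := by
    refine ⟨PrimeSpectrum.preimageEquivFiber R S ⟨p, inferInstance⟩
      ⟨⟨Q, inferInstance⟩, PrimeSpectrum.ext (Q.over_def p).symm⟩, ?_⟩
    have := (PrimeSpectrum.preimageEquivFiber R S ⟨p, inferInstance⟩).symm_apply_apply
      ⟨⟨Q, inferInstance⟩, PrimeSpectrum.ext (Q.over_def p).symm⟩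
    exact congrArg (fun z => z.1.asIdeal) this
  subst hP
  obtain ⟨-, a, l, h, f, e⟩ := exists_fibre_local p P.asIdeal
  exact ⟨a, l, h, f, P.asIdeal, inferInstance, e⟩

/-- Local rings of regular fibres. -/
theorem isRegularLocalRing_fibre_of_regular (h : CAlg.IsRegularHom R S) (p : Ideal R) [p.IsPrime]
    (P : Ideal (p.Fiber S)) [P.IsPrime] : IsRegularLocalRing (Localization.AtPrime P) := by
  haveI := h.2 p |>.2 p.ResidueField inferInstance
  haveI : IsRegularRing (p.Fiber S) := IsRegularRing.of_ringEquiv
    (R := p.ResidueField ⊗[p.ResidueField] p.Fiber S) (Algebra.TensorProduct.lid p.ResidueField _).toRingEquiv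
  exact IsRegularRing.isRegularLocalRing_localization P

/-- Local statement: complete intersection fibres composed with a regular fibre. -/
theorem isCompleteIntersection_fibre_comp {A B C : Type u} [CommRing A] [CommRing B] [CommRing C]
    [IsLocalRing A] [IsLocalRing B] [IsLocalRing C]
    [Algebra A B] [Algebra B C] [Algebra A C] [IsScalarTower A B C] [IsLocalHom (algebraMap A B)]
    [IsLocalHom (algebraMap B C)] [Module.Flat B C] [IsLocalHom (algebraMap A C)]
    [IsNoetherianRing (EGA4.FibRing A B)] [IsNoetherianRing (EGA4.FibRing A C)]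
    (hAB : Pi1.IsCompleteIntersection (EGA4.FibRing A B))
    (hBC : Pi1.IsCompleteIntersection (EGA4.FibRing B C)) :
    Pi1.IsCompleteIntersection (EGA4.FibRing A C) := by
  let Bb := EGA4.FibRing A B
  let Cb := EGA4.FibRing A C
  have hmap : (EGA4.mB A B).map (algebraMap B C) = EGA4.mB A C := by
    show ((maximalIdeal A).map _).map _ = (maximalIdeal A).map _
    rw [Ideal.map_map, ← IsScalarTower.algebraMap_eq]
  let f : Bb →+* Cb := Ideal.quotientMap (EGA4.mB A C) (algebraMap B C) (Ideal.map_le_iff_le_comap.mp hmap.le)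
  letI : Algebra Bb Cb := f.toAlgebra
  haveI : IsScalarTower B Bb Cb := IsScalarTower.of_algebraMap_eq fun _ => rfl
  haveI : IsLocalHom (algebraMap Bb Cb) := ⟨fun x hx => by
    obtain ⟨x, rfl⟩ := Ideal.Quotient.mk_surjective x
    have h1 : IsUnit (Ideal.Quotient.mk (EGA4.mB A C) (algebraMap B C x)) := hx
    haveI : IsLocalHom (Ideal.Quotient.mk (EGA4.mB A C)) := IsLocalHom.of_surjective _ Ideal.Quotient.mk_surjective
    exact ((isUnit_map_iff (algebraMap B C) x).mp ((isUnit_map_iff _ _).mp h1)).map _⟩
  haveI : Module.Flat Bb Cb := Groth.L07.RegFlat.flat_quotient (B := B) (N := C) (EGA4.mB A B) Ideal.Quotient.mk_surjective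
    Ideal.mk_ker (N' := Cb) (Ideal.Quotient.mkₐ B (EGA4.mB A C)).toLinearMap Ideal.Quotient.mk_surjective (by
      rw [Ideal.smul_top_eq_map, hmap]
      ext c
      exact Ideal.Quotient.eq_zero_iff_mem)
  refine ((Groth.L07.Avramov.isCompleteIntersection_iff Bb (B := Cb)).mpr ⟨hAB, ?_⟩)
  haveI : IsNoetherianRing (EGA4.FibRing Bb Cb) := inferInstanceAs (IsNoetherianRing (Cb ⧸ EGA4.mB Bb Cb))
  have h1 : EGA4.mB Bb Cb = (EGA4.mB B C).map (Ideal.Quotient.mk (EGA4.mB A C)) := by
    show (maximalIdeal Bb).map f = ((maximalIdeal B).map _).map _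
    rw [← IsLocalRing.map_maximalIdeal_of_surjective (Ideal.Quotient.mk (EGA4.mB A B)) Ideal.Quotient.mk_surjective,
      Ideal.map_map, Ideal.map_map]
    rfl
  have h2 : EGA4.mB A C ≤ EGA4.mB B C := by
    rw [← hmap]
    exact Ideal.map_mono (IsLocalRing.map_maximalIdeal_le (algebraMap A B))
  haveI : IsNoetherianRing (EGA4.FibRing B C) :=
    isNoetherianRing_of_ringEquiv _ ((Ideal.quotEquivOfEq h1).trans (DoubleQuot.quotQuotEquivQuotOfLE h2))
  exact Groth.L07.Avramov.isCompleteIntersection_of_ringEquiv
    ((Ideal.quotEquivOfEq h1).trans (DoubleQuot.quotQuotEquivQuotOfLE h2)).symm hBC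

/-- A regular local ring is a complete intersection. -/
theorem isCompleteIntersection_of_regular (T : Type u) [CommRing T] [IsRegularLocalRing T] :
    Pi1.IsCompleteIntersection T := by
  refine Groth.L07.RegQuot.isCompleteIntersection_of_isRegularIdeal (RingHom.id T) Function.surjective_id
    ⟨[], ⟨RingTheory.Sequence.IsWeaklyRegular.nil T T, ?_⟩, ?_⟩
  · rw [Ideal.ofList_nil, Submodule.bot_smul]; exact top_ne_bot
  · rw [Ideal.ofList_nil]; ext x; simp [RingHom.mem_ker]

end Groth.L07.CIFibre
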