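import Groth.Agent.L07.CIHom
import Groth.Agent.L07.Avramov
import Groth.Agent.L07.CIFibre
import Groth.Agent.S2836

/-! Complete intersection homomorphisms of complete local rings. -/

namespace Groth.L07.CIFactor

open IsLocalRing Groth.L07.RegIdeal

set_option linter.style.haveILetI false
set_option maxSynthPendingDepth 3

universe u

/-- Regularity of an ideal is invariant under isomorphisms. -/
theorem isRegularIdeal_equiv {X Y : Type u} [CommRing X] [IsLocalRing X] [IsNoetherianRing X] [CommRing Y]
    [IsLocalRing Y] [IsNoetherianRing Y] (e : X ≃+* Y) {K : Ideal X} (h : CInt.IsRegularIdeal K) :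
    CInt.IsRegularIdeal (K.map (e : X →+* Y)) := by
  letI : Algebra X Y := (e : X →+* Y).toAlgebra
  haveI : Module.Flat X Y := RingHom.flat_algebraMap_iff.mp (RingHom.Flat.of_bijective e.bijective)
  haveI : IsLocalHom (algebraMap X Y) := ⟨fun x hx => by
    have h1 := hx.map e.symm
    rwa [show e.symm (algebraMap X Y x) = x from e.symm_apply_apply x] at h1⟩
  exact Groth.L07.AvramovCore.isRegularIdeal_map h

/-- A quotient of a complete intersection by a regular sequence is one. -/
theorem isCompleteIntersection_quotient {S B : Type u} [CommRing S] [IsLocalRing S] [IsNoetherianRing S]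
    [CommRing B] [IsLocalRing B] [IsNoetherianRing B] (q : S →+* B) (hq : Function.Surjective q)
    (hS : Pi1.IsCompleteIntersection S) (h : CInt.IsRegularIdeal (RingHom.ker q)) :
    Pi1.IsCompleteIntersection B := by
  let Sh := AdicCompletion (maximalIdeal S) S
  haveI : IsNoetherianRing Sh := Groth.L01.AnalUnram.isNoetherianRing_completion S
  haveI := Groth.L01.CompletionExt.faithfullyFlat S
  haveI : IsLocalHom (algebraMap S Sh) := ⟨fun x hx => by
    by_contra hx'
    exact (maximalIdeal Sh).ne_top_iff_one.mp (maximalIdeal.isMaximal Sh).ne_top (by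
      have h1 : algebraMap S Sh x ∈ maximalIdeal Sh := by
        rw [← Groth.L01.AnalUnram.completion_map_maximalIdeal]
        exact Ideal.mem_map_of_mem _ hx'
      exact absurd hx h1)⟩
  obtain ⟨R, _, hR, rs, hrs, hreg, ⟨E⟩⟩ := hS
  haveI := hR
  let J : Ideal R := Ideal.ofList rs
  haveI : IsLocalRing (R ⧸ J) := E.isLocalRing
  let K₀ : Ideal (R ⧸ J) := ((RingHom.ker q).map (algebraMap S Sh)).map (E : Sh →+* R ⧸ J)
  have hK₀ : CInt.IsRegularIdeal K₀ := isRegularIdeal_equiv E (Groth.L07.AvramovCore.isRegularIdeal_map h)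
  let K : Ideal R := K₀.comap (Ideal.Quotient.mk J)
  have hJK : J ≤ K := fun x hx => by
    show Ideal.Quotient.mk J x ∈ K₀
    rw [Ideal.Quotient.eq_zero_iff_mem.mpr hx]
    exact zero_mem _
  have hK₀' : K₀ ≠ ⊤ := by
    obtain ⟨l, hl, hl'⟩ := hK₀
    intro htop
    refine hl.top_ne_smul ?_
    rw [smul_eq_mul, Ideal.mul_top, hl', htop]
  have hKm : K ≤ maximalIdeal R := le_maximalIdeal (Ideal.comap_ne_top _ hK₀')
  have hKreg : CInt.IsRegularIdeal K := Groth.Agent.S2836.result R J K hJK hKm ⟨rs, hreg, rfl⟩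
    (by rw [Ideal.map_comap_of_surjective _ Ideal.Quotient.mk_surjective]; exact hK₀)
  obtain ⟨F⟩ := Groth.L07.RegQuot.exists_completionQuotEquiv q hq
  haveI : IsLocalRing (R ⧸ K) := Groth.L01.isLocalRing_quotient (Ideal.comap_ne_top _ hK₀')
  have hmapK : K.map (Ideal.Quotient.mk J) = K₀ :=
    Ideal.map_comap_of_surjective _ Ideal.Quotient.mk_surjective K₀
  let e : (R ⧸ K) ≃+* AdicCompletion (maximalIdeal B) B :=
    (((DoubleQuot.quotQuotEquivQuotOfLE hJK).symm.trans (Ideal.quotEquivOfEq hmapK)).trans
      (Ideal.quotientEquiv _ K₀ E rfl).symm).trans F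
  haveI := Groth.L01.AnalUnram.isNoetherianRing_completion B
  rw [← Groth.L07.Avramov.isCompleteIntersection_completion_iff B]
  exact Groth.L07.Avramov.isCompleteIntersection_of_ringEquiv e
    (Groth.L07.RegQuot.isCompleteIntersection_of_isRegularIdeal (Ideal.Quotient.mk K) Ideal.Quotient.mk_surjective
      (by rwa [Ideal.mk_ker]))

/-- Splitting a presentation. -/
theorem exists_factor {A B R S : Type u} [CommRing A] [IsLocalRing A] [IsNoetherianRing A]
    [CommRing B] [IsLocalRing B] [IsNoetherianRing B] [Algebra A B] [IsLocalHom (algebraMap A B)]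
    [CommRing R] [IsRegularLocalRing R] [CommRing S] [IsRegularLocalRing S]
    [Algebra R S] [IsLocalHom (algebraMap R S)] [Module.Flat R S]
    (hfib : IsRegularLocalRing (S ⧸ (maximalIdeal R).map (algebraMap R S)))
    (p : R →+* A) (hp : Function.Surjective p) (q : S →+* B) (hq : Function.Surjective q)
    (hpq : ∀ r, q (algebraMap R S r) = algebraMap A B (p r)) (hB : Pi1.IsCompleteIntersection B)
    (h : Set.Finite {i : ℕ | ¬Subsingleton (DRing.Tor A i B (IsLocalRing.ResidueField A))}) :
    Pi1.IsCompleteIntersection A ∧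
      ∃ (C : Type u) (_ : CommRing C) (_ : IsNoetherianRing C) (_ : IsLocalRing C) (_ : Algebra A C)
        (_ : Module.Flat A C) (_ : IsRegularLocalRing (C ⧸ (maximalIdeal A).map (algebraMap A C)))
        (g : C →ₐ[A] B), Function.Surjective g ∧ CInt.IsRegularIdeal (RingHom.ker g) := by
  classical
  have hJreg := Groth.L07.RegQuot.isRegularIdeal_of_isCompleteIntersection q hq hB
  let I := RingHom.ker p
  let IS := I.map (algebraMap R S)
  let J := RingHom.ker q
  have hISJ : IS ≤ J := Ideal.map_le_iff_le_comap.mpr fun r hr => by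
    rw [Ideal.mem_comap, RingHom.mem_ker, hpq, RingHom.mem_ker.mp hr, map_zero]
  have hJ : J ≠ ⊤ := RingHom.ker_ne_top q
  let C := S ⧸ IS
  haveI : IsLocalRing C := Groth.L01.isLocalRing_quotient (ne_top_of_le_ne_top hJ hISJ)
  letI : Algebra R A := p.toAlgebra
  let a : A →+* C := (Ideal.quotientMap IS (algebraMap R S) (Ideal.map_le_iff_le_comap.mp le_rfl)).comp
    (RingHom.quotientKerEquivOfSurjective hp).symm.toRingHom
  have ha : ∀ r, a (p r) = Ideal.Quotient.mk IS (algebraMap R S r) := fun r => by
    show Ideal.quotientMap IS (algebraMap R S) (Ideal.map_le_iff_le_comap.mp le_rfl : I ≤ IS.comap (algebraMap R S))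
      ((RingHom.quotientKerEquivOfSurjective hp).symm (p r)) = _
    rw [RingHom.quotientKerEquivOfSurjective_symm_apply hp r]
    rfl
  letI : Algebra A C := a.toAlgebra
  haveI : IsScalarTower R A C := IsScalarTower.of_algebraMap_eq fun r => (ha r).symm
  haveI : Module.Flat A C := Groth.L07.RegFlat.flat_quotient (B := R) (N := S) I hp rfl (N' := C)
    (Ideal.Quotient.mkₐ R IS).toLinearMap Ideal.Quotient.mk_surjective (by
      rw [Ideal.smul_top_eq_map]
      ext s
      exact Ideal.Quotient.eq_zero_iff_mem)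
  let b : C →+* B := Ideal.Quotient.lift IS q fun s hs => hISJ hs
  have hb : Function.Surjective b := Ideal.Quotient.lift_surjective_of_surjective _ _ hq
  letI : Algebra C B := b.toAlgebra
  haveI : IsScalarTower A C B := IsScalarTower.of_algebraMap_eq fun x => by
    obtain ⟨r, rfl⟩ := hp x
    show _ = b (a (p r))
    rw [ha, ← hpq]
    rfl
  haveI : IsLocalHom (algebraMap A C) := ⟨fun x hx => by
    refine (isUnit_map_iff (algebraMap A B) x).mp ?_
    rw [IsScalarTower.algebraMap_apply A C B]
    exact hx.map _⟩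
  have hmA : (maximalIdeal R).map p = maximalIdeal A := IsLocalRing.map_maximalIdeal_of_surjective p hp
  have hCfib : IsRegularLocalRing (EGA4.FibRing A C) := by
    haveI := hfib
    have h1 : EGA4.mB A C = ((maximalIdeal R).map (algebraMap R S)).map (Ideal.Quotient.mk IS) := by
      show (maximalIdeal A).map a = _
      rw [← hmA, Ideal.map_map, Ideal.map_map]
      exact congrArg (fun φ => Ideal.map φ (maximalIdeal R)) (RingHom.ext ha)
    have h2 : IS ≤ (maximalIdeal R).map (algebraMap R S) :=
      Ideal.map_mono (le_maximalIdeal (RingHom.ker_ne_top p))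
    exact IsRegularLocalRing.of_ringEquiv ((Ideal.quotEquivOfEq h1).trans
      (DoubleQuot.quotQuotEquivQuotOfLE h2)).symm
  haveI : Module.Finite C B := Module.Finite.of_surjective (Algebra.linearMap C B) hb
  obtain ⟨d, hres⟩ := Groth.L07.CIHom.res_of_finite_tor hCfib B (IsLocalRing.ResidueField A)
    (LinearEquiv.refl A _) h
  letI : Algebra (S ⧸ IS) (S ⧸ J) := (Ideal.Quotient.factor hISJ).toAlgebra
  haveI : IsScalarTower S (S ⧸ IS) (S ⧸ J) := IsScalarTower.of_algebraMap_eq fun _ => rfl
  let eJ : B ≃ₗ[C] S ⧸ J :=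
    { (RingHom.quotientKerEquivOfSurjective hq).symm.toAddEquiv with
      map_smul' := fun c x => by
        obtain ⟨s, rfl⟩ := Ideal.Quotient.mk_surjective c
        obtain ⟨t, rfl⟩ := hq x
        show (RingHom.quotientKerEquivOfSurjective hq).symm (q s * q t) =
          Ideal.Quotient.mk J s * (RingHom.quotientKerEquivOfSurjective hq).symm (q t)
        rw [← map_mul, RingHom.quotientKerEquivOfSurjective_symm_apply hq,
          RingHom.quotientKerEquivOfSurjective_symm_apply hq, ← map_mul] }
  have hres' : Groth.L07.DiagRes.Res (S ⧸ IS) d (S ⧸ J) := Groth.L07.DiagRes.res_of_equiv eJ hres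
  obtain ⟨n, f, hf⟩ := exists_isMin IS
  have hind : Indep J f := fun c hc =>
    hf.2 c (Groth.L07.FiniteTorConormal.mem_maximal_mul_of_res IS J hISJ hJ hres' _
      (hf.1.le (sum_mem fun i _ => Ideal.mul_mem_left _ _ (Ideal.subset_span ⟨i, rfl⟩))) hc)
  obtain ⟨hISreg, hJC⟩ := isRegularIdeal_of_indep hISJ hJreg hf.1 hind
  refine ⟨Groth.L07.RegQuot.isCompleteIntersection_of_isRegularIdeal p hp
    (Groth.L07.AvramovCore.isRegularIdeal_of_map hISreg), C, inferInstance, inferInstance, inferInstance,
    inferInstance, inferInstance, hCfib, IsScalarTower.toAlgHom A C B, hb, ?_⟩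
  rw [show RingHom.ker (IsScalarTower.toAlgHom A C B) = J.map (Ideal.Quotient.mk IS) from Ideal.ker_quotient_lift _ _]
  exact hJC

end Groth.L07.CIFactor
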