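import Groth.Agent.L07.QuasiSectionPrime
import Groth.Agent.L07.EquidimCrit
import Groth.Agent.L07.UnivOpenFibre
import Mathlib.AlgebraicGeometry.Morphisms.QuasiFinite
import Mathlib.AlgebraicGeometry.Morphisms.QuasiSeparated
import Mathlib.AlgebraicGeometry.Noetherian

/-!
Quasi-sections through a point closed in its fibre (EGA IV 14.5.3).
-/

universe u

open CategoryTheory CategoryTheory.Limits AlgebraicGeometry TopologicalSpace Topology
open scoped TensorProduct

namespace Groth.L07.QuasiSection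

open Groth.L07.Equidim Groth.L07.EquidimQF

set_option maxSynthPendingDepth 3
set_option linter.style.haveILetI false
set_option backward.isDefEq.respectTransparency.types false
set_option backward.isDefEq.respectTransparency false

/-- At a point maximal in its fibre every element satisfies a relation with a denominator outside. -/
theorem exists_relation {R S : Type u} [CommRing R] [CommRing S] [Algebra R S] [Algebra.FiniteType R S]
    (q : Ideal S) [q.IsPrime]
    (hmax : ∀ q' : Ideal S, q'.IsPrime → q ≤ q' → q'.comap (algebraMap R S) = q.comap (algebraMap R S) → q' = q)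
    (t : S) : ∃ (c : R) (n : ℕ) (a : Fin n → R), algebraMap R S c ∉ q ∧
      algebraMap R S c * t ^ n + ∑ k : Fin n, algebraMap R S (a k) * t ^ (k : ℕ) ∈ q := by
  classical
  let y := q.under R
  obtain ⟨Q, hQmax, hQc⟩ : ∃ Q : Ideal (y.Fiber S), Q.IsMaximal ∧
      Q.comap Algebra.TensorProduct.includeRight.toRingHom = q := by
    let e := PrimeSpectrum.preimageOrderIsoFiber R S ⟨y, inferInstance⟩
    let pq : PrimeSpectrum.comap (algebraMap R S) ⁻¹' {(⟨y, inferInstance⟩ : PrimeSpectrum R)} :=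
      ⟨⟨q, inferInstance⟩, rfl⟩
    refine ⟨(e pq).asIdeal, ?_, congrArg (fun v => v.1.asIdeal) (e.symm_apply_apply pq)⟩
    refine PrimeSpectrum.isMax_iff.mp (e.isMax_apply.mpr ?_)
    rintro ⟨q', hq'⟩ hle
    refine le_of_eq (Subtype.ext (PrimeSpectrum.ext ?_))
    exact hmax q'.asIdeal q'.2 hle (congrArg PrimeSpectrum.asIdeal hq')
  haveI := hQmax
  let L := y.Fiber S ⧸ Q
  letI : Field L := Ideal.Quotient.field _
  haveI : Algebra.FiniteType y.ResidueField L :=
    Algebra.FiniteType.of_surjective (Ideal.Quotient.mkₐ y.ResidueField Q) Ideal.Quotient.mk_surjective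
  haveI : Module.Finite y.ResidueField L := finite_of_finite_type_of_isJacobsonRing y.ResidueField L
  haveI : Algebra.IsIntegral y.ResidueField L := Algebra.IsIntegral.of_finite _ _
  obtain ⟨m, hm, hm0⟩ := Algebra.IsIntegral.isIntegral (R := y.ResidueField) (A := L)
    (Ideal.Quotient.mk Q ((1 : y.ResidueField) ⊗ₜ[R] t))
  let n := m.natDegree
  obtain ⟨b, hb⟩ := IsLocalization.exist_integer_multiples_of_finite (nonZeroDivisors (R ⧸ y))
    (fun k : Fin n => m.coeff k)
  obtain ⟨c, hc⟩ := Ideal.Quotient.mk_surjective (b : R ⧸ y)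
  choose a' ha' using hb
  choose a ha using fun k => Ideal.Quotient.mk_surjective (I := y) (a' k)
  have hcy : c ∉ y := fun h => nonZeroDivisors.coe_ne_zero b (hc ▸ Ideal.Quotient.eq_zero_iff_mem.mpr h)
  refine ⟨c, n, a, hcy, ?_⟩
  rw [← hQc, Ideal.mem_comap, ← Ideal.Quotient.eq_zero_iff_mem]
  let θ : y.ResidueField →+* L := algebraMap y.ResidueField L
  let τ : L := Ideal.Quotient.mk Q ((1 : y.ResidueField) ⊗ₜ[R] t)
  have hR : ∀ r : R, (Ideal.Quotient.mk Q) (Algebra.TensorProduct.includeRight.toRingHom (algebraMap R S r)) =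
      θ (algebraMap R y.ResidueField r) := fun r => by
    show Ideal.Quotient.mk Q ((1 : y.ResidueField) ⊗ₜ[R] algebraMap R S r) =
      Ideal.Quotient.mk Q (algebraMap R y.ResidueField r ⊗ₜ[R] (1 : S))
    rw [Algebra.algebraMap_eq_smul_one, Algebra.algebraMap_eq_smul_one, TensorProduct.smul_tmul]
  have hsplit : ∀ r : R, algebraMap R y.ResidueField r = algebraMap (R ⧸ y) y.ResidueField (Ideal.Quotient.mk y r) :=
    fun r => rfl
  rw [map_add, map_mul, map_pow, map_sum, map_add, map_mul, map_pow, map_sum]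
  simp only [map_mul, map_pow]
  rw [hR, hsplit, hc]
  simp only [hR, hsplit, ha]
  have h := congrArg (fun v => θ (algebraMap (R ⧸ y) y.ResidueField b) * v) hm0
  simp only [mul_zero] at h
  refine Eq.trans ?_ h
  rw [Polynomial.eval₂_eq_sum_range, Finset.sum_range_succ, show m.coeff m.natDegree = 1 from hm, map_one, one_mul,
    mul_add, add_comm, Finset.mul_sum, ← Fin.sum_univ_eq_sum_range]
  refine congrArg₂ (· + ·) (Finset.sum_congr rfl fun k _ => ?_) rfl
  rw [ha' k, Algebra.smul_def, map_mul, mul_assoc]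
  rfl

variable {E : Type u} [Fintype E]

/-- The prime of a quasi-section in a localisation. -/
theorem exists_quasiSection_prime {R S : Type u} [CommRing R] [CommRing S] [Algebra R S] [Algebra.FiniteType R S]
    (φ : MvPolynomial E R →+* S) (hφC : φ.comp MvPolynomial.C = algebraMap R S) (hφ : φ.QuasiFinite)
    (q P0 : Ideal S) [q.IsPrime] [P0.IsPrime] (hle : P0 ≤ q)
    (hgen : P0.comap φ ≤ (P0.comap (algebraMap R S)).map MvPolynomial.C)
    (hmax : ∀ q' : Ideal S, q'.IsPrime → q ≤ q' → q'.comap (algebraMap R S) = q.comap (algebraMap R S) → q' = q) :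
    ∃ (s : S) (w : Ideal (Localization.Away s)), s ∉ q ∧ w.IsPrime ∧
      w.comap (algebraMap S (Localization.Away s)) ≤ q ∧ P0 ≤ w.comap (algebraMap S (Localization.Away s)) ∧
      w.comap (algebraMap R (Localization.Away s)) = P0.comap (algebraMap R S) ∧
      Algebra.QuasiFinite R (Localization.Away s ⧸ w) := by
  classical
  choose c n a hc hrel using fun i => exists_relation q hmax (φ (MvPolynomial.X i))
  let cc : R := ∏ i, c i
  let s : S := algebraMap R S cc
  have hs : s ∉ q := by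
    show algebraMap R S (∏ i, c i) ∉ q
    rw [map_prod]
    intro h
    obtain ⟨i, -, hi⟩ := (Ideal.IsPrime.prod_mem_iff).mp h
    exact hc i hi
  let Rc := Localization.Away cc
  let Sc := Localization.Away s
  let θ : Rc →+* Sc := IsLocalization.Away.lift cc (g := algebraMap R Sc)
    (by rw [IsScalarTower.algebraMap_apply R S Sc]; exact IsLocalization.Away.algebraMap_isUnit s)
  have hθ : θ.comp (algebraMap R Rc) = algebraMap R Sc := IsLocalization.Away.lift_comp cc _
  letI : Algebra Rc Sc := θ.toAlgebra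
  haveI : IsScalarTower R Rc Sc := IsScalarTower.of_algebraMap_eq fun r => (RingHom.congr_fun hθ r).symm
  let φc : MvPolynomial E Rc →+* Sc :=
    MvPolynomial.eval₂Hom θ fun i => algebraMap S Sc (φ (MvPolynomial.X i))
  letI : Algebra (MvPolynomial E Rc) Sc := φc.toAlgebra
  haveI : IsScalarTower Rc (MvPolynomial E Rc) Sc :=
    IsScalarTower.of_algebraMap_eq fun r => (MvPolynomial.eval₂Hom_C _ _ r).symm
  letI : Algebra (MvPolynomial E R) S := φ.toAlgebra
  haveI : IsScalarTower R (MvPolynomial E R) S :=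
    IsScalarTower.of_algebraMap_eq fun r => (RingHom.congr_fun hφC r).symm
  haveI : Algebra.QuasiFinite (MvPolynomial E R) S := RingHom.quasiFinite_algebraMap.mp hφ
  haveI : Algebra.QuasiFinite (MvPolynomial E R) Sc := Algebra.QuasiFinite.of_isLocalization (S := S) (.powers s)
  letI : Algebra (MvPolynomial E R) (MvPolynomial E Rc) := (MvPolynomial.map (algebraMap R Rc)).toAlgebra
  haveI : IsScalarTower (MvPolynomial E R) (MvPolynomial E Rc) Sc := by
    refine IsScalarTower.of_algebraMap_eq fun p => ?_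
    have e : φc.comp (MvPolynomial.map (algebraMap R Rc)) = (algebraMap S Sc).comp φ :=
      MvPolynomial.ringHom_ext (fun r => by
        rw [RingHom.comp_apply, RingHom.comp_apply, MvPolynomial.map_C, MvPolynomial.eval₂Hom_C,
          ← RingHom.comp_apply θ, hθ, ← RingHom.comp_apply φ, hφC, ← IsScalarTower.algebraMap_apply])
        fun i => by rw [RingHom.comp_apply, RingHom.comp_apply, MvPolynomial.map_X, MvPolynomial.eval₂Hom_X']
    exact (RingHom.congr_fun e p).symm
  haveI : Algebra.QuasiFinite (MvPolynomial E Rc) Sc := Algebra.QuasiFinite.of_restrictScalars (MvPolynomial E R) _ _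
  haveI : Algebra.FiniteType S Sc := IsLocalization.finiteType_of_monoid_fg (Submonoid.powers s) Sc
  haveI : Algebra.FiniteType R Sc := Algebra.FiniteType.trans (R := R) (S := S) (A := Sc) inferInstance inferInstance
  haveI : Algebra.FiniteType Rc Sc := Algebra.FiniteType.of_restrictScalars_finiteType R Rc Sc
  haveI : Algebra.FiniteType (MvPolynomial E Rc) Sc :=
    Algebra.FiniteType.of_restrictScalars_finiteType Rc (MvPolynomial E Rc) Sc
  have hdisj : ∀ p : Ideal S, p.IsPrime → p ≤ q → Disjoint (Submonoid.powers s : Set S) (p : Set S) := by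
    intro p hp hpq
    rw [Set.disjoint_left]
    rintro _ ⟨k, rfl⟩ h
    exact hs (Ideal.IsPrime.mem_of_pow_mem ‹q.IsPrime› k (hpq h))
  let qc : Ideal Sc := q.map (algebraMap S Sc)
  let Pc : Ideal Sc := P0.map (algebraMap S Sc)
  haveI : qc.IsPrime := IsLocalization.isPrime_of_isPrime_disjoint (.powers s) Sc q ‹_› (hdisj q ‹_› le_rfl)
  haveI : Pc.IsPrime := IsLocalization.isPrime_of_isPrime_disjoint (.powers s) Sc P0 ‹_› (hdisj P0 ‹_› hle)
  have hqc : qc.comap (algebraMap S Sc) = q :=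
    IsLocalization.comap_map_of_isPrime_disjoint (.powers s) Sc ‹q.IsPrime› (hdisj q ‹_› le_rfl)
  have hPc : Pc.comap (algebraMap S Sc) = P0 :=
    IsLocalization.comap_map_of_isPrime_disjoint (.powers s) Sc ‹P0.IsPrime› (hdisj P0 ‹_› hle)
  have hu : ∀ i, IsUnit (algebraMap R Rc (c i)) := fun i =>
    isUnit_of_dvd_unit (map_dvd _ (Finset.dvd_prod_of_mem c (Finset.mem_univ i)))
      (IsLocalization.Away.algebraMap_isUnit cc)
  let M : E → Polynomial Rc := fun i => Polynomial.X ^ n i +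
    ∑ k : Fin (n i), Polynomial.C (↑(hu i).unit⁻¹ * algebraMap R Rc (a i k)) * Polynomial.X ^ (k : ℕ)
  have hM : ∀ i, (M i).Monic := fun i => Polynomial.monic_X_pow_add
    ((Polynomial.degree_sum_le _ _).trans_lt ((Finset.sup_lt_iff (WithBot.bot_lt_coe _)).mpr fun k _ =>
      (Polynomial.degree_C_mul_X_pow_le _ _).trans_lt (by exact_mod_cast k.2)))
  have hqM : ∀ i, Polynomial.aeval (algebraMap (MvPolynomial E Rc) Sc (MvPolynomial.X i)) (M i) ∈ qc := fun i => by
    have h1 := Ideal.mem_map_of_mem (algebraMap S Sc) (hrel i)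
    have h2 : θ (↑(hu i).unit⁻¹) * θ (algebraMap R Rc (c i)) = 1 := by
      rw [← map_mul, IsUnit.val_inv_mul, map_one]
    convert qc.mul_mem_left (θ ↑(hu i).unit⁻¹) h1 using 1
    rw [show algebraMap (MvPolynomial E Rc) Sc (MvPolynomial.X i) = algebraMap S Sc (φ (MvPolynomial.X i)) from
      MvPolynomial.eval₂Hom_X' _ _ _]
    simp only [M, map_add, map_mul, map_pow, map_sum, Polynomial.aeval_X, Polynomial.aeval_C,
      ← IsScalarTower.algebraMap_apply R S Sc]
    rw [mul_add, ← mul_assoc, Finset.mul_sum,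
      show algebraMap R Sc (c i) = θ (algebraMap R Rc (c i)) from (RingHom.congr_fun hθ _).symm, h2, one_mul]
    refine congrArg₂ (· + ·) rfl (Finset.sum_congr rfl fun k _ => ?_)
    rw [show algebraMap R Sc (a i k) = θ (algebraMap R Rc (a i k)) from (RingHom.congr_fun hθ _).symm,
      show algebraMap Rc Sc = θ from rfl, mul_assoc]
  have hgen' : Pc.comap (algebraMap (MvPolynomial E Rc) Sc) ≤ (Pc.comap (algebraMap Rc Sc)).map MvPolynomial.C := by
    haveI : IsLocalization ((Submonoid.powers cc).map (MvPolynomial.C (σ := E))) (MvPolynomial E Rc) :=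
      MvPolynomial.isLocalization (.powers cc) Rc
    intro p hp
    obtain ⟨⟨p₀, u⟩, hpu⟩ := IsLocalization.surj ((Submonoid.powers cc).map (MvPolynomial.C (σ := E))) p
    have h1 : p₀ ∈ P0.comap φ := by
      rw [← hPc]
      show algebraMap S Sc (algebraMap (MvPolynomial E R) S p₀) ∈ Pc
      rw [← IsScalarTower.algebraMap_apply, IsScalarTower.algebraMap_apply (MvPolynomial E R) (MvPolynomial E Rc) Sc,
        ← hpu, map_mul]
      exact Ideal.mul_mem_right _ _ hp
    have h2 : algebraMap (MvPolynomial E R) (MvPolynomial E Rc) p₀ ∈ (Pc.comap (algebraMap Rc Sc)).map MvPolynomial.C := by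
      have h3 := Ideal.mem_map_of_mem (algebraMap (MvPolynomial E R) (MvPolynomial E Rc)) (hgen h1)
      rw [Ideal.map_map, show (algebraMap (MvPolynomial E R) (MvPolynomial E Rc)).comp MvPolynomial.C =
        MvPolynomial.C.comp (algebraMap R Rc) from RingHom.ext fun r => MvPolynomial.map_C _ r, ← Ideal.map_map] at h3
      refine Ideal.map_mono (Ideal.map_le_iff_le_comap.mpr fun r hr => ?_) h3
      show algebraMap Rc Sc (algebraMap R Rc r) ∈ Pc
      rw [← IsScalarTower.algebraMap_apply, IsScalarTower.algebraMap_apply R S Sc]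
      exact Ideal.mem_map_of_mem _ hr
    rw [← hpu] at h2
    exact (Ideal.mul_unit_mem_iff_mem _ (IsLocalization.map_units _ u)).mp h2
  obtain ⟨w, hwp, hwle, hwP, hwo, hwM⟩ :=
    exists_prime_monic (R := Rc) (S := Sc) M hM qc Pc (Ideal.map_mono hle) hgen' hqM
  refine ⟨s, w, hs, hwp, (Ideal.comap_mono hwle).trans hqc.le, hPc.ge.trans (Ideal.comap_mono hwP), ?_, ?_⟩
  · rw [IsScalarTower.algebraMap_eq R Rc Sc, ← Ideal.comap_comap, hwo, Ideal.comap_comap,
      ← IsScalarTower.algebraMap_eq R Rc Sc, IsScalarTower.algebraMap_eq R S Sc, ← Ideal.comap_comap, hPc]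
  · let J : Ideal (MvPolynomial E Rc) := Ideal.span (Set.range fun i => Polynomial.aeval (MvPolynomial.X i) (M i))
    let B := MvPolynomial E Rc ⧸ J
    haveI : Algebra.IsIntegral Rc B := ⟨fun b => by
      obtain ⟨p, rfl⟩ := Ideal.Quotient.mk_surjective b
      induction p using MvPolynomial.induction_on with
      | C r => exact isIntegral_algebraMap
      | add p q hp hq => rw [map_add]; exact hp.add hq
      | mul_X p i hp =>
        rw [map_mul]
        refine hp.mul ⟨M i, hM i, ?_⟩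
        rw [← Polynomial.aeval_def, ← Ideal.Quotient.mkₐ_eq_mk Rc, Polynomial.aeval_algHom_apply,
          Ideal.Quotient.mkₐ_eq_mk, Ideal.Quotient.eq_zero_iff_mem]
        exact Ideal.subset_span ⟨i, rfl⟩⟩
    haveI : Module.Finite Rc B := Algebra.IsIntegral.finite
    have hJ : J ≤ w.comap (algebraMap (MvPolynomial E Rc) Sc) := Ideal.span_le.mpr (by
      rintro _ ⟨i, rfl⟩
      show algebraMap (MvPolynomial E Rc) Sc _ ∈ w
      rw [← Polynomial.aeval_algebraMap_apply]
      exact hwM i)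
    letI : Algebra B (Sc ⧸ w) := Ideal.Quotient.algebraQuotientOfLEComap hJ
    haveI : IsScalarTower Rc B (Sc ⧸ w) := IsScalarTower.of_algebraMap_eq fun r => by
      show Ideal.Quotient.mk w (algebraMap Rc Sc r) = Ideal.Quotient.mk w (algebraMap (MvPolynomial E Rc) Sc (MvPolynomial.C r))
      rw [← MvPolynomial.algebraMap_eq, ← IsScalarTower.algebraMap_apply]
    haveI : IsScalarTower (MvPolynomial E Rc) B (Sc ⧸ w) := IsScalarTower.of_algebraMap_eq fun r => rfl
    haveI : Algebra.QuasiFinite (MvPolynomial E Rc) (Sc ⧸ w) := inferInstance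
    haveI : Algebra.QuasiFinite B (Sc ⧸ w) := Algebra.QuasiFinite.of_restrictScalars (MvPolynomial E Rc) _ _
    haveI : Algebra.QuasiFinite Rc (Sc ⧸ w) := Algebra.QuasiFinite.trans Rc B _
    haveI : Algebra.QuasiFinite R Rc := Algebra.QuasiFinite.of_isLocalization (S := R) (.powers cc)
    exact Algebra.QuasiFinite.trans R Rc _

/-- Quasi-sections through a point closed in its fibre, lying below a point generic in affine space. -/
theorem exists_quasiSection {X Y : Scheme.{u}} [IsLocallyNoetherian Y] (f : X ⟶ Y) [LocallyOfFiniteType f]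
    (x : X) (hcl : ∀ x' : X, f x' = f x → x ⤳ x' → x' = x) (e : ℕ) (D : X.Opens) (hxD : x ∈ D)
    (g : (D : Scheme.{u}) ⟶ 𝔸(ULift.{u} (Fin e); Y)) [LocallyQuasiFinite g]
    (hg : g ≫ (𝔸(ULift.{u} (Fin e); Y) ↘ Y) = D.ι ≫ f) (ζ : (D : Scheme.{u})) (hζx : D.ι ζ ⤳ x)
    (hζ : ∀ p, p ⤳ g ζ → p = g ζ) :
    ∃ (T : Scheme.{u}) (i : T ⟶ X), IsImmersion i ∧ IrreducibleSpace ↥T ∧ IsReduced T ∧
      x ∈ Set.range i.base ∧ Set.range i.base ⊆ closure {D.ι ζ} ∧
      LocallyOfFiniteType (i ≫ f) ∧ LocallyQuasiFinite (i ≫ f) ∧ QuasiCompact (i ≫ f) ∧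
      f (D.ι ζ) ∈ Set.range (i ≫ f).base := by
  classical
  let E := ULift.{u} (Fin e)
  obtain ⟨V, hV, hyV, -⟩ := exists_isAffineOpen_mem_and_subset (TopologicalSpace.Opens.mem_top (f x))
  obtain ⟨W, hW, hxW, hWD⟩ := exists_isAffineOpen_mem_and_subset (show x ∈ D ⊓ f ⁻¹ᵁ V from ⟨hxD, hyV⟩)
  have hWV : W ≤ f ⁻¹ᵁ V := fun w hw => (hWD hw).2
  have hWD' : W ≤ D := fun w hw => (hWD hw).1
  letI : Algebra Γ(Y, V) Γ(X, W) := (f.appLE V W hWV).hom.toAlgebra
  haveI : Algebra.FiniteType Γ(Y, V) Γ(X, W) := f.finiteType_appLE hV hW hWV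
  have hsq : Spec.map (f.appLE V W hWV) ≫ hV.fromSpec = hW.fromSpec ≫ f := hV.SpecMap_appLE_fromSpec f hW hWV
  have bot := AffineSpace.isPullback_map (n := E) hV.fromSpec
  let gW : Spec Γ(X, W) ⟶ 𝔸(E; Y) := (hW.isoSpec.inv ≫ X.homOfLE hWD') ≫ g
  have hgW : gW ≫ (𝔸(E; Y) ↘ Y) = hW.fromSpec ≫ f := by
    rw [Category.assoc, hg, Category.assoc, Scheme.homOfLE_ι_assoc, IsAffineOpen.isoSpec_inv_ι_assoc]
  let h := bot.lift gW (Spec.map (f.appLE V W hWV)) (by rw [hgW, hsq])
  obtain ⟨φ', hφ'⟩ := Spec.map_surjective (h ≫ (AffineSpace.SpecIso E Γ(Y, V)).hom)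
  let φ : MvPolynomial E Γ(Y, V) →+* Γ(X, W) := φ'.hom
  have hinv : (h ≫ (AffineSpace.SpecIso E Γ(Y, V)).hom) ≫ (AffineSpace.SpecIso E Γ(Y, V)).inv = h := by
    rw [Category.assoc, Iso.hom_inv_id, Category.comp_id]
  have hφC : φ.comp MvPolynomial.C = algebraMap Γ(Y, V) Γ(X, W) := by
    have h1 : Spec.map (CommRingCat.ofHom MvPolynomial.C ≫ φ') = Spec.map (f.appLE V W hWV) := by
      rw [Spec.map_comp, hφ', ← AffineSpace.SpecIso_inv_over, ← Category.assoc, hinv]
      exact bot.lift_snd _ _ _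
    exact congrArg CommRingCat.Hom.hom (Spec.map_injective h1)
  let m := AffineSpace.map E hV.fromSpec
  haveI : IsOpenImmersion m := MorphismProperty.of_isPullback (P := @IsOpenImmersion) bot.flip inferInstance
  have hhm : h ≫ m = gW := bot.lift_fst _ _ _
  haveI : LocallyQuasiFinite (X.homOfLE hWD') := inferInstance
  haveI : LocallyQuasiFinite gW := inferInstance
  haveI : LocallyQuasiFinite (h ≫ m) := hhm ▸ inferInstance
  haveI : LocallyQuasiFinite h := LocallyQuasiFinite.of_comp h m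
  have hφqf : φ.QuasiFinite := by
    haveI : LocallyQuasiFinite (Spec.map φ') := hφ' ▸ inferInstance
    exact (HasRingHomProperty.Spec_iff (P := @LocallyQuasiFinite)).mp inferInstance
  let q := hW.primeIdealOf ⟨x, hxW⟩
  have hζW : D.ι ζ ∈ W := hζx.mem_open W.2 hxW
  let P0 := hW.primeIdealOf ⟨D.ι ζ, hζW⟩
  have hq : hW.fromSpec q = x := hW.fromSpec_primeIdealOf ⟨x, hxW⟩
  have hP0 : hW.fromSpec P0 = D.ι ζ := hW.fromSpec_primeIdealOf ⟨D.ι ζ, hζW⟩
  haveI := q.2
  haveI := P0.2
  have hbase : ∀ (a : Spec Γ(X, W)), f (hW.fromSpec a) = hV.fromSpec (Spec.map (f.appLE V W hWV) a) := fun a => by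
    rw [← Scheme.Hom.comp_apply, ← hsq, Scheme.Hom.comp_apply]
  have hle : P0.asIdeal ≤ q.asIdeal :=
    (PrimeSpectrum.le_iff_specializes P0 q).mpr
      (hW.fromSpec.isOpenEmbedding.isInducing.specializes_iff.mp (by rw [hq, hP0]; exact hζx))
  have hgen : P0.asIdeal.comap φ ≤ (P0.asIdeal.comap (algebraMap Γ(Y, V) Γ(X, W))).map MvPolynomial.C := by
    let N := (P0.asIdeal.comap (algebraMap Γ(Y, V) Γ(X, W))).map (MvPolynomial.C (σ := E))
    haveI : (P0.asIdeal.comap (algebraMap Γ(Y, V) Γ(X, W))).IsPrime := Ideal.IsPrime.comap _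
    have hN : N.IsPrime := by
      have e1 : N = RingHom.ker (MvPolynomial.map (σ := E)
          (Ideal.Quotient.mk (P0.asIdeal.comap (algebraMap Γ(Y, V) Γ(X, W))))) := by
        rw [MvPolynomial.ker_map, Ideal.mk_ker]
      rw [e1]; exact RingHom.ker_isPrime _
    let Np : Spec (CommRingCat.of (MvPolynomial E Γ(Y, V))) := (⟨N, hN⟩ : PrimeSpectrum _)
    let k := (AffineSpace.SpecIso E Γ(Y, V)).inv ≫ m
    have hk : Spec.map φ' ≫ k = gW := by rw [hφ', ← Category.assoc, hinv, hhm]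
    have hNsp : Np ⤳ Spec.map φ' P0 := by
      refine (PrimeSpectrum.le_iff_specializes (⟨N, hN⟩ : PrimeSpectrum _) (PrimeSpectrum.comap φ P0)).mp
        (Ideal.map_le_iff_le_comap.mpr ?_)
      rw [← hφC, ← Ideal.comap_comap]
      rfl
    have hgζ : gW P0 = g ζ := by
      show ((hW.isoSpec.inv ≫ X.homOfLE hWD') ≫ g) P0 = g ζ
      rw [Scheme.Hom.comp_apply]
      refine congrArg g (D.ι.isOpenEmbedding.injective ?_)
      rw [← Scheme.Hom.comp_apply, Category.assoc, Scheme.homOfLE_ι, IsAffineOpen.isoSpec_inv_ι]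
      exact hP0
    have h2 : k (Spec.map φ' P0) = g ζ := by rw [← Scheme.Hom.comp_apply, hk, hgζ]
    have h3 : k Np = k (Spec.map φ' P0) := by
      rw [h2]; exact hζ _ (h2 ▸ hNsp.map k.continuous)
    have h4 : Np = Spec.map φ' P0 := k.isOpenEmbedding.injective h3
    exact le_of_eq (congrArg PrimeSpectrum.asIdeal h4).symm
  have hmax : ∀ q' : Ideal Γ(X, W), q'.IsPrime → q.asIdeal ≤ q' →
      q'.comap (algebraMap Γ(Y, V) Γ(X, W)) = q.asIdeal.comap (algebraMap Γ(Y, V) Γ(X, W)) → q' = q.asIdeal := by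
    intro q' hq' hqq' ho
    let q'' : Spec Γ(X, W) := (⟨q', hq'⟩ : PrimeSpectrum _)
    have e1 : f (hW.fromSpec q'') = f x := by
      rw [← hq, hbase, hbase]
      exact congrArg hV.fromSpec (PrimeSpectrum.ext ho)
    have e2 : q'' = q := hW.fromSpec.isOpenEmbedding.injective (by
      rw [hq]
      refine hcl _ e1 ?_
      rw [← hq]
      exact ((PrimeSpectrum.le_iff_specializes q ⟨q', hq'⟩).mp hqq').map hW.fromSpec.continuous)
    exact congrArg PrimeSpectrum.asIdeal e2
  obtain ⟨s, w, hs, hwp, hwq, hwP, hwo, hwqf⟩ :=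
    exists_quasiSection_prime φ hφC hφqf q.asIdeal P0.asIdeal hle hgen hmax
  let Sc := Localization.Away s
  let T := Sc ⧸ w
  haveI : IsDomain T := Ideal.Quotient.isDomain w
  let j := Spec.map (CommRingCat.ofHom (algebraMap Γ(X, W) Sc))
  haveI : IsOpenImmersion j := IsOpenImmersion.of_isLocalization s
  let c := Spec.map (CommRingCat.ofHom (Ideal.Quotient.mk w))
  haveI : IsClosedImmersion c := IsClosedImmersion.spec_of_surjective _ Ideal.Quotient.mk_surjective
  let i := c ≫ j ≫ hW.fromSpec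
  have hif : i ≫ f = Spec.map (CommRingCat.ofHom (algebraMap Γ(Y, V) T)) ≫ hV.fromSpec := by
    rw [Category.assoc, Category.assoc, ← hsq, ← Spec.map_comp_assoc, ← Spec.map_comp_assoc]
    rfl
  haveI : LocallyQuasiFinite (Spec.map (CommRingCat.ofHom (algebraMap Γ(Y, V) T))) :=
    (HasRingHomProperty.Spec_iff (P := @LocallyQuasiFinite)).mpr (RingHom.quasiFinite_algebraMap.mpr hwqf)
  have hmem : ∀ a : Spec (CommRingCat.of T), w ≤ (c a : PrimeSpectrum Sc).asIdeal := fun a r hr => by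
    show Ideal.Quotient.mk w r ∈ (a : PrimeSpectrum T).asIdeal
    rw [Ideal.Quotient.eq_zero_iff_mem.mpr hr]
    exact Ideal.zero_mem _
  haveI : QuasiSeparatedSpace Y := inferInstance
  haveI : CompactSpace ↥(Spec (CommRingCat.of T)) := inferInstanceAs (CompactSpace (PrimeSpectrum T))
  haveI : QuasiCompact (i ≫ f) := @quasiCompact_of_compactSpace _ _ (i ≫ f) ‹_› ‹_›
  refine ⟨Spec (CommRingCat.of T), i, inferInstance,
    (inferInstance : IrreducibleSpace (PrimeSpectrum T)), inferInstance, ?_, ?_, inferInstance,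
    hif ▸ inferInstance, inferInstance, ?_⟩
  · have hdisj : Disjoint (Submonoid.powers s : Set Γ(X, W)) (q.asIdeal : Set Γ(X, W)) := by
      rw [Set.disjoint_left]
      rintro _ ⟨k, rfl⟩ hk
      exact hs (q.2.mem_of_pow_mem k hk)
    let qc : Ideal Sc := q.asIdeal.map (algebraMap Γ(X, W) Sc)
    haveI : qc.IsPrime := IsLocalization.isPrime_of_isPrime_disjoint (.powers s) Sc q.asIdeal q.2 hdisj
    have hqc : qc.comap (algebraMap Γ(X, W) Sc) = q.asIdeal :=
      IsLocalization.under_map_of_isPrime_disjoint (.powers s) Sc q.2 hdisj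
    have hwqc : w ≤ qc := by
      rw [← IsLocalization.map_comap (.powers s) Sc w]
      exact Ideal.map_mono hwq
    have hker : RingHom.ker (Ideal.Quotient.mk w) ≤ qc := Ideal.mk_ker.le.trans hwqc
    let a : Spec (CommRingCat.of T) :=
      (⟨qc.map (Ideal.Quotient.mk w), Ideal.map_isPrime_of_surjective Ideal.Quotient.mk_surjective hker⟩ : PrimeSpectrum T)
    refine ⟨a, ?_⟩
    show hW.fromSpec (j (c a)) = x
    rw [← hq]
    refine congrArg hW.fromSpec (PrimeSpectrum.ext ?_)
    show ((qc.map (Ideal.Quotient.mk w)).comap (Ideal.Quotient.mk w)).comap (algebraMap Γ(X, W) Sc) = q.asIdeal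
    rw [Ideal.comap_map_of_surjective _ Ideal.Quotient.mk_surjective, ← RingHom.ker_eq_comap_bot, Ideal.mk_ker,
      sup_eq_left.mpr hwqc, hqc]
  · rintro _ ⟨a, rfl⟩
    refine specializes_iff_mem_closure.mp ?_
    show D.ι ζ ⤳ hW.fromSpec (j (c a))
    rw [← hP0]
    refine Specializes.map ((PrimeSpectrum.le_iff_specializes P0 (j (c a) : PrimeSpectrum Γ(X, W))).mp ?_)
      hW.fromSpec.continuous
    exact hwP.trans (Ideal.comap_mono (hmem a))
  · refine ⟨(⟨⊥, Ideal.isPrime_bot⟩ : PrimeSpectrum T), ?_⟩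
    show (i ≫ f) _ = _
    rw [hif, Scheme.Hom.comp_apply, ← hP0, hbase]
    refine congrArg hV.fromSpec (PrimeSpectrum.ext ?_)
    show (⊥ : Ideal T).comap (algebraMap Γ(Y, V) T) = P0.asIdeal.comap (algebraMap Γ(Y, V) Γ(X, W))
    rw [IsScalarTower.algebraMap_eq Γ(Y, V) Sc T, ← Ideal.comap_comap, Ideal.Quotient.algebraMap_eq,
      ← RingHom.ker_eq_comap_bot, Ideal.mk_ker, hwo]

/-- The image of a maximal point of affine space is a maximal point of the base. -/
theorem eq_genericPoint_of_maximal {n : Type u} {Y : Scheme.{u}} [IrreducibleSpace Y] (p : ↥𝔸(n; Y))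
    (hp : ∀ q, q ⤳ p → q = p) : (𝔸(n; Y) ↘ Y) p = genericPoint Y :=
  (((affineSpace_maximal_iff n p).mp hp).1 _ ((genericPoint_spec Y).specializes trivial)).symm

/-- A quasi-finite dominant morphism is universally open over a geometrically unibranch point. -/
theorem isUnivOpenAt_of_qf {T Y : Scheme.{u}} [IsLocallyNoetherian Y] (f : T ⟶ Y) [LocallyOfFiniteType f]
    [LocallyQuasiFinite f] (t : T) (hy : CAlg2.IsGeomUnibranch (Y.presheaf.stalk (f t))) (ζ : T) (hζ : ζ ⤳ t)
    (hmax : ∀ η, η ⤳ f ζ → η = f ζ) : EGA43.IsUnivOpenAt f t := by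
  let g : ((⊤ : T.Opens) : Scheme.{u}) ⟶ 𝔸(ULift.{u} (Fin 0); Y) :=
    AffineSpace.homOfVector ((⊤ : T.Opens).ι ≫ f) fun i => Fin.elim0 i.down
  have hg : g ≫ (𝔸(ULift.{u} (Fin 0); Y) ↘ Y) = (⊤ : T.Opens).ι ≫ f := AffineSpace.homOfVector_over _ _
  haveI : LocallyQuasiFinite (g ≫ (𝔸(ULift.{u} (Fin 0); Y) ↘ Y)) := hg ▸ inferInstance
  haveI : LocallyQuasiFinite g := LocallyQuasiFinite.of_comp g (𝔸(ULift.{u} (Fin 0); Y) ↘ Y)
  let ζ' : ((⊤ : T.Opens) : Scheme.{u}) := ⟨ζ, trivial⟩
  have hpr : (𝔸(ULift.{u} (Fin 0); Y) ↘ Y) (g ζ') = f ζ := by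
    rw [← Scheme.Hom.comp_apply, hg]; rfl
  refine Groth.L07.Chevalley.isUnivOpenAt_of_dominant f t hy 0 ⊤ trivial g hg ζ' hζ
    ((affineSpace_maximal_iff _ (g ζ')).mpr ⟨fun η hη => ?_, genericPoint_of_fdim _ (g ζ') ?_⟩)
  · rw [hpr] at hη ⊢
    exact hmax η hη
  · obtain ⟨k, hk⟩ := Groth.L07.OpenFibreDim.exists_nat_fdim (𝔸(ULift.{u} (Fin 0); Y) ↘ Y) (g ζ')
    rw [hk]
    exact_mod_cast (show Nat.card (ULift.{u} (Fin 0)) ≤ k by simp)

/-- Quasi-sections through the closed points of a fibre give openness along it. -/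
theorem isOpenAt_of_quasiSections {X Y : Scheme.{u}} [IrreducibleSpace Y] [IsLocallyNoetherian Y] (f : X ⟶ Y)
    [LocallyOfFiniteType f] (x : X) (hy : CAlg2.IsGeomUnibranch (Y.presheaf.stalk (f x)))
    (h : ∀ x₁ : X, f x₁ = f x → (∀ x' : X, f x' = f x → x₁ ⤳ x' → x' = x₁) →
      ∃ (T : Scheme.{u}) (i : T ⟶ X), IsImmersion i ∧ IrreducibleSpace ↥T ∧ IsReduced T ∧ x₁ ∈ Set.range i.base ∧
        LocallyOfFiniteType (i ≫ f) ∧ LocallyQuasiFinite (i ≫ f) ∧ QuasiCompact (i ≫ f) ∧ IsDominant (i ≫ f)) :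
    EGA43.IsOpenAt f.base x := by
  intro U hU
  obtain ⟨U₀, hU₀, hU₀o, hxU₀⟩ := mem_nhds_iff.mp hU
  haveI : LocallyOfFiniteType (f.fiberToSpecResidueField (f x)) :=
    MorphismProperty.pullback_snd _ _ inferInstance
  haveI : JacobsonSpace (f.fiber (f x)) :=
    LocallyOfFiniteType.jacobsonSpace (f.fiberToSpecResidueField (f x))
  obtain ⟨c, hc⟩ := exists_fiber_point f x
  obtain ⟨c₁, ⟨hc₁U, hc₁⟩, hc₁cl⟩ := nonempty_inter_closedPoints
    (Z := (f.fiberι (f x) ⁻¹' U₀) ∩ closure {c})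
    ⟨c, show f.fiberι (f x) c ∈ U₀ from hc.symm ▸ hxU₀, subset_closure rfl⟩
    ((hU₀o.preimage (f.fiberι (f x)).continuous).isLocallyClosed.inter isClosed_closure.isLocallyClosed)
  have hfc : f (f.fiberι (f x) c₁) = f x := apply_fiberι f (f x) c₁
  obtain ⟨T, i, -, hTirr, -, ⟨t, ht⟩, hlft, hlqf, hqc, hdom⟩ := h (f.fiberι (f x) c₁) hfc fun x' hx' hsp => by
    obtain ⟨c', rfl⟩ : x' ∈ Set.range (f.fiberι (f x)) := by rw [f.range_fiberι]; exact hx'
    have h' : c₁ ⤳ c' := (f.fiberι (f x)).isEmbedding.isInducing.specializes_iff.mp hsp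
    have h'' : c' ∈ closure ({c₁} : Set _) := specializes_iff_mem_closure.mp h'
    rw [show closure ({c₁} : Set _) = {c₁} from IsClosed.closure_eq hc₁cl] at h''
    exact congrArg _ h''
  haveI := hlft; haveI := hlqf; haveI := hqc; haveI := hdom; haveI := hTirr
  let τ := genericPoint T
  have hτη : (i ≫ f) τ = genericPoint Y := by
    refine IsGenericPoint.eq (S := Set.univ) ?_ (genericPoint_spec Y)
    have h1 : IsGenericPoint ((i ≫ f) τ) (closure ((i ≫ f).base '' Set.univ)) :=
      (genericPoint_spec T).image (i ≫ f).continuous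
    rwa [Set.image_univ, (i ≫ f).denseRange.closure_range] at h1
  have hft : (i ≫ f) t = f x := by rw [Scheme.Hom.comp_apply]; exact (congrArg f ht).trans hfc
  have hopen : EGA43.IsUnivOpenAt (i ≫ f) t := isUnivOpenAt_of_qf (i ≫ f) t (hft.symm ▸ hy) τ
    ((genericPoint_spec T).specializes trivial) fun η hη => by
      rw [hτη] at hη ⊢
      exact (hη.antisymm ((genericPoint_spec Y).specializes trivial)).eq
  have h2 := Groth.L07.UnivOpenAt.of_isPullback (IsPullback.of_id_fst (f := i ≫ f)) hopen t rfl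
    (i.base ⁻¹' U₀) ((hU₀o.preimage i.continuous).mem_nhds (show i t ∈ U₀ from ht.symm ▸ hc₁U))
  rw [show (i ≫ f).base t = f.base x from hft] at h2
  refine Filter.mem_of_superset h2 ?_
  rintro _ ⟨a, ha, rfl⟩
  exact ⟨i a, hU₀ ha, (Scheme.Hom.comp_apply _ _ _).symm⟩

end Groth.L07.QuasiSection
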