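import Groth.Agent.L07.EquidimStalk
import Groth.Agent.L07.QuasiSection
import Groth.Agent.L07.OpenEquiv
import Groth.Prelude.Def_EGA4b

/-!
Equidimensional local rings and equidimensional morphisms at a point.
-/

universe u

open CategoryTheory CategoryTheory.Limits AlgebraicGeometry TopologicalSpace Topology

namespace Groth.L07.EquidimPoint

open Groth.L07.Equidim Groth.L07.EquidimQF

set_option maxSynthPendingDepth 3
set_option linter.style.haveILetI false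
set_option backward.isDefEq.respectTransparency.types false
set_option backward.isDefEq.respectTransparency false

theorem minimalPrimes_iff {A : Type u} [CommRing A] (p : PrimeSpectrum A) :
    p.asIdeal ∈ minimalPrimes A ↔ ∀ q : PrimeSpectrum A, q ≤ p → q = p :=
  ⟨fun h q hq => PrimeSpectrum.ext (le_antisymm hq (h.2 ⟨q.2, bot_le⟩ hq)),
    fun h => ⟨⟨p.2, bot_le⟩, fun I hI hIp => (congrArg PrimeSpectrum.asIdeal (h ⟨I, hI.1⟩ hIp)).ge⟩⟩

theorem ringKrullDim_quotient_eq_coheight {A : Type u} [CommRing A] (p : PrimeSpectrum A) :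
    ringKrullDim (A ⧸ p.asIdeal) = Order.coheight p := by
  rw [ringKrullDim_quotient, Order.coheight_eq_krullDim_Ici]
  have hset : PrimeSpectrum.zeroLocus (p.asIdeal : Set A) = Set.Ici p := by
    ext q; exact Iff.rfl
  exact Order.krullDim_eq_of_orderIso (OrderIso.setCongr _ _ hset)

theorem isEquidim_iff {A : Type u} [CommRing A] :
    EGA4.IsEquidim A ↔ ∀ p : PrimeSpectrum A, (∀ q, q ≤ p → q = p) →
      (Order.coheight p : WithBot ℕ∞) = Order.krullDim (PrimeSpectrum A) := by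
  constructor
  · intro h p hp
    rw [← ringKrullDim_quotient_eq_coheight]
    exact h _ ((minimalPrimes_iff p).mpr hp)
  · intro h p hp
    haveI := hp.1.1
    have h1 := h ⟨p, hp.1.1⟩ ((minimalPrimes_iff ⟨p, hp.1.1⟩).mp hp)
    rw [← ringKrullDim_quotient_eq_coheight] at h1
    exact h1

variable {X Y : Scheme.{u}}

/-- Dimensions of the components at a point, compared through a quasi-finite map to affine space. -/
theorem exists_coheight_compare [IsLocallyNoetherian Y] (f : X ⟶ Y) [LocallyOfFiniteType f] (x : X)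
    (hy : CAlg2.IsGeomUnibranch (Y.presheaf.stalk (f x))) (e : ℕ) (D : X.Opens) (hxD : x ∈ D)
    (g : (D : Scheme.{u}) ⟶ 𝔸(ULift.{u} (Fin e); Y)) [LocallyQuasiFinite g]
    (hg : g ≫ (𝔸(ULift.{u} (Fin e); Y) ↘ Y) = D.ι ≫ f) :
    ∃ M : ℕ, ∀ P : PrimeSpectrum (X.presheaf.stalk x), ∃ ζ : (D : Scheme.{u}),
      D.ι ζ = X.fromSpecStalk x P ∧
      ((∀ p, p ⤳ g ζ → p = g ζ) → Order.coheight P = M) ∧
      (¬ (∀ p, p ⤳ g ζ → p = g ζ) → Order.coheight P < M) := by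
  classical
  let E := ULift.{u} (Fin e)
  obtain ⟨V, hV, hyV, -⟩ := exists_isAffineOpen_mem_and_subset (TopologicalSpace.Opens.mem_top (f x))
  obtain ⟨W, hW, hxW, hWD⟩ := exists_isAffineOpen_mem_and_subset (show x ∈ D ⊓ f ⁻¹ᵁ V from ⟨hxD, hyV⟩)
  have hWV : W ≤ f ⁻¹ᵁ V := fun w hw => (hWD hw).2
  have hWD' : W ≤ D := fun w hw => (hWD hw).1
  haveI : IsNoetherianRing Γ(Y, V) := IsLocallyNoetherian.component_noetherian ⟨V, hV⟩
  letI : Algebra Γ(Y, V) Γ(X, W) := (f.appLE V W hWV).hom.toAlgebra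
  haveI : Algebra.FiniteType Γ(Y, V) Γ(X, W) := f.finiteType_appLE hV hW hWV
  have hsq : Spec.map (f.appLE V W hWV) ≫ hV.fromSpec = hW.fromSpec ≫ f := hV.SpecMap_appLE_fromSpec f hW hWV
  have bot := AffineSpace.isPullback_map (n := E) hV.fromSpec
  let gW : Spec Γ(X, W) ⟶ 𝔸(E; Y) := (hW.isoSpec.inv ≫ X.homOfLE hWD') ≫ g
  have hgW : gW ≫ (𝔸(E; Y) ↘ Y) = hW.fromSpec ≫ f := by
    rw [Category.assoc, hg, Category.assoc, Scheme.homOfLE_ι_assoc, IsAffineOpen.isoSpec_inv_ι_assoc]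
  let h := bot.lift gW (Spec.map (f.appLE V W hWV)) (by rw [hgW, hsq])
  obtain ⟨φ', hφ'⟩ := Spec.map_surjective (h ≫ (AffineSpace.SpecIso E Γ(Y, V)).hom)
  let φ : MvPolynomial E Γ(Y, V) →+* Γ(X, W) := φ'.hom
  have hinv : (h ≫ (AffineSpace.SpecIso E Γ(Y, V)).hom) ≫ (AffineSpace.SpecIso E Γ(Y, V)).inv = h := by
    rw [Category.assoc, Iso.hom_inv_id, Category.comp_id]
  have hφC : φ.comp MvPolynomial.C = algebraMap Γ(Y, V) Γ(X, W) := by
    have h1 : Spec.map (CommRingCat.ofHom MvPolynomial.C ≫ φ') = Spec.map (f.appLE V W hWV) := by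
      rw [Spec.map_comp, hφ', ← AffineSpace.SpecIso_inv_over, ← Category.assoc, hinv]
      exact bot.lift_snd _ _ _
    exact congrArg CommRingCat.Hom.hom (Spec.map_injective h1)
  let m := AffineSpace.map E hV.fromSpec
  haveI : IsOpenImmersion m := MorphismProperty.of_isPullback (P := @IsOpenImmersion) bot.flip inferInstance
  have hhm : h ≫ m = gW := bot.lift_fst _ _ _
  haveI : LocallyQuasiFinite (X.homOfLE hWD') := inferInstance
  haveI : LocallyQuasiFinite gW := inferInstance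
  haveI : LocallyQuasiFinite (h ≫ m) := hhm ▸ inferInstance
  haveI : LocallyQuasiFinite h := LocallyQuasiFinite.of_comp h m
  have hφqf : φ.QuasiFinite := by
    haveI : LocallyQuasiFinite (Spec.map φ') := hφ' ▸ inferInstance
    exact (HasRingHomProperty.Spec_iff (P := @LocallyQuasiFinite)).mp inferInstance
  let q := hW.primeIdealOf ⟨x, hxW⟩
  haveI := q.2
  -- the local ring of the base
  have hyq : q.asIdeal.under Γ(Y, V) = (hV.primeIdealOf ⟨f x, hyV⟩).asIdeal :=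
    congrArg PrimeSpectrum.asIdeal (IsAffineOpen.comap_primeIdealOf_appLE V hV W hW hWV hxW)
  have hy' : CAlg2.IsGeomUnibranch (Localization.AtPrime (q.asIdeal.under Γ(Y, V))) := by
    letI := Y.presheaf.algebra_section_stalk (⟨f x, hyV⟩ : V)
    haveI h1 : IsLocalization.AtPrime (Y.presheaf.stalk (f x)) (hV.primeIdealOf ⟨f x, hyV⟩).asIdeal :=
      hV.isLocalization_stalk ⟨f x, hyV⟩
    haveI : IsLocalization.AtPrime (Y.presheaf.stalk (f x)) (q.asIdeal.under Γ(Y, V)) := by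
      simp only [hyq]; exact h1
    let ε := IsLocalization.algEquiv (q.asIdeal.under Γ(Y, V)).primeCompl (Y.presheaf.stalk (f x))
      (Localization.AtPrime (q.asIdeal.under Γ(Y, V)))
    exact Groth.L07.Chevalley.isGeomUnibranch_of_surjective ε.toRingEquiv.toRingHom ε.surjective
      (fun a ha => by
        have h0 : a = 0 := ε.injective ((RingHom.mem_ker.mp ha).trans (map_zero ε).symm)
        rw [h0]; exact zero_mem _) hy
  obtain ⟨M, hM⟩ := Groth.L07.EquidimStalk.coheight_compare φ hφC hφqf q hy'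
  refine ⟨M, fun P => ?_⟩
  letI := X.presheaf.algebra_section_stalk (⟨x, hxW⟩ : W)
  haveI : IsLocalization.AtPrime (X.presheaf.stalk x) q.asIdeal := hW.isLocalization_stalk ⟨x, hxW⟩
  let e' := IsLocalization.AtPrime.primeSpectrumOrderIso (X.presheaf.stalk x) q.asIdeal
  let a : Spec Γ(X, W) := (e' P).1
  have hfs : hW.fromSpec a = X.fromSpecStalk x P := by
    rw [← hW.fromSpecStalk_eq_fromSpecStalk hxW]
    rfl
  let ζ : (D : Scheme.{u}) := (hW.isoSpec.inv ≫ X.homOfLE hWD') a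
  have hζ : D.ι ζ = X.fromSpecStalk x P := by
    rw [← hfs, ← Scheme.Hom.comp_apply, Category.assoc, Scheme.homOfLE_ι, IsAffineOpen.isoSpec_inv_ι]
  let k := (AffineSpace.SpecIso E Γ(Y, V)).inv ≫ m
  have hk : Spec.map φ' ≫ k = gW := by rw [hφ', ← Category.assoc, hinv, hhm]
  have hmax : (∀ p, p ⤳ g ζ → p = g ζ) ↔
      ((e' P).1.comap φ).asIdeal ∈ minimalPrimes (MvPolynomial E Γ(Y, V)) := by
    have e1 : g ζ = k (Spec.map φ' a) := by
      rw [← Scheme.Hom.comp_apply (Spec.map φ'), hk]; rfl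
    rw [e1, ← maximal_openImmersion_iff k, minimalPrimes_iff]
    exact ⟨fun hh r hr => hh r ((PrimeSpectrum.le_iff_specializes r _).mp hr),
      fun hh r hr => hh r ((PrimeSpectrum.le_iff_specializes (r : PrimeSpectrum _) _).mpr hr)⟩
  refine ⟨ζ, hζ, fun hh => ?_, fun hh => ?_⟩
  · rw [← Order.coheight_orderIso e']
    exact (hM _ (e' P).2).1 (hmax.mp hh)
  · rw [← Order.coheight_orderIso e']
    exact (hM _ (e' P).2).2 fun h2 => hh (hmax.mpr h2)

theorem le_iff_specializes' (x : X) (P Q : PrimeSpectrum (X.presheaf.stalk x)) :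
    P ≤ Q ↔ X.fromSpecStalk x P ⤳ X.fromSpecStalk x Q :=
  (PrimeSpectrum.le_iff_specializes P Q).trans
    (X.fromSpecStalk x).isEmbedding.isInducing.specializes_iff.symm

theorem specializes_point (x : X) (P : PrimeSpectrum (X.presheaf.stalk x)) : X.fromSpecStalk x P ⤳ x := by
  have h : X.fromSpecStalk x P ∈ Set.range (X.fromSpecStalk x) := ⟨P, rfl⟩
  rw [Scheme.range_fromSpecStalk] at h
  exact h

theorem minimal_stalk_iff (x : X) (P : PrimeSpectrum (X.presheaf.stalk x)) :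
    (∀ Q, Q ≤ P → Q = P) ↔ ∀ ζ, ζ ⤳ X.fromSpecStalk x P → ζ = X.fromSpecStalk x P := by
  constructor
  · intro h ζ hζ
    obtain ⟨Q, rfl⟩ : ζ ∈ Set.range (X.fromSpecStalk x) := by
      rw [Scheme.range_fromSpecStalk]; exact hζ.trans (specializes_point x P)
    rw [h Q ((le_iff_specializes' x Q P).mpr hζ)]
  · intro h Q hQ
    exact (X.fromSpecStalk x).isEmbedding.injective (h _ ((le_iff_specializes' x Q P).mp hQ))

/-- The local ring at a point where the morphism is equidimensional is equidimensional. -/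
theorem isEquidim_stalk [IsLocallyNoetherian Y] (f : X ⟶ Y) [LocallyOfFiniteType f] (x : X)
    (hy : CAlg2.IsGeomUnibranch (Y.presheaf.stalk (f x))) (h : EGA43.IsEquidimAt f x) :
    EGA4.IsEquidim (X.presheaf.stalk x) := by
  obtain ⟨e, D, g, hxD, hg, hqf, hmax⟩ := exists_qf_of_isEquidimAt f x h
  haveI := hqf
  obtain ⟨M, hM⟩ := exists_coheight_compare f x hy e D hxD g hg
  have hmin : ∀ P : PrimeSpectrum (X.presheaf.stalk x), (∀ Q, Q ≤ P → Q = P) → Order.coheight P = M := by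
    intro P hP
    obtain ⟨ζ, hζ, h1, -⟩ := hM P
    refine h1 (hmax ζ ((maximal_openImmersion_iff D.ι ζ).mpr ?_)).1
    rw [hζ]; exact (minimal_stalk_iff x P).mp hP
  have hle : ∀ P : PrimeSpectrum (X.presheaf.stalk x), Order.coheight P ≤ M := fun P => by
    haveI := P.2
    obtain ⟨p, hp, hpP⟩ := Ideal.exists_minimalPrimes_le (I := (⊥ : Ideal (X.presheaf.stalk x))) (J := P.asIdeal) bot_le
    rw [← hmin ⟨p, hp.1.1⟩ ((minimalPrimes_iff ⟨p, hp.1.1⟩).mp hp)]
    exact Order.coheight_anti hpP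
  refine isEquidim_iff.mpr fun P hP => le_antisymm (Order.coheight_le_krullDim P) ?_
  rw [hmin P hP, Order.krullDim_eq_iSup_coheight]
  exact iSup_le fun Q => WithBot.coe_le_coe.mpr (hle Q)

/-- Universal openness at the maximal points of the fibre through a point of equidimensionality. -/
theorem isUnivOpenAt_generization [IsLocallyNoetherian Y] (f : X ⟶ Y) [LocallyOfFiniteType f] (x z : X)
    (hy : CAlg2.IsGeomUnibranch (Y.presheaf.stalk (f z))) (hz : z ⤳ x) (h : EGA43.IsEquidimAt f x) :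
    EGA43.IsUnivOpenAt f z := by
  obtain ⟨e, D, g, hxD, hg, hqf, hmax⟩ := exists_qf_of_isEquidimAt f x h
  haveI := hqf
  obtain ⟨ζ, hζ, hζmax⟩ :=
    exists_maximal_generization (X := (D : Scheme.{u})) ⟨z, hz.mem_open D.2 hxD⟩
  exact Groth.L07.Chevalley.isUnivOpenAt_of_dominant f z hy e D (hz.mem_open D.2 hxD) g hg ζ
    (hζ.map D.ι.continuous) (hmax ζ hζmax).1

/-- Equidimensionality from openness and an equidimensional local ring. -/
theorem isEquidimAt_of_isOpenAt [IsLocallyNoetherian Y] (f : X ⟶ Y) [LocallyOfFiniteType f] (x : X)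
    (hy : CAlg2.IsGeomUnibranch (Y.presheaf.stalk (f x))) (hB : EGA4.IsEquidim (X.presheaf.stalk x))
    (hopen : ∀ z, z ⤳ x → f z = f x → (∀ z', f z' = f z → z' ⤳ z → z' = z) → EGA43.IsOpenAt f.base z) :
    EGA43.IsEquidimAt f x := by
  haveI : IsLocallyNoetherian X := LocallyOfFiniteType.isLocallyNoetherian f
  obtain ⟨η, hη, hηmax⟩ := exists_maximal_generization (f x)
  obtain ⟨z, hzx, hfz, hzmax, hzd⟩ := Groth.L07.OpenEquiv.exists_maximal_fdim_eq f x
  obtain ⟨ζ₀, hζ₀z, hζ₀max, hfζ₀, hfd⟩ := Groth.L07.OpenEquiv.exists_component f z hzmax (η := η)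
    (fun U hU => Groth.L07.OpenFibreDim.le_dim_fibre_of_isOpenAt f z hzmax (hopen z hzx hfz hzmax) U hU
      (hfz.symm ▸ hη)) hηmax
  rw [← Groth.L07.OpenFibreDim.fdim_eq_fibreDimAt f z hzmax, hzd] at hfd
  obtain ⟨e, he⟩ := Groth.L07.OpenEquiv.exists_nat_fibreDimAt f x
  obtain ⟨U1, hxU1, hU1⟩ := (Groth.L07.FibreDim.fibreDimAt_le_iff f x (e : WithBot ℕ∞)).mp he.le
  obtain ⟨D, g, hxD, -, hg, hqf⟩ := exists_qf_affineSpace f U1 x hxU1 e hU1
  haveI := hqf
  let pr := 𝔸(ULift.{u} (Fin e); Y) ↘ Y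
  haveI : LocallyOfFiniteType (g ≫ pr) := hg ▸ inferInstance
  haveI : LocallyOfFiniteType g := locallyOfFiniteType_of_comp g pr
  obtain ⟨M, hM⟩ := exists_coheight_compare f x hy e D hxD g hg
  have hdim : ∀ ζ : X, ζ ⤳ x → (∀ ζ', ζ' ⤳ ζ → ζ' = ζ) → ∀ (hζD : ζ ∈ D),
      ((∀ p, p ⤳ g ⟨ζ, hζD⟩ → p = g ⟨ζ, hζD⟩) → Order.krullDim (PrimeSpectrum (X.presheaf.stalk x)) = (M : ℕ∞)) ∧
      (¬ (∀ p, p ⤳ g ⟨ζ, hζD⟩ → p = g ⟨ζ, hζD⟩) →
        Order.krullDim (PrimeSpectrum (X.presheaf.stalk x)) < (M : ℕ∞)) := by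
    intro ζ hζ hζmax hζD
    obtain ⟨P, hP⟩ : ζ ∈ Set.range (X.fromSpecStalk x) := by rw [Scheme.range_fromSpecStalk]; exact hζ
    have hPmin : ∀ Q : PrimeSpectrum (X.presheaf.stalk x), Q ≤ (P : PrimeSpectrum (X.presheaf.stalk x)) → Q = P := (minimal_stalk_iff x P).mpr (by rw [hP]; exact hζmax)
    obtain ⟨ζ', hζ', h1, h2⟩ := hM P
    obtain rfl : ζ' = ⟨ζ, hζD⟩ := D.ι.isOpenEmbedding.injective (hζ'.trans hP)
    rw [← isEquidim_iff.mp hB P hPmin]
    exact ⟨fun hh => by rw [h1 hh], fun hh => WithBot.coe_lt_coe.mpr (h2 hh)⟩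
  have hζ₀D : ζ₀ ∈ D := (hζ₀z.trans hzx).mem_open D.2 hxD
  have hg0 : ∀ p, p ⤳ g ⟨ζ₀, hζ₀D⟩ → p = g ⟨ζ₀, hζ₀D⟩ := by
    have hpr : pr (g ⟨ζ₀, hζ₀D⟩) = f ζ₀ := by rw [← Scheme.Hom.comp_apply, hg]; rfl
    refine (affineSpace_maximal_iff _ _).mpr ⟨fun w hw => ?_, genericPoint_of_fdim _ _ ?_⟩
    · change w ⤳ pr (g ⟨ζ₀, hζ₀D⟩) at hw
      show w = pr (g ⟨ζ₀, hζ₀D⟩)
      rw [hpr, hfζ₀] at hw ⊢
      exact hηmax w hw
    · rw [← fdim_comp g pr (D.ι ≫ f) hg ⟨ζ₀, hζ₀D⟩, fdim_comp D.ι f (D.ι ≫ f) rfl ⟨ζ₀, hζ₀D⟩]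
      refine le_of_eq (Eq.trans ?_ (hfd.trans he).symm)
      simp
  have hB' := (hdim ζ₀ (hζ₀z.trans hzx) hζ₀max hζ₀D).1 hg0
  obtain ⟨V, hxV, hV⟩ := exists_nhd_maximal x
  let j := X.homOfLE (inf_le_left : D ⊓ V ≤ D)
  refine isEquidimAt_of_qf f x e (D ⊓ V) (j ≫ g) ⟨hxD, hxV⟩
    (by rw [Category.assoc, hg, Scheme.homOfLE_ι_assoc]) fun ζ hζ => ?_
  have hζX := (maximal_openImmersion_iff (D ⊓ V).ι ζ).mp hζ
  rw [Scheme.Hom.comp_apply]
  have hj : j ζ = ⟨(D ⊓ V).ι ζ, ζ.2.1⟩ := D.ι.isOpenEmbedding.injective (by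
    rw [← Scheme.Hom.comp_apply, Scheme.homOfLE_ι]
    rfl)
  rw [hj]
  by_contra hcon
  exact (lt_irrefl _) (((hdim _ (hV _ ζ.2.2 hζX) hζX ζ.2.1).2 hcon).trans_le hB'.ge)

end Groth.L07.EquidimPoint
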