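import Groth.Agent.L07.EquidimPoint
import Groth.Agent.L07.UnivOpenFibre
import Groth.Agent.L07.OpenDim
import Groth.Agent.L22.LocQuotDim

/-!
Bookkeeping for the dimension formula: local rings of closures of points, fibre dimensions.
-/

universe u

open CategoryTheory CategoryTheory.Limits AlgebraicGeometry TopologicalSpace Topology

namespace Groth.L07.DimToolkit

open Groth.L22 Groth.L07.Equidim Groth.L07.EquidimQF

set_option maxSynthPendingDepth 3
set_option linter.style.haveILetI false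
set_option backward.isDefEq.respectTransparency.types false
set_option backward.isDefEq.respectTransparency false

variable {X Y : Scheme.{u}}

theorem exists_prime (x ξ : X) (h : ξ ⤳ x) :
    ∃ P : PrimeSpectrum (X.presheaf.stalk x), X.fromSpecStalk x P = ξ := by
  obtain ⟨P, hP⟩ : ξ ∈ Set.range (X.fromSpecStalk x) := by rw [Scheme.range_fromSpecStalk]; exact h
  exact ⟨P, hP⟩

/-- The local ring of the closure of a point in terms of the spectrum of the local ring. -/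
theorem dim_locQuot_eq_coheight (x ξ : X) (h : ξ ⤳ x) (P : PrimeSpectrum (X.presheaf.stalk x))
    (hP : X.fromSpecStalk x P = ξ) :
    ringKrullDim (Cyc.LocQuot x ξ h) = Order.coheight P := by
  let s : PrimeSpectrum (X.residueField ξ) := ⟨⊥, Ideal.isPrime_bot⟩
  have e : P = PrimeSpectrum.comap (Cyc.specMap x ξ h) s :=
    (X.fromSpecStalk x).isEmbedding.injective (hP.trans (LocQuotDim.fromSpecStalk_ker_specMap x ξ h s).symm)
  rw [e, ← Groth.L07.EquidimPoint.ringKrullDim_quotient_eq_coheight]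
  rfl

theorem dim_locQuot_le (x ξ : X) (h : ξ ⤳ x) :
    ringKrullDim (Cyc.LocQuot x ξ h) ≤ ringKrullDim (X.presheaf.stalk x) :=
  ringKrullDim_quotient_le _

theorem exists_nat_dim_locQuot [IsLocallyNoetherian X] (x ξ : X) (h : ξ ⤳ x) :
    ∃ d : ℕ, ringKrullDim (Cyc.LocQuot x ξ h) = (d : WithBot ℕ∞) := by
  obtain ⟨D, hD, -⟩ := LocQuotDim.exists_dim_locQuot x ξ h
  exact ⟨D, hD⟩

/-- Some maximal point through `x` realises the dimension of the local ring. -/
theorem exists_dim_locQuot_eq [IsLocallyNoetherian X] (x : X) :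
    ∃ (ξ : X) (h : ξ ⤳ x) (d : ℕ), (∀ q, q ⤳ ξ → q = ξ) ∧
      ringKrullDim (Cyc.LocQuot x ξ h) = ringKrullDim (X.presheaf.stalk x) ∧
      ringKrullDim (X.presheaf.stalk x) = (d : WithBot ℕ∞) := by
  let R := X.presheaf.stalk x
  obtain ⟨s, hsl, hsn⟩ := (IsLocalRing.maximalIdeal R).exists_ltSeries_length_eq_height
  have cs := DimFormula.covBy_of_length_eq_height (s := s) (by
    rw [hsn, hsl]; exact PrimeSpectrum.height_eq_orderHeight ⟨_, _⟩)
  have hd : ringKrullDim R = (s.length : WithBot ℕ∞) := by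
    rw [← IsLocalRing.maximalIdeal_height_eq_ringKrullDim, ← hsn]; rfl
  have hmax : ∀ q, q ⤳ X.fromSpecStalk x s.head → q = X.fromSpecStalk x s.head :=
    (Groth.L07.EquidimPoint.minimal_stalk_iff x s.head).mp fun q hq => le_antisymm hq (cs.1 hq)
  refine ⟨_, Groth.L07.EquidimPoint.specializes_point x s.head, s.length, hmax,
    le_antisymm (dim_locQuot_le _ _ _) ?_, hd⟩
  rw [dim_locQuot_eq_coheight x _ _ s.head rfl, hd]
  exact WithBot.coe_le_coe.mpr (Order.length_le_coheight le_rfl)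

theorem exists_nat_dim_stalk [IsLocallyNoetherian X] (x : X) :
    ∃ d : ℕ, ringKrullDim (X.presheaf.stalk x) = (d : WithBot ℕ∞) := by
  obtain ⟨-, -, d, -, -, hd⟩ := exists_dim_locQuot_eq x
  exact ⟨d, hd⟩

theorem dim_locQuot_genericPoint [IrreducibleSpace X] [IsLocallyNoetherian X] (x : X)
    (h : genericPoint X ⤳ x) :
    ringKrullDim (Cyc.LocQuot x (genericPoint X) h) = ringKrullDim (X.presheaf.stalk x) := by
  obtain ⟨ξ, hξ, -, hmax, hd, -⟩ := exists_dim_locQuot_eq x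
  obtain rfl := hmax _ ((genericPoint_spec X).specializes trivial)
  exact hd

theorem dim_locQuot_of_isEquidim (x ξ : X) (h : ξ ⤳ x) (hmax : ∀ q, q ⤳ ξ → q = ξ)
    (hE : EGA4.IsEquidim (X.presheaf.stalk x)) :
    ringKrullDim (Cyc.LocQuot x ξ h) = ringKrullDim (X.presheaf.stalk x) := by
  obtain ⟨P, hP⟩ := exists_prime x ξ h
  rw [dim_locQuot_eq_coheight x ξ h P hP]
  exact Groth.L07.EquidimPoint.isEquidim_iff.mp hE P
    ((Groth.L07.EquidimPoint.minimal_stalk_iff x P).mpr (by rw [hP]; exact hmax))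

theorem maximal_of_dim_locQuot [IsLocallyNoetherian X] (x ξ : X) (h : ξ ⤳ x)
    (hd : ringKrullDim (Cyc.LocQuot x ξ h) = ringKrullDim (X.presheaf.stalk x)) :
    ∀ q, q ⤳ ξ → q = ξ := by
  obtain ⟨P, hP⟩ := exists_prime x ξ h
  obtain ⟨d, hd'⟩ := exists_nat_dim_stalk x
  rw [dim_locQuot_eq_coheight x ξ h P hP, hd'] at hd
  have hPd : Order.coheight (P : PrimeSpectrum (X.presheaf.stalk x)) = (d : ℕ∞) := WithBot.coe_injective hd
  rw [← hP]
  refine (Groth.L07.EquidimPoint.minimal_stalk_iff x P).mp fun Q hQ => ?_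
  by_contra hne
  have h1 := Order.coheight_add_one_le (lt_of_le_of_ne hQ hne)
  have h2 : Order.coheight Q ≤ (d : ℕ∞) :=
    WithBot.coe_le_coe.mp ((Order.coheight_le_krullDim Q).trans hd'.le)
  rw [hPd] at h1
  have h3 : d + 1 ≤ d := by exact_mod_cast h1.trans h2
  omega

theorem dim_locQuot_congr {x x' ξ : X} (e : x = x') (h : ξ ⤳ x) (h' : ξ ⤳ x') :
    ringKrullDim (Cyc.LocQuot x ξ h) = ringKrullDim (Cyc.LocQuot x' ξ h') := by
  subst e; rfl

theorem exists_fdim_rtrdeg (f : X ⟶ Y) [LocallyOfFiniteType f] (u : X) :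
    ∃ n : ℕ, fdim f u = (n : WithBot ℕ∞) ∧ Cyc.rtrdeg f u = (n : Cardinal.{u}) := by
  let k : Type u := Y.residueField (f u)
  letI : (f.fiber (f u)).Over (Spec (CommRingCat.of k)) := ⟨f.fiberToSpecResidueField (f u)⟩
  haveI : LocallyOfFiniteType (f.fiber (f u) ↘ Spec (CommRingCat.of k)) :=
    MorphismProperty.pullback_snd _ _ inferInstance
  letI : ∀ b, Algebra k ((f.fiber (f u)).residueField b) := fun b => Curv2.resAlgebra k _ b
  obtain ⟨n, hn, htr⟩ := SchemeDim.exists_dim_closure_eq_trdeg k (f.fiber (f u)) (f.asFiber u)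
  refine ⟨n, by rw [← hn, ← fdim_fiberι, f.fiberι_asFiber], ?_⟩
  have h := Cyc.rtrdeg_fiberι f (f u) (f.asFiber u)
  rw [f.fiberι_asFiber] at h
  exact h.trans htr

/-- The dimension formula with natural numbers. -/
theorem formula [IsLocallyNoetherian Y] (f : X ⟶ Y) [LocallyOfFiniteType f] {x ξ : X} (h : ξ ⤳ x) :
    ∃ A B n N : ℕ, ringKrullDim (Cyc.LocQuot x ξ h) = (A : WithBot ℕ∞) ∧
      ringKrullDim (Cyc.LocQuot (f x) (f ξ) (h.map f.continuous)) = (B : WithBot ℕ∞) ∧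
      fdim f x = (n : WithBot ℕ∞) ∧ fdim f ξ = (N : WithBot ℕ∞) ∧ A + n ≤ B + N ∧
      (CAlg.IsUniversallyCatenary (Y.presheaf.stalk (f x)) → A + n = B + N) := by
  haveI : IsLocallyNoetherian X := LocallyOfFiniteType.isLocallyNoetherian f
  obtain ⟨A, hA⟩ := exists_nat_dim_locQuot x ξ h
  obtain ⟨B, hB⟩ := exists_nat_dim_locQuot (f x) (f ξ) (h.map f.continuous)
  obtain ⟨n, hn, hn'⟩ := exists_fdim_rtrdeg f x
  obtain ⟨N, hN, hN'⟩ := exists_fdim_rtrdeg f ξ
  have key := DimFormula.scheme_dim_formula f h hn' hN'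
  rw [hA, hB] at key
  refine ⟨A, B, n, N, hA, hB, hn, hN, ?_, fun hc => ?_⟩
  · exact_mod_cast key.1
  · exact_mod_cast key.2 hc

/-- The local fibre dimension: transcendence degree plus dimension of the local ring of the fibre. -/
theorem exists_fibreDimAt (f : X ⟶ Y) [LocallyOfFiniteType f] (x : X) :
    ∃ a b : ℕ, fdim f x = (a : WithBot ℕ∞) ∧
      ringKrullDim ((f.fiber (f x)).presheaf.stalk (f.asFiber x)) = (b : WithBot ℕ∞) ∧
      FlatMor.fibreDimAt f x = ((a + b : ℕ) : WithBot ℕ∞) := by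
  let k : Type u := Y.residueField (f x)
  letI : (f.fiber (f x)).Over (Spec (CommRingCat.of k)) := ⟨f.fiberToSpecResidueField (f x)⟩
  haveI : LocallyOfFiniteType (f.fiber (f x) ↘ Spec (CommRingCat.of k)) :=
    MorphismProperty.pullback_snd _ _ inferInstance
  letI : ∀ b, Algebra k ((f.fiber (f x)).residueField b) := fun b => Curv2.resAlgebra k _ b
  obtain ⟨a, b, ha, hb, hloc⟩ := SchemeDim.exists_localDim k (f.fiber (f x)) (f.asFiber x)
  obtain ⟨n, hn, hn'⟩ := exists_fdim_rtrdeg f x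
  have h := Cyc.rtrdeg_fiberι f (f x) (f.asFiber x)
  rw [f.fiberι_asFiber] at h
  obtain rfl : a = n := by exact_mod_cast (h.trans ha).symm.trans hn'
  exact ⟨a, b, hn, hb, hloc⟩

/-- Semicontinuity along a specialisation. -/
theorem fdim_le_fibreDimAt_of_specializes (f : X ⟶ Y) [LocallyOfFiniteType f] {x ξ : X} (h : ξ ⤳ x) :
    fdim f ξ ≤ FlatMor.fibreDimAt f x := by
  obtain ⟨d, hd⟩ := Groth.L07.OpenEquiv.exists_nat_fibreDimAt f x
  rw [hd]
  exact (fdim_le_fibreDimAt f ξ).trans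
    (h.mem_open (Groth.L07.FibreDim.isOpen_fibreDimAt_le f d) hd.le)

/-- A maximal point of its fibre: the local ring of the fibre has dimension zero. -/
theorem fibre_dim_zero (f : X ⟶ Y) [LocallyOfFiniteType f] (z : X)
    (hmax : ∀ z', f z' = f z → z' ⤳ z → z' = z) :
    ringKrullDim ((f.fiber (f z)).presheaf.stalk (f.asFiber z)) = 0 := by
  obtain ⟨a, b, ha, hb, hab⟩ := exists_fibreDimAt f z
  rw [← Groth.L07.OpenFibreDim.fdim_eq_fibreDimAt f z hmax, ha] at hab
  have h : a = a + b := by exact_mod_cast hab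
  rw [hb, show b = 0 by omega, Nat.cast_zero]

/-- Points of a fibre whose closure has the full local dimension are maximal. -/
theorem maximal_of_fdim (f : X ⟶ Y) [LocallyOfFiniteType f] (z : X)
    (hd : fdim f z = FlatMor.fibreDimAt f z) : ∀ z', f z' = f z → z' ⤳ z → z' = z := by
  intro z' hfz hz
  obtain ⟨a, b, ha, hb, hab⟩ := exists_fibreDimAt f z
  rw [← hd, ha] at hab
  obtain rfl : b = 0 := by
    have h : a = a + b := by exact_mod_cast hab
    omega
  haveI : LocallyOfFiniteType (f.fiberToSpecResidueField (f z)) :=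
    MorphismProperty.pullback_snd _ _ inferInstance
  haveI : IsLocallyNoetherian (f.fiber (f z)) :=
    LocallyOfFiniteType.isLocallyNoetherian (f.fiberToSpecResidueField (f z))
  obtain ⟨c, hc⟩ : z' ∈ Set.range (f.fiberι (f z)) := by rw [f.range_fiberι]; exact hfz
  have hsp : c ⤳ f.asFiber z := (f.fiberι (f z)).isEmbedding.isInducing.specializes_iff.mp (by
    rw [hc, f.fiberι_asFiber]; exact hz)
  have hmax := maximal_of_dim_locQuot (f.asFiber z) (f.asFiber z) (specializes_refl _) (by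
    obtain ⟨D, hD, -⟩ := LocQuotDim.exists_dim_locQuot (f.asFiber z) (f.asFiber z) (specializes_refl _)
    have hle := dim_locQuot_le (f.asFiber z) (f.asFiber z) (specializes_refl _)
    rw [hb, hD] at hle
    obtain rfl : D = 0 := by
      have : D ≤ 0 := by exact_mod_cast hle
      omega
    rw [hD, hb])
  rw [← hc, hmax c hsp, f.fiberι_asFiber]

/-- The local ring of an irreducible closed subscheme. -/
theorem dim_stalk_closedImmersion {Z : Scheme.{u}} (i : Z ⟶ X) [IsClosedImmersion i] [IrreducibleSpace Z]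
    [IsLocallyNoetherian Z] (z : Z) (h : i (genericPoint Z) ⤳ i z) :
    ringKrullDim (Z.presheaf.stalk z) = ringKrullDim (Cyc.LocQuot (i z) (i (genericPoint Z)) h) := by
  have hζ : genericPoint Z ⤳ z := (genericPoint_spec Z).specializes trivial
  rw [← dim_locQuot_genericPoint z hζ]
  set ζ := genericPoint Z
  have hsq : ∀ a, Cyc.specMap z ζ hζ ((i.stalkMap z).hom a) =
      i.residueFieldMap ζ (Cyc.specMap (i z) (i ζ) h a) := fun a =>
    (DimFormula.specMap_residueFieldMap i hζ a).symm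
  have hker : RingHom.ker (Cyc.specMap (i z) (i ζ) h) =
      (RingHom.ker (Cyc.specMap z ζ hζ)).comap (i.stalkMap z).hom := by
    ext a
    rw [Ideal.mem_comap, RingHom.mem_ker, RingHom.mem_ker, hsq]
    exact (map_eq_zero_iff _ (RingHom.injective (i.residueFieldMap ζ).hom)).symm
  let φ : Cyc.LocQuot (i z) (i ζ) h →+* Cyc.LocQuot z ζ hζ :=
    Ideal.quotientMap _ (i.stalkMap z).hom hker.le
  have hinj : Function.Injective φ := Ideal.quotientMap_injective' hker.ge
  have hsurj : Function.Surjective φ := Ideal.quotientMap_surjective (i.stalkMap_surjective z)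
  exact (ringKrullDim_eq_of_ringEquiv (RingEquiv.ofBijective φ ⟨hinj, hsurj⟩)).symm

/-- The local dimension of the trace of a closed subscheme on a fibre. -/
theorem localDim_eq_fibreDimAt_comp {Z : Scheme.{u}} (i : Z ⟶ X) [IsClosedImmersion i] (f : X ⟶ Y)
    (w : Z) (S : Set X) (hS : Set.range i = S) (x : X) (hw : i w = x) (hx : x ∈ S ∩ f.base ⁻¹' {f.base x}) :
    FlatMor.localDim ↥(S ∩ f.base ⁻¹' {f.base x}) ⟨x, hx⟩ = FlatMor.fibreDimAt (i ≫ f) w := by
  subst hw
  have key : ∀ U : X.Opens, topologicalKrullDim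
      ↥((Subtype.val ⁻¹' (U : Set X)) : Set ↥(S ∩ f.base ⁻¹' {f.base (i w)})) =
      topologicalKrullDim ↥((i ⁻¹ᵁ U : Set Z) ∩ (i ≫ f).base ⁻¹' {(i ≫ f).base w}) := fun U => by
    refine (SchemeDim.topologicalKrullDim_eq_of_isEmbedding
      (IsEmbedding.subtypeVal.comp IsEmbedding.subtypeVal)
      (S := (U : Set X) ∩ (S ∩ f.base ⁻¹' {f.base (i w)}))
      (by rw [Set.range_comp, Subtype.range_coe, Subtype.image_preimage_coe, Set.inter_comm])).symm.trans ?_
    refine SchemeDim.topologicalKrullDim_eq_of_isEmbedding (i.isEmbedding.comp IsEmbedding.subtypeVal) ?_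
    rw [Set.range_comp, Subtype.range_coe]
    ext v
    constructor
    · rintro ⟨u, ⟨huU, huy⟩, rfl⟩
      refine ⟨huU, hS ▸ ⟨u, rfl⟩, ?_⟩
      simpa using huy
    · rintro ⟨hvU, hvS, hvy⟩
      rw [← hS] at hvS
      obtain ⟨u, rfl⟩ := hvS
      exact ⟨u, ⟨hvU, by simpa using hvy⟩, rfl⟩
  apply le_antisymm
  · obtain ⟨U', hwU', hU'⟩ := (Groth.L07.FibreDim.fibreDimAt_le_iff (i ≫ f) w _).mp le_rfl
    obtain ⟨O, hO, hOU⟩ := i.isEmbedding.isInducing.isOpen_iff.mp U'.2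
    have hwO : i w ∈ O := by rw [← Set.mem_preimage, hOU]; exact hwU'
    refine (iInf_le _ (⟨⟨_, hO.preimage continuous_subtype_val⟩, hwO⟩ :
      {V : Opens ↥(S ∩ f.base ⁻¹' {f.base (i w)}) // ⟨i w, hx⟩ ∈ V})).trans ?_
    refine (key ⟨O, hO⟩).le.trans (le_of_eq_of_le ?_ hU')
    show topologicalKrullDim ↥((⇑i ⁻¹' O : Set Z) ∩ _) = _
    rw [hOU]; rfl
  · refine le_iInf ?_
    rintro ⟨⟨V, hV⟩, hwV⟩
    obtain ⟨O, hO, rfl⟩ := isOpen_induced_iff.mp hV
    exact (Groth.L07.FibreDim.fibreDimAt_le_iff (i ≫ f) w _).mpr ⟨i ⁻¹ᵁ ⟨O, hO⟩, hwV, (key ⟨O, hO⟩).ge⟩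

/-- The local fibre dimension of a closed subscheme. -/
theorem fibreDimAt_comp_le {Z : Scheme.{u}} (i : Z ⟶ X) [IsClosedImmersion i] (f : X ⟶ Y) (w : Z) :
    FlatMor.fibreDimAt (i ≫ f) w ≤ FlatMor.fibreDimAt f (i w) := by
  obtain ⟨U, hU, hdim⟩ := (Groth.L07.FibreDim.fibreDimAt_le_iff f (i w) _).mp le_rfl
  refine (Groth.L07.FibreDim.fibreDimAt_le_iff (i ≫ f) w _).mpr ⟨i ⁻¹ᵁ U, hU, le_trans ?_ hdim⟩
  refine le_of_eq_of_le (SchemeDim.topologicalKrullDim_eq_of_isEmbedding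
    (i.isEmbedding.comp IsEmbedding.subtypeVal) rfl).symm (SchemeDim.topologicalKrullDim_mono ?_)
  rw [Set.range_comp, Subtype.range_coe]
  rintro _ ⟨v, ⟨hv, hvy⟩, rfl⟩
  exact ⟨hv, by simpa using hvy⟩

/-- Equidimensionality at a point from the components through it. -/
theorem isEquidimAt_of_components [IsLocallyNoetherian Y] (f : X ⟶ Y) [LocallyOfFiniteType f] (x : X)
    (e : ℕ) (hdim : FlatMor.fibreDimAt f x ≤ (e : WithBot ℕ∞))
    (hmax : ∀ ξ, ξ ⤳ x → (∀ q, q ⤳ ξ → q = ξ) →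
      (∀ η, η ⤳ f ξ → η = f ξ) ∧ (e : WithBot ℕ∞) ≤ fdim f ξ) :
    EGA43.IsEquidimAt f x := by
  haveI : IsLocallyNoetherian X := LocallyOfFiniteType.isLocallyNoetherian f
  obtain ⟨U1, hxU1, hU1⟩ := (Groth.L07.FibreDim.fibreDimAt_le_iff f x (e : WithBot ℕ∞)).mp hdim
  obtain ⟨D, g, hxD, -, hg, hqf⟩ := exists_qf_affineSpace f U1 x hxU1 e hU1
  haveI := hqf
  let pr := 𝔸(ULift.{u} (Fin e); Y) ↘ Y
  haveI : LocallyOfFiniteType (g ≫ pr) := hg ▸ inferInstance
  haveI : LocallyOfFiniteType g := locallyOfFiniteType_of_comp g pr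
  obtain ⟨V, hxV, hV⟩ := exists_nhd_maximal x
  let j := X.homOfLE (inf_le_left : D ⊓ V ≤ D)
  refine isEquidimAt_of_qf f x e (D ⊓ V) (j ≫ g) ⟨hxD, hxV⟩
    (by rw [Category.assoc, hg, Scheme.homOfLE_ι_assoc]) fun ζ hζ => ?_
  have hζX := (maximal_openImmersion_iff (D ⊓ V).ι ζ).mp hζ
  obtain ⟨hη, he⟩ := hmax _ (hV _ ζ.2.2 hζX) hζX
  have hjζ : D.ι (j ζ) = (D ⊓ V).ι ζ := by rw [← Scheme.Hom.comp_apply, Scheme.homOfLE_ι]
  rw [Scheme.Hom.comp_apply]
  have hpr : pr (g (j ζ)) = f ((D ⊓ V).ι ζ) := by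
    rw [← hjζ, ← Scheme.Hom.comp_apply, hg, Scheme.Hom.comp_apply]
  refine (affineSpace_maximal_iff _ _).mpr ⟨fun w hw => ?_, genericPoint_of_fdim _ _ ?_⟩
  · change w ⤳ pr (g (j ζ)) at hw
    show w = pr (g (j ζ))
    rw [hpr] at hw ⊢
    exact hη w hw
  · rw [← fdim_comp g pr (D.ι ≫ f) hg (j ζ), fdim_comp D.ι f (D.ι ≫ f) rfl (j ζ), hjζ]
    simpa using he

end Groth.L07.DimToolkit
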