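import Groth.Agent.L07.SyntMor
import Groth.Agent.L07.SyntField

/-! Syntomic schemes over a field. -/

namespace Groth.L07.SyntOverField

open CategoryTheory CategoryTheory.Limits AlgebraicGeometry IsLocalRing

set_option linter.style.haveILetI false
set_option maxSynthPendingDepth 3

universe u

/-- The map from the field to a stalk. -/
noncomputable def toStalk {k : Type u} [Field k] {X : Scheme.{u}} (p : X ⟶ Spec (CommRingCat.of k)) (x : X) :
    CommRingCat.of k ⟶ X.presheaf.stalk x :=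
  (Scheme.ΓSpecIso (CommRingCat.of k)).inv ≫ p.appLE ⊤ ⊤ le_top ≫ X.presheaf.germ ⊤ x trivial

theorem toStalk_eq {k : Type u} [Field k] {X : Scheme.{u}} (p : X ⟶ Spec (CommRingCat.of k)) (x : X)
    (W : X.Opens) (hx : x ∈ W) :
    toStalk p x = (Scheme.ΓSpecIso (CommRingCat.of k)).inv ≫ p.appLE ⊤ W le_top ≫ X.presheaf.germ W x hx := by
  rw [toStalk, ← p.appLE_map (le_top : ⊤ ≤ p ⁻¹ᵁ ⊤) (homOfLE (le_top : W ≤ ⊤)).op, Category.assoc,
    X.presheaf.germ_res]

theorem essFiniteType_stalk {k : Type u} [Field k] {X : Scheme.{u}} (p : X ⟶ Spec (CommRingCat.of k))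
    [LocallyOfFiniteType p] (x : X) :
    letI := (toStalk p x).hom.toAlgebra
    Algebra.EssFiniteType k (X.presheaf.stalk x) := by
  obtain ⟨_, ⟨W, hW, rfl⟩, hxW, -⟩ := X.isBasis_affineOpens.exists_subset_of_mem_open
    (Set.mem_univ x) isOpen_univ
  let φ : k →+* Γ(X, W) := ((Scheme.ΓSpecIso (CommRingCat.of k)).inv ≫ p.appLE ⊤ W le_top).hom
  have hφ : φ.FiniteType := RingHom.finiteType_respectsIso.2 _
    (Scheme.ΓSpecIso (CommRingCat.of k)).symm.commRingCatIsoToRingEquiv
    (LocallyOfFiniteType.finiteType_appLE p (isAffineOpen_top _) hW le_top)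
  letI := φ.toAlgebra
  letI := (toStalk p x).hom.toAlgebra
  haveI : Algebra.FiniteType k Γ(X, W) := hφ
  letI := X.presheaf.algebra_section_stalk ⟨x, hxW⟩
  haveI := hW.isLocalization_stalk ⟨x, hxW⟩
  haveI : IsScalarTower k Γ(X, W) (X.presheaf.stalk x) := IsScalarTower.of_algebraMap_eq' <| by
    show (toStalk p x).hom = (X.presheaf.germ W x hxW).hom.comp φ
    rw [toStalk_eq p x W hxW]
    rfl
  haveI : Algebra.EssFiniteType Γ(X, W) (X.presheaf.stalk x) :=
    .of_isLocalization _ (hW.primeIdealOf ⟨x, hxW⟩).asIdeal.primeCompl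
  exact .comp k Γ(X, W) _

theorem isCIOver_stalk_iff {k : Type u} [Field k] {X : Scheme.{u}} (p : X ⟶ Spec (CommRingCat.of k))
    [LocallyOfFiniteType p] (x : X) :
    letI := (toStalk p x).hom.toAlgebra
    Synt.IsCIOver k (X.presheaf.stalk x) ↔ Pi1.IsCompleteIntersection (X.presheaf.stalk x) := by
  letI := (toStalk p x).hom.toAlgebra
  haveI := essFiniteType_stalk p x
  exact Groth.L07.Synt.isCIOver_iff

theorem isCIOver_fiber_iff {X S : Scheme.{u}} (f : X ⟶ S) [LocallyOfFiniteType f] (x : X) :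
    letI : Algebra (S.residueField (f.base x)) ((f.fiber (f.base x)).presheaf.stalk (f.asFiber x)) :=
      (toStalk (k := S.residueField (f.base x)) (f.fiberToSpecResidueField (f.base x)) (f.asFiber x)).hom.toAlgebra
    Synt.IsCIOver (S.residueField (f.base x)) ((f.fiber (f.base x)).presheaf.stalk (f.asFiber x)) ↔
      Pi1.IsCompleteIntersection (CInt.fiberStalk f x) :=
  haveI : LocallyOfFiniteType (f.fiberToSpecResidueField (f.base x)) :=
    inferInstanceAs (LocallyOfFiniteType (pullback.snd _ _))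
  isCIOver_stalk_iff (k := S.residueField (f.base x)) (f.fiberToSpecResidueField (f.base x)) (f.asFiber x)

/-- Stalks over a field are their own fibre rings. -/
theorem isCI_fiberStalk_field {k : Type u} [Field k] {X : Scheme.{u}} (p : X ⟶ Spec (CommRingCat.of k))
    [LocallyOfFiniteType p] (x : X) :
    Pi1.IsCompleteIntersection (CInt.fiberStalk p x) ↔ Pi1.IsCompleteIntersection (X.presheaf.stalk x) := by
  haveI : IsLocallyNoetherian X := LocallyOfFiniteType.isLocallyNoetherian p
  haveI : IsLocallyNoetherian (p.fiber (p x)) := Groth.L07.CIBaseChange.isLocallyNoetherian_fiber p _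
  obtain ⟨e⟩ := Groth.L07.CIScheme.exists_fiberStalkEquiv p (p x) (p.asFiber x) x (p.fiberι_asFiber x)
  letI := (p.stalkMap x).hom.toAlgebra
  have hfield : IsField ((Spec (CommRingCat.of k)).presheaf.stalk (p x)) := by
    let q : PrimeSpectrum k := p x
    letI : Algebra k ((Spec (CommRingCat.of k)).presheaf.stalk (p x)) := StructureSheaf.stalkAlgebra k q
    haveI : IsLocalization q.asIdeal.primeCompl ((Spec (CommRingCat.of k)).presheaf.stalk (p x)) :=
      StructureSheaf.IsLocalization.to_stalk k q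
    haveI : IsLocalization q.asIdeal.primeCompl k :=
      IsLocalization.self (fun s hs => isUnit_iff_ne_zero.mpr fun h0 => hs (h0 ▸ q.asIdeal.zero_mem))
    exact MulEquiv.isField (Field.toIsField k) (IsLocalization.algEquiv q.asIdeal.primeCompl
      ((Spec (CommRingCat.of k)).presheaf.stalk (p x)) k).toRingEquiv.toMulEquiv
  have hmB : EGA4.mB ((Spec (CommRingCat.of k)).presheaf.stalk (p x)) (X.presheaf.stalk x) = ⊥ := by
    rw [EGA4.mB, (IsLocalRing.isField_iff_maximalIdeal_eq).mp hfield, Ideal.map_bot]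
  haveI := e.symm.isLocalRing
  haveI := isNoetherianRing_of_ringEquiv _ e.symm
  exact (Groth.L07.Avramov.isCompleteIntersection_congr e).symm.trans
    (Groth.L07.Avramov.isCompleteIntersection_congr ((Ideal.quotEquivOfEq hmB).trans (RingEquiv.quotientBot _)))

theorem flat_over_field {k : Type u} [Field k] {X : Scheme.{u}} (p : X ⟶ Spec (CommRingCat.of k)) : Flat p := by
  refine (HasRingHomProperty.iff_exists_appLE (P := @Flat) (Q := RingHom.Flat)
    (RingHom.Flat.stableUnderComposition.stableUnderCompositionWithLocalizationAway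
      RingHom.Flat.holdsForLocalizationAway).1).mpr fun x => ?_
  obtain ⟨_, ⟨W, hW, rfl⟩, hxW, -⟩ := X.isBasis_affineOpens.exists_subset_of_mem_open
    (Set.mem_univ x) isOpen_univ
  refine ⟨⟨⊤, isAffineOpen_top _⟩, ⟨W, hW⟩, hxW, le_top, ?_⟩
  let φ : k →+* Γ(X, W) := ((Scheme.ΓSpecIso (CommRingCat.of k)).inv ≫ p.appLE ⊤ W le_top).hom
  have hφ : φ.Flat := by
    letI := φ.toAlgebra
    exact (inferInstance : Module.Flat k Γ(X, W))
  have h2 := RingHom.Flat.respectsIso.2 φ (Scheme.ΓSpecIso (CommRingCat.of k)).commRingCatIsoToRingEquiv hφ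
  have h3 : φ.comp (Scheme.ΓSpecIso (CommRingCat.of k)).commRingCatIsoToRingEquiv.toRingHom = (p.appLE ⊤ W le_top).hom := by
    ext z
    exact congrArg (p.appLE ⊤ W le_top) ((Scheme.ΓSpecIso (CommRingCat.of k)).hom_inv_id_apply z)
  exact h3 ▸ h2

/-- The three descriptions of syntomic schemes over a field. -/
theorem tfae (k : Type u) [Field k] (X : Scheme.{u}) (p : X ⟶ Spec (CommRingCat.of k)) [LocallyOfFiniteType p] :
    [Synt.IsSyntomicMor p,
      ∀ x : ↑X, ∃ U : X.affineOpens, x ∈ U.1 ∧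
        letI := ((Scheme.ΓSpecIso (CommRingCat.of k)).inv ≫ p.appLE ⊤ U.1 le_top).hom.toAlgebra
        Synt.IsGlobalCI k Γ(X, U.1),
      ∀ x : ↑X,
        letI := ((Scheme.ΓSpecIso (CommRingCat.of k)).inv ≫ p.appLE ⊤ ⊤ le_top ≫ X.presheaf.germ ⊤ x trivial).hom.toAlgebra
        Synt.IsCIOver k (X.presheaf.stalk x)].TFAE := by
  tfae_have 1 → 3 := fun h x =>
    (isCIOver_stalk_iff p x).mpr ((isCI_fiberStalk_field p x).mp (((Groth.L07.SyntScheme.isSyntomicMor_iff p).mp h).2.2 x))
  tfae_have 3 → 1 := fun h => (Groth.L07.SyntScheme.isSyntomicMor_iff p).mpr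
    ⟨flat_over_field p, inferInstance, fun x => (isCI_fiberStalk_field p x).mpr ((isCIOver_stalk_iff p x).mp (h x))⟩
  tfae_have 2 → 3 := by
    intro h x
    obtain ⟨⟨W, hW⟩, hxW, hci⟩ := h x
    letI := ((Scheme.ΓSpecIso (CommRingCat.of k)).inv ≫ p.appLE ⊤ W le_top).hom.toAlgebra
    letI := X.presheaf.algebra_section_stalk ⟨x, hxW⟩
    haveI := IsAffineOpen.isLocalization_stalk hW ⟨x, hxW⟩
    haveI : IsLocallyNoetherian X := LocallyOfFiniteType.isLocallyNoetherian p
    haveI : IsNoetherianRing Γ(X, W) := IsLocallyNoetherian.component_noetherian ⟨W, hW⟩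
    refine (isCIOver_stalk_iff p x).mpr ((Groth.L07.Avramov.isCompleteIntersection_congr
      (IsLocalization.algEquiv (IsAffineOpen.primeIdealOf hW ⟨x, hxW⟩).asIdeal.primeCompl
        (Localization.AtPrime (IsAffineOpen.primeIdealOf hW ⟨x, hxW⟩).asIdeal) _).toRingEquiv).mp
      (Groth.L07.Synt.isCI_of_isGlobalCI hci _))
  tfae_have 3 → 2 := by
    intro h x
    obtain ⟨_, ⟨W, hW, rfl⟩, hxW, -⟩ := X.isBasis_affineOpens.exists_subset_of_mem_open
      (Set.mem_univ x) isOpen_univ
    let φ : k →+* Γ(X, W) := ((Scheme.ΓSpecIso (CommRingCat.of k)).inv ≫ p.appLE ⊤ W le_top).hom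
    have hφ : φ.FiniteType := RingHom.finiteType_respectsIso.2 _
      (Scheme.ΓSpecIso (CommRingCat.of k)).symm.commRingCatIsoToRingEquiv
      (LocallyOfFiniteType.finiteType_appLE p (isAffineOpen_top _) hW le_top)
    letI := φ.toAlgebra
    haveI : Algebra.FiniteType k Γ(X, W) := hφ
    haveI : IsNoetherianRing Γ(X, W) := Algebra.FiniteType.isNoetherianRing k _
    haveI : IsLocallyNoetherian X := LocallyOfFiniteType.isLocallyNoetherian p
    letI := X.presheaf.algebra_section_stalk ⟨x, hxW⟩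
    haveI := hW.isLocalization_stalk ⟨x, hxW⟩
    let P := hW.primeIdealOf ⟨x, hxW⟩
    have hci : Pi1.IsCompleteIntersection (Localization.AtPrime P.asIdeal) :=
      (Groth.L07.Avramov.isCompleteIntersection_congr
        (IsLocalization.algEquiv P.asIdeal.primeCompl (Localization.AtPrime P.asIdeal)
          (X.presheaf.stalk x)).toRingEquiv).mpr ((isCIOver_stalk_iff p x).mp (h x))
    obtain ⟨g, hg, hgci⟩ := Groth.L07.Synt.exists_globalCI_away (k := k) P.asIdeal hci
    refine ⟨⟨X.basicOpen g, hW.basicOpen g⟩, ?_, ?_⟩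
    · have hmem : P ∈ PrimeSpectrum.basicOpen g := hg
      rw [← IsAffineOpen.fromSpec_preimage_basicOpen hW g] at hmem
      have : hW.fromSpec P ∈ X.basicOpen g := hmem
      rwa [hW.fromSpec_primeIdealOf] at this
    · letI := ((Scheme.ΓSpecIso (CommRingCat.of k)).inv ≫ p.appLE ⊤ (X.basicOpen g) le_top).hom.toAlgebra
      haveI := hW.isLocalization_basicOpen g
      haveI : IsScalarTower k Γ(X, W) Γ(X, X.basicOpen g) := IsScalarTower.of_algebraMap_eq' <| by
        show ((Scheme.ΓSpecIso (CommRingCat.of k)).inv ≫ p.appLE ⊤ (X.basicOpen g) le_top).hom =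
          (X.presheaf.map _).hom.comp ((Scheme.ΓSpecIso (CommRingCat.of k)).inv ≫ p.appLE ⊤ W le_top).hom
        rw [← CommRingCat.hom_comp, Category.assoc, p.appLE_map (le_top : W ≤ p ⁻¹ᵁ ⊤) (homOfLE (X.basicOpen_le g)).op]
      exact Groth.L07.Synt.isGlobalCI_of_algEquiv
        ((IsLocalization.algEquiv (Submonoid.powers g) (Localization.Away g) Γ(X, X.basicOpen g)).restrictScalars k) hgci
  tfae_finish

end Groth.L07.SyntOverField
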