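import Groth.Agent.L07.SectionCompNhd
import Mathlib.AlgebraicGeometry.Morphisms.Flat
import Mathlib.AlgebraicGeometry.ResidueField
import Mathlib.RingTheory.Flat.FaithfullyFlat.Algebra

/-!
Geometric reducedness of fibres at points is invariant under base change, schemes.
-/

universe u

open CategoryTheory CategoryTheory.Limits AlgebraicGeometry

namespace Groth.L07.SectionComp

set_option autoImplicit false
set_option linter.style.haveILetI false
set_option maxSynthPendingDepth 3
set_option backward.isDefEq.respectTransparency.types false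
set_option backward.isDefEq.respectTransparency false

variable {X Y X' Y' : Scheme.{u}} {f : X ⟶ Y} {f' : X' ⟶ Y'} {p : X' ⟶ X} {t : Y' ⟶ Y}

theorem isReduced_stalk_of_flat_map {Z Z' : Scheme.{u}} (q : Z' ⟶ Z) [Flat q] (m : Z')
    (h : _root_.IsReduced (Z'.presheaf.stalk m)) : _root_.IsReduced (Z.presheaf.stalk (q m)) := by
  letI := (q.stalkMap m).hom.toAlgebra
  haveI : Module.Flat (Z.presheaf.stalk (q m)) (Z'.presheaf.stalk m) := Flat.stalkMap q m
  haveI : IsLocalHom (algebraMap (Z.presheaf.stalk (q m)) (Z'.presheaf.stalk m)) :=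
    inferInstanceAs (IsLocalHom (q.stalkMap m).hom)
  haveI := Module.FaithfullyFlat.of_flat_of_isLocalHom (A := Z.presheaf.stalk (q m)) (B := Z'.presheaf.stalk m)
  exact isReduced_of_injective (algebraMap (Z.presheaf.stalk (q m)) (Z'.presheaf.stalk m))
    (FaithfulSMul.algebraMap_injective _ _)

/-- Geometric reducedness at a point of a base change of a morphism descends to its image. -/
theorem geomRed_descend {k k' : Type u} [Field k] [Field k'] [Algebra k k'] {Z Z' : Scheme.{u}}
    (π : Z ⟶ Spec (CommRingCat.of k)) (π' : Z' ⟶ Spec (CommRingCat.of k')) (q : Z' ⟶ Z)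
    (H : IsPullback q π' π (Spec.map (CommRingCat.ofHom (algebraMap k k')))) (a : Z')
    (h : FBase.IsGeomReducedAt π' a) : FBase.IsGeomReducedAt π (q a) := by
  intro K _ _ z hz
  obtain ⟨n, hn₁, hn₂⟩ := Scheme.Pullback.exists_preimage_pullback (f := FBase.bcπ π K) (g := q) z a hz
  let P := pullback (FBase.bcπ π K) q
  let M : Type u := P.residueField n
  obtain ⟨φK, hφK⟩ := Spec.map_surjective (P.fromSpecResidueField n ≫ pullback.fst (FBase.bcπ π K) q ≫ FBase.bcStr π K)
  obtain ⟨φ', hφ'⟩ := Spec.map_surjective (P.fromSpecResidueField n ≫ pullback.snd (FBase.bcπ π K) q ≫ π')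
  letI : Algebra K M := φK.hom.toAlgebra
  letI : Algebra k' M := φ'.hom.toAlgebra
  have hw : FBase.bcπ π K ≫ π = FBase.bcStr π K ≫ Spec.map (CommRingCat.ofHom (algebraMap k K)) := pullback.condition
  have hk : Spec.map (CommRingCat.ofHom (algebraMap k' M)) ≫ Spec.map (CommRingCat.ofHom (algebraMap k k')) =
      Spec.map (CommRingCat.ofHom (algebraMap K M)) ≫ Spec.map (CommRingCat.ofHom (algebraMap k K)) := by
    show Spec.map φ' ≫ _ = Spec.map φK ≫ _
    rw [hφK, hφ']
    simp only [Category.assoc]
    rw [← hw, pullback.condition_assoc, H.w]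
  let sK : Spec (CommRingCat.of M) ⟶ Spec (CommRingCat.of K) := Spec.map (CommRingCat.ofHom (algebraMap K M))
  let qM : FBase.bc π' M ⟶ FBase.bc π K :=
    pullback.lift (FBase.bcπ π' M ≫ q) (FBase.bcStr π' M ≫ sK) (by
      rw [Category.assoc, Category.assoc, H.w, ← hk, ← Category.assoc, ← Category.assoc (FBase.bcStr π' M)]
      show (pullback.fst _ _ ≫ π') ≫ _ = (pullback.snd _ _ ≫ _) ≫ _
      rw [pullback.condition])
  have hqM₁ : qM ≫ FBase.bcπ π K = FBase.bcπ π' M ≫ q := pullback.lift_fst _ _ _
  have hqM₂ : qM ≫ FBase.bcStr π K = FBase.bcStr π' M ≫ sK := pullback.lift_snd _ _ _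
  have hsq : IsPullback qM (FBase.bcStr π' M) (FBase.bcStr π K) sK := by
    refine IsPullback.of_right (h₁₂ := FBase.bcπ π K) (h₂₂ := Spec.map (CommRingCat.ofHom (algebraMap k K)))
      ?_ hqM₂ (IsPullback.of_hasPullback π (Spec.map (CommRingCat.ofHom (algebraMap k K))))
    rw [hqM₁, show sK ≫ _ = _ from hk.symm]
    exact (IsPullback.of_hasPullback π' (Spec.map (CommRingCat.ofHom (algebraMap k' M)))).paste_horiz H
  haveI : Flat sK := by
    rw [Flat.SpecMap_iff]
    exact RingHom.flat_algebraMap_iff.mpr (Module.Flat.of_free (R := K) (M := M))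
  haveI : Flat qM := MorphismProperty.of_isPullback hsq.flip ‹Flat sK›
  -- the point
  let c : Spec (CommRingCat.of M) := IsLocalRing.closedPoint M
  let σ : Spec (CommRingCat.of M) ⟶ FBase.bc π' M :=
    pullback.lift (P.fromSpecResidueField n ≫ pullback.snd (FBase.bcπ π K) q) (𝟙 _) (by
      rw [Category.id_comp, Category.assoc]; exact hφ'.symm)
  have hσ : σ ≫ qM = P.fromSpecResidueField n ≫ pullback.fst (FBase.bcπ π K) q := by
    apply pullback.hom_ext
    · show (σ ≫ qM) ≫ FBase.bcπ π K = (_ ≫ _) ≫ FBase.bcπ π K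
      rw [Category.assoc, hqM₁, ← Category.assoc]
      show (σ ≫ pullback.fst _ _) ≫ q = _
      rw [pullback.lift_fst, Category.assoc, ← pullback.condition, Category.assoc]
    · show (σ ≫ qM) ≫ FBase.bcStr π K = (_ ≫ _) ≫ FBase.bcStr π K
      rw [Category.assoc, hqM₂, ← Category.assoc]
      show (σ ≫ pullback.snd _ _) ≫ sK = _
      rw [pullback.lift_snd, Category.id_comp, Category.assoc]
      exact hφK
  have hn : P.fromSpecResidueField n c = n := Scheme.fromSpecResidueField_apply n c
  have hqz : qM (σ c) = z := by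
    rw [← Scheme.Hom.comp_apply, hσ, Scheme.Hom.comp_apply]
    exact (congrArg (pullback.fst (FBase.bcπ π K) q) hn).trans hn₁
  have hπ : FBase.bcπ π' M (σ c) = a := by
    rw [← Scheme.Hom.comp_apply, show σ ≫ FBase.bcπ π' M = _ from pullback.lift_fst _ _ _, Scheme.Hom.comp_apply]
    exact (congrArg (pullback.snd (FBase.bcπ π K) q) hn).trans hn₂
  have := isReduced_stalk_of_flat_map qM (σ c) (h M (σ c) hπ)
  rwa [hqz] at this

/-- Geometric reducedness at the image gives it at a point of a base change. -/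
theorem geomRed_ascend {k k' : Type u} [Field k] [Field k'] [Algebra k k'] {Z Z' : Scheme.{u}}
    (π : Z ⟶ Spec (CommRingCat.of k)) (π' : Z' ⟶ Spec (CommRingCat.of k')) (q : Z' ⟶ Z)
    (H : IsPullback q π' π (Spec.map (CommRingCat.ofHom (algebraMap k k')))) (a : Z')
    (h : FBase.IsGeomReducedAt π (q a)) : FBase.IsGeomReducedAt π' a := by
  intro K _ _ z hz
  letI : Algebra k K := ((algebraMap k' K).comp (algebraMap k k')).toAlgebra
  have hk : Spec.map (CommRingCat.ofHom (algebraMap k' K)) ≫ Spec.map (CommRingCat.ofHom (algebraMap k k')) =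
      Spec.map (CommRingCat.ofHom (algebraMap k K)) := by
    rw [← Spec.map_comp]; rfl
  have hbig : IsPullback (FBase.bcπ π' K ≫ q) (FBase.bcStr π' K) π (Spec.map (CommRingCat.ofHom (algebraMap k K))) := by
    rw [← hk]
    exact (IsPullback.of_hasPullback π' (Spec.map (CommRingCat.ofHom (algebraMap k' K)))).paste_horiz H
  let e : FBase.bc π' K ≅ FBase.bc π K := hbig.isoPullback
  haveI := h K (e.hom z) (by
    rw [← Scheme.Hom.comp_apply, show e.hom ≫ FBase.bcπ π K = _ from hbig.isoPullback_hom_fst, Scheme.Hom.comp_apply, hz])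
  exact isReduced_of_injective (asIso (e.hom.stalkMap z)).commRingCatIsoToRingEquiv.symm.toRingHom
    (RingEquiv.injective _)

/-- Geometric reducedness in the fibre at a point of a base change. -/
theorem isGeomReducedAt_iff_of_isPullback (sq : IsPullback p f' f t) (x : X') :
    FBase.IsGeomReducedAt (f'.fiberToSpecResidueField (f'.base x)) (f'.asFiber x) ↔
      FBase.IsGeomReducedAt (f.fiberToSpecResidueField (f.base (p x))) (f.asFiber (p x)) := by
  have hfx : f (p x) = t (f' x) := by rw [← Scheme.Hom.comp_apply, sq.w, Scheme.Hom.comp_apply]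
  let k : Type u := IsLocalRing.ResidueField (Y.presheaf.stalk (t (f' x)))
  let k' : Type u := IsLocalRing.ResidueField (Y'.presheaf.stalk (f' x))
  letI : Algebra k k' := (t.residueFieldMap (f' x)).hom.toAlgebra
  have H := isPullback_fiberToSpecResidueField_of_isPullback sq (f' x)
  let m : f'.fiber (f' x) ⟶ f.fiber (t (f' x)) :=
    pullback.map _ _ _ _ p (Spec.map (t.residueFieldMap (f' x))) t sq.w.symm (by simp)
  let π : f.fiber (t (f' x)) ⟶ Spec (CommRingCat.of k) := f.fiberToSpecResidueField (t (f' x))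
  have h0 : m ≫ f.fiberι (t (f' x)) = f'.fiberι (f' x) ≫ p := pullback.lift_fst _ _ _
  have hm : f.fiberι (t (f' x)) (m (f'.asFiber x)) = p x := by
    rw [← Scheme.Hom.comp_apply, h0, Scheme.Hom.comp_apply, f'.fiberι_asFiber]
  have key : ∀ (u : X) (y : Y) (_ : f u = y) (b : f.fiber y), f.fiberι y b = u →
      (FBase.IsGeomReducedAt (f.fiberToSpecResidueField y) b ↔
        FBase.IsGeomReducedAt (f.fiberToSpecResidueField (f.base u)) (f.asFiber u)) := by
    rintro u _ rfl b hb
    rw [show b = f.asFiber u from (f.fiberι _).isEmbedding.injective (hb.trans (f.fiberι_asFiber u).symm)]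
  rw [← key (p x) (t (f' x)) hfx (m (f'.asFiber x)) hm]
  let π' : f'.fiber (f' x) ⟶ Spec (CommRingCat.of k') := f'.fiberToSpecResidueField (f' x)
  exact ⟨geomRed_descend π π' m H (f'.asFiber x), geomRed_ascend π π' m H (f'.asFiber x)⟩

end Groth.L07.SectionComp
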