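import Groth.Agent.L07.SectionCompOpen

/-!
The locus where the dimension of the section components is constant and the fibre is geometrically reduced
(EGA IV 15.6.6).
-/

universe u

open CategoryTheory CategoryTheory.Limits AlgebraicGeometry Topology

namespace Groth.L07.SectionComp

set_option autoImplicit false
set_option linter.style.haveILetI false
set_option maxSynthPendingDepth 3
set_option backward.isDefEq.respectTransparency.types false
set_option backward.isDefEq.respectTransparency false

open Groth.L07.Equidim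

variable {X Y : Scheme.{u}} (f : X ⟶ Y) (g : Y ⟶ X)

/-- Near a geometrically reduced point of a section component of locally constant dimension the section
components fill an open. -/
theorem mem_nhds_of_dim_const [IsLocallyNoetherian Y] [LocallyOfFiniteType f] (hg : g ≫ f = 𝟙 Y)
    (hgi : ∀ (y : Y) (K : Type u) [Field K] [Algebra (IsLocalRing.ResidueField (Y.presheaf.stalk y)) K],
      IsIrreducible ((FBase.bcπ (f.fiberToSpecResidueField y) K ≫ f.fiberι y).base ⁻¹'
        connectedComponentIn (f.base ⁻¹' {y}) (g.base y)))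
    {x : X} (hx : x ∈ MoreMor.sectionComponents f g)
    (hc : ∀ z, z ⤳ f x → topologicalKrullDim ↥(connectedComponentIn (f.base ⁻¹' {z}) (g.base z)) =
      topologicalKrullDim ↥(connectedComponentIn (f.base ⁻¹' {f x}) (g.base (f x))))
    (hred : FBase.IsGeomReducedAt (f.fiberToSpecResidueField (f.base x)) (f.asFiber x)) :
    ∃ U : X.Opens, x ∈ U ∧ (∀ v : X, v ∈ U → FBase.IsGeomReducedAt (f.fiberToSpecResidueField (f.base v)) (f.asFiber v)) ∧
      MoreMor.sectionComponents f g ∈ 𝓝 x := by
  have hxc : x ∈ connectedComponentIn (f.base ⁻¹' {f x}) (g.base (f x)) := hx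
  obtain ⟨U, hxU, hopen, hU⟩ := Groth.L07.FlatGeomReduced.exists_univOpen_geomReduced_nhd f x (fun z hz _ => by
    have hzx : f.fiberι (f.base x) z ⤳ x := by
      have := (specializes_iff_mem_closure.mpr hz).map (f.fiberι (f.base x)).continuous
      rwa [f.fiberι_asFiber] at this
    exact isUnivOpenAt_of_dim_const f g hg hgi (f x) hc _
      ((mem_of_specializes f g hzx ((Set.ext_iff.mp (f.range_fiberι _) _).mp ⟨z, rfl⟩) rfl).mp hxc)) hred
  haveI := hopen
  refine ⟨U, hxU, hU, mem_nhds_sectionComponents f g hg fun x' hx' => ?_⟩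
  refine mem_of_generization g hg U hU hx hxU hx' ?_
  intro A _ _ _ t g' hg' hgp xT hxT hxTc
  let c : ↥(Spec (CommRingCat.of A)) := IsLocalRing.closedPoint A
  let η : ↥(Spec (CommRingCat.of A)) := (⟨⊥, Ideal.isPrime_bot⟩ : PrimeSpectrum A)
  have hηc : η ⤳ c := (PrimeSpectrum.le_iff_specializes (⟨⊥, Ideal.isPrime_bot⟩ : PrimeSpectrum A) c).mp bot_le
  have htc : t.base c = f x := by
    rw [← hxT, show c = (pullback.snd f t).base xT from hxTc.symm, ← Scheme.Hom.comp_apply,
      ← Scheme.Hom.comp_apply, pullback.condition]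
  have sq := IsPullback.of_hasPullback f t
  obtain ⟨hec, hic, hdc⟩ := baseChange_geom f g sq g' hg hg' hgp c (hgi _)
  obtain ⟨heη, hiη, hdη⟩ := baseChange_geom f g sq g' hg hg' hgp η (hgi _)
  have hxTC : xT ∈ connectedComponentIn ((pullback.snd f t).base ⁻¹' {c}) (g'.base c) := by
    rw [hec]
    refine ⟨?_, hxTc⟩
    show (pullback.fst f t).base xT ∈ connectedComponentIn (f.base ⁻¹' {t.base c}) (g.base (t.base c))
    rw [htc, hxT]; exact hxc
  obtain ⟨ζ, hfζ, hCe, hζC, -⟩ := exists_generic (pullback.snd f t) g' hiη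
  have hζg : ζ ⤳ g' η := specializes_iff_mem_closure.mpr (hCe ▸ mem_comp _ g' hg' η).1
  have hd : topologicalKrullDim ↥(connectedComponentIn ((pullback.snd f t).base ⁻¹' {c}) (g'.base c)) ≤
      fdim (pullback.snd f t) ζ := by
    have e : fdim (pullback.snd f t) ζ =
        topologicalKrullDim ↥(connectedComponentIn ((pullback.snd f t).base ⁻¹' {η}) (g'.base η)) := by
      rw [hCe, fdim, hfζ]
    rw [e, hdc, hdη, htc, hc (t η) (htc ▸ hηc.map t.continuous)]
  refine ⟨{xT}, isPreconnected_singleton, rfl, ?_, xT, rfl, ζ, hζC, specializes_iff_mem_closure.mpr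
    (subset_closure_of_dim_le (pullback.snd f t) g' hg' hηc hζg hic hd hxTC)⟩
  intro w hw
  rw [Set.mem_singleton_iff.mp hw]
  exact ⟨hxTC, show (pullback.fst f t).base xT ∈ U from hxT.symm ▸ hxU⟩

/-- The locus of constant dimension and geometrically reduced fibre in the section components is open. -/
theorem isOpen_dim_const_geomRed [IsLocallyNoetherian Y] [LocallyOfFiniteType f] (hg : g ≫ f = 𝟙 Y)
    (hgi : ∀ (y : Y) (K : Type u) [Field K] [Algebra (IsLocalRing.ResidueField (Y.presheaf.stalk y)) K],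
      IsIrreducible ((FBase.bcπ (f.fiberToSpecResidueField y) K ≫ f.fiberι y).base ⁻¹'
        connectedComponentIn (f.base ⁻¹' {y}) (g.base y))) :
    IsOpen {x : X | x ∈ MoreMor.sectionComponents f g ∧ (∃ V ∈ nhds (f.base x), ∀ z ∈ V, topologicalKrullDim ↥(connectedComponentIn (f.base ⁻¹' {z}) (g.base z)) = topologicalKrullDim ↥(connectedComponentIn (f.base ⁻¹' {(f.base x)}) (g.base (f.base x)))) ∧
      FBase.IsGeomReducedAt (f.fiberToSpecResidueField (f.base x)) (f.asFiber x)} := by
  refine isOpen_iff_mem_nhds.mpr ?_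
  rintro x ⟨hx, ⟨V, hV, hconst⟩, hred⟩
  obtain ⟨O, hOV, hO, hxO⟩ := mem_nhds_iff.mp hV
  obtain ⟨U, hxU, hU, hS⟩ := mem_nhds_of_dim_const f g hg hgi hx
    (fun z hz => hconst z (hOV (hz.mem_open hO hxO))) hred
  refine Filter.mem_of_superset (Filter.inter_mem (Filter.inter_mem hS (U.isOpen.mem_nhds hxU))
    ((hO.preimage f.continuous).mem_nhds hxO)) ?_
  rintro v ⟨⟨hvS, hvU⟩, hvO⟩
  exact ⟨hvS, ⟨O, hO.mem_nhds hvO, fun z hz => (hconst z (hOV hz)).trans (hconst _ (hOV hvO)).symm⟩, hU v hvU⟩

end Groth.L07.SectionComp
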