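import Groth.Agent.L07.SectionCompModel
import Groth.Agent.L07.SectionCompDimOpen
import Groth.Agent.L07.GeomRedPullback

/-!
Section components of constant dimension of finitely presented morphisms (EGA IV 15.6.6).
-/

universe u

open CategoryTheory CategoryTheory.Limits AlgebraicGeometry Topology

namespace Groth.L07.SectionComp

set_option autoImplicit false
set_option linter.style.haveILetI false
set_option maxSynthPendingDepth 3
set_option backward.isDefEq.respectTransparency.types false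
set_option backward.isDefEq.respectTransparency false

variable {X Y : Scheme.{u}} (f : X ⟶ Y) (g : Y ⟶ X)

/-- Over a neighbourhood of a point with constant dimension, a finitely presented morphism with geometrically
irreducible section components comes from such a morphism over a noetherian base. -/
theorem exists_nhd_model [LocallyOfFinitePresentation f] [QuasiCompact f] [QuasiSeparated f] (hg : g ≫ f = 𝟙 Y)
    (hgi : ∀ (y : Y) (K : Type u) [Field K] [Algebra (IsLocalRing.ResidueField (Y.presheaf.stalk y)) K],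
      IsIrreducible ((FBase.bcπ (f.fiberToSpecResidueField y) K ≫ f.fiberι y).base ⁻¹'
        connectedComponentIn (f.base ⁻¹' {y}) (g.base y)))
    (y : Y) (hconst : ∃ V ∈ nhds y, ∀ z ∈ V, topologicalKrullDim ↥(connectedComponentIn (f.base ⁻¹' {z}) (g.base z)) =
      topologicalKrullDim ↥(connectedComponentIn (f.base ⁻¹' {y}) (g.base y))) :
    ∃ (A : CommRingCat.{u}) (i : Spec A ⟶ Y) (_ : IsOpenImmersion i) (g' : Spec A ⟶ pullback f i)
      (A₁ : Subalgebra ℤ A) (_ : A₁.FG) (X₁ : Scheme.{u}) (f₁ : X₁ ⟶ Spec (CommRingCat.of ↥A₁))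
      (q : pullback f i ⟶ X₁) (g₁ : Spec (CommRingCat.of ↥A₁) ⟶ X₁),
      y ∈ Set.range i ∧ g' ≫ pullback.snd f i = 𝟙 _ ∧ g' ≫ pullback.fst f i = i ≫ g ∧
      LocallyOfFinitePresentation f₁ ∧ g₁ ≫ f₁ = 𝟙 _ ∧
      IsPullback q (pullback.snd f i) f₁ (Spec.map (CommRingCat.ofHom (algebraMap (↥A₁) A))) ∧
      g' ≫ q = Spec.map (CommRingCat.ofHom (algebraMap (↥A₁) A)) ≫ g₁ ∧
      (∀ z, GeomIrredAt f₁ g₁ z) ∧
      (∀ z z' : Spec (CommRingCat.of ↥A₁), topologicalKrullDim ↥(connectedComponentIn (f₁.base ⁻¹' {z}) (g₁.base z)) =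
        topologicalKrullDim ↥(connectedComponentIn (f₁.base ⁻¹' {z'}) (g₁.base z'))) ∧
      ∀ z ∈ Set.range i, topologicalKrullDim ↥(connectedComponentIn (f.base ⁻¹' {z}) (g.base z)) =
        topologicalKrullDim ↥(connectedComponentIn (f.base ⁻¹' {y}) (g.base y)) := by
  obtain ⟨V, hV, hc⟩ := hconst
  obtain ⟨O, hOV, hO, hyO⟩ := mem_nhds_iff.mp hV
  obtain ⟨U, hU, hyU, hUO⟩ := exists_isAffineOpen_mem_and_subset (X := Y) (x := y) (U := ⟨O, hO⟩) hyO
  let g' : Spec Γ(Y, U) ⟶ pullback f hU.fromSpec :=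
    pullback.lift (hU.fromSpec ≫ g) (𝟙 _) (by rw [Category.assoc, hg, Category.comp_id, Category.id_comp])
  have hg' : g' ≫ pullback.snd f hU.fromSpec = 𝟙 _ := pullback.lift_snd _ _ _
  have hgp : g' ≫ pullback.fst f hU.fromSpec = hU.fromSpec ≫ g := pullback.lift_fst _ _ _
  have hirr : ∀ y, IsIrreducible (connectedComponentIn (f.base ⁻¹' {y}) (g.base y)) := fun y =>
    isIrreducible_of_geom f g y (hgi y)
  have hr : ∀ z ∈ Set.range hU.fromSpec, topologicalKrullDim ↥(connectedComponentIn (f.base ⁻¹' {z}) (g.base z)) =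
      topologicalKrullDim ↥(connectedComponentIn (f.base ⁻¹' {y}) (g.base y)) := fun z hz => by
    rw [hU.range_fromSpec] at hz
    exact hc z (hOV (hUO hz))
  obtain ⟨A₁, hA₁, X₁, f₁, q, g₁, h1, -, hg₁, sq₁, hgq, hgood⟩ := exists_model_good (pullback.snd f hU.fromSpec) g' hg'
    (topologicalKrullDim ↥(connectedComponentIn (f.base ⁻¹' {y}) (g.base y)))
    (fun s => (geomIrredAt_baseChange_iff f g (IsPullback.of_hasPullback f hU.fromSpec) g' hg hg' hgp s).mpr
      ((geomIrredAt_iff f g _).mpr (hgi _)))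
    (fun s => by
      rw [Groth.L23.fibreDimAt_of_isPullback (IsPullback.of_hasPullback f hU.fromSpec),
        ← Scheme.Hom.comp_apply g' (pullback.fst f hU.fromSpec), hgp, Scheme.Hom.comp_apply,
        ← dim_eq_fibreDimAt_section f g hg (hirr _)]
      exact hr _ ⟨s, rfl⟩)
  refine ⟨Γ(Y, U), hU.fromSpec, inferInstance, g', A₁, hA₁, X₁, f₁, q, g₁, hU.range_fromSpec.symm ▸ hyU, hg', hgp,
    h1, hg₁, sq₁, hgq, fun z => (hgood z).1, fun z z' => ?_, hr⟩
  haveI := h1
  rw [dim_eq_fibreDimAt_section f₁ g₁ hg₁ (isIrreducible_of_geom f₁ g₁ z ((geomIrredAt_iff f₁ g₁ z).mp (hgood z).1)),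
    dim_eq_fibreDimAt_section f₁ g₁ hg₁ (isIrreducible_of_geom f₁ g₁ z' ((geomIrredAt_iff f₁ g₁ z').mp (hgood z').1)),
    (hgood z).2, (hgood z').2]

/-- The locus of constant dimension and geometrically reduced fibre is open, finite presentation case. -/
theorem isOpen_dim_const_geomRed_fp [LocallyOfFinitePresentation f] [QuasiCompact f] [QuasiSeparated f]
    (hg : g ≫ f = 𝟙 Y)
    (hgi : ∀ (y : Y) (K : Type u) [Field K] [Algebra (IsLocalRing.ResidueField (Y.presheaf.stalk y)) K],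
      IsIrreducible ((FBase.bcπ (f.fiberToSpecResidueField y) K ≫ f.fiberι y).base ⁻¹'
        connectedComponentIn (f.base ⁻¹' {y}) (g.base y))) :
    IsOpen {x : X | x ∈ MoreMor.sectionComponents f g ∧ (∃ V ∈ nhds (f.base x), ∀ z ∈ V, topologicalKrullDim ↥(connectedComponentIn (f.base ⁻¹' {z}) (g.base z)) = topologicalKrullDim ↥(connectedComponentIn (f.base ⁻¹' {(f.base x)}) (g.base (f.base x)))) ∧
      FBase.IsGeomReducedAt (f.fiberToSpecResidueField (f.base x)) (f.asFiber x)} := by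
  refine isOpen_iff_mem_nhds.mpr ?_
  rintro x ⟨hx, hconst, hred⟩
  obtain ⟨A, i, hi, g', A₁, hA₁, X₁, f₁, q, g₁, ⟨v, hv⟩, hg', hgp, h1, hg₁, sq₁, hgq, hgi₁, hd₁, hd⟩ :=
    exists_nhd_model f g hg hgi (f.base x) hconst
  haveI := h1
  haveI : Algebra.FiniteType ℤ A₁ := A₁.fg_iff_finiteType.mp hA₁
  haveI : IsNoetherianRing A₁ := Algebra.FiniteType.isNoetherianRing ℤ A₁
  let p := pullback.fst f i
  have sq := IsPullback.of_hasPullback f i
  have hW₁ := isOpen_dim_const_geomRed f₁ g₁ hg₁ (fun y => (geomIrredAt_iff f₁ g₁ y).mp (hgi₁ y))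
  obtain ⟨a, hap, -⟩ := Scheme.Pullback.exists_preimage_pullback (f := f) (g := i) x v hv.symm
  have hiff : ∀ b : (pullback f i : Scheme.{u}),
      (p b ∈ MoreMor.sectionComponents f g ∧ FBase.IsGeomReducedAt (f.fiberToSpecResidueField (f.base (p b))) (f.asFiber (p b))) ↔
      (q b ∈ MoreMor.sectionComponents f₁ g₁ ∧ FBase.IsGeomReducedAt (f₁.fiberToSpecResidueField (f₁.base (q b))) (f₁.asFiber (q b))) := fun b => by
    rw [← isGeomReducedAt_iff_of_isPullback sq b, ← isGeomReducedAt_iff_of_isPullback sq₁ b]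
    have h := Set.ext_iff.mp ((sectionComponents_baseChange f g sq g' hg hg' hgp).symm.trans
      (sectionComponents_baseChange f₁ g₁ sq₁ g' hg₁ hg' hgq)) b
    exact and_congr_left fun _ => h
  have hqa := (hiff a).mp (by rw [hap]; exact ⟨hx, hred⟩)
  let W₁ : Set X₁ := {x : X₁ | x ∈ MoreMor.sectionComponents f₁ g₁ ∧ (∃ V ∈ nhds (f₁.base x), ∀ z ∈ V, topologicalKrullDim ↥(connectedComponentIn (f₁.base ⁻¹' {z}) (g₁.base z)) = topologicalKrullDim ↥(connectedComponentIn (f₁.base ⁻¹' {(f₁.base x)}) (g₁.base (f₁.base x)))) ∧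
      FBase.IsGeomReducedAt (f₁.fiberToSpecResidueField (f₁.base x)) (f₁.asFiber x)}
  refine Filter.mem_of_superset
    (hap ▸ p.isOpenEmbedding.isOpenMap.image_mem_nhds ((hW₁.preimage q.continuous).mem_nhds
      (show q a ∈ W₁ from ⟨hqa.1, ⟨_, Filter.univ_mem, fun z _ => hd₁ z _⟩, hqa.2⟩))) ?_
  rintro _ ⟨b, hb, rfl⟩
  obtain ⟨h1b, h2b⟩ := (hiff b).mpr ⟨hb.1, hb.2.2⟩
  have hfb : f (p b) ∈ Set.range i := ⟨pullback.snd f i b, by rw [← Scheme.Hom.comp_apply, ← sq.w, Scheme.Hom.comp_apply]⟩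
  exact ⟨h1b, ⟨Set.range i, i.isOpenEmbedding.isOpen_range.mem_nhds hfb,
    fun z hz => (hd z hz).trans (hd _ hfb).symm⟩, h2b⟩

end Groth.L07.SectionComp
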