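import Groth.Agent.L07.RedBase
import Mathlib.AlgebraicGeometry.Morphisms.UniversallyOpen

/-!
A universally open neighbourhood with geometrically reduced fibres.
-/

universe u

open CategoryTheory CategoryTheory.Limits AlgebraicGeometry TensorProduct Topology

namespace Groth.L07.FlatGeomReduced

set_option autoImplicit false
set_option linter.style.haveILetI false
set_option maxSynthPendingDepth 3
set_option synthInstance.maxHeartbeats 400000

section Algebra

variable {R C : Type u} [CommRing R] [CommRing C] [Algebra R C]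

/-- Flatness of a localization from flatness at its points. -/
theorem flat_away_of_forall (f : C) (h : ∀ (P : Ideal C) [P.IsPrime], f ∉ P → Module.Flat R (Localization.AtPrime P)) :
    Module.Flat R (Localization.Away f) := by
  refine Module.flat_of_isLocalized_maximal (Localization.Away f) (Localization.Away f)
    (fun P hP => LocalizedModule P.primeCompl (Localization.Away f))
    (fun P hP => LocalizedModule.mkLinearMap P.primeCompl (Localization.Away f)) fun P hPmax => ?_
  haveI : P.IsPrime := hPmax.isPrime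
  have hP : f ∉ P.comap (algebraMap C (Localization.Away f)) := fun hc =>
    hPmax.ne_top (Ideal.eq_top_of_isUnit_mem _ hc (IsLocalization.Away.algebraMap_isUnit f))
  have := h (P.comap (algebraMap C (Localization.Away f))) hP
  haveI : IsLocalization.AtPrime (Localization.AtPrime P) (P.comap (algebraMap C (Localization.Away f))) :=
    IsLocalization.isLocalization_isLocalization_atPrime_isLocalization (Submonoid.powers f) _ P
  refine (flat_localization_iff (R := R) P.primeCompl (Localization.AtPrime P)).mp ?_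
  exact Module.Flat.of_linearEquiv ((IsLocalization.algEquiv (P.comap (algebraMap C (Localization.Away f))).primeCompl
    (Localization.AtPrime P) (Localization.AtPrime (P.comap (algebraMap C (Localization.Away f))))).restrictScalars R).toLinearEquiv

variable [IsNoetherianRing R] [Algebra.FiniteType R C]

/-- A universally open neighbourhood with geometrically reduced fibres, in algebraic form. -/
theorem exists_univOpen_nhd (𝔮 : Ideal C) [𝔮.IsPrime] (hred : GeomRedAt R 𝔮)
    (hopen : ∀ (𝔷 : Ideal C) [𝔷.IsPrime], 𝔷 ≤ 𝔮 →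
      𝔷.comap (algebraMap R C) = 𝔮.comap (algebraMap R C) →
      (∀ q' : Ideal C, q'.IsPrime → q' ≤ 𝔷 → q'.comap (algebraMap R C) = 𝔷.comap (algebraMap R C) → q' = 𝔷) →
      ∀ (B : Type u) [CommRing B] [IsDomain B] [IsDiscreteValuationRing B] [Algebra R B]
        (P : PrimeSpectrum (C ⊗[R] B)), P.asIdeal.comap Algebra.TensorProduct.includeLeftRingHom = 𝔷 →
        P.asIdeal.comap (Algebra.TensorProduct.includeRight : B →ₐ[R] C ⊗[R] B).toRingHom = IsLocalRing.maximalIdeal B →
        EGA43.IsOpenAt (PrimeSpectrum.comap (Algebra.TensorProduct.includeRight : B →ₐ[R] C ⊗[R] B).toRingHom) P) :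
    ∃ f ∉ 𝔮, (∀ (𝔓 : Ideal C) [𝔓.IsPrime], f ∉ 𝔓 → GeomRedAt R 𝔓) ∧
      UniversallyOpen (Spec.map (CommRingCat.ofHom (algebraMap R (Localization.Away f)))) := by
  let R₁ := R ⧸ nilradical R
  let C₁ := R₁ ⊗[R] C
  let j : C →+* C₁ := (Algebra.TensorProduct.includeRight : C →ₐ[R] C₁).toRingHom
  have hnil : ∀ (𝔓 : Ideal C) [𝔓.IsPrime], nilradical R ≤ 𝔓.comap (algebraMap R C) := fun 𝔓 _ r hr =>
    nilradical_le_prime 𝔓 (mem_nilradical.mpr ((mem_nilradical.mp hr).map (algebraMap R C)))
  obtain ⟨𝔮', _, h𝔮'⟩ := exists_over_quot (nilradical R) 𝔮 (hnil 𝔮)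
  obtain ⟨hflat, hred'⟩ := flat_quot_nilradical 𝔮 hred hopen 𝔮' h𝔮'
  haveI := hflat
  haveI : Algebra.FinitePresentation R₁ C₁ := Algebra.FinitePresentation.of_finiteType.mp inferInstance
  obtain ⟨f', hf', hnhd⟩ := exists_flat_geomRed_nhd 𝔮' hred'
  obtain ⟨f, hjf : j f = f'⟩ := includeRight_quot_surjective (C := C) (nilradical R) f'
  subst hjf
  refine ⟨f, fun hf => hf' (h𝔮'.symm.le hf), fun 𝔓 _ hf => ?_, ?_⟩
  · obtain ⟨𝔓', _, h𝔓'⟩ := exists_over_quot (nilradical R) 𝔓 (hnil 𝔓)
    have h1 := geomRedAt_descend (R₀ := R) 𝔓' (hnhd 𝔓' fun hm => hf (h𝔓'.le hm)).2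
    intro L _ _ hL Q _ hQ
    exact h1 L (hL.trans (by rw [h𝔓'])) Q (hQ.trans h𝔓'.symm)
  · let D := Localization.Away (j f)
    let C' := Localization.Away f
    let θ : C' →+* D := IsLocalization.Away.map C' D j f
    have hθ : θ.comp (algebraMap C C') = (algebraMap C₁ D).comp j := by
      simp only [θ, IsLocalization.Away.map]; exact IsLocalization.map_comp _
    haveI : Module.Flat R₁ D := flat_away_of_forall (j f) fun P _ hP => (hnhd P hP).1
    haveI : Algebra.FinitePresentation C₁ D := IsLocalization.Away.finitePresentation (j f)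
    haveI : Algebra.FinitePresentation R₁ D := Algebra.FinitePresentation.trans R₁ C₁ D
    haveI : Flat (Spec.map (CommRingCat.ofHom (algebraMap R₁ D))) := by
      rw [HasRingHomProperty.Spec_iff (P := @Flat)]
      exact RingHom.flat_algebraMap_iff.mpr inferInstance
    haveI : LocallyOfFinitePresentation (Spec.map (CommRingCat.ofHom (algebraMap R₁ D))) := by
      rw [HasRingHomProperty.Spec_iff (P := @LocallyOfFinitePresentation)]
      exact RingHom.finitePresentation_algebraMap.mpr inferInstance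
    let q : Spec (CommRingCat.of R₁) ⟶ Spec (CommRingCat.of R) := Spec.map (CommRingCat.ofHom (algebraMap R R₁))
    haveI : IsClosedImmersion q := IsClosedImmersion.spec_of_surjective _ Ideal.Quotient.mk_surjective
    have hsur : ∀ x : PrimeSpectrum R, x ∈ Set.range (PrimeSpectrum.comap (Ideal.Quotient.mk (nilradical R))) := by
      intro x
      rw [_root_.range_comap_of_surjective _ _ Ideal.Quotient.mk_surjective, Ideal.mk_ker, PrimeSpectrum.mem_zeroLocus]
      exact nilradical_le_prime x.asIdeal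
    haveI : Surjective q := ⟨fun x => hsur x⟩
    haveI : UniversallyOpen q := Groth.L20.Thick.universallyOpen_of_surjective_closedImmersion q
    have hcomp : Spec.map (CommRingCat.ofHom θ) ≫ Spec.map (CommRingCat.ofHom (algebraMap R C')) =
        Spec.map (CommRingCat.ofHom (algebraMap R₁ D)) ≫ q := by
      rw [← Spec.map_comp, ← Spec.map_comp]
      refine congrArg Spec.map (CommRingCat.hom_ext (RingHom.ext fun r => ?_))
      show θ (algebraMap R C' r) = algebraMap R₁ D (algebraMap R R₁ r)
      rw [IsScalarTower.algebraMap_apply R C C', ← RingHom.comp_apply, hθ, ← IsScalarTower.algebraMap_apply R R₁ D,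
        IsScalarTower.algebraMap_apply R C₁ D]
      exact congrArg (algebraMap C₁ D) ((Algebra.TensorProduct.includeRight : C →ₐ[R] C₁).commutes r)
    haveI : UniversallyOpen (Spec.map (CommRingCat.ofHom θ) ≫ Spec.map (CommRingCat.ofHom (algebraMap R C'))) := by
      rw [hcomp]; infer_instance
    haveI : Surjective (Spec.map (CommRingCat.ofHom θ)) := ⟨fun P => by
      have hf : f ∉ P.asIdeal.comap (algebraMap C C') := fun hm =>
        P.isPrime.ne_top (Ideal.eq_top_of_isUnit_mem _ hm (IsLocalization.Away.algebraMap_isUnit f))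
      haveI := P.isPrime
      haveI := Ideal.IsPrime.comap (algebraMap C C') (hK := P.isPrime)
      obtain ⟨𝔓', _, h𝔓'⟩ := exists_over_quot (nilradical R) _ (hnil (P.asIdeal.comap (algebraMap C C')))
      have hjf : j f ∉ 𝔓' := fun hm => hf (h𝔓'.le hm)
      have hdisj := (Ideal.disjoint_powers_iff_notMem_of_isPrime (I := 𝔓') (j f)).mpr hjf
      haveI : (𝔓'.map (algebraMap C₁ D)).IsPrime :=
        IsLocalization.isPrime_of_isPrime_disjoint (Submonoid.powers (j f)) D 𝔓' inferInstance hdisj
      refine ⟨⟨𝔓'.map (algebraMap C₁ D), inferInstance⟩, PrimeSpectrum.localization_comap_injective C' (Submonoid.powers f)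
        (PrimeSpectrum.ext ?_)⟩
      show ((𝔓'.map (algebraMap C₁ D)).comap θ).comap (algebraMap C C') = P.asIdeal.comap (algebraMap C C')
      rw [Ideal.comap_comap, hθ, ← Ideal.comap_comap]
      show ((𝔓'.map (algebraMap C₁ D)).under C₁).comap j = _
      rw [IsLocalization.under_map_of_isPrime_disjoint (Submonoid.powers (j f)) D inferInstance hdisj]
      exact h𝔓'⟩
    exact Groth.L20.Thick.universallyOpen_of_comp_surjective (Spec.map (CommRingCat.ofHom θ)) _

end Algebra

set_option backward.isDefEq.respectTransparency.types false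
set_option backward.isDefEq.respectTransparency false

/-- A universally open neighbourhood with geometrically reduced fibres. -/
theorem exists_univOpen_geomReduced_nhd {X Y : Scheme.{u}} [IsLocallyNoetherian Y] (f : X ⟶ Y)
    [LocallyOfFiniteType f] (x : X)
    (hopen : ∀ z : ↥(f.fiber (f.base x)), f.asFiber x ∈ closure {z} →
      (∀ z' : ↥(f.fiber (f.base x)), z ∈ closure {z'} → z' = z) →
      EGA43.IsUnivOpenAt f ((f.fiberι (f.base x)).base z))
    (hred : FBase.IsGeomReducedAt (f.fiberToSpecResidueField (f.base x)) (f.asFiber x)) :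
    ∃ U : X.Opens, x ∈ U ∧ UniversallyOpen (U.ι ≫ f) ∧
      ∀ x' : X, x' ∈ U → FBase.IsGeomReducedAt (f.fiberToSpecResidueField (f.base x')) (f.asFiber x') := by
  obtain ⟨V, hV, hyV, -⟩ := exists_isAffineOpen_mem_and_subset (X := Y) (x := f x) (U := ⊤) trivial
  obtain ⟨W, hW, hxW, e⟩ := exists_isAffineOpen_mem_and_subset (X := X) (x := x) (U := f ⁻¹ᵁ V) hyV
  replace e : W ≤ f ⁻¹ᵁ V := e
  haveI : IsNoetherianRing Γ(Y, V) := IsLocallyNoetherian.component_noetherian ⟨V, hV⟩
  letI := (f.appLE V W e).hom.toAlgebra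
  have halg : algebraMap Γ(Y, V) Γ(X, W) = (f.appLE V W e).hom := rfl
  haveI : Algebra.FiniteType Γ(Y, V) Γ(X, W) := RingHom.finiteType_algebraMap.mp (f.finiteType_appLE hV hW e)
  obtain ⟨g, hg, hgred, hguo⟩ := exists_univOpen_nhd (hW.primeIdealOf ⟨x, hxW⟩).asIdeal
    (geomRedAt f x hV hW e hxW halg hred)
    fun 𝔷 _ hle h𝔷 hgen B _ _ _ _ P hP _ => isOpenAt_chart f x hV hW e hxW halg hopen 𝔷 hle h𝔷 hgen B P hP
  have key : ∀ (z : X) (hz : z ∈ W), z ∈ X.basicOpen g ↔ g ∉ (hW.primeIdealOf ⟨z, hz⟩).asIdeal := by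
    intro z hz
    have h1 := hW.fromSpec_preimage_basicOpen g
    have h2 : hW.primeIdealOf ⟨z, hz⟩ ∈ hW.fromSpec ⁻¹ᵁ X.basicOpen g ↔
        hW.primeIdealOf ⟨z, hz⟩ ∈ PrimeSpectrum.basicOpen g := SetLike.ext_iff.mp h1 _
    change hW.fromSpec (hW.primeIdealOf ⟨z, hz⟩) ∈ X.basicOpen g ↔ _ at h2
    rw [hW.fromSpec_primeIdealOf] at h2
    exact h2
  refine ⟨X.basicOpen g, (key x hxW).mpr hg, ?_, fun z hz =>
    isGeomReducedAt_of_geomRedAt f hV hW e halg z (X.basicOpen_le g hz) (hgred _ ((key z (X.basicOpen_le g hz)).mp hz))⟩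
  let hU := hW.basicOpen g
  letI : Algebra Γ(X, W) Γ(X, X.basicOpen g) := (X.presheaf.map (homOfLE (X.basicOpen_le g)).op).hom.toAlgebra
  haveI : IsLocalization.Away g Γ(X, X.basicOpen g) := hW.isLocalization_basicOpen g
  let ε : Localization.Away g ≃ₐ[Γ(X, W)] Γ(X, X.basicOpen g) :=
    IsLocalization.algEquiv (Submonoid.powers g) _ _
  have hle : X.basicOpen g ≤ f ⁻¹ᵁ V := (X.basicOpen_le g).trans e
  have hfac : (X.basicOpen g).ι ≫ f = hU.isoSpec.hom ≫ Spec.map (CommRingCat.ofHom ε.toRingEquiv.toRingHom) ≫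
      Spec.map (CommRingCat.ofHom (algebraMap Γ(Y, V) (Localization.Away g))) ≫ hV.fromSpec := by
    have h1 : f.appLE V (X.basicOpen g) hle =
        CommRingCat.ofHom (algebraMap Γ(Y, V) (Localization.Away g)) ≫ CommRingCat.ofHom ε.toRingEquiv.toRingHom := by
      rw [← f.appLE_map e (homOfLE (X.basicOpen_le g)).op]
      refine CommRingCat.hom_ext (RingHom.ext fun r => ?_)
      show algebraMap Γ(X, W) Γ(X, X.basicOpen g) (algebraMap Γ(Y, V) Γ(X, W) r) =
        ε (algebraMap Γ(Y, V) (Localization.Away g) r)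
      rw [IsScalarTower.algebraMap_apply Γ(Y, V) Γ(X, W) (Localization.Away g), ε.commutes]
    rw [← hU.isoSpec_hom_fromSpec, Category.assoc, ← IsAffineOpen.SpecMap_appLE_fromSpec f hV hU hle, h1,
      Spec.map_comp, Category.assoc]
  rw [hfac]
  haveI : IsIso (CommRingCat.ofHom ε.toRingEquiv.toRingHom) := ε.toRingEquiv.toCommRingCatIso.isIso_hom
  haveI := hguo
  infer_instance

end Groth.L07.FlatGeomReduced
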