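import Groth.Agent.L07.DVRFlat

/-!
Connectedness of the generic fibre over a discrete valuation ring when the special fibre is reduced.
-/

universe u

open CategoryTheory CategoryTheory.Limits AlgebraicGeometry Topology

namespace Groth.L07.DVRConnected

set_option autoImplicit false
set_option linter.style.haveILetI false
set_option maxSynthPendingDepth 3
set_option backward.isDefEq.respectTransparency.types false
set_option backward.isDefEq.respectTransparency false

/-- A local ring is integrally closed for idempotents in the localisation at a regular element with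
radical principal ideal. -/
theorem idempotent_away {T : Type u} [CommRing T] [IsLocalRing T] (t : T) (ht : IsSMulRegular T t)
    (hrad : (Ideal.span {t}).IsRadical) (e : Localization.Away t) (he : IsIdempotentElem e) :
    e = 0 ∨ e = 1 := by
  let L := Localization.Away t
  have hinj : Function.Injective (algebraMap T L) := by
    refine IsLocalization.injective L (M := Submonoid.powers t) ?_
    rintro _ ⟨n, rfl⟩
    refine mem_nonZeroDivisors_iff_right.mpr fun y hy => (ht.pow n) (?_ : t ^ n • y = t ^ n • 0)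
    rw [smul_zero, smul_eq_mul, mul_comm]; exact hy
  have hu : ∀ n : ℕ, IsUnit (algebraMap T L (t ^ n)) := fun n =>
    IsLocalization.map_units L (⟨t ^ n, n, rfl⟩ : Submonoid.powers t)
  have key : ∀ n : ℕ, ∀ a : T, e * algebraMap T L (t ^ n) = algebraMap T L a → ∃ b : T, e = algebraMap T L b := by
    intro n
    induction n with
    | zero => intro a ha; exact ⟨a, by simpa using ha⟩
    | succ n ih =>
      intro a ha
      have h2 : a ∈ Ideal.span {t} := by
        refine hrad ⟨2, Ideal.mem_span_singleton.mpr ⟨a * t ^ n, hinj ?_⟩⟩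
        rw [map_pow, map_mul, map_mul, ← ha, map_pow, map_pow, mul_pow, sq e, he.eq]
        ring
      obtain ⟨c, rfl⟩ := Ideal.mem_span_singleton.mp h2
      refine ih c ((IsLocalization.map_units L (⟨t, Submonoid.mem_powers t⟩ : Submonoid.powers t)).mul_left_cancel ?_)
      change algebraMap T L t * _ = algebraMap T L t * _
      rw [← map_mul, ← ha, map_pow, map_pow]
      ring
  obtain ⟨⟨a, _, n, rfl⟩, ha⟩ := IsLocalization.surj (Submonoid.powers t) e
  obtain ⟨b, rfl⟩ := key n a ha
  have hb : IsIdempotentElem b := hinj (by rw [map_mul]; exact he)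
  have h0 : b * (1 - b) = 0 := by rw [mul_sub, mul_one, hb.eq, sub_self]
  rcases IsLocalRing.isUnit_or_isUnit_one_sub_self b with h | h
  · exact Or.inr (by rw [(sub_eq_zero.mp (h.mul_right_eq_zero.mp h0)).symm, map_one])
  · exact Or.inl (by rw [h.mul_left_eq_zero.mp h0, map_zero])

theorem exists_generization_mem {X : Scheme.{u}} [IsLocallyNoetherian X] {U : Set X} (hU : IsOpen U) {x : X}
    (hx : x ∈ closure U) : ∃ w ∈ U, w ⤳ x := by
  obtain ⟨O, hO, hgen⟩ := Groth.L07.OpenDim.forall_generization_closed (isClosed_closure (s := U)) x hx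
  obtain ⟨w, hwO, hwU⟩ := mem_closure_iff_nhds.mp hx O hO
  obtain ⟨ζ, -, hζw, hζx⟩ := hgen w ⟨hwO, subset_closure hwU⟩
  exact ⟨ζ, hζw.mem_open hU hwU, hζx⟩

/-- The generic fibre of an open morphism with reduced special fibre from a connected scheme is connected. -/
theorem isPreconnected_generic {A : Type u} [CommRing A] [IsDomain A] [IsDiscreteValuationRing A]
    {X : Scheme.{u}} (f : X ⟶ Spec (CommRingCat.of A)) [LocallyOfFiniteType f]
    (hopen : IsOpenMap f.base) [PreconnectedSpace X] (b : ↥(Spec (CommRingCat.of A)))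
    (hb : b = (⟨⊥, Ideal.isPrime_bot⟩ : PrimeSpectrum A))
    (hred : AlgebraicGeometry.IsReduced (f.fiber (IsLocalRing.closedPoint A))) :
    _root_.IsPreconnected (f.base ⁻¹' {b}) := by
  haveI : IsLocallyNoetherian X := LocallyOfFiniteType.isLocallyNoetherian f
  let a : ↥(Spec (CommRingCat.of A)) := IsLocalRing.closedPoint A
  have hba : b ≠ a := fun h => by
    have := congrArg PrimeSpectrum.asIdeal (hb.symm.trans h)
    exact IsDiscreteValuationRing.not_a_field A this.symm
  have hcase : ∀ z : ↥(Spec (CommRingCat.of A)), z ≠ a → z = b := fun z hz =>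
    (Groth.L07.UnivOpenPointwise.closedPoint_or_generic z hz).trans hb.symm
  have hbo : IsOpen ({b} : Set ↥(Spec (CommRingCat.of A))) := by
    have : ({b} : Set ↥(Spec (CommRingCat.of A))) = {a}ᶜ :=
      Set.ext fun z => ⟨fun h => by rw [Set.mem_singleton_iff.mp h]; exact hba, hcase z⟩
    rw [this]
    exact (IsLocalRing.isClosed_singleton_closedPoint A).isOpen_compl
  have hgen : IsOpen (f.base ⁻¹' {b}) := hbo.preimage f.continuous
  have hdense : Dense (f.base ⁻¹' {b}) := by
    refine Dense.preimage (fun z => ?_) hopen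
    refine specializes_iff_mem_closure.mp ?_
    rw [hb]
    exact (PrimeSpectrum.le_iff_specializes (R := A) _ _).mp bot_le
  intro U V hU hV hsub ⟨xu, hxu⟩ ⟨xv, hxv⟩
  by_contra hne
  rw [Set.not_nonempty_iff_eq_empty] at hne
  let U' := U ∩ f.base ⁻¹' {b}
  let V' := V ∩ f.base ⁻¹' {b}
  have hU' : IsOpen U' := hU.inter hgen
  have hV' : IsOpen V' := hV.inter hgen
  have huniv : closure U' ∪ closure V' = Set.univ := by
    rw [← closure_union, ← Set.union_inter_distrib_right, Set.inter_eq_right.mpr hsub]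
    exact hdense.closure_eq
  have hdis : ∀ z, z ∈ U' → z ∈ V' → False := fun z h1 h2 =>
    (hne ▸ (show z ∈ f.base ⁻¹' {b} ∩ (U ∩ V) from ⟨h1.2, h1.1, h2.1⟩) : z ∈ (∅ : Set X))
  obtain ⟨x, -, hxU, hxV⟩ := isPreconnected_closed_iff.mp (PreconnectedSpace.isPreconnected_univ (α := X)) _ _ isClosed_closure
    isClosed_closure huniv.ge ⟨xu, trivial, subset_closure ⟨hxu.2, hxu.1⟩⟩
    ⟨xv, trivial, subset_closure ⟨hxv.2, hxv.1⟩⟩
  have hxa : f.base x = a := by
    by_contra h
    have hxb := hcase _ h
    rcases hsub hxb with h' | h'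
    · obtain ⟨w, hw, hw'⟩ := mem_closure_iff.mp hxV U' hU' ⟨h', hxb⟩
      exact hdis w hw hw'
    · obtain ⟨w, hw, hw'⟩ := mem_closure_iff.mp hxU V' hV' ⟨h', hxb⟩
      exact hdis w hw' hw
  obtain ⟨u, hu, hux⟩ := exists_generization_mem hU' hxU
  obtain ⟨v, hv, hvx⟩ := exists_generization_mem hV' hxV
  -- the local ring
  obtain ⟨hd, hdvr⟩ := Groth.L07.DVRFlat.stalk_dvr (f.base x) hxa
  let S0 := (Spec (CommRingCat.of A)).presheaf.stalk (f.base x)
  have hredx : AlgebraicGeometry.IsReduced (f.fiber (f.base x)) := by rw [hxa]; exact hred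
  haveI := hredx
  have hflat := Groth.L07.DVRFlat.flat_stalkMap f x hxa
    (fun z _ _ O hO => hopen.image_mem_nhds hO) inferInstance
  let T := X.presheaf.stalk x
  letI : Algebra S0 T := (f.stalkMap x).hom.toAlgebra
  haveI : Module.Flat S0 T := hflat
  obtain ⟨π, hπ⟩ := IsDiscreteValuationRing.exists_irreducible S0
  let t : T := (f.stalkMap x).hom π
  have ht : IsSMulRegular T t := IsSMulRegular.of_flat (S := T) (IsRegular.of_ne_zero hπ.ne_zero).left
  have hrad : (Ideal.span {t}).IsRadical := by
    obtain ⟨e⟩ := Groth.L07.CIScheme.exists_fiberStalkEquiv f (f.base x) (f.asFiber x) x (f.fiberι_asFiber x)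
    have h1 := isReduced_of_injective e.toRingHom e.injective
    rw [← Ideal.isRadical_iff_quotient_reduced, EGA4.mB, hπ.maximalIdeal_eq, Ideal.map_span, Set.image_singleton] at h1
    exact h1
  -- points of the local ring
  have hpt : ∀ p : PrimeSpectrum T, (f.base (X.fromSpecStalk x p) = b ↔ t ∉ p.asIdeal) := by
    intro p
    have hc : f.base (X.fromSpecStalk x p) =
        (Spec (CommRingCat.of A)).fromSpecStalk (f.base x) (PrimeSpectrum.comap (f.stalkMap x).hom p) := by
      rw [← Scheme.Hom.comp_apply, ← Scheme.SpecMap_stalkMap_fromSpecStalk, Scheme.Hom.comp_apply]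
      rfl
    constructor
    · intro h htp
      refine hba ?_
      rw [← h, hc, ← hxa]
      refine (congrArg _ (PrimeSpectrum.ext ?_)).trans ((Spec (CommRingCat.of A)).fromSpecStalk_closedPoint)
      refine ((IsLocalRing.maximalIdeal.isMaximal S0).eq_of_le (Ideal.IsPrime.ne_top inferInstance) ?_).symm
      rw [hπ.maximalIdeal_eq, Ideal.span_singleton_le_iff_mem]
      exact htp
    · intro htp
      refine hcase _ fun h => htp ?_
      have h2 : PrimeSpectrum.comap (f.stalkMap x).hom p = IsLocalRing.closedPoint S0 := by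
        refine ((Spec (CommRingCat.of A)).fromSpecStalk (f.base x)).isEmbedding.injective ?_
        rw [← hc, h, (Spec (CommRingCat.of A)).fromSpecStalk_closedPoint, hxa]
      have : π ∈ (PrimeSpectrum.comap (f.stalkMap x).hom p).asIdeal := by
        rw [h2]; exact hπ.not_isUnit
      exact this
  let L := Localization.Away t
  let j : PrimeSpectrum L → X := fun q => X.fromSpecStalk x (PrimeSpectrum.comap (algebraMap T L) q)
  have hj : Continuous j := (X.fromSpecStalk x).continuous.comp (PrimeSpectrum.continuous_comap _)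
  have hrange : ∀ w, w ⤳ x → f.base w = b → ∃ q, j q = w := fun w hw hwb => by
    obtain ⟨p, hp⟩ : w ∈ Set.range (X.fromSpecStalk x) := by rw [Scheme.range_fromSpecStalk]; exact hw
    have htp := (hpt p).mp (hp ▸ hwb)
    obtain ⟨q, hq⟩ : p ∈ Set.range (PrimeSpectrum.comap (algebraMap T L)) := by
      rw [PrimeSpectrum.localization_away_comap_range L t]; exact htp
    exact ⟨q, by simp only [j, hq, hp]⟩
  have hmem : ∀ q, f.base (j q) = b := fun q => (hpt _).mpr
    ((PrimeSpectrum.localization_away_comap_range L t).subset ⟨q, rfl⟩)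
  have hclopen : IsClopen (j ⁻¹' U') := by
    refine ⟨⟨?_⟩, hU'.preimage hj⟩
    have : (j ⁻¹' U')ᶜ = j ⁻¹' V' := Set.ext fun q =>
      ⟨fun h => ⟨(hsub (hmem q)).resolve_left fun h' => h ⟨h', hmem q⟩, hmem q⟩, fun h h' => hdis _ h' h⟩
    rw [this]
    exact hV'.preimage hj
  obtain ⟨e, he, heq⟩ := PrimeSpectrum.isClopen_iff.mp hclopen
  obtain ⟨qu, hqu⟩ := hrange u hux hu.2
  obtain ⟨qv, hqv⟩ := hrange v hvx hv.2
  rcases idempotent_away t ht hrad e he with rfl | rfl
  · have h1 : qu ∈ j ⁻¹' U' := by show j qu ∈ U'; rw [hqu]; exact hu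
    rw [heq] at h1
    simp at h1
  · have h1 : qv ∈ j ⁻¹' U' := by rw [heq]; simp
    exact hdis _ (hqv ▸ h1 : v ∈ U') hv

/-- The generic fibre as a scheme. -/
theorem preconnectedSpace_generic {A : Type u} [CommRing A] [IsDomain A] [IsDiscreteValuationRing A]
    {X : Scheme.{u}} (f : X ⟶ Spec (CommRingCat.of A)) [LocallyOfFiniteType f]
    (hopen : IsOpenMap f.base) [PreconnectedSpace X] (a b : ↥(Spec (CommRingCat.of A)))
    (ha : IsClosed ({a} : Set ↥(Spec (CommRingCat.of A)))) (hb : ∀ z : ↥(Spec (CommRingCat.of A)), b ⤳ z)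
    (hred : AlgebraicGeometry.IsReduced (f.fiber a)) : PreconnectedSpace ↥(f.fiber b) := by
  obtain rfl : a = IsLocalRing.closedPoint A := PrimeSpectrum.ext
    (IsLocalRing.eq_maximalIdeal ((PrimeSpectrum.isClosed_singleton_iff_isMaximal a).mp ha))
  have hb' : b = (⟨⊥, Ideal.isPrime_bot⟩ : PrimeSpectrum A) := PrimeSpectrum.ext
    (le_bot_iff.mp ((PrimeSpectrum.le_iff_specializes (R := A) b _).mpr (hb (⟨⊥, Ideal.isPrime_bot⟩ : PrimeSpectrum A))))
  have h := isPreconnected_generic f hopen b hb' hred
  constructor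
  rw [← (f.fiberι b).isEmbedding.isInducing.isPreconnected_image, Set.image_univ, f.range_fiberι b]
  exact h

end Groth.L07.DVRConnected
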