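import Groth.Agent.L07.SectionCompConn
import Groth.Agent.L07.DVRConnected
import Groth.Agent.L05.Point.FibreMap
import Groth.Agent.L19.MonoValuative

/-!
Stability of section components under generisation inside a universally open piece with geometrically
reduced fibres (EGA IV 15.6.4).
-/

universe u

open CategoryTheory CategoryTheory.Limits AlgebraicGeometry Topology TopologicalSpace

namespace Groth.L07.SectionComp

set_option autoImplicit false
set_option linter.style.haveILetI false
set_option maxSynthPendingDepth 3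
set_option backward.isDefEq.respectTransparency.types false
set_option backward.isDefEq.respectTransparency false

open Groth.L07.Equidim

/-- Geometric reducedness at the points of a fibre. -/
theorem geomRed_fibre {X Y : Scheme.{u}} (f : X ⟶ Y) {y : Y} (b : f.fiber y)
    (h : FBase.IsGeomReducedAt (f.fiberToSpecResidueField (f.base (f.fiberι y b)))
      (f.asFiber (f.fiberι y b))) :
    FBase.IsGeomReducedAt (f.fiberToSpecResidueField y) b := by
  have key : ∀ (u : X) (hy : f u = y), f.fiberι y b = u →
      FBase.IsGeomReducedAt (f.fiberToSpecResidueField (f.base u)) (f.asFiber u) →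
      FBase.IsGeomReducedAt (f.fiberToSpecResidueField y) b := by
    rintro u rfl hu h'
    rwa [show b = f.asFiber u from (f.fiberι _).isEmbedding.injective (hu.trans (f.fiberι_asFiber u).symm)]
  exact key _ (apply_fiberι f y b) rfl h

variable {X Y X' Y' : Scheme.{u}} {f : X ⟶ Y} {f' : X' ⟶ Y'} {p : X' ⟶ X} {t : Y' ⟶ Y}

/-- The local rings of the fibres of a base change at geometrically reduced points are reduced. -/
theorem isReduced_stalk_fibre_baseChange (sq : IsPullback p f' f t) (w : Y') (a : f'.fiber w)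
    (h : FBase.IsGeomReducedAt (f.fiberToSpecResidueField (f.base (p (f'.fiberι w a))))
      (f.asFiber (p (f'.fiberι w a)))) :
    _root_.IsReduced ((f'.fiber w).presheaf.stalk a) := by
  let k : Type u := IsLocalRing.ResidueField (Y.presheaf.stalk (t w))
  let K : Type u := Y'.residueField w
  letI : Algebra k K := (t.residueFieldMap w).hom.toAlgebra
  have H := isPullback_fiberToSpecResidueField_of_isPullback sq w
  let m : f'.fiber w ⟶ f.fiber (t w) :=
    pullback.map _ _ _ _ p (Spec.map (t.residueFieldMap w)) t sq.w.symm (by simp)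
  have h0 : m ≫ f.fiberι (t w) = f'.fiberι w ≫ p := pullback.lift_fst _ _ _
  let π : f.fiber (t w) ⟶ Spec (CommRingCat.of k) := f.fiberToSpecResidueField (t w)
  let e : f'.fiber w ≅ FBase.bc π K := H.isoPullback
  have he : e.hom ≫ FBase.bcπ π K = m := H.isoPullback_hom_fst
  have hm : (f.fiberι (t w)).base (m.base a) = p (f'.fiberι w a) := by
    rw [← Scheme.Hom.comp_apply, h0, Scheme.Hom.comp_apply]
  have h1 : FBase.IsGeomReducedAt π (m.base a) := geomRed_fibre f (m.base a) (by rw [hm]; exact h)
  have hx : (FBase.bcπ π K).base (e.hom.base a) = m.base a := by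
    rw [← he]; rfl
  haveI := h1 K (e.hom.base a) hx
  exact isReduced_of_injective (asIso (e.hom.stalkMap a)).commRingCatIsoToRingEquiv.symm.toRingHom
    (RingEquiv.injective _)

variable (g : Y ⟶ X)

/-- Generisations of points of a section component stay in the section components, inside a universally
open piece with geometrically reduced fibres connected to the component of the generic fibre. -/
theorem mem_of_generization [IsLocallyNoetherian Y] [LocallyOfFiniteType f] (hg : g ≫ f = 𝟙 Y)
    (U : X.Opens) [UniversallyOpen (U.ι ≫ f)]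
    (hred : ∀ v : X, v ∈ U → FBase.IsGeomReducedAt (f.fiberToSpecResidueField (f.base v)) (f.asFiber v))
    {x x' : X} (hx : x ∈ MoreMor.sectionComponents f g) (hxU : x ∈ U) (hs : x' ⤳ x)
    (hanchor : ∀ (A : Type u) [CommRing A] [IsDomain A] [IsDiscreteValuationRing A]
      (t : Spec (CommRingCat.of A) ⟶ Y) (g' : Spec (CommRingCat.of A) ⟶ pullback f t),
      g' ≫ pullback.snd f t = 𝟙 _ → g' ≫ pullback.fst f t = t ≫ g →
      ∀ xT : ↥(pullback f t), (pullback.fst f t).base xT = x →
        (pullback.snd f t).base xT = IsLocalRing.closedPoint A →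
        ∃ S : Set ↥(pullback f t), _root_.IsPreconnected S ∧ xT ∈ S ∧
          S ⊆ connectedComponentIn ((pullback.snd f t).base ⁻¹' {IsLocalRing.closedPoint A})
            (g'.base (IsLocalRing.closedPoint A)) ∩ (pullback.fst f t).base ⁻¹' U ∧
          ∃ a ∈ S, ∃ b ∈ connectedComponentIn
            ((pullback.snd f t).base ⁻¹' {(⟨⊥, Ideal.isPrime_bot⟩ : PrimeSpectrum A)})
            (g'.base (⟨⊥, Ideal.isPrime_bot⟩ : PrimeSpectrum A)), b ⤳ a) :
    x' ∈ MoreMor.sectionComponents f g := by
  rcases eq_or_ne x' x with rfl | hne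
  · exact hx
  haveI : IsLocallyNoetherian X := LocallyOfFiniteType.isLocallyNoetherian f
  obtain ⟨A, tX, hA, ht₀, ht₁⟩ := Groth.L19.exists_dvr_through hs hne
  let η : PrimeSpectrum A := ⟨⊥, Ideal.isPrime_bot⟩
  let c : PrimeSpectrum A := IsLocalRing.closedPoint A
  have hη : tX.base η = x' := by
    have h3 : (Spec.map (CommRingCat.ofHom A.subtype)).base (IsLocalRing.closedPoint _) = η := by
      refine PrimeSpectrum.ext ?_
      show (IsLocalRing.maximalIdeal _).comap A.subtype = ⊥
      rw [IsLocalRing.isField_iff_maximalIdeal_eq.mp (Field.toIsField _), ← RingHom.ker_eq_comap_bot]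
      exact (RingHom.injective_iff_ker_eq_bot _).mp (fun a b hab => Subtype.ext hab)
    rw [← h3, ← Scheme.Hom.comp_apply]
    exact ht₁
  let t := tX ≫ f
  let q := pullback.snd f t
  let pr := pullback.fst f t
  have sq : IsPullback pr q f t := IsPullback.of_hasPullback f t
  let g' : Spec (CommRingCat.of A) ⟶ pullback f t :=
    pullback.lift (t ≫ g) (𝟙 _) (by rw [Category.assoc, hg, Category.comp_id, Category.id_comp])
  let xs : Spec (CommRingCat.of A) ⟶ pullback f t := pullback.lift tX (𝟙 _) (by rw [Category.id_comp])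
  have hg' : g' ≫ q = 𝟙 _ := pullback.lift_snd _ _ _
  have hgp : g' ≫ pr = t ≫ g := pullback.lift_fst _ _ _
  have hxs : ∀ w, pr.base (xs.base w) = tX.base w ∧ q.base (xs.base w) = w := fun w => by
    constructor
    · rw [← Scheme.Hom.comp_apply, pullback.lift_fst]
    · rw [← Scheme.Hom.comp_apply, pullback.lift_snd]; rfl
  set xT := xs.base c
  set xT' := xs.base η
  have hxT : xT' ⤳ xT :=
    ((PrimeSpectrum.le_iff_specializes η c).mp bot_le).map xs.continuous
  have hcomp : ∀ w : PrimeSpectrum A, connectedComponentIn (q.base ⁻¹' {w}) (g'.base w) =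
      pr.base ⁻¹' connectedComponentIn (f.base ⁻¹' {t.base w}) (g.base (t.base w)) ∩ q.base ⁻¹' {w} := fun w =>
    baseChange_comp f g sq g' hg hg' hgp w
  have hfw : ∀ w : PrimeSpectrum A, f (tX.base w) = t.base w := fun w => (Scheme.Hom.comp_apply tX f w).symm
  have htxc : pr.base xT = x := (hxs c).1.trans ht₀
  obtain ⟨S, hS, hxS, hSsub, a, haS, b, hb, hba⟩ := hanchor A t g' hg' hgp xT htxc (hxs c).2
  -- the open piece
  haveI : IsLocallyNoetherian (pullback f t) := LocallyOfFiniteType.isLocallyNoetherian q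
  haveI : LocallyOfFiniteType (q.fiberToSpecResidueField c) := MorphismProperty.pullback_snd _ _ inferInstance
  haveI : IsLocallyNoetherian (q.fiber c) := LocallyOfFiniteType.isLocallyNoetherian (q.fiberToSpecResidueField c)
  let c₀ : q.fiber c := ((exists_rational_point q g' hg' c).choose).base
    (IsLocalRing.closedPoint _)
  have hc₀ : (q.fiberι c).base c₀ = g'.base c := (exists_rational_point q g' hg' c).choose_spec.2 _
  have hCc := comp_eq_image q g' c c₀ hc₀
  have hclc : IsClosed ({c} : Set (PrimeSpectrum A)) := IsLocalRing.isClosed_singleton_closedPoint A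
  have hDclosed : IsClosed (q.base ⁻¹' {c} \ connectedComponentIn (q.base ⁻¹' {c}) (g'.base c)) := by
    have hce : IsClosedEmbedding (q.fiberι c).base :=
      ⟨(q.fiberι c).isEmbedding, by rw [q.range_fiberι]; exact hclc.preimage q.continuous⟩
    have : q.base ⁻¹' {c} \ connectedComponentIn (q.base ⁻¹' {c}) (g'.base c) =
        (q.fiberι c).base '' (connectedComponent c₀)ᶜ := by
      rw [hCc, Set.image_compl_eq_range_sdiff_image (q.fiberι c).isEmbedding.injective, q.range_fiberι]
    rw [this]
    exact hce.isClosedMap _ (Groth.L04.SupportSh.isOpen_connectedComponent c₀).isClosed_compl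
  let P₁ : (pullback f t).Opens :=
    ⟨pr.base ⁻¹' U ∩ (q.base ⁻¹' {c} \ connectedComponentIn (q.base ⁻¹' {c}) (g'.base c))ᶜ,
      (U.2.preimage pr.continuous).inter hDclosed.isOpen_compl⟩
  have hSP : S ⊆ (P₁ : Set ↥(pullback f t)) := fun s hs =>
    ⟨(hSsub hs).2, fun h => h.2 (hSsub hs).1⟩
  let O : (pullback f t).Opens :=
    ⟨(P₁.ι.base '' connectedComponent (⟨xT, hSP hxS⟩ : P₁)),
      P₁.ι.isOpenEmbedding.isOpenMap _ (Groth.L04.SupportSh.isOpen_connectedComponent _)⟩
  have hOP : (O : Set ↥(pullback f t)) ⊆ P₁ := by rintro _ ⟨o, -, rfl⟩; exact o.2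
  have hSO : S ⊆ (O : Set ↥(pullback f t)) := fun s hs => by
    refine ⟨⟨s, hSP hs⟩, ?_, rfl⟩
    have hpre : _root_.IsPreconnected (P₁.ι.base ⁻¹' S) := by
      rw [← P₁.ι.isEmbedding.isInducing.isPreconnected_image, Set.image_preimage_eq_of_subset]
      · exact hS
      · intro w hw; exact ⟨⟨w, hSP hw⟩, rfl⟩
    exact hpre.subset_connectedComponent (show (⟨xT, hSP hxS⟩ : P₁) ∈ P₁.ι.base ⁻¹' S from hxS) hs
  haveI : PreconnectedSpace (O : Scheme.{u}) := by
    refine isPreconnected_iff_preconnectedSpace.mp ?_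
    exact isPreconnected_connectedComponent.image _ P₁.ι.continuous.continuousOn
  -- openness
  have hopenU : IsOpenMap ((pr ⁻¹ᵁ U).ι ≫ q).base := by
    have h := (isPullback_morphismRestrict pr U).paste_vert sq
    haveI : UniversallyOpen ((pr ⁻¹ᵁ U).ι ≫ q) := MorphismProperty.of_isPullback h inferInstance
    exact Scheme.Hom.isOpenMap _
  have hopen : IsOpenMap (O.ι ≫ q).base := by
    intro W hW
    have hle : O ≤ pr ⁻¹ᵁ U := fun w hw => (hOP hw).1
    have e : (O.ι ≫ q).base '' W = ((pr ⁻¹ᵁ U).ι ≫ q).base '' (((pullback f t).homOfLE hle).base '' W) := by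
      rw [Set.image_image]
      refine Set.image_congr fun w _ => ?_
      rw [← Scheme.Hom.comp_apply, Scheme.homOfLE_ι_assoc]
    rw [e]
    exact hopenU _ (((pullback f t).homOfLE hle).isOpenEmbedding.isOpenMap _ hW)
  -- the special fibre
  have hfred : AlgebraicGeometry.IsReduced ((O.ι ≫ q).fiber c) := by
    let m := CohIII.fiberMapOver O.ι (O.ι ≫ q) q rfl c
    haveI : IsOpenImmersion m := MorphismProperty.of_isPullback
      (Groth.L05.Point.isPullback_fiberMapOver O.ι q (O.ι ≫ q) rfl c) inferInstance
    haveI : ∀ v, _root_.IsReduced (((O.ι ≫ q).fiber c).presheaf.stalk v) := fun v => by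
      haveI := isReduced_stalk_fibre_baseChange sq c (m.base v) (hred _ ?_)
      · exact isReduced_of_injective (asIso (m.stalkMap v)).commRingCatIsoToRingEquiv.symm.toRingHom
          (RingEquiv.injective _)
      · have h := (Groth.L05.Point.isPullback_fiberMapOver O.ι q (O.ι ≫ q) rfl c).w
        have h' : (q.fiberι c).base (m.base v) = O.ι.base (((O.ι ≫ q).fiberι c).base v) := by
          rw [← Scheme.Hom.comp_apply, ← h, Scheme.Hom.comp_apply]
        show pr.base ((q.fiberι c).base (m.base v)) ∈ U
        rw [h']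
        exact (hOP (((O.ι ≫ q).fiberι c).base v).2).1
    exact isReduced_of_isReduced_stalk _
  have hgen := Groth.L07.DVRConnected.isPreconnected_generic (O.ι ≫ q) hopen η rfl hfred
  have hin : ∀ w : ↥(pullback f t), w ⤳ xT ∨ w ⤳ a → w ∈ O := fun w hw =>
    hw.elim (fun h => h.mem_open O.2 (hSO hxS)) fun h => h.mem_open O.2 (hSO haS)
  have hbO := hin b (Or.inr hba)
  have hxO := hin xT' (Or.inl hxT)
  have hxC : xT' ∈ connectedComponentIn (q.base ⁻¹' {η}) (g'.base η) := by
    refine mem_of_preconnected q g' hb _ (hgen.image O.ι.base O.ι.continuous.continuousOn)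
      ⟨⟨b, hbO⟩, apply_of_mem q g' hb, rfl⟩ ?_ ⟨⟨xT', hxO⟩, (hxs η).2, rfl⟩
    rintro _ ⟨o, ho, rfl⟩
    exact ho
  rw [hcomp η] at hxC
  have h := hxC.1
  rw [Set.mem_preimage, (hxs η).1, hη, ← hfw η, hη] at h
  exact (mem_sectionComponents_iff f g rfl).mpr h

end Groth.L07.SectionComp
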