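import Groth.Agent.L07.SectionCompMemNhds
import Groth.Agent.L07.SectionCompNhd
import Groth.Agent.L07.RedBaseScheme

/-!
Openness of the union of the section components (EGA IV 15.6.4).
-/

universe u

open CategoryTheory CategoryTheory.Limits AlgebraicGeometry Topology

namespace Groth.L07.SectionComp

set_option autoImplicit false
set_option linter.style.haveILetI false
set_option maxSynthPendingDepth 3
set_option backward.isDefEq.respectTransparency.types false
set_option backward.isDefEq.respectTransparency false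

variable {X Y : Scheme.{u}} (f : X ⟶ Y) (g : Y ⟶ X)

theorem isUnivOpenAt_of_universallyOpen [UniversallyOpen f] (x : X) : EGA43.IsUnivOpenAt f x := fun Y' t x' _ =>
  fun U hU => (pullback.snd f t).isOpenMap.image_mem_nhds hU

/-- Near a component with geometrically reduced fibre along which the morphism is universally open there is a
universally open piece with geometrically reduced fibres containing the whole component. -/
theorem exists_univOpen_piece [IsLocallyNoetherian Y] [LocallyOfFiniteType f] (y : Y)
    (h : ∀ x ∈ connectedComponentIn (f.base ⁻¹' {y}) (g.base y), EGA43.IsUnivOpenAt f x ∧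
      FBase.IsGeomReducedAt (f.fiberToSpecResidueField (f.base x)) (f.asFiber x)) :
    ∃ U : X.Opens, connectedComponentIn (f.base ⁻¹' {y}) (g.base y) ⊆ U ∧ UniversallyOpen (U.ι ≫ f) ∧
      ∀ v : X, v ∈ U → FBase.IsGeomReducedAt (f.fiberToSpecResidueField (f.base v)) (f.asFiber v) := by
  choose U hxU hopen hred using fun x : connectedComponentIn (f.base ⁻¹' {y}) (g.base y) =>
    Groth.L07.FlatGeomReduced.exists_univOpen_geomReduced_nhd f x.1 (fun z hz _ => (h _ (by
      have hfx : f x.1 = y := apply_of_mem f g x.2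
      have hzx : f.fiberι (f.base x.1) z ⤳ x.1 := by
        have := (specializes_iff_mem_closure.mpr hz).map (f.fiberι (f.base x.1)).continuous
        rwa [f.fiberι_asFiber] at this
      exact (mem_of_specializes f g hzx ((Set.ext_iff.mp (f.range_fiberι _) _).mp ⟨z, rfl⟩ |>.trans hfx) hfx).mp x.2)).1)
      (h _ x.2).2
  refine ⟨⨆ x, U x, fun x hx => TopologicalSpace.Opens.mem_iSup.mpr ⟨⟨x, hx⟩, hxU _⟩, ?_, fun v hv => ?_⟩
  · refine IsZariskiLocalAtSource.of_iSup_eq_top (P := @UniversallyOpen) (fun x => (⨆ x, U x).ι ⁻¹ᵁ U x) ?_ fun x => ?_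
    · rw [← Scheme.Hom.preimage_iSup, Scheme.Opens.ι_preimage_self]
    · haveI : UniversallyOpen ((U x).ι ≫ f) := hopen x
      let e : (((⨆ x, U x).ι ⁻¹ᵁ U x : (⨆ x, U x : X.Opens).toScheme.Opens) : Scheme.{u}) ⟶ (U x : Scheme.{u}) :=
        IsOpenImmersion.lift (U x).ι (((⨆ x, U x).ι ⁻¹ᵁ U x).ι ≫ (⨆ x, U x).ι) (by
          rintro _ ⟨a, rfl⟩
          rw [Scheme.Opens.range_ι]
          exact a.2)
      haveI : IsOpenImmersion e := by
        haveI : IsOpenImmersion (e ≫ (U x).ι) := by rw [IsOpenImmersion.lift_fac]; infer_instance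
        exact IsOpenImmersion.of_comp e (U x).ι
      have he : ((⨆ x, U x).ι ⁻¹ᵁ U x).ι ≫ (⨆ x, U x).ι ≫ f = e ≫ (U x).ι ≫ f := by
        rw [← Category.assoc, ← Category.assoc, IsOpenImmersion.lift_fac]
      rw [he]
      infer_instance
  · obtain ⟨x, hx⟩ := TopologicalSpace.Opens.mem_iSup.mp hv
    exact hred x v hx

/-- The union of the section components is a neighbourhood of a component along which the morphism is
universally open with geometrically reduced fibre. -/
theorem subset_interior [IsLocallyNoetherian Y] [LocallyOfFiniteType f] (hg : g ≫ f = 𝟙 Y) (y : Y)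
    (h : ∀ x ∈ connectedComponentIn (f.base ⁻¹' {y}) (g.base y), EGA43.IsUnivOpenAt f x ∧
      FBase.IsGeomReducedAt (f.fiberToSpecResidueField (f.base x)) (f.asFiber x)) :
    connectedComponentIn (f.base ⁻¹' {y}) (g.base y) ⊆ interior (MoreMor.sectionComponents f g) := by
  obtain ⟨U, hCU, hopen, hred⟩ := exists_univOpen_piece f g y h
  haveI := hopen
  intro x hx
  rw [mem_interior_iff_mem_nhds]
  have hxS : x ∈ MoreMor.sectionComponents f g := (mem_sectionComponents_iff f g (apply_of_mem f g hx)).mpr hx
  refine mem_nhds_sectionComponents f g hg fun z hzx => ?_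
  refine mem_of_generization g hg U hred hxS (hCU hx) hzx ?_
  intro A _ _ _ t g' hg' hgp xT hxT hxTc
  let c : PrimeSpectrum A := IsLocalRing.closedPoint A
  let η : PrimeSpectrum A := ⟨⊥, Ideal.isPrime_bot⟩
  have htc : t.base c = y := by
    rw [← apply_of_mem f g hx, ← hxT, show c = (pullback.snd f t).base xT from hxTc.symm, ← Scheme.Hom.comp_apply,
      ← Scheme.Hom.comp_apply, pullback.condition]
  have hS := baseChange_comp f g (IsPullback.of_hasPullback f t) g' hg hg' hgp c
  refine ⟨connectedComponentIn ((pullback.snd f t).base ⁻¹' {c}) (g'.base c), isPreconnected_connectedComponentIn,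
    ?_, fun w hw => ⟨hw, ?_⟩, g'.base c, mem_comp _ g' hg' c, g'.base η, mem_comp _ g' hg' η,
    ((PrimeSpectrum.le_iff_specializes η c).mp bot_le).map g'.continuous⟩
  · rw [hS, htc]
    exact ⟨show pullback.fst f t xT ∈ _ from hxT.symm ▸ hx, hxTc⟩
  · rw [hS, htc] at hw
    exact hCU hw.1

end Groth.L07.SectionComp
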