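import Groth.Agent.L07.SectionCompSpread
import Groth.Agent.L05.ModelFG
import Groth.Agent.L06.Constr

/-!
The section components are constructible (EGA IV 15.6.5).
-/

universe u

open CategoryTheory CategoryTheory.Limits AlgebraicGeometry Topology Opposite

namespace Groth.L07.SectionComp

set_option autoImplicit false
set_option linter.style.haveILetI false
set_option maxSynthPendingDepth 3
set_option backward.isDefEq.respectTransparency.types false
set_option backward.isDefEq.respectTransparency false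

variable {X Y : Scheme.{u}} (f : X ⟶ Y) (g : Y ⟶ X)

/-- The section components of a morphism of finite type to a Noetherian scheme are constructible. -/
theorem isConstructible_of_isNoetherian [IsNoetherian Y] [LocallyOfFiniteType f] [QuasiCompact f] (hg : g ≫ f = 𝟙 Y) :
    IsConstructible (MoreMor.sectionComponents f g) := by
  haveI : IsLocallyNoetherian X := LocallyOfFiniteType.isLocallyNoetherian f
  haveI : CompactSpace X := QuasiCompact.compactSpace_of_compactSpace f
  haveI : IsNoetherian X := ⟨⟩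
  refine Groth.L06.Constr.isConstructible_of_forall_irreducible fun T hT hTi => ?_
  obtain ⟨x, hx⟩ : ∃ x, IsGenericPoint x T := QuasiSober.sober hTi hT
  obtain ⟨O, hO, C, R, hC, hR, hiff⟩ := exists_piece_clopen f g hg (f x)
  refine ⟨f.base ⁻¹' O, O.isOpen.preimage f.continuous, ⟨x, hO, hx.mem⟩, ?_⟩
  have hcl : ∀ z ∈ T, f z ∈ closure ({f x} : Set Y) := fun z hz =>
    specializes_iff_mem_closure.mp ((hx.specializes hz).map f.continuous)
  by_cases hxC : x ∈ C
  · exact Or.inl fun z hz => (hiff z hz.1 (hcl z hz.2)).1.mpr ((hx.specializes hz.2).mem_closed hC hxC)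
  · refine Or.inr fun z hz hzS => ?_
    have hxR : x ∈ R := (hiff x hO (hcl x hx.mem)).2.mpr hxC
    exact (hiff z hz.1 (hcl z hz.2)).2.mp ((hx.specializes hz.2).mem_closed hR hxR)
      ((hiff z hz.1 (hcl z hz.2)).1.mp hzS)

/-- A finitely presented morphism with a section to an affine scheme comes, with any property which descends,
from one over a finitely generated ring. -/
theorem exists_section_model_of {P : MorphismProperty Scheme.{u}} [P.IsStableUnderBaseChange]
    (hdesc : Groth.L19.Limit.Descends P Groth.L19.Limit.qcqsfp)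
    {A : Type u} [CommRing A] {X : Scheme.{u}} (f : X ⟶ Spec (CommRingCat.of A))
    [LocallyOfFinitePresentation f] [QuasiCompact f] [QuasiSeparated f] (hP : P f) (g : Spec (CommRingCat.of A) ⟶ X)
    (hg : g ≫ f = 𝟙 _) :
    ∃ (A₁ : Subalgebra ℤ A) (_ : A₁.FG) (X₁ : Scheme.{u}) (f₁ : X₁ ⟶ Spec (CommRingCat.of ↥A₁)) (p : X ⟶ X₁)
      (g₁ : Spec (CommRingCat.of ↥A₁) ⟶ X₁), P f₁ ∧ LocallyOfFinitePresentation f₁ ∧ QuasiCompact f₁ ∧ g₁ ≫ f₁ = 𝟙 _ ∧
        IsPullback p f f₁ (Spec.map (CommRingCat.ofHom (algebraMap (↥A₁) A))) ∧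
        g ≫ p = Spec.map (CommRingCat.ofHom (algebraMap (↥A₁) A)) ≫ g₁ := by
  obtain ⟨A₀, hA₀, X₀, f₀, p₀, hP₀, h1, h2, sq⟩ := Groth.L05.ModelFG.exists_model (A := A) (P := P) hdesc f hP
  haveI := h1
  haveI := h2
  let D := Groth.L05.ModelFG.specDiagram A
  let c := Groth.L05.ModelFG.specCone A
  let S : Scheme.{u} := Spec (CommRingCat.of (ULift.{u} ℤ))
  let s₀ : Spec (CommRingCat.of ↥A₀) ⟶ S := specULiftZIsTerminal.from _
  haveI : LocallyOfFinitePresentation s₀ := by
    haveI : Algebra.FiniteType ℤ A₀ := A₀.fg_iff_finiteType.mp hA₀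
    have hs : s₀ = Spec.map (CommRingCat.ofHom ((algebraMap ℤ A₀).comp ULift.ringEquiv.toRingHom)) :=
      specULiftZIsTerminal.hom_ext _ _
    rw [hs, HasRingHomProperty.Spec_iff (P := @LocallyOfFinitePresentation)]
    exact RingHom.FinitePresentation.comp
      (RingHom.finitePresentation_algebraMap.mpr (Algebra.FinitePresentation.of_finiteType.mp inferInstance))
      (RingHom.FinitePresentation.of_bijective ULift.ringEquiv.bijective)
  let t : D ⟶ (Functor.const _).obj S :=
    { app := fun _ => specULiftZIsTerminal.from _, naturality := fun _ _ _ => specULiftZIsTerminal.hom_ext _ _ }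
  haveI : ∀ i, CompactSpace (D.obj i) := fun i => inferInstanceAs (CompactSpace (Spec _))
  haveI : ∀ i, QuasiSeparatedSpace (D.obj i) := fun i => inferInstanceAs (QuasiSeparatedSpace (Spec _))
  let a : c.pt ⟶ X₀ := g ≫ p₀
  obtain ⟨j, gj, hgj, -⟩ := Scheme.exists_π_app_comp_eq_of_locallyOfFinitePresentation D t (f₀ ≫ s₀) c
    (Groth.L05.ModelFG.isLimitSpecCone A) a (by
      ext i
      exact specULiftZIsTerminal.hom_ext _ _)
  obtain ⟨k, hk₀, hkj⟩ : ∃ k : Groth.L05.ModelFG.FG A, A₀ ≤ k.1 ∧ j.unop.1 ≤ k.1 :=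
    ⟨⟨A₀ ⊔ j.unop.1, hA₀.sup j.unop.2⟩, le_sup_left, le_sup_right⟩
  let ι₀ : Spec (CommRingCat.of ↥k.1) ⟶ Spec (CommRingCat.of ↥A₀) :=
    Spec.map (CommRingCat.ofHom (Subalgebra.inclusion hk₀).toRingHom)
  let ιj : Spec (CommRingCat.of ↥k.1) ⟶ Spec (CommRingCat.of ↥j.unop.1) :=
    Spec.map (CommRingCat.ofHom (Subalgebra.inclusion hkj).toRingHom)
  let π : Spec (CommRingCat.of A) ⟶ Spec (CommRingCat.of ↥k.1) :=
    Spec.map (CommRingCat.ofHom (algebraMap (↥k.1) A))
  have hπ₀ : π ≫ ι₀ = Spec.map (CommRingCat.ofHom (algebraMap (↥A₀) A)) := by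
    rw [← Spec.map_comp]; rfl
  let gj' : Spec (CommRingCat.of ↥j.unop.1) ⟶ X₀ := gj
  have hπj : π ≫ ιj ≫ gj' = g ≫ p₀ := by
    rw [← Category.assoc, ← Spec.map_comp]; exact hgj
  have hfac : (ιj ≫ gj') ≫ f₀ = ι₀ := by
    obtain ⟨φ, hφ⟩ := Spec.map_surjective ((ιj ≫ gj') ≫ f₀)
    rw [← hφ]
    refine congrArg Spec.map (CommRingCat.hom_ext (RingHom.ext fun r => Subtype.ext ?_))
    have h : Spec.map (φ ≫ CommRingCat.ofHom (algebraMap (↥k.1) A)) =
        Spec.map (CommRingCat.ofHom (algebraMap (↥A₀) A)) := by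
      rw [Spec.map_comp, hφ]
      show π ≫ (ιj ≫ gj') ≫ f₀ = _
      rw [← Category.assoc, hπj, Category.assoc, sq.w, ← Category.assoc, hg, Category.id_comp]
    exact congr(($(Spec.map_injective h)).hom r)
  refine ⟨k.1, k.2, pullback f₀ ι₀, pullback.snd f₀ ι₀,
    pullback.lift p₀ (f ≫ π) (by rw [Category.assoc, hπ₀]; exact sq.w),
    pullback.lift (ιj ≫ gj') (𝟙 _) (by rw [hfac, Category.id_comp]),
    MorphismProperty.pullback_snd _ _ hP₀, MorphismProperty.pullback_snd _ _ h1, MorphismProperty.pullback_snd _ _ h2,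
    pullback.lift_snd _ _ _, ?_, ?_⟩
  · exact IsPullback.of_right (by
      rw [pullback.lift_fst, hπ₀]
      exact sq) (pullback.lift_snd _ _ _) (IsPullback.of_hasPullback f₀ ι₀)
  · apply pullback.hom_ext
    · rw [Category.assoc, pullback.lift_fst, Category.assoc, pullback.lift_fst]
      exact hπj.symm
    · rw [Category.assoc, pullback.lift_snd, Category.assoc, pullback.lift_snd, ← Category.assoc, hg]
      simp [π]

/-- A finitely presented morphism with a section to an affine scheme comes from one over a finitely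
generated ring. -/
theorem exists_section_model {A : Type u} [CommRing A] {X : Scheme.{u}} (f : X ⟶ Spec (CommRingCat.of A))
    [LocallyOfFinitePresentation f] [QuasiCompact f] [QuasiSeparated f] (g : Spec (CommRingCat.of A) ⟶ X)
    (hg : g ≫ f = 𝟙 _) :
    ∃ (A₁ : Subalgebra ℤ A) (_ : A₁.FG) (X₁ : Scheme.{u}) (f₁ : X₁ ⟶ Spec (CommRingCat.of ↥A₁)) (p : X ⟶ X₁)
      (g₁ : Spec (CommRingCat.of ↥A₁) ⟶ X₁), LocallyOfFinitePresentation f₁ ∧ QuasiCompact f₁ ∧ g₁ ≫ f₁ = 𝟙 _ ∧
        IsPullback p f f₁ (Spec.map (CommRingCat.ofHom (algebraMap (↥A₁) A))) ∧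
        g ≫ p = Spec.map (CommRingCat.ofHom (algebraMap (↥A₁) A)) ≫ g₁ := by
  obtain ⟨A₁, hA₁, X₁, f₁, p, g₁, -, h⟩ := exists_section_model_of (P := (⊤ : MorphismProperty Scheme.{u}))
    (by intro I _ _ D c _ hc i _ X a _ _; exact ⟨i, 𝟙 i, trivial⟩) f trivial g hg
  exact ⟨A₁, hA₁, X₁, f₁, p, g₁, h⟩

/-- The section components of a finitely presented morphism to an affine scheme are constructible. -/
theorem isConstructible_of_affine {A : Type u} [CommRing A] {X : Scheme.{u}} (f : X ⟶ Spec (CommRingCat.of A))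
    [LocallyOfFinitePresentation f] [QuasiCompact f] [QuasiSeparated f] (g : Spec (CommRingCat.of A) ⟶ X)
    (hg : g ≫ f = 𝟙 _) : IsConstructible (MoreMor.sectionComponents f g) := by
  obtain ⟨A₁, hA₁, X₁, f₁, p, g₁, h1, h2, hg₁, sq, hgp⟩ := exists_section_model f g hg
  haveI := h1
  haveI := h2
  haveI : Algebra.FiniteType ℤ A₁ := A₁.fg_iff_finiteType.mp hA₁
  haveI : IsNoetherianRing A₁ := Algebra.FiniteType.isNoetherianRing ℤ A₁
  haveI : IsLocallyNoetherian (Spec (CommRingCat.of ↥A₁)) := inferInstance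
  haveI : IsNoetherian (Spec (CommRingCat.of ↥A₁)) := ⟨⟩
  rw [sectionComponents_baseChange f₁ g₁ sq g hg₁ hg hgp]
  exact p.isConstructible_preimage (isConstructible_of_isNoetherian f₁ g₁ hg₁)

/-- The section components of a finitely presented morphism are locally constructible. -/
theorem isLocallyConstructible_sectionComponents [LocallyOfFinitePresentation f] [QuasiCompact f]
    [QuasiSeparated f] (hg : g ≫ f = 𝟙 Y) : IsLocallyConstructible (MoreMor.sectionComponents f g) := by
  intro x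
  obtain ⟨_, ⟨V, hV, rfl⟩, hxV, -⟩ := Y.isBasis_affineOpens.exists_subset_of_mem_open (Set.mem_univ (f x)) isOpen_univ
  refine ⟨f.base ⁻¹' V, (V.isOpen.preimage f.continuous).mem_nhds hxV, V.isOpen.preimage f.continuous, ?_⟩
  let p := pullback.fst f hV.fromSpec
  have hr : Set.range p = f.base ⁻¹' V := by
    rw [Scheme.Pullback.range_fst, hV.range_fromSpec]
  let g' : Spec Γ(Y, V) ⟶ pullback f hV.fromSpec :=
    pullback.lift (hV.fromSpec ≫ g) (𝟙 _) (by rw [Category.assoc, hg, Category.comp_id, Category.id_comp])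
  have hS := isConstructible_of_affine (pullback.snd f hV.fromSpec) g' (pullback.lift_snd _ _ _)
  rw [sectionComponents_baseChange f g (IsPullback.of_hasPullback f hV.fromSpec) g' hg (pullback.lift_snd _ _ _)
    (pullback.lift_fst _ _ _)] at hS
  let e : (pullback f hV.fromSpec : Scheme.{u}) ≃ₜ ↥(f.base ⁻¹' (V : Set Y)) :=
    p.isOpenEmbedding.toIsEmbedding.toHomeomorph.trans (Homeomorph.setCongr hr)
  have := hS.preimage_of_isOpenEmbedding e.symm.isOpenEmbedding
  convert this using 1
  ext z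
  have hz : p (e.symm z) = z.1 := congrArg Subtype.val (e.apply_symm_apply z)
  show z.1 ∈ MoreMor.sectionComponents f g ↔ p (e.symm z) ∈ MoreMor.sectionComponents f g
  rw [hz]

end Groth.L07.SectionComp
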