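import Groth.Agent.L07.SectionCompOpen
import Groth.Agent.L07.SectionCompConstr
import Groth.Agent.L07.GeomRedPullback
import Groth.Agent.L19.Limit.FlatStage

/-!
Section components of flat finitely presented morphisms (EGA IV 15.6.5).
-/

universe u

open CategoryTheory CategoryTheory.Limits AlgebraicGeometry Topology

namespace Groth.L07.SectionComp

set_option autoImplicit false
set_option linter.style.haveILetI false
set_option maxSynthPendingDepth 3
set_option backward.isDefEq.respectTransparency.types false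
set_option backward.isDefEq.respectTransparency false

/-- Geometric reducedness of a fibre at a point seen from the fibre. -/
theorem geomRed_fibre_iff {X Y : Scheme.{u}} (f : X ⟶ Y) {y : Y} (b : f.fiber y) :
    FBase.IsGeomReducedAt (f.fiberToSpecResidueField y) b ↔
      FBase.IsGeomReducedAt (f.fiberToSpecResidueField (f.base (f.fiberι y b))) (f.asFiber (f.fiberι y b)) := by
  have key : ∀ (u : X) (_ : f u = y) (_ : f.fiberι y b = u),
      (FBase.IsGeomReducedAt (f.fiberToSpecResidueField y) b ↔
        FBase.IsGeomReducedAt (f.fiberToSpecResidueField (f.base u)) (f.asFiber u)) := by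
    rintro u rfl hb
    rw [show b = f.asFiber u from (f.fiberι _).isEmbedding.injective (hb.trans (f.fiberι_asFiber u).symm)]
  exact key _ ((Set.ext_iff.mp (f.range_fiberι y) _).mp ⟨b, rfl⟩) rfl

/-- The union of the section components of a flat finitely presented morphism is a neighbourhood of a component
along which the fibre is geometrically reduced. -/
theorem subset_interior_of_flat {X Y : Scheme.{u}} (f : X ⟶ Y) [Flat f] [LocallyOfFinitePresentation f]
    [QuasiCompact f] [QuasiSeparated f] (g : Y ⟶ X) (hg : g ≫ f = 𝟙 Y) (y : Y)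
    (hred : ∀ x ∈ connectedComponentIn (f.base ⁻¹' {y}) (g.base y),
      FBase.IsGeomReducedAt (f.fiberToSpecResidueField (f.base x)) (f.asFiber x)) :
    connectedComponentIn (f.base ⁻¹' {y}) (g.base y) ⊆ interior (MoreMor.sectionComponents f g) := by
  obtain ⟨V, hV, hyV, -⟩ := exists_isAffineOpen_mem_and_subset (X := Y) (x := y) (U := ⊤) trivial
  obtain ⟨v, rfl⟩ : y ∈ Set.range hV.fromSpec := by rw [hV.range_fromSpec]; exact hyV
  let p := pullback.fst f hV.fromSpec
  let f' := pullback.snd f hV.fromSpec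
  let g' : Spec Γ(Y, V) ⟶ pullback f hV.fromSpec :=
    pullback.lift (hV.fromSpec ≫ g) (𝟙 _) (by rw [Category.assoc, hg, Category.comp_id, Category.id_comp])
  have hg' : g' ≫ f' = 𝟙 _ := pullback.lift_snd _ _ _
  have hgp : g' ≫ p = hV.fromSpec ≫ g := pullback.lift_fst _ _ _
  have sq := IsPullback.of_hasPullback f hV.fromSpec
  -- the model
  obtain ⟨A₁, hA₁, X₁, f₁, q, g₁, hfl, h1, h2, hg₁, sq₁, hgq⟩ := exists_section_model_of
    Groth.L19.Limit.descends_flat f' (inferInstanceAs (Flat (pullback.snd f hV.fromSpec))) g' hg'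
  haveI := h1
  haveI := hfl
  haveI : Algebra.FiniteType ℤ A₁ := A₁.fg_iff_finiteType.mp hA₁
  haveI : IsNoetherianRing A₁ := Algebra.FiniteType.isNoetherianRing ℤ A₁
  haveI : UniversallyOpen f₁ := inferInstance
  let τ := Spec.map (CommRingCat.ofHom (algebraMap (↥A₁) Γ(Y, V)))
  have hC' := baseChange_comp f g sq g' hg hg' hgp v
  have hC₁ := baseChange_comp f₁ g₁ sq₁ g' hg₁ hg' hgq v
  have hsub : connectedComponentIn (f₁.base ⁻¹' {τ v}) (g₁.base (τ v)) ⊆ interior (MoreMor.sectionComponents f₁ g₁) := by
    refine subset_interior f₁ g₁ hg₁ (τ v) fun x₁ hx₁ => ⟨isUnivOpenAt_of_universallyOpen f₁ x₁, ?_⟩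
    obtain ⟨x', hx'₁, hx'v⟩ := Scheme.Pullback.exists_preimage_pullback (f := f₁) (g := τ) x₁ v (apply_of_mem f₁ g₁ hx₁)
    let a := sq₁.isoPullback.inv x'
    have haq : q a = x₁ := by
      rw [← Scheme.Hom.comp_apply, sq₁.isoPullback_inv_fst]; exact hx'₁
    have hav : f' a = v := by
      rw [← Scheme.Hom.comp_apply, sq₁.isoPullback_inv_snd]; exact hx'v
    have haC : a ∈ connectedComponentIn (f'.base ⁻¹' {v}) (g'.base v) := by
      rw [hC₁]
      exact ⟨show q a ∈ connectedComponentIn (f₁.base ⁻¹' {τ v}) (g₁.base (τ v)) from haq.symm ▸ hx₁, hav⟩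
    rw [hC'] at haC
    have h := (isGeomReducedAt_iff_of_isPullback sq a).mpr (hred _ haC.1)
    rw [← haq]
    exact (isGeomReducedAt_iff_of_isPullback sq₁ a).mp h
  intro x hx
  obtain ⟨a, hap, hav⟩ := Scheme.Pullback.exists_preimage_pullback (f := f) (g := hV.fromSpec) x v (apply_of_mem f g hx)
  have haC : a ∈ connectedComponentIn (f'.base ⁻¹' {v}) (g'.base v) := by
    rw [hC']
    exact ⟨show p a ∈ connectedComponentIn (f.base ⁻¹' {hV.fromSpec v}) (g.base (hV.fromSpec v)) from hap.symm ▸ hx, hav⟩
  rw [hC₁] at haC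
  have hint : a ∈ interior (MoreMor.sectionComponents f' g') := by
    rw [sectionComponents_baseChange f₁ g₁ sq₁ g' hg₁ hg' hgq]
    exact preimage_interior_subset_interior_preimage q.continuous (hsub haC.1)
  rw [mem_interior_iff_mem_nhds] at hint ⊢
  rw [← hap]
  refine Filter.mem_of_superset (p.isOpenEmbedding.isOpenMap.image_mem_nhds hint) ?_
  rw [sectionComponents_baseChange f g sq g' hg hg' hgp]
  exact Set.image_preimage_subset _ _

end Groth.L07.SectionComp
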