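import Groth.Agent.L07.SectionCompDimOpen
import Groth.Agent.L07.OpenFibreDim
import Groth.Agent.L06.Constr
import Groth.Agent.L22.GeomConn.Irred

/-!
Local constancy of the dimension of the section components from universal openness (EGA IV 15.6.7).
-/

universe u

open CategoryTheory CategoryTheory.Limits AlgebraicGeometry Topology

namespace Groth.L07.SectionComp

set_option autoImplicit false
set_option linter.style.haveILetI false
set_option maxSynthPendingDepth 3
set_option backward.isDefEq.respectTransparency.types false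
set_option backward.isDefEq.respectTransparency false

open Groth.L22 Groth.L07.Equidim

variable {X Y : Scheme.{u}} (f : X ⟶ Y) (g : Y ⟶ X)

theorem isPreirreducible_inter_open {α : Type*} [TopologicalSpace α] {S P : Set α} (hS : IsPreirreducible S)
    (hP : IsOpen P) : IsPreirreducible (S ∩ P) := by
  rintro A B hA hB ⟨a, ⟨haS, haP⟩, haA⟩ ⟨b, ⟨hbS, hbP⟩, hbB⟩
  obtain ⟨w, hwS, ⟨hwA, hwP⟩, hwB, -⟩ :=
    hS (A ∩ P) (B ∩ P) (hA.inter hP) (hB.inter hP) ⟨a, haS, haA, haP⟩ ⟨b, hbS, hbB, hbP⟩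
  exact ⟨w, ⟨hwS, hwP⟩, hwA, hwB⟩

theorem isOpenAt_of_isUnivOpenAt {x : X} (h : EGA43.IsUnivOpenAt f x) : EGA43.IsOpenAt f.base x := by
  intro U hU
  have sq : IsPullback (𝟙 X) f f (𝟙 Y) := IsPullback.of_id_fst
  obtain ⟨x', hx1, hx2⟩ := Scheme.Pullback.exists_preimage_pullback (f := f) (g := 𝟙 Y) x (f x) rfl
  have h' := h Y (𝟙 Y) x' hx1 ((pullback.fst f (𝟙 Y)).base ⁻¹' U)
    ((pullback.fst f (𝟙 Y)).continuous.continuousAt (by rw [hx1]; exact hU))
  rw [hx2] at h'
  refine Filter.mem_of_superset h' ?_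
  rintro _ ⟨w, hw, rfl⟩
  exact ⟨_, hw, by rw [← Scheme.Hom.comp_apply, pullback.condition, Category.comp_id]⟩

/-- A closed subset containing all generisations of a point is a neighbourhood of it. -/
theorem mem_nhds_of_isClosed_of_generization [IsLocallyNoetherian Y] (F : Set Y) (hF : IsClosed F) (y : Y)
    (h : ∀ z, z ⤳ y → z ∈ F) : F ∈ 𝓝 y := by
  obtain ⟨N, hN, hyN, -⟩ := exists_isAffineOpen_mem_and_subset (X := Y) (x := y) (U := ⊤) trivial
  haveI : CompactSpace (N : Scheme.{u}) := isCompact_iff_compactSpace.mp hN.isCompact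
  haveI : IsNoetherian (N : Scheme.{u}) := ⟨⟩
  haveI : TopologicalSpace.NoetherianSpace ↥N := inferInstanceAs (TopologicalSpace.NoetherianSpace (N : Scheme.{u}))
  suffices hsuff : N.ι ⁻¹' F ∈ 𝓝 (⟨y, hyN⟩ : N) by
    have h2 : N.ι '' (N.ι ⁻¹' F) ∈ 𝓝 (N.ι ⟨y, hyN⟩) := N.ι.isOpenEmbedding.isOpenMap.image_mem_nhds hsuff
    exact Filter.mem_of_superset h2 (Set.image_preimage_subset _ _)
  refine Groth.L06.Constr.mem_nhds_of_forall_irreducible (X := (N : Scheme.{u})) fun T hT hTi hyT => ?_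
  obtain ⟨ζ, hζ⟩ : ∃ ζ, IsGenericPoint ζ T := QuasiSober.sober hTi hT
  refine ⟨Set.univ, isOpen_univ, ⟨ζ, trivial, hζ.mem⟩, fun w hw => ?_⟩
  exact ((hζ.specializes hw.2).map N.ι.continuous).mem_closed hF (h _ ((hζ.specializes hyT).map N.ι.continuous))

/-- Constancy of the dimension of geometrically irreducible section components near a point. -/
theorem dim_const_nhds [IsLocallyNoetherian Y] [LocallyOfFiniteType f] (hg : g ≫ f = 𝟙 Y)
    (hgi : ∀ (y : Y) (K : Type u) [Field K] [Algebra (IsLocalRing.ResidueField (Y.presheaf.stalk y)) K],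
      IsIrreducible ((FBase.bcπ (f.fiberToSpecResidueField y) K ≫ f.fiberι y).base ⁻¹'
        connectedComponentIn (f.base ⁻¹' {y}) (g.base y)))
    (y₀ : Y)
    (hopen : ∀ ξ ∈ connectedComponentIn (f.base ⁻¹' {y₀}) (g.base y₀),
      connectedComponentIn (f.base ⁻¹' {y₀}) (g.base y₀) ⊆ closure {ξ} → EGA43.IsUnivOpenAt f ξ)
    (hαβ : FBase.IsGeomReducedAt (f.fiberToSpecResidueField (f.base (g.base y₀))) (f.asFiber (g.base y₀)) ∨
      (∀ y' : Y, y₀ ∈ closure {y'} → closure {y'} ∈ irreducibleComponents (Y : Type u) →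
        topologicalKrullDim ↥(f.fiber y') = topologicalKrullDim ↥(connectedComponentIn (f.base ⁻¹' {y'}) (g.base y')))) :
    ∃ V ∈ 𝓝 y₀, ∀ z ∈ V, topologicalKrullDim ↥(connectedComponentIn (f.base ⁻¹' {z}) (g.base z)) =
      topologicalKrullDim ↥(connectedComponentIn (f.base ⁻¹' {y₀}) (g.base y₀)) := by
  have hirr : ∀ y, IsIrreducible (connectedComponentIn (f.base ⁻¹' {y}) (g.base y)) := fun y =>
    isIrreducible_of_geom f g y (hgi y)
  let ψ := fun y : Y => topologicalKrullDim ↥(connectedComponentIn (f.base ⁻¹' {y}) (g.base y))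
  have husc : UpperSemicontinuous ψ := upperSemicontinuous_dim f g hg hirr
  have hψeq : ∀ y, ψ y = FlatMor.fibreDimAt f (g y) := fun y => dim_eq_fibreDimAt_section f g hg (hirr y)
  have hle : ∀ {a b : Y}, a ⤳ b → ψ a ≤ ψ b := fun {a b} hab => by
    rw [hψeq, hψeq]
    obtain ⟨n, hn⟩ := Groth.L07.OpenEquiv.exists_nat_fibreDimAt f (g b)
    rw [hn]
    exact (hab.map g.continuous).mem_open (Groth.L07.FibreDim.isOpen_fibreDimAt_le f n) hn.le
  obtain ⟨ξ, hfξ, hCe, hξC, hsp⟩ := exists_generic f g (hirr y₀)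
  have hξg : ξ ⤳ g y₀ := specializes_iff_mem_closure.mpr (hCe ▸ mem_comp f g hg y₀).1
  have hCcl : connectedComponentIn (f.base ⁻¹' {y₀}) (g.base y₀) ⊆ closure {ξ} := hCe ▸ Set.inter_subset_left
  have hξopen : EGA43.IsUnivOpenAt f ξ := hopen ξ hξC hCcl
  have hξmax : ∀ z, f z = f ξ → z ⤳ ξ → z = ξ := fun z hfz hzξ =>
    (hzξ.antisymm (hsp z ξ hξC hzξ (hfz.trans hfξ))).eq
  have hξd : FlatMor.fibreDimAt f ξ = ψ y₀ := (dim_eq_fibreDimAt f g (hirr y₀) hξC).symm
  -- all generisations have the same dimension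
  have hgen : ∀ y', y' ⤳ y₀ → ψ y₀ ≤ ψ y' := by
    rcases hαβ with hα | hβ
    · intro y' hy'
      have hfg : f (g y₀) = y₀ := apply_section f g hg y₀
      obtain ⟨U, hgU, hopenU, hred⟩ := Groth.L07.FlatGeomReduced.exists_univOpen_geomReduced_nhd f (g y₀)
        (fun z hz hzmax => by
          have hzg : f.fiberι (f.base (g y₀)) z ⤳ g y₀ := by
            have := (specializes_iff_mem_closure.mpr hz).map (f.fiberι (f.base (g y₀))).continuous
            rwa [f.fiberι_asFiber] at this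
          have hfz : f (f.fiberι (f.base (g y₀)) z) = y₀ :=
            ((Set.ext_iff.mp (f.range_fiberι _) _).mp ⟨z, rfl⟩).trans hfg
          have hzC := (mem_of_specializes f g hzg hfz hfg).mp (mem_comp f g hg y₀)
          obtain ⟨a, ha⟩ : ξ ∈ Set.range (f.fiberι (f.base (g y₀))) := by
            rw [f.range_fiberι]; exact hfξ.trans hfg.symm
          have haz : a ⤳ z := by
            refine (f.fiberι (f.base (g y₀))).isEmbedding.isInducing.specializes_iff.mp ?_
            rw [ha]; exact specializes_iff_mem_closure.mpr (hCcl hzC)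
          rw [← hzmax a (specializes_iff_mem_closure.mp haz), ha]
          exact hξopen) hα
      haveI := hopenU
      have hξU : ξ ∈ U := hξg.mem_open U.isOpen hgU
      have hξS : ξ ∈ MoreMor.sectionComponents f g := (mem_sectionComponents_iff f g hfξ).mpr hξC
      have hnhds : MoreMor.sectionComponents f g ∈ 𝓝 ξ := by
        refine mem_nhds_sectionComponents f g hg fun x' hx' => ?_
        refine mem_of_generization g hg U hred hξS hξU hx' ?_
        intro A _ _ _ t g' hg' hgp xT hxT hxTc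
        let c : ↥(Spec (CommRingCat.of A)) := IsLocalRing.closedPoint A
        let η : ↥(Spec (CommRingCat.of A)) := (⟨⊥, Ideal.isPrime_bot⟩ : PrimeSpectrum A)
        have hηc : η ⤳ c := (PrimeSpectrum.le_iff_specializes (⟨⊥, Ideal.isPrime_bot⟩ : PrimeSpectrum A) c).mp bot_le
        have htc : t.base c = y₀ := by
          rw [← hfξ, ← hxT, show c = (pullback.snd f t).base xT from hxTc.symm, ← Scheme.Hom.comp_apply,
            ← Scheme.Hom.comp_apply, pullback.condition]
        obtain ⟨hec, hic, -⟩ := baseChange_geom f g (IsPullback.of_hasPullback f t) g' hg hg' hgp c (hgi _)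
        have hgc : (pullback.fst f t).base (g'.base c) ∈ U := by
          rw [← Scheme.Hom.comp_apply, hgp, Scheme.Hom.comp_apply, htc]; exact hgU
        refine ⟨connectedComponentIn ((pullback.snd f t).base ⁻¹' {c}) (g'.base c) ∩ (pullback.fst f t).base ⁻¹' U,
          (isPreirreducible_inter_open hic.isPreirreducible (U.isOpen.preimage (pullback.fst f t).continuous)).isPreconnected,
          ⟨?_, show (pullback.fst f t).base xT ∈ U from hxT.symm ▸ hξU⟩, subset_rfl, g'.base c,
          ⟨mem_comp _ g' hg' c, hgc⟩, g'.base η, mem_comp _ g' hg' η, hηc.map g'.continuous⟩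
        rw [hec]
        refine ⟨?_, hxTc⟩
        show (pullback.fst f t).base xT ∈ connectedComponentIn (f.base ⁻¹' {t.base c}) (g.base (t.base c))
        rw [htc, hxT]; exact hξC
      obtain ⟨W, hWS, hW, hξW⟩ := mem_nhds_iff.mp hnhds
      refine hξd.symm.trans_le ((Groth.L07.OpenFibreDim.le_dim_fibre_of_isOpenAt f ξ hξmax (isOpenAt_of_isUnivOpenAt f hξopen)
        ⟨W, hW⟩ hξW (hfξ.symm ▸ hy')).trans (SchemeDim.topologicalKrullDim_mono ?_))
      rintro w ⟨hwW, hwy⟩
      exact (mem_sectionComponents_iff f g hwy).mp (hWS hwW)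
    · intro y' hy'
      obtain ⟨m, hm, hmy⟩ := Groth.L22.GeomConn.exists_isMaxPt_specializes y'
      have hmd := hβ m (specializes_iff_mem_closure.mp (hmy.trans hy')) (Groth.L22.GeomConn.closure_mem_irreducibleComponents hm)
      refine le_trans ?_ (hle hmy)
      refine hξd.symm.trans_le ((Groth.L07.OpenFibreDim.le_dim_fibre_of_isOpenAt f ξ hξmax (isOpenAt_of_isUnivOpenAt f hξopen)
        ⊤ trivial (hfξ.symm ▸ hmy.trans hy')).trans ?_)
      show _ ≤ ψ m
      rw [show ψ m = _ from hmd.symm, SchemeDim.topologicalKrullDim_eq_of_isEmbedding (f := f.fiberι m)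
        (f.fiberι m).isEmbedding (S := ((⊤ : X.Opens) : Set X) ∩ f.base ⁻¹' {m}) (by simp [f.range_fiberι])]
  -- the neighbourhood
  obtain ⟨n, hn⟩ := Groth.L07.OpenEquiv.exists_nat_fibreDimAt f (g y₀)
  have hn' : ψ y₀ = n := (hψeq y₀).trans hn
  have hge : {z | (n : WithBot ℕ∞) ≤ ψ z} ∈ 𝓝 y₀ := by
    refine mem_nhds_of_isClosed_of_generization _ ?_ y₀ fun z hz => hn' ▸ hgen z hz
    rw [← isOpen_compl_iff]
    have : {z | (n : WithBot ℕ∞) ≤ ψ z}ᶜ = {z | ψ z < n} := Set.ext fun z => by simp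
    rw [this]
    exact upperSemicontinuous_iff_isOpen_preimage.mp husc _
  have hlo : {z | ψ z ≤ n} ∈ 𝓝 y₀ := by
    have : IsOpen {z | ψ z ≤ n} := by
      simp only [hψeq]
      exact (Groth.L07.FibreDim.isOpen_fibreDimAt_le f n).preimage g.continuous
    exact this.mem_nhds hn'.le
  exact ⟨_, Filter.inter_mem hge hlo, fun z hz => (le_antisymm hz.2 hz.1).trans hn'.symm⟩

end Groth.L07.SectionComp
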