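import Groth.Agent.L07.DimToolkit
import Groth.Agent.L22.GeomConn.Irred
import Groth.Agent.L23.FibreDimBC
import Groth.Agent.L07.UnivOpenAt
import Mathlib.AlgebraicGeometry.ValuativeCriterion
import Mathlib.RingTheory.Valuation.ValuationRing

/-!
Universal openness at a maximal point of a fibre bounds the dimensions of the nearby fibres below, over an
arbitrary base: the residue transcendence degree does not drop along generizations over a valuation ring.
-/

universe u

open CategoryTheory CategoryTheory.Limits AlgebraicGeometry TopologicalSpace Topology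

namespace Groth.L07.ValDim

open Groth.L22 Groth.L07.Equidim Groth.L07.EquidimQF

set_option maxSynthPendingDepth 3
set_option linter.style.haveILetI false
set_option backward.isDefEq.respectTransparency.types false
set_option backward.isDefEq.respectTransparency false

/-- A finite family in a field can be scaled by one of its members into a valuation subring. -/
theorem exists_dominant {K : Type u} [Field K] (R : Subring K) (hR : ∀ c : K, c ∈ R ∨ c⁻¹ ∈ R)
    {ι : Type*} (s : Finset ι) (c : ι → K) (hs : ∃ i ∈ s, c i ≠ 0) :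
    ∃ j ∈ s, c j ≠ 0 ∧ ∀ i ∈ s, c i / c j ∈ R := by
  classical
  induction s using Finset.induction with
  | empty => obtain ⟨i, hi, -⟩ := hs; simp at hi
  | insert a s ha ih =>
    have h1 : (1 : K) ∈ R := R.one_mem
    by_cases hs' : ∃ i ∈ s, c i ≠ 0
    · obtain ⟨j, hj, hj0, hR'⟩ := ih hs'
      rcases hR (c a / c j) with h | h
      · refine ⟨j, Finset.mem_insert_of_mem hj, hj0, fun i hi => ?_⟩
        rcases Finset.mem_insert.mp hi with rfl | hi
        · exact h
        · exact hR' i hi
      · by_cases ha0 : c a = 0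
        · refine ⟨j, Finset.mem_insert_of_mem hj, hj0, fun i hi => ?_⟩
          rcases Finset.mem_insert.mp hi with rfl | hi
          · rw [ha0, zero_div]; exact R.zero_mem
          · exact hR' i hi
        · refine ⟨a, Finset.mem_insert_self a s, ha0, fun i hi => ?_⟩
          rcases Finset.mem_insert.mp hi with rfl | hi
          · rw [div_self ha0]; exact h1
          · have : c i / c a = c i / c j * (c a / c j)⁻¹ := by field_simp
            rw [this]
            exact R.mul_mem (hR' i hi) h
    · push Not at hs'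
      obtain ⟨i, hi, hi0⟩ := hs
      obtain rfl : i = a := (Finset.mem_insert.mp hi).resolve_right fun h => hi0 (hs' i h)
      refine ⟨i, hi, hi0, fun k hk => ?_⟩
      rcases Finset.mem_insert.mp hk with rfl | hk
      · rw [div_self hi0]; exact h1
      · rw [hs' k hk, zero_div]; exact R.zero_mem

/-- The transcendence degree of the residue field does not drop along a generization lying over a
valuation ring. -/
theorem rtrdeg_le {X Y : Scheme.{u}} (f : X ⟶ Y) {ζ ξ : X} (h : ζ ⤳ ξ)
    (hV : ∀ c : Y.residueField (f ζ),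
      c ∈ (Y.presheaf.stalkSpecializes (h.map f.continuous) ≫ Y.residue (f ζ)).hom.range ∨
        c⁻¹ ∈ (Y.presheaf.stalkSpecializes (h.map f.continuous) ≫ Y.residue (f ζ)).hom.range) :
    Cyc.rtrdeg f ξ ≤ Cyc.rtrdeg f ζ := by
  classical
  letI := (f.residueFieldMap ξ).hom.toAlgebra
  letI := (f.residueFieldMap ζ).hom.toAlgebra
  show Algebra.trdeg _ _ ≤ Algebra.trdeg _ _
  obtain ⟨ι, t, ht⟩ := exists_isTranscendenceBasis' (Y.residueField (f ξ)) (X.residueField ξ)
  rw [← ht.cardinalMk_eq_trdeg]
  choose t' ht' using fun i => IsLocalRing.residue_surjective (t i)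
  let sp := (Y.presheaf.stalkSpecializes (h.map f.continuous) ≫ Y.residue (f ζ)).hom
  let φ := (X.presheaf.stalkSpecializes h ≫ X.residue ζ).hom
  have hφ : φ.comp (f.stalkMap ξ).hom = (f.residueFieldMap ζ).hom.comp sp := by
    have e : f.stalkMap ξ ≫ X.presheaf.stalkSpecializes h ≫ X.residue ζ =
        (Y.presheaf.stalkSpecializes (h.map f.continuous) ≫ Y.residue (f ζ)) ≫ f.residueFieldMap ζ := by
      rw [Category.assoc, Scheme.residue_residueFieldMap, ← Category.assoc,
        ← Scheme.Hom.stalkSpecializes_stalkMap, Category.assoc]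
    exact congrArg CommRingCat.Hom.hom e
  refine AlgebraicIndependent.cardinalMk_le_trdeg (x := fun i => φ (t' i)) ?_
  rw [algebraicIndependent_iff]
  intro P hP
  by_contra hne
  obtain ⟨m₀, hm₀⟩ := MvPolynomial.ne_zero_iff.mp hne
  obtain ⟨j, hj, hj0, hR⟩ := exists_dominant sp.range hV P.support (fun m => MvPolynomial.coeff m P)
    ⟨m₀, MvPolynomial.mem_support_iff.mpr hm₀, hm₀⟩
  choose! a ha using fun m (hm : m ∈ P.support) => RingHom.mem_range.mp (hR m hm)
  let a' : (ι →₀ ℕ) → Y.presheaf.stalk (f ξ) := fun m => if m = j then 1 else a m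
  have ha' : ∀ m ∈ P.support, sp (a' m) = MvPolynomial.coeff m P / MvPolynomial.coeff j P := by
    intro m hm
    by_cases hmj : m = j
    · subst hmj
      simp only [a', if_true, map_one]
      exact (div_self hj0).symm
    · simp only [a', if_neg hmj]
      exact ha m hm
  let Q : MvPolynomial ι (Y.presheaf.stalk (f ξ)) := ∑ m ∈ P.support, MvPolynomial.monomial m (a' m)
  have hQsp : MvPolynomial.map sp Q = MvPolynomial.C (MvPolynomial.coeff j P)⁻¹ * P := by
    conv_rhs => arg 2; rw [P.as_sum]
    rw [Finset.mul_sum]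
    simp only [Q, map_sum, MvPolynomial.map_monomial]
    refine Finset.sum_congr rfl fun m hm => ?_
    rw [ha' m hm, MvPolynomial.C_mul_monomial, div_eq_inv_mul]
  have h0 : φ (MvPolynomial.eval₂ (f.stalkMap ξ).hom t' Q) = 0 := by
    rw [← MvPolynomial.coe_eval₂Hom, MvPolynomial.map_eval₂Hom, MvPolynomial.coe_eval₂Hom, hφ,
      ← MvPolynomial.eval₂_map, hQsp, MvPolynomial.eval₂_mul]
    rw [MvPolynomial.aeval_def] at hP
    refine mul_eq_zero_of_right _ ?_
    exact hP
  have h1 : X.residue ξ (MvPolynomial.eval₂ (f.stalkMap ξ).hom t' Q) = 0 := by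
    refine (IsLocalRing.residue_eq_zero_iff _).mpr fun hu => ?_
    have := hu.map φ
    rw [h0] at this
    exact not_isUnit_zero this
  have h2 : MvPolynomial.aeval t (MvPolynomial.map (Y.residue (f ξ)).hom Q) = 0 := by
    rw [MvPolynomial.aeval_def, MvPolynomial.eval₂_map]
    rw [← MvPolynomial.coe_eval₂Hom, MvPolynomial.map_eval₂Hom, MvPolynomial.coe_eval₂Hom] at h1
    have e : (X.residue ξ).hom.comp (f.stalkMap ξ).hom =
        (algebraMap (Y.residueField (f ξ)) (X.residueField ξ)).comp (Y.residue (f ξ)).hom :=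
      congrArg CommRingCat.Hom.hom (Scheme.residue_residueFieldMap f ξ).symm
    rw [← e]
    refine Eq.trans ?_ h1
    congr 1
    exact funext fun i => (ht' i).symm
  have h3 := algebraicIndependent_iff.mp ht.1 _ h2
  have h4 := congrArg (MvPolynomial.coeff j) h3
  rw [MvPolynomial.coeff_map, MvPolynomial.coeff_zero, MvPolynomial.coeff_sum,
    Finset.sum_eq_single j (fun m _ hm => by rw [MvPolynomial.coeff_monomial, if_neg hm])
      (fun hn => absurd hj hn), MvPolynomial.coeff_monomial, if_pos rfl] at h4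
  simp only [a', if_true, map_one, one_ne_zero] at h4

/-- Over a valuation ring, openness at a point gives a generization over the generic point. -/
theorem exists_generization {V : Type u} [CommRing V] [IsDomain V] {T : Scheme.{u}}
    (f : T ⟶ Spec (CommRingCat.of V)) (ξ : T) (hopen : EGA43.IsOpenAt f.base ξ)
    (η : Spec (CommRingCat.of V)) (hη : (η : PrimeSpectrum V).asIdeal = ⊥) :
    ∃ ζ, ζ ⤳ ξ ∧ f ζ = η := by
  classical
  obtain ⟨W, hW, hξW, -⟩ := exists_isAffineOpen_mem_and_subset (X := T) (x := ξ) (U := ⊤) trivial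
  let φ := Spec.preimage (hW.fromSpec ≫ f)
  let P : PrimeSpectrum Γ(T, W) := hW.primeIdealOf ⟨ξ, hξW⟩
  have hP : hW.fromSpec P = ξ := hW.fromSpec_primeIdealOf ⟨ξ, hξW⟩
  have hover : ∀ Q : PrimeSpectrum Γ(T, W), f (hW.fromSpec Q) = PrimeSpectrum.comap φ.hom Q := fun Q => by
    rw [← Scheme.Hom.comp_apply, ← Spec.map_preimage (hW.fromSpec ≫ f)]
    rfl
  let S : Submonoid Γ(T, W) := (nonZeroDivisors V).map φ.hom ⊔ P.asIdeal.primeCompl
  have h0 : (0 : Γ(T, W)) ∉ S := by
    intro h0
    obtain ⟨a, ⟨v, hv, rfl⟩, s, hs, hvs⟩ := Submonoid.mem_sup.mp h0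
    have hD : (hW.fromSpec '' (PrimeSpectrum.basicOpen s : Set (PrimeSpectrum Γ(T, W)))) ∈ 𝓝 ξ :=
      (hW.fromSpec.isOpenEmbedding.isOpenMap _ (PrimeSpectrum.basicOpen s).isOpen).mem_nhds ⟨P, hs, hP⟩
    have hηc : η ⤳ f ξ := (PrimeSpectrum.le_iff_specializes (η : PrimeSpectrum V) (f ξ)).mp (by
      rw [← PrimeSpectrum.asIdeal_le_asIdeal, hη]; exact bot_le)
    obtain ⟨_, ⟨Q, hQs, rfl⟩, hQ⟩ := mem_of_mem_nhds (hηc (hopen _ hD))
    have hQv : φ.hom v ∉ Q.asIdeal := fun hm => by
      have : v ∈ (η : PrimeSpectrum V).asIdeal := by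
        rw [← show PrimeSpectrum.comap φ.hom Q = η from (hover Q).symm.trans hQ]; exact hm
      rw [hη] at this
      exact nonZeroDivisors.ne_zero hv (Ideal.mem_bot.mp this)
    exact ((Q.isPrime.mem_or_mem (hvs ▸ Q.asIdeal.zero_mem)).elim hQv hQs)
  obtain ⟨Q, hQ, -, hdisj⟩ := Ideal.exists_le_prime_disjoint (⊥ : Ideal Γ(T, W)) S
    (Set.disjoint_left.mpr fun a ha haS => h0 (Ideal.mem_bot.mp ha ▸ haS))
  let Q' : PrimeSpectrum Γ(T, W) := ⟨Q, hQ⟩
  refine ⟨hW.fromSpec Q', hP ▸ Specializes.map ((PrimeSpectrum.le_iff_specializes Q' P).mp ?_) hW.fromSpec.continuous, ?_⟩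
  · intro a ha
    by_contra hn
    exact Set.disjoint_left.mp hdisj ha (Submonoid.mem_sup_right (show a ∈ P.asIdeal.primeCompl from hn))
  · rw [hover]
    refine PrimeSpectrum.ext ?_
    rw [hη, eq_bot_iff]
    intro v hv
    by_contra hn
    exact Set.disjoint_left.mp hdisj hv (Submonoid.mem_sup_left
      ⟨v, mem_nonZeroDivisors_of_ne_zero hn, rfl⟩)

/-- Over a valuation ring the residue field at the generic point consists of fractions from the local ring of
any point. -/
theorem hV_spec {V : Type u} [CommRing V] [IsDomain V] [ValuationRing V]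
    (η c₀ : Spec (CommRingCat.of V)) (hη : (η : PrimeSpectrum V).asIdeal = ⊥) (h : η ⤳ c₀)
    (c : (Spec (CommRingCat.of V)).residueField η) :
    c ∈ ((Spec (CommRingCat.of V)).presheaf.stalkSpecializes h ≫ (Spec (CommRingCat.of V)).residue η).hom.range ∨
      c⁻¹ ∈ ((Spec (CommRingCat.of V)).presheaf.stalkSpecializes h ≫
        (Spec (CommRingCat.of V)).residue η).hom.range := by
  let Y := Spec (CommRingCat.of V)
  let sp := (Y.presheaf.stalkSpecializes h ≫ Y.residue η).hom
  let ε : V →+* Y.residueField η := sp.comp (StructureSheaf.toStalk V c₀).hom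
  have hε : ε = (Y.residue η).hom.comp (StructureSheaf.toStalk V η).hom := by
    have e : StructureSheaf.toStalk V c₀ ≫ (Spec.structureSheaf V).presheaf.stalkSpecializes h =
        StructureSheaf.toStalk V η := StructureSheaf.toStalk_stalkSpecializes h
    rw [← e]; rfl
  obtain ⟨x, rfl⟩ := Y.residue_surjective η c
  obtain ⟨⟨a, b⟩, hab⟩ := IsLocalization.surj (η : PrimeSpectrum V).asIdeal.primeCompl
    (S := (Spec.structureSheaf V).presheaf.stalk η) x
  have hb : (b : V) ≠ 0 := fun e => b.2 ((SetLike.ext_iff.mp hη _).mpr (e ▸ Submodule.zero_mem _))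
  have key : Y.residue η x * ε (b : V) = ε a := by
    rw [hε]
    exact ((map_mul (Y.residue η).hom _ _).symm.trans (congrArg (Y.residue η).hom hab) :)
  have hεb : ε (b : V) ≠ 0 := by
    rw [hε]
    exact ((IsLocalization.map_units ((Spec.structureSheaf V).presheaf.stalk η) b).map (Y.residue η).hom).ne_zero
  rcases ValuationRing.cond a (b : V) with ⟨q, hq | hq⟩
  · refine Or.inr ?_
    by_cases ha : ε a = 0
    · rw [show Y.residue η x = 0 from by
        refine (mul_eq_zero.mp (key.trans ha)).resolve_right hεb, inv_zero]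
      exact Subring.zero_mem _
    · refine ⟨StructureSheaf.toStalk V c₀ q, ?_⟩
      show ε q = _
      refine eq_inv_of_mul_eq_one_left ?_
      refine mul_right_cancel₀ hεb ?_
      rw [mul_assoc, key, one_mul, ← map_mul, mul_comm q a, hq]
  · refine Or.inl ⟨StructureSheaf.toStalk V c₀ q, ?_⟩
    show ε q = _
    refine mul_right_cancel₀ hεb ?_
    refine Eq.trans ?_ key.symm
    rw [← map_mul, mul_comm q, hq]

/-- Universal openness at a maximal point of its fibre: every generization of the image is the image of a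
generization whose closure in its fibre is at least as large. -/
theorem exists_generization_fdim_ge {X Y : Scheme.{u}} (f : X ⟶ Y) [LocallyOfFiniteType f] (x : X)
    (hmax : ∀ x' : X, f x' = f x → x' ⤳ x → x' = x) (hopen : EGA43.IsUnivOpenAt f x)
    {y' : Y} (hy' : y' ⤳ f x) :
    ∃ z, z ⤳ x ∧ f z = y' ∧ FlatMor.fibreDimAt f x ≤ fdim f z := by
  obtain ⟨A, hA, hAloc⟩ := IsLocalRing.exists_factor_valuationRing
    (Y.presheaf.stalkSpecializes hy' ≫ Y.residue y').hom
  let sA : Y.presheaf.stalk (f x) ⟶ CommRingCat.of A :=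
    CommRingCat.ofHom ((Y.presheaf.stalkSpecializes hy' ≫ Y.residue y').hom.codRestrict _ hA)
  let t : Spec (CommRingCat.of A) ⟶ Y := Spec.map sA ≫ Y.fromSpecStalk (f x)
  let c : Spec (CommRingCat.of A) := IsLocalRing.closedPoint A
  let η : Spec (CommRingCat.of A) := (⟨⊥, Ideal.isPrime_bot⟩ : PrimeSpectrum A)
  have htc : t c = f x := by
    show Y.fromSpecStalk (f x) (Spec.map sA c) = f x
    haveI : IsLocalHom sA.hom := hAloc
    rw [show Spec.map sA c = IsLocalRing.closedPoint (Y.presheaf.stalk (f x)) from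
      IsLocalRing.comap_closedPoint sA.hom]
    exact Y.fromSpecStalk_closedPoint
  have htη : t η = y' := by
    have e : Spec.map (CommRingCat.ofHom (algebraMap A (Y.residueField y'))) ≫ t =
        Y.fromSpecResidueField y' := by
      show Spec.map _ ≫ Spec.map sA ≫ Y.fromSpecStalk (f x) = _
      rw [← Spec.map_comp_assoc, Scheme.fromSpecResidueField,
        ← Scheme.SpecMap_stalkSpecializes_fromSpecStalk hy', ← Spec.map_comp_assoc]
      rfl
    refine Eq.trans ?_ (Scheme.fromSpecResidueField_apply y' (IsLocalRing.closedPoint (Y.residueField y')))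
    rw [← e, Scheme.Hom.comp_apply]
    refine congrArg t.base ?_
    refine PrimeSpectrum.ext ?_
    show (⊥ : Ideal A) = (IsLocalRing.maximalIdeal (Y.residueField y')).comap (algebraMap A (Y.residueField y'))
    rw [IsLocalRing.maximalIdeal_eq_bot, ← RingHom.ker_eq_comap_bot, (RingHom.injective_iff_ker_eq_bot _).mp
      (FaithfulSMul.algebraMap_injective A (Y.residueField y'))]
  let p := pullback.fst f t
  let fT := pullback.snd f t
  have sq := IsPullback.of_hasPullback f t
  obtain ⟨xT, hxT, hxTc⟩ := Scheme.Pullback.exists_preimage_pullback (f := f) (g := t) x c htc.symm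
  obtain ⟨ξ, hξs, hfξ, hξmax, hξd⟩ := Groth.L07.OpenEquiv.exists_maximal_fdim_eq fT xT
  have hpξ : p ξ = x := hmax (p ξ) (by
    rw [← Scheme.Hom.comp_apply p f, pullback.condition, Scheme.Hom.comp_apply, hfξ,
      show fT xT = c from hxTc, htc]) (hxT ▸ hξs.map p.continuous)
  have hopenT : EGA43.IsOpenAt fT.base ξ := Groth.L07.UnivOpenAt.of_isPullback sq hopen ξ hpξ
  obtain ⟨ζ, hζξ, hfζ⟩ := exists_generization fT ξ hopenT η rfl
  have hfd : fdim fT ξ ≤ fdim fT ζ := by
    obtain ⟨n, hn, hn'⟩ := DimToolkit.exists_fdim_rtrdeg fT ξ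
    obtain ⟨N, hN, hN'⟩ := DimToolkit.exists_fdim_rtrdeg fT ζ
    have := rtrdeg_le fT hζξ (fun c' => hV_spec (fT ζ) (fT ξ) (by rw [hfζ]) _ c')
    rw [hn', hN'] at this
    rw [hn, hN]
    exact_mod_cast (Nat.cast_le.mp this)
  obtain ⟨z, hz, hfz, -, hzd⟩ := Groth.L07.OpenEquiv.exists_maximal_fdim_eq f (p ζ)
  refine ⟨z, hz.trans (hpξ ▸ hζξ.map p.continuous), ?_, ?_⟩
  · rw [hfz, ← Scheme.Hom.comp_apply p f, pullback.condition, Scheme.Hom.comp_apply, hfζ, htη]
  · have h1 : fdim fT ξ = FlatMor.fibreDimAt f x := by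
      rw [hξd, Groth.L23.fibreDimAt_of_isPullback sq xT]
      exact congrArg (FlatMor.fibreDimAt f) hxT
    rw [← h1, hzd]
    exact hfd.trans ((fdim_le_fibreDimAt fT ζ).trans_eq (Groth.L23.fibreDimAt_of_isPullback sq ζ))

end Groth.L07.ValDim
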