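import Groth.Agent.L07.SectionCompFP
import Groth.Agent.L07.SectionCompDimConst
import Groth.Agent.L07.ValDim

/-!
Constancy of the dimension of section components of finitely presented morphisms (EGA IV 15.6.6).
-/

universe u

open CategoryTheory CategoryTheory.Limits AlgebraicGeometry Topology

namespace Groth.L07.SectionComp

set_option autoImplicit false
set_option linter.style.haveILetI false
set_option maxSynthPendingDepth 3
set_option backward.isDefEq.respectTransparency.types false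
set_option backward.isDefEq.respectTransparency false

variable {X Y : Scheme.{u}} (f : X ⟶ Y) (g : Y ⟶ X)

/-- The locus where the local fibre dimension along a section is at least `n` is a neighbourhood of a point as
soon as it contains its generizations. -/
theorem mem_nhds_le_fibreDimAt_section [LocallyOfFinitePresentation f] [QuasiCompact f] [QuasiSeparated f]
    (hg : g ≫ f = 𝟙 Y) (n : ℕ) (y₀ : Y) (hgen : ∀ z, z ⤳ y₀ → (n : WithBot ℕ∞) ≤ FlatMor.fibreDimAt f (g z)) :
    {z | (n : WithBot ℕ∞) ≤ FlatMor.fibreDimAt f (g z)} ∈ 𝓝 y₀ := by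
  rcases n with _ | m
  · refine Filter.univ_mem' fun z => ?_
    obtain ⟨k, hk⟩ := Groth.L07.OpenEquiv.exists_nat_fibreDimAt f (g z)
    show _ ≤ FlatMor.fibreDimAt f (g z)
    rw [hk]; exact_mod_cast Nat.zero_le k
  obtain ⟨U, hU, hyU, -⟩ := exists_isAffineOpen_mem_and_subset (X := Y) (x := y₀) (U := ⊤) trivial
  let i := hU.fromSpec
  let g' : Spec Γ(Y, U) ⟶ pullback f i :=
    pullback.lift (i ≫ g) (𝟙 _) (by rw [Category.assoc, hg, Category.comp_id, Category.id_comp])
  have hg' : g' ≫ pullback.snd f i = 𝟙 _ := pullback.lift_snd _ _ _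
  have hgp : g' ≫ pullback.fst f i = i ≫ g := pullback.lift_fst _ _ _
  obtain ⟨A₁, hA₁, X₁, f₁, q, g₁, h1, h2, hg₁, sq₁, hgq⟩ := exists_section_model (pullback.snd f i) g' hg'
  haveI := h1
  haveI : Algebra.FiniteType ℤ A₁ := A₁.fg_iff_finiteType.mp hA₁
  haveI : IsNoetherianRing A₁ := Algebra.FiniteType.isNoetherianRing ℤ A₁
  let π := Spec.map (CommRingCat.ofHom (algebraMap (↥A₁) Γ(Y, U)))
  have hdim : ∀ s, FlatMor.fibreDimAt f (g (i s)) = FlatMor.fibreDimAt f₁ (g₁ (π s)) := fun s => by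
    rw [← Scheme.Hom.comp_apply i g, ← hgp, Scheme.Hom.comp_apply,
      ← Groth.L23.fibreDimAt_of_isPullback (IsPullback.of_hasPullback f i) (g' s),
      ← Scheme.Hom.comp_apply π g₁, ← hgq, Scheme.Hom.comp_apply]
    exact Groth.L23.fibreDimAt_of_isPullback sq₁ (g' s)
  let F₁ : Set (PrimeSpectrum A₁) := g₁.base ⁻¹' {x | FlatMor.fibreDimAt f₁ x ≤ (m : WithBot ℕ∞)}
  have hF₁o : IsOpen F₁ := (Groth.L07.FibreDim.isOpen_fibreDimAt_le f₁ m).preimage g₁.continuous
  have hF₁ : IsConstructible F₁ :=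
    IsRetrocompact.isConstructible hF₁o (fun T _ _ => TopologicalSpace.NoetherianSpace.isCompact _)
  let E : Set (PrimeSpectrum Γ(Y, U)) := (π.base ⁻¹' F₁)ᶜ
  have hE : IsConstructible E := (π.isConstructible_preimage hF₁).compl
  obtain ⟨s₀, hs₀⟩ : y₀ ∈ Set.range i := by rw [hU.range_fromSpec]; exact hyU
  have hmemE : ∀ s, s ∈ E ↔ ((m + 1 : ℕ) : WithBot ℕ∞) ≤ FlatMor.fibreDimAt f (g (i s)) := fun s => by
    rw [hdim]
    obtain ⟨k, hk⟩ := Groth.L07.OpenEquiv.exists_nat_fibreDimAt f₁ (g₁ (π s))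
    show ¬ FlatMor.fibreDimAt f₁ (g₁ (π s)) ≤ (m : WithBot ℕ∞) ↔ _
    rw [hk]
    norm_cast
    omega
  have hnhds : E ∈ 𝓝 s₀ := Groth.L07.UnivOpenAt.mem_nhds_of_isConstructible hE fun s hs => by
    rw [hmemE]
    exact hgen _ (hs₀ ▸ hs.map i.continuous)
  refine Filter.mem_of_superset (hs₀ ▸ i.isOpenEmbedding.isOpenMap.image_mem_nhds hnhds) ?_
  rintro _ ⟨s, hs, rfl⟩
  exact (hmemE s).mp hs

/-- Constancy of the dimension of the section components near a point where the morphism is universally open at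
the generic point of its component. -/
theorem dim_const_nhds_fp [LocallyOfFinitePresentation f] [QuasiCompact f] [QuasiSeparated f] (hg : g ≫ f = 𝟙 Y)
    (hgi : ∀ (y : Y) (K : Type u) [Field K] [Algebra (IsLocalRing.ResidueField (Y.presheaf.stalk y)) K],
      IsIrreducible ((FBase.bcπ (f.fiberToSpecResidueField y) K ≫ f.fiberι y).base ⁻¹'
        connectedComponentIn (f.base ⁻¹' {y}) (g.base y)))
    (y₀ : Y)
    (hopen : ∀ ξ ∈ connectedComponentIn (f.base ⁻¹' {y₀}) (g.base y₀),
      connectedComponentIn (f.base ⁻¹' {y₀}) (g.base y₀) ⊆ closure {ξ} → EGA43.IsUnivOpenAt f ξ)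
    (hαβ : (FBase.IsGeomReducedAt (f.fiberToSpecResidueField (f.base (g.base y₀))) (f.asFiber (g.base y₀)) ∧
        IsNoetherianRing (Y.presheaf.stalk y₀)) ∨
      (∀ y' : Y, y₀ ∈ closure {y'} → closure {y'} ∈ irreducibleComponents (Y : Type u) →
        topologicalKrullDim ↥(f.fiber y') = topologicalKrullDim ↥(connectedComponentIn (f.base ⁻¹' {y'}) (g.base y')))) :
    ∃ V ∈ 𝓝 y₀, ∀ z ∈ V, topologicalKrullDim ↥(connectedComponentIn (f.base ⁻¹' {z}) (g.base z)) =
      topologicalKrullDim ↥(connectedComponentIn (f.base ⁻¹' {y₀}) (g.base y₀)) := by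
  have hirr : ∀ y, IsIrreducible (connectedComponentIn (f.base ⁻¹' {y}) (g.base y)) := fun y =>
    isIrreducible_of_geom f g y (hgi y)
  have hψeq : ∀ y, topologicalKrullDim ↥(connectedComponentIn (f.base ⁻¹' {y}) (g.base y)) =
      FlatMor.fibreDimAt f (g y) := fun y => dim_eq_fibreDimAt_section f g hg (hirr y)
  obtain ⟨n, hn⟩ := Groth.L07.OpenEquiv.exists_nat_fibreDimAt f (g y₀)
  have hgen : ∀ y', y' ⤳ y₀ → (n : WithBot ℕ∞) ≤ FlatMor.fibreDimAt f (g y') := by
    intro y' hy'
    rcases hαβ with ⟨hα, hnoeth⟩ | hβ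
    · haveI := hnoeth
      let j := Y.fromSpecStalk y₀
      let g' : Spec (Y.presheaf.stalk y₀) ⟶ pullback f j :=
        pullback.lift (j ≫ g) (𝟙 _) (by rw [Category.assoc, hg, Category.comp_id, Category.id_comp])
      have hg' : g' ≫ pullback.snd f j = 𝟙 _ := pullback.lift_snd _ _ _
      have hgp : g' ≫ pullback.fst f j = j ≫ g := pullback.lift_fst _ _ _
      have sq := IsPullback.of_hasPullback f j
      let c : Spec (Y.presheaf.stalk y₀) := IsLocalRing.closedPoint (Y.presheaf.stalk y₀)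
      have hjc : j.base c = y₀ := Y.fromSpecStalk_closedPoint
      obtain ⟨hec, -, -⟩ := baseChange_geom f g sq g' hg hg' hgp c (hgi _)
      obtain ⟨V, hV, hVc⟩ := dim_const_nhds (pullback.snd f j) g' hg'
        (fun s => (geomIrredAt_iff _ g' s).mp
          ((geomIrredAt_baseChange_iff f g sq g' hg hg' hgp s).mpr ((geomIrredAt_iff f g _).mpr (hgi _))))
        c (fun ξ hξ hξcl => by
          rw [hec] at hξ hξcl
          refine Groth.L07.UnivOpenAt.baseChange sq (hopen _ (by
            have h := hξ.1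
            rw [Set.mem_preimage, hjc] at h
            exact h) fun w hw => ?_) ξ rfl
          have hfw : f w = y₀ := connectedComponentIn_subset (f.base ⁻¹' {y₀}) (g.base y₀) hw
          obtain ⟨b, hb1, hb2⟩ := Scheme.Pullback.exists_preimage_pullback (f := f) (g := j) w c (hfw.trans hjc.symm)
          have hbξ : ξ ⤳ b := specializes_iff_mem_closure.mpr (hξcl ⟨by
            show (pullback.fst f j).base b ∈ connectedComponentIn (f.base ⁻¹' {j.base c}) (g.base (j.base c))
            rw [hb1, hjc]; exact hw, hb2⟩)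
          exact hb1 ▸ (hbξ.map (pullback.fst f j).continuous).mem_closure)
        (Or.inl (by
          rw [isGeomReducedAt_iff_of_isPullback sq (g' c), ← Scheme.Hom.comp_apply g' (pullback.fst f j), hgp,
            Scheme.Hom.comp_apply, hjc]
          exact hα))
      obtain ⟨s, hs⟩ : y' ∈ Set.range j := by rw [Y.range_fromSpecStalk]; exact hy'
      have hsc : s ⤳ c := IsLocalRing.specializes_closedPoint _
      have hd := hVc s (mem_of_mem_nhds (hsc hV))
      rw [(baseChange_geom f g sq g' hg hg' hgp s (hgi _)).2.2, (baseChange_geom f g sq g' hg hg' hgp c (hgi _)).2.2,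
        hψeq, hψeq, show j.base s = y' from hs, hjc, hn] at hd
      exact hd.ge
    · obtain ⟨m, hm, hmy⟩ := Groth.L22.GeomConn.exists_isMaxPt_specializes y'
      have hmd := hβ m (specializes_iff_mem_closure.mp (hmy.trans hy'))
        (Groth.L22.GeomConn.closure_mem_irreducibleComponents hm)
      obtain ⟨ξ, hfξ, hCe, hξC, hsp⟩ := exists_generic f g (hirr y₀)
      have hξmax : ∀ z, f z = f ξ → z ⤳ ξ → z = ξ := fun z hfz hzξ =>
        (hzξ.antisymm (hsp z ξ hξC hzξ (hfz.trans hfξ))).eq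
      obtain ⟨z, -, hfz, hle⟩ := Groth.L07.ValDim.exists_generization_fdim_ge f ξ hξmax
        (hopen ξ hξC (hCe ▸ Set.inter_subset_left)) (hfξ.symm ▸ hmy.trans hy')
      have h1 : (n : WithBot ℕ∞) ≤ Groth.L07.Equidim.fdim f z := by
        rwa [← dim_eq_fibreDimAt f g (hirr y₀) hξC, hψeq, hn] at hle
      obtain ⟨c, rfl⟩ : z ∈ Set.range (f.fiberι m) := by rw [f.range_fiberι]; exact hfz
      rw [Groth.L07.Equidim.fdim_fiberι] at h1
      have h2 := h1.trans (topologicalKrullDim_subspace_le ↥(f.fiber m) (closure {c}))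
      rw [hmd, hψeq] at h2
      obtain ⟨k, hk⟩ := Groth.L07.OpenEquiv.exists_nat_fibreDimAt f (g y')
      rw [hk]
      exact h2.trans ((hmy.map g.continuous).mem_open (Groth.L07.FibreDim.isOpen_fibreDimAt_le f k) hk.le)
  refine ⟨_, Filter.inter_mem (mem_nhds_le_fibreDimAt_section f g hg n y₀ hgen)
    (((Groth.L07.FibreDim.isOpen_fibreDimAt_le f n).preimage g.continuous).mem_nhds hn.le), fun z hz => ?_⟩
  rw [hψeq, hψeq, hn]
  exact le_antisymm hz.2 hz.1

end Groth.L07.SectionComp
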