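import Groth.Agent.L07.DimToolkit
import Groth.Agent.L07.DimSub
import Groth.Agent.L07.UnivOpenFibre
import Groth.Agent.L04.SupportSh.Components
import Groth.Prelude.Def_MoreMor
import Groth.Prelude.Def_FDesc

/-!
Connected components of fibres along a section, and the dimensions of these (EGA IV 15.6).
-/

universe u

open CategoryTheory CategoryTheory.Limits AlgebraicGeometry Topology TopologicalSpace

namespace Groth.L07.SectionComp

set_option autoImplicit false
set_option linter.style.haveILetI false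
set_option maxSynthPendingDepth 3
set_option backward.isDefEq.respectTransparency.types false
set_option backward.isDefEq.respectTransparency false

open Groth.L22 Groth.L07.Equidim

variable {X Y : Scheme.{u}} (f : X ⟶ Y) (g : Y ⟶ X)

theorem apply_section (hg : g ≫ f = 𝟙 Y) (y : Y) : f (g y) = y := by
  rw [← Scheme.Hom.comp_apply, hg]; rfl

theorem mem_comp (hg : g ≫ f = 𝟙 Y) (y : Y) : g y ∈ connectedComponentIn (f.base ⁻¹' {y}) (g.base y) :=
  mem_connectedComponentIn (apply_section f g hg y)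

theorem apply_of_mem {y : Y} {x : X} (h : x ∈ connectedComponentIn (f.base ⁻¹' {y}) (g.base y)) : f x = y := by
  exact connectedComponentIn_subset (f.base ⁻¹' {y}) _ h

theorem mem_sectionComponents_iff {y : Y} {x : X} (hx : f x = y) :
    x ∈ MoreMor.sectionComponents f g ↔ x ∈ connectedComponentIn (f.base ⁻¹' {y}) (g.base y) := by
  subst hx; rfl

theorem mem_of_mem_sectionComponents {x : X} (h : x ∈ MoreMor.sectionComponents f g) :
    x ∈ connectedComponentIn (f.base ⁻¹' {f x}) (g.base (f x)) := h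

theorem mem_of_preconnected {y : Y} {x : X} (hx : x ∈ connectedComponentIn (f.base ⁻¹' {y}) (g.base y))
    (S : Set X) (hS : _root_.IsPreconnected S) (hxS : x ∈ S) (hSy : S ⊆ f.base ⁻¹' {y}) :
    S ⊆ connectedComponentIn (f.base ⁻¹' {y}) (g.base y) := by
  rw [connectedComponentIn_eq hx]
  exact hS.subset_connectedComponentIn hxS hSy

theorem closure_inter_fibre (x : X) :
    closure ({x} : Set X) ∩ f.base ⁻¹' {f x} = (f.fiberι (f x)).base '' closure {f.asFiber x} := by
  rw [(f.fiberι (f x)).isEmbedding.isInducing.closure_eq_preimage_closure_image,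
    Set.image_preimage_eq_inter_range, Set.image_singleton, f.fiberι_asFiber, f.range_fiberι]

theorem isIrreducible_closure_inter_fibre (x : X) : IsIrreducible (closure ({x} : Set X) ∩ f.base ⁻¹' {f x}) := by
  rw [closure_inter_fibre]
  exact isIrreducible_singleton.closure.image _ (Scheme.Hom.continuous _).continuousOn

theorem mem_of_specializes {y : Y} {z x : X} (hzx : z ⤳ x) (hfz : f z = y) (hfx : f x = y) :
    (x ∈ connectedComponentIn (f.base ⁻¹' {y}) (g.base y) ↔ z ∈ connectedComponentIn (f.base ⁻¹' {y}) (g.base y)) := by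
  subst hfz
  have hS := (isIrreducible_closure_inter_fibre f z).isPreirreducible.isPreconnected
  have hz : z ∈ closure ({z} : Set X) ∩ f.base ⁻¹' {f z} := ⟨subset_closure rfl, rfl⟩
  have hx : x ∈ closure ({z} : Set X) ∩ f.base ⁻¹' {f z} := ⟨specializes_iff_mem_closure.mp hzx, hfx⟩
  exact ⟨fun h => mem_of_preconnected f g h _ hS hx Set.inter_subset_right hz,
    fun h => mem_of_preconnected f g h _ hS hz Set.inter_subset_right hx⟩

theorem closure_inter_subset {y : Y} {z : X} (hz : z ∈ connectedComponentIn (f.base ⁻¹' {y}) (g.base y)) :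
    closure ({z} : Set X) ∩ f.base ⁻¹' {f z} ⊆ connectedComponentIn (f.base ⁻¹' {y}) (g.base y) := by
  rintro w ⟨hw, hwz⟩
  exact (mem_of_specializes f g (specializes_iff_mem_closure.mpr hw) (apply_of_mem f g hz)
    (hwz.trans (apply_of_mem f g hz))).mpr hz

theorem fdim_le_dim {y : Y} {z : X} (hz : z ∈ connectedComponentIn (f.base ⁻¹' {y}) (g.base y)) :
    fdim f z ≤ topologicalKrullDim ↥(connectedComponentIn (f.base ⁻¹' {y}) (g.base y)) :=
  SchemeDim.topologicalKrullDim_mono (closure_inter_subset f g hz)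

/-- The generic point of an irreducible section component. -/
theorem exists_generic {y : Y} (hC : IsIrreducible (connectedComponentIn (f.base ⁻¹' {y}) (g.base y))) :
    ∃ ξ, f ξ = y ∧ connectedComponentIn (f.base ⁻¹' {y}) (g.base y) = closure ({ξ} : Set X) ∩ f.base ⁻¹' {y} ∧
      ξ ∈ connectedComponentIn (f.base ⁻¹' {y}) (g.base y) ∧
      ∀ z x, x ∈ connectedComponentIn (f.base ⁻¹' {y}) (g.base y) → z ⤳ x → f z = y → ξ ⤳ z := by
  set C := connectedComponentIn (f.base ⁻¹' {y}) (g.base y) with hCdef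
  obtain ⟨ξ, hξ⟩ := QuasiSober.sober hC.closure isClosed_closure
  have hsp : ∀ x ∈ C, ξ ⤳ x := fun x hx => hξ.specializes (subset_closure hx)
  obtain ⟨x, hx⟩ := hC.nonempty
  have hfξ : f ξ = y := by
    have h1 : f ξ ⤳ y := apply_of_mem f g hx ▸ (hsp x hx).map f.continuous
    have h2 : closure C ⊆ f.base ⁻¹' closure {y} :=
      closure_minimal (fun w hw => subset_closure (apply_of_mem f g hw)) (isClosed_closure.preimage f.continuous)
    exact (h1.antisymm (specializes_iff_mem_closure.mpr (h2 hξ.mem))).eq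
  have hξC : ξ ∈ C := (mem_of_specializes f g (hsp x hx) hfξ (apply_of_mem f g hx)).mp hx
  refine ⟨ξ, hfξ, Set.Subset.antisymm (fun w hw => ⟨specializes_iff_mem_closure.mp (hsp w hw), apply_of_mem f g hw⟩)
    ?_, hξC, fun z w hw hzw hfz => hsp z ((mem_of_specializes f g hzw hfz (apply_of_mem f g hw)).mp hw)⟩
  have h := closure_inter_subset f g hξC
  rwa [hfξ] at h

/-- An irreducible section component has the local dimension of the fibre at each of its points. -/
theorem dim_eq_fibreDimAt [LocallyOfFiniteType f] {y : Y}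
    (hC : IsIrreducible (connectedComponentIn (f.base ⁻¹' {y}) (g.base y))) {x : X}
    (hx : x ∈ connectedComponentIn (f.base ⁻¹' {y}) (g.base y)) :
    topologicalKrullDim ↥(connectedComponentIn (f.base ⁻¹' {y}) (g.base y)) = FlatMor.fibreDimAt f x := by
  obtain ⟨ξ, hfξ, hCe, hξC, hsp⟩ := exists_generic f g hC
  obtain ⟨z, hzx, hfz, hzmax, hzd⟩ := Groth.L07.OpenEquiv.exists_maximal_fdim_eq f x
  have hfzy : f z = y := hfz.trans (apply_of_mem f g hx)
  obtain rfl : ξ = z := hzmax ξ (hfξ.trans hfzy.symm) (hsp z x hx hzx hfzy)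
  rw [hCe, ← hzd, fdim, ← hfzy]

theorem dim_eq_fibreDimAt_section [LocallyOfFiniteType f] (hg : g ≫ f = 𝟙 Y) {y : Y}
    (hC : IsIrreducible (connectedComponentIn (f.base ⁻¹' {y}) (g.base y))) :
    topologicalKrullDim ↥(connectedComponentIn (f.base ⁻¹' {y}) (g.base y)) = FlatMor.fibreDimAt f (g y) :=
  dim_eq_fibreDimAt f g hC (mem_comp f g hg y)

/-- The dimension of irreducible section components is upper semicontinuous. -/
theorem upperSemicontinuous_dim [LocallyOfFiniteType f] (hg : g ≫ f = 𝟙 Y)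
    (hirr : ∀ y : Y, IsIrreducible (connectedComponentIn (f.base ⁻¹' {y}) (g.base y))) :
    UpperSemicontinuous (fun y : Y => topologicalKrullDim ↥(connectedComponentIn (f.base ⁻¹' {y}) (g.base y))) := by
  rw [upperSemicontinuous_iff_isOpen_preimage]
  intro a
  refine isOpen_iff_forall_mem_open.mpr fun y hy => ?_
  obtain ⟨n, hn⟩ := Groth.L07.OpenEquiv.exists_nat_fibreDimAt f (g y)
  refine ⟨g.base ⁻¹' {x | FlatMor.fibreDimAt f x ≤ n}, fun w hw => ?_,
    (Groth.L07.FibreDim.isOpen_fibreDimAt_le f n).preimage g.continuous, hn.le⟩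
  show topologicalKrullDim ↥(connectedComponentIn (f.base ⁻¹' {w}) (g.base w)) < a
  rw [dim_eq_fibreDimAt_section f g hg (hirr w)]
  refine lt_of_le_of_lt (hw : FlatMor.fibreDimAt f (g w) ≤ n) ?_
  rw [← hn, ← dim_eq_fibreDimAt_section f g hg (hirr y)]
  exact hy

/-- Specialisation of the dimension of section components. -/
theorem dim_le_of_specializes [LocallyOfFiniteType f] (hg : g ≫ f = 𝟙 Y) {y y' : Y} (hy : y' ⤳ y) {ζ : X}
    (hζg : ζ ⤳ g y') :
    ∃ z, ζ ⤳ z ∧ z ∈ connectedComponentIn (f.base ⁻¹' {y}) (g.base y) ∧ fdim f ζ ≤ fdim f z := by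
  let W : Closeds X := ⟨closure {ζ}, isClosed_closure⟩
  let i := (Scheme.IdealSheafData.vanishingIdeal W).subschemeι
  have hr : ∀ x, ζ ⤳ x → ∃ w, i w = x := fun x hx =>
    (Groth.L07.DimToolkit.range_subschemeι_vanishingIdeal W).ge (specializes_iff_mem_closure.mp hx)
  have hsp : ∀ w, ζ ⤳ i w := fun w => specializes_iff_mem_closure.mpr
    ((Groth.L07.DimToolkit.range_subschemeι_vanishingIdeal W).le ⟨w, rfl⟩)
  obtain ⟨ζ₀, hζ₀⟩ := hr ζ (specializes_refl _)
  obtain ⟨w₀, hw₀⟩ := hr (g y) (hζg.trans (hy.map g.continuous))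
  let f' := i ≫ f
  have hf' : ∀ w, f' w = f (i w) := fun w => Scheme.Hom.comp_apply _ _ _
  have hmax₀ : ∀ w, f' w = f' ζ₀ → w ⤳ ζ₀ → w = ζ₀ := fun w _ hw =>
    ((i.isEmbedding.isInducing.specializes_iff.mp (by rw [hζ₀]; exact hsp w)).antisymm hw).eq.symm
  have hd : fdim f ζ = FlatMor.fibreDimAt f' ζ₀ := by
    rw [← Groth.L07.OpenFibreDim.fdim_eq_fibreDimAt f' ζ₀ hmax₀, fdim_comp i f f' rfl, hζ₀]
  obtain ⟨m, hm⟩ := Groth.L07.OpenEquiv.exists_nat_fibreDimAt f' w₀
  have hle : FlatMor.fibreDimAt f' ζ₀ ≤ FlatMor.fibreDimAt f' w₀ := by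
    have hs : ζ₀ ⤳ w₀ := i.isEmbedding.isInducing.specializes_iff.mp (by rw [hζ₀]; exact hsp w₀)
    rw [hm]
    exact hs.mem_open (Groth.L07.FibreDim.isOpen_fibreDimAt_le f' m) hm.le
  obtain ⟨z, hz, hfz, -, hzd⟩ := Groth.L07.OpenEquiv.exists_maximal_fdim_eq f' w₀
  have hfw₀ : f' w₀ = y := by rw [hf', hw₀, apply_section f g hg]
  refine ⟨i z, hsp z, ?_, ?_⟩
  · refine (mem_of_specializes f g (hw₀ ▸ hz.map i.continuous) ?_ (apply_section f g hg y)).mp (mem_comp f g hg y)
    rw [← hf', hfz, hfw₀]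
  · rw [← fdim_comp i f f' rfl, hzd, hd]
    exact hle

/-- Irreducibility from geometric irreducibility. -/
theorem isIrreducible_of_geom (y : Y)
    (h : ∀ (K : Type u) [Field K] [Algebra (IsLocalRing.ResidueField (Y.presheaf.stalk y)) K],
      IsIrreducible ((FBase.bcπ (f.fiberToSpecResidueField y) K ≫ f.fiberι y).base ⁻¹'
        connectedComponentIn (f.base ⁻¹' {y}) (g.base y))) :
    IsIrreducible (connectedComponentIn (f.base ⁻¹' {y}) (g.base y)) := by
  let k : Type u := IsLocalRing.ResidueField (Y.presheaf.stalk y)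
  have hirr := h k
  let π := FBase.bcπ (f.fiberToSpecResidueField y) k
  haveI : IsIso (Spec.map (CommRingCat.ofHom (algebraMap k k))) := by
    rw [show CommRingCat.ofHom (algebraMap k k) = 𝟙 (CommRingCat.of k) from rfl, Spec.map_id]
    infer_instance
  haveI : IsIso π := by show IsIso (FBase.bcπ _ _); unfold FBase.bcπ; infer_instance
  have hsurj : Function.Surjective π.base := π.homeomorph.surjective
  have := hirr.image (π ≫ f.fiberι y).base (Scheme.Hom.continuous _).continuousOn
  rwa [Set.image_preimage_eq_of_subset (by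
    rw [Scheme.Hom.comp_base, TopCat.coe_comp, hsurj.range_comp, f.range_fiberι]
    exact connectedComponentIn_subset _ _)] at this

/-- An irreducible section component of the same dimension lies in the closure of that of a generisation. -/
theorem subset_closure_of_dim_le [LocallyOfFiniteType f] (hg : g ≫ f = 𝟙 Y) {y y' : Y} (hy : y' ⤳ y) {ζ : X}
    (hζg : ζ ⤳ g y') (hC : IsIrreducible (connectedComponentIn (f.base ⁻¹' {y}) (g.base y)))
    (hd : topologicalKrullDim ↥(connectedComponentIn (f.base ⁻¹' {y}) (g.base y)) ≤ fdim f ζ) :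
    connectedComponentIn (f.base ⁻¹' {y}) (g.base y) ⊆ closure ({ζ} : Set X) := by
  obtain ⟨z, hζz, hz, hle⟩ := dim_le_of_specializes f g hg hy hζg
  obtain ⟨ξ, hfξ, hCe, -, hsp⟩ := exists_generic f g hC
  have hfz := apply_of_mem f g hz
  have hmax := Groth.L07.DimToolkit.maximal_of_fdim f z (le_antisymm (fdim_le_fibreDimAt f z)
    ((dim_eq_fibreDimAt f g hC hz).ge.trans (hd.trans hle)))
  obtain rfl : ξ = z := hmax ξ (hfξ.trans hfz.symm) (hsp z z hz (specializes_refl z) hfz)
  rw [hCe]
  exact Set.inter_subset_left.trans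
    (closure_minimal (Set.singleton_subset_iff.mpr (specializes_iff_mem_closure.mp hζz)) isClosed_closure)

/-- The generic point of a fibre component. -/
theorem exists_generic_of_maximal (y : Y) (Z : Set X) (hZy : Z ⊆ f.base ⁻¹' {y}) (hZ : IsIrreducible Z)
    (hmax : ∀ Z' : Set X, IsIrreducible Z' → Z' ⊆ f.base ⁻¹' {y} → Z ⊆ Z' → Z' = Z) :
    ∃ ζ, f ζ = y ∧ (∀ x ∈ Z, ζ ⤳ x) ∧ Z = closure ({ζ} : Set X) ∩ f.base ⁻¹' {f ζ} := by
  obtain ⟨ζ, hζ⟩ := QuasiSober.sober hZ.closure isClosed_closure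
  have hsp : ∀ x ∈ Z, ζ ⤳ x := fun x hx => hζ.specializes (subset_closure hx)
  obtain ⟨x, hx⟩ := hZ.nonempty
  have hfζ : f ζ = y := by
    have h1 : f ζ ⤳ y := (show f x = y from hZy hx) ▸ (hsp x hx).map f.continuous
    have h2 : closure Z ⊆ f.base ⁻¹' closure {y} :=
      closure_minimal (fun w hw => subset_closure (hZy hw)) (isClosed_closure.preimage f.continuous)
    exact (h1.antisymm (specializes_iff_mem_closure.mpr (h2 hζ.mem))).eq
  refine ⟨ζ, hfζ, hsp, (hmax _ (isIrreducible_closure_inter_fibre f ζ) (by rw [hfζ]; exact Set.inter_subset_right)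
    fun w hw => ⟨specializes_iff_mem_closure.mp (hsp w hw), (hZy hw).trans hfζ.symm⟩).symm⟩

end Groth.L07.SectionComp
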