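import Groth.Agent.L19.MonoValuative
import Groth.Agent.L16.Chow.Core
import Groth.Agent.L16.Chow.Affine
import Mathlib.AlgebraicGeometry.Noetherian

/-! Properness near a point of a locally Noetherian base by discrete valuation rings. -/

set_option autoImplicit false
set_option backward.isDefEq.respectTransparency.types false
set_option linter.style.haveILetI false
set_option maxSynthPendingDepth 3

universe u

open CategoryTheory CategoryTheory.Limits AlgebraicGeometry Topology IsLocalRing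

set_option backward.isDefEq.respectTransparency false

namespace Groth.L07.DVRProper

/-- Discrete valuation rings realise specializations, with the given generic point. -/
theorem exists_dvr_through' {X' : Scheme.{u}} [IsLocallyNoetherian X'] {x₀ x₁ : X'} (h : x₁ ⤳ x₀)
    (hne : x₁ ≠ x₀) :
    ∃ (W : ValuationSubring (X'.residueField x₁)) (t : Spec (CommRingCat.of W) ⟶ X'),
      IsDiscreteValuationRing W ∧ t (closedPoint W) = x₀ ∧
        Spec.map (CommRingCat.ofHom W.subtype) ≫ t = X'.fromSpecResidueField x₁ := by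
  let ψ : X'.presheaf.stalk x₀ ⟶ X'.residueField x₁ :=
    X'.presheaf.stalkSpecializes h ≫ X'.residue x₁
  have hψ : Spec.map ψ ≫ X'.fromSpecStalk x₀ = X'.fromSpecResidueField x₁ := by
    rw [Scheme.fromSpecResidueField, Spec.map_comp, Category.assoc,
      Scheme.SpecMap_stalkSpecializes_fromSpecStalk h]
  let _ : Algebra (X'.presheaf.stalk x₀) (X'.residueField x₁) := ψ.hom.toAlgebra
  have hgen : Subfield.closure (Set.range (algebraMap (X'.presheaf.stalk x₀) (X'.residueField x₁)) ∪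
      ∅) = ⊤ := by
    obtain ⟨_, ⟨U, hU, rfl⟩, hx₀, -⟩ :=
      X'.isBasis_affineOpens.exists_subset_of_mem_open (Set.mem_univ x₀) isOpen_univ
    replace hU : IsAffineOpen U := hU
    have hx₁ : x₁ ∈ U := h.mem_open U.2 hx₀
    let _ := (X'.presheaf.algebra_section_stalk ⟨x₁, hx₁⟩)
    have hloc := hU.isLocalization_stalk ⟨x₁, hx₁⟩
    have himg : ∀ a : Γ(X', U), X'.residue x₁ (X'.presheaf.germ U x₁ hx₁ a) ∈
        Subfield.closure (Set.range (algebraMap (X'.presheaf.stalk x₀) (X'.residueField x₁)) ∪ ∅) := by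
      intro a
      refine Subfield.subset_closure (Or.inl ⟨X'.presheaf.germ U x₀ hx₀ a, ?_⟩)
      exact congrArg (X'.residue x₁).hom
        (congr($(X'.presheaf.germ_stalkSpecializes (U := U) hx₀ h) a))
    refine eq_top_iff.mpr fun z _ => ?_
    obtain ⟨s, rfl⟩ := residue_surjective z
    obtain ⟨⟨a, d⟩, he⟩ := IsLocalization.surj (hU.primeIdealOf ⟨x₁, hx₁⟩).asIdeal.primeCompl s
    have hd : IsUnit (X'.presheaf.germ U x₁ hx₁ (d : Γ(X', U))) :=
      IsLocalization.map_units _ d
    have h' := congrArg (X'.residue x₁).hom he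
    rw [map_mul] at h'
    have : (X'.residue x₁).hom s = (X'.residue x₁).hom (X'.presheaf.germ U x₁ hx₁ a) /
        (X'.residue x₁).hom (X'.presheaf.germ U x₁ hx₁ (d : Γ(X', U))) :=
      (eq_div_iff (hd.map (X'.residue x₁).hom).ne_zero).mpr h'
    exact this ▸ div_mem (himg a) (himg _)
  have hker : RingHom.ker (algebraMap (X'.presheaf.stalk x₀) (X'.residueField x₁)) ≠
      maximalIdeal _ := by
    intro hk
    refine hne ?_
    have h1 := congr($hψ (closedPoint (X'.residueField x₁)))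
    rw [Scheme.Hom.comp_apply, Scheme.fromSpecResidueField_apply] at h1
    rw [← h1]
    have h2 : Spec.map ψ (closedPoint (X'.residueField x₁)) = closedPoint (X'.presheaf.stalk x₀) := by
      refine PrimeSpectrum.ext ?_
      show (maximalIdeal (X'.residueField x₁)).comap ψ.hom = maximalIdeal _
      rw [isField_iff_maximalIdeal_eq.mp (Field.toIsField (X'.residueField x₁)), ← RingHom.ker_eq_comap_bot]
      exact hk
    rw [h2, Scheme.fromSpecStalk_closedPoint]
  obtain ⟨W, hW, hmem, hval⟩ :=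
    Groth.L18.exists_isDiscreteValuationRing_dominating Set.finite_empty hgen hker
  let φ : X'.presheaf.stalk x₀ →+* W := ψ.hom.codRestrict W.toSubring hmem
  have hloc : IsLocalHom φ := by
    refine ⟨fun a ha => ?_⟩
    by_contra hna
    have h1 := hval a hna
    rw [← W.valuation_lt_one_iff ⟨_, hmem a⟩] at h1
    exact h1 ha
  refine ⟨W, Spec.map (CommRingCat.ofHom φ) ≫ X'.fromSpecStalk x₀, hW, ?_, ?_⟩
  · rw [Groth.L18.apply_closedPoint_of_isLocalHom]
    exact X'.fromSpecStalk_closedPoint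
  · rw [← Spec.map_comp_assoc, show CommRingCat.ofHom φ ≫ CommRingCat.ofHom W.subtype = ψ from rfl,
      hψ]

/-- A preimmersion of the spectrum of a field identifies the residue field. -/
theorem exists_residueField_bijective {K : Type u} [Field K] {P : Scheme.{u}}
    (c : Spec (CommRingCat.of K) ⟶ P) [IsPreimmersion c] :
    ∃ r : P.residueField (c (closedPoint K)) ⟶ CommRingCat.of K,
      Spec.map r ≫ P.fromSpecResidueField (c (closedPoint K)) = c ∧ Function.Bijective r.hom := by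
  refine ⟨Scheme.descResidueField (Scheme.stalkClosedPointTo c),
    Scheme.descResidueField_stalkClosedPointTo_fromSpecResidueField _ _ _, RingHom.injective _, fun v => ?_⟩
  obtain ⟨d, hd⟩ := c.stalkMap_surjective (closedPoint K) ((AlgebraicGeometry.stalkClosedPointIso (CommRingCat.of K)).inv v)
  refine ⟨P.residue (c (closedPoint K)) d, ?_⟩
  refine (congr($(Scheme.residue_descResidueField (Scheme.stalkClosedPointTo c)) d)).trans ?_
  show (c.stalkMap (closedPoint K) ≫ (AlgebraicGeometry.stalkClosedPointIso (CommRingCat.of K)).hom) d = v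
  rw [CommRingCat.comp_apply, hd, ← CommRingCat.comp_apply, Iso.inv_hom_id, CommRingCat.id_apply]

/-- Existence of lifts along universally closed morphisms. -/
theorem exists_lift {X Y : Scheme.{u}} (f : X ⟶ Y) [UniversallyClosed f] {K : Type u} [Field K]
    (W : ValuationSubring K) (a : Spec (CommRingCat.of K) ⟶ X) (g : Spec (CommRingCat.of W) ⟶ Y)
    (h : a ≫ f = Spec.map (CommRingCat.ofHom W.subtype) ≫ g) :
    ∃ l : Spec (CommRingCat.of W) ⟶ X, Spec.map (CommRingCat.ofHom W.subtype) ≫ l = a ∧ l ≫ f = g := by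
  have hex : ValuativeCriterion.Existence f := by
    have h1 : (@UniversallyClosed : MorphismProperty Scheme.{u}) f := inferInstance
    rw [UniversallyClosed.eq_valuativeCriterion] at h1
    exact h1.1
  obtain ⟨⟨l, h1, h2⟩⟩ := hex { R := W, K := K, i₁ := a, i₂ := g, commSq := ⟨h⟩ }
  exact ⟨l, h1, h2⟩

/-- A morphism from a valuation ring to a separated morphism is determined by its generic point. -/
theorem ext_of_generic {X Y : Scheme.{u}} (f : X ⟶ Y) [IsSeparated f] {K : Type u} [Field K]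
    {W : ValuationSubring K} (g₁ g₂ : Spec (CommRingCat.of W) ⟶ X) (hf : g₁ ≫ f = g₂ ≫ f)
    (h : Spec.map (CommRingCat.ofHom W.subtype) ≫ g₁ = Spec.map (CommRingCat.ofHom W.subtype) ≫ g₂) :
    g₁ = g₂ := by
  let S : ValuativeCommSq f :=
    ⟨W, K, Spec.map (CommRingCat.ofHom W.subtype) ≫ g₁, g₁ ≫ f, ⟨Category.assoc _ _ _⟩⟩
  exact congrArg CommSq.LiftStruct.l ((IsSeparated.valuativeCriterion f S).elim
    ⟨g₁, rfl, rfl⟩ ⟨g₂, h.symm, hf.symm⟩)

/-- Traits over the base at the given point with given generic point extend. -/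
def Extends {X Y : Scheme.{u}} (f : X ⟶ Y) (ξ : X) (y : Y) : Prop :=
  ∀ (W : ValuationSubring (X.residueField ξ)), IsDiscreteValuationRing W →
    ∀ g : Spec (CommRingCat.of W) ⟶ Y, g (closedPoint W) = y →
    Spec.map (CommRingCat.ofHom W.subtype) ≫ g = X.fromSpecResidueField ξ ≫ f →
    ∃ l : Spec (CommRingCat.of W) ⟶ X,
      Spec.map (CommRingCat.ofHom W.subtype) ≫ l = X.fromSpecResidueField ξ ∧ l ≫ f = g

/-- A trait whose field is isomorphic to a given one. -/
theorem exists_trait_transfer {K L : Type u} [Field K] [Field L] (r : L →+* K) (hr : Function.Bijective r)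
    (W : ValuationSubring L) [IsDiscreteValuationRing W] :
    ∃ (V : ValuationSubring K) (e : W ≃+* V), IsDiscreteValuationRing V ∧ ∀ w : W, ((e w : V) : K) = r w := by
  let ε := RingEquiv.ofBijective r hr
  let V : ValuationSubring K := W.comap ε.symm.toRingHom
  let e : W ≃+* V :=
    { toFun := fun w => ⟨ε w, show ε.symm (ε w) ∈ W by rw [ε.symm_apply_apply]; exact w.2⟩
      invFun := fun v => ⟨ε.symm v, v.2⟩
      left_inv := fun w => Subtype.ext (ε.symm_apply_apply _)
      right_inv := fun v => Subtype.ext (ε.apply_symm_apply _)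
      map_mul' := fun a b => Subtype.ext (map_mul ε _ _)
      map_add' := fun a b => Subtype.ext (map_add ε _ _) }
  exact ⟨V, e, IsDiscreteValuationRing.RingEquivClass.isDiscreteValuationRing e, fun _ => rfl⟩

/-- The main case: irreducible source, affine Noetherian base. -/
theorem exists_nhd_affine {X Y : Scheme.{u}} (f : X ⟶ Y) [IrreducibleSpace X] [IsAffine Y]
    [IsNoetherian Y] [IsSeparated f] [LocallyOfFiniteType f] [QuasiCompact f] (y : Y)
    (H : Extends f (genericPoint X) y) : ∃ U : Y.Opens, y ∈ U ∧ IsProper (f ∣_ U) := by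
  classical
  haveI : IsLocallyNoetherian X := LocallyOfFiniteType.isLocallyNoetherian f
  haveI : CompactSpace X := QuasiCompact.compactSpace_of_compactSpace f
  haveI : IsNoetherian X := {}
  set ξ := genericPoint X
  obtain ⟨k, O, hOa, hOne, hO⟩ : ∃ (k : ℕ) (O : Fin k → X.Opens), (∀ i, IsAffineOpen (O i)) ∧
      (∀ i, ξ ∈ O i) ∧ ∀ x, ∃ i, x ∈ O i := by
    obtain ⟨s, hcov⟩ := isCompact_univ.elim_finite_subcover (fun V : X.affineOpens => ((V.1 : X.Opens) : Set X))
      (fun V => V.1.2) (fun x _ => by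
        obtain ⟨_, ⟨V, hV, rfl⟩, hxV, -⟩ :=
          X.isBasis_affineOpens.exists_subset_of_mem_open (Set.mem_univ x) isOpen_univ
        exact Set.mem_iUnion.2 ⟨⟨V, hV⟩, hxV⟩)
    let t := {V : X.affineOpens | V ∈ s ∧ ((V.1 : X.Opens) : Set X).Nonempty}
    haveI : Fintype t := (s.finite_toSet.subset (fun _ h => h.1)).fintype
    refine ⟨Fintype.card t, fun i => ((Fintype.equivFin t).symm i).1.1,
      fun i => ((Fintype.equivFin t).symm i).1.2, fun i => ?_, fun x => ?_⟩
    · exact ((genericPoint_spec X).mem_open_set_iff ((Fintype.equivFin t).symm i).1.1.2).2 (by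
        obtain ⟨z, hz⟩ := ((Fintype.equivFin t).symm i).2.2
        exact ⟨z, trivial, hz⟩)
    · obtain ⟨V, hV, hxV⟩ := Set.mem_iUnion₂.1 (hcov (Set.mem_univ x))
      exact ⟨Fintype.equivFin t ⟨V, hV, x, hxV⟩, by simpa using hxV⟩
  have hemb := fun i => Groth.L16.Chow.exists_immersion f (hOa i) (isAffineOpen_top Y) le_top
  choose n e hei he using hemb
  let U₀ : X.Opens := ⨅ i : Fin k, O i
  have hξU : ξ ∈ U₀ := by
    rw [← SetLike.mem_coe, TopologicalSpace.Opens.coe_iInf, Set.mem_iInter]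
    exact hOne
  haveI : QuasiCompact U₀.ι := inferInstance
  obtain ⟨N, Γ', π, q, hq, hqπ, hπ, hiso, hdom⟩ :=
    Groth.L16.Chow.exists_chow f O n e he hO U₀ fun i => iInf_le O i
  let b := CohB1.ProjSpaceOver.toBase N Y
  haveI : IsProper b := inferInstance
  haveI : IsLocallyNoetherian Γ' := LocallyOfFiniteType.isLocallyNoetherian π
  haveI : IsLocallyNoetherian (CohB1.ProjSpaceOver N Y) := LocallyOfFiniteType.isLocallyNoetherian b
  -- the point above the generic point
  let a₀ : Spec (X.residueField ξ) ⟶ U₀.toScheme := IsOpenImmersion.lift U₀.ι (X.fromSpecResidueField ξ) (by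
    rintro _ ⟨s, rfl⟩
    rw [Scheme.Opens.range_ι, Scheme.fromSpecResidueField_apply]
    exact hξU)
  have ha₀ : a₀ ≫ U₀.ι = X.fromSpecResidueField ξ := IsOpenImmersion.lift_fac _ _ _
  let a := a₀ ≫ inv (π ∣_ U₀) ≫ (π ⁻¹ᵁ U₀).ι
  have haπ : a ≫ π = X.fromSpecResidueField ξ := by
    simp only [a, Category.assoc, ← morphismRestrict_ι, IsIso.inv_hom_id_assoc, ha₀]
  haveI : IsPreimmersion a₀ := by
    haveI : IsPreimmersion (a₀ ≫ U₀.ι) := by rw [ha₀]; infer_instance
    exact IsPreimmersion.of_comp a₀ U₀.ι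
  haveI : IsPreimmersion (a ≫ q) := inferInstance
  let pt : ↥(Spec (X.residueField ξ)) := closedPoint (X.residueField ξ)
  set ξ' := a pt with hξ'
  have hξ'gen : ∀ w : Γ', ξ' ⤳ w := by
    intro w
    haveI : QuasiCompact (π ⁻¹ᵁ U₀).ι := inferInstance
    have hd : DenseRange (π ⁻¹ᵁ U₀).ι := (π ⁻¹ᵁ U₀).ι.denseRange
    refine specializes_iff_mem_closure.mpr (closure_minimal ?_ isClosed_closure (hd w))
    rintro _ ⟨z, rfl⟩
    refine specializes_iff_mem_closure.mp ?_
    let p := inv (π ∣_ U₀) (a₀ pt)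
    have h1 : (π ∣_ U₀) p ⤳ (π ∣_ U₀) z := by
      rw [← U₀.ι.isEmbedding.toIsInducing.specializes_iff]
      have : U₀.ι ((π ∣_ U₀) p) = ξ := by
        simp only [p]
        rw [← Scheme.Hom.comp_apply, ← Scheme.Hom.comp_apply, ← Scheme.Hom.comp_apply,
          IsIso.inv_hom_id_assoc, ha₀, Scheme.fromSpecResidueField_apply]
      rw [this]
      exact genericPoint_specializes _
    have h2 := ((π ∣_ U₀).isEmbedding.toIsInducing.specializes_iff).mp h1
    have h3 := h2.map (π ⁻¹ᵁ U₀).ι.continuous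
    simpa only [p, hξ', a, Scheme.Hom.comp_apply] using h3
  have hπξ : π ξ' = ξ := by
    rw [hξ', ← Scheme.Hom.comp_apply, haπ, Scheme.fromSpecResidueField_apply]
  haveI hπs : Surjective π := by
    refine ⟨fun x => ?_⟩
    exact π.isClosedMap.isClosed_range.stableUnderSpecialization (genericPoint_specializes x) ⟨ξ', hπξ⟩
  -- the boundary misses the fibre
  let Z : Set ↥(CohB1.ProjSpaceOver N Y) := coborder (Set.range q)
  let bd : Set ↥(CohB1.ProjSpaceOver N Y) := closure (Set.range q) \ Set.range q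
  have hbd : IsClosed bd := by
    have : bd = Zᶜ := (compl_compl _).symm
    rw [this]
    exact (IsLocallyClosed.isOpen_coborder q.isLocallyClosed_range).isClosed_compl
  have hy : y ∉ b '' bd := by
    rintro ⟨z, ⟨hzc, hzn⟩, hzy⟩
    have hgen : q ξ' ⤳ z := by
      refine specializes_iff_mem_closure.mpr (closure_minimal ?_ isClosed_closure hzc)
      rintro _ ⟨w, rfl⟩
      exact specializes_iff_mem_closure.mp ((hξ'gen w).map q.continuous)
    set x₁ := (a ≫ q) pt with hx₁
    have hx₁z : x₁ ⤳ z := by rw [hx₁, Scheme.Hom.comp_apply]; exact hgen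
    have hne : x₁ ≠ z := fun e => hzn ⟨ξ', by rw [← e, hx₁, Scheme.Hom.comp_apply]⟩
    obtain ⟨W, t, hW, ht₀, ht₁⟩ := exists_dvr_through' hx₁z hne
    obtain ⟨r, hr, hrb⟩ : ∃ r : (CohB1.ProjSpaceOver N Y).residueField x₁ ⟶ X.residueField ξ,
        Spec.map r ≫ (CohB1.ProjSpaceOver N Y).fromSpecResidueField x₁ = a ≫ q ∧ Function.Bijective r.hom :=
      exists_residueField_bijective (K := X.residueField ξ) (a ≫ q)
    haveI := hW
    obtain ⟨V, ε, hV, hε⟩ := exists_trait_transfer r.hom hrb W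
    let σ : Spec (CommRingCat.of V) ⟶ Spec (CommRingCat.of W) := Spec.map (CommRingCat.ofHom ε.toRingHom)
    have hσ : Spec.map (CommRingCat.ofHom V.subtype) ≫ σ = Spec.map r ≫ Spec.map (CommRingCat.ofHom W.subtype) := by
      rw [← Spec.map_comp, ← Spec.map_comp]
      congr 1
      exact CommRingCat.hom_ext (RingHom.ext hε)
    have hσc : σ (closedPoint V) = closedPoint W := by
      haveI : IsLocalHom ε.toRingHom := ⟨fun w hw => by simpa using hw.map ε.symm.toRingHom⟩
      show PrimeSpectrum.comap ε.toRingHom (closedPoint V) = closedPoint W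
      exact comap_closedPoint _
    have hcomp : Spec.map (CommRingCat.ofHom V.subtype) ≫ σ ≫ t = a ≫ q := by
      rw [reassoc_of% hσ, ht₁, hr]
    obtain ⟨l, hl, hlf⟩ := H V hV (σ ≫ t ≫ b) (by
        show (σ ≫ t ≫ b) (closedPoint V) = y
        rw [Scheme.Hom.comp_apply, hσc, Scheme.Hom.comp_apply, ht₀, hzy]) (by
        rw [reassoc_of% hcomp, hqπ, ← Category.assoc, haπ])
    obtain ⟨l', hl', hl'π⟩ := exists_lift π V a l (by rw [haπ]; exact hl.symm)
    have heq : l' ≫ q = σ ≫ t := ext_of_generic b _ _ (by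
        rw [Category.assoc, hqπ, ← Category.assoc, hl'π, hlf, Category.assoc]) (by
        rw [← Category.assoc, hl', hcomp])
    refine hzn ⟨l' (closedPoint V), ?_⟩
    rw [← Scheme.Hom.comp_apply, heq, Scheme.Hom.comp_apply, hσc, ht₀]
  -- conclusion
  let U : Y.Opens := ⟨(b '' bd)ᶜ, (b.isClosedMap _ hbd).isOpen_compl⟩
  refine ⟨U, hy, ?_⟩
  let q' : (π ⁻¹ᵁ (f ⁻¹ᵁ U)).toScheme ⟶ (b ⁻¹ᵁ U).toScheme := q.resLE (b ⁻¹ᵁ U) (π ⁻¹ᵁ (f ⁻¹ᵁ U)) (by
    rw [← Scheme.Hom.comp_preimage, ← Scheme.Hom.comp_preimage, hqπ])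
  have hq' : q' ≫ (b ⁻¹ᵁ U).ι = (π ⁻¹ᵁ (f ⁻¹ᵁ U)).ι ≫ q := Scheme.Hom.resLE_comp_ι _ _
  haveI : IsImmersion q' := by
    haveI : IsImmersion (q' ≫ (b ⁻¹ᵁ U).ι) := by rw [hq']; infer_instance
    exact IsImmersion.of_comp q' (b ⁻¹ᵁ U).ι
  have hcl : IsClosed (Set.range q') := by
    have : Set.range q' = (b ⁻¹ᵁ U).ι ⁻¹' closure (Set.range q) := by
      ext v
      constructor
      · rintro ⟨w, rfl⟩
        exact subset_closure ⟨(π ⁻¹ᵁ (f ⁻¹ᵁ U)).ι w, by rw [← Scheme.Hom.comp_apply, ← hq', Scheme.Hom.comp_apply]⟩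
      · intro hv
        obtain ⟨w, hw⟩ : (b ⁻¹ᵁ U).ι v ∈ Set.range q := by
          by_contra hn
          exact v.2 ⟨_, ⟨hv, hn⟩, rfl⟩
        have hwU : w ∈ π ⁻¹ᵁ (f ⁻¹ᵁ U) := by
          rw [← Scheme.Hom.comp_preimage, ← hqπ, Scheme.Hom.comp_preimage]
          show q w ∈ b ⁻¹ᵁ U
          rw [hw]; exact v.2
        refine ⟨⟨w, hwU⟩, (b ⁻¹ᵁ U).ι.isOpenEmbedding.injective ?_⟩
        rw [← Scheme.Hom.comp_apply, hq', Scheme.Hom.comp_apply]
        exact hw
    rw [this]
    exact isClosed_closure.preimage (b ⁻¹ᵁ U).ι.continuous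
  haveI : IsClosedImmersion q' := IsClosedImmersion.of_isPreimmersion q' hcl
  haveI : IsProper (b ∣_ U) := IsZariskiLocalAtTarget.restrict ‹IsProper b› U
  haveI : IsSeparated (f ∣_ U) := IsZariskiLocalAtTarget.restrict ‹IsSeparated f› U
  haveI : LocallyOfFiniteType (f ∣_ U) := IsZariskiLocalAtTarget.restrict ‹LocallyOfFiniteType f› U
  have hcomm : (π ∣_ (f ⁻¹ᵁ U)) ≫ (f ∣_ U) = q' ≫ (b ∣_ U) := by
    rw [← cancel_mono U.ι]
    simp only [Category.assoc, morphismRestrict_ι]
    rw [← Category.assoc, morphismRestrict_ι, ← Category.assoc q', hq', Category.assoc, Category.assoc, hqπ]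
  haveI : UniversallyClosed ((π ∣_ (f ⁻¹ᵁ U)) ≫ (f ∣_ U)) := by rw [hcomm]; infer_instance
  haveI : Surjective (π ∣_ (f ⁻¹ᵁ U)) := IsZariskiLocalAtTarget.restrict hπs (f ⁻¹ᵁ U)
  haveI : UniversallyClosed (f ∣_ U) := UniversallyClosed.of_comp_surjective (π ∣_ (f ⁻¹ᵁ U)) _
  exact {}

/-- Irreducible source over a locally Noetherian base. -/
theorem exists_nhd {X Y : Scheme.{u}} (f : X ⟶ Y) [IrreducibleSpace X] [IsLocallyNoetherian Y]
    [IsSeparated f] [LocallyOfFiniteType f] [QuasiCompact f] (y : Y)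
    (H : Extends f (genericPoint X) y) : ∃ U : Y.Opens, y ∈ U ∧ IsProper (f ∣_ U) := by
  obtain ⟨V, hyV, hV⟩ : ∃ V : Y.Opens, y ∈ V ∧ IsAffineOpen V := by
    obtain ⟨_, ⟨V, hV, rfl⟩, hyV, -⟩ := Y.isBasis_affineOpens.exists_subset_of_mem_open (Set.mem_univ y) isOpen_univ
    exact ⟨V, hyV, hV⟩
  by_cases hne : ((f ⁻¹ᵁ V : X.Opens) : Set X).Nonempty
  swap
  · refine ⟨V, hyV, ?_⟩
    haveI : IsEmpty ↥(f ⁻¹ᵁ V).toScheme := ⟨fun z => hne ⟨_, z.2⟩⟩
    infer_instance
  haveI : IsAffine V.toScheme := hV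
  haveI : IsLocallyNoetherian V.toScheme := inferInstance
  haveI : CompactSpace V.toScheme := isCompact_iff_compactSpace.mp hV.isCompact
  haveI : IsNoetherian V.toScheme := {}
  haveI : IsSeparated (f ∣_ V) := IsZariskiLocalAtTarget.restrict ‹IsSeparated f› V
  haveI : LocallyOfFiniteType (f ∣_ V) := IsZariskiLocalAtTarget.restrict ‹LocallyOfFiniteType f› V
  haveI : QuasiCompact (f ∣_ V) := IsZariskiLocalAtTarget.restrict ‹QuasiCompact f› V
  have hξV : genericPoint X ∈ f ⁻¹ᵁ V :=
    ((genericPoint_spec X).mem_open_set_iff (f ⁻¹ᵁ V).2).2 (by simpa using hne)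
  let j := (f ⁻¹ᵁ V).ι
  let η : (f ⁻¹ᵁ V).toScheme := ⟨genericPoint X, hξV⟩
  have hη : IsGenericPoint η (Set.univ : Set ↥(f ⁻¹ᵁ V).toScheme) := Set.eq_univ_of_forall fun z =>
    specializes_iff_mem_closure.mp (j.isEmbedding.toIsInducing.specializes_iff.mp (genericPoint_specializes _))
  haveI : IrreducibleSpace ↥(f ⁻¹ᵁ V).toScheme := by
    refine (irreducibleSpace_def _).mpr ?_
    rw [Set.top_eq_univ]
    exact hη.isIrreducible
  have hgen : genericPoint ↥(f ⁻¹ᵁ V).toScheme = η := (genericPoint_spec _).eq hη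
  have H' : Extends (f ∣_ V) η ⟨y, hyV⟩ := by
    intro W hW g hg hgη
    obtain ⟨r, hr, hrb⟩ : ∃ r : X.residueField (genericPoint X) ⟶ (f ⁻¹ᵁ V).toScheme.residueField η,
        Spec.map r ≫ X.fromSpecResidueField (genericPoint X) =
          (f ⁻¹ᵁ V).toScheme.fromSpecResidueField η ≫ j ∧ Function.Bijective r.hom :=
      ⟨j.residueFieldMap η, Scheme.Hom.SpecMap_residueFieldMap_fromSpecResidueField _ _,
        ConcreteCategory.bijective_of_isIso _⟩
    let ε := RingEquiv.ofBijective r.hom hrb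
    haveI := hW
    obtain ⟨V', e, hV', he⟩ := exists_trait_transfer ε.symm.toRingHom ε.symm.bijective W
    let σ : Spec (CommRingCat.of W) ⟶ Spec (CommRingCat.of V') := Spec.map (CommRingCat.ofHom e.symm.toRingHom)
    let σ' : Spec (CommRingCat.of V') ⟶ Spec (CommRingCat.of W) := Spec.map (CommRingCat.ofHom e.toRingHom)
    have hσσ : σ ≫ σ' = 𝟙 _ := by
      rw [← Spec.map_comp, ← Spec.map_id]
      congr 1
      exact CommRingCat.hom_ext (RingHom.ext e.symm_apply_apply)
    have hsq : Spec.map r ≫ Spec.map (CommRingCat.ofHom V'.subtype) =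
        Spec.map (CommRingCat.ofHom W.subtype) ≫ σ := by
      rw [← Spec.map_comp, ← Spec.map_comp]
      congr 1
      refine CommRingCat.hom_ext (RingHom.ext fun v => ?_)
      show ε ((v : V') : _) = ((e.symm v : W) : _)
      conv_lhs => rw [← e.apply_symm_apply v, he]
      exact ε.apply_symm_apply _
    have hσc : σ' (closedPoint V') = closedPoint W := by
      haveI : IsLocalHom e.toRingHom := ⟨fun w hw => by simpa using hw.map e.symm.toRingHom⟩
      show PrimeSpectrum.comap e.toRingHom (closedPoint V') = closedPoint W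
      exact comap_closedPoint _
    have hinv : Spec.map r ≫ Spec.map (CommRingCat.ofHom ε.symm.toRingHom) = 𝟙 _ := by
      rw [← Spec.map_comp, ← Spec.map_id]
      congr 1
      exact CommRingCat.hom_ext (RingHom.ext ε.apply_symm_apply)
    have hgen' : Spec.map (CommRingCat.ofHom V'.subtype) ≫ σ' ≫ g ≫ V.ι =
        X.fromSpecResidueField (genericPoint X) ≫ f := by
      haveI : IsIso r := (ConcreteCategory.isIso_iff_bijective r).mpr hrb
      rw [← cancel_epi (Spec.map r), reassoc_of% hsq, reassoc_of% hσσ, reassoc_of% hgη, morphismRestrict_ι,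
        ← Category.assoc, ← hr, Category.assoc]
    obtain ⟨l, hl, hlf⟩ := H V' hV' (σ' ≫ g ≫ V.ι) (by
      rw [Scheme.Hom.comp_apply, hσc, Scheme.Hom.comp_apply, hg]; rfl) hgen'
    have hrange : Set.range (σ ≫ l) ⊆ Set.range j := by
      rw [Scheme.Opens.range_ι]
      rintro _ ⟨s, rfl⟩
      show f ((σ ≫ l) s) ∈ V
      rw [← Scheme.Hom.comp_apply, Category.assoc, hlf, reassoc_of% hσσ, Scheme.Hom.comp_apply]
      exact (g s).2
    refine ⟨IsOpenImmersion.lift j (σ ≫ l) hrange, ?_, ?_⟩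
    · rw [← cancel_mono j, Category.assoc, IsOpenImmersion.lift_fac, ← reassoc_of% hsq, hl, hr]
    · rw [← cancel_mono V.ι, Category.assoc, morphismRestrict_ι, IsOpenImmersion.lift_fac_assoc,
        Category.assoc, hlf, reassoc_of% hσσ]
  obtain ⟨U, hyU, hU⟩ := exists_nhd_affine (f ∣_ V) (⟨y, hyV⟩ : V.toScheme) (hgen ▸ H')
  refine ⟨V.ι ''ᵁ U, ⟨⟨y, hyV⟩, hyU, rfl⟩, ?_⟩
  exact (MorphismProperty.arrow_mk_iso_iff @IsProper (morphismRestrictRestrict f V U)).mp hU

/-- Finitely many components meet the preimage of an affine open. -/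
theorem finite_irreducibleComponents_meeting {X Y : Scheme.{u}} (f : X ⟶ Y) [IsLocallyNoetherian Y]
    [LocallyOfFiniteType f] [QuasiCompact f] (V : Y.Opens) (hV : IsAffineOpen V) :
    {Z | Z ∈ irreducibleComponents (X : Type u) ∧ (Z ∩ (f ⁻¹ᵁ V : X.Opens)).Nonempty}.Finite := by
  haveI : IsLocallyNoetherian X := LocallyOfFiniteType.isLocallyNoetherian f
  haveI : CompactSpace ↥(f ⁻¹ᵁ V).toScheme :=
    isCompact_iff_compactSpace.mp (QuasiCompact.isCompact_preimage (f := f) _ V.2 hV.isCompact)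
  haveI : IsNoetherian (f ⁻¹ᵁ V).toScheme := {}
  let j := (f ⁻¹ᵁ V).ι
  refine Set.Finite.of_finite_image (f := fun Z : Set X => j ⁻¹' Z) ?_ ?_
  · refine TopologicalSpace.NoetherianSpace.finite_irreducibleComponents.subset ?_
    rintro _ ⟨Z, ⟨hZ, hne⟩, rfl⟩
    exact preimage_mem_irreducibleComponents_of_isPreirreducible_fiber hZ j.isOpenEmbedding.continuous
      j.isOpenEmbedding.isOpenMap (fun w => (Set.subsingleton_singleton.preimage j.isOpenEmbedding.injective).isPreirreducible) (by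
      rwa [Scheme.Opens.range_ι])
  · intro Z hZ Z' hZ' e
    have h1 : Z ⊆ closure (Z ∩ (f ⁻¹ᵁ V : X.Opens)) := subset_closure_inter_of_isPreirreducible_of_isOpen
      hZ.1.1.isPreirreducible (f ⁻¹ᵁ V).2 hZ.2
    refine hZ.1.eq_of_le hZ'.1.1 (h1.trans (closure_minimal ?_ (isClosed_of_mem_irreducibleComponents _ hZ'.1)))
    rintro z ⟨hz, hzV⟩
    exact (Set.ext_iff.mp e ⟨z, hzV⟩).mp hz

/-- Properness restricts to smaller opens. -/
theorem isProper_restrict_mono {X Y : Scheme.{u}} (f : X ⟶ Y) {U U' : Y.Opens} (h : U' ≤ U)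
    (hp : IsProper (f ∣_ U)) : IsProper (f ∣_ U') := by
  have h1 : IsProper ((f ∣_ U) ∣_ (U.ι ⁻¹ᵁ U')) := IsZariskiLocalAtTarget.restrict hp _
  have h2 := (MorphismProperty.arrow_mk_iso_iff @IsProper
    (morphismRestrictRestrict f U (U.ι ⁻¹ᵁ U'))).mp h1
  have e : U.ι ''ᵁ U.ι ⁻¹ᵁ U' = U' := by
    rw [Scheme.Hom.image_preimage_eq_opensRange_inf, Scheme.Opens.opensRange_ι, inf_eq_right]; exact h
  exact (MorphismProperty.arrow_mk_iso_iff @IsProper (morphismRestrictEq f e)).mp h2

/-- Universal closedness from finitely many pieces covering the source. -/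
theorem universallyClosed_of_finite_cover {X Y : Scheme.{u}} (f : X ⟶ Y) {κ : Type*} [Finite κ]
    (T : κ → Scheme.{u}) (i : ∀ k, T k ⟶ X) (hcov : ∀ x, ∃ k, x ∈ Set.range (i k))
    (h : ∀ k, UniversallyClosed (i k ≫ f)) : UniversallyClosed f := by
  refine ⟨fun X' Y' i₁ i₂ f' sq E hE => ?_⟩
  have e : f' '' E = ⋃ k, (pullback.snd (i k) i₁ ≫ f') '' ((pullback.snd (i k) i₁) ⁻¹' E) := by
    ext z
    simp only [Set.mem_iUnion, Set.mem_image]
    constructor
    · rintro ⟨x, hx, rfl⟩
      obtain ⟨k, w, hw⟩ := hcov (i₁ x)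
      obtain ⟨p, -, hp⟩ := Scheme.Pullback.exists_preimage_pullback (f := i k) (g := i₁) w x hw
      exact ⟨k, p, show pullback.snd (i k) i₁ p ∈ E by rw [hp]; exact hx, by rw [Scheme.Hom.comp_apply, hp]⟩
    · rintro ⟨k, p, hp, rfl⟩
      exact ⟨_, hp, (Scheme.Hom.comp_apply _ _ _).symm⟩
  show IsClosed (f' '' E)
  rw [e]
  refine isClosed_iUnion_of_finite fun k => ?_
  haveI := h k
  exact UniversallyClosed.universally_isClosedMap (f := i k ≫ f) _ _ _
    ((IsPullback.of_hasPullback (i k) i₁).flip.paste_horiz sq) _ (hE.preimage (Scheme.Hom.continuous _))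

/-- All maximal points. -/
theorem exists_nhd_of_forall {X Y : Scheme.{u}} (f : X ⟶ Y) [IsLocallyNoetherian Y]
    [IsSeparated f] [LocallyOfFiniteType f] [QuasiCompact f] (y : Y)
    (H : ∀ Z ∈ irreducibleComponents (X : Type u), ∀ ξ, IsGenericPoint ξ Z → Extends f ξ y) :
    ∃ U : Y.Opens, y ∈ U ∧ IsProper (f ∣_ U) := by
  classical
  obtain ⟨V, hyV, hV⟩ : ∃ V : Y.Opens, y ∈ V ∧ IsAffineOpen V := by
    obtain ⟨_, ⟨V, hV, rfl⟩, hyV, -⟩ := Y.isBasis_affineOpens.exists_subset_of_mem_open (Set.mem_univ y) isOpen_univ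
    exact ⟨V, hyV, hV⟩
  haveI : IsLocallyNoetherian X := LocallyOfFiniteType.isLocallyNoetherian f
  have key : ∀ Z ∈ irreducibleComponents (X : Type u), ∃ U : Y.Opens, y ∈ U ∧
      ∀ hZ : IsClosed Z, IsProper (((Scheme.IdealSheafData.vanishingIdeal
        (⟨Z, hZ⟩ : TopologicalSpace.Closeds X)).subschemeι ≫ f) ∣_ U) := by
    intro Z hZ
    let C : TopologicalSpace.Closeds X := ⟨Z, isClosed_of_mem_irreducibleComponents Z hZ⟩
    let I := Scheme.IdealSheafData.vanishingIdeal C
    let i := I.subschemeι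
    have hr : Set.range i = Z := by
      rw [Scheme.IdealSheafData.range_subschemeι]; simp [I, C]
    have hξ := hZ.1.isGenericPoint_genericPoint C.2
    obtain ⟨η, hη⟩ : hZ.1.genericPoint ∈ Set.range i := by rw [hr]; exact hξ.mem
    have hηgen : IsGenericPoint η (Set.univ : Set ↥I.subscheme) := Set.eq_univ_of_forall fun z =>
      specializes_iff_mem_closure.mp (i.isEmbedding.toIsInducing.specializes_iff.mp (by
        rw [hη]; exact hξ.specializes (hr.le ⟨z, rfl⟩)))
    haveI : IrreducibleSpace ↥I.subscheme := by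
      refine (irreducibleSpace_def _).mpr ?_
      rw [Set.top_eq_univ]
      exact hηgen.isIrreducible
    have H' : Extends (i ≫ f) η y := by
      intro W hW g hg hgη
      have hξ' : IsGenericPoint (i η) Z := hη ▸ hξ
      obtain ⟨r, hr', hrb⟩ : ∃ r : X.residueField (i η) ⟶ I.subscheme.residueField η,
          Spec.map r ≫ X.fromSpecResidueField (i η) = I.subscheme.fromSpecResidueField η ≫ i ∧
            Function.Bijective r.hom :=
        ⟨i.residueFieldMap η, Scheme.Hom.SpecMap_residueFieldMap_fromSpecResidueField _ _,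
          ⟨RingHom.injective _, by
            intro v
            obtain ⟨v, rfl⟩ := I.subscheme.residue_surjective η v
            obtain ⟨d, rfl⟩ := i.stalkMap_surjective η v
            exact ⟨X.residue (i η) d, congr($(Scheme.residue_residueFieldMap i η) d)⟩⟩⟩
      let ε := RingEquiv.ofBijective r.hom hrb
      haveI := hW
      obtain ⟨V', e, hV', he⟩ := exists_trait_transfer ε.symm.toRingHom ε.symm.bijective W
      let σ : Spec (CommRingCat.of W) ⟶ Spec (CommRingCat.of V') := Spec.map (CommRingCat.ofHom e.symm.toRingHom)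
      let σ' : Spec (CommRingCat.of V') ⟶ Spec (CommRingCat.of W) := Spec.map (CommRingCat.ofHom e.toRingHom)
      have hσσ : σ ≫ σ' = 𝟙 _ := by
        rw [← Spec.map_comp, ← Spec.map_id]
        congr 1
        exact CommRingCat.hom_ext (RingHom.ext e.symm_apply_apply)
      have hsq : Spec.map r ≫ Spec.map (CommRingCat.ofHom V'.subtype) =
          Spec.map (CommRingCat.ofHom W.subtype) ≫ σ := by
        rw [← Spec.map_comp, ← Spec.map_comp]
        congr 1
        refine CommRingCat.hom_ext (RingHom.ext fun v => ?_)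
        show ε ((v : V') : _) = ((e.symm v : W) : _)
        conv_lhs => rw [← e.apply_symm_apply v, he]
        exact ε.apply_symm_apply _
      have hσc : σ' (closedPoint V') = closedPoint W := by
        haveI : IsLocalHom e.toRingHom := ⟨fun w hw => by simpa using hw.map e.symm.toRingHom⟩
        show PrimeSpectrum.comap e.toRingHom (closedPoint V') = closedPoint W
        exact comap_closedPoint _
      haveI : IsIso r := (ConcreteCategory.isIso_iff_bijective r).mpr hrb
      obtain ⟨l, hl, hlf⟩ := H Z hZ (i η) hξ' V' hV' (σ' ≫ g) (by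
        rw [Scheme.Hom.comp_apply, hσc, hg]) (by
        rw [← cancel_epi (Spec.map r), reassoc_of% hsq, reassoc_of% hσσ, hgη, ← Category.assoc, ← hr',
          Category.assoc])
      obtain ⟨l', hl', hl''⟩ := exists_lift i W (I.subscheme.fromSpecResidueField η) (σ ≫ l) (by
        rw [← reassoc_of% hsq, hl, hr'])
      refine ⟨l', hl', ?_⟩
      rw [← Category.assoc, hl'', Category.assoc, hlf, reassoc_of% hσσ]
    obtain ⟨U, hyU, hU⟩ := exists_nhd (i ≫ f) y ((genericPoint_spec _).eq hηgen ▸ H')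
    exact ⟨U, hyU, fun _ => hU⟩
  choose U hyU hU using key
  haveI : CompactSpace ↥(f ⁻¹ᵁ V) := isCompact_iff_compactSpace.mp (QuasiCompact.isCompact_preimage (f := f) _ V.2 hV.isCompact)
  -- finitely many components meet the preimage of an affine neighbourhood
  let S : Set (Set X) := {Z | Z ∈ irreducibleComponents (X : Type u) ∧ (Z ∩ (f ⁻¹ᵁ V : X.Opens)).Nonempty}
  have hS : S.Finite := finite_irreducibleComponents_meeting f V hV
  let U₀ : Y.Opens := ⟨↑V ∩ ⋂ Z ∈ hS.toFinset.attach, (U Z.1 (hS.mem_toFinset.mp Z.2).1 : Set Y),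
    V.2.inter (isOpen_biInter_finset fun Z _ => (U Z.1 _).2)⟩
  refine ⟨U₀, ⟨hyV, Set.mem_iInter₂.mpr fun Z _ => hyU _ _⟩, ?_⟩
  haveI : IsSeparated (f ∣_ U₀) := IsZariskiLocalAtTarget.restrict ‹IsSeparated f› U₀
  haveI : LocallyOfFiniteType (f ∣_ U₀) := IsZariskiLocalAtTarget.restrict ‹LocallyOfFiniteType f› U₀
  haveI : QuasiCompact (f ∣_ U₀) := IsZariskiLocalAtTarget.restrict ‹QuasiCompact f› U₀
  haveI : UniversallyClosed (f ∣_ U₀) := by
    let T := fun Z : ↥hS.toFinset => Scheme.IdealSheafData.vanishingIdeal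
      (⟨Z.1, isClosed_of_mem_irreducibleComponents _ (hS.mem_toFinset.mp Z.2).1⟩ : TopologicalSpace.Closeds X)
    refine universallyClosed_of_finite_cover _ (fun Z => ((T Z).subschemeι ⁻¹ᵁ (f ⁻¹ᵁ U₀)).toScheme)
      (fun Z => (T Z).subschemeι ∣_ (f ⁻¹ᵁ U₀)) (fun x => ?_) fun Z => ?_
    · let Z : ↥hS.toFinset := ⟨irreducibleComponent x.1, hS.mem_toFinset.mpr
        ⟨irreducibleComponent_mem_irreducibleComponents x.1, x.1, mem_irreducibleComponent, x.2.1⟩⟩
      obtain ⟨w, hw⟩ : x.1 ∈ Set.range (T Z).subschemeι := by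
        rw [Scheme.IdealSheafData.range_subschemeι]
        simpa [T, Z] using mem_irreducibleComponent
      refine ⟨Z, ⟨w, show f ((T Z).subschemeι w) ∈ U₀ by rw [hw]; exact x.2⟩, ?_⟩
      refine (f ⁻¹ᵁ U₀).ι.isOpenEmbedding.injective ?_
      rw [← Scheme.Hom.comp_apply, morphismRestrict_ι, Scheme.Hom.comp_apply]
      exact hw
    · rw [← morphismRestrict_comp]
      refine (isProper_restrict_mono _ ?_ (hU Z.1 (hS.mem_toFinset.mp Z.2).1 _)).toUniversallyClosed
      intro z hz
      exact Set.mem_iInter₂.mp hz.2 ⟨Z.1, Z.2⟩ (Finset.mem_attach _ _)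
  exact {}

end Groth.L07.DVRProper
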