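import Groth.Agent.L07.FlatGeomReduced
import Groth.Prelude.Def_FDesc
import Groth.Prelude.Def_EGA43
import Mathlib.AlgebraicGeometry.Morphisms.Flat
import Mathlib.AlgebraicGeometry.Morphisms.FiniteType
import Mathlib.AlgebraicGeometry.Noetherian
import Mathlib.AlgebraicGeometry.Fiber
import Mathlib.AlgebraicGeometry.Pullbacks

/-!
Flatness at a point with geometrically reduced fibre, for schemes.
-/

universe u

open CategoryTheory CategoryTheory.Limits AlgebraicGeometry TensorProduct Topology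

namespace Groth.L07.FlatGeomReduced

set_option autoImplicit false
set_option linter.style.haveILetI false
set_option maxSynthPendingDepth 3
set_option backward.isDefEq.respectTransparency.types false
set_option backward.isDefEq.respectTransparency false

theorem isReduced_of_iso {A B : CommRingCat.{u}} (f : A ⟶ B) [IsIso f] (h : _root_.IsReduced A) :
    _root_.IsReduced B :=
  isReduced_of_injective (inv f).hom (ConcreteCategory.bijective_of_isIso (inv f)).1

section Chart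

variable {X Y : Scheme.{u}} (f : X ⟶ Y) {V : Y.Opens} (hV : IsAffineOpen V) {W : X.Opens}
  (hW : IsAffineOpen W) (e : W ≤ f ⁻¹ᵁ V) [Algebra Γ(Y, V) Γ(X, W)]
  (halg : algebraMap Γ(Y, V) Γ(X, W) = (f.appLE V W e).hom)
  (A : Type u) [CommRing A] [Algebra Γ(Y, V) A]

include halg in
/-- An affine chart of the base change. -/
theorem exists_chart :
    ∃ (c : Spec (CommRingCat.of (Γ(X, W) ⊗[Γ(Y, V)] A)) ⟶
        pullback f (Spec.map (CommRingCat.ofHom (algebraMap Γ(Y, V) A)) ≫ hV.fromSpec)),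
      IsOpenImmersion c ∧
      c ≫ pullback.fst f _ = Spec.map (CommRingCat.ofHom Algebra.TensorProduct.includeLeftRingHom) ≫ hW.fromSpec ∧
      c ≫ pullback.snd f _ = Spec.map (CommRingCat.ofHom
        (Algebra.TensorProduct.includeRight : A →ₐ[Γ(Y, V)] Γ(X, W) ⊗[Γ(Y, V)] A).toRingHom) := by
  have keyφ : Spec.map (CommRingCat.ofHom (algebraMap Γ(Y, V) Γ(X, W))) ≫ hV.fromSpec = hW.fromSpec ≫ f := by
    rw [← IsAffineOpen.SpecMap_appLE_fromSpec f hV hW e, halg]; rfl
  have hP := isPullback_SpecMap_of_isPushout _ _ _ _ (CommRingCat.isPushout_tensorProduct Γ(Y, V) Γ(X, W) A)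
  refine ⟨hP.isoPullback.hom ≫ pullback.map _ _ f
    (Spec.map (CommRingCat.ofHom (algebraMap Γ(Y, V) A)) ≫ hV.fromSpec) hW.fromSpec (𝟙 _) hV.fromSpec
      keyφ (Category.id_comp _).symm, inferInstance, ?_, ?_⟩
  · rw [Category.assoc, pullback.map, pullback.lift_fst, hP.isoPullback_hom_fst_assoc]
  · rw [Category.assoc, pullback.map, pullback.lift_snd, Category.comp_id, hP.isoPullback_hom_snd]

end Chart

/-- The points of the affine chart. -/
theorem fromSpec_eq {X : Scheme.{u}} {W : X.Opens} (hW : IsAffineOpen W) (q : PrimeSpectrum Γ(X, W))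
    (x : X) (hx : x ∈ W) (h : hW.fromSpec q = x) : q = hW.primeIdealOf ⟨x, hx⟩ :=
  hW.fromSpec.isOpenEmbedding.injective (h.trans (hW.fromSpec_primeIdealOf ⟨x, hx⟩).symm)

variable {X Y : Scheme.{u}} (f : X ⟶ Y) (x : X) {V : Y.Opens} (hV : IsAffineOpen V) {W : X.Opens}
  (hW : IsAffineOpen W) (e : W ≤ f ⁻¹ᵁ V) (hxW : x ∈ W) [Algebra Γ(Y, V) Γ(X, W)]
  (halg : algebraMap Γ(Y, V) Γ(X, W) = (f.appLE V W e).hom)

include hV halg in
/-- Geometric reducedness of the fibre in an affine chart. -/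
theorem geomRedAt (hred : FBase.IsGeomReducedAt (f.fiberToSpecResidueField (f.base x)) (f.asFiber x)) :
    GeomRedAt Γ(Y, V) (hW.primeIdealOf ⟨x, hxW⟩).asIdeal := by
  intro L _ _ hL Q hQp hQ
  let y := f.base x
  obtain ⟨c, hc, hc1, -⟩ := exists_chart f hV hW e halg L
  haveI := hc
  let g₀ := Spec.map (CommRingCat.ofHom (algebraMap Γ(Y, V) L)) ≫ hV.fromSpec
  have hpt : g₀.base (IsLocalRing.closedPoint L) = y := by
    rw [Scheme.Hom.comp_apply]
    refine (congrArg hV.fromSpec.base (?_ : _ = hV.primeIdealOf ⟨y, e hxW⟩)).trans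
      (hV.fromSpec_primeIdealOf ⟨y, e hxW⟩)
    rw [← IsAffineOpen.comap_primeIdealOf_appLE V hV W hW e hxW]
    refine PrimeSpectrum.ext ?_
    show Ideal.comap _ (IsLocalRing.maximalIdeal L) = Ideal.comap (f.appLE V W e).hom _
    rw [← halg, ← hL, IsLocalRing.maximalIdeal_eq_bot]
    rfl
  obtain ⟨ψ, hψ⟩ : ∃ ψ : Y.residueField y ⟶ CommRingCat.of L, Spec.map ψ ≫ Y.fromSpecResidueField y = g₀ := by
    revert hpt
    generalize y = y'
    rintro rfl
    exact ⟨_, Scheme.descResidueField_stalkClosedPointTo_fromSpecResidueField L Y g₀⟩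
  letI : Algebra (IsLocalRing.ResidueField ↑(Y.presheaf.stalk (f.base x))) L := ψ.hom.toAlgebra
  let ι : FBase.bc (f.fiberToSpecResidueField y) L ≅ pullback f g₀ :=
    pullbackLeftPullbackSndIso f (Y.fromSpecResidueField y) (Spec.map ψ) ≪≫ pullback.congrHom rfl hψ
  let P : PrimeSpectrum (Γ(X, W) ⊗[Γ(Y, V)] L) := ⟨Q, hQp⟩
  let x' := ι.inv.base (c.base P)
  have hx' : (FBase.bcπ (f.fiberToSpecResidueField y) L).base x' = f.asFiber x := by
    refine (f.fiberι y).isEmbedding.injective ?_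
    rw [f.fiberι_asFiber x, ← Scheme.Hom.comp_apply]
    have : FBase.bcπ (f.fiberToSpecResidueField y) L ≫ f.fiberι y = ι.hom ≫ pullback.fst f g₀ := by
      simp only [ι, Iso.trans_hom, Category.assoc, pullback.congrHom_hom, pullback.lift_fst, Category.comp_id]
      exact (pullbackLeftPullbackSndIso_hom_fst _ _ _).symm
    rw [this, ← Scheme.Hom.comp_apply, ← Scheme.Hom.comp_apply, Iso.inv_hom_id_assoc,
      hc1, Scheme.Hom.comp_apply]
    refine (congrArg hW.fromSpec.base (PrimeSpectrum.ext hQ : _ = hW.primeIdealOf ⟨x, hxW⟩)).trans ?_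
    exact hW.fromSpec_primeIdealOf ⟨x, hxW⟩
  have h1 := hred L x' hx'
  have h2 := isReduced_of_iso (ι.inv.stalkMap (c.base P)) h1
  have h3 := isReduced_of_iso (c.stalkMap P) h2
  exact isReduced_of_iso (Spec.stalkIso (CommRingCat.of (Γ(X, W) ⊗[Γ(Y, V)] L)) P).hom h3

include hV halg in
/-- Openness at the generic points of the fibre in an affine chart. -/
theorem isOpenAt_chart
    (hopen : ∀ z : ↥(f.fiber (f.base x)), f.asFiber x ∈ closure {z} →
      (∀ z' : ↥(f.fiber (f.base x)), z ∈ closure {z'} → z' = z) →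
      EGA43.IsUnivOpenAt f ((f.fiberι (f.base x)).base z))
    (𝔷 : Ideal Γ(X, W)) [𝔷.IsPrime] (hle : 𝔷 ≤ (hW.primeIdealOf ⟨x, hxW⟩).asIdeal)
    (h𝔷 : 𝔷.comap (algebraMap Γ(Y, V) Γ(X, W)) =
      (hW.primeIdealOf ⟨x, hxW⟩).asIdeal.comap (algebraMap Γ(Y, V) Γ(X, W)))
    (hgen : ∀ q' : Ideal Γ(X, W), q'.IsPrime → q' ≤ 𝔷 →
      q'.comap (algebraMap Γ(Y, V) Γ(X, W)) = 𝔷.comap (algebraMap Γ(Y, V) Γ(X, W)) → q' = 𝔷)
    (B : Type u) [CommRing B] [Algebra Γ(Y, V) B]
    (P : PrimeSpectrum (Γ(X, W) ⊗[Γ(Y, V)] B))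
    (hP : P.asIdeal.comap Algebra.TensorProduct.includeLeftRingHom = 𝔷) :
    EGA43.IsOpenAt (PrimeSpectrum.comap
      (Algebra.TensorProduct.includeRight : B →ₐ[Γ(Y, V)] Γ(X, W) ⊗[Γ(Y, V)] B).toRingHom) P := by
  obtain ⟨c, hc, hc1, hc2⟩ := exists_chart f hV hW e halg B
  haveI := hc
  let y := f.base x
  let zp : PrimeSpectrum Γ(X, W) := ⟨𝔷, inferInstance⟩
  let z0 := hW.fromSpec.base zp
  have keyφ : Spec.map (f.appLE V W e) ≫ hV.fromSpec = hW.fromSpec ≫ f := IsAffineOpen.SpecMap_appLE_fromSpec f hV hW e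
  have hbase : ∀ w : PrimeSpectrum Γ(X, W), f.base (hW.fromSpec.base w) =
      hV.fromSpec.base (PrimeSpectrum.comap (algebraMap Γ(Y, V) Γ(X, W)) w) := fun w => by
    rw [halg, ← Scheme.Hom.comp_apply, ← keyφ, Scheme.Hom.comp_apply]; rfl
  have hxpt : hW.fromSpec.base (hW.primeIdealOf ⟨x, hxW⟩) = x := hW.fromSpec_primeIdealOf ⟨x, hxW⟩
  have hz0y : f.base z0 = y := by
    rw [hbase zp]
    conv_rhs => rw [show y = f.base (hW.fromSpec.base (hW.primeIdealOf ⟨x, hxW⟩)) by rw [hxpt], hbase]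
    exact congrArg _ (PrimeSpectrum.ext h𝔷)
  obtain ⟨z, hz⟩ : z0 ∈ Set.range (f.fiberι y).base := by
    rw [f.range_fiberι y]; exact hz0y
  have hzx : f.asFiber x ∈ closure {z} := by
    rw [← specializes_iff_mem_closure, ← (f.fiberι y).isEmbedding.isInducing.specializes_iff, hz, f.fiberι_asFiber x,
      ← hxpt]
    exact ((PrimeSpectrum.le_iff_specializes zp _).mp hle).map hW.fromSpec.continuous
  have hmax : ∀ z' : ↥(f.fiber y), z ∈ closure {z'} → z' = z := by
    intro z' hz'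
    have hs : (f.fiberι y).base z' ⤳ z0 := by
      rw [← hz]; exact (specializes_iff_mem_closure.mpr hz').map (f.fiberι y).continuous
    obtain ⟨w, hw⟩ : (f.fiberι y).base z' ∈ Set.range hW.fromSpec.base := by
      rw [hW.range_fromSpec]
      exact hs.mem_open W.2 (hW.range_fromSpec.subset ⟨zp, rfl⟩)
    refine (f.fiberι y).isEmbedding.injective ?_
    rw [hz, ← hw]
    refine congrArg _ (PrimeSpectrum.ext (hgen w.asIdeal w.isPrime ?_ ?_))
    · rw [← hw] at hs
      exact (PrimeSpectrum.le_iff_specializes w zp).mpr (hW.fromSpec.isEmbedding.isInducing.specializes_iff.mp hs)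
    · have h1 : f.base (hW.fromSpec.base w) = f.base z0 := by
        rw [hw, hz0y]
        exact (f.range_fiberι y).subset ⟨z', rfl⟩
      rw [hbase, hbase] at h1
      exact congrArg PrimeSpectrum.asIdeal (hV.fromSpec.isOpenEmbedding.injective h1)
  have hu := hopen z hzx hmax
  rw [hz] at hu
  have h := hu _ _ (c.base P) (by
    rw [← Scheme.Hom.comp_apply, hc1, Scheme.Hom.comp_apply]
    exact congrArg hW.fromSpec.base (PrimeSpectrum.ext hP : _ = zp))
  intro U hU
  have h' := h _ (c.isOpenEmbedding.isOpenMap.image_mem_nhds hU)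
  rw [← Scheme.Hom.comp_apply, hc2] at h'
  refine Filter.mem_of_superset h' ?_
  rintro _ ⟨_, ⟨a, ha, rfl⟩, rfl⟩
  refine ⟨a, ha, ?_⟩
  rw [← Scheme.Hom.comp_apply, hc2]
  rfl

omit x in
/-- Flatness at a point with geometrically reduced fibre. -/
theorem flat_stalkMap [IsLocallyNoetherian Y] [LocallyOfFiniteType f] (x : X)
    (hopen : ∀ z : ↥(f.fiber (f.base x)), f.asFiber x ∈ closure {z} →
      (∀ z' : ↥(f.fiber (f.base x)), z ∈ closure {z'} → z' = z) →
      EGA43.IsUnivOpenAt f ((f.fiberι (f.base x)).base z))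
    (hred : FBase.IsGeomReducedAt (f.fiberToSpecResidueField (f.base x)) (f.asFiber x))
    (hy : _root_.IsReduced (Y.presheaf.stalk (f.base x))) :
    (f.stalkMap x).hom.Flat := by
  obtain ⟨V, hV, hyV, -⟩ := exists_isAffineOpen_mem_and_subset (X := Y) (x := f x) (U := ⊤) trivial
  obtain ⟨W, hW, hxW, e⟩ := exists_isAffineOpen_mem_and_subset (X := X) (x := x) (U := f ⁻¹ᵁ V) hyV
  replace e : W ≤ f ⁻¹ᵁ V := e
  haveI : IsNoetherianRing Γ(Y, V) := IsLocallyNoetherian.component_noetherian ⟨V, hV⟩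
  letI := (f.appLE V W e).hom.toAlgebra
  have halg : algebraMap Γ(Y, V) Γ(X, W) = (f.appLE V W e).hom := rfl
  haveI : Algebra.FiniteType Γ(Y, V) Γ(X, W) := RingHom.finiteType_algebraMap.mp (f.finiteType_appLE hV hW e)
  let 𝔮 := (hW.primeIdealOf ⟨x, hxW⟩).asIdeal
  let p := (hV.primeIdealOf ⟨f x, e hxW⟩).asIdeal
  have hpq : p = 𝔮.comap (algebraMap Γ(Y, V) Γ(X, W)) :=
    congr($(IsAffineOpen.comap_primeIdealOf_appLE V hV W hW e hxW).1).symm
  haveI : _root_.IsReduced (Localization.AtPrime (𝔮.comap (algebraMap Γ(Y, V) Γ(X, W)))) := by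
    refine isReduced_congr hpq ?_
    letI := Y.presheaf.algebra_section_stalk ⟨f x, e hxW⟩
    haveI : IsLocalization.AtPrime (Y.presheaf.stalk (f x)) p := hV.isLocalization_stalk ⟨f x, e hxW⟩
    haveI : _root_.IsReduced (Y.presheaf.stalk (f x)) := hy
    exact isReduced_of_injective (IsLocalization.algEquiv p.primeCompl (Localization.AtPrime p)
      (Y.presheaf.stalk (f x))).toRingEquiv (RingEquiv.injective _)
  have hflat := flat_of_geomReduced (R := Γ(Y, V)) 𝔮 (geomRedAt f x hV hW e hxW halg hred)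
    fun 𝔷 _ hle h𝔷 hgen B _ _ _ _ P hP _ => isOpenAt_chart f x hV hW e hxW halg hopen 𝔷 hle h𝔷 hgen B P hP
  refine (RingHom.Flat.respectsIso.arrow_mk_iso_iff (IsAffineOpen.arrowStalkMapIso f V hV W hW e hxW)).mpr ?_
  let ℓ := Localization.localRingHom p 𝔮 (f.appLE V W e).hom hpq
  show ℓ.Flat
  letI : Algebra (Localization.AtPrime p) (Localization.AtPrime 𝔮) := ℓ.toAlgebra
  haveI : IsScalarTower Γ(Y, V) (Localization.AtPrime p) (Localization.AtPrime 𝔮) := .of_algebraMap_eq fun r => by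
    show _ = ℓ _
    simp only [ℓ, Localization.localRingHom_to_map]
    rfl
  exact (Module.flat_iff_of_isLocalization (Localization.AtPrime p) p.primeCompl (Localization.AtPrime 𝔮)).mpr hflat

end Groth.L07.FlatGeomReduced
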