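import Groth.Agent.L07.FlatReducedFibres
import Groth.Agent.L07.FlatGeomReducedScheme
import Groth.Agent.L20.FlatStalk
import Mathlib.RingTheory.TensorProduct.Pi
import Mathlib.Algebra.Group.Pi.Units

/-!
Reducedness at a point of flatness with geometrically reduced fibre over a reduced base.
-/

universe u

open TensorProduct

namespace Groth.L07.FlatGeomReduced

set_option autoImplicit false
set_option linter.style.haveILetI false
set_option maxSynthPendingDepth 3
set_option synthInstance.maxHeartbeats 400000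

section Algebra

variable {R C : Type u} [CommRing R] [CommRing C] [Algebra R C]

/-- Reducedness over a reduced base. -/
theorem isReduced_of_flat_geomRed [IsNoetherianRing R] [Algebra.FiniteType R C] (𝔮 : Ideal C) [𝔮.IsPrime]
    [Module.Flat R (Localization.AtPrime 𝔮)] [_root_.IsReduced (Localization.AtPrime (𝔮.comap (algebraMap R C)))]
    (hred : GeomRedAt R 𝔮) : _root_.IsReduced (Localization.AtPrime 𝔮) := by
  classical
  let p := 𝔮.comap (algebraMap R C)
  let A := Localization.AtPrime p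
  let S := Localization.AtPrime 𝔮
  let ι : Type u := {P : Ideal R // P ∈ minimalPrimes R ∧ P ≤ p}
  haveI : Finite ι := ((minimalPrimes.finite_of_isNoetherianRing R).subset fun P hP => hP.1).to_subtype
  haveI := Fintype.ofFinite ι
  haveI : ∀ i : ι, i.1.IsPrime := fun i => i.2.1.1.1
  let κ : ι → Type u := fun i => i.1.ResidueField
  let K := ∀ i, κ i
  have hunit : ∀ r : p.primeCompl, IsUnit (algebraMap R K r) := fun r => Pi.isUnit_iff.mpr fun i =>
    isUnit_iff_ne_zero.mpr fun h => r.2 (i.2.2 (Ideal.algebraMap_residueField_eq_zero.mp h))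
  let ψ₀ : A →+* K := IsLocalization.lift (M := p.primeCompl) hunit
  let ψ : A →ₐ[R] K := { ψ₀ with commutes' := fun r => IsLocalization.lift_eq _ r }
  have hψ : Function.Injective ψ := by
    rw [injective_iff_map_eq_zero]
    intro a ha
    obtain ⟨r, s, rfl⟩ := IsLocalization.exists_mk'_eq p.primeCompl a
    have h1 : algebraMap R K r = 0 := by
      rw [← ψ.commutes, ← IsLocalization.mk'_spec A r s, map_mul, ha, zero_mul]
    have h2 : algebraMap R A r = 0 := by
      rw [← isNilpotent_iff_eq_zero, nilpotent_iff_mem_prime]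
      intro P hP
      haveI := hP
      obtain ⟨Q, hQ, hQP⟩ := Ideal.exists_minimalPrimes_le
        (bot_le : (⊥ : Ideal R) ≤ P.comap (algebraMap R A))
      have hQp : Q ≤ p := hQP.trans fun c hc => by
        by_contra hcp
        exact hP.ne_top (Ideal.eq_top_of_isUnit_mem _ hc (IsLocalization.map_units A (⟨c, hcp⟩ : p.primeCompl)))
      haveI := hQ.1.1
      exact hQP (Ideal.algebraMap_residueField_eq_zero.mp (congrFun h1 (⟨Q, hQ, hQp⟩ : ι)))
    rw [IsLocalization.mk'_eq_mul_mk'_one, h2, zero_mul]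
  let σ : A →ₐ[R] S :=
    { IsLocalization.lift (M := p.primeCompl) (g := algebraMap R S) (fun r => by
        rw [IsScalarTower.algebraMap_apply R C S]
        exact IsLocalization.map_units S (⟨algebraMap R C r, r.2⟩ : 𝔮.primeCompl)) with
      commutes' := fun r => IsLocalization.lift_eq _ r }
  refine ⟨fun x hx => ?_⟩
  let e := Algebra.TensorProduct.piRight R R S κ
  have h1 : e (x ⊗ₜ[R] (1 : K)) = 0 := funext fun i => by
    haveI : _root_.IsReduced (S ⊗[R] κ i) := isReduced_localTensor_of_flat 𝔮 hred (κ i)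
    refine IsNilpotent.eq_zero ?_
    exact (hx.map (Algebra.TensorProduct.includeLeftRingHom : S →+* S ⊗[R] K)).map
      ((Pi.evalRingHom _ i).comp e.toAlgHom.toRingHom)
  rw [map_eq_zero_iff _ e.injective] at h1
  have h2 : x ⊗ₜ[R] (1 : A) = 0 := by
    refine Module.Flat.lTensor_preserves_injective_linearMap (M := S) ψ.toLinearMap hψ ?_
    rw [map_zero, LinearMap.lTensor_tmul]
    simpa using h1
  have h3 := congrArg (Algebra.TensorProduct.lift (AlgHom.id R S) σ (fun _ _ => Commute.all _ _)) h2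
  simpa using h3

end Algebra

set_option backward.isDefEq.respectTransparency.types false
set_option backward.isDefEq.respectTransparency false

open CategoryTheory CategoryTheory.Limits AlgebraicGeometry Topology

/-- A point with reduced local ring has a reduced neighbourhood. -/
theorem exists_reduced_nhd {X : Scheme.{u}} [IsLocallyNoetherian X] (x : X)
    (hx : _root_.IsReduced (X.presheaf.stalk x)) : ∃ U : X.Opens, x ∈ U ∧ IsReduced (U : Scheme.{u}) := by
  obtain ⟨W, hW, hxW, -⟩ := exists_isAffineOpen_mem_and_subset (X := X) (x := x) (U := ⊤) trivial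
  haveI : IsNoetherianRing Γ(X, W) := IsLocallyNoetherian.component_noetherian ⟨W, hW⟩
  let q := (hW.primeIdealOf ⟨x, hxW⟩).asIdeal
  letI := X.presheaf.algebra_section_stalk ⟨x, hxW⟩
  haveI : IsLocalization.AtPrime (X.presheaf.stalk x) q := hW.isLocalization_stalk ⟨x, hxW⟩
  obtain ⟨T, hT⟩ := IsNoetherian.noetherian (nilradical Γ(X, W))
  have hsel : ∀ t ∈ T, ∃ s : q.primeCompl, (s : Γ(X, W)) * t = 0 := fun t ht => by
    refine (IsLocalization.map_eq_zero_iff q.primeCompl (X.presheaf.stalk x) t).mp ?_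
    exact ((mem_nilradical.mp (hT ▸ Submodule.subset_span ht : t ∈ nilradical Γ(X, W))).map _).eq_zero
  choose s hs using hsel
  let S := ∏ t ∈ T.attach, s t.1 t.2
  have hkill : ∀ n ∈ nilradical Γ(X, W), (S : Γ(X, W)) * n = 0 := by
    intro n hn
    rw [← hT] at hn
    induction hn using Submodule.span_induction with
    | mem t ht =>
      obtain ⟨c, hc⟩ := Finset.dvd_prod_of_mem (fun t : {t // t ∈ T} => s t.1 t.2) (Finset.mem_attach T ⟨t, ht⟩)
      rw [show S = s t ht * c from hc, Submonoid.coe_mul, mul_comm (s t ht : Γ(X, W)), mul_assoc, hs t ht, mul_zero]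
    | zero => rw [mul_zero]
    | add a b _ _ ha hb => rw [mul_add, ha, hb, add_zero]
    | smul c a _ ha => rw [smul_eq_mul, mul_left_comm, ha, mul_zero]
  refine ⟨X.basicOpen (S : Γ(X, W)), ?_, ?_⟩
  · have h1 : hW.primeIdealOf ⟨x, hxW⟩ ∈ hW.fromSpec ⁻¹ᵁ X.basicOpen (S : Γ(X, W)) := by
      rw [hW.fromSpec_preimage_basicOpen]; exact S.2
    have h2 : hW.fromSpec (hW.primeIdealOf ⟨x, hxW⟩) ∈ X.basicOpen (S : Γ(X, W)) := h1
    rwa [hW.fromSpec_primeIdealOf] at h2
  · haveI : _root_.IsReduced (Localization.Away (S : Γ(X, W))) := ⟨fun z hz => by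
      obtain ⟨a, m, rfl⟩ := IsLocalization.exists_mk'_eq (Submonoid.powers (S : Γ(X, W))) z
      obtain ⟨n, hn⟩ := hz
      rw [← IsLocalization.mk'_pow, IsLocalization.mk'_eq_zero_iff] at hn
      obtain ⟨⟨_, k, rfl⟩, hk⟩ := hn
      rw [IsLocalization.mk'_eq_zero_iff]
      refine ⟨⟨(S : Γ(X, W)) ^ (k + 1), k + 1, rfl⟩, ?_⟩
      show (S : Γ(X, W)) ^ (k + 1) * a = 0
      rw [pow_succ', mul_assoc]
      refine hkill _ (mem_nilradical.mpr ⟨n + 1, ?_⟩)
      rw [mul_pow, pow_succ _ n, pow_succ a, show ((S : Γ(X, W)) ^ k) ^ n * (S : Γ(X, W)) ^ k * (a ^ n * a) =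
        ((S : Γ(X, W)) ^ k) ^ n * a * ((S : Γ(X, W)) ^ k * a ^ n) by ring, hk, mul_zero]⟩
    letI := (hW.isLocalization_basicOpen (S : Γ(X, W)))
    haveI : _root_.IsReduced Γ(X, X.basicOpen (S : Γ(X, W))) :=
      isReduced_of_injective (IsLocalization.algEquiv (Submonoid.powers (S : Γ(X, W)))
        Γ(X, X.basicOpen (S : Γ(X, W))) (Localization.Away (S : Γ(X, W)))).toRingEquiv
        (RingEquiv.injective _)
    exact isReduced_of_isOpenImmersion (hW.basicOpen (S : Γ(X, W))).isoSpec.hom

/-- Reducedness at a point of flatness. -/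
theorem isReduced_stalk {X Y : Scheme.{u}} (f : X ⟶ Y) [IsLocallyNoetherian Y] [LocallyOfFiniteType f] (x : X)
    (hflat : (f.stalkMap x).hom.Flat)
    (hred : FBase.IsGeomReducedAt (f.fiberToSpecResidueField (f.base x)) (f.asFiber x))
    (hy : _root_.IsReduced (Y.presheaf.stalk (f.base x))) : _root_.IsReduced (X.presheaf.stalk x) := by
  obtain ⟨V, hV, hyV, -⟩ := exists_isAffineOpen_mem_and_subset (X := Y) (x := f x) (U := ⊤) trivial
  obtain ⟨W, hW, hxW, e⟩ := exists_isAffineOpen_mem_and_subset (X := X) (x := x) (U := f ⁻¹ᵁ V) hyV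
  replace e : W ≤ f ⁻¹ᵁ V := e
  haveI : IsNoetherianRing Γ(Y, V) := IsLocallyNoetherian.component_noetherian ⟨V, hV⟩
  letI := (f.appLE V W e).hom.toAlgebra
  have halg : algebraMap Γ(Y, V) Γ(X, W) = (f.appLE V W e).hom := rfl
  haveI : Algebra.FiniteType Γ(Y, V) Γ(X, W) := RingHom.finiteType_algebraMap.mp (f.finiteType_appLE hV hW e)
  let 𝔮 := (hW.primeIdealOf ⟨x, hxW⟩).asIdeal
  let p := (hV.primeIdealOf ⟨f x, e hxW⟩).asIdeal
  have hpq : p = 𝔮.comap (algebraMap Γ(Y, V) Γ(X, W)) :=
    congr($(IsAffineOpen.comap_primeIdealOf_appLE V hV W hW e hxW).1).symm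
  haveI : _root_.IsReduced (Localization.AtPrime (𝔮.comap (algebraMap Γ(Y, V) Γ(X, W)))) := by
    refine isReduced_congr hpq ?_
    letI := Y.presheaf.algebra_section_stalk ⟨f x, e hxW⟩
    haveI : IsLocalization.AtPrime (Y.presheaf.stalk (f x)) p := hV.isLocalization_stalk ⟨f x, e hxW⟩
    haveI : _root_.IsReduced (Y.presheaf.stalk (f x)) := hy
    exact isReduced_of_injective (IsLocalization.algEquiv p.primeCompl (Localization.AtPrime p)
      (Y.presheaf.stalk (f x))).toRingEquiv (RingEquiv.injective _)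
  haveI : Module.Flat Γ(Y, V) (Localization.AtPrime 𝔮) := by
    let ℓ := Localization.localRingHom p 𝔮 (f.appLE V W e).hom hpq
    have hℓ : ℓ.Flat := (RingHom.Flat.respectsIso.arrow_mk_iso_iff
      (IsAffineOpen.arrowStalkMapIso f V hV W hW e hxW)).mp hflat
    letI : Algebra (Localization.AtPrime p) (Localization.AtPrime 𝔮) := ℓ.toAlgebra
    haveI : IsScalarTower Γ(Y, V) (Localization.AtPrime p) (Localization.AtPrime 𝔮) := .of_algebraMap_eq fun r => by
      show _ = ℓ _
      simp only [ℓ, Localization.localRingHom_to_map]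
      rfl
    haveI : Module.Flat (Localization.AtPrime p) (Localization.AtPrime 𝔮) := hℓ
    exact (Module.flat_iff_of_isLocalization (Localization.AtPrime p) p.primeCompl (Localization.AtPrime 𝔮)).mp inferInstance
  have h := isReduced_of_flat_geomRed 𝔮 (geomRedAt f x hV hW e hxW halg hred)
  letI := X.presheaf.algebra_section_stalk ⟨x, hxW⟩
  haveI : IsLocalization.AtPrime (X.presheaf.stalk x) 𝔮 := hW.isLocalization_stalk ⟨x, hxW⟩
  haveI := h
  exact isReduced_of_injective (IsLocalization.algEquiv 𝔮.primeCompl (X.presheaf.stalk x)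
    (Localization.AtPrime 𝔮)).toRingEquiv (RingEquiv.injective _)

end Groth.L07.FlatGeomReduced
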