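import Groth.Agent.L07.FlatGeomReduced
import Mathlib.RingTheory.IsTensorProduct
import Mathlib.RingTheory.RingHom.Flat
import Mathlib.RingTheory.Flat.FaithfullyFlat.Algebra
import Mathlib.RingTheory.Localization.BaseChange

/-!
Geometric reducedness of fibres and base change.
-/

universe u

open TensorProduct

namespace Groth.L07.FlatGeomReduced

set_option autoImplicit false
set_option linter.style.haveILetI false
set_option maxSynthPendingDepth 3
set_option synthInstance.maxHeartbeats 400000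

section Congr

variable {R C C' : Type u} [CommRing R] [CommRing C] [CommRing C'] [Algebra R C] [Algebra R C']

theorem isReduced_loc_comap {A B : Type u} [CommRing A] [CommRing B] (e : A ≃+* B) (Q : Ideal B) [Q.IsPrime]
    (h : IsReduced (Localization.AtPrime (Q.comap e.toRingHom))) : IsReduced (Localization.AtPrime Q) := by
  have hM : (Q.comap e.toRingHom).primeCompl.map e.toMonoidHom = Q.primeCompl := by
    ext b
    refine ⟨?_, fun hb => ⟨e.symm b, fun h => hb ?_, e.apply_symm_apply b⟩⟩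
    · rintro ⟨a, ha, rfl⟩
      exact ha
    · simpa using (h : e (e.symm b) ∈ Q)
  let ε := IsLocalization.ringEquivOfRingEquiv (Localization.AtPrime (Q.comap e.toRingHom)) (Localization.AtPrime Q) e hM
  exact isReduced_of_injective ε.symm ε.symm.injective

theorem geomRedAt_congr (e : C ≃ₐ[R] C') (𝔮 : Ideal C') [𝔮.IsPrime]
    (h : GeomRedAt R (𝔮.comap e.toAlgHom.toRingHom)) : GeomRedAt R 𝔮 := by
  intro L _ _ hL Q _ hQ
  let σ : C ⊗[R] L ≃ₐ[R] C' ⊗[R] L := Algebra.TensorProduct.congr e AlgEquiv.refl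
  refine isReduced_loc_comap σ.toRingEquiv Q (h L ?_ _ ?_)
  · rw [hL, Ideal.comap_comap, AlgHom.toRingHom_eq_coe, AlgHom.comp_algebraMap]
  · rw [← hQ]
    ext c
    simp [σ]

end Congr

variable {R₀ R C₀ : Type u} [CommRing R₀] [CommRing R] [CommRing C₀] [Algebra R₀ R] [Algebra R₀ C₀]

/-- The fibres of a base change. -/
theorem exists_baseChange_equiv (L : Type u) [CommRing L] [Algebra R L] [Algebra R₀ L] [IsScalarTower R₀ R L] :
    ∃ σ : C₀ ⊗[R₀] L ≃+* (R ⊗[R₀] C₀) ⊗[R] L, ∀ (c : C₀) (l : L), σ (c ⊗ₜ l) = ((1 : R) ⊗ₜ[R₀] c) ⊗ₜ[R] l := by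
  refine ⟨((Algebra.TensorProduct.comm R₀ C₀ L).toRingEquiv.trans
    (Algebra.TensorProduct.cancelBaseChange R₀ R L L C₀).symm.toRingEquiv).trans
    (Algebra.TensorProduct.comm R L (R ⊗[R₀] C₀)).toRingEquiv, fun c l => ?_⟩
  simp [Algebra.TensorProduct.cancelBaseChange_symm_tmul]

/-- Geometric reducedness passes to a base change. -/
theorem geomRedAt_baseChange (𝔮 : Ideal (R ⊗[R₀] C₀)) [𝔮.IsPrime]
    (h : GeomRedAt R₀ (𝔮.comap (Algebra.TensorProduct.includeRight : C₀ →ₐ[R₀] R ⊗[R₀] C₀).toRingHom)) :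
    GeomRedAt R 𝔮 := by
  intro L _ _ hL Q _ hQ
  letI : Algebra R₀ L := ((algebraMap R L).comp (algebraMap R₀ R)).toAlgebra
  haveI : IsScalarTower R₀ R L := IsScalarTower.of_algebraMap_eq' rfl
  obtain ⟨σ, hσ⟩ := exists_baseChange_equiv (R₀ := R₀) (R := R) (C₀ := C₀) L
  refine isReduced_loc_comap σ Q (h L ?_ _ ?_)
  · rw [IsScalarTower.algebraMap_eq R₀ R L, ← RingHom.comap_ker, hL, Ideal.comap_comap, Ideal.comap_comap]
    congr 1
    ext r
    show algebraMap R₀ R r ⊗ₜ[R₀] (1 : C₀) = (1 : R) ⊗ₜ[R₀] algebraMap R₀ C₀ r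
    rw [Algebra.algebraMap_eq_smul_one, Algebra.algebraMap_eq_smul_one, smul_tmul]
  · rw [← hQ]
    ext c
    simp [hσ]

/-- Flatness of the fibres under an extension of fields. -/
theorem flat_map_field (L₀ M : Type u) [Field L₀] [CommRing M] [Algebra R₀ L₀] [Algebra R₀ M] [Algebra L₀ M]
    [IsScalarTower R₀ L₀ M] :
    (Algebra.TensorProduct.map (AlgHom.id R₀ C₀) (IsScalarTower.toAlgHom R₀ L₀ M)).toRingHom.Flat := by
  let ψ' : L₀ ⊗[R₀] C₀ →ₐ[R₀] M ⊗[R₀] C₀ :=
    Algebra.TensorProduct.map (IsScalarTower.toAlgHom R₀ L₀ M) (AlgHom.id R₀ C₀)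
  have hψ' : ψ'.toRingHom.Flat := by
    letI : Algebra (L₀ ⊗[R₀] C₀) (M ⊗[R₀] C₀) := ψ'.toRingHom.toAlgebra
    haveI : IsScalarTower L₀ (L₀ ⊗[R₀] C₀) (M ⊗[R₀] C₀) := IsScalarTower.of_algebraMap_eq fun x => by
      show algebraMap L₀ M x ⊗ₜ[R₀] (1 : C₀) = ψ' (x ⊗ₜ 1)
      simp [ψ']
    have H : (algebraMap (L₀ ⊗[R₀] C₀) (M ⊗[R₀] C₀)).comp
        (Algebra.TensorProduct.includeRight : C₀ →ₐ[R₀] L₀ ⊗[R₀] C₀).toRingHom =
        (Algebra.TensorProduct.includeRight : C₀ →ₐ[R₀] M ⊗[R₀] C₀).toRingHom := RingHom.ext fun c => by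
      show ψ' (1 ⊗ₜ c) = (1 : M) ⊗ₜ c
      simp [ψ']
    haveI hpo : Algebra.IsPushout L₀ M (L₀ ⊗[R₀] C₀) (M ⊗[R₀] C₀) :=
      Algebra.IsPushout.tensorProduct_tensorProduct R₀ C₀ L₀ M H
    exact Module.Flat.isBaseChange L₀ (L₀ ⊗[R₀] C₀) M _ hpo.symm.out
  have e : (Algebra.TensorProduct.map (AlgHom.id R₀ C₀) (IsScalarTower.toAlgHom R₀ L₀ M)).toRingHom =
      ((Algebra.TensorProduct.comm R₀ M C₀).toRingEquiv.toRingHom.comp ψ'.toRingHom).comp
        (Algebra.TensorProduct.comm R₀ C₀ L₀).toRingEquiv.toRingHom := by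
    refine RingHom.ext fun x => ?_
    induction x using TensorProduct.induction_on with
    | zero => simp
    | add a b ha hb => simp only [map_add, ha, hb]
    | tmul a b => simp [ψ']
  rw [e]
  exact (RingHom.Flat.of_bijective (Algebra.TensorProduct.comm R₀ C₀ L₀).bijective).comp
    (hψ'.comp (RingHom.Flat.of_bijective (Algebra.TensorProduct.comm R₀ M C₀).bijective))

/-- Points with the same image have a common field of values. -/
theorem exists_common_field {A₀ A B : Type u} [CommRing A₀] [CommRing A] [CommRing B] (f : A₀ →+* A) (g : A₀ →+* B)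
    (P : Ideal A) [P.IsPrime] (Q : Ideal B) [Q.IsPrime] (h : P.comap f = Q.comap g) :
    ∃ (M : Type u) (_ : Field M) (a : A →+* M) (b : B →+* M),
      a.comp f = b.comp g ∧ RingHom.ker a = P ∧ RingHom.ker b = Q := by
  let P₀ := P.comap f
  letI : Algebra P₀.ResidueField P.ResidueField := (Ideal.ResidueField.map P₀ P f rfl).toAlgebra
  letI : Algebra P₀.ResidueField Q.ResidueField := (Ideal.ResidueField.map P₀ Q g h).toAlgebra
  let T := P.ResidueField ⊗[P₀.ResidueField] Q.ResidueField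
  obtain ⟨𝔪, h𝔪⟩ := Ideal.exists_maximal T
  letI : Field (T ⧸ 𝔪) := Ideal.Quotient.field 𝔪
  let a : A →+* T ⧸ 𝔪 := ((Ideal.Quotient.mk 𝔪).comp
    (Algebra.TensorProduct.includeLeftRingHom : P.ResidueField →+* T)).comp (algebraMap _ P.ResidueField)
  let b : B →+* T ⧸ 𝔪 := ((Ideal.Quotient.mk 𝔪).comp
    (Algebra.TensorProduct.includeRight : Q.ResidueField →ₐ[P₀.ResidueField] T).toRingHom).comp
      (algebraMap _ Q.ResidueField)
  refine ⟨T ⧸ 𝔪, inferInstance, a, b, RingHom.ext fun c => ?_, ?_, ?_⟩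
  · show Ideal.Quotient.mk 𝔪 ((algebraMap _ P.ResidueField (f c)) ⊗ₜ 1) =
      Ideal.Quotient.mk 𝔪 (1 ⊗ₜ algebraMap _ Q.ResidueField (g c))
    have e1 : algebraMap P₀.ResidueField P.ResidueField (algebraMap A₀ _ c) = algebraMap _ P.ResidueField (f c) :=
      Ideal.ResidueField.map_algebraMap ..
    have e2 : algebraMap P₀.ResidueField Q.ResidueField (algebraMap A₀ _ c) = algebraMap _ Q.ResidueField (g c) :=
      Ideal.ResidueField.map_algebraMap ..
    generalize algebraMap A₀ P₀.ResidueField c = v at e1 e2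
    rw [← e1, ← e2, Algebra.algebraMap_eq_smul_one, Algebra.algebraMap_eq_smul_one, smul_tmul]
  · rw [RingHom.ker_comp_of_injective _ (RingHom.injective _), Ideal.ker_algebraMap_residueField]
  · rw [RingHom.ker_comp_of_injective _ (RingHom.injective _), Ideal.ker_algebraMap_residueField]

/-- Geometric reducedness descends along a base change. -/
theorem geomRedAt_descend (𝔮 : Ideal (R ⊗[R₀] C₀)) [𝔮.IsPrime] (h : GeomRedAt R 𝔮) :
    GeomRedAt R₀ (𝔮.comap (Algebra.TensorProduct.includeRight : C₀ →ₐ[R₀] R ⊗[R₀] C₀).toRingHom) := by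
  intro L₀ _ _ hL₀ Q₀ _ hQ₀
  let j : C₀ →+* R ⊗[R₀] C₀ := (Algebra.TensorProduct.includeRight : C₀ →ₐ[R₀] R ⊗[R₀] C₀).toRingHom
  let 𝔮₀ := 𝔮.comap j
  let i : C₀ →+* C₀ ⊗[R₀] L₀ := Algebra.TensorProduct.includeLeftRingHom
  obtain ⟨M, _, a, b, hab, hka, hkb⟩ := exists_common_field j i 𝔮 Q₀ hQ₀.symm
  letI : Algebra R M := (a.comp (algebraMap R (R ⊗[R₀] C₀))).toAlgebra
  letI : Algebra L₀ M := (b.comp (Algebra.TensorProduct.includeRight : L₀ →ₐ[R₀] C₀ ⊗[R₀] L₀).toRingHom).toAlgebra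
  letI : Algebra R₀ M := ((algebraMap R M).comp (algebraMap R₀ R)).toAlgebra
  haveI : IsScalarTower R₀ R M := IsScalarTower.of_algebraMap_eq' rfl
  haveI : IsScalarTower R₀ L₀ M := IsScalarTower.of_algebraMap_eq fun r => by
    show a (algebraMap R₀ R r ⊗ₜ 1) = b (1 ⊗ₜ algebraMap R₀ L₀ r)
    rw [show algebraMap R₀ R r ⊗ₜ[R₀] (1 : C₀) = j (algebraMap R₀ C₀ r) by
        show _ = (1 : R) ⊗ₜ[R₀] algebraMap R₀ C₀ r
        rw [Algebra.algebraMap_eq_smul_one, Algebra.algebraMap_eq_smul_one, smul_tmul],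
      show (1 : C₀) ⊗ₜ[R₀] algebraMap R₀ L₀ r = i (algebraMap R₀ C₀ r) by
        show _ = algebraMap R₀ C₀ r ⊗ₜ[R₀] (1 : L₀)
        rw [Algebra.algebraMap_eq_smul_one, Algebra.algebraMap_eq_smul_one, smul_tmul]]
    exact RingHom.congr_fun hab (algebraMap R₀ C₀ r)
  let χ : (R ⊗[R₀] C₀) ⊗[R] M →ₐ[R] M :=
    Algebra.TensorProduct.lift { a with commutes' := fun r => rfl } (AlgHom.id R M) (fun _ _ => Commute.all _ _)
  let Q : Ideal ((R ⊗[R₀] C₀) ⊗[R] M) := RingHom.ker χ.toRingHom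
  haveI : Q.IsPrime := RingHom.ker_isPrime _
  have hQ : Q.comap Algebra.TensorProduct.includeLeftRingHom = 𝔮 := by
    rw [← hka]
    ext c
    simp [Q, χ]
  have hred := h M (by rw [RingHom.algebraMap_toAlgebra, ← RingHom.comap_ker, hka]) Q hQ
  obtain ⟨σ, hσ⟩ := exists_baseChange_equiv (R₀ := R₀) (R := R) (C₀ := C₀) M
  let ψ : C₀ ⊗[R₀] L₀ →+* (R ⊗[R₀] C₀) ⊗[R] M := σ.toRingHom.comp
    (Algebra.TensorProduct.map (AlgHom.id R₀ C₀) (IsScalarTower.toAlgHom R₀ L₀ M)).toRingHom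
  have hψ : ψ.Flat := (flat_map_field L₀ M).comp (RingHom.Flat.of_bijective (RingEquiv.bijective _))
  have hcomap : Q₀ = Q.comap ψ := by
    rw [← hkb, RingHom.comap_ker]
    congr 1
    refine RingHom.ext fun x => ?_
    induction x using TensorProduct.induction_on with
    | zero => simp
    | add p q hp hq => simp only [map_add, hp, hq]
    | tmul c l =>
      show b (c ⊗ₜ l) = χ (σ (c ⊗ₜ algebraMap L₀ M l))
      rw [hσ, Algebra.TensorProduct.lift_tmul]
      show b (c ⊗ₜ l) = a (j c) * b (1 ⊗ₜ l)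
      rw [show a (j c) = b (i c) from RingHom.congr_fun hab c, ← map_mul]
      simp [i]
  letI := ψ.toAlgebra
  let ℓ := Localization.localRingHom Q₀ Q ψ hcomap
  letI : Algebra (Localization.AtPrime Q₀) (Localization.AtPrime Q) := ℓ.toAlgebra
  haveI : IsScalarTower (C₀ ⊗[R₀] L₀) (Localization.AtPrime Q₀) (Localization.AtPrime Q) :=
    IsScalarTower.of_algebraMap_eq fun x => by
      show _ = ℓ _
      simp only [ℓ, Localization.localRingHom_to_map]
      rfl
  haveI : Module.Flat (C₀ ⊗[R₀] L₀) (Localization.AtPrime Q) := by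
    haveI : Module.Flat (C₀ ⊗[R₀] L₀) ((R ⊗[R₀] C₀) ⊗[R] M) := hψ
    haveI : Module.Flat ((R ⊗[R₀] C₀) ⊗[R] M) (Localization.AtPrime Q) := IsLocalization.flat _ Q.primeCompl
    exact Module.Flat.trans (C₀ ⊗[R₀] L₀) ((R ⊗[R₀] C₀) ⊗[R] M) (Localization.AtPrime Q)
  haveI : Module.Flat (Localization.AtPrime Q₀) (Localization.AtPrime Q) :=
    (Module.flat_iff_of_isLocalization (Localization.AtPrime Q₀) Q₀.primeCompl (Localization.AtPrime Q)).mpr inferInstance
  haveI : IsLocalHom (algebraMap (Localization.AtPrime Q₀) (Localization.AtPrime Q)) :=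
    Localization.isLocalHom_localRingHom Q₀ Q ψ hcomap
  haveI := Module.FaithfullyFlat.of_flat_of_isLocalHom (A := Localization.AtPrime Q₀) (B := Localization.AtPrime Q)
  exact isReduced_of_injective (algebraMap (Localization.AtPrime Q₀) (Localization.AtPrime Q))
    (FaithfulSMul.algebraMap_injective _ _)

end Groth.L07.FlatGeomReduced
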