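import Groth.Agent.L07.GeomReducedOpen
import Groth.Agent.L07.GeomRedBaseChange
import Groth.Agent.L07.FlatStage
import Groth.Agent.L07.FlatReducedScheme
import Mathlib.RingTheory.Extension.Presentation.Core

/-!
Flatness with geometrically reduced fibres for algebras of finite presentation over an arbitrary ring.
-/

universe u

open TensorProduct

namespace Groth.L07.FlatGeomReduced

set_option autoImplicit false
set_option linter.style.haveILetI false
set_option maxSynthPendingDepth 3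
set_option synthInstance.maxHeartbeats 400000

variable {R C : Type u} [CommRing R] [CommRing C] [Algebra R C]

/-- A flat algebra of finite presentation has a flat model over a finitely generated subring. -/
theorem exists_flat_model (A B : Type u) [CommRing A] [CommRing B] [Algebra A B]
    [Algebra.FinitePresentation A B] [Module.Flat A B] :
    ∃ (A₁ : Subalgebra ℤ A) (_ : IsNoetherianRing A₁) (B₁ : Type u) (_ : CommRing B₁) (_ : Algebra A₁ B₁),
      Algebra.FiniteType A₁ B₁ ∧ Module.Flat A₁ B₁ ∧ Nonempty (A ⊗[A₁] B₁ ≃ₐ[A] B) := by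
  classical
  let P := Algebra.Presentation.ofFinitePresentation A B
  let A₀ := Algebra.adjoin ℤ P.coeffs
  haveI : P.HasCoeffs A₀ := ⟨by
    intro x hx
    exact ⟨⟨x, Algebra.subset_adjoin hx⟩, rfl⟩⟩
  have hA₀ : A₀.FG := ⟨P.finite_coeffs.toFinset, by simp [A₀]⟩
  let B₀ := P.ModelOfHasCoeffs A₀
  let e₀ : A ⊗[A₀] B₀ ≃ₐ[A] B := P.tensorModelOfHasCoeffsEquiv A₀
  obtain ⟨d, n, R₀, _, K, ⟨em⟩⟩ := Groth.L07.FlatDescent.exists_model (A₀ := A₀) (B₀ := B₀) B₀
  obtain ⟨eA⟩ := Groth.L07.FlatDescent.exists_modelEquiv K em A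
  haveI : Module.Flat A (A ⊗[A₀] B₀) := Module.Flat.of_linearEquiv e₀.toLinearEquiv
  haveI : Module.Flat A (Groth.L07.FlatDescent.MC A K) := Module.Flat.of_linearEquiv eA.symm
  obtain ⟨S, hS, hflat⟩ := Groth.L07.FlatDescent.exists_fg_stage K A
  obtain ⟨T, hT⟩ := hS
  let A₁ : Subalgebra ℤ A := A₀ ⊔ Algebra.adjoin ℤ (T : Set A)
  have hA₁ : A₁.FG := hA₀.sup ⟨T, rfl⟩
  haveI : IsNoetherianRing A₁ := by
    haveI : Algebra.FiniteType ℤ A₁ := A₁.fg_iff_finiteType.mp hA₁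
    exact Algebra.FiniteType.isNoetherianRing ℤ A₁
  letI : Algebra A₀ A₁ := (Subalgebra.inclusion (le_sup_left : A₀ ≤ A₁)).toRingHom.toAlgebra
  haveI : IsScalarTower A₀ A₁ A := IsScalarTower.of_algebraMap_eq fun _ => rfl
  have hmem : ∀ x ∈ S, x ∈ A₁ := fun x hx => by
    rw [← hT] at hx
    induction hx using Algebra.adjoin_induction with
    | mem x hx => exact (le_sup_right : _ ≤ A₁) (Algebra.subset_adjoin hx)
    | algebraMap r => exact (le_sup_left : _ ≤ A₁) (r.1).2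
    | add x y _ _ hx hy => exact add_mem hx hy
    | mul x y _ _ hx hy => exact mul_mem hx hy
  let χ : S →+* A₁ := S.val.toRingHom.codRestrict A₁ fun x => hmem x.1 x.2
  letI : Algebra S A₁ := χ.toAlgebra
  haveI : IsScalarTower R₀ A₀ A₁ := IsScalarTower.of_algebraMap_eq fun _ => rfl
  haveI : IsScalarTower R₀ S A₁ := IsScalarTower.of_algebraMap_eq fun _ => rfl
  haveI : Module.Flat A₁ (Groth.L07.FlatDescent.MC A₁ K) := Groth.L07.FlatDescent.flat_MC_of_flat K (A := S)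
  obtain ⟨e₁⟩ := Groth.L07.FlatDescent.exists_modelEquiv K em A₁
  refine ⟨A₁, inferInstance, A₁ ⊗[A₀] B₀, inferInstance, inferInstance, inferInstance,
    Module.Flat.of_linearEquiv e₁, ⟨?_⟩⟩
  exact (Algebra.TensorProduct.cancelBaseChange A₀ A₁ A A B₀).trans e₀

/-- Finitely many elements come from a finitely generated stage. -/
theorem exists_stage_mem {A₁ A B₁ : Type u} [CommRing A₁] [CommRing A] [CommRing B₁] [Algebra A₁ A]
    [Algebra A₁ B₁] (s : Finset (A ⊗[A₁] B₁)) :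
    ∃ A₂ : Subalgebra A₁ A, A₂.FG ∧ ∀ z ∈ s,
      z ∈ Set.range (Algebra.TensorProduct.map A₂.val (AlgHom.id A₁ B₁)) := by
  classical
  have hone : ∀ z : A ⊗[A₁] B₁, ∃ t : Finset A, ∀ A₂ : Subalgebra A₁ A, (t : Set A) ⊆ A₂ →
      z ∈ (Algebra.TensorProduct.map A₂.val (AlgHom.id A₁ B₁)).range := fun z => by
    induction z using TensorProduct.induction_on with
    | zero => exact ⟨∅, fun _ _ => zero_mem _⟩
    | tmul a b => exact ⟨{a}, fun A₂ h => ⟨⟨a, h (Finset.mem_singleton_self a)⟩ ⊗ₜ b, rfl⟩⟩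
    | add x y hx hy =>
      obtain ⟨t₁, h₁⟩ := hx
      obtain ⟨t₂, h₂⟩ := hy
      refine ⟨t₁ ∪ t₂, fun A₂ h => ?_⟩
      rw [Finset.coe_union, Set.union_subset_iff] at h
      exact add_mem (h₁ A₂ h.1) (h₂ A₂ h.2)
  choose t ht using hone
  exact ⟨Algebra.adjoin A₁ (s.biUnion t : Set A), ⟨_, rfl⟩, fun z hz => ht z _ fun a ha =>
    Algebra.subset_adjoin (Finset.mem_biUnion.mpr ⟨z, hz, ha⟩)⟩

/-- Geometric reducedness only depends on the local ring. -/
theorem geomRedAt_of_localEquiv {C' : Type u} [CommRing C'] [Algebra R C'] (𝔮 : Ideal C) [𝔮.IsPrime]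
    (𝔮' : Ideal C') [𝔮'.IsPrime] (h : GeomRedAt R 𝔮)
    (ε : Localization.AtPrime 𝔮 ≃ₐ[R] Localization.AtPrime 𝔮') : GeomRedAt R 𝔮' := by
  intro L _ _ hL Q _ hQ
  have hp : 𝔮.comap (algebraMap R C) = 𝔮'.comap (algebraMap R C') := by
    have key : ∀ (D : Type u) [CommRing D] [Algebra R D] (P : Ideal D) [P.IsPrime] (r : R),
        r ∈ P.comap (algebraMap R D) ↔ ¬ IsUnit (algebraMap R (Localization.AtPrime P) r) := by
      intro D _ _ P _ r
      rw [IsScalarTower.algebraMap_apply R D (Localization.AtPrime P), IsLocalization.AtPrime.isUnit_to_map_iff _ P,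
        Ideal.mem_comap]
      exact not_not.symm
    ext r
    rw [key, key, ← ε.commutes r]
    exact not_congr (isUnit_map_iff ε _).symm
  haveI := isReduced_localTensor 𝔮 h L (hL.trans hp.symm)
  haveI : IsReduced (Localization.AtPrime 𝔮' ⊗[R] L) :=
    isReduced_of_injective (Algebra.TensorProduct.congr ε.symm (AlgEquiv.refl : L ≃ₐ[R] L))
      (Algebra.TensorProduct.congr ε.symm (AlgEquiv.refl : L ≃ₐ[R] L)).injective
  exact isReduced_loc_of_localTensor 𝔮' L Q hQ.le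

/-- Localizing away from a point does not change the local ring. -/
theorem exists_localEquiv (M : Submonoid C) (A : Type u) [CommRing A] [Algebra C A] [Algebra R A]
    [IsScalarTower R C A] [IsLocalization M A] (𝔓 : Ideal C) [𝔓.IsPrime] (h : Disjoint (M : Set C) 𝔓) :
    ∃ (𝔓' : Ideal A) (_ : 𝔓'.IsPrime), 𝔓'.comap (algebraMap C A) = 𝔓 ∧
      Nonempty (Localization.AtPrime 𝔓 ≃ₐ[R] Localization.AtPrime 𝔓') := by
  let P' : Ideal A := 𝔓.map (algebraMap C A)
  haveI : P'.IsPrime := IsLocalization.isPrime_of_isPrime_disjoint M A 𝔓 inferInstance h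
  have hcom : P'.comap (algebraMap C A) = 𝔓 := IsLocalization.under_map_of_isPrime_disjoint M A inferInstance h
  haveI : IsLocalization.AtPrime (Localization.AtPrime P') 𝔓 := by
    have h1 := IsLocalization.isLocalization_isLocalization_atPrime_isLocalization M (Localization.AtPrime P') P'
    simp only [IsLocalization.AtPrime, Ideal.primeCompl, hcom] at h1 ⊢
    exact h1
  exact ⟨P', inferInstance, hcom,
    ⟨(IsLocalization.algEquiv 𝔓.primeCompl (Localization.AtPrime 𝔓) (Localization.AtPrime P')).restrictScalars R⟩⟩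

/-- A neighbourhood of flatness with geometrically reduced fibres. -/
theorem exists_flat_geomRed_nhd [Algebra.FinitePresentation R C] (𝔮 : Ideal C) [𝔮.IsPrime]
    [Module.Flat R (Localization.AtPrime 𝔮)] (hred : GeomRedAt R 𝔮) :
    ∃ f ∉ 𝔮, ∀ (𝔓 : Ideal C) [𝔓.IsPrime], f ∉ 𝔓 →
      Module.Flat R (Localization.AtPrime 𝔓) ∧ GeomRedAt R 𝔓 := by
  haveI := (flat_localization_iff (R := R) 𝔮.primeCompl _).mp ‹Module.Flat R (Localization.AtPrime 𝔮)›
  obtain ⟨g, hg, hgflat⟩ := Groth.L20.exists_flat_away (R := R) (M := C) 𝔮.primeCompl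
  let B := Localization.Away g
  haveI : Module.Flat R B := (flat_localization_iff (Submonoid.powers g) B).mpr hgflat
  haveI : Algebra.FinitePresentation C B := IsLocalization.Away.finitePresentation g
  haveI : Algebra.FinitePresentation R B := Algebra.FinitePresentation.trans R C B
  obtain ⟨A₁, _, B₁, _, _, _, _, ⟨e⟩⟩ := exists_flat_model R B
  obtain ⟨𝔮', _, hcom', ⟨ε⟩⟩ := exists_localEquiv (R := R) (Submonoid.powers g) B 𝔮
    ((Ideal.disjoint_powers_iff_notMem_of_isPrime g).mpr hg)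
  have h1 := geomRedAt_of_localEquiv 𝔮 𝔮' hred ε
  have h2 : GeomRedAt R (𝔮'.comap e.toAlgHom.toRingHom) := by
    refine geomRedAt_congr e.symm (𝔮'.comap e.toAlgHom.toRingHom) ?_
    have heq : (𝔮'.comap e.toAlgHom.toRingHom).comap e.symm.toAlgHom.toRingHom = 𝔮' := by ext; simp
    intro L _ _ hL Q _ hQ
    exact h1 L (hL.trans (by rw [heq])) Q (hQ.trans heq)
  have h3 := geomRedAt_descend _ h2
  haveI : Module.Flat A₁ B₁ := ‹_›
  let q₁ : PrimeSpectrum B₁ := ⟨(𝔮'.comap e.toAlgHom.toRingHom).comap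
    (Algebra.TensorProduct.includeRight : B₁ →ₐ[A₁] R ⊗[A₁] B₁).toRingHom, inferInstance⟩
  have hloc : ∀ P : Ideal B₁, [P.IsPrime] → Module.Flat A₁ (Localization.AtPrime P) := fun P _ => by
    haveI : Module.Flat B₁ (Localization.AtPrime P) := IsLocalization.flat _ P.primeCompl
    exact Module.Flat.trans A₁ B₁ (Localization.AtPrime P)
  obtain ⟨_, ⟨_, ⟨f₁, rfl⟩, rfl⟩, hq₁, hsub⟩ := PrimeSpectrum.isBasis_basic_opens.exists_subset_of_mem_open
    (show q₁ ∈ {P : PrimeSpectrum B₁ | Module.Flat A₁ (Localization.AtPrime P.asIdeal) ∧ GeomRedAt A₁ P.asIdeal} from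
      ⟨hloc q₁.asIdeal, h3⟩) (isOpen_flat_geomRedAt (R := A₁) (C := B₁))
  obtain ⟨a, ⟨_, k, rfl⟩, ha⟩ := IsLocalization.exists_mk'_eq (Submonoid.powers g) (e (1 ⊗ₜ f₁))
  have hfa : ∀ (𝔓' : Ideal B) (_ : 𝔓'.IsPrime), e (1 ⊗ₜ f₁) ∈ 𝔓' ↔ a ∈ 𝔓'.comap (algebraMap C B) := by
    intro 𝔓' _
    rw [← ha, Ideal.mem_comap]
    exact IsLocalization.mk'_mem_iff
  refine ⟨g * a, fun h => ?_, fun 𝔓 _ hf => ?_⟩
  · rcases (inferInstance : 𝔮.IsPrime).mem_or_mem h with h | h
    · exact hg h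
    · exact hq₁ ((hfa 𝔮' inferInstance).mpr (hcom'.symm ▸ h))
  · obtain ⟨𝔓', _, hcom, ⟨ε'⟩⟩ := exists_localEquiv (R := R) (Submonoid.powers g) B 𝔓
      ((Ideal.disjoint_powers_iff_notMem_of_isPrime g).mpr fun h => hf (Ideal.mul_mem_right _ _ h))
    refine ⟨(flat_localization_iff 𝔓.primeCompl _).mpr (Groth.L20.flat_localizedModule_of_le
      (Submonoid.powers_le.mpr fun h => hf (Ideal.mul_mem_right _ _ h)) hgflat), ?_⟩
    refine geomRedAt_of_localEquiv 𝔓' 𝔓 ?_ ε'.symm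
    let q : PrimeSpectrum B₁ := ⟨(𝔓'.comap e.toAlgHom.toRingHom).comap
      (Algebra.TensorProduct.includeRight : B₁ →ₐ[A₁] R ⊗[A₁] B₁).toRingHom, inferInstance⟩
    have hq : q ∈ (PrimeSpectrum.basicOpen f₁ : Set (PrimeSpectrum B₁)) := fun hmem =>
      hf (Ideal.mul_mem_left _ _ (hcom ▸ (hfa 𝔓' inferInstance).mp hmem))
    exact geomRedAt_congr e 𝔓' (geomRedAt_baseChange _ (hsub hq).2)

/-- The point at a stage below a point with geometrically reduced fibre. -/
theorem exists_stage_prime {A₁ A₂ A B₁ B : Type u} [CommRing A₁] [CommRing A₂] [CommRing A] [CommRing B₁]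
    [CommRing B] [Algebra A₁ A₂] [Algebra A₁ A] [Algebra A₂ A] [IsScalarTower A₁ A₂ A] [Algebra A₁ B₁]
    [Algebra A B] (e : A ⊗[A₁] B₁ ≃ₐ[A] B) (𝔮 : Ideal B) [𝔮.IsPrime] (hred : GeomRedAt A 𝔮) :
    ∃ (𝔮₂ : Ideal (A₂ ⊗[A₁] B₁)) (_ : 𝔮₂.IsPrime), GeomRedAt A₂ 𝔮₂ ∧ ∀ z, (z ∈ 𝔮₂ ↔
      e (Algebra.TensorProduct.map (IsScalarTower.toAlgHom A₁ A₂ A) (AlgHom.id A₁ B₁) z) ∈ 𝔮) := by
  let θ : A ⊗[A₂] (A₂ ⊗[A₁] B₁) ≃ₐ[A] B := (Algebra.TensorProduct.cancelBaseChange A₁ A₂ A A B₁).trans e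
  have h2 : GeomRedAt A (𝔮.comap θ.toAlgHom.toRingHom) := by
    refine geomRedAt_congr θ.symm (𝔮.comap θ.toAlgHom.toRingHom) ?_
    have heq : (𝔮.comap θ.toAlgHom.toRingHom).comap θ.symm.toAlgHom.toRingHom = 𝔮 := by ext; simp
    intro L _ _ hL Q _ hQ
    exact hred L (hL.trans (by rw [heq])) Q (hQ.trans heq)
  refine ⟨_, inferInstance, geomRedAt_descend _ h2, fun z => ?_⟩
  show θ (1 ⊗ₜ z) ∈ 𝔮 ↔ _
  suffices hκ : Algebra.TensorProduct.cancelBaseChange A₁ A₂ A A B₁ (1 ⊗ₜ z) =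
      Algebra.TensorProduct.map (IsScalarTower.toAlgHom A₁ A₂ A) (AlgHom.id A₁ B₁) z by
    show e (Algebra.TensorProduct.cancelBaseChange A₁ A₂ A A B₁ (1 ⊗ₜ z)) ∈ 𝔮 ↔ _
    rw [hκ]
  induction z using TensorProduct.induction_on with
  | zero => simp
  | add p q hp hq => rw [tmul_add, map_add, map_add, hp, hq]
  | tmul p q =>
    rw [Algebra.TensorProduct.cancelBaseChange_tmul, Algebra.TensorProduct.map_tmul, Algebra.smul_def, mul_one]
    rfl

/-- Reducedness over a reduced base, for a flat algebra. -/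
theorem isReduced_of_flat_geomRed_model {A B : Type u} [CommRing A] [CommRing B] [Algebra A B] [IsReduced A]
    [Algebra.FinitePresentation A B] [Module.Flat A B] (𝔮 : Ideal B) [𝔮.IsPrime] (hred : GeomRedAt A 𝔮) :
    IsReduced (Localization.AtPrime 𝔮) := by
  classical
  obtain ⟨A₁, _, B₁, _, _, _, _, ⟨e⟩⟩ := exists_flat_model A B
  refine ⟨fun x hx => ?_⟩
  obtain ⟨a, s, rfl⟩ := IsLocalization.exists_mk'_eq 𝔮.primeCompl x
  obtain ⟨n, hn⟩ := hx
  rw [← IsLocalization.mk'_pow, IsLocalization.mk'_eq_zero_iff] at hn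
  obtain ⟨u, hu⟩ := hn
  obtain ⟨A₂, hA₂, hmem⟩ := exists_stage_mem ({e.symm a, e.symm (u : B)} : Finset _)
  let B₂ := A₂ ⊗[A₁] B₁
  let ι : B₂ →ₐ[A₁] A ⊗[A₁] B₁ := Algebra.TensorProduct.map A₂.val (AlgHom.id A₁ B₁)
  obtain ⟨a₂, ha₂⟩ := hmem (e.symm a) (Finset.mem_insert_self _ _)
  obtain ⟨u₂, hu₂⟩ := hmem (e.symm (u : B)) (Finset.mem_insert_of_mem (Finset.mem_singleton_self _))
  haveI : Algebra.FiniteType A₁ A₂ := A₂.fg_iff_finiteType.mp hA₂
  haveI : IsNoetherianRing A₂ := Algebra.FiniteType.isNoetherianRing A₁ A₂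
  haveI : IsReduced A₂ := isReduced_of_injective A₂.val Subtype.val_injective
  obtain ⟨𝔮₂, _, h3, hmem₂⟩ := exists_stage_prime (A₂ := A₂) e 𝔮 hred
  replace hmem₂ : ∀ z : B₂, z ∈ 𝔮₂ ↔ e (ι z) ∈ 𝔮 := fun z => hmem₂ z
  haveI : Module.Flat A₂ (Localization.AtPrime 𝔮₂) := by
    haveI : Module.Flat B₂ (Localization.AtPrime 𝔮₂) := IsLocalization.flat _ 𝔮₂.primeCompl
    exact Module.Flat.trans A₂ B₂ (Localization.AtPrime 𝔮₂)
  haveI : IsReduced (Localization.AtPrime (𝔮₂.comap (algebraMap A₂ B₂))) :=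
    isReduced_localizationPreserves (𝔮₂.comap (algebraMap A₂ B₂)).primeCompl _ inferInstance
  haveI := isReduced_of_flat_geomRed 𝔮₂ h3
  have hι : Function.Injective ι :=
    Module.Flat.rTensor_preserves_injective_linearMap (M := B₁) A₂.val.toLinearMap Subtype.val_injective
  have hau : u₂ * a₂ ^ n = 0 := hι (e.injective (by
    rw [map_mul ι, map_pow, show ι u₂ = _ from hu₂, show ι a₂ = _ from ha₂, map_mul, map_pow, e.apply_symm_apply,
      e.apply_symm_apply, hu, map_zero, map_zero]))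
  have hu₂' : u₂ ∉ 𝔮₂ := fun h => u.2 (by
    have h' := (hmem₂ u₂).mp h
    rwa [show ι u₂ = _ from hu₂, e.apply_symm_apply] at h')
  have h4 : algebraMap B₂ (Localization.AtPrime 𝔮₂) a₂ = 0 := IsNilpotent.eq_zero ⟨n, by
    rw [← map_pow]
    exact (IsLocalization.map_eq_zero_iff 𝔮₂.primeCompl _ _).mpr ⟨⟨u₂, hu₂'⟩, hau⟩⟩
  obtain ⟨v, hv⟩ := (IsLocalization.map_eq_zero_iff 𝔮₂.primeCompl _ _).mp h4
  rw [IsLocalization.mk'_eq_zero_iff]
  refine ⟨⟨e (ι v), fun h => v.2 ((hmem₂ _).mpr h)⟩, ?_⟩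
  show e (ι v) * a = 0
  rw [← e.apply_symm_apply a, ← show ι a₂ = _ from ha₂, ← map_mul, ← map_mul, hv, map_zero, map_zero]

/-- Reducedness at a point of flatness with geometrically reduced fibre, for finite presentation. -/
theorem isReduced_of_flat_geomRed_fp [Algebra.FinitePresentation R C] (𝔮 : Ideal C) [𝔮.IsPrime]
    [Module.Flat R (Localization.AtPrime 𝔮)] [IsReduced (Localization.AtPrime (𝔮.comap (algebraMap R C)))]
    (hred : GeomRedAt R 𝔮) : IsReduced (Localization.AtPrime 𝔮) := by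
  let p := 𝔮.comap (algebraMap R C)
  let A := Localization.AtPrime p
  let C' := A ⊗[R] C
  letI : Algebra C C' := Algebra.TensorProduct.rightAlgebra
  haveI hloc : IsLocalization (Algebra.algebraMapSubmonoid C p.primeCompl) C' :=
    IsLocalization.tensorRight A p.primeCompl
  have hdisj : Disjoint (Algebra.algebraMapSubmonoid C p.primeCompl : Set C) 𝔮 := by
    rw [Set.disjoint_left]
    rintro _ ⟨r, hr, rfl⟩ hrq
    exact hr hrq
  obtain ⟨𝔮', _, hcom, ⟨ε⟩⟩ := exists_localEquiv (R := R) (Algebra.algebraMapSubmonoid C p.primeCompl) C' 𝔮 hdisj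
  have hcom' : 𝔮'.comap (Algebra.TensorProduct.includeRight : C →ₐ[R] C').toRingHom = 𝔮 := hcom
  have hred' : GeomRedAt A 𝔮' := geomRedAt_baseChange 𝔮' (by
    intro L _ _ hL Q _ hQ
    exact hred L (hL.trans (by rw [hcom'])) Q (hQ.trans hcom'))
  haveI : Module.Flat R (Localization.AtPrime 𝔮') := Module.Flat.of_linearEquiv ε.symm.toLinearEquiv
  haveI : Module.Flat A (Localization.AtPrime 𝔮') :=
    (Module.flat_iff_of_isLocalization A p.primeCompl (Localization.AtPrime 𝔮')).mpr inferInstance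
  haveI : IsReduced A := ‹_›
  haveI := (flat_localization_iff (R := A) 𝔮'.primeCompl _).mp ‹Module.Flat A (Localization.AtPrime 𝔮')›
  obtain ⟨g, hg, hgflat⟩ := Groth.L20.exists_flat_away (R := A) (M := C') 𝔮'.primeCompl
  let B := Localization.Away g
  haveI : Module.Flat A B := (flat_localization_iff (Submonoid.powers g) B).mpr hgflat
  haveI : Algebra.FinitePresentation C' B := IsLocalization.Away.finitePresentation g
  haveI : Algebra.FinitePresentation A B := Algebra.FinitePresentation.trans A C' B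
  obtain ⟨𝔔, _, -, ⟨ε'⟩⟩ := exists_localEquiv (R := A) (Submonoid.powers g) B 𝔮'
    ((Ideal.disjoint_powers_iff_notMem_of_isPrime g).mpr hg)
  haveI := isReduced_of_flat_geomRed_model 𝔔 (geomRedAt_of_localEquiv 𝔮' 𝔔 hred' ε')
  haveI : IsReduced (Localization.AtPrime 𝔮') := isReduced_of_injective ε' ε'.injective
  exact isReduced_of_injective ε ε.injective

end Groth.L07.FlatGeomReduced
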