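import Groth.Agent.L16.AffineBC.Pullback
import Groth.Agent.L21.Mod.Stalks

/-!
A map of quasi-coherent modules bijective on the sections over an affine cover is an isomorphism.
-/

set_option autoImplicit false
set_option linter.style.haveILetI false
set_option maxSynthPendingDepth 3
set_option backward.isDefEq.respectTransparency false
set_option backward.isDefEq.respectTransparency.types false

universe u

open CategoryTheory AlgebraicGeometry TopologicalSpace
open Groth.L20.ModStalk (stalkModule germₗ isLocalizedModule_germ)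

namespace Groth.L07.ModBij

variable {X : Scheme.{u}} {M N : X.Modules} [Coh.IsQCoh M] [Coh.IsQCoh N]

theorem stalk_bijective_of_app (φ : M ⟶ N) {U : X.Opens} (hU : IsAffineOpen U)
    (h : Function.Bijective (φ.app U)) {x : X} (hx : x ∈ U) :
    Function.Bijective ((Groth.L00.Stk.F X x).map φ) := by
  letI := stalkModule M hx
  letI := stalkModule N hx
  let S := (hU.primeIdealOf ⟨x, hx⟩).asIdeal.primeCompl
  haveI : IsLocalizedModule S (germₗ M hx) := isLocalizedModule_germ M hU hx
  haveI : IsLocalizedModule S (germₗ N hx) := isLocalizedModule_germ N hU hx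
  let F : Γ(M, U) →ₗ[Γ(X, U)] Γ(N, U) :=
    { toFun := fun m => φ.app U m
      map_add' := fun a b => map_add _ a b
      map_smul' := fun a m => φ.app_smul a m }
  let Φ : M.presheaf.stalk x →ₗ[Γ(X, U)] N.presheaf.stalk x :=
    { toFun := fun m => (Groth.L00.Stk.F X x).map φ m
      map_add' := fun a b => map_add _ a b
      map_smul' := fun a m => ((Groth.L00.Stk.F X x).map φ).hom.map_smul _ m }
  have hΦ : ∀ m, Φ (germₗ M hx m) = germₗ N hx (F m) := fun m => by
    show (Groth.L00.Stk.F X x).map φ _ = _
    erw [Groth.L21.Mod.stalkF_map_germ]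
    rfl
  have e : Φ = IsLocalizedModule.map S (germₗ M hx) (germₗ N hx) F :=
    IsLocalizedModule.ext S (germₗ M hx) (IsLocalizedModule.map_units (germₗ N hx))
      (LinearMap.ext fun m => (hΦ m).trans (IsLocalizedModule.map_apply S (germₗ M hx) (germₗ N hx) F m).symm)
  show Function.Bijective Φ
  rw [e]
  exact ⟨IsLocalizedModule.map_injective S (germₗ M hx) (germₗ N hx) F h.1,
    IsLocalizedModule.map_surjective S (germₗ M hx) (germₗ N hx) F h.2⟩

theorem isIso_of_affine_cover (φ : M ⟶ N)
    (h : ∀ x : X, ∃ U : X.Opens, IsAffineOpen U ∧ x ∈ U ∧ Function.Bijective (φ.app U)) : IsIso φ := by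
  rw [Groth.L21.Mod.isIso_iff_stalk_bijective]
  intro x
  obtain ⟨U, hU, hx, hb⟩ := h x
  exact stalk_bijective_of_app φ hU hb hx

end Groth.L07.ModBij
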