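import Groth.Agent.L07.GeomRedField
import Groth.Agent.L07.GeomRedPullback
import Groth.Agent.L25.GrpDeriv
import Mathlib.AlgebraicGeometry.Geometrically.Reduced

/-!
Geometric reducedness is detected over one perfect extension (EGA IV 4.6.1).
-/

universe u

open CategoryTheory CategoryTheory.Limits AlgebraicGeometry TensorProduct

namespace Groth.L07.GeomRedPerfect

set_option autoImplicit false
set_option linter.style.haveILetI false
set_option maxSynthPendingDepth 3
set_option backward.isDefEq.respectTransparency.types false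
set_option backward.isDefEq.respectTransparency false

open Groth.L07.FlatGeomReduced

/-- Over a perfect field a reduced local ring is geometrically reduced. -/
theorem geomRedAt_of_perfect {k C : Type u} [Field k] [PerfectField k] [CommRing C] [Algebra k C] (𝔮 : Ideal C)
    [𝔮.IsPrime] (h : _root_.IsReduced (Localization.AtPrime 𝔮)) : GeomRedAt k 𝔮 := by
  intro L _ _ _ Q _ hQ
  let S := Localization.AtPrime 𝔮
  haveI := h
  let K := AlgebraicClosure k
  haveI : _root_.IsReduced (S ⊗[k] K) := Groth.L25.GrpDeriv.isReduced_tensorProduct_of_perfectField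
  haveI : _root_.IsReduced (K ⊗[k] S) := isReduced_of_injective (Algebra.TensorProduct.comm k K S).toAlgHom
    (Algebra.TensorProduct.comm k K S).injective
  haveI : Algebra.IsGeometricallyReduced k S := (Algebra.isGeometricallyReduced_field_iff k S).mpr inferInstance
  haveI : _root_.IsReduced (L ⊗[k] S) := Groth.L03.GeomReduced2.isReduced_of_isGeometricallyReduced L
  haveI : _root_.IsReduced (S ⊗[k] L) := isReduced_of_injective (Algebra.TensorProduct.comm k S L).toAlgHom
    (Algebra.TensorProduct.comm k S L).injective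
  obtain ⟨toL, htoL⟩ := exists_toLoc (R := k) 𝔮 Q hQ.le
  refine ⟨fun x hx => ?_⟩
  obtain ⟨a, s, rfl⟩ := IsLocalization.exists_mk'_eq Q.primeCompl x
  obtain ⟨n, hn⟩ := hx
  rw [← IsLocalization.mk'_pow, IsLocalization.mk'_eq_zero_iff] at hn
  obtain ⟨u, hu⟩ := hn
  have h1 : toS (R := k) 𝔮 L ((u : C ⊗[k] L) * a) = 0 := IsNilpotent.eq_zero ⟨n + 1, by
    rw [← map_pow, mul_pow, pow_succ (u : C ⊗[k] L), pow_succ a,
      show ((u : C ⊗[k] L) ^ n * u) * (a ^ n * a) = (u ^ n * a) * (u * a ^ n) by ring, hu, mul_zero, map_zero]⟩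
  have h2 := congrArg toL h1
  rw [htoL, map_zero, map_mul] at h2
  rw [IsLocalization.mk'_eq_zero_iff]
  obtain ⟨v, hv⟩ := (IsLocalization.map_eq_zero_iff Q.primeCompl (Localization.AtPrime Q) _).mp
    ((IsLocalization.map_units (Localization.AtPrime Q) u).mul_right_eq_zero.mp h2)
  exact ⟨v, hv⟩

/-- Over a perfect field a reduced local ring of a scheme is geometrically reduced. -/
theorem isGeomReducedAt_of_perfect {k : Type u} [Field k] [PerfectField k] {X : Scheme.{u}}
    (f : X ⟶ Spec (CommRingCat.of k)) (x : X) (h : _root_.IsReduced (X.presheaf.stalk x)) :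
    FBase.IsGeomReducedAt f x := by
  obtain ⟨V, hV, hxV, -⟩ := exists_isAffineOpen_mem_and_subset (X := X) (x := x) (U := ⊤) trivial
  obtain ⟨hA, hφV⟩ := Groth.L07.GeomRedField.exists_field_algebra f hV
  letI := hA
  rw [Groth.L07.GeomRedField.isGeomReducedAt_iff f hV hφV x hxV]
  let p := hV.primeIdealOf ⟨x, hxV⟩
  letI : Algebra Γ(X, V) (X.presheaf.stalk x) := TopCat.Presheaf.algebra_section_stalk X.presheaf (⟨x, hxV⟩ : V)
  haveI : IsLocalization.AtPrime (X.presheaf.stalk x) p.asIdeal := hV.isLocalization_stalk ⟨x, hxV⟩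
  exact geomRedAt_of_perfect p.asIdeal (isReduced_of_injective
    (IsLocalization.algEquiv p.asIdeal.primeCompl (Localization.AtPrime p.asIdeal) (X.presheaf.stalk x)).toAlgHom
    (IsLocalization.algEquiv p.asIdeal.primeCompl (Localization.AtPrime p.asIdeal) (X.presheaf.stalk x)).injective)

/-- Geometric reducedness at a point from one perfect extension. -/
theorem isGeomReducedAt_of_bc_perfect {k Ω : Type u} [Field k] [Field Ω] [Algebra k Ω] [PerfectField Ω]
    {X : Scheme.{u}} (f : X ⟶ Spec (CommRingCat.of k)) (x' : ↥(FBase.bc f Ω))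
    (h : _root_.IsReduced ((FBase.bc f Ω).presheaf.stalk x')) : FBase.IsGeomReducedAt f ((FBase.bcπ f Ω) x') :=
  Groth.L07.SectionComp.geomRed_descend f (FBase.bcStr f Ω) (FBase.bcπ f Ω)
    (IsPullback.of_hasPullback f (Spec.map (CommRingCat.ofHom (algebraMap k Ω)))) x'
    (isGeomReducedAt_of_perfect (FBase.bcStr f Ω) x' h)

/-- Geometric reducedness from one perfect extension. -/
theorem geometricallyReduced_of_bc_perfect {k Ω : Type u} [Field k] [Field Ω] [Algebra k Ω] [PerfectField Ω]
    {X : Scheme.{u}} (f : X ⟶ Spec (CommRingCat.of k)) [AlgebraicGeometry.IsReduced (FBase.bc f Ω)] :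
    GeometricallyReduced f := by
  have hall : ∀ x : X, FBase.IsGeomReducedAt f x := fun x => by
    haveI : Surjective (Spec.map (CommRingCat.ofHom (algebraMap k Ω))) := inferInstance
    haveI : Surjective (FBase.bcπ f Ω) := MorphismProperty.pullback_fst f _ inferInstance
    obtain ⟨x', rfl⟩ := (FBase.bcπ f Ω).surjective x
    exact isGeomReducedAt_of_bc_perfect f x' inferInstance
  refine ⟨fun K _ t Z fst snd hZ => ?_⟩
  obtain ⟨ψ, rfl⟩ := Spec.map_surjective t
  letI : Algebra k K := ψ.hom.toAlgebra
  haveI : ∀ z : FBase.bc f K, _root_.IsReduced ((FBase.bc f K).presheaf.stalk z) :=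
    fun z => hall _ K z rfl
  haveI : IsReduced (FBase.bc f K) := isReduced_of_isReduced_stalk _
  exact @isReduced_of_isOpenImmersion _ _ hZ.isoPullback.hom _ ‹IsReduced (FBase.bc f K)›

end Groth.L07.GeomRedPerfect
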