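import Groth.Agent.L07.GeomReducedDescent
import Groth.Agent.L07.FlatReducedScheme
import Mathlib.AlgebraicGeometry.PullbackCarrier

/-!
Openness of flatness with geometrically reduced fibres, for schemes.
-/

universe u

open CategoryTheory CategoryTheory.Limits AlgebraicGeometry TensorProduct Topology

namespace Groth.L07.FlatGeomReduced

set_option autoImplicit false
set_option linter.style.haveILetI false
set_option maxSynthPendingDepth 3
set_option backward.isDefEq.respectTransparency.types false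
set_option backward.isDefEq.respectTransparency false

variable {X Y : Scheme.{u}} (f : X ⟶ Y) {V : Y.Opens} (hV : IsAffineOpen V) {W : X.Opens}
  (hW : IsAffineOpen W) (e : W ≤ f ⁻¹ᵁ V) [Algebra Γ(Y, V) Γ(X, W)]
  (halg : algebraMap Γ(Y, V) Γ(X, W) = (f.appLE V W e).hom)

include halg in
/-- An affine chart of the base change, with its image. -/
theorem exists_chart_range (A : Type u) [CommRing A] [Algebra Γ(Y, V) A] :
    ∃ (c : Spec (CommRingCat.of (Γ(X, W) ⊗[Γ(Y, V)] A)) ⟶
        pullback f (Spec.map (CommRingCat.ofHom (algebraMap Γ(Y, V) A)) ≫ hV.fromSpec)),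
      IsOpenImmersion c ∧
      c ≫ pullback.fst f _ = Spec.map (CommRingCat.ofHom Algebra.TensorProduct.includeLeftRingHom) ≫ hW.fromSpec ∧
      Set.range c.base = (pullback.fst f
        (Spec.map (CommRingCat.ofHom (algebraMap Γ(Y, V) A)) ≫ hV.fromSpec)).base ⁻¹' W := by
  have keyφ : Spec.map (CommRingCat.ofHom (algebraMap Γ(Y, V) Γ(X, W))) ≫ hV.fromSpec = hW.fromSpec ≫ f := by
    rw [← IsAffineOpen.SpecMap_appLE_fromSpec f hV hW e, halg]; rfl
  have hP := isPullback_SpecMap_of_isPushout _ _ _ _ (CommRingCat.isPushout_tensorProduct Γ(Y, V) Γ(X, W) A)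
  refine ⟨hP.isoPullback.hom ≫ pullback.map _ _ f
    (Spec.map (CommRingCat.ofHom (algebraMap Γ(Y, V) A)) ≫ hV.fromSpec) hW.fromSpec (𝟙 _) hV.fromSpec
      keyφ (Category.id_comp _).symm, inferInstance, ?_, ?_⟩
  · rw [Category.assoc, pullback.map, pullback.lift_fst, hP.isoPullback_hom_fst_assoc]
  · have hsurj : Function.Surjective hP.isoPullback.hom := hP.isoPullback.hom.homeomorph.surjective
    rw [Scheme.Hom.comp_base, TopCat.coe_comp, hsurj.range_comp, Scheme.Pullback.range_map]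
    have hr : Set.range hW.fromSpec = (W : Set X) := hW.range_fromSpec
    ext z
    refine ⟨fun h => hr.subset h.1, fun h => ⟨hr.superset h, _, rfl⟩⟩

variable (x : X) (hxW : x ∈ W)

include hV halg in
/-- Geometric reducedness of the fibre from an affine chart. -/
theorem isGeomReducedAt_of_geomRedAt (h : GeomRedAt Γ(Y, V) (hW.primeIdealOf ⟨x, hxW⟩).asIdeal) :
    FBase.IsGeomReducedAt (f.fiberToSpecResidueField (f.base x)) (f.asFiber x) := by
  intro K _ _ x' hx'
  let y := f.base x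
  let ψ : Y.residueField y ⟶ CommRingCat.of K := CommRingCat.ofHom (algebraMap _ K)
  letI : Algebra Γ(Y, V) K := (Y.evaluation V y (e hxW) ≫ ψ).hom.toAlgebra
  let g₀ := Spec.map (CommRingCat.ofHom (algebraMap Γ(Y, V) K)) ≫ hV.fromSpec
  have hg₀ : Spec.map ψ ≫ Y.fromSpecResidueField y = g₀ := by
    show _ = Spec.map (Y.evaluation V y (e hxW) ≫ ψ) ≫ hV.fromSpec
    rw [← Scheme.germ_residue, Spec.map_comp, Spec.map_comp, Scheme.fromSpecResidueField,
      ← hV.fromSpecStalk_eq_fromSpecStalk (e hxW), IsAffineOpen.fromSpecStalk]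
    simp only [Category.assoc]
    rfl
  obtain ⟨c, hc, hc1, hcr⟩ := exists_chart_range f hV hW e halg K
  haveI := hc
  let ι : FBase.bc (f.fiberToSpecResidueField y) K ≅ pullback f g₀ :=
    pullbackLeftPullbackSndIso f (Y.fromSpecResidueField y) (Spec.map ψ) ≪≫ pullback.congrHom rfl hg₀
  have hfst : FBase.bcπ (f.fiberToSpecResidueField y) K ≫ f.fiberι y = ι.hom ≫ pullback.fst f g₀ := by
    simp only [ι, Iso.trans_hom, Category.assoc, pullback.congrHom_hom, pullback.lift_fst, Category.comp_id]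
    exact (pullbackLeftPullbackSndIso_hom_fst _ _ _).symm
  have hpx : (pullback.fst f g₀).base (ι.hom.base x') = x := by
    rw [← Scheme.Hom.comp_apply, ← hfst, Scheme.Hom.comp_apply, hx', f.fiberι_asFiber x]
  obtain ⟨P, hP⟩ : ι.hom.base x' ∈ Set.range c.base := by
    rw [hcr, Set.mem_preimage, hpx]; exact hxW
  have hPq : P.asIdeal.comap Algebra.TensorProduct.includeLeftRingHom = (hW.primeIdealOf ⟨x, hxW⟩).asIdeal := by
    rw [← hP, ← Scheme.Hom.comp_apply, hc1, Scheme.Hom.comp_apply] at hpx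
    exact congrArg PrimeSpectrum.asIdeal (fromSpec_eq hW _ x hxW hpx)
  have hker : RingHom.ker (algebraMap Γ(Y, V) K) =
      (hW.primeIdealOf ⟨x, hxW⟩).asIdeal.comap (algebraMap Γ(Y, V) Γ(X, W)) := by
    have hpt : hV.fromSpec.base (PrimeSpectrum.comap (algebraMap Γ(Y, V) K) (IsLocalRing.closedPoint K)) = y := by
      show g₀.base _ = y
      rw [← hg₀, Scheme.Hom.comp_apply]
      exact Scheme.fromSpecResidueField_apply _ _
    have h2 := congrArg PrimeSpectrum.asIdeal ((fromSpec_eq hV _ y (e hxW) hpt).trans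
      (IsAffineOpen.comap_primeIdealOf_appLE V hV W hW e hxW).symm)
    rw [halg]
    refine Eq.trans ?_ h2
    show _ = Ideal.comap _ (IsLocalRing.maximalIdeal K)
    rw [IsLocalRing.maximalIdeal_eq_bot]
    rfl
  have h1 : _root_.IsReduced (Localization.AtPrime P.asIdeal) := h K hker P.asIdeal hPq
  have h2 := isReduced_of_iso (Spec.stalkIso (CommRingCat.of (Γ(X, W) ⊗[Γ(Y, V)] K)) P).inv h1
  have h3 := isReduced_of_iso (inv (c.stalkMap P)) h2
  rw [hP] at h3
  exact isReduced_of_iso (ι.hom.stalkMap x') h3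

omit [Algebra Γ(Y, V) Γ(X, W)] in
/-- The locus of flatness with geometrically reduced fibre is open. -/
theorem isOpen_flat_geomReduced [LocallyOfFinitePresentation f] :
    IsOpen {x : X | (f.stalkMap x).hom.Flat ∧
      FBase.IsGeomReducedAt (f.fiberToSpecResidueField (f.base x)) (f.asFiber x)} := by
  rw [isOpen_iff_forall_mem_open]
  rintro x ⟨hxf, hxr⟩
  obtain ⟨V, hV, hyV, -⟩ := exists_isAffineOpen_mem_and_subset (X := Y) (x := f x) (U := ⊤) trivial
  obtain ⟨W, hW, hxW, e⟩ := exists_isAffineOpen_mem_and_subset (X := X) (x := x) (U := f ⁻¹ᵁ V) hyV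
  replace e : W ≤ f ⁻¹ᵁ V := e
  letI := (f.appLE V W e).hom.toAlgebra
  have halg : algebraMap Γ(Y, V) Γ(X, W) = (f.appLE V W e).hom := rfl
  haveI : Algebra.FinitePresentation Γ(Y, V) Γ(X, W) :=
    RingHom.finitePresentation_algebraMap.mp (f.finitePresentation_appLE hV hW e)
  have hflat : ∀ (z : X) (hz : z ∈ W), (f.stalkMap z).hom.Flat ↔
      Module.Flat Γ(Y, V) (Localization.AtPrime (hW.primeIdealOf ⟨z, hz⟩).asIdeal) := fun z hz =>
    (Groth.L20.flat_stalkMap_iff f hV hW e hz).trans (flat_localization_iff _ _).symm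
  haveI := (hflat x hxW).mp hxf
  obtain ⟨g, hg, hnhd⟩ := exists_flat_geomRed_nhd (hW.primeIdealOf ⟨x, hxW⟩).asIdeal (geomRedAt f x hV hW e hxW halg hxr)
  have key : ∀ (z : X) (hz : z ∈ W), z ∈ X.basicOpen g ↔ g ∉ (hW.primeIdealOf ⟨z, hz⟩).asIdeal := by
    intro z hz
    have h1 := hW.fromSpec_preimage_basicOpen g
    have h2 : hW.primeIdealOf ⟨z, hz⟩ ∈ hW.fromSpec ⁻¹ᵁ X.basicOpen g ↔
        hW.primeIdealOf ⟨z, hz⟩ ∈ PrimeSpectrum.basicOpen g := SetLike.ext_iff.mp h1 _
    change hW.fromSpec (hW.primeIdealOf ⟨z, hz⟩) ∈ X.basicOpen g ↔ _ at h2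
    rw [hW.fromSpec_primeIdealOf] at h2
    exact h2
  refine ⟨X.basicOpen g, fun z hz => ?_, (X.basicOpen g).2, (key x hxW).mpr hg⟩
  have hzW : z ∈ W := X.basicOpen_le g hz
  obtain ⟨h1, h2⟩ := hnhd (hW.primeIdealOf ⟨z, hzW⟩).asIdeal ((key z hzW).mp hz)
  exact ⟨(hflat z hzW).mpr h1, isGeomReducedAt_of_geomRedAt f hV hW e halg z hzW h2⟩

omit [Algebra Γ(Y, V) Γ(X, W)] in
/-- Reducedness at a point of flatness with geometrically reduced fibre over a point of reducedness. -/
theorem isReduced_stalk_fp [LocallyOfFinitePresentation f] (x : X) (hflat : (f.stalkMap x).hom.Flat)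
    (hred : FBase.IsGeomReducedAt (f.fiberToSpecResidueField (f.base x)) (f.asFiber x))
    (hy : _root_.IsReduced (Y.presheaf.stalk (f.base x))) : _root_.IsReduced (X.presheaf.stalk x) := by
  obtain ⟨V, hV, hyV, -⟩ := exists_isAffineOpen_mem_and_subset (X := Y) (x := f x) (U := ⊤) trivial
  obtain ⟨W, hW, hxW, e⟩ := exists_isAffineOpen_mem_and_subset (X := X) (x := x) (U := f ⁻¹ᵁ V) hyV
  replace e : W ≤ f ⁻¹ᵁ V := e
  letI := (f.appLE V W e).hom.toAlgebra
  have halg : algebraMap Γ(Y, V) Γ(X, W) = (f.appLE V W e).hom := rfl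
  haveI : Algebra.FinitePresentation Γ(Y, V) Γ(X, W) :=
    RingHom.finitePresentation_algebraMap.mp (f.finitePresentation_appLE hV hW e)
  let 𝔮 := (hW.primeIdealOf ⟨x, hxW⟩).asIdeal
  let p := (hV.primeIdealOf ⟨f x, e hxW⟩).asIdeal
  have hpq : p = 𝔮.comap (algebraMap Γ(Y, V) Γ(X, W)) :=
    congr($(IsAffineOpen.comap_primeIdealOf_appLE V hV W hW e hxW).1).symm
  haveI : _root_.IsReduced (Localization.AtPrime (𝔮.comap (algebraMap Γ(Y, V) Γ(X, W)))) := by
    refine isReduced_congr hpq ?_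
    letI := Y.presheaf.algebra_section_stalk ⟨f x, e hxW⟩
    haveI : IsLocalization.AtPrime (Y.presheaf.stalk (f x)) p := hV.isLocalization_stalk ⟨f x, e hxW⟩
    haveI : _root_.IsReduced (Y.presheaf.stalk (f x)) := hy
    exact isReduced_of_injective (IsLocalization.algEquiv p.primeCompl (Localization.AtPrime p)
      (Y.presheaf.stalk (f x))).toRingEquiv (RingEquiv.injective _)
  haveI : Module.Flat Γ(Y, V) (Localization.AtPrime 𝔮) :=
    (flat_localization_iff _ _).mpr ((Groth.L20.flat_stalkMap_iff f hV hW e hxW).mp hflat)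
  have h := isReduced_of_flat_geomRed_fp 𝔮 (geomRedAt f x hV hW e hxW halg hred)
  letI := X.presheaf.algebra_section_stalk ⟨x, hxW⟩
  haveI : IsLocalization.AtPrime (X.presheaf.stalk x) 𝔮 := hW.isLocalization_stalk ⟨x, hxW⟩
  haveI := h
  exact isReduced_of_injective (IsLocalization.algEquiv 𝔮.primeCompl (X.presheaf.stalk x)
    (Localization.AtPrime 𝔮)).toRingEquiv (RingEquiv.injective _)

end Groth.L07.FlatGeomReduced
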