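import Groth.Agent.L07.DimToolkit
import Groth.Agent.L22.Cyc.ClosedSub

/-!
The dimension formula in terms of the local rings of a morphism.
-/

universe u

open CategoryTheory CategoryTheory.Limits AlgebraicGeometry TopologicalSpace Topology

namespace Groth.L07.DimToolkit

open Groth.L22 Groth.L07.Equidim Groth.L07.EquidimQF

set_option maxSynthPendingDepth 3
set_option linter.style.haveILetI false
set_option backward.isDefEq.respectTransparency.types false
set_option backward.isDefEq.respectTransparency false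

variable {X Y : Scheme.{u}}

theorem generic_data [IrreducibleSpace X] [IrreducibleSpace Y] (f : X ⟶ Y) [IsDominant f] :
    f (genericPoint X) = genericPoint Y ∧
      fdim f (genericPoint X) = topologicalKrullDim ↥(f.fiber (genericPoint Y)) := by
  have h1 : f (genericPoint X) = genericPoint Y := by
    have h := (genericPoint_spec X).image f.continuous
    rw [Set.image_univ, f.denseRange.closure_range] at h
    exact h.eq (genericPoint_spec Y)
  refine ⟨h1, ?_⟩
  rw [fdim, genericPoint_closure, Set.univ_inter, ← h1]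
  exact SchemeDim.topologicalKrullDim_eq_of_isEmbedding (f.fiberι (f (genericPoint X))).isEmbedding
    (f.range_fiberι _)

theorem dim_locQuot_congr' {x ξ ξ' : X} (e : ξ = ξ') (h : ξ ⤳ x) (h' : ξ' ⤳ x) :
    ringKrullDim (Cyc.LocQuot x ξ h) = ringKrullDim (Cyc.LocQuot x ξ' h') := by
  subst e; rfl

/-- Under a dimension equation the local fibre dimension is that of the generic fibre. -/
theorem fibreDimAt_eq_of_dim_eq [IrreducibleSpace X] [IrreducibleSpace Y] [IsLocallyNoetherian Y]
    (f : X ⟶ Y) [LocallyOfFiniteType f] [IsDominant f] (x : X)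
    (h : ringKrullDim (X.presheaf.stalk x) =
      ringKrullDim (Y.presheaf.stalk (f x)) + ringKrullDim ((f.fiber (f x)).presheaf.stalk (f.asFiber x))) :
    FlatMor.fibreDimAt f x = topologicalKrullDim ↥(f.fiber (genericPoint Y)) := by
  haveI : IsLocallyNoetherian X := LocallyOfFiniteType.isLocallyNoetherian f
  have hξ : genericPoint X ⤳ x := (genericPoint_spec X).specializes trivial
  obtain ⟨hη, hfib⟩ := generic_data f
  obtain ⟨A, B, n, N, hA, hB, hn, hN, hle, -⟩ := formula f hξ
  obtain ⟨a, b, ha, hb, hab⟩ := exists_fibreDimAt f x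
  obtain ⟨dY, hdY⟩ := exists_nat_dim_stalk (f x)
  obtain rfl : a = n := by exact_mod_cast ha.symm.trans hn
  have hB' : B ≤ dY := by exact_mod_cast hB.symm.le.trans ((dim_locQuot_le _ _ _).trans hdY.le)
  rw [← dim_locQuot_genericPoint x hξ, hA, hdY, hb] at h
  have h' : A = dY + b := by exact_mod_cast h
  have hsc := fdim_le_fibreDimAt_of_specializes f hξ
  rw [hN, hab] at hsc
  have hsc' : N ≤ a + b := by exact_mod_cast hsc
  rw [← hfib, hN, hab, show a + b = N by omega]

theorem dim_eq_of_fibreDimAt_eq [IrreducibleSpace X] [IrreducibleSpace Y] [IsLocallyNoetherian Y]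
    (f : X ⟶ Y) [LocallyOfFiniteType f] [IsDominant f] (x : X)
    (hcat : CAlg.IsUniversallyCatenary (Y.presheaf.stalk (f x)))
    (h : FlatMor.fibreDimAt f x = topologicalKrullDim ↥(f.fiber (genericPoint Y))) :
    ringKrullDim (X.presheaf.stalk x) =
      ringKrullDim (Y.presheaf.stalk (f x)) + ringKrullDim ((f.fiber (f x)).presheaf.stalk (f.asFiber x)) := by
  haveI : IsLocallyNoetherian X := LocallyOfFiniteType.isLocallyNoetherian f
  have hξ : genericPoint X ⤳ x := (genericPoint_spec X).specializes trivial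
  obtain ⟨hη, hfib⟩ := generic_data f
  obtain ⟨A, B, n, N, hA, hB, hn, hN, -, heq⟩ := formula f hξ
  obtain ⟨a, b, ha, hb, hab⟩ := exists_fibreDimAt f x
  obtain ⟨dY, hdY⟩ := exists_nat_dim_stalk (f x)
  obtain rfl : a = n := by exact_mod_cast ha.symm.trans hn
  have hB' : ringKrullDim (Y.presheaf.stalk (f x)) = (B : WithBot ℕ∞) := by
    rw [← hB]
    rw [dim_locQuot_congr' hη (hξ.map f.continuous) ((genericPoint_spec Y).specializes trivial)]
    exact (dim_locQuot_genericPoint (f x) _).symm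
  rw [← hfib, hN, hab] at h
  have h' : a + b = N := by exact_mod_cast h
  rw [← dim_locQuot_genericPoint x hξ, hA, hB', hb]
  have := heq hcat
  exact_mod_cast (show A = B + b by omega)

/-- A maximal point of the fibre with full dimension and the dimension of the base gives the equation. -/
theorem dim_eq_of_maximal [IsLocallyNoetherian Y] (f : X ⟶ Y) [LocallyOfFiniteType f] {z x : X}
    (hzx : z ⤳ x) (hfz : f z = f x) (hfd : fdim f z = FlatMor.fibreDimAt f x)
    (hdz : ringKrullDim (X.presheaf.stalk z) = ringKrullDim (Y.presheaf.stalk (f z)))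
    (hcat : CAlg.IsUniversallyCatenary (Y.presheaf.stalk (f x))) :
    ringKrullDim (X.presheaf.stalk x) =
      ringKrullDim (Y.presheaf.stalk (f x)) + ringKrullDim ((f.fiber (f x)).presheaf.stalk (f.asFiber x)) := by
  haveI : IsLocallyNoetherian X := LocallyOfFiniteType.isLocallyNoetherian f
  refine le_antisymm (Groth.L07.OpenDim.ringKrullDim_stalk_le f x) ?_
  obtain ⟨ξ, hξz, d, -, hd, hd'⟩ := exists_dim_locQuot_eq z
  obtain ⟨A, B, n, N, hA, hB, hn, hN, hle, -⟩ := formula f hξz
  obtain ⟨A', B', n', N', hA', hB', hn', hN', -, heq⟩ := formula f (hξz.trans hzx)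
  obtain ⟨a, b, ha, hb, hab⟩ := exists_fibreDimAt f x
  obtain rfl : a = n' := by exact_mod_cast ha.symm.trans hn'
  obtain rfl : N = N' := by exact_mod_cast hN.symm.trans hN'
  rw [dim_locQuot_congr hfz _ ((hξz.trans hzx).map f.continuous), hB'] at hB
  obtain rfl : B' = B := by exact_mod_cast hB
  rw [hfd, hab] at hn
  obtain rfl : a + b = n := by exact_mod_cast hn
  rw [hd, hdz, hfz] at hA
  rw [hA, hb]
  refine le_trans ?_ (hA'.symm.le.trans (dim_locQuot_le x ξ _))
  have := heq hcat
  exact_mod_cast (show A + b ≤ A' by omega)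

/-- The dimension equation produces a maximal point of the fibre with the dimension of the base. -/
theorem exists_maximal_of_dim_eq [IsLocallyNoetherian Y] (f : X ⟶ Y) [LocallyOfFiniteType f] (x : X)
    (hcat : CAlg.IsUniversallyCatenary (Y.presheaf.stalk (f x)))
    (h : ringKrullDim (X.presheaf.stalk x) =
      ringKrullDim (Y.presheaf.stalk (f x)) + ringKrullDim ((f.fiber (f x)).presheaf.stalk (f.asFiber x))) :
    ∃ z, f z = f x ∧ z ⤳ x ∧ (∀ z', f z' = f z → z' ⤳ z → z' = z) ∧
      FlatMor.fibreDimAt f z = FlatMor.fibreDimAt f x ∧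
      ringKrullDim (X.presheaf.stalk z) = ringKrullDim (Y.presheaf.stalk (f z)) := by
  haveI : IsLocallyNoetherian X := LocallyOfFiniteType.isLocallyNoetherian f
  obtain ⟨ξ, hξ, d, -, hd, hd'⟩ := exists_dim_locQuot_eq x
  obtain ⟨A, B, n, N, hA, hB, hn, hN, hle, -⟩ := formula f hξ
  obtain ⟨a, b, ha, hb, hab⟩ := exists_fibreDimAt f x
  obtain ⟨dY, hdY⟩ := exists_nat_dim_stalk (f x)
  obtain rfl : a = n := by exact_mod_cast ha.symm.trans hn
  have hB' : B ≤ dY := by exact_mod_cast hB.symm.le.trans ((dim_locQuot_le _ _ _).trans hdY.le)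
  rw [← hd, hA, hdY, hb] at h
  have h' : A = dY + b := by exact_mod_cast h
  have hsc := fdim_le_fibreDimAt_of_specializes f hξ
  rw [hN, hab] at hsc
  have hsc' : N ≤ a + b := by exact_mod_cast hsc
  obtain rfl : B = dY := by omega
  obtain rfl : N = a + b := by omega
  -- the component
  let i := Cyc.clι ξ
  obtain ⟨w, hw⟩ : x ∈ Set.range i := by rw [Cyc.range_clι]; exact specializes_iff_mem_closure.mp hξ
  have hζ : fdim (i ≫ f) (genericPoint (Cyc.clSub ξ)) = fdim f ξ := by
    rw [fdim_comp i f (i ≫ f) rfl, Cyc.clι_genericPoint]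
  have hw1 : FlatMor.fibreDimAt (i ≫ f) w = ((a + b : ℕ) : WithBot ℕ∞) := by
    refine le_antisymm ?_ ?_
    · exact (fibreDimAt_comp_le i f w).trans (by rw [hw, hab])
    · rw [← hN, ← hζ]
      exact fdim_le_fibreDimAt_of_specializes _ ((genericPoint_spec _).specializes trivial)
  obtain ⟨u, huw, hfu, -, hud⟩ := Groth.L07.OpenEquiv.exists_maximal_fdim_eq (i ≫ f) w
  rw [Scheme.Hom.comp_apply, Scheme.Hom.comp_apply, hw] at hfu
  rw [fdim_comp i f (i ≫ f) rfl, hw1] at hud
  have hux : i u ⤳ x := hw ▸ huw.map i.continuous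
  have hfd : FlatMor.fibreDimAt f (i u) = ((a + b : ℕ) : WithBot ℕ∞) := by
    refine le_antisymm ?_ (hud.symm.le.trans (fdim_le_fibreDimAt f _))
    exact (Groth.L07.OpenEquiv.fibreDimAt_le_of_specializes f hux hfu).trans hab.le
  have hmax := maximal_of_fdim f (i u) (hud.trans hfd.symm)
  have hξu : ξ ⤳ i u := by
    rw [specializes_iff_mem_closure, ← Cyc.range_clι]; exact ⟨u, rfl⟩
  refine ⟨i u, hfu, hux, hmax, hfd.trans hab.symm, le_antisymm ?_ ?_⟩
  · have := Groth.L07.OpenDim.ringKrullDim_stalk_le f (i u)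
    rwa [fibre_dim_zero f (i u) hmax, add_zero] at this
  · obtain ⟨A₁, B₁, n₁, N₁, hA₁, hB₁, hn₁, hN₁, -, heq₁⟩ := formula f hξu
    obtain rfl : n₁ = a + b := by exact_mod_cast hn₁.symm.trans hud
    obtain rfl : N₁ = a + b := by exact_mod_cast hN₁.symm.trans hN
    rw [dim_locQuot_congr hfu _ (hξ.map f.continuous), hB] at hB₁
    obtain rfl : B = B₁ := by exact_mod_cast hB₁
    have h1 := heq₁ (hfu ▸ hcat)
    rw [show A₁ = B by omega] at hA₁
    rw [hfu, hdY, ← hA₁]
    exact dim_locQuot_le _ _ _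

/-- Equidimensional local rings and the dimension equation give equidimensionality. -/
theorem isEquidimAt_of_dim_eq [IsLocallyNoetherian Y] (f : X ⟶ Y) [LocallyOfFiniteType f] (x : X)
    (hX : EGA4.IsEquidim (X.presheaf.stalk x))
    (h : ringKrullDim (X.presheaf.stalk x) =
      ringKrullDim (Y.presheaf.stalk (f x)) + ringKrullDim ((f.fiber (f x)).presheaf.stalk (f.asFiber x))) :
    EGA43.IsEquidimAt f x := by
  haveI : IsLocallyNoetherian X := LocallyOfFiniteType.isLocallyNoetherian f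
  obtain ⟨a, b, ha, hb, hab⟩ := exists_fibreDimAt f x
  refine isEquidimAt_of_components f x (a + b) hab.le fun ξ hξ hmax => ?_
  obtain ⟨A, B, n, N, hA, hB, hn, hN, hle, -⟩ := formula f hξ
  obtain ⟨dY, hdY⟩ := exists_nat_dim_stalk (f x)
  obtain rfl : a = n := by exact_mod_cast ha.symm.trans hn
  have hB' : B ≤ dY := by exact_mod_cast hB.symm.le.trans ((dim_locQuot_le _ _ _).trans hdY.le)
  rw [← dim_locQuot_of_isEquidim x ξ hξ hmax hX, hA, hdY, hb] at h
  have h' : A = dY + b := by exact_mod_cast h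
  have hsc := fdim_le_fibreDimAt_of_specializes f hξ
  rw [hN, hab] at hsc
  have hsc' : N ≤ a + b := by exact_mod_cast hsc
  refine ⟨maximal_of_dim_locQuot (f x) (f ξ) (hξ.map f.continuous) ?_, ?_⟩
  · rw [hB, hdY, show B = dY by omega]
  · rw [hN, show N = a + b by omega]

/-- The dimension equation at a point of equidimensionality. -/
theorem dim_eq_of_isEquidimAt [IsLocallyNoetherian Y] (f : X ⟶ Y) [LocallyOfFiniteType f] (x : X)
    (hY : EGA4.IsEquidim (Y.presheaf.stalk (f x)))
    (hcat : CAlg.IsUniversallyCatenary (Y.presheaf.stalk (f x))) (h : EGA43.IsEquidimAt f x) :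
    ringKrullDim (X.presheaf.stalk x) =
      ringKrullDim (Y.presheaf.stalk (f x)) + ringKrullDim ((f.fiber (f x)).presheaf.stalk (f.asFiber x)) := by
  haveI : IsLocallyNoetherian X := LocallyOfFiniteType.isLocallyNoetherian f
  refine le_antisymm (Groth.L07.OpenDim.ringKrullDim_stalk_le f x) ?_
  obtain ⟨e, D, g, hxD, hg, hqf, hmaxg⟩ := exists_qf_of_isEquidimAt f x h
  haveI := hqf
  let pr := 𝔸(ULift.{u} (Fin e); Y) ↘ Y
  haveI : LocallyOfFiniteType (g ≫ pr) := hg ▸ inferInstance
  haveI : LocallyOfFiniteType g := locallyOfFiniteType_of_comp g pr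
  obtain ⟨ξ, hξ, d, hmax, hd, hd'⟩ := exists_dim_locQuot_eq x
  have hξD : ξ ∈ D := hξ.mem_open D.2 hxD
  obtain ⟨hp, -⟩ := hmaxg ⟨ξ, hξD⟩ ((maximal_openImmersion_iff D.ι ⟨ξ, hξD⟩).mpr hmax)
  obtain ⟨hη, hgen⟩ := (affineSpace_maximal_iff _ _).mp hp
  obtain ⟨A, B, n, N, hA, hB, hn, hN, -, heq⟩ := formula f hξ
  obtain ⟨a, b, ha, hb, hab⟩ := exists_fibreDimAt f x
  obtain rfl : a = n := by exact_mod_cast ha.symm.trans hn
  have hpr : ∀ w : (D : Scheme.{u}), pr (g w) = f (D.ι w) := fun w => by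
    rw [← Scheme.Hom.comp_apply, hg, Scheme.Hom.comp_apply]
  have hB' : ringKrullDim (Y.presheaf.stalk (f x)) = (B : WithBot ℕ∞) := by
    rw [← hB]
    refine (dim_locQuot_of_isEquidim (f x) (f ξ) _ (fun q hq => ?_) hY).symm
    have h1 := hη q (by rw [hpr]; exact hq)
    rwa [hpr] at h1
  -- the fibre dimension is the number of variables
  have hNe : (e : WithBot ℕ∞) ≤ fdim f ξ := by
    have h1 : fdim (D.ι ≫ f) (⟨ξ, hξD⟩ : (D : Scheme.{u})) = fdim pr (g ⟨ξ, hξD⟩) := fdim_comp g pr _ hg _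
    rw [fdim_comp D.ι f _ rfl] at h1
    rw [show ξ = D.ι ⟨ξ, hξD⟩ from rfl, h1]
    have h2 : fdim pr (g ⟨ξ, hξD⟩) = topologicalKrullDim ↥(pr.fiber (pr (g ⟨ξ, hξD⟩))) := by
      refine SchemeDim.topologicalKrullDim_eq_of_isEmbedding (pr.fiberι _).isEmbedding ?_ |>.trans rfl
      rw [pr.range_fiberι]
      exact Set.ext fun q => ⟨fun hq => ⟨specializes_iff_mem_closure.mp (hgen q hq), hq⟩, fun hq => hq.2⟩
    rw [h2, dim_fiber_affineSpace]
    simp
  have hae : (a + b : ℕ) ≤ e := by
    obtain ⟨z, hzx, hfz, -, hzd⟩ := Groth.L07.OpenEquiv.exists_maximal_fdim_eq f x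
    have hzD : z ∈ D := hzx.mem_open D.2 hxD
    have h1 : fdim (D.ι ≫ f) (⟨z, hzD⟩ : (D : Scheme.{u})) = fdim pr (g ⟨z, hzD⟩) := fdim_comp g pr _ hg _
    rw [fdim_comp D.ι f _ rfl] at h1
    change fdim f z = _ at h1
    have h2 := (Groth.L07.OpenEquiv.fdim_affineSpace_le (g ⟨z, hzD⟩))
    rw [← h1, hzd, hab] at h2
    simp only [Nat.card_eq_fintype_card, Fintype.card_ulift, Fintype.card_fin] at h2
    exact_mod_cast h2
  rw [hN] at hNe
  have hNe' : e ≤ N := by exact_mod_cast hNe
  rw [hB', hb, ← hd, hA]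
  have := heq hcat
  exact_mod_cast (show B + b ≤ A by omega)

end Groth.L07.DimToolkit
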