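import Groth.Agent.L07.GeomReducedScheme
import Mathlib.AlgebraicGeometry.PullbackCarrier
import Groth.Prelude.Def_FDesc

/-!
Openness of geometric reducedness and affine charts of base changes, for schemes over a field.
-/

universe u

open CategoryTheory CategoryTheory.Limits AlgebraicGeometry TensorProduct Topology

namespace Groth.L07.GeomRedField

open Groth.L07.FlatGeomReduced

set_option autoImplicit false
set_option linter.style.haveILetI false
set_option maxSynthPendingDepth 3
set_option backward.isDefEq.respectTransparency.types false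
set_option backward.isDefEq.respectTransparency false

variable {k : Type u} [Field k]

/-- Geometric reducedness spreads out, for a Noetherian algebra over a field. -/
theorem exists_geomRedAt_nhd {C : Type u} [CommRing C] [Algebra k C] [IsNoetherianRing C] (𝔮 : Ideal C)
    [𝔮.IsPrime] (hred : GeomRedAt k 𝔮) :
    ∃ c ∉ 𝔮, ∀ (𝔷 : Ideal C) [𝔷.IsPrime], c ∉ 𝔷 → GeomRedAt k 𝔷 := by
  classical
  let S := Localization.AtPrime 𝔮
  let kb := AlgebraicClosure k
  have hker : ∀ (L : Type u) [Field L] [Algebra k L] (𝔷 : Ideal C) [𝔷.IsPrime],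
      RingHom.ker (algebraMap k L) = 𝔷.comap (algebraMap k C) := fun L _ _ 𝔷 _ => by
    rw [(RingHom.injective_iff_ker_eq_bot _).mp (algebraMap k L).injective]
    exact ((Ideal.eq_bot_or_top _).resolve_right (Ideal.IsPrime.comap _).ne_top).symm
  haveI : _root_.IsReduced (S ⊗[k] kb) := isReduced_localTensor 𝔮 hred kb (hker kb 𝔮)
  obtain ⟨T, hT⟩ := IsNoetherian.noetherian (RingHom.ker (algebraMap C S))
  have hsel : ∀ t ∈ T, ∃ c : 𝔮.primeCompl, (c : C) * t = 0 := fun t ht =>
    (IsLocalization.map_eq_zero_iff 𝔮.primeCompl S t).mp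
      (hT ▸ Submodule.subset_span ht : t ∈ RingHom.ker (algebraMap C S))
  choose s hs using hsel
  let c := ∏ t ∈ T.attach, s t.1 t.2
  have hc : ∀ a, algebraMap C S a = 0 → (c : C) * a = 0 := fun a ha => by
    have ha' : a ∈ RingHom.ker (algebraMap C S) := ha
    rw [← hT] at ha'
    clear ha
    induction ha' using Submodule.span_induction with
    | mem t ht =>
      obtain ⟨d, hd⟩ := Finset.dvd_prod_of_mem (fun t : {t // t ∈ T} => s t.1 t.2) (Finset.mem_attach T ⟨t, ht⟩)
      rw [show c = s t ht * d from hd, Submonoid.coe_mul, mul_comm (s t ht : C), mul_assoc, hs t ht, mul_zero]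
    | zero => rw [mul_zero]
    | add a b ha hb iha ihb =>
      rw [mul_add, iha, ihb, add_zero]
    | smul x a ha iha =>
      rw [smul_eq_mul, mul_left_comm, iha, mul_zero]
  let A := Localization.Away (c : C)
  have hu : ∀ y : Submonoid.powers (c : C), IsUnit (algebraMap C S y) := fun y =>
    IsLocalization.map_units S (⟨(y : C), by
      obtain ⟨n, hn⟩ := y.2
      exact hn ▸ pow_mem c.2 n⟩ : 𝔮.primeCompl)
  let m : A →ₐ[k] S :=
    { IsLocalization.lift (M := Submonoid.powers (c : C)) (S := A) hu with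
      commutes' := fun r => by
        show IsLocalization.lift hu (algebraMap k A r) = _
        rw [IsScalarTower.algebraMap_apply k C A, IsLocalization.lift_eq, ← IsScalarTower.algebraMap_apply] }
  have hm : Function.Injective m := by
    rw [injective_iff_map_eq_zero]
    intro x hx
    obtain ⟨a, y, rfl⟩ := IsLocalization.exists_mk'_eq (Submonoid.powers (c : C)) x
    have h1 : IsLocalization.lift (M := Submonoid.powers (c : C)) (S := A) hu (IsLocalization.mk' A a y) = 0 := hx
    rw [IsLocalization.lift_mk', Units.mul_left_eq_zero] at h1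
    rw [IsLocalization.mk'_eq_zero_iff]
    exact ⟨⟨(c : C), Submonoid.mem_powers _⟩, hc a h1⟩
  have hinj : Function.Injective (Algebra.TensorProduct.map (AlgHom.id k kb) m) :=
    Module.Flat.lTensor_preserves_injective_linearMap m.toLinearMap hm
  haveI : _root_.IsReduced (kb ⊗[k] S) := isReduced_of_injective (Algebra.TensorProduct.comm k kb S).toAlgHom
    (Algebra.TensorProduct.comm k kb S).injective
  haveI : Algebra.IsGeometricallyReduced k A := by
    rw [Algebra.isGeometricallyReduced_field_iff]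
    exact isReduced_of_injective (Algebra.TensorProduct.map (AlgHom.id k kb) m) hinj
  refine ⟨c, c.2, fun 𝔷 _ hc𝔷 L _ _ _ Q _ hQ => ?_⟩
  haveI : _root_.IsReduced (L ⊗[k] A) := Groth.L03.GeomReduced2.isReduced_of_isGeometricallyReduced L
  haveI : _root_.IsReduced (A ⊗[k] L) := isReduced_of_injective (Algebra.TensorProduct.comm k A L).toAlgHom
    (Algebra.TensorProduct.comm k A L).injective
  refine isReduced_loc_of_away (c : C) L Q fun h => hc𝔷 ?_
  rw [← hQ]
  exact h

variable {X : Scheme.{u}} (f : X ⟶ Spec (CommRingCat.of k))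

/-- An affine open is a chart over the field. -/
theorem exists_field_algebra {W : X.Opens} (hW : IsAffineOpen W) :
    ∃ _ : Algebra k Γ(X, W), hW.fromSpec ≫ f = Spec.map (CommRingCat.ofHom (algebraMap k Γ(X, W))) := by
  obtain ⟨φ, hφ⟩ := Spec.map_surjective (hW.fromSpec ≫ f)
  exact ⟨φ.hom.toAlgebra, hφ.symm⟩

variable {W : X.Opens} (hW : IsAffineOpen W) [Algebra k Γ(X, W)]
  (hφ : hW.fromSpec ≫ f = Spec.map (CommRingCat.ofHom (algebraMap k Γ(X, W))))

include hφ in
/-- An affine chart of the base change. -/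
theorem exists_bc_chart (K : Type u) [Field K] [Algebra k K] :
    ∃ c : Spec (CommRingCat.of (Γ(X, W) ⊗[k] K)) ⟶ FBase.bc f K, IsOpenImmersion c ∧
      c ≫ FBase.bcπ f K = Spec.map (CommRingCat.ofHom Algebra.TensorProduct.includeLeftRingHom) ≫ hW.fromSpec ∧
      Set.range c.base = (FBase.bcπ f K).base ⁻¹' W := by
  have hP := isPullback_SpecMap_of_isPushout _ _ _ _ (CommRingCat.isPushout_tensorProduct k Γ(X, W) K)
  refine ⟨hP.isoPullback.hom ≫ pullback.map _ _ f (Spec.map (CommRingCat.ofHom (algebraMap k K))) hW.fromSpec (𝟙 _)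
    (𝟙 _) (by rw [Category.comp_id, hφ]) (by simp), ?_, ?_, ?_⟩
  · show IsOpenImmersion (_ ≫ _)
    infer_instance
  · show (_ ≫ pullback.map _ _ _ _ _ _ _ _ _) ≫ pullback.fst _ _ = _
    rw [Category.assoc, pullback.map, pullback.lift_fst, hP.isoPullback_hom_fst_assoc]
  · have hsurj : Function.Surjective hP.isoPullback.hom := hP.isoPullback.hom.homeomorph.surjective
    show Set.range (hP.isoPullback.hom ≫ pullback.map _ _ _ _ _ _ _ _ _).base = _
    rw [Scheme.Hom.comp_base, TopCat.coe_comp, hsurj.range_comp, Scheme.Pullback.range_map]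
    have hr : Set.range hW.fromSpec = (W : Set X) := hW.range_fromSpec
    ext z
    exact ⟨fun h => hr.subset h.1, fun h => ⟨hr.superset h, _, rfl⟩⟩

include hφ in
/-- A stalkwise property of the base changes at points above a point, on an affine chart. -/
theorem forall_stalk_iff (P : ∀ (R : Type u) [CommRing R], Prop)
    (hP : ∀ (R S : Type u) [CommRing R] [CommRing S], (R ≃+* S) → P R → P S) (x : X) (hxW : x ∈ W) :
    (∀ (K : Type u) [Field K] [Algebra k K] (x' : ↥(FBase.bc f K)), (FBase.bcπ f K).base x' = x →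
      P ((FBase.bc f K).presheaf.stalk x')) ↔
    (∀ (K : Type u) [Field K] [Algebra k K] (Q : Ideal (Γ(X, W) ⊗[k] K)) [Q.IsPrime],
      Q.comap Algebra.TensorProduct.includeLeftRingHom = (hW.primeIdealOf ⟨x, hxW⟩).asIdeal →
        P (Localization.AtPrime Q)) := by
  constructor
  · intro h K _ _ Q _ hQ
    obtain ⟨c, hc, hc1, -⟩ := exists_bc_chart f hW hφ K
    haveI := hc
    let pt : PrimeSpectrum (Γ(X, W) ⊗[k] K) := ⟨Q, inferInstance⟩
    have h1 : (FBase.bcπ f K).base (c.base pt) = x := by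
      rw [← Scheme.Hom.comp_apply, hc1, Scheme.Hom.comp_apply]
      refine Eq.trans ?_ (hW.fromSpec_primeIdealOf ⟨x, hxW⟩)
      exact congrArg hW.fromSpec (PrimeSpectrum.ext hQ)
    have h2 := h K (c.base pt) h1
    have h3 := hP _ _ (asIso (c.stalkMap pt)).commRingCatIsoToRingEquiv h2
    exact hP _ _ (Spec.stalkIso (CommRingCat.of (Γ(X, W) ⊗[k] K)) pt).commRingCatIsoToRingEquiv h3
  · intro h K _ _ x' hx'
    obtain ⟨c, hc, hc1, hcr⟩ := exists_bc_chart f hW hφ K
    haveI := hc
    obtain ⟨pt, hpt⟩ : x' ∈ Set.range c.base := by rw [hcr, Set.mem_preimage, hx']; exact hxW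
    subst hpt
    rw [← Scheme.Hom.comp_apply, hc1, Scheme.Hom.comp_apply] at hx'
    have h1 := h K pt.asIdeal (congrArg PrimeSpectrum.asIdeal (fromSpec_eq hW _ x hxW hx'))
    have h2 := hP _ _ (Spec.stalkIso (CommRingCat.of (Γ(X, W) ⊗[k] K)) pt).commRingCatIsoToRingEquiv.symm h1
    exact hP _ _ (asIso (c.stalkMap pt)).commRingCatIsoToRingEquiv.symm h2

include hφ in
/-- Geometric reducedness on an affine chart. -/
theorem isGeomReducedAt_iff (x : X) (hxW : x ∈ W) :
    FBase.IsGeomReducedAt f x ↔ GeomRedAt k (hW.primeIdealOf ⟨x, hxW⟩).asIdeal := by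
  refine (forall_stalk_iff f hW hφ (fun R _ => _root_.IsReduced R)
    (fun R S _ _ e (h : _root_.IsReduced R) => isReduced_of_injective e.symm e.symm.injective) x hxW).trans ?_
  refine ⟨fun h L _ _ _ Q _ hQ => h L Q hQ, fun h L _ _ Q _ hQ => h L ?_ Q hQ⟩
  rw [(RingHom.injective_iff_ker_eq_bot _).mp (algebraMap k L).injective]
  exact ((Ideal.eq_bot_or_top _).resolve_right (Ideal.IsPrime.comap _).ne_top).symm

omit [Algebra k Γ(X, W)] in
/-- The locus of geometric reducedness is open. -/
theorem isOpen_isGeomReducedAt [IsLocallyNoetherian X] : IsOpen {x : X | FBase.IsGeomReducedAt f x} := by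
  refine isOpen_iff_forall_mem_open.mpr fun x hx => ?_
  obtain ⟨V, hV, hxV, -⟩ := exists_isAffineOpen_mem_and_subset (X := X) (x := x) (U := ⊤) trivial
  haveI : IsNoetherianRing Γ(X, V) := IsLocallyNoetherian.component_noetherian ⟨V, hV⟩
  obtain ⟨hA, hφV⟩ := exists_field_algebra f hV
  letI := hA
  obtain ⟨c, hc, hnhd⟩ := exists_geomRedAt_nhd _ ((isGeomReducedAt_iff f hV hφV x hxV).mp hx)
  refine ⟨X.basicOpen c, fun y hy => ?_, (X.basicOpen c).isOpen, ?_⟩
  · have hyV : y ∈ V := X.basicOpen_le c hy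
    refine (isGeomReducedAt_iff f hV hφV y hyV).mpr (hnhd _ fun hmem => ?_)
    have h1 : hV.primeIdealOf ⟨y, hyV⟩ ∈ PrimeSpectrum.basicOpen c := by
      rw [← hV.fromSpec_preimage_basicOpen c]
      show hV.fromSpec (hV.primeIdealOf ⟨y, hyV⟩) ∈ X.basicOpen c
      rwa [hV.fromSpec_primeIdealOf ⟨y, hyV⟩]
    exact h1 hmem
  · have h1 : hV.primeIdealOf ⟨x, hxV⟩ ∈ hV.fromSpec ⁻¹ᵁ X.basicOpen c := by
      rw [hV.fromSpec_preimage_basicOpen c]; exact hc
    have h2 : hV.fromSpec (hV.primeIdealOf ⟨x, hxV⟩) ∈ X.basicOpen c := h1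
    rwa [hV.fromSpec_primeIdealOf ⟨x, hxV⟩] at h2

end Groth.L07.GeomRedField
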