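import Groth.Agent.L07.SyntScheme
import Groth.Agent.L07.KoszulBC
import Groth.Agent.L05.Smooth.GeomRegular
import Mathlib.RingTheory.Smooth.Flat
import Mathlib.RingTheory.TensorProduct.Quotient

/-! Koszul-regular immersions into smooth schemes: flat ones have complete intersection fibres. -/

namespace Groth.L07.SyntKoszul

open CategoryTheory CategoryTheory.Limits AlgebraicGeometry IsLocalRing TensorProduct CohIII

set_option linter.style.haveILetI false
set_option maxSynthPendingDepth 3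

universe u

/-- Regularity of the stalks of a scheme smooth over a field. -/
theorem isRegularLocalRing_of_smooth {k : Type u} [Field k] {F : Scheme.{u}} (q : F ⟶ Spec (CommRingCat.of k))
    [Smooth q] (z : F) : IsRegularLocalRing (F.presheaf.stalk z) := by
  obtain ⟨_, ⟨W, hW, rfl⟩, hzW, -⟩ := F.isBasis_affineOpens.exists_subset_of_mem_open
    (Set.mem_univ z) isOpen_univ
  have hsm : (q.appLE ⊤ W le_top).hom.Smooth :=
    HasRingHomProperty.appLE @Smooth q ‹_› ⟨⊤, isAffineOpen_top _⟩ ⟨W, hW⟩ le_top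
  let φ : k →+* Γ(F, W) := ((Scheme.ΓSpecIso (CommRingCat.of k)).inv ≫ q.appLE ⊤ W le_top).hom
  have hφ : φ.Smooth := RingHom.Smooth.respectsIso.2 _
    (Scheme.ΓSpecIso (CommRingCat.of k)).symm.commRingCatIsoToRingEquiv hsm
  letI := φ.toAlgebra
  haveI : Algebra.Smooth k Γ(F, W) := RingHom.smooth_algebraMap.mp hφ
  haveI := Groth.L05.Smooth.geometricallyRegular_of_smooth k Γ(F, W) k inferInstance
  haveI : IsRegularRing Γ(F, W) := IsRegularRing.of_ringEquiv (R := k ⊗[k] Γ(F, W))
    (Algebra.TensorProduct.lid k Γ(F, W)).toRingEquiv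
  letI := F.presheaf.algebra_section_stalk ⟨z, hzW⟩
  haveI := hW.isLocalization_stalk ⟨z, hzW⟩
  haveI := IsRegularRing.isRegularLocalRing_localization (hW.primeIdealOf ⟨z, hzW⟩).asIdeal
  exact IsRegularLocalRing.of_ringEquiv (R := Localization.AtPrime (hW.primeIdealOf ⟨z, hzW⟩).asIdeal)
    (IsLocalization.algEquiv (hW.primeIdealOf ⟨z, hzW⟩).asIdeal.primeCompl _ _).toRingEquiv

/-- A Koszul-regular sequence with flat quotient, in a local algebra with regular fibre. -/
theorem isCI_fibre_quotient {A L Q : Type u} [CommRing A] [CommRing L] [CommRing Q] [IsLocalRing A] [IsLocalRing L]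
    [IsLocalRing Q] [Algebra A L] [Algebra A Q] [Module.Flat A L] [Module.Flat A Q]
    [IsLocalHom (algebraMap A L)] [IsLocalHom (algebraMap A Q)]
    [IsRegularLocalRing (EGA4.FibRing A L)] [IsNoetherianRing (EGA4.FibRing A Q)]
    (b : L →ₐ[A] Q) (hb : Function.Surjective b) (l : List L) (hl : ∀ x ∈ l, x ∈ maximalIdeal L)
    (hker : RingHom.ker b.toRingHom = Ideal.ofList l)
    (h : ∀ n : ℤ, n ≠ 0 → IsZero ((koszulCx (ModuleCat.of L L) l).homology n)) :
    Pi1.IsCompleteIntersection (EGA4.FibRing A Q) := by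
  let m := maximalIdeal A
  let F := EGA4.FibRing A L
  let e₀ : (L ⧸ Ideal.ofList l) ≃ₐ[A] Q :=
    (Ideal.quotientEquivAlgOfEq A hker.symm).trans (Ideal.quotientKerAlgEquivOfSurjective hb)
  haveI : Module.Flat A (L ⧸ Ideal.ofList l) := Module.Flat.of_linearEquiv e₀.toLinearEquiv
  let e : L ⊗[A] (A ⧸ m) ≃+* F := (Algebra.TensorProduct.quotIdealMapEquivTensorQuot L m).symm.toRingEquiv
  let μ : L →+* F := Ideal.Quotient.mk (EGA4.mB A L)
  have he : ∀ (c : L) (z : L ⊗[A] (A ⧸ m)), e (c • z) = μ c • e z := fun c z =>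
    ((Algebra.TensorProduct.quotIdealMapEquivTensorQuot L m).symm.toLinearEquiv.map_smul c z).trans
      (Algebra.smul_def (A := L ⧸ m.map (algebraMap A L)) c _)
  have hz : ∀ n : ℤ, n ≠ 0 → IsZero ((koszulCx (ModuleCat.of F F) (l.map μ)).homology n) := fun n hn =>
    Groth.L07.KoszulBC.isZero_transfer μ (ModuleCat.of L (L ⊗[A] (A ⧸ m))) (ModuleCat.of F F) e.toAddEquiv he l n (by
      rcases lt_or_gt_of_ne hn with hlt | hgt
      · obtain ⟨j, rfl⟩ : ∃ j : ℕ, n = -((j : ℤ) + 1) := ⟨(-n - 1).toNat, by omega⟩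
        exact Groth.L07.KoszulBC.isZero_baseChange l h j (A ⧸ m)
      · exact ModuleCat.isZero_iff_subsingleton.2
          (Groth.L04.Koszul.subsingleton_homology_of_out _ l n (Or.inl hgt)))
  haveI : IsLocalHom μ := IsLocalHom.of_surjective μ Ideal.Quotient.mk_surjective
  have hmem : ∀ x ∈ l.map μ, x ∈ maximalIdeal F := fun x hx => by
    obtain ⟨y, hy, rfl⟩ := List.mem_map.mp hx
    exact map_nonunit μ y (hl y hy)
  have hreg : RingTheory.Sequence.IsRegular F (l.map μ) :=
    ⟨Groth.L07.KoszulBC.isWeaklyRegular_of_koszul _ hmem hz, fun htop => (maximalIdeal.isMaximal F).ne_top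
      (top_le_iff.mp (htop.le.trans ((Ideal.mul_top _).le.trans (Ideal.span_le.mpr hmem))))⟩
  have hmB : (EGA4.mB A L).map b.toRingHom = EGA4.mB A Q := by
    rw [EGA4.mB, EGA4.mB, Ideal.map_map]
    exact congrArg (fun φ => Ideal.map φ (maximalIdeal A)) b.comp_algebraMap
  let π : F →+* EGA4.FibRing A Q :=
    Ideal.quotientMap (EGA4.mB A Q) b.toRingHom (Ideal.map_le_iff_le_comap.mp hmB.le)
  have hπ : Function.Surjective π := by
    intro y
    obtain ⟨y, rfl⟩ := Ideal.Quotient.mk_surjective y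
    obtain ⟨x, rfl⟩ := hb y
    exact ⟨Ideal.Quotient.mk _ x, rfl⟩
  refine Groth.L07.RegQuot.isCompleteIntersection_of_isRegularIdeal π hπ ⟨l.map μ, hreg, ?_⟩
  rw [← Ideal.map_ofList, ← hker]
  ext x
  obtain ⟨x, rfl⟩ := Ideal.Quotient.mk_surjective x
  rw [RingHom.mem_ker, show π (Ideal.Quotient.mk _ x) = Ideal.Quotient.mk _ (b x) from rfl,
    Ideal.Quotient.eq_zero_iff_mem, ← hmB]
  show x ∈ ((RingHom.ker b.toRingHom).map μ).comap μ ↔ x ∈ ((EGA4.mB A L).map b.toRingHom).comap b.toRingHom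
  rw [Ideal.comap_map_of_surjective b.toRingHom hb, Ideal.comap_map_of_surjective μ Ideal.Quotient.mk_surjective,
    ← RingHom.ker_eq_comap_bot, ← RingHom.ker_eq_comap_bot, Ideal.mk_ker, sup_comm]

/-- Kernels of localized surjections. -/
theorem ker_of_localization {B T L Q : Type u} [CommRing B] [CommRing T] [CommRing L] [CommRing Q]
    [IsLocalRing L] [IsLocalRing Q] [Algebra B L] [Algebra T Q] (p : Ideal B) [p.IsPrime] (q : Ideal T) [q.IsPrime]
    [IsLocalization.AtPrime L p] [IsLocalization.AtPrime Q q] (σ : B →+* T) (hσ : Function.Surjective σ)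
    (b : L →+* Q) [IsLocalHom b] (hb : ∀ c, b (algebraMap B L c) = algebraMap T Q (σ c)) :
    Function.Surjective b ∧ RingHom.ker b = (RingHom.ker σ).map (algebraMap B L) := by
  have hp : ∀ c, c ∈ p ↔ σ c ∈ q := fun c => by
    have h2 := IsLocalization.AtPrime.isUnit_to_map_iff Q q (σ c)
    rw [← hb, isUnit_map_iff, IsLocalization.AtPrime.isUnit_to_map_iff L p c] at h2
    exact not_iff_not.mp h2
  have hunit : ∀ s, s ∉ p → IsUnit (algebraMap T Q (σ s)) := fun s hs =>
    IsLocalization.map_units Q (⟨σ s, fun h => hs ((hp s).mpr h)⟩ : q.primeCompl)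
  refine ⟨fun y => ?_, le_antisymm (fun x hx => ?_) (Ideal.map_le_iff_le_comap.mpr fun c hc => by
    rw [Ideal.mem_comap, RingHom.mem_ker, hb, RingHom.mem_ker.mp hc, map_zero])⟩
  · obtain ⟨⟨t, s⟩, hts⟩ := IsLocalization.surj q.primeCompl y
    obtain ⟨c, rfl⟩ := hσ t
    obtain ⟨d, hd⟩ := hσ s
    have hdp : d ∈ p.primeCompl := fun h => s.2 (hd ▸ (hp d).mp h)
    refine ⟨IsLocalization.mk' L c (⟨d, hdp⟩ : p.primeCompl), (hunit d hdp).mul_right_cancel ?_⟩
    rw [← hb d, ← map_mul, IsLocalization.mk'_spec (M := p.primeCompl), hb, hb, hd]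
    exact hts.symm
  · obtain ⟨c, ⟨d, hd⟩, rfl⟩ := IsLocalization.exists_mk'_eq p.primeCompl x
    rw [IsLocalization.mk'_mem_map_algebraMap_iff p.primeCompl]
    have h0 : algebraMap T Q (σ c) = 0 := by
      rw [← hb, ← IsLocalization.mk'_spec (M := p.primeCompl) L c ⟨d, hd⟩, map_mul, RingHom.mem_ker.mp hx, zero_mul]
    obtain ⟨⟨t, ht⟩, htc⟩ := (IsLocalization.map_eq_zero_iff q.primeCompl Q _).mp h0
    obtain ⟨w, rfl⟩ := hσ t
    exact ⟨w, fun h => ht ((hp w).mp h), (map_mul σ w c).trans htc⟩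

/-- Koszul regularity passes to a localization at a prime. -/
theorem isZero_atPrime {B L : Type u} [CommRing B] [CommRing L] [Algebra B L] (p : Ideal B) [p.IsPrime]
    [IsLocalization.AtPrime L p] (l : List B) (h : LCI.IsKoszulRegularSeq B l) (n : ℤ) (hn : n ≠ 0) :
    IsZero ((koszulCx (ModuleCat.of L L) (l.map (algebraMap B L))).homology n) := by
  refine Groth.L07.KoszulBC.isZero_transfer (algebraMap B L) (ModuleCat.of B L) (ModuleCat.of L L)
    (AddEquiv.refl L) (fun c x => Algebra.smul_def c x) l n ?_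
  refine Groth.L07.KoszulBC.isZero_localized (ModuleCat.ofHom (Algebra.linearMap B L)) p.primeCompl ?_ ?_ ?_ l n
    (Groth.L07.KoszulBC.isZero_of_isKoszulRegularSeq l h n hn)
  · intro y
    obtain ⟨⟨x, s⟩, hx⟩ := IsLocalization.surj p.primeCompl (y : L)
    exact ⟨x, s, hx.symm.trans ((mul_comm _ _).trans (Algebra.smul_def (s : B) (y : L)).symm)⟩
  · intro x hx
    obtain ⟨s, hs⟩ := (IsLocalization.map_eq_zero_iff p.primeCompl L x).mp hx
    exact ⟨s, hs⟩
  · intro s
    have hu := IsLocalization.map_units L s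
    obtain ⟨v, hv⟩ := hu.exists_right_inv
    refine ⟨fun y y' hy => hu.mul_left_cancel ?_, fun y => ⟨v * (y : L), ?_⟩⟩
    · rw [← Algebra.smul_def, ← Algebra.smul_def]; exact hy
    · show (s : B) • (v * (y : L)) = y
      rw [Algebra.smul_def, ← mul_assoc, hv, one_mul]

/-- A flat composite of a Koszul-regular immersion and a smooth morphism has complete intersection fibres. -/
theorem isCI_fiberStalk {U P S : Scheme.{u}} (i : U ⟶ P) (π : P ⟶ S) [Smooth π] [Flat (i ≫ π)]
    [LocallyOfFiniteType (i ≫ π)] (z : U) (h : RegImm.IsRegularImmersionAt .koszul i z) :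
    Pi1.IsCompleteIntersection (CInt.fiberStalk (i ≫ π) z) := by
  obtain ⟨⟨W, hW⟩, hzW, hcl, rs, hrs, hker⟩ := h
  let A := S.presheaf.stalk (π (i z))
  let L := P.presheaf.stalk (i z)
  let Q := U.presheaf.stalk z
  letI : Algebra A L := (π.stalkMap (i z)).hom.toAlgebra
  letI : Algebra A Q := ((i ≫ π).stalkMap z).hom.toAlgebra
  haveI : IsAffineHom (i ∣_ W) := inferInstance
  have hW' : IsAffineOpen (i ⁻¹ᵁ W) := by
    have : IsAffine ((i ⁻¹ᵁ W : U.Opens) : Scheme.{u}) := by
      haveI : IsAffine (W : Scheme.{u}) := hW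
      exact isAffine_of_isAffineHom (i ∣_ W)
    exact this
  letI := P.presheaf.algebra_section_stalk ⟨i z, hzW⟩
  letI := U.presheaf.algebra_section_stalk (U := i ⁻¹ᵁ W) ⟨z, hzW⟩
  haveI := hW.isLocalization_stalk ⟨i z, hzW⟩
  haveI := hW'.isLocalization_stalk ⟨z, hzW⟩
  have hσ : Function.Surjective (i.app W).hom := by
    haveI : IsAffine (W : Scheme.{u}) := hW
    haveI := hcl
    have h3 : Function.Surjective ((i ∣_ W).appTop).hom := (i ∣_ W).app_surjective ⊤ (isAffineOpen_top _)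
    rw [morphismRestrict_appTop] at h3
    have h4 : Function.Surjective (i.app (W.ι ''ᵁ ⊤)).hom :=
      Function.Surjective.of_comp_left (f := U.presheaf.map (eqToHom (image_morphismRestrict_preimage i W ⊤)).op) h3
        (ConcreteCategory.bijective_of_isIso _).1
    have key : ∀ W' : P.Opens, W' = W → Function.Surjective (i.app W').hom →
        Function.Surjective (i.app W).hom := by rintro W' rfl h; exact h
    exact key _ W.ι_image_top h4
  let b : L →ₐ[A] Q :=
    { (i.stalkMap z).hom with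
      commutes' := fun r => by
        show i.stalkMap z (π.stalkMap (i z) r) = (i ≫ π).stalkMap z r
        rw [Scheme.Hom.stalkMap_comp]
        rfl }
  haveI : IsLocalHom b.toRingHom := inferInstanceAs (IsLocalHom (i.stalkMap z).hom)
  obtain ⟨hb, hk⟩ := ker_of_localization (L := L) (Q := Q) (hW.primeIdealOf ⟨i z, hzW⟩).asIdeal
    (hW'.primeIdealOf ⟨z, hzW⟩).asIdeal (i.app W).hom hσ b.toRingHom
    (fun c => Scheme.Hom.germ_stalkMap_apply i W z hzW c)
  rw [hker, Ideal.map_ofList] at hk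
  haveI : Module.Flat A L := Flat.stalkMap π (i z)
  haveI : Module.Flat A Q := Flat.stalkMap (i ≫ π) z
  haveI : IsLocalHom (algebraMap A L) := inferInstanceAs (IsLocalHom (π.stalkMap (i z)).hom)
  haveI : IsLocalHom (algebraMap A Q) := inferInstanceAs (IsLocalHom ((i ≫ π).stalkMap z).hom)
  haveI : IsRegularLocalRing (EGA4.FibRing A L) := by
    haveI : Smooth (π.fiberToSpecResidueField (π (i z))) :=
      inferInstanceAs (Smooth (pullback.snd π (S.fromSpecResidueField (π (i z)))))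
    haveI := @isRegularLocalRing_of_smooth _ _ _ (π.fiberToSpecResidueField (π (i z))) ‹_› (π.asFiber (i z))
    obtain ⟨e⟩ := Groth.L07.CIScheme.exists_fiberStalkEquiv π (π (i z)) (π.asFiber (i z)) (i z) (π.fiberι_asFiber _)
    exact IsRegularLocalRing.of_ringEquiv e.symm
  haveI : IsLocallyNoetherian ((i ≫ π).fiber ((i ≫ π) z)) := Groth.L07.CIBaseChange.isLocallyNoetherian_fiber _ _
  obtain ⟨eX⟩ := Groth.L07.CIScheme.exists_fiberStalkEquiv (i ≫ π) ((i ≫ π) z) ((i ≫ π).asFiber z) z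
    ((i ≫ π).fiberι_asFiber z)
  haveI : IsNoetherianRing (EGA4.FibRing A Q) := isNoetherianRing_of_ringEquiv _ eX.symm
  have hQ : Pi1.IsCompleteIntersection (EGA4.FibRing A Q) :=
    isCI_fibre_quotient b hb (rs.map (algebraMap Γ(P, W) L)) ?_ hk
      (fun n hn => isZero_atPrime (hW.primeIdealOf ⟨i z, hzW⟩).asIdeal rs hrs n hn)
  · letI : Algebra (S.presheaf.stalk ((i ≫ π) z)) Q := ((i ≫ π).stalkMap z).hom.toAlgebra
    haveI : IsLocalRing (EGA4.FibRing (S.presheaf.stalk ((i ≫ π) z)) Q) := (inferInstance : IsLocalRing (EGA4.FibRing A Q))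
    haveI : IsNoetherianRing (EGA4.FibRing (S.presheaf.stalk ((i ≫ π) z)) Q) :=
      (inferInstance : IsNoetherianRing (EGA4.FibRing A Q))
    exact Groth.L07.Avramov.isCompleteIntersection_of_ringEquiv eX hQ
  intro x hx
  have hx0 : b.toRingHom x = 0 := RingHom.mem_ker.mp (hk ▸ Ideal.subset_span hx)
  exact fun hu => not_isUnit_zero (hx0 ▸ hu.map b.toRingHom)

end Groth.L07.SyntKoszul
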