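import Groth.Prelude.Def_OmegaPn

/-!
Order zero and change of order for differential operators between modules on a scheme.
-/

set_option autoImplicit false
set_option backward.isDefEq.respectTransparency.types false

universe u

open CategoryTheory CategoryTheory.Limits AlgebraicGeometry TopologicalSpace Opposite

noncomputable section

namespace Groth.L07.DiffOpSheaf

open PrinPart Scheme.Modules

/-- Pulling back along an isomorphism is an equivalence. -/
theorem isIso_unit_of_isIso {X Y : Scheme.{u}} (h : X ⟶ Y) [IsIso h] (M : Y.Modules) :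
    IsIso ((Scheme.Modules.pullbackPushforwardAdjunction h).unit.app M) := by
  let e : Y.Modules ≌ X.Modules := CategoryTheory.Equivalence.mk (pullback h) (pullback (inv h))
    ((pullbackComp (inv h) h ≪≫ pullbackCongr (IsIso.inv_hom_id h) ≪≫ pullbackId Y).symm)
    (pullbackComp h (inv h) ≪≫ pullbackCongr (IsIso.hom_inv_id h) ≪≫ pullbackId X)
  haveI : (Scheme.Modules.pullback h).IsEquivalence := e.isEquivalence_functor
  haveI := (Scheme.Modules.pullbackPushforwardAdjunction h).unit_isIso_of_L_fully_faithful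
  infer_instance

theorem rs_eq {X : Scheme.{u}} (M : X.Modules) {U V : X.Opens} (a b : op U ⟶ op V) (t : Γ(M, U)) :
    M.presheaf.map a t = M.presheaf.map b t := by rw [Subsingleton.elim a b]

section Zero

variable {X S : Scheme.{u}} (f : X ⟶ S)

theorem isIso_toNbhd_zero : IsIso (toNbhd f 0) := by
  show IsIso ((diagCl f).toImage ≫ Scheme.IdealSheafData.inclusion (ker_pow_succ_le (diagCl f) 0))
  have h1 : (diagCl f).ker ^ (0 + 1) = (diagCl f).ker := by simp
  haveI : IsIso (Scheme.IdealSheafData.inclusion (ker_pow_succ_le (diagCl f) 0)) := by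
    refine ⟨Scheme.IdealSheafData.inclusion h1.ge, ?_, ?_⟩ <;>
      rw [Scheme.IdealSheafData.inclusion_comp, Scheme.IdealSheafData.inclusion_id]
  infer_instance

theorem pr1_zero : pr1 f 0 = pr2 f 0 := by
  haveI := isIso_toNbhd_zero f
  rw [← cancel_epi (toNbhd f 0), toNbhd_pr1, toNbhd_pr2]

/-- `d⁰` as a linear map. -/
def dZero (F : X.Modules) : F ⟶ PMod f 0 F :=
  (Scheme.Modules.pullbackPushforwardAdjunction (pr2 f 0)).unit.app F ≫
    (pushforwardCongr (pr1_zero f).symm).hom.app _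

theorem dZero_app (F : X.Modules) (U : X.Opens) (t : Γ(F, U)) :
    (dZero f F).app U t = dP f 0 F U t := by
  show ((Scheme.Modules.pullback (pr2 f 0)).obj F).presheaf.map (eqToHom (preimage_pr1 f 0 U)).op (OmegaSh.pullSect (pr2 f 0) F U t) =
    ((Scheme.Modules.pullback (pr2 f 0)).obj F).presheaf.map (homOfLE (preimage_pr1 f 0 U).le).op (OmegaSh.pullSect (pr2 f 0) F U t)
  exact rs_eq _ _ _ _

theorem isIso_dZero (F : X.Modules) : IsIso (dZero f F) := by
  haveI := isIso_toNbhd_zero f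
  haveI : IsIso (pr2 f 0) := by
    haveI : IsIso (toNbhd f 0 ≫ pr2 f 0) := by rw [toNbhd_pr2]; infer_instance
    exact IsIso.of_isIso_comp_left (toNbhd f 0) _
  haveI := isIso_unit_of_isIso (pr2 f 0) F
  exact IsIso.comp_isIso' inferInstance (Iso.isIso_hom ((pushforwardCongr (pr1_zero f).symm).app _))

theorem isDiffOpLE_zero_iff (F G : X.Modules) (D : F.presheaf ⟶ G.presheaf) :
    IsDiffOpLE f F G 0 D ↔
      ∀ (U : X.Opens) (a : Γ(X, U)) (t : Γ(F, U)), D.app (op U) (a • t) = a • D.app (op U) t := by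
  constructor
  · rintro ⟨u, hu⟩ U a t
    rw [hu, hu, ← dZero_app, ← dZero_app, Scheme.Modules.Hom.app_smul, Scheme.Modules.Hom.app_smul]
  · intro h
    let φ : F ⟶ G := ⟨PresheafOfModules.homMk D fun U r t => h U.unop r t⟩
    haveI := isIso_dZero f F
    refine ⟨inv (dZero f F) ≫ φ, fun U t => ?_⟩
    rw [← dZero_app]
    show φ.app U t = ((dZero f F) ≫ inv (dZero f F) ≫ φ).app U t
    rw [IsIso.hom_inv_id_assoc]

end Zero

section General

variable {X N N' : Scheme.{u}} (p₁ p₂ : N ⟶ X) (q₁ q₂ : N' ⟶ X) (j : N' ⟶ N)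
  (h₁ : j ≫ p₁ = q₁) (h₂ : j ≫ p₂ = q₂) (F : X.Modules)

/-- transition map -/
def gTrans : (Scheme.Modules.pushforward p₁).obj ((Scheme.Modules.pullback p₂).obj F) ⟶
    (Scheme.Modules.pushforward q₁).obj ((Scheme.Modules.pullback q₂).obj F) :=
  (Scheme.Modules.pushforward p₁).map
      (((Scheme.Modules.pullbackPushforwardAdjunction p₂).homEquiv F
          ((Scheme.Modules.pushforward j).obj ((Scheme.Modules.pullback q₂).obj F))).symm
        ((Scheme.Modules.pullbackPushforwardAdjunction q₂).unit.app F ≫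
          (pushforwardCongr h₂.symm).hom.app _ ≫
          (pushforwardComp j p₂).inv.app _)) ≫
    (pushforwardComp j p₁).hom.app _ ≫
    (pushforwardCongr h₁).hom.app _

theorem gTrans_app (U : X.Opens) (hp : p₁ ⁻¹ᵁ U = p₂ ⁻¹ᵁ U) (hq : q₁ ⁻¹ᵁ U = q₂ ⁻¹ᵁ U) (t : Γ(F, U)) :
    (gTrans p₁ p₂ q₁ q₂ j h₁ h₂ F).app U
        (((Scheme.Modules.pullback p₂).obj F).presheaf.map (homOfLE hp.le).op (OmegaSh.pullSect p₂ F U t)) =
      ((Scheme.Modules.pullback q₂).obj F).presheaf.map (homOfLE hq.le).op (OmegaSh.pullSect q₂ F U t) := by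
  unfold gTrans
  set g := (Scheme.Modules.pullbackPushforwardAdjunction q₂).unit.app F ≫
          (pushforwardCongr h₂.symm).hom.app _ ≫
          (pushforwardComp j p₂).inv.app _ with hg
  set φ := ((Scheme.Modules.pullbackPushforwardAdjunction p₂).homEquiv F
          ((Scheme.Modules.pushforward j).obj ((Scheme.Modules.pullback q₂).obj F))).symm g
    with hφ
  have e : (Scheme.Modules.pullbackPushforwardAdjunction p₂).unit.app F ≫
      (Scheme.Modules.pushforward p₂).map φ = g :=
    (Adjunction.homEquiv_unit _ _ _ φ).symm.trans (Equiv.apply_symm_apply _ g)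
  have e' : φ.app (p₂ ⁻¹ᵁ U) (OmegaSh.pullSect p₂ F U t) = g.app U t := congr(($e).app U t)
  have hnat : φ.app (p₁ ⁻¹ᵁ U) (((Scheme.Modules.pullback p₂).obj F).presheaf.map (homOfLE hp.le).op (OmegaSh.pullSect p₂ F U t)) =
      ((Scheme.Modules.pushforward j).obj ((Scheme.Modules.pullback q₂).obj F)).presheaf.map
        (homOfLE hp.le).op (φ.app (p₂ ⁻¹ᵁ U) (OmegaSh.pullSect p₂ F U t)) :=
    congr($((Scheme.Modules.Hom.mapPresheaf φ).naturality (homOfLE hp.le).op) _)
  show ((Scheme.Modules.pullback q₂).obj F).presheaf.map _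
    (φ.app (p₁ ⁻¹ᵁ U) (((Scheme.Modules.pullback p₂).obj F).presheaf.map (homOfLE hp.le).op (OmegaSh.pullSect p₂ F U t))) = _
  rw [hnat, e']
  show ((Scheme.Modules.pullback q₂).obj F).presheaf.map _
    (((Scheme.Modules.pullback q₂).obj F).presheaf.map _
      (((Scheme.Modules.pullback q₂).obj F).presheaf.map _ (OmegaSh.pullSect q₂ F U t))) = _
  rw [← ConcreteCategory.comp_apply, ← Functor.map_comp, ← ConcreteCategory.comp_apply, ← Functor.map_comp]
  exact rs_eq _ _ _ _

end General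

section Le

variable {X S : Scheme.{u}} (f : X ⟶ S) {n m : ℕ} (h : n ≤ m) (F : X.Modules)

include h in
theorem isDiffOpLE_of_le (G : X.Modules) (D : F.presheaf ⟶ G.presheaf) (hD : IsDiffOpLE f F G n D) :
    IsDiffOpLE f F G m D := by
  obtain ⟨u, hu⟩ := hD
  have h1 : infNbhdMap (diagCl f) h ≫ pr1 f m = pr1 f n := by
    rw [pr1, pr1, nbhdι, nbhdι, Category.assoc, infNbhdMap_ι_assoc, Category.assoc]
  have h2 : infNbhdMap (diagCl f) h ≫ pr2 f m = pr2 f n := by
    rw [pr2, pr2, nbhdι, nbhdι, Category.assoc, infNbhdMap_ι_assoc, Category.assoc]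
  refine ⟨gTrans (pr1 f m) (pr2 f m) (pr1 f n) (pr2 f n) (infNbhdMap (diagCl f) h) h1 h2 F ≫ u, fun U t => ?_⟩
  rw [hu]
  exact congrArg (u.app U) (gTrans_app (pr1 f m) (pr2 f m) (pr1 f n) (pr2 f n) (infNbhdMap (diagCl f) h) h1 h2 F U
    (preimage_pr1 f m U) (preimage_pr1 f n U) t).symm

end Le

end Groth.L07.DiffOpSheaf
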