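import Groth.Agent.L07.QuasiRegular
import Groth.Agent.L01.Regular
import Mathlib.RingTheory.LocalRing.ResidueField.Basic
import Mathlib.RingTheory.MvPolynomial.Basic
import Mathlib.RingTheory.Filtration

/-! The order valuation of a regular local ring. -/

namespace Groth.L07.Order

open MvPolynomial IsLocalRing

universe u

variable {A : Type u} [CommRing A] [IsRegularLocalRing A]

/-- A regular local ring is a domain (local instance). -/
local instance isDomain_inst : IsDomain A := Groth.L01.isDomain_of_regular A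

theorem exists_regular_parameters (A : Type u) [CommRing A] [IsRegularLocalRing A] :
    ∃ (d : ℕ) (x : Fin d → A), ringKrullDim A = d ∧ Ideal.span (Set.range x) = maximalIdeal A ∧
      CAlgX.IsQuasiRegular x := by
  have hfg : (maximalIdeal A).FG := Ideal.fg_of_isNoetherianRing _
  set s := (maximalIdeal A).generators with hs_def
  have hfin : s.Finite := Submodule.FG.finite_generators hfg
  haveI : Fintype s := hfin.fintype
  have hcard : Fintype.card s = (maximalIdeal A).spanFinrank := by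
    rw [← Submodule.FG.generators_ncard hfg, ← hs_def, Set.ncard_eq_toFinset_card',
      Set.toFinset_card]
  let e := Fintype.equivFinOfCardEq hcard
  refine ⟨_, fun i => (e.symm i : A), IsRegularLocalRing.spanFinrank_maximalIdeal.symm, ?_, ?_⟩
  · rw [show (Set.range fun i => (e.symm i : A)) = s by
      ext a
      exact ⟨fun ⟨i, hi⟩ => hi ▸ (e.symm i).2, fun ha => ⟨e ⟨a, ha⟩, by simp⟩⟩]
    exact Submodule.span_generators _
  · refine QReg.isQuasiRegular_of_isWeaklyRegular
      (Groth.L01.isRegular_of_ofList_eq_maximalIdeal _ ?_ ?_).toIsWeaklyRegular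
    · rw [QReg.ofList_ofFn, show (Set.range fun i => (e.symm i : A)) = s by
        ext a
        exact ⟨fun ⟨i, hi⟩ => hi ▸ (e.symm i).2, fun ha => ⟨e ⟨a, ha⟩, by simp⟩⟩]
      exact Submodule.span_generators _
    · rw [List.length_ofFn]; exact IsRegularLocalRing.spanFinrank_maximalIdeal.symm

/-- `y` has order exactly `n` at the maximal ideal. -/
def HasOrd (y : A) (n : ℕ) : Prop := y ∈ maximalIdeal A ^ n ∧ y ∉ maximalIdeal A ^ (n + 1)

theorem hasOrd_one : HasOrd (1 : A) 0 := by
  refine ⟨by simp, fun h => ?_⟩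
  rw [zero_add, pow_one] at h
  exact (maximalIdeal.isMaximal A).ne_top ((Ideal.eq_top_iff_one _).mpr h)

theorem exists_hasOrd {y : A} (hy : y ≠ 0) : ∃ n, HasOrd y n := by
  classical
  have h : ∃ n, y ∉ maximalIdeal A ^ n := by
    by_contra h
    push Not at h
    refine hy ?_
    rw [← Submodule.mem_bot A, ← Ideal.iInf_pow_eq_bot_of_isLocalRing (maximalIdeal A)
      (maximalIdeal.isMaximal A).ne_top]
    exact Submodule.mem_iInf _ |>.mpr h
  obtain ⟨n, hn⟩ : ∃ n, Nat.find h = n + 1 := by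
    refine ⟨Nat.find h - 1, ?_⟩
    have : Nat.find h ≠ 0 := fun h0 => Nat.find_spec h (by rw [h0]; simp)
    omega
  exact ⟨n, not_not.mp (Nat.find_min h (show n < Nat.find h by omega)), hn ▸ Nat.find_spec h⟩

theorem HasOrd.ne_zero {y : A} {n : ℕ} (h : HasOrd y n) : y ≠ 0 := fun h0 =>
  h.2 (h0 ▸ Submodule.zero_mem _)

theorem HasOrd.le_of_mem {y : A} {n m : ℕ} (h : HasOrd y n) (hm : y ∈ maximalIdeal A ^ m) : m ≤ n := by
  by_contra hc
  exact h.2 (Ideal.pow_le_pow_right (show n + 1 ≤ m by omega) hm)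

theorem HasOrd.mul {y z : A} {a b : ℕ} (hy : HasOrd y a) (hz : HasOrd z b) :
    HasOrd (y * z) (a + b) := by
  obtain ⟨d, x, -, hx, hq⟩ := exists_regular_parameters A
  refine ⟨by rw [pow_add]; exact Ideal.mul_mem_mul hy.1 hz.1, fun hc => ?_⟩
  obtain ⟨F, hF, rfl⟩ := QReg.exists_homogeneous_of_mem_span_pow x a (hx ▸ hy.1)
  obtain ⟨G, hG, rfl⟩ := QReg.exists_homogeneous_of_mem_span_pow x b (hx ▸ hz.1)
  have hne : ∀ {n : ℕ} {P : MvPolynomial (Fin d) A}, P.IsHomogeneous n →
      eval x P ∉ maximalIdeal A ^ (n + 1) → MvPolynomial.map (residue A) P ≠ 0 := by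
    intro n P hP hn h0
    refine hn ?_
    rw [pow_succ', ← hx]
    refine QReg.eval_mem_mul_span_pow x _ hP fun e => ?_
    rw [hx, ← IsLocalRing.residue_eq_zero_iff, ← coeff_map, h0, coeff_zero]
  have h0 : MvPolynomial.map (residue A) (F * G) = 0 := by
    ext e
    rw [coeff_map, coeff_zero, IsLocalRing.residue_eq_zero_iff, ← hx]
    exact hq (a + b) (F * G) (hF.mul hG) (by rw [hx, eval_mul]; exact hc) e
  rw [map_mul] at h0
  exact (mul_eq_zero.mp h0).elim (hne hF hy.2) (hne hG hz.2)

theorem eval_homogeneous_smul {S : Type*} [CommRing S] [Algebra A S] {σ : Type*}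
    {n : ℕ} {P : MvPolynomial σ A} (hP : P.IsHomogeneous n) (c : S) (e : σ → S) :
    aeval (fun i => c * e i) P = c ^ n * aeval e P := by
  rw [aeval_def, aeval_def, eval₂_eq, eval₂_eq, Finset.mul_sum]
  refine Finset.sum_congr rfl fun d hd => ?_
  have hdeg : ∑ i ∈ d.support, d i = n := by
    have := hP (mem_support_iff.mp hd)
    simpa [Finsupp.weight_apply, Finsupp.sum] using this
  simp only [mul_pow, Finset.prod_mul_distrib, Finset.prod_pow_eq_pow_sum, hdeg]
  ring

variable (A)

/-- The order valuation ring of a regular local ring. -/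
noncomputable def ordRing : Subalgebra A (FractionRing A) where
  carrier := {z | ∃ (y s : A) (n : ℕ), HasOrd s n ∧ y ∈ maximalIdeal A ^ n ∧
    z * algebraMap A (FractionRing A) s = algebraMap A (FractionRing A) y}
  mul_mem' := by
    rintro z z' ⟨y, s, n, hs, hy, h⟩ ⟨y', s', n', hs', hy', h'⟩
    exact ⟨y * y', s * s', n + n', hs.mul hs', pow_add (maximalIdeal A) n n' ▸ Ideal.mul_mem_mul hy hy',
      by rw [map_mul, map_mul, ← h, ← h']; ring⟩
  add_mem' := by
    rintro z z' ⟨y, s, n, hs, hy, h⟩ ⟨y', s', n', hs', hy', h'⟩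
    refine ⟨y * s' + y' * s, s * s', n + n', hs.mul hs', add_mem ?_ ?_, ?_⟩
    · exact pow_add (maximalIdeal A) n n' ▸ Ideal.mul_mem_mul hy hs'.1
    · rw [mul_comm]; exact pow_add (maximalIdeal A) n n' ▸ Ideal.mul_mem_mul hs.1 hy'
    · rw [map_mul, map_add, map_mul, map_mul, ← h, ← h']; ring
  algebraMap_mem' a := ⟨a, 1, 0, hasOrd_one, by simp, by rw [map_one, mul_one]⟩

variable {A}

theorem mem_ordRing_iff {z : FractionRing A} : z ∈ ordRing A ↔ ∃ (y s : A) (n : ℕ),
    HasOrd s n ∧ y ∈ maximalIdeal A ^ n ∧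
    z * algebraMap A (FractionRing A) s = algebraMap A (FractionRing A) y := Iff.rfl

theorem algebraMap_ne_zero_of_hasOrd {s : A} {n : ℕ} (h : HasOrd s n) :
    algebraMap A (FractionRing A) s ≠ 0 :=
  (map_ne_zero_iff _ (IsFractionRing.injective A (FractionRing A))).mpr h.ne_zero

/-- Elements `a / b` with `ord b ≤ ord a`. -/
theorem div_mem_ordRing {y s : A} {n : ℕ} (hs : HasOrd s n) (hy : y ∈ maximalIdeal A ^ n) :
    algebraMap A (FractionRing A) y / algebraMap A (FractionRing A) s ∈ ordRing A :=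
  ⟨y, s, n, hs, hy, div_mul_cancel₀ _ (algebraMap_ne_zero_of_hasOrd hs)⟩

theorem isUnit_iff_hasOrd {v : ordRing A} {y s : A} {n : ℕ} (hs : HasOrd s n)
    (hy : y ∈ maximalIdeal A ^ n)
    (h : (v : FractionRing A) * algebraMap A (FractionRing A) s = algebraMap A (FractionRing A) y) :
    IsUnit v ↔ HasOrd y n := by
  constructor
  · intro hv
    refine ⟨hy, fun hc => ?_⟩
    obtain ⟨w, hw⟩ := hv.exists_left_inv
    obtain ⟨y', s', n', hs', hy', h'⟩ := w.2
    have hw' : (w : FractionRing A) * v = 1 := congrArg Subtype.val hw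
    have : y' * y = s * s' := IsFractionRing.injective A (FractionRing A) (by
      rw [map_mul, map_mul, ← h, ← h']
      linear_combination (algebraMap A (FractionRing A) s * algebraMap A (FractionRing A) s') * hw')
    refine (hs.mul hs').2 ?_
    rw [← this, show n + n' + 1 = n' + (n + 1) by omega, pow_add]
    exact Ideal.mul_mem_mul hy' hc
  · intro hv
    refine IsUnit.of_mul_eq_one ⟨_, div_mem_ordRing hv hs.1⟩ (Subtype.ext ?_)
    show (v : FractionRing A) * _ = 1
    rw [← mul_div_assoc, h, div_self (algebraMap_ne_zero_of_hasOrd hv)]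

theorem isFractionRing_ordRing : IsFractionRing (ordRing A) (FractionRing A) := by
  refine IsFractionRing.of_field (ordRing A) (FractionRing A) fun z => ?_
  obtain ⟨a, b, hb, rfl⟩ := IsFractionRing.div_surjective A z
  exact ⟨algebraMap A (ordRing A) a, algebraMap A (ordRing A) b, rfl⟩

theorem isUnit_algebraMap_iff {a : A} : IsUnit (algebraMap A (ordRing A) a) ↔ a ∉ maximalIdeal A := by
  rw [isUnit_iff_hasOrd (v := algebraMap A (ordRing A) a) hasOrd_one
    (show a ∈ maximalIdeal A ^ 0 by simp) (by rw [map_one, mul_one]; rfl)]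
  simp [HasOrd]

theorem HasOrd.pow_one' {p : A} (hp : HasOrd p 1) : ∀ k, HasOrd (p ^ k) k := by
  intro k
  induction k with
  | zero => simpa using hasOrd_one
  | succ k ih => rw [pow_succ]; exact ih.mul hp

theorem exists_unit_mul_pow {p : A} (hp : HasOrd p 1) {v : ordRing A} (hv : v ≠ 0) :
    ∃ (k : ℕ) (u : (ordRing A)ˣ), v = u * algebraMap A (ordRing A) p ^ k := by
  obtain ⟨y, s, n, hs, hy, h⟩ := v.2
  have hy0 : y ≠ 0 := fun h0 => hv (Subtype.ext (by
    rw [h0, map_zero, mul_eq_zero] at h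
    exact h.resolve_right (algebraMap_ne_zero_of_hasOrd hs)))
  obtain ⟨a, ha⟩ := exists_hasOrd hy0
  have hna := ha.le_of_mem hy
  have hs' : HasOrd (p ^ (a - n) * s) a := by
    have := (hp.pow_one' (a - n)).mul hs
    rwa [Nat.sub_add_cancel hna] at this
  obtain ⟨w, hw⟩ : ∃ w : ordRing A, (w : FractionRing A) * algebraMap A (FractionRing A)
      (p ^ (a - n) * s) = algebraMap A (FractionRing A) y :=
    ⟨⟨_, div_mem_ordRing hs' ha.1⟩, div_mul_cancel₀ _ (algebraMap_ne_zero_of_hasOrd hs')⟩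
  have hu : IsUnit w := (isUnit_iff_hasOrd hs' ha.1 hw).mpr ha
  refine ⟨a - n, hu.unit, Subtype.ext ?_⟩
  rw [IsUnit.unit_spec]
  show (v : FractionRing A) = (w : FractionRing A) * algebraMap A (FractionRing A) p ^ (a - n)
  apply mul_right_cancel₀ (algebraMap_ne_zero_of_hasOrd hs)
  rw [h, ← hw, map_mul, map_pow, mul_assoc]

theorem isDVR_ordRing (hA : ¬ IsField A) : IsDiscreteValuationRing (ordRing A) := by
  obtain ⟨d, x, -, hx, hq⟩ := exists_regular_parameters A
  have hne : ∃ i, HasOrd (x i) 1 := by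
    by_contra hc
    push Not at hc
    have : maximalIdeal A ≤ maximalIdeal A ^ 2 := by
      conv_lhs => rw [← hx]
      rw [Ideal.span_le]
      rintro _ ⟨i, rfl⟩
      by_contra h2
      exact hc i ⟨by rw [pow_one, ← hx]; exact Ideal.subset_span (Set.mem_range_self i), h2⟩
    refine hA (IsLocalRing.isField_iff_maximalIdeal_eq.mpr ?_)
    exact Submodule.eq_bot_of_le_smul_of_le_jacobson_bot (maximalIdeal A) _
      (Ideal.fg_of_isNoetherianRing _) (by rw [smul_eq_mul, ← pow_two]; exact this)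
      (IsLocalRing.jacobson_eq_maximalIdeal ⊥ bot_ne_top).ge
  obtain ⟨i, hi⟩ := hne
  have hnu : ¬ IsUnit (algebraMap A (ordRing A) (x i)) := fun hu =>
    (isUnit_algebraMap_iff.mp hu) (by simpa using hi.1)
  have hx0 : algebraMap A (ordRing A) (x i) ≠ 0 := fun h0 =>
    algebraMap_ne_zero_of_hasOrd hi (congrArg Subtype.val h0)
  refine IsDiscreteValuationRing.ofHasUnitMulPowIrreducibleFactorization
    ⟨algebraMap A (ordRing A) (x i), ⟨hnu, fun a b hab => ?_⟩, fun {v} hv => ?_⟩
  · obtain ⟨k, u, rfl⟩ := exists_unit_mul_pow hi (v := a) (fun h0 => hx0 (by rw [hab, h0, zero_mul]))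
    obtain ⟨l, w, rfl⟩ := exists_unit_mul_pow hi (v := b) (fun h0 => hx0 (by rw [hab, h0, mul_zero]))
    rcases Nat.eq_zero_or_pos k with rfl | hk
    · exact Or.inl (by simp)
    rcases Nat.eq_zero_or_pos l with rfl | hl
    · exact Or.inr (by simp)
    exfalso
    refine hnu (IsUnit.of_mul_eq_one
      ((u : ordRing A) * (w : ordRing A) * algebraMap A (ordRing A) (x i) ^ (k + l - 2))
        (mul_left_cancel₀ hx0 ?_))
    rw [mul_one]
    conv_rhs => rw [hab]
    have h2 : k + l = k + l - 2 + 2 := by omega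
    calc _ = (u : ordRing A) * w * algebraMap A (ordRing A) (x i) ^ (k + l - 2 + 2) := by
          rw [pow_add]; ring
      _ = _ := by rw [← h2, pow_add]; ring
  · obtain ⟨k, u, rfl⟩ := exists_unit_mul_pow hi hv
    exact ⟨k, u, mul_comm _ _⟩

end Groth.L07.Order
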