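import Groth.Agent.L07.DimSub
import Groth.Agent.L22.LocalDim

/-!
Zero loci avoiding the maximal points of a fibre.
-/

universe u

open CategoryTheory CategoryTheory.Limits AlgebraicGeometry TopologicalSpace Topology

namespace Groth.L07.DimToolkit

open Groth.L22 Groth.L07.Equidim Groth.L07.EquidimQF

set_option maxSynthPendingDepth 3
set_option linter.style.haveILetI false
set_option backward.isDefEq.respectTransparency.types false
set_option backward.isDefEq.respectTransparency false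

variable {X Y : Scheme.{u}}

theorem dim_le_one_of_maximal_zeroLocus [IsLocallyNoetherian X] (g : Γ(X, ⊤)) (ξ : X)
    (hξ : ξ ∈ X.zeroLocus ({g} : Set Γ(X, ⊤)))
    (hmax : ∀ p, p ∈ X.zeroLocus ({g} : Set Γ(X, ⊤)) → p ⤳ ξ → p = ξ) :
    ringKrullDim (X.presheaf.stalk ξ) ≤ 1 := by
  obtain ⟨W, hW, hξW, -⟩ := exists_isAffineOpen_mem_and_subset (TopologicalSpace.Opens.mem_top ξ)
  haveI : IsNoetherianRing Γ(X, W) := IsLocallyNoetherian.component_noetherian ⟨W, hW⟩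
  let gW : Γ(X, W) := (X.presheaf.map (homOfLE (le_top : W ≤ ⊤)).op).hom g
  have hbo : ∀ p, p ∈ W → (p ∈ X.zeroLocus ({g} : Set Γ(X, ⊤)) ↔ p ∉ X.basicOpen gW) := fun p hp => by
    rw [Scheme.mem_zeroLocus_iff, show X.basicOpen gW = W ⊓ X.basicOpen g from X.basicOpen_res g _]
    constructor
    · exact fun h hc => h g rfl hc.2
    · rintro h _ rfl hc
      exact h ⟨hp, hc⟩
  refine LocalDim.dim_le_one_of_minimal_span hW hξW gW ?_
  have hmem : gW ∈ (hW.primeIdealOf ⟨ξ, hξW⟩).asIdeal :=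
    not_not.mp fun h => (hbo ξ hξW).mp hξ ((LocalDim.mem_basicOpen_iff hW hξW gW).mpr h)
  refine ⟨⟨(hW.primeIdealOf ⟨ξ, hξW⟩).2, (Ideal.span_singleton_le_iff_mem (I := _)).mpr hmem⟩,
    fun q hq hle => ?_⟩
  haveI := hq.1
  let q' : Spec Γ(X, W) := (⟨q, hq.1⟩ : PrimeSpectrum Γ(X, W))
  have hsp : hW.fromSpec q' ⤳ ξ := by
    have h := LocalDim.fromSpec_specializes hW (q := q') (q' := hW.primeIdealOf ⟨ξ, hξW⟩) hle
    rwa [LocalDim.fromSpec_prime hW hξW] at h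
  have hqW := LocalDim.fromSpec_mem hW q'
  have hqz : hW.fromSpec q' ∈ X.zeroLocus ({g} : Set Γ(X, ⊤)) := by
    rw [hbo _ hqW, LocalDim.mem_basicOpen_iff hW hqW, LocalDim.primeIdealOf_fromSpec hW q' hqW]
    exact not_not.mpr (hq.2 (Ideal.mem_span_singleton_self gW))
  have h := LocalDim.primeIdealOf_fromSpec hW q' hqW
  simp only [hmax _ hqz hsp] at h
  exact (congrArg PrimeSpectrum.asIdeal h).le

/-- EGA IV 13.3.5-type statement: zero loci avoiding the maximal points of the fibre. -/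
theorem zeroLocus_equidim [IrreducibleSpace Y] [IsLocallyNoetherian Y] (f : X ⟶ Y) [LocallyOfFiniteType f]
    (x : X) (hf : EGA43.IsEquidimAt f x) (g : Γ(X, ⊤)) (hgx : x ∈ X.zeroLocus ({g} : Set Γ(X, ⊤)))
    (hmax : ∀ z : X, f.base z = f.base x →
      (∀ z' : X, f.base z' = f.base x → z ∈ closure ({z'} : Set X) → z' = z) →
      z ∉ X.zeroLocus ({g} : Set Γ(X, ⊤))) :
    (∀ w : ↥(Scheme.IdealSheafData.vanishingIdeal ⟨X.zeroLocus ({g} : Set Γ(X, ⊤)), X.zeroLocus_isClosed _⟩).subscheme,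
        (Scheme.IdealSheafData.vanishingIdeal ⟨X.zeroLocus ({g} : Set Γ(X, ⊤)), X.zeroLocus_isClosed _⟩).subschemeι.base w = x →
        EGA43.IsEquidimAt ((Scheme.IdealSheafData.vanishingIdeal ⟨X.zeroLocus ({g} : Set Γ(X, ⊤)), X.zeroLocus_isClosed _⟩).subschemeι ≫ f) w) ∧
      FlatMor.localDim ↥(X.zeroLocus ({g} : Set Γ(X, ⊤)) ∩ f.base ⁻¹' {f.base x}) ⟨x, ⟨hgx, rfl⟩⟩ + 1 =
        FlatMor.fibreDimAt f x ∧
      ∀ ξ : X, ξ ∈ X.zeroLocus ({g} : Set Γ(X, ⊤)) → ξ ⤳ x →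
        (∀ p, p ∈ X.zeroLocus ({g} : Set Γ(X, ⊤)) → p ⤳ ξ → p = ξ) →
          ringKrullDim (X.presheaf.stalk ξ) = 1 := by
  haveI : IsLocallyNoetherian X := LocallyOfFiniteType.isLocallyNoetherian f
  let Zc : Closeds X := ⟨X.zeroLocus ({g} : Set Γ(X, ⊤)), X.zeroLocus_isClosed _⟩
  let i := (Scheme.IdealSheafData.vanishingIdeal Zc).subschemeι
  have hri : Set.range i = X.zeroLocus ({g} : Set Γ(X, ⊤)) := range_subschemeι_vanishingIdeal Zc
  obtain ⟨w₀, hw₀⟩ : x ∈ Set.range i := by rw [hri]; exact hgx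
  obtain ⟨e, he⟩ := equidim_data f x hf
  have hex := (he x (specializes_refl x)).1
  obtain ⟨L, hL⟩ := Groth.L07.OpenEquiv.exists_nat_fibreDimAt (i ≫ f) w₀
  have hLe : L + 1 ≤ e := by
    obtain ⟨u, huw, hfu, -, hud⟩ := Groth.L07.OpenEquiv.exists_maximal_fdim_eq (i ≫ f) w₀
    rw [Scheme.Hom.comp_apply, Scheme.Hom.comp_apply, hw₀] at hfu
    rw [fdim_comp i f (i ≫ f) rfl, hL] at hud
    have hux : i u ⤳ x := hw₀ ▸ huw.map i.continuous
    have hue := (he (i u) hux).1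
    have hle := fdim_le_fibreDimAt f (i u)
    rw [hud, hue] at hle
    have hle' : L ≤ e := by exact_mod_cast hle
    by_contra hcon
    obtain rfl : L = e := by omega
    refine hmax (i u) hfu (fun z' hz' hz'' => ?_) (hri ▸ ⟨u, rfl⟩)
    exact maximal_of_fdim f (i u) (hud.trans hue.symm) z' (hz'.trans hfu.symm)
      (specializes_iff_mem_closure.mpr hz'')
  -- one component through the point
  have key : ∀ ξ : X, ξ ∈ X.zeroLocus ({g} : Set Γ(X, ⊤)) → ξ ⤳ x →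
      (∀ p, p ∈ X.zeroLocus ({g} : Set Γ(X, ⊤)) → p ⤳ ξ → p = ξ) →
      ringKrullDim (X.presheaf.stalk ξ) = 1 ∧ (∀ η, η ⤳ f ξ → η = f ξ) ∧
        fdim f ξ = (L : WithBot ℕ∞) ∧ L + 1 = e := by
    intro ξ hξg hξx hξmax
    let Cc : Closeds X := ⟨closure {ξ}, isClosed_closure⟩
    let j := (Scheme.IdealSheafData.vanishingIdeal Cc).subschemeι
    have hrj : Set.range j = closure {ξ} := range_subschemeι_vanishingIdeal Cc
    obtain ⟨_, hgj⟩ := irreducible_of_range_eq j ξ hrj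
    obtain ⟨v₀, hv₀⟩ : x ∈ Set.range j := by rw [hrj]; exact specializes_iff_mem_closure.mp hξx
    have hCZ : closure {ξ} ⊆ X.zeroLocus ({g} : Set Γ(X, ⊤)) :=
      closure_minimal (Set.singleton_subset_iff.mpr hξg) (X.zeroLocus_isClosed _)
    have hxC : x ∈ Cc := specializes_iff_mem_closure.mp hξx
    obtain ⟨M, hM⟩ := Groth.L07.OpenEquiv.exists_nat_fibreDimAt (j ≫ f) v₀
    have hML : M ≤ L := by
      have h1 : FlatMor.fibreDimAt (j ≫ f) v₀ ≤ FlatMor.fibreDimAt (i ≫ f) w₀ := by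
        obtain ⟨u, huv, hfu, -, hud⟩ := Groth.L07.OpenEquiv.exists_maximal_fdim_eq (j ≫ f) v₀
        rw [← hud, fdim_comp j f (j ≫ f) rfl]
        obtain ⟨u', hu'⟩ : j u ∈ Set.range i := by rw [hri]; exact hCZ (hrj ▸ ⟨u, rfl⟩)
        rw [← hu', ← fdim_comp i f (i ≫ f) rfl]
        refine fdim_le_fibreDimAt_of_specializes (i ≫ f) ?_
        refine i.isEmbedding.isInducing.specializes_iff.mp ?_
        rw [hu', hw₀, ← hv₀]
        exact huv.map j.continuous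
      rw [hM, hL] at h1
      exact_mod_cast h1
    have hloc := localDim_eq_fibreDimAt_comp j f v₀ Cc hrj x hv₀ ⟨hxC, rfl⟩
    have hd : ringKrullDim (X.presheaf.stalk ξ) ≤ ((1 : ℕ) : WithBot ℕ∞) := by
      simpa using dim_le_one_of_maximal_zeroLocus g ξ hξg hξmax
    obtain ⟨h1, h2, h3⟩ := sub_equidim f x hf Cc ξ rfl hxC 1 hd (by
      rw [hloc, hM, hex]; exact_mod_cast (show M + 1 ≤ e by omega))
    rw [hloc, hM, hex] at h2
    have h2' : M + 1 = e := by exact_mod_cast h2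
    obtain rfl : M = L := by omega
    obtain ⟨e', he'⟩ := equidim_data (j ≫ f) v₀ (h3 v₀ hv₀)
    obtain ⟨he'1, he'2⟩ := he' v₀ (specializes_refl _)
    obtain rfl : e' = M := by exact_mod_cast he'1.symm.trans hM
    obtain ⟨hη, hfd⟩ := he'2 (genericPoint _) ((genericPoint_spec _).specializes trivial)
      (fun q hq => (hq.antisymm ((genericPoint_spec _).specializes trivial)).eq)
    rw [Scheme.Hom.comp_apply, hgj] at hη
    rw [fdim_comp j f (j ≫ f) rfl, hgj] at hfd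
    exact ⟨by simpa using h1, hη, hfd, h2'⟩
  have hw_max : ∀ w : (Scheme.IdealSheafData.vanishingIdeal Zc).subscheme, (∀ q, q ⤳ w → q = w) →
      ∀ p, p ∈ X.zeroLocus ({g} : Set Γ(X, ⊤)) → p ⤳ i w → p = i w := by
    intro w hw p hp hpw
    obtain ⟨q, rfl⟩ : p ∈ Set.range i := by rw [hri]; exact hp
    rw [hw q (i.isEmbedding.isInducing.specializes_iff.mp hpw)]
  refine ⟨fun w hw => ?_, ?_, fun ξ h1 h2 h3 => (key ξ h1 h2 h3).1⟩
  · obtain rfl : w = w₀ := i.isEmbedding.injective (hw.trans hw₀.symm)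
    refine isEquidimAt_of_components (i ≫ f) w L hL.le fun ζ hζ hζmax => ?_
    obtain ⟨-, hη, hfd, -⟩ := key (i ζ) (hri ▸ ⟨ζ, rfl⟩) (hw₀ ▸ hζ.map i.continuous) (hw_max ζ hζmax)
    exact ⟨by rw [Scheme.Hom.comp_apply]; exact hη, by rw [fdim_comp i f (i ≫ f) rfl, hfd]⟩
  · obtain ⟨ζ, hζ, hζmax⟩ := exists_maximal_generization w₀
    obtain ⟨-, -, -, hLe'⟩ := key (i ζ) (hri ▸ ⟨ζ, rfl⟩) (hw₀ ▸ hζ.map i.continuous) (hw_max ζ hζmax)
    rw [localDim_eq_fibreDimAt_comp i f w₀ _ hri x hw₀ ⟨hgx, rfl⟩, hL, hex]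
    exact_mod_cast hLe'

end Groth.L07.DimToolkit
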