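import Groth.Agent.L14.ParaF.Basic
import Groth.Agent.L19.IdealInvertible
import Mathlib.AlgebraicGeometry.Noetherian

/-! # Ideals which are locally principal on the punctured spectrum of a parafactorial ring -/

set_option autoImplicit false
set_option linter.style.haveILetI false
set_option maxSynthPendingDepth 3
set_option backward.isDefEq.respectTransparency false
set_option backward.isDefEq.respectTransparency.types false

universe u

open CategoryTheory AlgebraicGeometry TopologicalSpace Opposite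

namespace Groth.L07.ParafPrincipal

open Groth.L21.Extend
open Groth.Agent.L19.IdealInvertible

theorem isGen_idealMod {S : Scheme.{u}} [IsIntegral S] (I : S.IdealSheafData) (U : S.affineOpens)
    (f : Γ(S, U.1)) (hIU : I.ideal U = Ideal.span {f}) (hf : f ≠ 0) :
    ∃ m : Γ(ClSub.idealMod I, U.1), IsGen (ClSub.idealMod I) U.1 m := by
  obtain ⟨m, hm⟩ := (Groth.L18.IdealModule.mem_ideal_iff I U.2 f).1 (hIU ▸ Ideal.mem_span_singleton_self f)
  have hnzd : ∀ (B : S.Opens), IsAffineOpen B → ∀ (h : B ≤ U.1), rO S h f ∈ nonZeroDivisors Γ(S, B) := by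
    intro B hB h
    by_cases hne : Nonempty (B : Scheme.{u})
    · haveI : IsDomain Γ(S, B) := IsIntegral.component_integral B
      refine mem_nonZeroDivisors_of_ne_zero fun h0 => hf ?_
      obtain ⟨⟨y, hy⟩⟩ := hne
      haveI : Nonempty U.1.toScheme := ⟨⟨y, h hy⟩⟩
      refine germ_injective_of_isIntegral S y (U := U.1) (h hy) ?_
      have h1 : S.presheaf.germ B y hy (rO S h f) = S.presheaf.germ B y hy 0 := congrArg _ h0
      rw [map_zero] at h1
      rw [map_zero, ← TopCat.Presheaf.germ_res_apply S.presheaf (homOfLE h) y hy f]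
      exact h1
    · haveI : IsEmpty B := ⟨fun y => hne ⟨y⟩⟩
      haveI : Subsingleton Γ(S, B) := by
        rw [show B = ⊥ from Opens.ext (Set.eq_empty_of_forall_notMem fun y hy => hne ⟨⟨y, hy⟩⟩)]
        infer_instance
      exact mem_nonZeroDivisors_iff_right.mpr fun x _ => Subsingleton.elim _ _
  refine ⟨m, fun V hVU => ?_⟩
  have key : ∀ (W : S.Opens) (hW : W ≤ U.1) (a : Γ(S, W)),
      io I W (a • rs (ClSub.idealMod I) hW m) = a * rO S hW f := fun W hW a => by
    rw [io_smul, io_rs]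
    exact congrArg (fun t => a * rO S hW t) hm
  have hinj : ∀ (W : S.Opens) (hW : W ≤ U.1),
      Function.Injective fun a : Γ(S, W) => a • rs (ClSub.idealMod I) hW m := by
    intro W hW a b hab
    refine eq_of_locally (Coh.structureModule S) a b fun y hy => ?_
    obtain ⟨B, hB, hyB, hBW⟩ := exists_isAffineOpen_mem_and_subset (x := y) (U := W) hy
    refine ⟨B, hBW, hyB, ?_⟩
    have h1 := congrArg (rs (ClSub.idealMod I) (hBW : B ≤ W)) hab
    simp only [rs_smul, rs_rs] at h1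
    have h2 := congrArg (io I B) h1
    rw [key, key] at h2
    exact (mul_cancel_right_mem_nonZeroDivisors (hnzd B hB _)).1 h2
  refine ⟨hinj V hVU, fun n => ?_⟩
  have hloc : ∀ y : V, ∃ (B : S.Opens) (hBV : B ≤ V), y.1 ∈ B ∧ ∃ a : Γ(S, B),
      a • rs (ClSub.idealMod I) (hBV.trans hVU) m = rs (ClSub.idealMod I) hBV n := by
    intro y
    obtain ⟨B, hB, hyB, hBW⟩ := exists_isAffineOpen_mem_and_subset (x := y.1) (U := V) y.2
    have hBV : B ≤ V := hBW
    have hmem : io I B (rs (ClSub.idealMod I) hBV n) ∈ I.ideal ⟨B, hB⟩ :=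
      (Groth.L18.IdealModule.mem_ideal_iff I hB _).2 ⟨_, rfl⟩
    rw [← Scheme.IdealSheafData.map_ideal I (U := ⟨B, hB⟩) (V := U) (hBV.trans hVU), hIU, Ideal.map_span,
      Set.image_singleton, Ideal.mem_span_singleton'] at hmem
    obtain ⟨a, ha⟩ := hmem
    refine ⟨B, hBV, hyB, a, io_inj I B ?_⟩
    rw [key, ← ha]
    rfl
  choose B hBV hyB a ha using hloc
  obtain ⟨t, ht⟩ := exists_glue (Coh.structureModule S) B V hBV
    (fun y hy => ⟨⟨y, hy⟩, hyB _⟩) a fun i k => by
      apply hinj (B i ⊓ B k) (inf_le_left.trans ((hBV i).trans hVU))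
      show rO S (inf_le_left : B i ⊓ B k ≤ B i) (a i) • rs (ClSub.idealMod I) _ m =
        rO S (inf_le_right : B i ⊓ B k ≤ B k) (a k) • rs (ClSub.idealMod I) _ m
      have h1 := congrArg (rs (ClSub.idealMod I) (inf_le_left : B i ⊓ B k ≤ B i)) (ha i)
      have h2 := congrArg (rs (ClSub.idealMod I) (inf_le_right : B i ⊓ B k ≤ B k)) (ha k)
      simp only [rs_smul, rs_rs] at h1 h2
      rw [h1, h2]
  refine ⟨t, eq_of_locally _ _ _ fun y hy => ⟨B ⟨y, hy⟩, hBV _, hyB _, ?_⟩⟩
  rw [rs_smul, rs_rs, ← ha ⟨y, hy⟩]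
  exact congrArg (· • rs (ClSub.idealMod I) _ m) (ht ⟨y, hy⟩)

/-- An ideal which is principal at every non-maximal prime has, at these primes, the same generator. -/
theorem exists_generator {A : Type u} [CommRing A] [IsLocalRing A] [IsDomain A] [IsNoetherianRing A]
    (hA : ParaF.IsParafactorialLocalRing A) (J : Ideal A) (hJ : J ≠ ⊥)
    (hloc : ∀ P : Ideal A, P.IsPrime → P ≠ IsLocalRing.maximalIdeal A →
      ∃ a ∈ J, ∀ j ∈ J, ∃ s ∉ P, s * j ∈ Ideal.span {a}) :
    ∃ a₀ : A, ∀ P : Ideal A, P.IsPrime → P ≠ IsLocalRing.maximalIdeal A →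
      (∃ s ∉ P, s * a₀ ∈ J) ∧ ∀ j ∈ J, ∃ s ∉ P, s * j ∈ Ideal.span {a₀} := by
  classical
  obtain ⟨⟨hle, hbij⟩, hpic⟩ := Groth.L14.ParaF.isParafactorialLocalRing_iff'.mp hA
  let X := Spec (CommRingCat.of A)
  let U := FEt.puncturedSpec A
  let inv : A →+* Γ(X, ⊤) := (Scheme.ΓSpecIso (CommRingCat.of A)).inv.hom
  have hinv : Function.Bijective inv := ConcreteCategory.bijective_of_isIso (Scheme.ΓSpecIso (CommRingCat.of A)).inv
  let J' : Ideal Γ(X, ⊤) := J.map inv
  let I := Scheme.IdealSheafData.ofIdealTop J'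
  have hidealI : ∀ V : X.affineOpens, I.ideal V = J'.map (X.presheaf.map (homOfLE (le_top : V.1 ≤ ⊤)).op).hom :=
    fun V => Scheme.IdealSheafData.ofIdealTop_ideal J' V
  have hchart : ∀ P : Ideal A, P.IsPrime → P ≠ IsLocalRing.maximalIdeal A →
      ∃ (g : A) (a : A), g ∉ P ∧ g ∈ IsLocalRing.maximalIdeal A ∧ a ∈ J ∧ a ≠ 0 ∧
        ∀ j ∈ J, ∃ n : ℕ, g ^ n * j ∈ Ideal.span {a} := by
    intro P hP hne
    obtain ⟨a, haJ, ha⟩ := hloc P hP hne
    obtain ⟨T, hT⟩ := IsNoetherian.noetherian J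
    choose s hs hsa using fun j : T => ha j.1 (hT ▸ Submodule.subset_span j.2)
    obtain ⟨h, hhm, hhP⟩ : ∃ h ∈ IsLocalRing.maximalIdeal A, h ∉ P := by
      by_contra hc
      push Not at hc
      exact hne (le_antisymm (IsLocalRing.le_maximalIdeal hP.ne_top) hc)
    let g := h * ∏ j : T, s j
    have hgP : g ∉ P := fun hg => (hP.mem_or_mem hg).elim hhP fun h1 =>
      let ⟨j, _, hj⟩ := (Ideal.IsPrime.prod_mem_iff (p := P)).mp h1
      hs j hj
    have hgj : ∀ j ∈ J, g * j ∈ Ideal.span {a} := by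
      intro j hj
      rw [← hT] at hj
      induction hj using Submodule.span_induction with
      | mem x hx =>
        have hd : s ⟨x, hx⟩ * x ∣ g * x :=
          mul_dvd_mul_right ((Finset.dvd_prod_of_mem _ (Finset.mem_univ (⟨x, hx⟩ : T))).mul_left h) x
        obtain ⟨c, hc⟩ := hd
        rw [hc]
        exact Ideal.mul_mem_right _ _ (hsa ⟨x, hx⟩)
      | zero => rw [mul_zero]; exact zero_mem _
      | add x y _ _ hx hy => rw [mul_add]; exact add_mem hx hy
      | smul r x _ hx =>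
        rw [smul_eq_mul, mul_left_comm]
        exact Ideal.mul_mem_left _ _ hx
    refine ⟨g, a, hgP, Ideal.mul_mem_right _ _ hhm, haJ, fun h0 => ?_, fun j hj => ⟨1, by rw [pow_one]; exact hgj j hj⟩⟩
    obtain ⟨j, hj, hj0⟩ := Submodule.exists_mem_ne_zero_of_ne_bot hJ
    have h1 := hgj j hj
    rw [h0, Ideal.span_singleton_eq_bot.mpr rfl, Ideal.mem_bot] at h1
    exact (mul_eq_zero.mp h1).elim (fun hg => hgP (hg ▸ zero_mem _)) hj0
  choose g a hgP hgm haJ ha0 hga using hchart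
  have hD : ∀ (P : Ideal A) (hP : P.IsPrime) (hne : P ≠ IsLocalRing.maximalIdeal A),
      X.basicOpen (inv (g P hP hne)) ≤ U ∧ (⟨P, hP⟩ : PrimeSpectrum A) ∈ X.basicOpen (inv (g P hP hne)) := by
    intro P hP hne
    rw [show X.basicOpen (inv (g P hP hne)) = PrimeSpectrum.basicOpen (g P hP hne) from basicOpen_eq_of_affine _]
    refine ⟨fun q hq hqc => ?_, hgP P hP hne⟩
    rw [Set.mem_singleton_iff.mp hqc] at hq
    exact hq (hgm P hP hne)
  have hideal : ∀ (P : Ideal A) (hP : P.IsPrime) (hne : P ≠ IsLocalRing.maximalIdeal A),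
      I.ideal ⟨_, (isAffineOpen_top X).basicOpen (inv (g P hP hne))⟩ =
        Ideal.span {(X.presheaf.map (homOfLE (le_top : X.basicOpen (inv (g P hP hne)) ≤ ⊤)).op).hom (inv (a P hP hne))} := by
    intro P hP hne
    rw [hidealI]
    refine le_antisymm ?_ ((Ideal.span_singleton_le_iff_mem _).mpr
      (Ideal.mem_map_of_mem _ (Ideal.mem_map_of_mem inv (haJ P hP hne))))
    rw [Ideal.map_le_iff_le_comap, Ideal.map_le_iff_le_comap]
    intro j hj
    obtain ⟨n, hn⟩ := hga P hP hne j hj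
    obtain ⟨c, hc⟩ := Ideal.mem_span_singleton'.mp hn
    have hu : IsUnit ((X.presheaf.map (homOfLE (le_top : X.basicOpen (inv (g P hP hne)) ≤ ⊤)).op).hom (inv (g P hP hne))) :=
      X.toRingedSpace.isUnit_res_basicOpen _
    simp only [Ideal.mem_comap]
    refine (Ideal.unit_mul_mem_iff_mem _ (hu.pow n)).mp ?_
    rw [← map_pow, ← map_mul, ← map_pow, ← map_mul, ← hc, map_mul, map_mul]
    exact Ideal.mul_mem_left _ _ (Ideal.mem_span_singleton_self _)
  have hgen : GenOn (ClSub.idealMod I) U := by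
    intro y hy
    have hne : y.asIdeal ≠ IsLocalRing.maximalIdeal A := fun h => hy (Set.mem_singleton_iff.mpr (PrimeSpectrum.ext h))
    obtain ⟨hDU, hyD⟩ := hD y.asIdeal y.isPrime hne
    haveI : Nonempty (Scheme.Opens.toScheme (X.basicOpen (inv (g y.asIdeal y.isPrime hne)))) := ⟨⟨y, hyD⟩⟩
    obtain ⟨m, hm⟩ := isGen_idealMod I ⟨_, (isAffineOpen_top X).basicOpen (inv (g y.asIdeal y.isPrime hne))⟩ _
      (hideal _ _ hne) (fun h0 => ha0 y.asIdeal y.isPrime hne (hinv.1 ((map_injective_of_isIntegral X (homOfLE le_top)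
        (h0.trans (map_zero _).symm)).trans (map_zero inv).symm)))
    exact ⟨_, hyD, hDU, m, hm⟩
  have hIinv : PicF.IsInvertible ((ClSub.idealMod I).restrict U.ι) := by
    refine Groth.L14.ParaF.isInvertible_iff.mpr ?_
    have := Groth.L14.ParaF.genOn_restrict U.ι hgen
    rwa [Scheme.Opens.ι_preimage_self] at this
  obtain ⟨φ⟩ := hpic _ hIinv
  obtain ⟨e, he⟩ := exists_gen_of_iso (ClSub.idealMod I) φ
  obtain ⟨b₀, hb₀⟩ := hbij.2 (show Γ(Coh.structureModule X, U) from io I U e)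
  obtain ⟨a₀, rfl⟩ := hinv.2 (show Γ(X, ⊤) from b₀)
  refine ⟨a₀, fun P hP hne => ?_⟩
  obtain ⟨hDU, -⟩ := hD P hP hne
  have heD : I.ideal ⟨_, (isAffineOpen_top X).basicOpen (inv (g P hP hne))⟩ =
      Ideal.span {(X.presheaf.map (homOfLE (le_top : X.basicOpen (inv (g P hP hne)) ≤ ⊤)).op).hom (inv a₀)} := by
    have h1 : (X.presheaf.map (homOfLE (le_top : X.basicOpen (inv (g P hP hne)) ≤ ⊤)).op).hom (inv a₀) =
        io I _ (rs (ClSub.idealMod I) hDU e) := by
      rw [io_rs]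
      exact (rO_rO hDU le_top (inv a₀)).symm.trans (congrArg (rO X hDU) hb₀)
    rw [h1]
    ext z
    rw [Groth.L18.IdealModule.mem_ideal_iff I ((isAffineOpen_top X).basicOpen (inv (g P hP hne))),
      Ideal.mem_span_singleton']
    constructor
    · rintro ⟨n, rfl⟩
      obtain ⟨c, hc⟩ := (he _ hDU).2 n
      exact ⟨c, (io_smul I c _).symm.trans (congrArg (io I _) hc)⟩
    · rintro ⟨c, rfl⟩
      exact ⟨c • rs (ClSub.idealMod I) hDU e, io_smul I c _⟩
  letI := (X.presheaf.map (homOfLE (le_top : X.basicOpen (inv (g P hP hne)) ≤ ⊤)).op).hom.toAlgebra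
  haveI : IsLocalization.Away (inv (g P hP hne)) Γ(X, X.basicOpen (inv (g P hP hne))) :=
    (isAffineOpen_top X).isLocalization_basicOpen _
  have back : ∀ (x : A) (K : Ideal A),
      algebraMap Γ(X, ⊤) Γ(X, X.basicOpen (inv (g P hP hne))) (inv x) ∈
        (K.map inv).map (algebraMap Γ(X, ⊤) Γ(X, X.basicOpen (inv (g P hP hne)))) →
      ∃ s ∉ P, s * x ∈ K := by
    intro x K h
    obtain ⟨t, ht, htx⟩ := (IsLocalization.algebraMap_mem_map_algebraMap_iff
      (Submonoid.powers (inv (g P hP hne))) _ _ _).mp h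
    obtain ⟨n, rfl⟩ := ht
    refine ⟨g P hP hne ^ n, fun hmem => hgP P hP hne (hP.mem_of_pow_mem n hmem), ?_⟩
    replace htx : inv (g P hP hne) ^ n * inv x ∈ K.map inv := htx
    rw [← map_pow, ← map_mul] at htx
    obtain ⟨y, hy, hyx⟩ := (Ideal.mem_map_iff_of_surjective inv hinv.2).mp htx
    exact hinv.1 hyx ▸ hy
  refine ⟨back a₀ J ?_, fun j hj => back j (Ideal.span {a₀}) ?_⟩
  · show _ ∈ J'.map (X.presheaf.map (homOfLE (le_top : X.basicOpen (inv (g P hP hne)) ≤ ⊤)).op).hom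
    rw [← hidealI ⟨_, (isAffineOpen_top X).basicOpen (inv (g P hP hne))⟩, heD]
    exact Ideal.mem_span_singleton_self _
  · rw [Ideal.map_span, Set.image_singleton, Ideal.map_span, Set.image_singleton]
    show _ ∈ Ideal.span {(X.presheaf.map (homOfLE (le_top : X.basicOpen (inv (g P hP hne)) ≤ ⊤)).op).hom (inv a₀)}
    rw [← heD, hidealI]
    exact Ideal.mem_map_of_mem _ (Ideal.mem_map_of_mem inv hj)

end Groth.L07.ParafPrincipal
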