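import Mathlib.RingTheory.Flat.EquationalCriterion
import Mathlib.RingTheory.Ideal.Quotient.Operations
import Mathlib.RingTheory.Finiteness.Basic
import Mathlib.RingTheory.Noetherian.Basic
import Mathlib.RingTheory.Ideal.Quotient.Noetherian
import Mathlib.Algebra.Module.Torsion.Basic

/-! Modules which are direct summands of a finite free module over a quotient ring. -/

namespace Groth.L07.RelProj

universe u

variable {A : Type u} [CommRing A] {J : Ideal A}
variable {X Y Z : Type*} [AddCommGroup X] [Module A X] [AddCommGroup Y] [Module A Y]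
  [AddCommGroup Z] [Module A Z]

/-- `X` is a direct summand of some `(A ⧸ J) ^ n`, as an `A`-module. -/
def IsRelProj (J : Ideal A) (X : Type*) [AddCommGroup X] [Module A X] : Prop :=
  ∃ (n : ℕ) (s : X →ₗ[A] (Fin n → A ⧸ J)) (p : (Fin n → A ⧸ J) →ₗ[A] X), p ∘ₗ s = LinearMap.id

theorem smul_mk_eq_zero {ι : Type*} {a : A} (ha : a ∈ J) (v : ι → A ⧸ J) : a • v = 0 := by
  funext i
  rw [Pi.smul_apply, Algebra.smul_def, Pi.zero_apply]
  show Ideal.Quotient.mk J a * v i = 0
  rw [Ideal.Quotient.eq_zero_iff_mem.mpr ha, zero_mul]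

theorem IsRelProj.smul_eq_zero (h : IsRelProj J X) {a : A} (ha : a ∈ J) (x : X) : a • x = 0 := by
  obtain ⟨n, s, p, hps⟩ := h
  rw [← LinearMap.id_apply (R := A) (a • x), ← hps, LinearMap.comp_apply, map_smul,
    smul_mk_eq_zero ha, map_zero]

theorem IsRelProj.finite (h : IsRelProj J X) : Module.Finite A X := by
  obtain ⟨n, s, p, hps⟩ := h
  exact Module.Finite.of_surjective p fun x => ⟨s x, LinearMap.congr_fun hps x⟩

theorem isRelProj_of_equiv (h : IsRelProj J X) (e : X ≃ₗ[A] Y) : IsRelProj J Y := by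
  obtain ⟨n, s, p, hps⟩ := h
  exact ⟨n, s ∘ₗ e.symm.toLinearMap, e.toLinearMap ∘ₗ p, LinearMap.ext fun y => by
    simp [show p (s (e.symm y)) = e.symm y from LinearMap.congr_fun hps _]⟩

theorem isRelProj_of_retract (h : IsRelProj J X) (i : Y →ₗ[A] X) (r : X →ₗ[A] Y)
    (hri : r ∘ₗ i = LinearMap.id) : IsRelProj J Y := by
  obtain ⟨n, s, p, hps⟩ := h
  exact ⟨n, s ∘ₗ i, r ∘ₗ p, LinearMap.ext fun y => by
    simp only [LinearMap.comp_apply]
    rw [show p (s (i y)) = i y from LinearMap.congr_fun hps _]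
    exact LinearMap.congr_fun hri y⟩

/-- The linear map out of `(A ⧸ J) ^ n` given by a family killed by `J`. -/
noncomputable def lift {n : ℕ} (x : Fin n → X) (hx : ∀ a ∈ J, ∀ i, a • x i = 0) :
    (Fin n → A ⧸ J) →ₗ[A] X :=
  ∑ i, (Submodule.liftQ J (LinearMap.toSpanSingleton A X (x i))
    (fun a ha => hx a ha i)) ∘ₗ LinearMap.proj i

theorem lift_single {n : ℕ} (x : Fin n → X) (hx : ∀ a ∈ J, ∀ i, a • x i = 0) (i : Fin n) (a : A) :
    lift x hx (Pi.single i (Ideal.Quotient.mk J a)) = a • x i := by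
  simp only [lift, LinearMap.sum_apply, LinearMap.comp_apply, LinearMap.proj_apply]
  rw [Finset.sum_eq_single i]
  · rw [Pi.single_eq_same]; rfl
  · intro b _ hb; rw [Pi.single_eq_of_ne hb, map_zero]
  · simp

theorem pi_ext {n : ℕ} {f g : (Fin n → A ⧸ J) →ₗ[A] X}
    (h : ∀ i, f (Pi.single i 1) = g (Pi.single i 1)) : f = g := by
  refine LinearMap.pi_ext fun i b => ?_
  obtain ⟨a, rfl⟩ := Ideal.Quotient.mk_surjective b
  have : (Pi.single i (Ideal.Quotient.mk J a) : Fin n → A ⧸ J) = a • Pi.single i 1 := by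
    rw [← Pi.single_smul, Algebra.smul_def, mul_one]; rfl
  rw [this, map_smul, map_smul, h]

/-- The lifting property. -/
theorem IsRelProj.exists_lift (h : IsRelProj J Y) (π : X →ₗ[A] Z) (hπ : Function.Surjective π)
    (hX : ∀ a ∈ J, ∀ x : X, a • x = 0) (φ : Y →ₗ[A] Z) : ∃ ψ : Y →ₗ[A] X, π ∘ₗ ψ = φ := by
  obtain ⟨n, s, p, hps⟩ := h
  choose x hx using fun i : Fin n => hπ (φ (p (Pi.single i 1)))
  refine ⟨lift x (fun a ha i => hX a ha _) ∘ₗ s, ?_⟩
  rw [← LinearMap.comp_assoc, show π ∘ₗ lift x (fun a ha i => hX a ha _) = φ ∘ₗ p from pi_ext fun i => by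
    rw [LinearMap.comp_apply, LinearMap.comp_apply, ← map_one (Ideal.Quotient.mk J), lift_single,
      one_smul, map_one, hx], LinearMap.comp_assoc, hps, LinearMap.comp_id]

theorem isRelProj_pi_self (ι : Type*) [Fintype ι] : IsRelProj J (ι → A ⧸ J) :=
  ⟨_, (LinearEquiv.funCongrLeft A (A ⧸ J) (Fintype.equivFin ι).symm).toLinearMap,
    (LinearEquiv.funCongrLeft A (A ⧸ J) (Fintype.equivFin ι).symm).symm.toLinearMap,
    LinearMap.ext fun x => LinearEquiv.symm_apply_apply _ _⟩

theorem IsRelProj.pi (h : IsRelProj J X) (ι : Type*) [Fintype ι] : IsRelProj J (ι → X) := by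
  obtain ⟨n, s, p, hps⟩ := h
  refine isRelProj_of_retract (isRelProj_pi_self (A := A) (J := J) (ι × Fin n))
    (LinearMap.pi fun q => LinearMap.proj q.2 ∘ₗ s ∘ₗ LinearMap.proj q.1)
    (LinearMap.pi fun i => p ∘ₗ LinearMap.pi fun j => LinearMap.proj (i, j)) ?_
  ext v i
  exact LinearMap.congr_fun hps (v i)

/-- The kernel of a surjection between such modules. -/
theorem isRelProj_ker (hX : IsRelProj J X) (hY : IsRelProj J Y) (π : X →ₗ[A] Y)
    (hπ : Function.Surjective π) : IsRelProj J (LinearMap.ker π) := by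
  obtain ⟨σ, hσ⟩ := hY.exists_lift π hπ (fun a ha x => hX.smul_eq_zero ha x) LinearMap.id
  refine isRelProj_of_retract hX (LinearMap.ker π).subtype
    (LinearMap.codRestrict _ (LinearMap.id - σ ∘ₗ π) fun x => ?_) ?_
  · rw [LinearMap.mem_ker, LinearMap.sub_apply, map_sub, LinearMap.id_apply,
      ← LinearMap.comp_apply, ← LinearMap.comp_assoc, hσ, LinearMap.id_comp, sub_self]
  · ext x
    simp [LinearMap.mem_ker.mp x.2]

/-- Extensions of such modules. -/
theorem isRelProj_of_ker {π : X →ₗ[A] Y} (hker : IsRelProj J (LinearMap.ker π)) (hY : IsRelProj J Y)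
    (hπ : Function.Surjective π) (hX : ∀ a ∈ J, ∀ x : X, a • x = 0) : IsRelProj J X := by
  obtain ⟨σ, hσ⟩ := hY.exists_lift π hπ hX LinearMap.id
  obtain ⟨n, s, p, hps⟩ := hker
  obtain ⟨m, s', p', hps'⟩ := hY
  have hmem : ∀ x, x - σ (π x) ∈ LinearMap.ker π := fun x => by
    rw [LinearMap.mem_ker, map_sub, ← LinearMap.comp_apply π σ, hσ, LinearMap.id_apply, sub_self]
  refine isRelProj_of_retract (isRelProj_pi_self (A := A) (J := J) (Fin n ⊕ Fin m))
    (LinearMap.pi fun q => Sum.elim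
      (fun i => LinearMap.proj i ∘ₗ s ∘ₗ LinearMap.codRestrict _ (LinearMap.id - σ ∘ₗ π) hmem)
      (fun i => LinearMap.proj i ∘ₗ s' ∘ₗ π) q)
    ((LinearMap.ker π).subtype ∘ₗ p ∘ₗ LinearMap.pi (fun i => LinearMap.proj (Sum.inl i))
      + σ ∘ₗ p' ∘ₗ LinearMap.pi (fun i => LinearMap.proj (Sum.inr i))) ?_
  ext x
  show (p (s ⟨x - σ (π x), hmem x⟩) : X) + σ (p' (s' (π x))) = x
  rw [show p (s ⟨x - σ (π x), hmem x⟩) = _ from LinearMap.congr_fun hps _,
    show p' (s' (π x)) = π x from LinearMap.congr_fun hps' _]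
  exact sub_add_cancel _ _

section Flat

variable [Module (A ⧸ J) X] [IsScalarTower A (A ⧸ J) X]

theorem flat_of_isRelProj (h : IsRelProj J X) : Module.Flat (A ⧸ J) X := by
  obtain ⟨n, s, p, hps⟩ := h
  have hsurj : Function.Surjective (algebraMap A (A ⧸ J)) := Ideal.Quotient.mk_surjective
  have : Module.Projective (A ⧸ J) X :=
    Module.Projective.of_split (s.extendScalarsOfSurjective hsurj)
      (p.extendScalarsOfSurjective hsurj) (LinearMap.ext fun x => LinearMap.congr_fun hps x)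
  exact inferInstance

theorem isRelProj_of_flat [IsNoetherianRing A] [Module.Finite A X] (h : Module.Flat (A ⧸ J) X) :
    IsRelProj J X := by
  haveI : IsNoetherianRing (A ⧸ J) :=
    isNoetherianRing_of_surjective A _ (Ideal.Quotient.mk J) Ideal.Quotient.mk_surjective
  haveI : Module.Finite (A ⧸ J) X := Module.Finite.of_restrictScalars_finite A (A ⧸ J) X
  haveI : Module.FinitePresentation (A ⧸ J) X := Module.finitePresentation_of_finite _ _
  haveI : Module.Projective (A ⧸ J) X := Module.Flat.projective_of_finitePresentation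
  obtain ⟨n, g, hg⟩ := Module.Finite.exists_fin' (A ⧸ J) X
  obtain ⟨s, hs⟩ := Module.projective_lifting_property g LinearMap.id hg
  exact ⟨n, s.restrictScalars A, g.restrictScalars A, LinearMap.ext fun x => LinearMap.congr_fun hs x⟩

theorem flat_iff_isRelProj [IsNoetherianRing A] [Module.Finite A X] :
    Module.Flat (A ⧸ J) X ↔ IsRelProj J X := ⟨isRelProj_of_flat, flat_of_isRelProj⟩

end Flat

end Groth.L07.RelProj
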