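import Groth.Agent.L07.RegSeq
import Groth.Agent.L07.RelProj
import Groth.Agent.L06.RegularPow

/-! Weak regularity for retracts, powers and limits. -/

namespace Groth.L07.RegSeq

open RingTheory.Sequence Pointwise

set_option linter.style.haveILetI false

universe u v

variable {A : Type u} [CommRing A]

theorem isWeaklyRegular_iff_mem {M : Type v} [AddCommGroup M] [Module A M] (rs : List A) :
    IsWeaklyRegular M rs ↔ ∀ (i : ℕ) (h : i < rs.length) (y : M),
      rs[i] • y ∈ Ideal.ofList (rs.take i) • (⊤ : Submodule A M) →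
        y ∈ Ideal.ofList (rs.take i) • (⊤ : Submodule A M) := by
  constructor
  · intro h i hi y hy
    rw [← Submodule.Quotient.mk_eq_zero] at hy ⊢
    rw [Submodule.Quotient.mk_smul] at hy
    exact (h.regular_mod_prev i hi).right_eq_zero_of_smul hy
  · refine fun h => ⟨fun i hi => isSMulRegular_iff_right_eq_zero_of_smul.mpr fun y hy => ?_⟩
    obtain ⟨y, rfl⟩ := Submodule.mkQ_surjective _ y
    rw [← map_smul] at hy
    exact (Submodule.Quotient.mk_eq_zero _).mpr (h i hi y ((Submodule.Quotient.mk_eq_zero _).mp hy))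

theorem isWeaklyRegular_of_retract {M N : Type v} [AddCommGroup M] [Module A M] [AddCommGroup N]
    [Module A N] {rs : List A} (h : IsWeaklyRegular M rs) (i : N →ₗ[A] M) (p : M →ₗ[A] N)
    (hpi : p ∘ₗ i = LinearMap.id) : IsWeaklyRegular N rs := by
  rw [isWeaklyRegular_iff_mem] at h ⊢
  intro k hk y hy
  have hiy : i (rs[k] • y) ∈ Ideal.ofList (rs.take k) • (⊤ : Submodule A M) :=
    Submodule.smul_mono le_rfl le_top ((Submodule.map_smul'' _ _ _).le (Submodule.mem_map_of_mem hy))
  rw [map_smul] at hiy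
  have := Submodule.smul_mono le_rfl le_top
    ((Submodule.map_smul'' _ _ _).le (Submodule.mem_map_of_mem (f := p) (h k hk _ hiy)))
  rwa [show p (i y) = y from LinearMap.congr_fun hpi y] at this

theorem isWeaklyRegular_pi {M : Type v} [AddCommGroup M] [Module A M] {rs : List A}
    (h : IsWeaklyRegular M rs) (m : ℕ) : IsWeaklyRegular (Fin m → M) rs := by
  rw [isWeaklyRegular_iff_mem] at h ⊢
  intro k hk y hy
  rw [← Finset.univ_sum_single y]
  refine Submodule.sum_mem _ fun j _ => ?_
  have hyj : rs[k] • y j ∈ Ideal.ofList (rs.take k) • (⊤ : Submodule A M) :=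
    Submodule.smul_mono le_rfl le_top ((Submodule.map_smul'' _ _ _).le
      (Submodule.mem_map_of_mem (f := LinearMap.proj (R := A) (φ := fun _ : Fin m => M) j) hy))
  exact Submodule.smul_mono le_rfl le_top ((Submodule.map_smul'' _ _ _).le
    (Submodule.mem_map_of_mem (f := LinearMap.single A (fun _ : Fin m => M) j) (h k hk _ hyj)))

theorem isWeaklyRegular_of_isRelProj {J : Ideal A} {rs : List A}
    (h : IsWeaklyRegular (A ⧸ J) rs) {X : Type u} [AddCommGroup X] [Module A X]
    (hX : RelProj.IsRelProj J X) : IsWeaklyRegular X rs := by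
  obtain ⟨m, s, p, hps⟩ := hX
  exact isWeaklyRegular_of_retract (isWeaklyRegular_pi h m) s p hps

/-- Weak regularity on a limit. -/
theorem isWeaklyRegular_of_quotients [IsNoetherianRing A] {M : Type v} [AddCommGroup M]
    [Module A M] [Module.Finite A M] {J : Ideal A} (hJ : J ≤ (⊥ : Ideal A).jacobson) {rs : List A}
    (h : ∀ n : ℕ, IsWeaklyRegular (M ⧸ (J ^ n • ⊤ : Submodule A M)) rs) : IsWeaklyRegular M rs := by
  rw [isWeaklyRegular_iff_mem]
  intro i hi y hy
  set F := Ideal.ofList (rs.take i) • (⊤ : Submodule A M)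
  haveI : IsHausdorff J (M ⧸ F) := IsHausdorff.of_le_jacobson J _ hJ
  rw [← Submodule.Quotient.mk_eq_zero]
  refine IsHausdorff.haus ‹_› _ fun n => SModEq.zero.mpr ?_
  let q := (J ^ n • ⊤ : Submodule A M).mkQ
  have hmap : F.map q = Ideal.ofList (rs.take i) • ⊤ := by
    rw [Submodule.map_smul'', Submodule.map_top, Submodule.range_mkQ]
  have hq := (isWeaklyRegular_iff_mem rs).mp (h n) i hi (q y) (by
    rw [← map_smul, ← hmap]; exact Submodule.mem_map_of_mem hy)
  rw [← hmap] at hq
  obtain ⟨z, hz, hzy⟩ := hq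
  have hd : y - z ∈ (J ^ n • ⊤ : Submodule A M) :=
    (Submodule.Quotient.eq _).mp hzy.symm
  have h2 := Submodule.mem_map_of_mem (f := F.mkQ) hd
  rw [Submodule.map_smul'', Submodule.map_top, Submodule.range_mkQ, map_sub,
    Submodule.mkQ_apply, Submodule.mkQ_apply, (Submodule.Quotient.mk_eq_zero F).mpr hz, sub_zero] at h2
  exact h2

end Groth.L07.RegSeq
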