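import Groth.Agent.L07.FibreRegular
import Groth.Agent.L07.WRegLimit
import Groth.Agent.L20.FlatLocusOpen
import Groth.Agent.L02.InjFlat.Open
import Groth.Agent.L03.RegImmFlat
import Groth.Agent.L03.QuasiRegularBC
import Groth.Agent.L14.QRegRegular
import Groth.Agent.S5803
import Groth.Prelude.Def_RegImm
import Mathlib.RingTheory.TensorProduct.Quotient
import Mathlib.RingTheory.Localization.Away.AdjoinRoot

/-!
Transversally regular sequences in algebras of finite presentation: spreading from a point where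
the sequence is regular on the fibre, and stability under base change.
-/

set_option autoImplicit false
set_option linter.style.haveILetI false
set_option maxSynthPendingDepth 3

universe u

open TensorProduct RingTheory.Sequence
open Groth.L07.RegSeq (isWeaklyRegular_iff_mem)

namespace Groth.L07.TransSeq

variable {A B : Type u} [CommRing A] [CommRing B] [Algebra A B]

theorem isWeaklyRegular_iff_elem {R : Type u} [CommRing R] (l : List R) :
    IsWeaklyRegular R l ↔ ∀ (i : ℕ) (hi : i < l.length) (b : R),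
      l[i] * b ∈ Ideal.ofList (l.take i) → b ∈ Ideal.ofList (l.take i) := by
  rw [isWeaklyRegular_iff_mem]
  simp only [smul_eq_mul, Ideal.mul_top]

theorem flat_powers_of_dvd {M : Type u} [AddCommGroup M] [Module A M] [Module B M]
    [IsScalarTower A B M] {g g' : B} (hdvd : g ∣ g')
    (h : Module.Flat A (LocalizedModule (Submonoid.powers g) M)) :
    Module.Flat A (LocalizedModule (Submonoid.powers g') M) := by
  rw [Groth.L20.flat_localizedModule_iff_forall] at h ⊢
  intro J z hz
  obtain ⟨_, ⟨k, rfl⟩, hk⟩ := h J z hz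
  obtain ⟨c, rfl⟩ := hdvd
  exact ⟨(g * c) ^ k, ⟨k, rfl⟩, by
    rw [mul_comm g c, mul_pow, mul_smul]
    exact (congrArg (c ^ k • ·) hk).trans (smul_zero _)⟩

/-- The localised quotient module is the quotient of the localisation. -/
theorem flat_away_quot {g : B} (L : Type u) [CommRing L] [Algebra A L] [Algebra B L]
    [IsScalarTower A B L] [IsLocalization.Away g L] (l : List B)
    (h : Module.Flat A (LocalizedModule (Submonoid.powers g) (B ⧸ (Ideal.ofList l • (⊤ : Submodule B B))))) :
    Module.Flat A (L ⧸ Ideal.ofList (l.map (algebraMap B L))) := by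
  let T := Submonoid.powers g
  let K : Submodule B B := Ideal.ofList l • ⊤
  have hK : K.localized' L T (Algebra.linearMap B L) = Ideal.ofList (l.map (algebraMap B L)) := by
    rw [Submodule.localized'_eq_span]
    show Submodule.span L (algebraMap B L '' (K : Set B)) = _
    rw [show (K : Set B) = (Ideal.ofList l : Set B) by simp [K]]
    exact (Ideal.map_ofList (algebraMap B L) l)
  let e := (Submodule.quotEquivOfEq _ _ hK.symm).restrictScalars B ≪≫ₗ
    (IsLocalizedModule.iso T (Submodule.toLocalizedQuotient' L T (Algebra.linearMap B L) K)).symm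
  haveI := h
  exact Module.Flat.of_linearEquiv (e.restrictScalars A)

/-- An element of the fibre ring is an element of the algebra up to a constant. -/
theorem exists_frac {p : Ideal A} [p.IsPrime] (s : B ⊗[A] p.ResidueField) :
    ∃ r ∉ p, ∃ b : B, s * ((1 : B) ⊗ₜ[A] algebraMap A p.ResidueField r) = b ⊗ₜ[A] (1 : p.ResidueField) := by
  induction s using TensorProduct.induction_on with
  | zero => exact ⟨1, fun h => (inferInstance : p.IsPrime).ne_top ((Ideal.eq_top_iff_one _).2 h), 0,
      by simp⟩
  | tmul b c =>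
    obtain ⟨x, ⟨y, hy⟩, rfl⟩ :=
      IsLocalization.exists_mk'_eq (nonZeroDivisors (A ⧸ p)) c
    obtain ⟨a, rfl⟩ := Ideal.Quotient.mk_surjective x
    obtain ⟨r, rfl⟩ := Ideal.Quotient.mk_surjective y
    refine ⟨r, fun h => nonZeroDivisors.ne_zero hy (Ideal.Quotient.eq_zero_iff_mem.2 h),
      a • b, ?_⟩
    rw [Algebra.TensorProduct.tmul_mul_tmul, mul_one, TensorProduct.smul_tmul,
      IsScalarTower.algebraMap_apply A (A ⧸ p) p.ResidueField r, Ideal.Quotient.algebraMap_eq,
      IsLocalization.mk'_spec' (M := nonZeroDivisors (A ⧸ p)) p.ResidueField (Ideal.Quotient.mk p a) ⟨_, hy⟩ |> fun h =>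
        (mul_comm _ _).trans h, ← Ideal.Quotient.algebraMap_eq, ← IsScalarTower.algebraMap_apply,
      Algebra.algebraMap_eq_smul_one]
  | add s t hs ht =>
    obtain ⟨r, hr, b, hb⟩ := hs
    obtain ⟨r', hr', b', hb'⟩ := ht
    refine ⟨r * r', fun h => ((inferInstance : p.IsPrime).mem_or_mem h).elim hr hr',
      r' • b + r • b', ?_⟩
    have e1 : ∀ (u : A) (x : B), (u • x) ⊗ₜ[A] (1 : p.ResidueField) =
        ((1 : B) ⊗ₜ[A] algebraMap A p.ResidueField u) * (x ⊗ₜ[A] (1 : p.ResidueField)) := fun u x => by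
      rw [Algebra.TensorProduct.tmul_mul_tmul, one_mul, mul_one, TensorProduct.smul_tmul,
        Algebra.algebraMap_eq_smul_one]
    rw [TensorProduct.add_tmul, e1, e1, ← hb, ← hb', map_mul,
      show (1 : B) ⊗ₜ[A] (algebraMap A p.ResidueField r * algebraMap A p.ResidueField r') =
        ((1 : B) ⊗ₜ[A] algebraMap A p.ResidueField r) * ((1 : B) ⊗ₜ[A] algebraMap A p.ResidueField r') by
        rw [Algebra.TensorProduct.tmul_mul_tmul, one_mul]]
    ring


variable (q : Ideal B) [q.IsPrime]

theorem isLocalizedModule_submonoid (S : Type u) [CommRing S] [Algebra B S] (L : Type u) [CommRing L]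
    [Algebra S L] [Algebra B L] [IsScalarTower B S L]
    [IsLocalization (Algebra.algebraMapSubmonoid S q.primeCompl) L] :
    IsLocalizedModule q.primeCompl (IsScalarTower.toAlgHom B S L).toLinearMap :=
  isLocalizedModule_iff_isLocalization.mpr ‹_›

/-- A quasi-regular sequence with flat quotient is weakly regular on the fibres. -/
theorem fibre_isWeaklyRegular [Algebra.FiniteType A B] (l : List B) (hl : ∀ b ∈ l, b ∈ q)
    (hq : CAlgX.IsQuasiRegular l.get) (hflat : Module.Flat A (B ⧸ Ideal.ofList l)) :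
    IsWeaklyRegular
      (LocalizedModule q.primeCompl (B ⊗[A] (q.comap (algebraMap A B)).ResidueField)) l := by
  let p := q.comap (algebraMap A B)
  let κ := p.ResidueField
  let S := B ⊗[A] κ
  have h0 : Module.Flat A (B ⧸ Ideal.span (Set.range l.get)) := by
    rw [show Ideal.span (Set.range l.get) = Ideal.ofList l by rw [Set.range_list_get]]
    exact hflat
  have h1 : CAlgX.IsQuasiRegular fun i => ((1 : κ) ⊗ₜ[A] l.get i : κ ⊗[A] B) :=
    Groth.L03.QuasiRegularBC.baseChange κ l.get h0 hq
  let M := Algebra.algebraMapSubmonoid S q.primeCompl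
  let L := Localization M
  haveI : IsNoetherianRing (κ ⊗[A] B) := Algebra.FiniteType.isNoetherianRing κ _
  haveI : IsNoetherianRing S :=
    isNoetherianRing_of_ringEquiv _ (Algebra.TensorProduct.comm A κ B).toRingEquiv
  haveI : IsNoetherianRing L := IsLocalization.isNoetherianRing M L inferInstance
  let e : κ ⊗[A] B →+* L :=
    (algebraMap S L).comp (Algebra.TensorProduct.comm A κ B).toRingEquiv.toRingHom
  have he : e.Flat :=
    RingHom.Flat.comp (RingHom.Flat.of_bijective (Algebra.TensorProduct.comm A κ B).toRingEquiv.bijective)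
      (RingHom.flat_algebraMap_iff.mpr (IsLocalization.flat _ M))
  have h2 : CAlgX.IsQuasiRegular (fun i => algebraMap B L (l.get i)) := by
    have := Groth.L03.RegImmFlat.isQuasiRegular_map e he h1
    exact this
  -- units
  have hfrac : ∀ s : S, ∃ r ∉ p, ∃ b : B, s * ((1 : B) ⊗ₜ[A] algebraMap A κ r) = b ⊗ₜ[A] (1 : κ) :=
    fun s => exists_frac s
  have hjac : Ideal.span (Set.range fun i => algebraMap B L (l.get i)) ≤ Ideal.jacobson ⊥ := by
    rw [Ideal.span_le]
    rintro _ ⟨i, rfl⟩
    rw [SetLike.mem_coe, Ideal.mem_jacobson_bot]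
    intro y
    obtain ⟨n, ⟨_, t, ht, rfl⟩, rfl⟩ := IsLocalization.exists_mk'_eq M y
    obtain ⟨r, hr, b, hb⟩ := hfrac n
    let u : S := (1 : B) ⊗ₜ[A] algebraMap A κ r
    have hu : IsUnit u := by
      refine IsUnit.map (Algebra.TensorProduct.includeRight (R := A) (A := B) (B := κ)) ?_
      exact isUnit_iff_ne_zero.2 fun h => hr (Ideal.algebraMap_residueField_eq_zero.1 h)
    have hmem : l.get i * b + algebraMap A B r * t ∉ q := fun h => by
      have h' : algebraMap A B r * t ∈ q := by
        simpa using q.sub_mem h (q.mul_mem_right b (hl _ (List.get_mem l i)))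
      exact ((inferInstance : q.IsPrime).mem_or_mem h').elim hr ht
    have hx : IsUnit (algebraMap B L (l.get i * b + algebraMap A B r * t)) := by
      rw [IsScalarTower.algebraMap_apply B S L]
      exact IsLocalization.map_units L
        (⟨algebraMap B S (l.get i * b + algebraMap A B r * t), ⟨_, hmem, rfl⟩⟩ : M)
    have hsplit : algebraMap B L (l.get i * b + algebraMap A B r * t) =
        algebraMap S L u * algebraMap B L t *
          (algebraMap B L (l.get i) * IsLocalization.mk' L n (⟨algebraMap B S t, ⟨t, ht, rfl⟩⟩ : M) + 1) := by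
      have e2 : algebraMap B S (algebraMap A B r) = u := by
        show algebraMap A B r ⊗ₜ[A] (1 : κ) = (1 : B) ⊗ₜ[A] algebraMap A κ r
        rw [Algebra.algebraMap_eq_smul_one, TensorProduct.smul_tmul, Algebra.algebraMap_eq_smul_one]
      have e3 : algebraMap B S b = n * u := hb.symm
      simp only [map_add, map_mul, IsScalarTower.algebraMap_apply B S L, e2, e3]
      have e4 := IsLocalization.mk'_spec L n (⟨algebraMap B S t, ⟨t, ht, rfl⟩⟩ : M)
      rw [← e4]
      ring
    rw [hsplit] at hx
    exact isUnit_of_mul_isUnit_right hx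
  have h3 : IsWeaklyRegular L (List.ofFn fun i => algebraMap B L (l.get i)) :=
    Groth.Agent.S5803.result L _ _ (fun i => (Ideal.jacobson_bot (R := L)) ▸ hjac (Ideal.subset_span ⟨i, rfl⟩)) h2
  haveI := isLocalizedModule_submonoid q S L
  refine ((IsLocalizedModule.iso q.primeCompl (IsScalarTower.toAlgHom B S L).toLinearMap).isWeaklyRegular_congr l).mpr
    ((isWeaklyRegular_map_algebraMap_iff L L l).mp ?_)
  rw [show l.map (algebraMap B L) = List.ofFn fun i => algebraMap B L (l.get i) by
    conv_lhs => rw [← List.ofFn_get l]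
    rw [List.map_ofFn]; rfl]
  exact h3

/-- A sequence regular on the fibre through a point of flatness is transversally regular on a basic
open neighbourhood. -/
theorem exists_away_transReg [Algebra.FinitePresentation A B] (l : List B) (hl : ∀ b ∈ l, b ∈ q)
    (hflat : Module.Flat A (LocalizedModule q.primeCompl B))
    (hreg : IsWeaklyRegular
      (LocalizedModule q.primeCompl (B ⊗[A] (q.comap (algebraMap A B)).ResidueField)) l) :
    ∃ g ∉ q, ∀ (L : Type u) [CommRing L] [Algebra A L] [Algebra B L] [IsScalarTower A B L] (g' : B),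
      IsLocalization.Away g' L → g ∣ g' → RegImm.IsTransRegularSeq A L (l.map (algebraMap B L)) := by
  classical
  haveI : Module.FinitePresentation B B := Module.finitePresentation_of_projective _ _
  obtain ⟨hw, hfl⟩ := Groth.L07.FibreRegular.isWeaklyRegular_and_flat q l hl B hflat hreg
  have hopen : ∀ i : Fin (l.length + 1), ∃ g ∉ q, Module.Flat A (LocalizedModule (Submonoid.powers g)
      (B ⧸ (Ideal.ofList (l.take i.1) • (⊤ : Submodule B B)))) := by
    intro i
    haveI := hfl i.1 (Nat.le_of_lt_succ i.2)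
    haveI : Module.FinitePresentation B (B ⧸ (Ideal.ofList (l.take i.1) • (⊤ : Submodule B B))) :=
      Module.finitePresentation_of_surjective _ (Submodule.mkQ_surjective _) (by
        rw [Submodule.ker_mkQ, smul_eq_mul, Ideal.mul_top]
        exact Submodule.fg_span (List.finite_toSet _))
    obtain ⟨g, hg, h⟩ := Groth.L20.exists_flat_away q.primeCompl (R := A)
      (M := B ⧸ (Ideal.ofList (l.take i.1) • (⊤ : Submodule B B)))
    exact ⟨g, hg, h⟩
  choose g hg hgflat using hopen
  let g₀ := ∏ i, g i
  have hg₀ : g₀ ∉ q := fun h => by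
    obtain ⟨i, -, hi⟩ := Ideal.IsPrime.prod_mem_iff.1 h
    exact hg i hi
  let L₀ := Localization.Away g₀
  haveI : Algebra.FinitePresentation B L₀ := IsLocalization.Away.finitePresentation g₀
  haveI : Algebra.FinitePresentation A L₀ := Algebra.FinitePresentation.trans A B L₀
  have hflat₀ : ∀ i ≤ l.length, Module.Flat A (L₀ ⧸ Ideal.ofList ((l.take i).map (algebraMap B L₀))) :=
    fun i hi => flat_away_quot (g := g₀) L₀ (l.take i)
      (flat_powers_of_dvd (Finset.dvd_prod_of_mem g (Finset.mem_univ (⟨i, Nat.lt_succ_of_le hi⟩ : Fin _)))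
        (hgflat ⟨i, Nat.lt_succ_of_le hi⟩))
  have hkill : ∀ i : Fin l.length, ∃ s ∉ q, ∀ (m : ℕ) (b : B),
      g₀ ^ m * (l[(i : ℕ)] * b) ∈ Ideal.ofList (l.take i.1) →
        ∃ k : ℕ, g₀ ^ k * (s * b) ∈ Ideal.ofList (l.take i.1) := by
    intro i
    let I := Ideal.ofList (l.take i.1)
    let IL : Ideal L₀ := I.map (algebraMap B L₀)
    let x : L₀ := algebraMap B L₀ l[(i : ℕ)]
    let μ : (L₀ ⧸ IL) →ₗ[L₀] (L₀ ⧸ IL) := LinearMap.lsmul L₀ _ x
    have hIL : IL = Ideal.ofList ((l.take i.1).map (algebraMap B L₀)) := Ideal.map_ofList _ _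
    have hILx : IL ⊔ Ideal.span {x} = Ideal.ofList ((l.take (i.1 + 1)).map (algebraMap B L₀)) := by
      rw [List.take_succ_eq_append_getElem i.2, List.map_append, Ideal.ofList_append, hIL,
        List.map_singleton, Ideal.ofList_singleton]
    haveI : Module.FinitePresentation L₀ (L₀ ⧸ IL) :=
      Module.finitePresentation_of_surjective (Submodule.mkQ IL) (Submodule.mkQ_surjective _) (by
        rw [Submodule.ker_mkQ, hIL]; exact Submodule.fg_span (List.finite_toSet _))
    haveI : Module.Flat A ((L₀ ⧸ IL) ⧸ LinearMap.range μ) := by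
      haveI := hflat₀ (i.1 + 1) i.2
      have hrange : LinearMap.range μ = Submodule.map (Submodule.mkQ IL) (IL ⊔ Ideal.span {x}) := by
        rw [Submodule.map_sup, show Submodule.map (Submodule.mkQ IL) IL = ⊥ from
          LinearMap.le_ker_iff_map.1 (Submodule.ker_mkQ IL).ge, bot_sup_eq]
        refine le_antisymm ?_ ?_
        · rintro _ ⟨y, rfl⟩
          obtain ⟨y, rfl⟩ := Submodule.mkQ_surjective _ y
          exact ⟨x * y, Ideal.mul_mem_right _ _ (Ideal.mem_span_singleton_self x), rfl⟩
        · rintro _ ⟨y, hy, rfl⟩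
          obtain ⟨c, rfl⟩ := Ideal.mem_span_singleton'.1 hy
          exact ⟨Submodule.mkQ IL c, by simp [μ, mul_comm c x]; rfl⟩
      exact Module.Flat.of_linearEquiv ((Submodule.quotEquivOfEq _ _ hrange ≪≫ₗ
        Submodule.quotientQuotientEquivQuotient IL _ le_sup_left ≪≫ₗ
        Submodule.quotEquivOfEq _ _ hILx).restrictScalars A)
    haveI := Groth.L02.InjFlat.finite_ker_of_flat_coker (A := A) μ
    let K : Submodule L₀ L₀ := Submodule.comap (Submodule.mkQ IL) (LinearMap.ker μ)
    have hK : K.FG := by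
      refine Submodule.fg_of_fg_map_of_fg_inf_ker (Submodule.mkQ IL) ?_ ?_
      · rw [Submodule.map_comap_eq_of_surjective (Submodule.mkQ_surjective _)]
        exact Module.Finite.iff_fg.1 inferInstance
      · rw [Submodule.ker_mkQ, inf_eq_right.2]
        · rw [hIL]; exact Submodule.fg_span (List.finite_toSet _)
        · intro y hy
          show μ (Submodule.mkQ IL y) = 0
          rw [Submodule.mkQ_apply, (Submodule.Quotient.mk_eq_zero _).2 hy, map_zero]
    have hmemK : ∀ y, y ∈ K ↔ x * y ∈ IL := fun y => by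
      show μ (Submodule.mkQ IL y) = 0 ↔ _
      rw [← Submodule.Quotient.mk_eq_zero IL]
      rfl
    obtain ⟨G, hG⟩ := hK
    have hloc : ∀ (m : ℕ) (b : B), g₀ ^ m * (l[(i : ℕ)] * b) ∈ I → ∃ s ∉ q, s * b ∈ I := by
      intro m b hb
      have hw' := (isWeaklyRegular_iff_elem _).1
        ((isWeaklyRegular_map_algebraMap_iff (Localization.AtPrime q) (Localization.AtPrime q) l).2
          (((IsLocalizedModule.iso q.primeCompl
            (Algebra.linearMap B (Localization.AtPrime q))).isWeaklyRegular_congr l).1 hw))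
      have hu : IsUnit (algebraMap B (Localization.AtPrime q) (g₀ ^ m)) :=
        IsLocalization.map_units _ (⟨g₀ ^ m, fun h => hg₀ ((inferInstance : q.IsPrime).mem_of_pow_mem _ h)⟩ : q.primeCompl)
      have h := hw' i.1 (by simp) (algebraMap B _ b) (by
        rw [List.getElem_map, ← List.map_take, ← Ideal.map_ofList, ← map_mul,
          ← Ideal.unit_mul_mem_iff_mem _ hu, ← map_mul]
        exact Ideal.mem_map_of_mem _ hb)
      rw [← List.map_take, ← Ideal.map_ofList,
        IsLocalization.algebraMap_mem_map_algebraMap_iff q.primeCompl] at h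
      exact h
    have hgens : ∀ y : L₀, ∃ s ∉ q, y ∈ K → algebraMap B L₀ s * y ∈ IL := by
      intro y
      by_cases hy : y ∈ K
      swap
      · exact ⟨1, fun h => (inferInstance : q.IsPrime).ne_top ((Ideal.eq_top_iff_one _).2 h),
          fun h => absurd h hy⟩
      obtain ⟨b, ⟨_, n, rfl⟩, rfl⟩ := IsLocalization.exists_mk'_eq (Submonoid.powers g₀) y
      rw [hmemK, IsLocalization.mul_mk'_eq_mk'_of_mul, IsLocalization.mk'_mem_iff,
        IsLocalization.algebraMap_mem_map_algebraMap_iff (Submonoid.powers g₀)] at hy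
      obtain ⟨_, ⟨m, rfl⟩, hm⟩ := hy
      obtain ⟨s, hs, hsb⟩ := hloc m b hm
      refine ⟨s, hs, fun _ => ?_⟩
      rw [IsLocalization.mul_mk'_eq_mk'_of_mul, IsLocalization.mk'_mem_iff]
      exact Ideal.mem_map_of_mem _ hsb
    choose s hs hsy using hgens
    refine ⟨∏ y ∈ G, s y, fun h => ?_, fun m b hb => ?_⟩
    · obtain ⟨y, -, hy⟩ := Ideal.IsPrime.prod_mem_iff.1 h
      exact hs y hy
    have hbK : algebraMap B L₀ b ∈ K := by
      rw [hmemK, ← Ideal.unit_mul_mem_iff_mem _ ((IsLocalization.Away.algebraMap_isUnit g₀).pow m),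
        ← map_pow, ← map_mul, ← map_mul]
      exact Ideal.mem_map_of_mem _ hb
    have hle : K ≤ Submodule.comap (LinearMap.mulLeft L₀ (algebraMap B L₀ (∏ y ∈ G, s y))) IL := by
      rw [← hG, Submodule.span_le]
      intro y hy
      show algebraMap B L₀ (∏ y ∈ G, s y) * y ∈ IL
      obtain ⟨c, hc⟩ := Finset.dvd_prod_of_mem s hy
      rw [hc, map_mul, mul_right_comm]
      exact Ideal.mul_mem_right _ _ (hsy y (hG ▸ Submodule.subset_span hy))
    have h := hle hbK
    rw [Submodule.mem_comap, LinearMap.mulLeft_apply, ← map_mul,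
      IsLocalization.algebraMap_mem_map_algebraMap_iff (Submonoid.powers g₀)] at h
    obtain ⟨_, ⟨k, rfl⟩, hk⟩ := h
    exact ⟨k, hk⟩
  choose s hs hsk using hkill
  refine ⟨g₀ * ∏ i, s i, fun h => ?_, fun L _ _ _ _ g' _ hdvd => ⟨?_, fun j hj => ?_⟩⟩
  · rcases (inferInstance : q.IsPrime).mem_or_mem h with h | h
    · exact hg₀ h
    · obtain ⟨i, -, hi⟩ := Ideal.IsPrime.prod_mem_iff.1 h
      exact hs i hi
  · rw [isWeaklyRegular_iff_elem]
    intro i hi Y hY
    rw [List.length_map] at hi
    rw [← List.map_take, ← Ideal.map_ofList] at hY ⊢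
    obtain ⟨b, ⟨_, n, rfl⟩, rfl⟩ := IsLocalization.exists_mk'_eq (Submonoid.powers g') Y
    rw [List.getElem_map, IsLocalization.mul_mk'_eq_mk'_of_mul, IsLocalization.mk'_mem_iff,
      IsLocalization.algebraMap_mem_map_algebraMap_iff (Submonoid.powers g')] at hY
    rw [IsLocalization.mk'_mem_iff,
      IsLocalization.algebraMap_mem_map_algebraMap_iff (Submonoid.powers g')]
    obtain ⟨_, ⟨m, rfl⟩, hm⟩ := hY
    obtain ⟨k, hk⟩ := hsk ⟨i, hi⟩ 0 (g' ^ m * b) (by
      rw [pow_zero, one_mul, mul_left_comm]; exact hm)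
    obtain ⟨c, hc⟩ := hdvd
    obtain ⟨d, hd⟩ := Finset.dvd_prod_of_mem s (Finset.mem_univ (⟨i, hi⟩ : Fin l.length))
    have hd1 : g₀ ∣ g' := ⟨(∏ i, s i) * c, by rw [hc]; ring⟩
    have hd2 : s ⟨i, hi⟩ ∣ g' := ⟨g₀ * d * c, by rw [hc, hd]; ring⟩
    obtain ⟨e₁, he₁⟩ := pow_dvd_pow_of_dvd hd1 k
    obtain ⟨e₂, he₂⟩ := hd2
    refine ⟨g' ^ (k + 1 + m), ⟨_, rfl⟩, ?_⟩
    rw [show g' ^ (k + 1 + m) * b = g' ^ k * g' * (g' ^ m * b) by ring, he₁]
    nth_rewrite 1 [he₂]
    rw [show g₀ ^ k * e₁ * (s ⟨i, hi⟩ * e₂) * (g' ^ m * b) =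
      (e₁ * e₂) * (g₀ ^ k * (s ⟨i, hi⟩ * (g' ^ m * b))) by ring]
    exact Ideal.mul_mem_left _ _ hk
  · rw [List.length_map] at hj
    rw [← List.map_take]
    refine flat_away_quot (g := g') L (l.take j) (flat_powers_of_dvd ?_ (hgflat ⟨j, Nat.lt_succ_of_le hj⟩))
    exact (Finset.dvd_prod_of_mem g (Finset.mem_univ (⟨j, Nat.lt_succ_of_le hj⟩ : Fin _))).trans
      ((Dvd.intro _ rfl).trans hdvd)

/-- Transversally regular sequences are stable under every base change. -/
theorem transReg_baseChange {l : List B} (h : RegImm.IsTransRegularSeq A B l) (A' : Type u)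
    [CommRing A'] [Algebra A A'] :
    RegImm.IsTransRegularSeq A' (A' ⊗[A] B)
      (l.map (Algebra.TensorProduct.includeRight (R := A) (A := A') (B := B))) := by
  let ι : B →ₐ[A] A' ⊗[A] B := Algebra.TensorProduct.includeRight
  have key : ∀ l' : List B,
      Ideal.ofList (l'.map (Algebra.TensorProduct.includeRight (R := A) (A := A') (B := B))) =
        (Ideal.ofList l').map ι := fun l' => (Ideal.map_ofList ι.toRingHom l').symm
  refine ⟨?_, fun j hj => ?_⟩
  · rw [isWeaklyRegular_iff_elem]
    intro i hi y hy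
    rw [List.length_map] at hi
    rw [← List.map_take, key] at hy ⊢
    haveI := h.2 (i + 1) hi
    have hle : Ideal.ofList (l.take i) ≤ Ideal.ofList (l.take (i + 1)) := by
      rw [List.take_succ_eq_append_getElem hi, Ideal.ofList_append]
      exact le_sup_left
    let N := B ⧸ Ideal.ofList (l.take i)
    let μ : N →ₗ[A] N := (LinearMap.lsmul B N l[i]).restrictScalars A
    let π : N →ₗ[A] B ⧸ Ideal.ofList (l.take (i + 1)) := (Submodule.factor hle).restrictScalars A
    have hμ : Function.Injective μ := by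
      intro a b hab
      obtain ⟨a, rfl⟩ := Submodule.mkQ_surjective _ a
      obtain ⟨b, rfl⟩ := Submodule.mkQ_surjective _ b
      have h' := (isWeaklyRegular_iff_elem l).1 h.1 i hi (a - b) (by
        rw [mul_sub]
        exact (Submodule.Quotient.eq _).1 hab)
      exact (Submodule.Quotient.eq _).2 h'
    have hex : Function.Exact μ π := by
      intro x
      obtain ⟨c, rfl⟩ := Submodule.mkQ_surjective _ x
      show Submodule.Quotient.mk c = (0 : B ⧸ Ideal.ofList (l.take (i + 1))) ↔ _
      rw [Submodule.Quotient.mk_eq_zero, List.take_succ_eq_append_getElem hi, Ideal.ofList_append,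
        Ideal.ofList_singleton, Submodule.mem_sup]
      constructor
      · rintro ⟨u, hu, v, hv, rfl⟩
        obtain ⟨w, rfl⟩ := Ideal.mem_span_singleton'.mp hv
        refine ⟨Submodule.Quotient.mk w, ?_⟩
        show l[i] • (Submodule.Quotient.mk w : N) = Submodule.Quotient.mk _
        rw [← Submodule.Quotient.mk_smul, Submodule.Quotient.eq, smul_eq_mul]
        have h3 := (Ideal.ofList (l.take i)).neg_mem hu
        convert h3 using 1
        ring
      · rintro ⟨w', hw⟩
        obtain ⟨w, rfl⟩ := Submodule.mkQ_surjective _ w'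
        change l[i] • (Submodule.Quotient.mk w : N) = Submodule.Quotient.mk c at hw
        rw [← Submodule.Quotient.mk_smul, Submodule.Quotient.eq, smul_eq_mul] at hw
        exact ⟨c - w * l[i], by rw [← neg_sub, mul_comm]; exact neg_mem hw, w * l[i],
          Ideal.mem_span_singleton'.mpr ⟨w, rfl⟩, by ring⟩
    have hinj := LinearMap.lTensor_injective_of_exact_of_flat (P := B ⧸ Ideal.ofList (l.take (i + 1)))
      π (Submodule.factor_surjective hle) μ hμ hex A'
    let e := Algebra.TensorProduct.tensorQuotientEquiv (R := A) A' B A' (Ideal.ofList (l.take i))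
    have hcomp : ∀ z : A' ⊗[A] N, e (μ.lTensor A' z) =
        Ideal.Quotient.mk ((Ideal.ofList (l.take i)).map ι) (ι l[i]) * e z := by
      intro z
      induction z using TensorProduct.induction_on with
      | zero => simp
      | tmul a b =>
        obtain ⟨b, rfl⟩ := Ideal.Quotient.mk_surjective b
        rw [LinearMap.lTensor_tmul]
        show e (a ⊗ₜ[A] Ideal.Quotient.mk _ (l[i] * b)) = _
        have key2 : ∀ c : B, e (a ⊗ₜ[A] Ideal.Quotient.mk (Ideal.ofList (l.take i)) c) =
            Ideal.Quotient.mk _ (a ⊗ₜ[A] c) := fun c => rfl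
        rw [key2, key2, ← map_mul]
        congr 1
        simp [ι, Algebra.TensorProduct.tmul_mul_tmul]
      | add a b ha hb => simp only [map_add, ha, hb, mul_add]
    obtain ⟨z, hz⟩ := e.surjective (Ideal.Quotient.mk _ y)
    have hz0 : μ.lTensor A' z = 0 := e.injective (by
      rw [hcomp, hz, map_zero, ← map_mul, Ideal.Quotient.eq_zero_iff_mem]
      simpa [ι, List.getElem_map] using hy)
    rw [← Ideal.Quotient.eq_zero_iff_mem, ← hz, hinj (hz0.trans (map_zero _).symm), map_zero]
  · rw [List.length_map] at hj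
    rw [← List.map_take, key]
    haveI := h.2 j hj
    haveI : Module.Flat A' (A' ⊗[A] (B ⧸ Ideal.ofList (l.take j))) := inferInstance
    exact Module.Flat.of_linearEquiv
      (Algebra.TensorProduct.tensorQuotientEquiv (R := A) A' B A' (Ideal.ofList (l.take j))).toLinearEquiv.symm

end Groth.L07.TransSeq
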