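import Groth.Agent.L07.QuasiRegularFlat
import Groth.Agent.L07.TransSeq
import Groth.Agent.L07.RegularQuotient
import Groth.Agent.L07.RationalSmooth
import Groth.Agent.L20.FlatLocusOpen
import Mathlib.RingTheory.Smooth.Fiber

/-!
An algebra with a retraction cut out by a quasi-regular sequence is smooth along the retraction:
the Noetherian case.
-/

set_option autoImplicit false
set_option linter.style.haveILetI false
set_option maxSynthPendingDepth 3
universe u

open TensorProduct RingTheory.Sequence

namespace Groth.L07.QuasiSmooth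

/-- The quotients by powers of a quasi-regular ideal are flat as soon as the first one is. -/
theorem flat_quot_pow {A B : Type u} [CommRing A] [CommRing B] [Algebra A B] {c : ℕ} (f : Fin c → B)
    (hf : CAlgX.IsQuasiRegular f) (hflat : Module.Flat A (B ⧸ Ideal.span (Set.range f))) (n : ℕ) :
    Module.Flat A (B ⧸ Ideal.span (Set.range f) ^ n) := by
  set J := Ideal.span (Set.range f)
  haveI := Groth.L07.QuasiRegular.flat_pow_quot (A := A) f hf hflat 0 n (Nat.zero_le n)
  have h0 : J ^ 0 = (⊤ : Ideal B) := by rw [pow_zero, Ideal.one_eq_top]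
  let p : ↥(J ^ 0) →ₗ[B] B ⧸ J ^ n := (Submodule.mkQ (J ^ n)) ∘ₗ (J ^ 0).subtype
  have hp : Function.Surjective p := fun q => by
    obtain ⟨b, rfl⟩ := Submodule.mkQ_surjective _ q
    exact ⟨⟨b, h0 ▸ Submodule.mem_top⟩, rfl⟩
  have hk : LinearMap.ker p = Submodule.comap (J ^ 0).subtype (J ^ n) := by
    rw [LinearMap.ker_comp, Submodule.ker_mkQ]
  exact Module.Flat.of_linearEquiv
    ((Submodule.quotEquivOfEq _ _ hk.symm ≪≫ₗ p.quotKerEquivOfSurjective hp).restrictScalars A).symm

/-- The kernel of `A ⊗ K → A` is killed by an element congruent to one. -/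
theorem exists_kill {R A : Type u} [CommRing R] [CommRing A] [Algebra R A] [IsNoetherianRing A]
    (J : Ideal A) (h : ∀ n : ℕ, Module.Flat R (A ⧸ J ^ n)) (K : Type u) [AddCommGroup K] [Module R K]
    [Module.Finite R K] (j : K →ₗ[R] R) (hj : Function.Injective j) (w : A ⊗[R] K)
    (hw : LinearMap.lTensor A j w = 0) : ∃ r ∈ J, (1 - r) • w = 0 := by
  have hmem : w ∈ (⨅ n : ℕ, J ^ n • ⊤ : Submodule A (A ⊗[R] K)) := by
    rw [Submodule.mem_iInf]
    intro n
    let g : A →ₗ[R] A ⧸ J ^ n := (Ideal.Quotient.mkₐ R (J ^ n)).toLinearMap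
    let i : ↥(J ^ n) →ₗ[R] A := (J ^ n).subtype.restrictScalars R
    have hex : Function.Exact i g := fun a => by
      show Ideal.Quotient.mk (J ^ n) a = 0 ↔ _
      rw [Ideal.Quotient.eq_zero_iff_mem]
      exact ⟨fun ha => ⟨⟨a, ha⟩, rfl⟩, fun ⟨b, hb⟩ => hb ▸ b.2⟩
    haveI := h n
    have h2 : g.rTensor K w = 0 := by
      refine Module.Flat.lTensor_preserves_injective_linearMap (M := A ⧸ J ^ n) j hj ?_
      rw [map_zero, ← LinearMap.comp_apply, LinearMap.lTensor_comp_rTensor, ← LinearMap.rTensor_comp_lTensor,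
        LinearMap.comp_apply, hw, map_zero]
    obtain ⟨y, rfl⟩ := (rTensor_exact K hex Ideal.Quotient.mk_surjective w).mp h2
    clear h2 hw
    induction y using TensorProduct.induction_on with
    | zero => simp
    | tmul a k =>
      show ((a : A) ⊗ₜ[R] k) ∈ _
      rw [show ((a : A) ⊗ₜ[R] k) = (a : A) • ((1 : A) ⊗ₜ[R] k) by rw [TensorProduct.smul_tmul', smul_eq_mul, mul_one]]
      exact Submodule.smul_mem_smul a.2 Submodule.mem_top
    | add y z hy hz => rw [map_add]; exact add_mem hy hz
  obtain ⟨⟨r, hr⟩, hrw⟩ := (J.mem_iInf_smul_pow_eq_bot_iff w).mp hmem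
  exact ⟨r, hr, by rw [sub_smul, one_smul, hrw, sub_self]⟩

/-- Flatness at a prime containing an ideal with flat powers' quotients. -/
theorem flat_atPrime_of_flat_quot_pow {R A : Type u} [CommRing R] [CommRing A] [Algebra R A] [IsNoetherianRing R]
    [IsNoetherianRing A] (J : Ideal A) (h : ∀ n : ℕ, Module.Flat R (A ⧸ J ^ n)) (q : Ideal A) [q.IsPrime]
    (hJq : J ≤ q) : Module.Flat R (Localization.AtPrime q) := by
  let L := Localization.AtPrime q
  rw [Module.Flat.iff_lTensor_injective']
  intro K
  let ι : A →ₗ[R] L := (IsScalarTower.toAlgHom R A L).toLinearMap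
  let θ : A ⊗[R] K →ₗ[A] A ⊗[R] R := AlgebraTensorModule.lTensor A A K.subtype
  have hι : ∀ (a : A) (w : A ⊗[R] K), ι.rTensor K (a • w) = algebraMap A L a • ι.rTensor K w := fun a w => by
    induction w using TensorProduct.induction_on with
    | zero => simp
    | tmul b k =>
      rw [TensorProduct.smul_tmul', LinearMap.rTensor_tmul, LinearMap.rTensor_tmul, TensorProduct.smul_tmul',
        smul_eq_mul, smul_eq_mul]
      show algebraMap A L (a * b) ⊗ₜ[R] k = _
      rw [map_mul]
      rfl
    | add v w hv hw => simp only [smul_add, map_add, hv, hw]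
  haveI : Module.Finite R K := Module.Finite.iff_fg.mpr (IsNoetherian.noetherian K)
  have hker : ∀ w : A ⊗[R] K, θ w = 0 → ∃ r ∈ J, (1 - r) • w = 0 := fun w hw =>
    exists_kill J h K K.subtype Subtype.val_injective w hw
  have hunit : ∀ a : A, a ∉ q → IsUnit (algebraMap A L a) := fun a ha =>
    IsLocalization.map_units L (⟨a, ha⟩ : q.primeCompl)
  have hfrac : ∀ y : L ⊗[R] K, ∃ t ∉ q, ∃ w : A ⊗[R] K, algebraMap A L t • y = ι.rTensor K w := fun y => by
    induction y using TensorProduct.induction_on with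
    | zero => exact ⟨1, fun h1 => (inferInstance : q.IsPrime).ne_top ((Ideal.eq_top_iff_one q).mpr h1), 0, by simp⟩
    | tmul l k =>
      obtain ⟨⟨a, t, ht⟩, hat⟩ := IsLocalization.surj q.primeCompl l
      refine ⟨t, ht, a ⊗ₜ k, ?_⟩
      rw [TensorProduct.smul_tmul', smul_eq_mul, mul_comm]
      exact congrArg (· ⊗ₜ[R] k) hat
    | add y z hy hz =>
      obtain ⟨t, ht, w, hw⟩ := hy
      obtain ⟨t', ht', w', hw'⟩ := hz
      refine ⟨t * t', fun h1 => ((inferInstance : q.IsPrime).mem_or_mem h1).elim ht ht', t' • w + t • w', ?_⟩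
      rw [smul_add, map_add, hι, hι, ← hw, ← hw', smul_smul, smul_smul, map_mul,
        mul_comm (algebraMap A L t') (algebraMap A L t)]
  rw [injective_iff_map_eq_zero]
  intro y hy
  obtain ⟨t, ht, w, hw⟩ := hfrac y
  have h1 : ι.rTensor R (θ w) = 0 := by
    have h2 : LinearMap.lTensor L K.subtype (algebraMap A L t • y) = 0 := by
      show AlgebraTensorModule.lTensor L L K.subtype (algebraMap A L t • y) = 0
      rw [map_smul]
      show _ • LinearMap.lTensor L K.subtype y = 0
      rw [hy, smul_zero]
    rw [hw, ← LinearMap.comp_apply, LinearMap.lTensor_comp_rTensor, ← LinearMap.rTensor_comp_lTensor] at h2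
    exact h2
  obtain ⟨t', ht', ht'w⟩ : ∃ t' ∉ q, t' • θ w = 0 := by
    have h2 : algebraMap A L (TensorProduct.rid R A (θ w)) = 0 := by
      have h3 : ∀ v : A ⊗[R] R, algebraMap A L (TensorProduct.rid R A v) = TensorProduct.rid R L (ι.rTensor R v) := by
        intro v
        induction v using TensorProduct.induction_on with
        | zero => simp
        | tmul a r => simp [ι, Algebra.smul_def, ← IsScalarTower.algebraMap_apply]
        | add v v' hv hv' => simp only [map_add, hv, hv']
      rw [h3, h1, map_zero]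
    obtain ⟨⟨t', ht'⟩, h3⟩ := (IsLocalization.map_eq_zero_iff q.primeCompl L _).mp h2
    refine ⟨t', ht', (TensorProduct.AlgebraTensorModule.rid R A A).injective ?_⟩
    rw [map_smul, map_zero]
    exact h3
  obtain ⟨r, hr, hrw⟩ := hker (t' • w) (by rw [map_smul, ht'w])
  have hu : IsUnit (algebraMap A L ((1 - r) * t')) := hunit _ fun h2 =>
    ((inferInstance : q.IsPrime).mem_or_mem h2).elim (fun h3 => (inferInstance : q.IsPrime).ne_top
      ((Ideal.eq_top_iff_one q).mpr (by simpa using add_mem h3 (hJq hr)))) ht'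
  have h4 : algebraMap A L ((1 - r) * t') • ι.rTensor K w = 0 := by
    rw [← hι, mul_smul, hrw, map_zero]
  rw [← hw] at h4
  exact (hunit t ht).smul_eq_zero.mp (hu.smul_eq_zero.mp h4)

/-- Smoothness from flatness and smoothness of the fibre at a point. -/
theorem isSmoothAt_of_flat_of_fibre {R S : Type u} [CommRing R] [CommRing S] [Algebra R S]
    [Algebra.FinitePresentation R S] (p : Ideal R) [p.IsPrime] (q : Ideal S) [q.IsPrime] [q.LiesOver p]
    [Module.Flat R (Localization.AtPrime q)] (q' : Ideal (p.Fiber S)) [q'.IsPrime]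
    (hq' : q'.comap (Algebra.TensorProduct.includeRight : S →ₐ[R] p.Fiber S).toRingHom = q)
    (h : Algebra.IsSmoothAt p.ResidueField q') : Algebra.IsSmoothAt R q := by
  haveI : Module.Flat R (LocalizedModule q.primeCompl S) :=
    inferInstanceAs (Module.Flat R (Localization.AtPrime q))
  obtain ⟨g, hg, hflat⟩ := Groth.L20.exists_flat_away (R := R) (M := S) q.primeCompl
  obtain ⟨g', hg', hsm⟩ := Algebra.IsSmoothAt.exists_notMem_smooth p.ResidueField q'
  obtain ⟨c, hc, s, hs⟩ := Ideal.Fiber.exists_smul_eq_one_tmul _ g'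
  have hcu : IsUnit (algebraMap R (p.Fiber S) c) := by
    rw [IsScalarTower.algebraMap_apply R p.ResidueField (p.Fiber S)]
    exact (Ne.isUnit fun h0 => hc (Ideal.algebraMap_residueField_eq_zero.mp h0)).map _
  have hdiv : g' ∣ ((1 : p.ResidueField) ⊗ₜ[R] (g * s) : p.Fiber S) := by
    refine ⟨(1 ⊗ₜ g) * algebraMap R (p.Fiber S) c, ?_⟩
    rw [mul_left_comm, ← mul_comm (algebraMap R (p.Fiber S) c), ← Algebra.smul_def, hs,
      Algebra.TensorProduct.tmul_mul_tmul, one_mul]
  have hsq : g * s ∉ q := fun hm => ((inferInstance : q.IsPrime).mem_or_mem hm).elim hg fun hsm' => hg' (by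
    rw [← hq'] at hsm'
    have h1 : ((1 : p.ResidueField) ⊗ₜ[R] s : p.Fiber S) ∈ q' := hsm'
    rw [← hs, Algebra.smul_def] at h1
    exact (q'.unit_mul_mem_iff_mem hcu).mp h1)
  let T := Localization.Away (g * s)
  haveI : Algebra.FinitePresentation R T :=
    Algebra.FinitePresentation.trans R S T
  haveI : Module.Flat R T :=
    Groth.L07.TransSeq.flat_powers_of_dvd (A := R) (M := S) (dvd_mul_right g s) hflat
  haveI : q.LiesOver p := inferInstance
  have hdisj : Disjoint (Submonoid.powers (g * s) : Set S) (q : Set S) := by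
    rw [Set.disjoint_left]
    rintro _ ⟨n, rfl⟩ hn
    exact hsq ((inferInstance : q.IsPrime).mem_of_pow_mem n hn)
  let qT : Ideal T := q.map (algebraMap S T)
  haveI : qT.IsPrime := IsLocalization.isPrime_of_isPrime_disjoint (Submonoid.powers (g * s)) T q inferInstance hdisj
  have hqT : qT.comap (algebraMap S T) = q :=
    IsLocalization.comap_map_of_isPrime_disjoint (Submonoid.powers (g * s)) T inferInstance hdisj
  haveI : qT.LiesOver p := ⟨by
    rw [Ideal.under_def, IsScalarTower.algebraMap_eq R S T, ← Ideal.comap_comap, hqT]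
    exact q.over_def p⟩
  haveI : Algebra.FormallySmooth p.ResidueField (p.Fiber T) := by
    have hsub : (PrimeSpectrum.basicOpen ((1 : p.ResidueField) ⊗ₜ[R] (g * s) : p.Fiber S) : Set (PrimeSpectrum (p.Fiber S))) ⊆
        Algebra.smoothLocus p.ResidueField (p.Fiber S) := by
      refine subset_trans ?_ (Algebra.basicOpen_subset_smoothLocus_iff_smooth.mpr hsm)
      obtain ⟨d, hd⟩ := hdiv
      rw [hd]
      exact PrimeSpectrum.basicOpen_mul_le_left g' d
    haveI := Algebra.basicOpen_subset_smoothLocus_iff.mp hsub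
    exact Algebra.FormallySmooth.of_equiv
      (IsLocalization.Away.tensorProductEquivTMulRight R p.ResidueField (g * s) T).symm
  have hT : Algebra.IsSmoothAt R qT := Algebra.IsSmoothAt.of_formallySmooth_fiber p qT
  have h2 : (⟨qT, inferInstance⟩ : PrimeSpectrum T) ∈ Algebra.smoothLocus R T := hT
  rw [← Algebra.smoothLocus_comap_of_isLocalization (R := R) (A := S) (g * s)] at h2
  have h3 : PrimeSpectrum.comap (algebraMap S T) ⟨qT, inferInstance⟩ = ⟨q, inferInstance⟩ := PrimeSpectrum.ext hqT
  rw [Set.mem_preimage, h3] at h2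
  exact h2

/-- A rational point cut out by a quasi-regular sequence is smooth. -/
theorem isSmoothAt_rational {k T : Type u} [Field k] [CommRing T] [Algebra k T] [Algebra.FiniteType k T]
    (χ : T →ₐ[k] k) {c : ℕ} (g : Fin c → T) (hg : CAlgX.IsQuasiRegular g)
    (hker : RingHom.ker χ = Ideal.span (Set.range g)) (m : Ideal T) [m.IsPrime] (hm : m = RingHom.ker χ) :
    Algebra.IsSmoothAt k m := by
  haveI : IsNoetherianRing T := Algebra.FiniteType.isNoetherianRing k T
  let L := Localization.AtPrime m
  have hmax : Ideal.span (Set.range fun i => algebraMap T L (g i)) = IsLocalRing.maximalIdeal L := by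
    rw [← Localization.AtPrime.map_eq_maximalIdeal]
    refine ((congrArg (Ideal.map (algebraMap T L)) (hm.trans hker)).trans ?_).symm
    rw [Ideal.map_span, ← Set.range_comp]
    rfl
  have h1 : CAlgX.IsQuasiRegular fun i => algebraMap T L (g i) :=
    Groth.L03.RegImmFlat.isQuasiRegular_map (algebraMap T L)
      (RingHom.flat_algebraMap_iff.mpr (IsLocalization.flat L m.primeCompl)) hg
  have hmem : ∀ i, algebraMap T L (g i) ∈ IsLocalRing.maximalIdeal L := fun i =>
    hmax.le (Ideal.subset_span ⟨i, rfl⟩)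
  have h2 : IsWeaklyRegular L (List.ofFn fun i => algebraMap T L (g i)) :=
    Groth.Agent.S5803.result L _ _ (fun i => by
      rw [IsLocalRing.ringJacobson_eq_maximalIdeal]; exact hmem i) h1
  have hJ : Ideal.ofList (List.ofFn fun i => algebraMap T L (g i)) = IsLocalRing.maximalIdeal L := by
    rw [Groth.L07.QReg.ofList_ofFn]; exact hmax
  have hreg : CInt.IsRegularIdeal (IsLocalRing.maximalIdeal L) := by
    refine ⟨_, ⟨h2, ?_⟩, hJ⟩
    rw [smul_eq_mul, Ideal.mul_top, hJ]
    exact (IsLocalRing.maximalIdeal.isMaximal L).ne_top.symm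
  haveI : IsRegularLocalRing (L ⧸ IsLocalRing.maximalIdeal L) :=
    inferInstanceAs (IsRegularLocalRing (IsLocalRing.ResidueField L))
  haveI : IsRegularLocalRing L := Groth.L07.RegQuot.isRegularLocalRing_of_quotient hreg
  exact Groth.L07.RationalSmooth.isSmoothAt_of_regular m χ hm

/-- Over a Noetherian ring: a retraction cut out by a quasi-regular sequence lies in the smooth locus. -/
theorem isSmoothAt_noetherian {R A : Type u} [CommRing R] [CommRing A] [Algebra R A] [IsNoetherianRing R]
    [Algebra.FiniteType R A] (ε : A →ₐ[R] R) {c : ℕ} (g : Fin c → A) (hg : CAlgX.IsQuasiRegular g)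
    (hker : RingHom.ker ε = Ideal.span (Set.range g)) (q : Ideal A) [q.IsPrime] (hq : RingHom.ker ε ≤ q) :
    Algebra.IsSmoothAt R q := by
  haveI : IsNoetherianRing A := Algebra.FiniteType.isNoetherianRing R A
  haveI : Algebra.FinitePresentation R A := Algebra.FinitePresentation.of_finiteType.mp inferInstance
  have hflat0 : Module.Flat R (A ⧸ Ideal.span (Set.range g)) := by
    have hs : Function.Surjective ε := fun r => ⟨algebraMap R A r, ε.commutes r⟩
    exact Module.Flat.of_linearEquiv
      ((Ideal.quotientEquivAlgOfEq R hker.symm).trans (Ideal.quotientKerAlgEquivOfSurjective hs)).toLinearEquiv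
  haveI := flat_atPrime_of_flat_quot_pow (Ideal.span (Set.range g))
    (fun n => flat_quot_pow g hg hflat0 n) q (hker ▸ hq)
  let p := q.under R
  haveI : q.LiesOver p := ⟨rfl⟩
  have hmem : ∀ a : A, a - algebraMap R A (ε a) ∈ RingHom.ker ε := fun a => by
    rw [RingHom.mem_ker, map_sub, ε.commutes, Algebra.algebraMap_self_apply, sub_self]
  let χ : p.Fiber A →ₐ[p.ResidueField] p.ResidueField :=
    Algebra.TensorProduct.lift (Algebra.ofId p.ResidueField p.ResidueField)
      ((Algebra.ofId R p.ResidueField).comp ε) fun _ _ => Commute.all _ _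
  let g' : Fin c → p.Fiber A := fun i => (1 : p.ResidueField) ⊗ₜ[R] g i
  have hχ : ∀ (k : p.ResidueField) (a : A), χ (k ⊗ₜ[R] a) = k * algebraMap R p.ResidueField (ε a) :=
    fun k a => Algebra.TensorProduct.lift_tmul _ _ _ k a
  have hkerχ : RingHom.ker χ = Ideal.span (Set.range g') := by
    refine le_antisymm (fun t ht => ?_) (Ideal.span_le.mpr ?_)
    · have key : ∀ t : p.Fiber A, t - algebraMap p.ResidueField (p.Fiber A) (χ t) ∈ Ideal.span (Set.range g') := by
        intro t
        induction t using TensorProduct.induction_on with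
        | zero => simp
        | tmul k a =>
          have e : k ⊗ₜ[R] a - algebraMap p.ResidueField (p.Fiber A) (χ (k ⊗ₜ[R] a)) =
              algebraMap p.ResidueField (p.Fiber A) k *
                (Algebra.TensorProduct.includeRight : A →ₐ[R] p.Fiber A) (a - algebraMap R A (ε a)) := by
            rw [hχ, map_mul, ← IsScalarTower.algebraMap_apply R p.ResidueField (p.Fiber A), map_sub, mul_sub,
              AlgHom.commutes]
            congr 1
            simp [Algebra.TensorProduct.algebraMap_apply]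
          rw [e]
          refine Ideal.mul_mem_left _ _ ?_
          have h1 := Ideal.mem_map_of_mem (Algebra.TensorProduct.includeRight : A →ₐ[R] p.Fiber A) (hker ▸ hmem a)
          rw [Ideal.map_span, ← Set.range_comp] at h1
          exact h1
        | add x y hx hy => rw [map_add, map_add, add_sub_add_comm]; exact add_mem hx hy
      have h2 := key t
      rw [RingHom.mem_ker] at ht
      rwa [ht, map_zero, sub_zero] at h2
    · rintro _ ⟨i, rfl⟩
      show χ (1 ⊗ₜ[R] g i) = 0
      rw [hχ, RingHom.mem_ker.mp (hker ▸ Ideal.subset_span ⟨i, rfl⟩ : g i ∈ RingHom.ker ε), map_zero, mul_zero]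
  let q' : Ideal (p.Fiber A) := RingHom.ker χ
  haveI : q'.IsPrime := RingHom.ker_isPrime _
  have hqq' : q'.comap (Algebra.TensorProduct.includeRight : A →ₐ[R] p.Fiber A).toRingHom = q := by
    ext a
    show χ (1 ⊗ₜ[R] a) = 0 ↔ a ∈ q
    rw [hχ, one_mul, Ideal.algebraMap_residueField_eq_zero]
    show algebraMap R A (ε a) ∈ q ↔ a ∈ q
    refine ⟨fun h => ?_, fun h => ?_⟩
    · simpa using add_mem (hq (hmem a)) h
    · simpa using sub_mem h (hq (hmem a))
  exact isSmoothAt_of_flat_of_fibre p q q' hqq'
    (isSmoothAt_rational χ g' (Groth.L03.QuasiRegularBC.baseChange p.ResidueField g hflat0 hg) hkerχ q' rfl)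

end Groth.L07.QuasiSmooth
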