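import Groth.Agent.L02.AssFlat
import Groth.Agent.L01.FibreEmb
import Mathlib.RingTheory.AlgebraicIndependent.TranscendenceBasis
import Mathlib.RingTheory.TensorProduct.MvPolynomial
import Mathlib.RingTheory.Flat.Localization
import Mathlib.RingTheory.Flat.Stability
import Mathlib.LinearAlgebra.TensorProduct.RightExactness

/-!
# Associated primes of tensor products of domains over a field
-/

set_option autoImplicit false
universe u

open TensorProduct

namespace Groth.L07.TensorDomAss

variable {k C A B : Type u} [Field k] [CommRing C] [Algebra k C] [CommRing A] [IsDomain A] [Algebra k A]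
  [CommRing B] [Algebra k B] [Algebra C A] [IsScalarTower k C A] [FaithfulSMul C A]

theorem eq_zero_of_map_mul_eq_zero [IsDomain C] [IsDomain (C ⊗[k] B)] {d : C ⊗[k] B} (hd : d ≠ 0)
    {z : A ⊗[k] B}
    (h : Algebra.TensorProduct.map (IsScalarTower.toAlgHom k C A) (AlgHom.id k B) d * z = 0) : z = 0 := by
  let L := FractionRing A
  haveI : FaithfulSMul C L := FaithfulSMul.trans C A L
  letI := FractionRing.liftAlgebra C L
  haveI : Module.Flat C (FractionRing C) := IsLocalization.flat _ (nonZeroDivisors C)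
  haveI : Module.Flat C L := Module.Flat.trans C (FractionRing C) L
  let ι : A ⊗[k] B →ₐ[k] L ⊗[k] B :=
    Algebra.TensorProduct.map (IsScalarTower.toAlgHom k A L) (AlgHom.id k B)
  have hι : Function.Injective ι :=
    Module.Flat.rTensor_preserves_injective_linearMap (M := B) (IsScalarTower.toAlgHom k A L).toLinearMap
      (IsFractionRing.injective A L)
  let e := AlgebraTensorModule.cancelBaseChange k C C L B
  have key : ∀ (w : L ⊗[C] (C ⊗[k] B)), e ((LinearMap.mulLeft C d).lTensor L w) =
      ι (Algebra.TensorProduct.map (IsScalarTower.toAlgHom k C A) (AlgHom.id k B) d) * e w := by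
    intro w
    induction w using TensorProduct.induction_on with
    | zero => simp
    | tmul l c =>
      clear h hd
      induction c using TensorProduct.induction_on with
      | zero => simp
      | tmul p b =>
        induction d using TensorProduct.induction_on with
        | zero => simp
        | tmul q b' =>
          simp only [e, ι, LinearMap.lTensor_tmul, LinearMap.mulLeft_apply, Algebra.TensorProduct.tmul_mul_tmul,
            AlgebraTensorModule.cancelBaseChange_tmul, Algebra.TensorProduct.map_tmul, AlgHom.id_apply,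
            IsScalarTower.coe_toAlgHom']
          rw [← IsScalarTower.algebraMap_apply, Algebra.smul_def, Algebra.smul_def, map_mul, mul_assoc]
        | add x y hx hy =>
          simp only [LinearMap.lTensor_tmul, LinearMap.mulLeft_apply, map_add, add_mul, tmul_add] at hx hy ⊢
          rw [hx, hy]
      | add x y hx hy => simp only [tmul_add, map_add, mul_add, hx, hy]
    | add x y hx hy => simp only [map_add, mul_add, hx, hy]
  have hinj : Function.Injective ((LinearMap.mulLeft C d).lTensor L) :=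
    Module.Flat.lTensor_preserves_injective_linearMap _ (mul_right_injective₀ hd)
  apply hι
  rw [map_zero, ← e.apply_symm_apply (ι z)]
  have h1 : (LinearMap.mulLeft C d).lTensor L (e.symm (ι z)) = 0 := by
    apply e.injective
    rw [key, e.apply_symm_apply, ← map_mul, h, map_zero, map_zero]
  rw [hinj (h1.trans (map_zero _).symm), map_zero]

variable (k) in
/-- In a tensor product of domains over a field a prime ideal made of zero divisors is minimal. -/
theorem eq_of_le_of_forall_zeroDivisor [IsDomain B] {P Q : Ideal (A ⊗[k] B)} [P.IsPrime] [Q.IsPrime]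
    (hPQ : P ≤ Q) (hQ : ∀ z ∈ Q, ∃ w ≠ 0, z * w = 0) : P = Q := by
  obtain ⟨s, hs⟩ := exists_isTranscendenceBasis k A
  let C' := Algebra.adjoin k (Set.range ((↑) : s → A))
  haveI halg : Algebra.IsAlgebraic C' A := hs.isAlgebraic
  haveI : IsDomain (C' ⊗[k] B) :=
    MulEquiv.isDomain (MvPolynomial s B) (((Algebra.TensorProduct.congr hs.1.aevalEquiv.symm AlgEquiv.refl).trans
      (Algebra.TensorProduct.comm k (MvPolynomial s k) B)).toRingEquiv.trans
        (MvPolynomial.algebraTensorAlgEquiv k B).toRingEquiv).toMulEquiv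
  let φ := Algebra.TensorProduct.map (IsScalarTower.toAlgHom k C' A) (AlgHom.id k B)
  have hQD : ∀ d : C' ⊗[k] B, φ d ∈ Q → d = 0 := fun d hd => by
    by_contra hne
    obtain ⟨w, hw, hdw⟩ := hQ _ hd
    exact hw (eq_zero_of_map_mul_eq_zero hne hdw)
  letI : Algebra (C' ⊗[k] B) (A ⊗[k] B ⧸ P) := ((Ideal.Quotient.mk P).comp φ.toRingHom).toAlgebra
  have hinj : Function.Injective (algebraMap (C' ⊗[k] B) (A ⊗[k] B ⧸ P)) := by
    rw [injective_iff_map_eq_zero]
    exact fun d hd => hQD d (hPQ (Ideal.Quotient.eq_zero_iff_mem.mp hd))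
  have hall : ∀ z : A ⊗[k] B ⧸ P, IsAlgebraic (C' ⊗[k] B) z := by
    intro z
    obtain ⟨z, rfl⟩ := Ideal.Quotient.mk_surjective z
    let S := Subalgebra.algebraicClosure (C' ⊗[k] B) (A ⊗[k] B ⧸ P)
    show Ideal.Quotient.mk P z ∈ S
    induction z using TensorProduct.induction_on with
    | zero => rw [map_zero]; exact zero_mem _
    | add x y hx hy => rw [map_add]; exact add_mem hx hy
    | tmul a b =>
      rw [show a ⊗ₜ[k] b = (a ⊗ₜ[k] (1 : B)) * ((1 : A) ⊗ₜ[k] b) by
        rw [Algebra.TensorProduct.tmul_mul_tmul, mul_one, one_mul], map_mul]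
      refine mul_mem ?_ ?_
      · obtain ⟨p, hp, hpa⟩ := halg.isAlgebraic a
        let i : C' →+* C' ⊗[k] B := (Algebra.TensorProduct.includeLeft : C' →ₐ[k] C' ⊗[k] B).toRingHom
        have hi : Function.Injective i := Algebra.TensorProduct.includeLeft_injective
          (FaithfulSMul.algebraMap_injective k B)
        refine ⟨p.map i, (Polynomial.map_ne_zero_iff hi).mpr hp, ?_⟩
        let j : A →+* A ⊗[k] B ⧸ P :=
          (Ideal.Quotient.mk P).comp (Algebra.TensorProduct.includeLeft : A →ₐ[k] A ⊗[k] B).toRingHom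
        have hcomp : (algebraMap (C' ⊗[k] B) (A ⊗[k] B ⧸ P)).comp i = j.comp (algebraMap C' A) := by
          ext c
          show Ideal.Quotient.mk P (φ (c ⊗ₜ 1)) = Ideal.Quotient.mk P ((algebraMap C' A c) ⊗ₜ 1)
          rw [Algebra.TensorProduct.map_tmul]
          rfl
        show Polynomial.aeval (j a) (p.map i) = 0
        rw [Polynomial.aeval_def, Polynomial.eval₂_map, hcomp, ← Polynomial.hom_eval₂, ← Polynomial.aeval_def,
          hpa, map_zero]
      · refine Subalgebra.algebraMap_mem S (((1 : C') ⊗ₜ[k] b)) |> Eq.subst ?_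
        show Ideal.Quotient.mk P (φ (1 ⊗ₜ b)) = _
        rw [Algebra.TensorProduct.map_tmul, map_one]
        rfl
  refine le_antisymm hPQ fun z hz => ?_
  by_contra hzP
  have hne : Ideal.Quotient.mk P z ≠ 0 := fun h => hzP (Ideal.Quotient.eq_zero_iff_mem.mp h)
  obtain ⟨p, hp0, hpz⟩ := (hall (Ideal.Quotient.mk P z)).exists_nonzero_coeff_and_aeval_eq_zero
    (mem_nonZeroDivisors_of_ne_zero hne)
  refine hp0 (hQD _ ?_)
  -- the constant coefficient lies in `Q`
  have h1 : Ideal.Quotient.mk P (φ (p.coeff 0)) ∈ Q.map (Ideal.Quotient.mk P) := by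
    have h2 := p.divX_mul_X_add
    rw [← h2, map_add, map_mul, Polynomial.aeval_X, Polynomial.aeval_C] at hpz
    rw [show Ideal.Quotient.mk P (φ (p.coeff 0)) = -(Polynomial.aeval (Ideal.Quotient.mk P z) p.divX *
      Ideal.Quotient.mk P z) from eq_neg_of_add_eq_zero_right hpz]
    exact Submodule.neg_mem _ (Ideal.mul_mem_left _ _ (Ideal.mem_map_of_mem _ hz))
  obtain ⟨q, hq, hqe⟩ := (Ideal.mem_map_iff_of_surjective _ Ideal.Quotient.mk_surjective).mp h1
  simpa using Q.sub_mem hq (hPQ (Ideal.Quotient.eq.mp hqe))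

end Groth.L07.TensorDomAss

namespace Groth.L07.TensorDomAss

/-- No two associated primes are comparable. -/
def NE (R : Type u) [CommRing R] : Prop :=
  ∀ P ∈ associatedPrimes R R, ∀ Q ∈ associatedPrimes R R, P ≤ Q → P = Q

theorem exists_mul_eq_zero {R : Type u} [CommRing R] [IsNoetherianRing R] {Q : Ideal R}
    (hQ : Q ∈ associatedPrimes R R) {z : R} (hz : z ∈ Q) : ∃ w ≠ 0, z * w = 0 := by
  obtain ⟨hp, x, hx⟩ := isAssociatedPrime_iff.mp hQ
  refine ⟨x, fun h => hp.ne_top ?_, ?_⟩
  · rw [Ideal.eq_top_iff_one, hx, Submodule.mem_colon_singleton, h, smul_zero]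
    exact zero_mem _
  · rw [hx, Submodule.mem_colon_singleton, Submodule.mem_bot] at hz
    exact hz

theorem ne_tensor_domains (k A B : Type u) [Field k] [CommRing A] [IsDomain A] [Algebra k A] [CommRing B]
    [IsDomain B] [Algebra k B] [IsNoetherianRing (A ⊗[k] B)] : NE (A ⊗[k] B) := fun P hP Q hQ hPQ => by
  haveI := hP.isPrime
  haveI := hQ.isPrime
  exact eq_of_le_of_forall_zeroDivisor k hPQ fun z hz => exists_mul_eq_zero hQ hz

theorem mem_associatedPrimes_congr {R R' : Type u} [CommRing R] [CommRing R'] (e : R ≃+* R') {Q : Ideal R'}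
    (hQ : Q ∈ associatedPrimes R' R') : Q.comap e ∈ associatedPrimes R R := by
  obtain ⟨hp, x, hx⟩ := hQ
  refine ⟨Ideal.IsPrime.comap e, e.symm x, ?_⟩
  rw [hx, Ideal.comap_radical]
  congr 1
  ext r
  rw [Ideal.mem_comap, Submodule.mem_colon_singleton, Submodule.mem_colon_singleton, Submodule.mem_bot,
    Submodule.mem_bot, smul_eq_mul, smul_eq_mul, ← map_eq_zero_iff e e.injective (x := r * e.symm x), map_mul,
    e.apply_symm_apply]

theorem NE.congr {R R' : Type u} [CommRing R] [CommRing R'] (e : R ≃+* R') (h : NE R) : NE R' :=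
  fun P hP Q hQ hPQ => Ideal.comap_injective_of_surjective (e : R →+* R') e.surjective
    (h _ (mem_associatedPrimes_congr e hP) _ (mem_associatedPrimes_congr e hQ) (Ideal.comap_mono hPQ))

variable (k A K : Type u) [Field k] [Field K] [Algebra k K] [CommRing A] [Algebra k A] [IsNoetherianRing A]
  [IsNoetherianRing (A ⊗[k] K)]

theorem associatedPrimes_baseChange : associatedPrimes (A ⊗[k] K) (A ⊗[k] K) =
    ⋃ p ∈ associatedPrimes A A,
      associatedPrimes (A ⊗[k] K) ((A ⊗[k] K) ⧸ p.map (algebraMap A (A ⊗[k] K))) := by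
  rw [← LinearEquiv.AssociatedPrimes.eq (AlgebraTensorModule.rid A (A ⊗[k] K) (A ⊗[k] K)),
    Groth.L02.AssFlat.associatedPrimes_tensor]
  refine Set.iUnion₂_congr fun p _ => LinearEquiv.AssociatedPrimes.eq (Submodule.quotEquivOfEq _ _ ?_)
  rw [smul_eq_mul, Ideal.mul_top]

theorem ne_baseChange (hA : NE A) : NE (A ⊗[k] K) := by
  intro P hP Q hQ hPQ
  haveI := hP.isPrime
  haveI := hQ.isPrime
  obtain ⟨p, hp, hPp⟩ := Set.mem_iUnion₂.mp ((associatedPrimes_baseChange k A K).le hP)
  obtain ⟨q, hq, hQq⟩ := Set.mem_iUnion₂.mp ((associatedPrimes_baseChange k A K).le hQ)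
  haveI := hp.isPrime
  haveI := hq.isPrime
  have hPc := Groth.L01.FibreEmb.comap_eq_of_mem_associatedPrimes p hPp
  have hQc := Groth.L01.FibreEmb.comap_eq_of_mem_associatedPrimes q hQq
  obtain rfl : p = q := hA p hp q hq (hPc.symm.le.trans ((Ideal.comap_mono hPQ).trans hQc.le))
  let φ : A ⊗[k] K →ₐ[k] (A ⧸ p) ⊗[k] K :=
    Algebra.TensorProduct.map (Ideal.Quotient.mkₐ k p) (AlgHom.id k K)
  have hφ : Function.Surjective φ :=
    Algebra.TensorProduct.map_surjective (Ideal.Quotient.mkₐ k p) (AlgHom.id k K)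
      Ideal.Quotient.mk_surjective Function.surjective_id
  have hker : RingHom.ker φ = p.map (algebraMap A (A ⊗[k] K)) := by
    rw [Algebra.TensorProduct.map_ker _ _ Ideal.Quotient.mk_surjective Function.surjective_id,
      show RingHom.ker (Ideal.Quotient.mkₐ k p) = p from Ideal.Quotient.mkₐ_ker k p,
      show RingHom.ker (AlgHom.id k K) = ⊥ from RingHom.ker_coe_toRingHom (f := AlgHom.id k K) ▸
        (RingHom.injective_iff_ker_eq_bot _).mp Function.injective_id, Ideal.map_bot, sup_bot_eq]
    rfl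
  have hle : ∀ {Q : Ideal (A ⊗[k] K)}, Q.comap (algebraMap A (A ⊗[k] K)) = p → RingHom.ker φ ≤ Q := fun {Q} h => by
    rw [hker, Ideal.map_le_iff_le_comap, h]
  haveI : (P.map φ).IsPrime := Ideal.map_isPrime_of_surjective hφ (hle hPc)
  haveI : (Q.map φ).IsPrime := Ideal.map_isPrime_of_surjective hφ (hle hQc)
  have he : P.map φ = Q.map φ := eq_of_le_of_forall_zeroDivisor k (Ideal.map_mono hPQ) fun z hz => by
    obtain ⟨r, hr, rfl⟩ := (Ideal.mem_map_iff_of_surjective φ hφ).mp hz
    obtain ⟨-, x, hx⟩ := isAssociatedPrime_iff.mp hQq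
    obtain ⟨w, rfl⟩ := Ideal.Quotient.mk_surjective x
    refine ⟨φ w, fun h0 => hQq.isPrime.ne_top ?_, ?_⟩
    · rw [Ideal.eq_top_iff_one, hx, Submodule.mem_colon_singleton, Submodule.mem_bot, one_smul,
        Ideal.Quotient.eq_zero_iff_mem, ← hker]
      exact h0
    · rw [hx, Submodule.mem_colon_singleton, Submodule.mem_bot] at hr
      rw [← map_mul]
      refine hker.ge (Ideal.Quotient.eq_zero_iff_mem.mp ?_)
      rw [map_mul]
      exact hr
  have h1 := congrArg (Ideal.comap φ) he
  rwa [Ideal.comap_map_of_surjective φ hφ, Ideal.comap_map_of_surjective φ hφ,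
    sup_eq_left.mpr ((RingHom.ker_eq_comap_bot _).symm.le.trans (hle hPc)),
    sup_eq_left.mpr ((RingHom.ker_eq_comap_bot _).symm.le.trans (hle hQc))] at h1

theorem ne_of_baseChange (hR : NE (A ⊗[k] K)) : NE A := by
  intro p hp q hq hpq
  haveI := hp.isPrime
  haveI := hq.isPrime
  haveI : Nontrivial (((A ⊗[k] K)) ⧸ q.map (algebraMap A (A ⊗[k] K))) := by
    rw [Ideal.Quotient.nontrivial_iff]
    intro h
    haveI : Nontrivial ((A ⊗[k] K) ⊗[A] (A ⧸ q)) := (Module.FaithfullyFlat.nontrivial_tensorProduct_iff_right A (A ⊗[k] K)).mpr inferInstance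
    haveI : Subsingleton ((A ⊗[k] K) ⧸ q.map (algebraMap A (A ⊗[k] K))) := Ideal.Quotient.subsingleton_iff.mpr h
    exact not_subsingleton ((A ⊗[k] K) ⊗[A] (A ⧸ q))
      (Algebra.TensorProduct.quotIdealMapEquivTensorQuot (A ⊗[k] K) q).symm.injective.subsingleton
  obtain ⟨Q, hQ⟩ := associatedPrimes.nonempty (A ⊗[k] K) ((A ⊗[k] K) ⧸ q.map (algebraMap A (A ⊗[k] K)))
  have hQc := Groth.L01.FibreEmb.comap_eq_of_mem_associatedPrimes q hQ
  haveI := hQ.isPrime
  obtain ⟨P, hP, hPQ⟩ := Ideal.exists_minimalPrimes_le (J := Q) (I := p.map (algebraMap A (A ⊗[k] K))) (by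
    rw [Ideal.map_le_iff_le_comap, hQc]; exact hpq)
  have hPp : P ∈ associatedPrimes (A ⊗[k] K) ((A ⊗[k] K) ⧸ p.map (algebraMap A (A ⊗[k] K))) := by
    refine Module.associatedPrimes.minimalPrimes_annihilator_subset_associatedPrimes _ _ ?_
    rw [Ideal.annihilator_quotient]
    exact hP
  have hPc := Groth.L01.FibreEmb.comap_eq_of_mem_associatedPrimes p hPp
  have h := hR P ((associatedPrimes_baseChange k A K).ge (Set.mem_biUnion hp hPp))
    Q ((associatedPrimes_baseChange k A K).ge (Set.mem_biUnion hq hQ)) hPQ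
  rw [← hPc, ← hQc, h]

end Groth.L07.TensorDomAss
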