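import Groth.Agent.L07.AssRestrict
import Groth.Agent.L29.DCoh.RelBC
import Groth.Agent.L07.TensorDomAss
import Groth.Agent.L21.RR.Coh
import Mathlib.AlgebraicGeometry.Morphisms.Flat
import Mathlib.AlgebraicGeometry.PullbackCarrier

/-!
Associated points of `F ⊗_S G` on a fibre product, for `G` flat over `S`.
-/

set_option autoImplicit false
set_option maxSynthPendingDepth 3
set_option synthInstance.maxHeartbeats 400000
set_option linter.style.haveILetI false
set_option backward.isDefEq.respectTransparency false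
set_option backward.isDefEq.respectTransparency.types false

universe u

open CategoryTheory CategoryTheory.Limits AlgebraicGeometry TopologicalSpace IsLocalRing TensorProduct

noncomputable section

namespace Groth.L07.AssTensor

/-- The extension of the maximal ideal of the image point. -/
abbrev fibIdeal {A B : Scheme.{u}} (h : A ⟶ B) (a : A) : Ideal (A.presheaf.stalk a) :=
  (maximalIdeal (B.presheaf.stalk (h a))).map (h.stalkMap a).hom

theorem fibIdeal_congr {A B : Scheme.{u}} {h h' : A ⟶ B} (e : h = h') (a : A) :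
    fibIdeal h a = fibIdeal h' a := by
  subst e; rfl

theorem fibIdeal_comp {A B C : Scheme.{u}} (h : A ⟶ B) (i : B ⟶ C) [IsPreimmersion i] (a : A) :
    fibIdeal (h ≫ i) a = fibIdeal h a := by
  have hs := i.stalkMap_surjective (h a)
  haveI : IsLocalHom (i.stalkMap (h a)).hom := inferInstance
  have h1 : (maximalIdeal (C.presheaf.stalk (i (h a)))).map (i.stalkMap (h a)).hom =
      maximalIdeal (B.presheaf.stalk (h a)) := by
    rw [← maximalIdeal_comap (i.stalkMap (h a)).hom]
    exact Ideal.map_comap_of_surjective _ hs _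
  show Ideal.map ((h ≫ i).stalkMap a).hom (maximalIdeal (C.presheaf.stalk (i (h a)))) = _
  rw [Scheme.Hom.stalkMap_comp, CommRingCat.hom_comp, ← Ideal.map_map, h1]

theorem ass_iso {X : Scheme.{u}} {M N : X.Modules} (e : M ≅ N) (x : X) :
    x ∈ AssSch.Ass M ↔ x ∈ AssSch.Ass N :=
  LinearEquiv.isAssociatedPrime_iff ((Groth.L00.Stk.F X x).mapIso e).toLinearEquiv

theorem isNoetherianRing_of_preimmersion {A B : Scheme.{u}} [IsLocallyNoetherian B] (i : A ⟶ B) [IsPreimmersion i]
    (a : A) : IsNoetherianRing (A.presheaf.stalk a) :=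
  isNoetherianRing_of_surjective (B.presheaf.stalk (i a)) _ (i.stalkMap a).hom (i.stalkMap_surjective a)

/-- Associated points of a pullback along a flat morphism. -/
theorem mem_ass_pullback_iff {A B : Scheme.{u}} (π : A ⟶ B) [Flat π] (E : B.Modules) (a : A)
    [IsNoetherianRing (A.presheaf.stalk a)] [IsNoetherianRing (B.presheaf.stalk (π a))] :
    a ∈ AssSch.Ass ((Scheme.Modules.pullback π).obj E) ↔
      π a ∈ AssSch.Ass E ∧
        maximalIdeal (A.presheaf.stalk a) ∈
          associatedPrimes (A.presheaf.stalk a) (A.presheaf.stalk a ⧸ fibIdeal π a) := by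
  letI := (π.stalkMap a).hom.toAlgebra
  haveI : Module.Flat (B.presheaf.stalk (π a)) (A.presheaf.stalk a) := Flat.stalkMap π a
  haveI : IsLocalHom (algebraMap (B.presheaf.stalk (π a)) (A.presheaf.stalk a)) :=
    inferInstanceAs (IsLocalHom (π.stalkMap a).hom)
  let el : ((Scheme.Modules.pullback π).obj E).presheaf.stalk a ≃ₗ[A.presheaf.stalk a]
      A.presheaf.stalk a ⊗[B.presheaf.stalk (π a)] E.presheaf.stalk (π a) :=
    ((Groth.L00.PullStalk.stalkIso π a).app E).toLinearEquiv
  rw [Groth.L19.Ass.mem_iff, LinearEquiv.AssociatedPrimes.eq el,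
    Groth.L07.AssFlatLocal.maximal_mem_iff (A.presheaf.stalk a) (E.presheaf.stalk (π a)),
    LinearEquiv.AssociatedPrimes.eq (Submodule.quotEquivOfEq
      ((maximalIdeal (B.presheaf.stalk (π a))).map (algebraMap (B.presheaf.stalk (π a)) (A.presheaf.stalk a)) •
        (⊤ : Submodule (A.presheaf.stalk a) (A.presheaf.stalk a))) (fibIdeal π a)
      (by rw [smul_eq_mul, Ideal.mul_top]; rfl))]
  exact Iff.rfl

theorem length_iso {X : Scheme.{u}} {M N : X.Modules} (e : M ≅ N) (x : X) :
    Module.length (X.presheaf.stalk x) (M.presheaf.stalk x) = Module.length (X.presheaf.stalk x) (N.presheaf.stalk x) :=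
  ((Groth.L00.Stk.F X x).mapIso e).toLinearEquiv.length_eq

/-- The length of a pullback along a flat morphism. -/
theorem length_pullback {A B : Scheme.{u}} (π : A ⟶ B) [Flat π] (E : B.Modules) (a : A)
    (hE : IsFiniteLength (B.presheaf.stalk (π a)) (E.presheaf.stalk (π a))) :
    Module.length (A.presheaf.stalk a) (((Scheme.Modules.pullback π).obj E).presheaf.stalk a) =
      Module.length (B.presheaf.stalk (π a)) (E.presheaf.stalk (π a)) *
        Module.length (A.presheaf.stalk a) (A.presheaf.stalk a ⧸ fibIdeal π a) := by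
  letI := (π.stalkMap a).hom.toAlgebra
  haveI : Module.Flat (B.presheaf.stalk (π a)) (A.presheaf.stalk a) := Flat.stalkMap π a
  let el : ((Scheme.Modules.pullback π).obj E).presheaf.stalk a ≃ₗ[A.presheaf.stalk a]
      A.presheaf.stalk a ⊗[B.presheaf.stalk (π a)] E.presheaf.stalk (π a) :=
    ((Groth.L00.PullStalk.stalkIso π a).app E).toLinearEquiv
  rw [el.length_eq, Groth.L07.AssFlatLocal.length_tensor (A.presheaf.stalk a) (E.presheaf.stalk (π a)) hE,
    (Submodule.quotEquivOfEq
      ((maximalIdeal (B.presheaf.stalk (π a))).map (algebraMap (B.presheaf.stalk (π a)) (A.presheaf.stalk a)) •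
        (⊤ : Submodule (A.presheaf.stalk a) (A.presheaf.stalk a))) (fibIdeal π a)
      (by rw [smul_eq_mul, Ideal.mul_top]; rfl)).length_eq]

/-- The structure module at a point. -/
theorem mem_ass_structure_iff {A : Scheme.{u}} (a : A) :
    a ∈ AssSch.Ass (Coh.structureModule A) ↔
      maximalIdeal (A.presheaf.stalk a) ∈ associatedPrimes (A.presheaf.stalk a) (A.presheaf.stalk a) :=
  LinearEquiv.isAssociatedPrime_iff (LinearEquiv.ofBijective
    (LinearMap.toSpanSingleton (A.presheaf.stalk a) _ (Groth.L21.RR.one A a))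
    (Groth.L21.RR.bijective_smul_one a)).symm

/-- Associated points of a fibre, as a condition in the source. -/
theorem mem_ass_fibre_iff {W A B : Scheme.{u}} (j : W ⟶ A) (h : A ⟶ B) (b : B)
    (p : W ⟶ Spec (B.residueField b)) (hW : IsPullback j p h (B.fromSpecResidueField b)) (w : W) :
    w ∈ AssSch.Ass (Coh.structureModule W) ↔
      maximalIdeal (A.presheaf.stalk (j w)) ∈
        associatedPrimes (A.presheaf.stalk (j w)) (A.presheaf.stalk (j w) ⧸ fibIdeal h (j w)) := by
  haveI : IsPreimmersion j :=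
    MorphismProperty.of_isPullback (P := @IsPreimmersion) hW.flip inferInstance
  have hb : h (j w) = b := by
    rw [← Scheme.Hom.comp_apply, hW.w, Scheme.Hom.comp_apply, Scheme.fromSpecResidueField_apply]
  have H : ∀ t, t = b → ∃ p' : W ⟶ Spec (B.residueField t),
      IsPullback j p' h (B.fromSpecResidueField t) := by
    rintro t rfl; exact ⟨p, hW⟩
  obtain ⟨p', hp'⟩ := H _ hb
  have hk := Groth.L18.stalkMap_fiberι_aux h j w _ rfl p' hp'
  letI : Algebra (A.presheaf.stalk (j w)) (W.presheaf.stalk w) := (j.stalkMap w).hom.toAlgebra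
  let e : W.presheaf.stalk w ≃ₗ[A.presheaf.stalk (j w)] A.presheaf.stalk (j w) ⧸ fibIdeal h (j w) :=
    ((Submodule.quotEquivOfEq (fibIdeal h (j w)) _ hk.symm).trans
      ((Algebra.linearMap (A.presheaf.stalk (j w)) (W.presheaf.stalk w)).quotKerEquivOfSurjective
        (j.stalkMap_surjective w))).symm
  exact (mem_ass_structure_iff w).trans
    (Groth.L07.RelAss.isAssociatedPrime_restrict_iff (j.stalkMap_surjective w) e).symm

/-- The local rings of a fibre, up to length. -/
theorem length_fibre {W A B : Scheme.{u}} (j : W ⟶ A) (h : A ⟶ B) (b : B)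
    (p : W ⟶ Spec (B.residueField b)) (hW : IsPullback j p h (B.fromSpecResidueField b)) (w : W) :
    Module.length (W.presheaf.stalk w) (W.presheaf.stalk w) =
      Module.length (A.presheaf.stalk (j w)) (A.presheaf.stalk (j w) ⧸ fibIdeal h (j w)) := by
  haveI : IsPreimmersion j :=
    MorphismProperty.of_isPullback (P := @IsPreimmersion) hW.flip inferInstance
  have hb : h (j w) = b := by
    rw [← Scheme.Hom.comp_apply, hW.w, Scheme.Hom.comp_apply, Scheme.fromSpecResidueField_apply]
  have H : ∀ t, t = b → ∃ p' : W ⟶ Spec (B.residueField t),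
      IsPullback j p' h (B.fromSpecResidueField t) := by
    rintro t rfl; exact ⟨p, hW⟩
  obtain ⟨p', hp'⟩ := H _ hb
  have hk := Groth.L18.stalkMap_fiberι_aux h j w _ rfl p' hp'
  letI : Algebra (A.presheaf.stalk (j w)) (W.presheaf.stalk w) := (j.stalkMap w).hom.toAlgebra
  let e : (A.presheaf.stalk (j w) ⧸ fibIdeal h (j w)) ≃ₗ[A.presheaf.stalk (j w)] W.presheaf.stalk w :=
    (Submodule.quotEquivOfEq (fibIdeal h (j w)) _ hk.symm).trans
      ((Algebra.linearMap (A.presheaf.stalk (j w)) (W.presheaf.stalk w)).quotKerEquivOfSurjective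
        (j.stalkMap_surjective w))
  rw [e.length_eq]
  exact (Module.length_eq_of_surjective (S := A.presheaf.stalk (j w)) (j.stalkMap_surjective w)).symm

variable {X Y S : Scheme.{u}} (f : X ⟶ S) (g : Y ⟶ S)

/-- `Spec κ(x) ×_S Spec κ(y) ⟶ X ×_S Y`. -/
abbrev pairMap (x : X) (y : Y) :
    pullback (X.fromSpecResidueField x ≫ f) (Y.fromSpecResidueField y ≫ g) ⟶ pullback f g :=
  pullback.map (X.fromSpecResidueField x ≫ f) (Y.fromSpecResidueField y ≫ g) f g (X.fromSpecResidueField x)
    (Y.fromSpecResidueField y) (𝟙 S) (Category.comp_id _) (Category.comp_id _)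

theorem pairMap_fst (x : X) (y : Y) (t : ↥(pullback (X.fromSpecResidueField x ≫ f) (Y.fromSpecResidueField y ≫ g))) :
    pullback.fst f g (pairMap f g x y t) = x := by
  rw [← Scheme.Hom.comp_apply, pullback.lift_fst, Scheme.Hom.comp_apply, Scheme.fromSpecResidueField_apply]

theorem pairMap_snd (x : X) (y : Y) (t : ↥(pullback (X.fromSpecResidueField x ≫ f) (Y.fromSpecResidueField y ≫ g))) :
    pullback.snd f g (pairMap f g x y t) = y := by
  rw [← Scheme.Hom.comp_apply, pullback.lift_snd, Scheme.Hom.comp_apply, Scheme.fromSpecResidueField_apply]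

theorem exists_pairMap (z : ↥(pullback f g)) :
    ∃ t, pairMap f g (pullback.fst f g z) (pullback.snd f g z) t = z := by
  have h : z ∈ Set.range (pairMap f g (pullback.fst f g z) (pullback.snd f g z)) := by
    rw [Scheme.Pullback.range_map]
    exact ⟨by rw [Set.mem_preimage, Scheme.range_fromSpecResidueField]; rfl,
      by rw [Set.mem_preimage, Scheme.range_fromSpecResidueField]; rfl⟩
  exact h

variable [IsLocallyNoetherian X] [IsLocallyNoetherian Y] [IsLocallyNoetherian (pullback f g)]
  (F : X.Modules) (G : Y.Modules)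

/-- The tensor product over `S`. -/
abbrev tens : (pullback f g).Modules :=
  CohB1.tensorMod ((Scheme.Modules.pullback (pullback.fst f g)).obj F)
    ((Scheme.Modules.pullback (pullback.snd f g)).obj G)

/-- The stalk of `F ⊗_S G`. -/
theorem tens_stalk (hGfl : FlatMod.IsFlatOver g G) (x : X) (y' : ↥(g.fiber (f x))) (y : Y)
    (hy : g.fiberι (f x) y' = y)
    (t : ↥(pullback (X.fromSpecResidueField x ≫ f) (Y.fromSpecResidueField y ≫ g))) :
    (pairMap f g x y t ∈ AssSch.Ass (tens f g F G) ↔
      x ∈ AssSch.Ass F ∧ y' ∈ AssSch.Ass ((Scheme.Modules.pullback (g.fiberι (f x))).obj G) ∧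
        t ∈ AssSch.Ass (Coh.structureModule
          (pullback (X.fromSpecResidueField x ≫ f) (Y.fromSpecResidueField y ≫ g)))) ∧
    (IsFiniteLength (X.presheaf.stalk x) (F.presheaf.stalk x) →
      IsFiniteLength ((g.fiber (f x)).presheaf.stalk y')
        (((Scheme.Modules.pullback (g.fiberι (f x))).obj G).presheaf.stalk y') →
      Module.length ((pullback f g).presheaf.stalk (pairMap f g x y t))
          ((tens f g F G).presheaf.stalk (pairMap f g x y t)) =
        Module.length (X.presheaf.stalk x) (F.presheaf.stalk x) *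
          (Module.length ((g.fiber (f x)).presheaf.stalk y')
              (((Scheme.Modules.pullback (g.fiberι (f x))).obj G).presheaf.stalk y') *
            Module.length ((pullback (X.fromSpecResidueField x ≫ f) (Y.fromSpecResidueField y ≫ g)).presheaf.stalk t)
              ((pullback (X.fromSpecResidueField x ≫ f) (Y.fromSpecResidueField y ≫ g)).presheaf.stalk t))) := by
  let p := pullback.fst f g
  let q := pullback.snd f g
  let φ := pairMap f g x y
  let j : pullback (X.fromSpecResidueField x ≫ f) (Y.fromSpecResidueField y ≫ g) ⟶ p.fiber x :=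
    (IsPullback.of_hasPullback p (X.fromSpecResidueField x)).lift φ (pullback.fst _ _)
    (pullback.lift_fst _ _ _)
  have hjι : j ≫ p.fiberι x = φ := IsPullback.lift_fst _ _ _ _
  have hjκ : j ≫ p.fiberToSpecResidueField x = pullback.fst _ _ := IsPullback.lift_snd _ _ _ _
  have hbig : IsPullback (p.fiberToSpecResidueField x) (p.fiberι x ≫ q) (X.fromSpecResidueField x ≫ f) g :=
    ((IsPullback.of_hasPullback p (X.fromSpecResidueField x)).paste_horiz
      (IsPullback.of_hasPullback f g).flip).flip
  haveI : IsLocallyNoetherian X := inferInstance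
  have hjq : j ≫ p.fiberι x ≫ q = pullback.snd _ _ ≫ Y.fromSpecResidueField y := by
    rw [← Category.assoc, hjι]; exact pullback.lift_snd _ _ _
  have hj : IsPullback j (pullback.snd _ _) (p.fiberι x ≫ q) (Y.fromSpecResidueField y) := by
    refine IsPullback.of_right ?_ hjq hbig
    rw [hjκ]
    exact IsPullback.of_hasPullback _ _
  let r := Spec.map (f.residueFieldMap x)
  have hr : r ≫ S.fromSpecResidueField (f x) = X.fromSpecResidueField x ≫ f :=
    Scheme.Hom.SpecMap_residueFieldMap_fromSpecResidueField f x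
  let π : p.fiber x ⟶ g.fiber (f x) :=
    (IsPullback.of_hasPullback g (S.fromSpecResidueField (f x))).lift (p.fiberι x ≫ q)
      (p.fiberToSpecResidueField x ≫ r) (by rw [Category.assoc (p.fiberToSpecResidueField x), hr]; exact hbig.w.symm)
  have hπι : π ≫ g.fiberι (f x) = p.fiberι x ≫ q := IsPullback.lift_fst _ _ _ _
  have hπκ : π ≫ g.fiberToSpecResidueField (f x) = p.fiberToSpecResidueField x ≫ r :=
    IsPullback.lift_snd _ _ _ _
  have hπ : IsPullback π (p.fiberToSpecResidueField x) (g.fiberToSpecResidueField (f x)) r := by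
    refine IsPullback.of_right ?_ hπκ (IsPullback.of_hasPullback g (S.fromSpecResidueField (f x)))
    show IsPullback (π ≫ g.fiberι (f x)) (p.fiberToSpecResidueField x) g (r ≫ S.fromSpecResidueField (f x))
    rw [hπι, hr]
    exact hbig.flip
  haveI : Flat r := by
    refine (HasRingHomProperty.Spec_iff (P := @Flat)).mpr ?_
    algebraize [(f.residueFieldMap x).hom]
    exact (inferInstance : Module.Flat (S.residueField (f x)) (X.residueField x))
  haveI : Flat π := MorphismProperty.of_isPullback (P := @Flat) hπ.flip inferInstance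
  have hφ : p.fiberι x (j t) = φ t := by rw [← Scheme.Hom.comp_apply, hjι]
  have hy' : π (j t) = y' := by
    apply (g.fiberι (f x)).isEmbedding.injective
    rw [← Scheme.Hom.comp_apply, hπι, hy, Scheme.Hom.comp_apply, hφ]
    exact pairMap_snd f g x y t
  haveI : IsNoetherianRing ((p.fiber x).presheaf.stalk (j t)) :=
    isNoetherianRing_of_preimmersion (p.fiberι x) _
  haveI : IsNoetherianRing ((g.fiber (f x)).presheaf.stalk (π (j t))) :=
    isNoetherianRing_of_preimmersion (g.fiberι (f x)) _
  have hflat : FlatMod.IsFlatOver p ((Scheme.Modules.pullback q).obj G) :=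
    Groth.L29.DC.RelBC.isFlatOver_pullback (IsPullback.of_hasPullback f g).flip hGfl
  let ie : (Scheme.Modules.pullback (p.fiberι x)).obj ((Scheme.Modules.pullback q).obj G) ≅
      (Scheme.Modules.pullback π).obj ((Scheme.Modules.pullback (g.fiberι (f x))).obj G) :=
    (Scheme.Modules.pullbackComp (p.fiberι x) q).app G ≪≫
      (Scheme.Modules.pullbackCongr hπι.symm).app G ≪≫
      ((Scheme.Modules.pullbackComp π (g.fiberι (f x))).app G).symm
  have hpx : p (pairMap f g x y t) = x := pairMap_fst f g x y t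
  constructor
  · rw [mem_ass_iff p F _ hflat]
    refine and_congr (by rw [hpx]) ?_
    refine ((fibre_iff p _ x (j t) hφ).1.symm).trans ((ass_iso ie (j t)).trans ?_)
    refine (mem_ass_pullback_iff π _ (j t)).trans (and_congr (by rw [hy']) ?_)
    rw [mem_ass_fibre_iff j (p.fiberι x ≫ q) y (pullback.snd _ _) hj t,
      ← fibIdeal_comp π (g.fiberι (f x)) (j t), fibIdeal_congr hπι (j t)]
  · intro hF hG
    rw [length_stalk p F _ hflat _ (by rw [hpx]; exact hF), ← (fibre_iff p _ x (j t) hφ).2,
      length_iso ie (j t), length_pullback π _ (j t) (by rw [hy']; exact hG),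
      ← fibIdeal_comp π (g.fiberι (f x)) (j t), fibIdeal_congr hπι (j t),
      ← length_fibre j (p.fiberι x ≫ q) y (pullback.snd _ _) hj t]
    rw [hy', hpx]

/-- Associated points of `F ⊗_S G`. -/
theorem mem_ass_tens_iff (hGfl : FlatMod.IsFlatOver g G) (x : X) (y' : ↥(g.fiber (f x))) (y : Y)
    (hy : g.fiberι (f x) y' = y)
    (t : ↥(pullback (X.fromSpecResidueField x ≫ f) (Y.fromSpecResidueField y ≫ g))) :
    pairMap f g x y t ∈ AssSch.Ass (tens f g F G) ↔
      x ∈ AssSch.Ass F ∧ y' ∈ AssSch.Ass ((Scheme.Modules.pullback (g.fiberι (f x))).obj G) ∧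
        t ∈ AssSch.Ass (Coh.structureModule
          (pullback (X.fromSpecResidueField x ≫ f) (Y.fromSpecResidueField y ≫ g))) :=
  (tens_stalk f g F G hGfl x y' y hy t).1

/-- `y ∈ Ass G` for `G` flat over `S`. -/
theorem mem_ass_flat_iff [IsLocallyNoetherian S] (hGfl : FlatMod.IsFlatOver g G) (s : S) (y' : ↥(g.fiber s)) :
    g.fiberι s y' ∈ AssSch.Ass G ↔
      s ∈ AssSch.Ass (Coh.structureModule S) ∧
        y' ∈ AssSch.Ass ((Scheme.Modules.pullback (g.fiberι s)).obj G) := by
  have hs : g (g.fiberι s y') = s := (g.fiberHomeo s y').2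
  rw [(fibre_iff g G s y' rfl).1]
  refine Iff.trans ?_ (and_congr (by rw [hs]) Iff.rfl : g (g.fiberι s y') ∈ AssSch.Ass (Coh.structureModule S) ∧ _ ↔ _)
  set y := g.fiberι s y'
  letI := stalkAlg g y
  letI := FlatMod.moduleStalkOver g G y
  haveI : IsScalarTower (S.presheaf.stalk (g y)) (Y.presheaf.stalk y) (G.presheaf.stalk y) :=
    IsScalarTower.of_algebraMap_smul fun _ _ => rfl
  haveI : Module.Flat (S.presheaf.stalk (g y)) (G.presheaf.stalk y) := hGfl y
  haveI : IsLocalHom (algebraMap (S.presheaf.stalk (g y)) (Y.presheaf.stalk y)) :=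
    inferInstanceAs (IsLocalHom (g.stalkMap y).hom)
  rw [Groth.L19.Ass.mem_iff, ← LinearEquiv.AssociatedPrimes.eq
      (AlgebraTensorModule.rid (S.presheaf.stalk (g y)) (Y.presheaf.stalk y) (G.presheaf.stalk y)),
    mem_ass_structure_iff]
  exact Groth.L07.AssFlatLocal.maximal_mem_iff (G.presheaf.stalk y) (S.presheaf.stalk (g y))

/-- Every point of an affine scheme with a zero divisor prime is minimal, for `Spec (A ⊗ B)`. -/
theorem eq_of_specializes_spec {k A B : Type u} [Field k] [CommRing A] [IsDomain A] [Algebra k A] [CommRing B]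
    [IsDomain B] [Algebra k B] {W : Scheme.{u}} (e : W ≅ Spec (CommRingCat.of (A ⊗[k] B))) {a b : W} (hab : a ⤳ b)
    (hb : b ∈ AssSch.Ass (Coh.structureModule W)) : a = b := by
  let R := CommRingCat.of (A ⊗[k] B)
  letI : Algebra R ((Spec R).presheaf.stalk (e.hom b)) := StructureSheaf.stalkAlgebra R (e.hom b)
  haveI : IsLocalization.AtPrime ((Spec R).presheaf.stalk (e.hom b)) (e.hom b).asIdeal :=
    StructureSheaf.IsLocalization.to_stalk R (e.hom b)
  have h2 : maximalIdeal ((Spec R).presheaf.stalk (e.hom b)) ∈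
      associatedPrimes ((Spec R).presheaf.stalk (e.hom b)) ((Spec R).presheaf.stalk (e.hom b)) := by
    have h3 := (mem_ass_structure_iff b).mp hb
    have h4 := Groth.L07.TensorDomAss.mem_associatedPrimes_congr
      (asIso (e.hom.stalkMap b)).commRingCatIsoToRingEquiv h3
    have h5 : (maximalIdeal (W.presheaf.stalk b)).comap (asIso (e.hom.stalkMap b)).commRingCatIsoToRingEquiv =
        maximalIdeal ((Spec R).presheaf.stalk (e.hom b)) := maximalIdeal_comap (e.hom.stalkMap b).hom
    exact h5 ▸ h4
  have hz : ∀ z ∈ (e.hom b).asIdeal, ∃ w ≠ 0, z * w = 0 := by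
    intro z hz
    obtain ⟨-, v, hv⟩ := h2
    obtain ⟨n, hn⟩ : algebraMap R ((Spec R).presheaf.stalk (e.hom b)) z ∈ Ideal.radical
        ((⊥ : Submodule ((Spec R).presheaf.stalk (e.hom b)) ((Spec R).presheaf.stalk (e.hom b))).colon {v}) := by
      rw [← hv]
      exact (IsLocalization.AtPrime.to_map_mem_maximal_iff _ _ z).mpr hz
    rw [Submodule.mem_colon_singleton, Submodule.mem_bot, smul_eq_mul] at hn
    obtain ⟨⟨w, s⟩, hw⟩ := IsLocalization.surj (e.hom b).asIdeal.primeCompl v
    have hv0 : v ≠ 0 := fun h0 => (maximalIdeal.isMaximal _).ne_top (hv.trans (by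
      rw [h0, Ideal.eq_top_iff_one]
      exact Ideal.le_radical (Submodule.mem_colon_singleton.mpr (by simp))))
    have h6 : algebraMap R ((Spec R).presheaf.stalk (e.hom b)) (z ^ n * w) = 0 := by
      rw [map_mul, map_pow, ← hw, ← mul_assoc, hn, zero_mul]
    obtain ⟨c, hc⟩ := (IsLocalization.map_eq_zero_iff (e.hom b).asIdeal.primeCompl _ _).mp h6
    have h7 : z ^ n * ((c : R) * w) = 0 := by rw [← hc]; ring
    have h8 : (c : R) * w ≠ 0 := by
      intro h0
      refine hv0 ((IsLocalization.map_units _ s).mul_left_eq_zero.mp ?_)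
      rw [hw]
      exact (IsLocalization.map_eq_zero_iff (e.hom b).asIdeal.primeCompl _ _).mpr ⟨c, h0⟩
    clear h6 hc hn
    generalize (c : R) * w = v' at h7 h8
    induction n generalizing v' with
    | zero => exact absurd (by simpa using h7) h8
    | succ n ih =>
      by_cases h : z * v' = 0
      · exact ⟨v', h8, h⟩
      · exact ih _ (by rw [← h7]; ring) h
  have hle : (e.hom a).asIdeal ≤ (e.hom b).asIdeal :=
    (PrimeSpectrum.le_iff_specializes _ _).mpr (hab.map e.hom.continuous)
  exact e.hom.isOpenEmbedding.injective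
    (PrimeSpectrum.ext (Groth.L07.TensorDomAss.eq_of_le_of_forall_zeroDivisor k hle hz))

/-- `Spec (κ(x) ⊗ κ(y))` has no comparable points ending at an associated one. -/
theorem eq_of_specializes_pair (x : X) (y : Y) (hxy : g y = f x)
    {a b : ↥(pullback (X.fromSpecResidueField x ≫ f) (Y.fromSpecResidueField y ≫ g))} (hab : a ⤳ b)
    (hb : b ∈ AssSch.Ass (Coh.structureModule
      (pullback (X.fromSpecResidueField x ≫ f) (Y.fromSpecResidueField y ≫ g)))) : a = b := by
  letI : Algebra (S.residueField (f x)) (X.residueField x) := (f.residueFieldMap x).hom.toAlgebra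
  letI : Algebra (S.residueField (f x)) (Y.residueField y) :=
    ((S.residueFieldCongr hxy.symm).hom ≫ g.residueFieldMap y).hom.toAlgebra
  let m := S.fromSpecResidueField (f x)
  have e₁ : Spec.map (CommRingCat.ofHom (algebraMap (S.residueField (f x)) (X.residueField x))) ≫ m =
      X.fromSpecResidueField x ≫ f := Scheme.Hom.SpecMap_residueFieldMap_fromSpecResidueField f x
  have e₂ : Spec.map (CommRingCat.ofHom (algebraMap (S.residueField (f x)) (Y.residueField y))) ≫ m =
      Y.fromSpecResidueField y ≫ g := by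
    rw [← Scheme.Hom.SpecMap_residueFieldMap_fromSpecResidueField g y,
      ← Scheme.residueFieldCongr_fromSpecResidueField (X := S) hxy.symm, ← Category.assoc, ← Spec.map_comp]
    rfl
  let ε := pullback.congrHom e₁.symm e₂.symm ≪≫
    (IsPullback.of_isLimit (pullbackIsPullbackOfCompMono
      (Spec.map (CommRingCat.ofHom (algebraMap (S.residueField (f x)) (X.residueField x))))
      (Spec.map (CommRingCat.ofHom (algebraMap (S.residueField (f x)) (Y.residueField y)))) m)).isoPullback.symm ≪≫
    pullbackSpecIso _ _ _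
  exact eq_of_specializes_spec ε hab hb

/-- Every point is of the form `pairMap`. -/
theorem exists_data (z : ↥(pullback f g)) :
    ∃ (y' : ↥(g.fiber (f (pullback.fst f g z)))), g.fiberι _ y' = pullback.snd f g z := by
  refine ⟨(g.fiberHomeo _).symm ⟨pullback.snd f g z, ?_⟩, g.fiberι_fiberHomeo_symm _ _⟩
  show g (pullback.snd f g z) = f (pullback.fst f g z)
  rw [← Scheme.Hom.comp_apply, ← Scheme.Hom.comp_apply, pullback.condition]

/-- The description of `Ass (F ⊗_S G)`. -/
theorem ass_tens_eq (hGfl : FlatMod.IsFlatOver g G) :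
    AssSch.Ass (tens f g F G) =
      ⋃ (x : ↥X) (_ : x ∈ AssSch.Ass F) (y' : ↥(g.fiber (f x)))
        (_ : y' ∈ AssSch.Ass ((Scheme.Modules.pullback (g.fiberι (f x))).obj G)) (y : ↥Y) (_ : y = g.fiberι (f x) y'),
        ⇑(pairMap f g x y) ''
          AssSch.Ass (Coh.structureModule (pullback (X.fromSpecResidueField x ≫ f) (Y.fromSpecResidueField y ≫ g))) := by
  ext z
  simp only [Set.mem_iUnion, Set.mem_image]
  constructor
  · intro hz
    obtain ⟨t, ht⟩ := exists_pairMap f g z
    obtain ⟨y', hy'⟩ := exists_data f g z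
    rw [← ht] at hz
    obtain ⟨h1, h2, h3⟩ := (mem_ass_tens_iff f g F G hGfl _ y' _ hy' t).mp hz
    exact ⟨_, h1, y', h2, _, hy'.symm, t, h3, ht⟩
  · rintro ⟨x, hx, y', hy', y, hy, t, ht, rfl⟩
    exact (mem_ass_tens_iff f g F G hGfl x y' y hy.symm t).mpr ⟨hx, hy', ht⟩

/-- The description of `Ass (F ⊗_S G)` when `f` maps `Ass F` to `Ass O_S`. -/
theorem ass_tens_eq' [IsLocallyNoetherian S] (hGfl : FlatMod.IsFlatOver g G)
    (hAss : ∀ x ∈ AssSch.Ass F, f x ∈ AssSch.Ass (Coh.structureModule S)) :
    AssSch.Ass (tens f g F G) =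
      ⋃ (x : ↥X) (_ : x ∈ AssSch.Ass F) (y : ↥Y) (_ : y ∈ AssSch.Ass G) (_ : f x = g y),
        ⇑(pairMap f g x y) ''
          AssSch.Ass (Coh.structureModule (pullback (X.fromSpecResidueField x ≫ f) (Y.fromSpecResidueField y ≫ g))) := by
  rw [ass_tens_eq f g F G hGfl]
  ext z
  simp only [Set.mem_iUnion, Set.mem_image]
  constructor
  · rintro ⟨x, hx, y', hy', y, rfl, h⟩
    exact ⟨x, hx, _, (mem_ass_flat_iff g G hGfl _ y').mpr ⟨hAss x hx, hy'⟩, ((g.fiberHomeo _ y').2).symm, h⟩
  · rintro ⟨x, hx, y, hy, hxy, h⟩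
    obtain ⟨y', rfl⟩ : y ∈ Set.range (g.fiberι (f x)) := by rw [g.range_fiberι]; exact hxy.symm
    exact ⟨x, hx, y', ((mem_ass_flat_iff g G hGfl _ y').mp hy).2, _, rfl, h⟩

theorem snd_mem_ass [IsLocallyNoetherian S] (hGfl : FlatMod.IsFlatOver g G)
    (hAss : ∀ x ∈ AssSch.Ass F, f x ∈ AssSch.Ass (Coh.structureModule S))
    (z : ↥(pullback f g)) (hz : z ∈ AssSch.Ass (tens f g F G)) : pullback.snd f g z ∈ AssSch.Ass G := by
  rw [ass_tens_eq' f g F G hGfl hAss] at hz
  simp only [Set.mem_iUnion, Set.mem_image] at hz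
  obtain ⟨x, hx, y, hy, -, t, -, rfl⟩ := hz
  rwa [pairMap_snd]

theorem fst_mem_ass (hGfl : FlatMod.IsFlatOver g G)
    (z : ↥(pullback f g)) (hz : z ∈ AssSch.Ass (tens f g F G)) : pullback.fst f g z ∈ AssSch.Ass F := by
  rw [ass_tens_eq f g F G hGfl] at hz
  simp only [Set.mem_iUnion, Set.mem_image] at hz
  obtain ⟨x, hx, y', -, y, -, t, -, rfl⟩ := hz
  rwa [pairMap_fst]

theorem noEmbedded_tens_aux (hGfl : FlatMod.IsFlatOver g G) (hFne : AssSch.NoEmbedded F)
    (hsnd : ∀ z ∈ AssSch.Ass (tens f g F G), ∀ z' ∈ AssSch.Ass (tens f g F G), z' ⤳ z →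
      pullback.fst f g z = pullback.fst f g z' → pullback.snd f g z = pullback.snd f g z') :
    AssSch.NoEmbedded (tens f g F G) := by
  intro z hz z' hz' hsp
  have hx := hFne _ (fst_mem_ass f g F G hGfl z hz) _ (fst_mem_ass f g F G hGfl z' hz')
    (hsp.map (pullback.fst f g).continuous)
  have hy := hsnd z hz z' hz' hsp hx
  obtain ⟨t, ht⟩ := exists_pairMap f g z
  obtain ⟨t', ht'⟩ := exists_pairMap f g z'
  obtain ⟨y', hy'⟩ := exists_data f g z
  have hgy : g (pullback.snd f g z) = f (pullback.fst f g z) := by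
    rw [← Scheme.Hom.comp_apply, ← Scheme.Hom.comp_apply, pullback.condition]
  generalize pullback.fst f g z' = x₁ at hx t' ht'
  subst hx
  generalize pullback.snd f g z' = y₁ at hy t' ht'
  subst hy
  generalize pullback.fst f g z = x at t ht y' hy' t' ht' hgy
  generalize pullback.snd f g z = y at t ht y' hy' t' ht' hgy
  subst ht ht'
  have hta := ((mem_ass_tens_iff f g F G hGfl _ y' _ hy' t).mp hz).2.2
  haveI : IsPreimmersion (pairMap f g x y) :=
    MorphismProperty.pullbackMap (P := @IsPreimmersion) (f' := f) (g' := g) inferInstance inferInstance rfl rfl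
  rw [eq_of_specializes_pair f g x y hgy ((pairMap f g x y).isEmbedding.isInducing.specializes_iff.mp hsp) hta]

end Groth.L07.AssTensor
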