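import Groth.Prelude.Def_BlowUp2
import Groth.Prelude.Def_CInt
import Groth.Agent.L02.Quot.RankLocus
import Groth.Agent.L16.QcqsPush
import Groth.Agent.L16.QCohSections
import Groth.Agent.L16.Devissage
import Groth.Agent.L16.AffineBC.Pullback
import Groth.Agent.L14.Quot.Lift
import Groth.Agent.L20.ResDescent
import Groth.Agent.L09.ModEt.Generators
import Groth.Agent.L13.Fitting.Torsion
import Groth.Agent.L20.Strat.Stratification
import Groth.Agent.L18.TildeFunctor

/-! Strict transforms along the blow-up of a Fitting ideal. -/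

set_option autoImplicit false
set_option linter.style.haveILetI false
set_option backward.isDefEq.respectTransparency.types false
set_option backward.isDefEq.respectTransparency false

universe u

open CategoryTheory CategoryTheory.Limits AlgebraicGeometry TopologicalSpace Opposite

noncomputable section

namespace Groth.L07.FittStrict

open Groth.L18.Frame (rs ro rs_rs ro_ro rs_smul rs_self ro_self)

variable {X : Scheme.{u}}

theorem ideal_congr' {R : Type u} [CommRing R] {M N : Type u} [AddCommGroup M] [Module R M] [AddCommGroup N]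
    [Module R N] (l : M ≃ₗ[R] N) (r : ℕ) : Fitt.ideal R M r = Fitt.ideal R N r := by
  have : ∀ {M N : Type u} [AddCommGroup M] [Module R M] [AddCommGroup N] [Module R N] (l : M ≃ₗ[R] N),
      Fitt.ideal R M r ≤ Fitt.ideal R N r := by
    intro M N _ _ _ _ l
    refine Ideal.span_le.2 ?_
    rintro _ ⟨n, x, a, hx, ha, rfl⟩
    refine Ideal.subset_span ⟨n, l ∘ x, a, ?_, fun i hi => ?_, rfl⟩
    · rw [Set.range_comp]
      exact (Submodule.map_span l.toLinearMap _).symm.trans (by rw [hx, Submodule.map_top, LinearEquiv.range])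
    · simp [← map_smul, ← map_sum, ha i hi]
  exact le_antisymm (this l) (this l.symm)

theorem sheafIdeal_congr {M N : X.Modules} (e : M ≅ N) (r : ℕ) :
    Fitt.sheafIdeal M r = Fitt.sheafIdeal N r := by
  unfold Fitt.sheafIdeal
  congr 1
  funext U
  let l : Γ(M, U.1) ≃ₗ[Γ(X, U.1)] Γ(N, U.1) :=
    { toFun := e.hom.app U.1
      map_add' := fun a b => map_add _ a b
      map_smul' := fun a m => Scheme.Modules.Hom.app_smul e.hom a m
      invFun := e.inv.app U.1
      left_inv := fun m => congrArg (fun φ : M ⟶ M => φ.app U.1 m) e.hom_inv_id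
      right_inv := fun m => congrArg (fun φ : N ⟶ N => φ.app U.1 m) e.inv_hom_id }
  exact ideal_congr' l r

theorem sheafIdeal_restrict (F : X.Modules) (hF : Coh.IsCoh F) (U : X.Opens) (r : ℕ) :
    Fitt.sheafIdeal (F.restrict U.ι) r = (Fitt.sheafIdeal F r).comap U.ι := by
  haveI := hF.1
  haveI := Groth.L16.AffineBC.isQCoh_pullback U.ι F
  rw [sheafIdeal_congr ((Scheme.Modules.restrictFunctorIsoPullback U.ι).app F) r]
  exact Groth.L02.Quot.sheafIdeal_pullback U.ι F hF ⟨inferInstance, Groth.L20.ResDescent.isFT_pullback _ _ hF.2⟩ r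

theorem isCoh_restrict (F : X.Modules) (hF : Coh.IsCoh F) (U : X.Opens) : Coh.IsCoh (F.restrict U.ι) := by
  haveI := hF.1
  exact ⟨Scheme.Modules.isQuasicoherent_restrictFunctor _ F,
    Groth.L14.Quot.isFT_of_epi ((Scheme.Modules.restrictFunctorIsoPullback U.ι).app F).inv
      (Groth.L20.ResDescent.isFT_pullback _ _ hF.2)⟩

theorem comap_eq_bot_of_isFinLocFreeOfRank (F : X.Modules) (hF : Coh.IsCoh F) {U : X.Opens} {k r : ℕ}
    (h : FlatMod.IsFinLocFreeOfRank k (F.restrict U.ι)) (hr : r < k) :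
    (Fitt.sheafIdeal F r).comap U.ι = ⊥ := by
  rw [← sheafIdeal_restrict F hF U r]
  exact ((Groth.L02.Quot.isFinLocFreeOfRank_iff_fitt _ (isCoh_restrict F hF U) k).1 h).1 r hr

theorem disjoint_support_of_isFinLocFreeOfRank (F : X.Modules) (hF : Coh.IsCoh F) {U : X.Opens} {k : ℕ}
    (h : FlatMod.IsFinLocFreeOfRank k (F.restrict U.ι)) :
    Disjoint ((Fitt.sheafIdeal F k).support : Set X) (U : Set X) := by
  rw [Set.disjoint_right]
  intro x hx hxs
  refine ((Groth.L02.Quot.isFinLocFreeOfRank_iff_fitt _ (isCoh_restrict F hF U) k).1 h).2 ⟨x, hx⟩ ?_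
  rw [sheafIdeal_restrict F hF U k, Scheme.IdealSheafData.support_comap]
  exact hxs

/-- an ideal sheaf vanishing on an open gives sections vanishing on it -/
theorem res_eq_zero_of_comap_eq_bot (J : X.IdealSheafData) {U : X.Opens} (h : J.comap U.ι = ⊥)
    (W V : X.affineOpens) (hWU : W.1 ≤ U) (hWV : W ≤ V) {d : Γ(X, V.1)} (hd : d ∈ J.ideal V) :
    (X.presheaf.map (homOfLE (show W.1 ≤ V.1 from hWV)).op).hom d = 0 := by
  have hmem : (X.presheaf.map (homOfLE (show W.1 ≤ V.1 from hWV)).op).hom d ∈ J.ideal W := by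
    rw [← J.map_ideal hWV]
    exact Ideal.mem_map_of_mem _ hd
  let W' : (U : Scheme.{u}).affineOpens :=
    ⟨U.ι ⁻¹ᵁ W.1, (U.ι.isAffineOpen_iff_of_isOpenImmersion).1 (by
      rw [U.ι.image_preimage_eq_opensRange_inf, Scheme.Opens.opensRange_ι, inf_eq_right.2 hWU]; exact W.2)⟩
  have himg : U.ι ''ᵁ W'.1 = W.1 := by
    rw [U.ι.image_preimage_eq_opensRange_inf, Scheme.Opens.opensRange_ι, inf_eq_right.2 hWU]
  have hJ := Scheme.IdealSheafData.ideal_comap_of_isOpenImmersion J U.ι W'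
  rw [h, Scheme.IdealSheafData.ideal_bot, Pi.bot_apply] at hJ
  let W'' : X.affineOpens := ⟨U.ι ''ᵁ W'.1, W'.2.image_of_isOpenImmersion U.ι⟩
  have hW'' : W'' = W := Subtype.ext himg
  have hz : ∀ e : Γ(X, W''.1), e ∈ J.ideal W'' → e = 0 := by
    intro e he
    have : (U.ι.appIso W'.1).hom.hom e ∈ (⊥ : Ideal _) := by
      rw [hJ, Ideal.mem_comap]
      convert he using 1
      exact Iso.hom_inv_id_apply (U.ι.appIso W'.1) e
    rw [Ideal.mem_bot] at this
    have h2 := congrArg (U.ι.appIso W'.1).inv.hom this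
    rw [map_zero] at h2
    exact (Iso.hom_inv_id_apply (U.ι.appIso W'.1) e).symm.trans h2
  revert hmem
  generalize (X.presheaf.map (homOfLE (show W.1 ≤ V.1 from hWV)).op).hom d = e
  revert e
  rw [← hW'']
  exact hz

/-- where the support misses the affine open the ideal is the unit ideal -/
theorem ideal_eq_top_of_disjoint (E : X.IdealSheafData) (V : X.affineOpens)
    (h : ∀ x ∈ V.1, x ∉ E.support) : E.ideal V = ⊤ := by
  by_contra hne
  obtain ⟨m, hm, hle⟩ := Ideal.exists_le_maximal _ hne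
  let q : PrimeSpectrum Γ(X, V.1) := ⟨m, hm.isPrime⟩
  have h1 : V.2.fromSpec q ∈ V.2.fromSpec '' PrimeSpectrum.zeroLocus (E.ideal V : Set Γ(X, V.1)) :=
    ⟨q, hle, rfl⟩
  rw [V.2.fromSpec_image_zeroLocus] at h1
  exact h _ h1.2 ((Scheme.IdealSheafData.mem_support_iff_of_mem h1.2).2 h1.1)

theorem basicOpen_disjoint (E : X.IdealSheafData) (V : X.affineOpens) (t : Γ(X, V.1))
    (hE : E.ideal V = Ideal.span {t}) {x : X} (hx : x ∈ X.basicOpen t) : x ∉ E.support := by
  intro hs
  rw [Scheme.IdealSheafData.mem_support_iff_of_mem (X.basicOpen_le t hx), hE,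
    Scheme.zeroLocus_span, Scheme.mem_zeroLocus_iff] at hs
  exact hs t rfl hx

section Strict

variable {S : Scheme.{u}} {b : X ⟶ S} {I : S.IdealSheafData} {F : S.Modules} {G : X.Modules}
  {π : (Scheme.Modules.pullback b).obj F ⟶ G}

set_option quotPrecheck false in
local notation "ℳ" => (Scheme.Modules.pullback b).obj F

/-- the kernel of the strict transform on an affine open where the exceptional ideal is principal -/
theorem app_eq_zero_iff (hG : BlowUp.IsStrictTransform b I F G π) (V : X.affineOpens) (t : Γ(X, V.1))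
    (hE : (BlowUp.exceptional b I).ideal V = Ideal.span {t}) (m : Γ(ℳ, V.1)) :
    π.app V.1 m = 0 ↔ ∃ n : ℕ, t ^ n • m = 0 := by
  rw [hG.2 V m]
  refine exists_congr fun n => ?_
  rw [Scheme.IdealSheafData.ideal_pow, Pi.pow_apply, hE, Ideal.span_singleton_pow]
  refine ⟨fun h => h _ (Ideal.mem_span_singleton_self _), fun h a ha => ?_⟩
  obtain ⟨c, rfl⟩ := Ideal.mem_span_singleton'.1 ha
  rw [← smul_smul, h, smul_zero]

theorem ideal_basicOpen_span (V : X.affineOpens) (t a : Γ(X, V.1)) (E : X.IdealSheafData)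
    (hE : E.ideal V = Ideal.span {t}) :
    E.ideal (X.affineBasicOpen a) = Ideal.span {ro (X.basicOpen_le a) t} := by
  rw [← E.map_ideal (U := X.affineBasicOpen a) (V := V) (X.basicOpen_le a), hE, Ideal.map_span,
    Set.image_singleton]
  rfl

theorem exists_chart (hb : BlowUp.IsEffCartierIdeal (BlowUp.exceptional b I)) (x : X) :
    ∃ (V : X.affineOpens) (t : Γ(X, V.1)), x ∈ V.1 ∧ t ∈ nonZeroDivisors Γ(X, V.1) ∧
      (BlowUp.exceptional b I).ideal V = Ideal.span {t} := by
  obtain ⟨V, hx, t, ht, hV⟩ := hb x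
  exact ⟨V, t, hx, ht, hV⟩

theorem isQCoh_strict (hF : Coh.IsQCoh F) (hb : BlowUp.IsEffCartierIdeal (BlowUp.exceptional b I))
    (hG : BlowUp.IsStrictTransform b I F G π) : Coh.IsQCoh G := by
  haveI := hF
  haveI : Coh.IsQCoh ℳ := Groth.L16.AffineBC.isQCoh_pullback b F
  haveI := hG.1
  have hker : Coh.IsQCoh (kernel π) := by
    refine Groth.L16.QcqsPush.isQCoh_of_sections _ fun x => ?_
    obtain ⟨V, t, hx, -, hE⟩ := exists_chart hb x
    refine ⟨V.1, hx, V.2, fun a => ⟨fun s => ?_, fun s hs => ?_⟩⟩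
    · let m : Γ(ℳ, X.basicOpen a) := (kernel.ι π).app (X.basicOpen a) s
      have hm : π.app (X.basicOpen a) m = 0 :=
        congrArg (fun φ : kernel π ⟶ G => φ.app (X.basicOpen a) s) (kernel.condition π)
      obtain ⟨n, hn⟩ := (app_eq_zero_iff hG (X.affineBasicOpen a) (ro (X.basicOpen_le a) t)
        (ideal_basicOpen_span V t a _ hE) m).1 hm
      obtain ⟨N, m', hm'⟩ := Groth.L16.QCohSect.exists_pow_smul_eq_res (M := ℳ) V.2 a m
      have h0 : rs ℳ (X.basicOpen_le a) (t ^ n • m') = 0 := by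
        rw [rs_smul, hm', smul_comm, show ro (X.basicOpen_le a) (t ^ n) = ro (X.basicOpen_le a) t ^ n from map_pow _ _ _]
        have hn' : ro (X.basicOpen_le a) t ^ n • m = 0 := hn
        rw [hn', smul_zero]
      obtain ⟨L, hL⟩ := Groth.L16.QCohSect.exists_pow_smul_eq_zero (M := ℳ) V.2 a _ h0
      have hk : π.app V.1 (a ^ L • m') = 0 :=
        (app_eq_zero_iff hG V t hE _).2 ⟨n, by rw [smul_comm]; exact hL⟩
      obtain ⟨z, hz⟩ := Groth.L09.ModGen.exists_kernel_lift π (Z := op V.1) (a ^ L • m') hk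
      refine ⟨L + N, z, Groth.L20.Strat.app_injective_of_mono (kernel.ι π) (X.basicOpen a) ?_⟩
      have hz' : (kernel.ι π).app V.1 z = a ^ L • m' := hz
      have hnat := congrArg (fun φ => φ z) ((kernel.ι π).mapPresheaf.naturality (homOfLE (X.basicOpen_le a)).op)
      refine (hnat.trans (congrArg (rs ℳ (X.basicOpen_le a)) hz')).trans ?_
      rw [rs_smul, hm', smul_smul, ← map_mul, ← pow_add]
      exact (Scheme.Modules.Hom.app_smul (kernel.ι π) _ s).symm
    · have h0 : rs ℳ (X.basicOpen_le a) ((kernel.ι π).app V.1 s) = 0 := by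
        have hnat := congrArg (fun φ => φ s) ((kernel.ι π).mapPresheaf.naturality (homOfLE (X.basicOpen_le a)).op)
        exact hnat.symm.trans ((congrArg ((kernel.ι π).app _) hs).trans (map_zero _))
      obtain ⟨n, hn⟩ := Groth.L16.QCohSect.exists_pow_smul_eq_zero (M := ℳ) V.2 a _ h0
      refine ⟨n, Groth.L20.Strat.app_injective_of_mono (kernel.ι π) V.1 ?_⟩
      rw [map_zero]
      exact (Scheme.Modules.Hom.app_smul (kernel.ι π) _ s).trans hn
  haveI := hker
  haveI : Coh.IsQCoh (cokernel (kernel.ι π)) := Groth.L16.Devissage.isQCoh_cokernel _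
  have hc : IsColimit (Cofork.ofπ (f := kernel.ι π) (g := 0) π (by simp)) :=
    Abelian.epiIsCokernelOfKernel (Fork.ofι (kernel.ι π) _) (kernelIsKernel π)
  exact (SheafOfModules.isQuasicoherent X.ringCatSheaf).prop_of_iso
    (IsColimit.coconePointUniqueUpToIso (cokernelIsCokernel (kernel.ι π)) hc)
    (show Coh.IsQCoh (cokernel (kernel.ι π)) from inferInstance)

theorem isCoh_strict (hF : Coh.IsCoh F) (hb : BlowUp.IsEffCartierIdeal (BlowUp.exceptional b I))
    (hG : BlowUp.IsStrictTransform b I F G π) : Coh.IsCoh G :=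
  haveI := hG.1
  ⟨isQCoh_strict hF.1 hb hG, Groth.L14.Quot.isFT_of_epi π (Groth.L20.ResDescent.isFT_pullback _ _ hF.2)⟩

/-- sections of the strict transform: the quotient by the torsion -/
theorem exists_quotient (hF : Coh.IsCoh F) (hb : BlowUp.IsEffCartierIdeal (BlowUp.exceptional b I))
    (hG : BlowUp.IsStrictTransform b I F G π) (V : X.affineOpens) (t : Γ(X, V.1))
    (hE : (BlowUp.exceptional b I).ideal V = Ideal.span {t}) :
    ∃ T : Submodule Γ(X, V.1) Γ(ℳ, V.1), (∀ m, m ∈ T ↔ ∃ n : ℕ, t ^ n • m = 0) ∧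
      Nonempty ((Γ(ℳ, V.1) ⧸ T) ≃ₗ[Γ(X, V.1)] Γ(G, V.1)) := by
  haveI := hF.1
  haveI : Coh.IsQCoh ℳ := Groth.L16.AffineBC.isQCoh_pullback b F
  haveI := isQCoh_strict hF.1 hb hG
  haveI := hG.1
  let l : Γ(ℳ, V.1) →ₗ[Γ(X, V.1)] Γ(G, V.1) :=
    { toFun := π.app V.1
      map_add' := fun a c => map_add _ a c
      map_smul' := fun a m => Scheme.Modules.Hom.app_smul π a m }
  exact ⟨LinearMap.ker l, fun m => app_eq_zero_iff hG V t hE m,
    ⟨l.quotKerEquivOfSurjective (Groth.L16.AffineBC.surjective_app_of_epi π V.2)⟩⟩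

end Strict

variable {S : Scheme.{u}} {b : X ⟶ S} {F : S.Modules} {G : X.Modules}
  {π : (Scheme.Modules.pullback b).obj F ⟶ G} {k : ℕ}

theorem ideal_pullback_eq (hF : Coh.IsCoh F) (r : ℕ) (V : X.affineOpens) :
    Fitt.ideal Γ(X, V.1) Γ((Scheme.Modules.pullback b).obj F, V.1) r =
      ((Fitt.sheafIdeal F r).comap b).ideal V := by
  haveI := hF.1
  haveI := Groth.L16.AffineBC.isQCoh_pullback b F
  have hc : Coh.IsCoh ((Scheme.Modules.pullback b).obj F) :=
    ⟨inferInstance, Groth.L20.ResDescent.isFT_pullback _ _ hF.2⟩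
  rw [← Groth.L02.Quot.sheafIdeal_pullback b F hF hc r, Groth.L15.FittSheaf.sheafIdeal_ideal _ hc.2]

theorem notMem_support_strict (hF : Coh.IsCoh F) (hb : BlowUp.IsBlowUp b (Fitt.sheafIdeal F k))
    (hG : BlowUp.IsStrictTransform b (Fitt.sheafIdeal F k) F G π) (x : X) :
    x ∉ (Fitt.sheafIdeal G k).support := by
  obtain ⟨V, t, hx, ht, hE⟩ := exists_chart hb.1 x
  obtain ⟨T, hT, ⟨e⟩⟩ := exists_quotient hF hb.1 hG V t hE
  haveI := hF.1
  haveI := Groth.L16.AffineBC.isQCoh_pullback b F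
  haveI := Groth.L20.ModStalk.finite_sections _
    (⟨inferInstance, Groth.L20.ResDescent.isFT_pullback b F hF.2⟩ : Coh.IsCoh _) V.2
  have hG' := isCoh_strict hF hb.1 hG
  haveI := hG'.1
  rw [Groth.L15.FittSheaf.notMem_support_iff G hG'.2 k hx, ← Groth.L13.Fitting.ideal_congr e k,
    Groth.L13.Fitting.ideal_quotient_eq_top' ht ((ideal_pullback_eq hF k V).trans hE) T
      (fun m hm => (hT m).2 ⟨1, by rwa [pow_one]⟩)]
  exact fun h => (V.2.primeIdealOf ⟨x, hx⟩).2.ne_top (top_le_iff.1 h)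

theorem isFinLocFreeOfRank_strict (hF : Coh.IsCoh F)
    (hfree : ∀ r < k, (Fitt.sheafIdeal F r).comap (Scheme.Opens.ι (Fitt.sheafIdeal F k).support.compl) = ⊥)
    (hb : BlowUp.IsBlowUp b (Fitt.sheafIdeal F k))
    (hG : BlowUp.IsStrictTransform b (Fitt.sheafIdeal F k) F G π) :
    FlatMod.IsFinLocFreeOfRank k G := by
  have hG' := isCoh_strict hF hb.1 hG
  refine (Groth.L02.Quot.isFinLocFreeOfRank_iff_fitt G hG' k).2
    ⟨fun r hr => ?_, notMem_support_strict hF hb hG⟩
  haveI := hF.1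
  haveI := Groth.L16.AffineBC.isQCoh_pullback b F
  haveI := hG'.1
  choose U t hxU ht hE using exists_chart hb.1
  refine Scheme.IdealSheafData.ext_of_iSup_eq_top (fun x : X => U x)
    (eq_top_iff.2 fun x _ => Opens.mem_iSup.2 ⟨x, hxU x⟩) fun x => ?_
  haveI := Groth.L20.ModStalk.finite_sections _
    (⟨inferInstance, Groth.L20.ResDescent.isFT_pullback b F hF.2⟩ : Coh.IsCoh _) (U x).2
  obtain ⟨T, hT, ⟨e⟩⟩ := exists_quotient hF hb.1 hG (U x) (t x) (hE x)
  rw [Scheme.IdealSheafData.ideal_bot, Pi.bot_apply, Groth.L15.FittSheaf.sheafIdeal_ideal G hG'.2,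
    ← Groth.L13.Fitting.ideal_congr e r]
  refine Groth.L13.Fitting.ideal_quotient_eq_bot (ht x) ?_ T (fun m hm => (hT m).1 hm)
  rw [ideal_pullback_eq hF r, eq_bot_iff]
  intro d hd
  rw [Ideal.mem_bot]
  set O := (Fitt.sheafIdeal F k).support.compl
  have hJ : ((Fitt.sheafIdeal F r).comap b).comap (b ⁻¹ᵁ O).ι = ⊥ := by
    rw [← Scheme.IdealSheafData.comap_comp, ← morphismRestrict_ι, Scheme.IdealSheafData.comap_comp, hfree r hr,
      Scheme.IdealSheafData.comap_bot]
  have hle : X.basicOpen (t x) ≤ b ⁻¹ᵁ O := by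
    intro y hy
    have := basicOpen_disjoint _ (U x) (t x) (hE x) hy
    rw [Scheme.IdealSheafData.support_comap] at this
    exact this
  have h0 := res_eq_zero_of_comap_eq_bot _ hJ (X.affineBasicOpen (t x)) (U x) hle (X.basicOpen_le (t x)) hd
  letI : Algebra Γ(X, (U x).1) Γ(X, X.basicOpen (t x)) :=
    (X.presheaf.map (homOfLE (X.basicOpen_le (t x))).op).hom.toAlgebra
  haveI : IsLocalization.Away (t x) Γ(X, X.basicOpen (t x)) := (U x).2.isLocalization_basicOpen (t x)
  obtain ⟨⟨_, n, rfl⟩, hn⟩ := (IsLocalization.map_eq_zero_iff (Submonoid.powers (t x))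
    Γ(X, X.basicOpen (t x)) d).1 h0
  exact (pow_mem (ht x) n).1 _ hn

theorem exists_epi_strict (hF : Coh.IsCoh F) (hb : BlowUp.IsBlowUp b (Fitt.sheafIdeal F k))
    (hG : BlowUp.IsStrictTransform b (Fitt.sheafIdeal F k) F G π) (x : X) :
    ∃ U : X.Opens, x ∈ U ∧ ∃ q : FlatMod.freeMod (↑U) k ⟶ G.restrict U.ι, Epi q := by
  have hG' := isCoh_strict hF hb.1 hG
  haveI := hG'.1
  obtain ⟨W, hW, hxW, φ, hφ⟩ :=
    Groth.L15.FittSheaf.exists_gens_of_notMem_support G hG'.2 (notMem_support_strict hF hb hG x)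
  obtain ⟨q, hq, -⟩ := Groth.L15.FittSheaf.exists_free_hom_of_sections G hW φ hφ
  exact ⟨hW.fromSpec.opensRange, by rw [hW.opensRange_fromSpec]; exact hxW, q, hq⟩

/-- the Fitting ideals below the rank vanish, for a module free over a schematically dense open -/
theorem sheafIdeal_eq_bot_of_dense {F : S.Modules} (hF : Coh.IsCoh F) {U : S.Opens}
    (hU : CInt.IsSchematicallyDense U) {r : ℕ} (hfree : FlatMod.IsFinLocFreeOfRank r (F.restrict U.ι))
    {j : ℕ} (hj : j < r) : Fitt.sheafIdeal F j = ⊥ := by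
  refine Scheme.IdealSheafData.ext_of_iSup_eq_top (fun V : S.affineOpens => V)
    (iSup_affineOpens_eq_top S) fun V => ?_
  rw [Scheme.IdealSheafData.ideal_bot, Pi.bot_apply, eq_bot_iff]
  intro d hd
  rw [Ideal.mem_bot]
  refine hU V.1 ?_
  rw [map_zero]
  refine TopCat.Presheaf.section_ext S.sheaf (V.1 ⊓ U) _ 0 fun x hx => ?_
  obtain ⟨_, ⟨W, hW, rfl⟩, hxW, hWU⟩ := S.isBasis_affineOpens.exists_subset_of_mem_open hx (V.1 ⊓ U).2
  have h0 := res_eq_zero_of_comap_eq_bot _ (comap_eq_bot_of_isFinLocFreeOfRank F hF hfree hj)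
    ⟨W, hW⟩ V (fun y hy => (hWU hy).2) (fun y hy => (hWU hy).1) hd
  refine Eq.trans ?_ (map_zero _).symm
  refine (TopCat.Presheaf.germ_res_apply _ _ x hx d).trans ?_
  refine (TopCat.Presheaf.germ_res_apply S.presheaf
    (homOfLE (fun y hy => (hWU hy).1 : W ≤ V.1)) x hxW d).symm.trans ?_
  exact (congrArg _ h0).trans (map_zero _)

theorem isFinLocFreeOfRank_of_dense {F : S.Modules} (hF : Coh.IsCoh F) {U : S.Opens}
    (hU : CInt.IsSchematicallyDense U) {r : ℕ} (hfree : FlatMod.IsFinLocFreeOfRank r (F.restrict U.ι)) :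
    ∀ j < r, (Fitt.sheafIdeal F j).comap (Scheme.Opens.ι (Fitt.sheafIdeal F r).support.compl) = ⊥ := by
  intro j hj
  rw [sheafIdeal_eq_bot_of_dense hF hU hfree hj, Scheme.IdealSheafData.comap_bot]

theorem isZero_kernel_restrict (hG : BlowUp.IsStrictTransform b (Fitt.sheafIdeal F k) F G π)
    (U : S.Opens) (hU : Disjoint ((Fitt.sheafIdeal F k).support : Set S) (U : Set S)) :
    IsZero ((kernel π).restrict (b ⁻¹ᵁ U).ι) := by
  have hz : ∀ (W : X.Opens), W ≤ b ⁻¹ᵁ U → ∀ z : Γ(kernel π, W), z = 0 := by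
    intro W hW z
    refine Groth.L20.Strat.app_injective_of_mono (kernel.ι π) W ?_
    rw [map_zero]
    set m := (kernel.ι π).app W z
    refine TopCat.Presheaf.section_ext ((SheafOfModules.toSheaf _).obj ((Scheme.Modules.pullback b).obj F)) W m 0
      fun x hx => ?_
    obtain ⟨_, ⟨V, hV, rfl⟩, hxV, hVW⟩ := X.isBasis_affineOpens.exists_subset_of_mem_open hx W.2
    have hm : π.app V (rs _ hVW m) = 0 := by
      have hnat := congrArg (fun φ => φ m) (π.mapPresheaf.naturality (homOfLE (show V ≤ W from hVW)).op)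
      refine hnat.trans ((congrArg (rs G (show V ≤ W from hVW)) ?_).trans (map_zero _))
      exact congrArg (fun φ : kernel π ⟶ G => φ.app W z) (kernel.condition π)
    obtain ⟨n, hn⟩ := (hG.2 ⟨V, hV⟩ _).1 hm
    have htop : ((BlowUp.exceptional b (Fitt.sheafIdeal F k)) ^ n).ideal ⟨V, hV⟩ = ⊤ := by
      rw [Scheme.IdealSheafData.ideal_pow, Pi.pow_apply, ideal_eq_top_of_disjoint, Ideal.top_pow]
      intro y hy
      rw [Scheme.IdealSheafData.support_comap]
      exact fun h => Set.disjoint_left.1 hU h (hW (hVW hy))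
    have hzero : rs _ (show V ≤ W from hVW) m = 0 := by
      simpa using hn 1 (htop ▸ Submodule.mem_top)
    exact (TopCat.Presheaf.germ_res_apply _ (homOfLE (show V ≤ W from hVW)) x hxV m).symm.trans
      ((congrArg _ hzero).trans ((map_zero _).trans (map_zero _).symm))
  rw [IsZero.iff_id_eq_zero]
  ext W z
  exact (hz _ (by
    refine ((b ⁻¹ᵁ U).ι.image_mono le_top).trans ?_
    rw [Scheme.Opens.ι_image_top]) z)

end Groth.L07.FittStrict
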