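import Groth.Agent.L07.GrFlat
import Mathlib.RingTheory.Filtration
import Mathlib.RingTheory.Flat.Localization
import Mathlib.RingTheory.TensorProduct.Quotient

/-! Models of adic filtrations of finitely presented modules. -/

namespace Groth.L07.FlatDescent

open MvPolynomial TensorProduct

set_option linter.style.haveILetI false

universe u

/-- An extension of flat modules is flat. -/
theorem flat_of_shortExact {R : Type u} [CommRing R] {M₁ M₂ M₃ : Type u} [AddCommGroup M₁]
    [AddCommGroup M₂] [AddCommGroup M₃] [Module R M₁] [Module R M₂] [Module R M₃]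
    (f : M₁ →ₗ[R] M₂) (g : M₂ →ₗ[R] M₃) (hf : Function.Injective f) (hg : Function.Surjective g)
    (he : Function.Exact f g) [Module.Flat R M₁] [Module.Flat R M₃] : Module.Flat R M₂ := by
  rw [Module.Flat.iff_lTensor_injective]
  intro I _
  rw [injective_iff_map_eq_zero]
  intro z hz
  have inj : ∀ (X : Type u) [AddCommGroup X] [Module R X] [Module.Flat R X],
      Function.Injective (I.subtype.lTensor X) := fun X _ _ _ =>
    Module.Flat.lTensor_preserves_injective_linearMap _ I.injective_subtype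
  have h3 : g.rTensor I z = 0 := inj M₃ (by
    rw [map_zero, ← LinearMap.comp_apply, LinearMap.lTensor_comp_rTensor,
      ← LinearMap.rTensor_comp_lTensor, LinearMap.comp_apply, hz, map_zero])
  obtain ⟨z₁, rfl⟩ := (rTensor_exact I he hg z).mp h3
  have h1 : I.subtype.lTensor M₁ z₁ = 0 := by
    have hR : Function.Injective (f.rTensor R) :=
      Module.Flat.rTensor_preserves_injective_linearMap _ hf
    refine hR ?_
    rw [map_zero, ← LinearMap.comp_apply, LinearMap.rTensor_comp_lTensor,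
      ← LinearMap.lTensor_comp_rTensor, LinearMap.comp_apply, hz]
  rw [inj M₁ (h1.trans (map_zero _).symm), map_zero]

variable {d n : ℕ}

/-- The ideal of the variables of positive weight. -/
noncomputable def QQ (w : Fin d → ℕ) (C : Type u) [CommRing C] : Ideal (MvPolynomial (Fin d) C) :=
  Ideal.span (X '' {a | w a ≠ 0})

/-- Vectors of order at least `k`. -/
noncomputable def Hi (w : Fin d → ℕ) (n : ℕ) (C : Type u) [CommRing C] (k : ℕ) :
    Submodule (MvPolynomial (Fin d) C) (F d n C) := QQ w C ^ k • ⊤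

variable {w : Fin d → ℕ}

theorem wt_eq (e : Fin n × (Fin d →₀ ℕ)) : wt w e = Finsupp.weight w e.2 := rfl

section

variable {C : Type u} [CommRing C] (hw : ∀ a, w a ≤ 1)

include hw in
theorem monomial_mem_QQ (m : Fin d →₀ ℕ) : monomial m (1 : C) ∈ QQ w C ^ Finsupp.weight w m := by
  induction m using Finsupp.induction with
  | zero => simp
  | single_add a b m _ _ ih =>
    have h1 : monomial (Finsupp.single a b + m) (1 : C) = X a ^ b * monomial m 1 := by
      rw [X_pow_eq_monomial, monomial_mul, one_mul]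
    rw [h1, map_add, pow_add]
    refine Ideal.mul_mem_mul ?_ ih
    rw [Finsupp.weight_apply, Finsupp.sum_single_index (by simp), smul_eq_mul]
    rcases Nat.le_one_iff_eq_zero_or_eq_one.mp (hw a) with h0 | h1
    · rw [h0, mul_zero, pow_zero, Ideal.one_eq_top]; trivial
    · rw [h1, mul_one]
      exact Ideal.pow_mem_pow (Ideal.subset_span (Set.mem_image_of_mem X (show a ∈ {a | w a ≠ 0} by simp [h1]))) b

include hw in
theorem em_mem_Hi {k : ℕ} {e : Fin n × (Fin d →₀ ℕ)} (he : k ≤ wt w e) : em e ∈ Hi w n C k := by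
  classical
  have : em e = monomial e.2 (1 : C) • (Pi.single e.1 1 : F d n C) := by
    funext i
    by_cases hi : i = e.1
    · subst hi; simp [em, Pi.single_eq_same]
    · simp [em, Pi.single_eq_of_ne hi]
  rw [this]
  exact Submodule.smul_mem_smul (Ideal.pow_le_pow_right (he.trans_eq (wt_eq e)) (monomial_mem_QQ hw _))
    trivial

theorem co_eq_zero_of_mem_Hi {k : ℕ} {y : F d n C} (hy : y ∈ Hi w n C k) {e} (he : wt w e < k) :
    co y e = 0 := by
  induction k generalizing y e with
  | zero => exact absurd he (Nat.not_lt_zero _)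
  | succ k ih =>
    rw [Hi, pow_succ', Submodule.mul_smul] at hy
    refine Submodule.smul_induction_on (p := fun y => ∀ e, wt w e < k + 1 → co y e = 0) hy
      (fun q hq z hz => ?_) (fun a b ha hb e he => by rw [co_add, ha e he, hb e he, add_zero]) e he
    refine Submodule.span_induction (p := fun q _ => ∀ z ∈ QQ w C ^ k • (⊤ : Submodule _ (F d n C)),
      ∀ e, wt w e < k + 1 → co (q • z) e = 0) ?_ (fun z _ e _ => by rw [zero_smul, co_zero]) ?_ ?_ hq z hz
    · rintro _ ⟨a, ha, rfl⟩ z hz e he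
      rw [co_X_smul]
      by_cases hea : e.2 a = 0
      · rw [if_pos hea]
      rw [if_neg hea]
      refine ih hz ?_
      have hle : Finsupp.single a 1 ≤ e.2 := Finsupp.single_le_iff.mpr (Nat.pos_of_ne_zero hea)
      have hwt : wt w e = wt w (e.1, e.2 - Finsupp.single a 1) + w a := by
        conv_lhs => rw [wt, ← tsub_add_cancel_of_le hle, map_add]
        simp [wt, Finsupp.weight_apply, smul_eq_mul]
      have : w a ≠ 0 := ha
      omega
    · intro p q _ _ hp hq z hz e he
      rw [add_smul, co_add, hp z hz e he, hq z hz e he, add_zero]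
    · intro p q _ hq z hz e he
      rw [smul_eq_mul, mul_comm, mul_smul]
      exact hq _ (Submodule.smul_mem _ p hz) e he

theorem Hi_anti {k l : ℕ} (hkl : k ≤ l) : Hi w n C l ≤ Hi w n C k :=
  Submodule.smul_mono_left (Ideal.pow_le_pow_right hkl)

end

variable {R : Type u} [CommRing R]

theorem KC_sup (C : Type u) [CommRing C] [Algebra R C]
    (K K' : Submodule (MvPolynomial (Fin d) R) (F d n R)) : KC C (K ⊔ K') = KC C K ⊔ KC C K' := by
  refine le_antisymm ?_ (sup_le (KC_mono le_sup_left) (KC_mono le_sup_right))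
  rw [KC, Submodule.span_le]
  rintro _ ⟨y, hy, rfl⟩
  obtain ⟨a, ha, b, hb, rfl⟩ := Submodule.mem_sup.mp hy
  rw [SetLike.mem_coe, map_add]
  exact Submodule.add_mem_sup (ψ_mem K ha) (ψ_mem K' hb)

theorem KC_Hi (hw : ∀ a, w a ≤ 1) (C : Type u) [CommRing C] [Algebra R C] (k : ℕ) :
    KC C (Hi w n R k) = (Hi w n C k).restrictScalars C := by
  apply le_antisymm
  · rw [KC, Submodule.span_le]
    rintro _ ⟨y, hy, rfl⟩
    rw [SetLike.mem_coe, Submodule.restrictScalars_mem, ← sum_em (Finset.Subset.refl (supp y)),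
      map_sum]
    refine Submodule.sum_mem _ fun e _ => ?_
    rw [map_smul, ψ_em, ← algebraMap_smul C (co y e)]
    by_cases he : wt w e < k
    · rw [co_eq_zero_of_mem_Hi hy he, map_zero, zero_smul]; exact zero_mem _
    · exact Submodule.smul_of_tower_mem _ _ (em_mem_Hi hw (not_lt.mp he))
  · intro y hy
    rw [← sum_em (Finset.Subset.refl (supp y))]
    refine Submodule.sum_mem _ fun e _ => ?_
    by_cases he : wt w e < k
    · rw [co_eq_zero_of_mem_Hi hy he, zero_smul]; exact zero_mem _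
    · exact Submodule.smul_mem _ _ (ψ_em (R := R) C e ▸ ψ_mem _ (em_mem_Hi hw (not_lt.mp he)))

theorem isFil_sup_Hi (hw : ∀ a, w a ≤ 1) (K : Submodule (MvPolynomial (Fin d) R) (F d n R)) :
    IsFil w (fun k => K ⊔ Hi w n R k) where
  zero := by
    show K ⊔ Hi w n R 0 = ⊤
    rw [Hi, pow_zero, Ideal.one_eq_top, Submodule.top_smul, sup_top_eq]
  anti k := sup_le_sup_left (Hi_anti (Nat.le_add_right k 1)) _
  high k e he := Submodule.mem_sup_right (em_mem_Hi hw he)
  gr k y hy := by
    obtain ⟨a, ha, b, hb, rfl⟩ := Submodule.mem_sup.mp hy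
    refine ⟨b, ?_⟩
    rw [add_sub_assoc]
    refine Submodule.add_mem_sup ha ?_
    rw [← sum_em (Finset.Subset.refl (supp (b - E w k b)))]
    refine Submodule.sum_mem _ fun e _ => ?_
    by_cases he : wt w e < k + 1
    · have : co (b - E w k b) e = 0 := by
        rw [co_sub, co_E]
        rcases Nat.lt_succ_iff_lt_or_eq.mp he with h' | h'
        · rw [if_neg (by omega), co_eq_zero_of_mem_Hi hb h', sub_zero]
        · rw [if_pos h', sub_self]
      rw [this, zero_smul]; exact zero_mem _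
    · exact Submodule.smul_of_tower_mem _ _ (em_mem_Hi hw (not_lt.mp he))
  mul a k y hy := by
    obtain ⟨p, hp, q, hq, rfl⟩ := Submodule.mem_sup.mp hy
    rw [smul_add]
    refine Submodule.add_mem_sup (K.smul_mem _ hp) ?_
    rcases Nat.le_one_iff_eq_zero_or_eq_one.mp (hw a) with h0 | h1
    · rw [h0, add_zero]; exact Submodule.smul_mem _ _ hq
    · rw [h1, Hi, pow_succ', Submodule.mul_smul]
      exact Submodule.smul_mem_smul (Ideal.subset_span (Set.mem_image_of_mem X (show a ∈ {a | w a ≠ 0} by simp [h1]))) hq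

/-- The model of the filtration. -/
theorem exists_adic_model (A₀ : Type u) [CommRing A₀] {B₀ : Type u} [CommRing B₀] [Algebra A₀ B₀]
    [Algebra.FinitePresentation A₀ B₀] (J₀ : Ideal B₀) (hJ₀ : J₀.FG) (M₀ : Type u) [AddCommGroup M₀]
    [Module B₀ M₀] [Module A₀ M₀] [IsScalarTower A₀ B₀ M₀] [Module.FinitePresentation B₀ M₀] :
    ∃ (d n : ℕ) (w : Fin d → ℕ) (_ : ∀ a, w a ≤ 1) (R : Subalgebra ℤ A₀) (_ : IsNoetherianRing R)
      (K : Submodule (MvPolynomial (Fin d) R) (F d n R)) (φ : MvPolynomial (Fin d) A₀ →ₐ[A₀] B₀)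
      (π : F d n A₀ →ₗ[A₀] M₀), Function.Surjective φ ∧ Function.Surjective π ∧
      (∀ (p : MvPolynomial (Fin d) A₀) y, π (p • y) = φ p • π y) ∧
      LinearMap.ker π = KC A₀ K ∧ (∀ x ∈ QQ w A₀, φ x ∈ J₀) ∧
      ∀ k, (KC A₀ (K ⊔ Hi w n R k)).map π =
        (J₀ ^ k • (⊤ : Submodule B₀ M₀)).restrictScalars A₀ := by
  classical
  obtain ⟨dX, φ', hφ', -⟩ := Algebra.FinitePresentation.out (R := A₀) (A := B₀)
  obtain ⟨r, j, hj⟩ := Submodule.fg_iff_exists_fin_generating_family.mp hJ₀
  let c : Fin (dX + r) → B₀ := Fin.append (fun a => φ' (X a)) j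
  let w : Fin (dX + r) → ℕ := Fin.append (fun _ => 0) (fun _ => 1)
  have hw : ∀ a, w a ≤ 1 := fun a => by
    refine Fin.addCases (fun i => ?_) (fun i => ?_) a <;> simp [w]
  let φ : MvPolynomial (Fin (dX + r)) A₀ →ₐ[A₀] B₀ := aeval c
  have hφ : Function.Surjective φ := fun b => by
    obtain ⟨p, rfl⟩ := hφ' b
    refine ⟨rename (Fin.castAdd r) p, ?_⟩
    rw [aeval_rename]
    have : c ∘ Fin.castAdd r = fun a => φ' (X a) := funext fun a => by simp [c]
    rw [this]
    exact (DFunLike.congr_fun (MvPolynomial.aeval_unique φ') p).symm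
  have hQ : (QQ w A₀).map φ = J₀ := by
    rw [QQ, Ideal.map_span, ← hj, ← Ideal.submodule_span_eq]
    refine congrArg _ (Set.ext fun b => ⟨?_, ?_⟩)
    · rintro ⟨_, ⟨a, ha, rfl⟩, rfl⟩
      revert ha
      refine Fin.addCases (fun i => ?_) (fun i => ?_) a
      · intro hi; simp [w] at hi
      · intro _; exact ⟨i, by simp [φ, c]⟩
    · rintro ⟨i, rfl⟩
      exact ⟨_, ⟨Fin.natAdd dX i, by simp [w], rfl⟩, by simp [φ, c]⟩
  letI := φ.toRingHom.toAlgebra
  haveI : IsScalarTower A₀ (MvPolynomial (Fin (dX + r)) A₀) B₀ :=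
    IsScalarTower.of_algebraMap_eq fun a => (φ.commutes a).symm
  haveI : Module.FinitePresentation (MvPolynomial (Fin (dX + r)) A₀) B₀ :=
    Module.finitePresentation_of_surjective (Algebra.linearMap _ B₀) hφ
      (Algebra.FinitePresentation.ker_fG_of_surjective φ hφ)
  letI : Module (MvPolynomial (Fin (dX + r)) A₀) M₀ := Module.compHom M₀ φ.toRingHom
  haveI : IsScalarTower (MvPolynomial (Fin (dX + r)) A₀) B₀ M₀ :=
    ⟨fun p b m => by rw [Algebra.smul_def, mul_smul]; rfl⟩
  haveI : IsScalarTower A₀ (MvPolynomial (Fin (dX + r)) A₀) M₀ :=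
    ⟨fun a p m => by
      show φ (a • p) • m = a • φ p • m
      rw [map_smul, smul_assoc]⟩
  haveI : Module.FinitePresentation (MvPolynomial (Fin (dX + r)) A₀) M₀ :=
    Module.FinitePresentation.trans (MvPolynomial (Fin (dX + r)) A₀) M₀ B₀
  obtain ⟨n, L, e, hL⟩ := Module.FinitePresentation.exists_fin (MvPolynomial (Fin (dX + r)) A₀) M₀
  let π₀ : F (dX + r) n A₀ →ₗ[MvPolynomial (Fin (dX + r)) A₀] M₀ := e.symm.toLinearMap ∘ₗ L.mkQ
  let π : F (dX + r) n A₀ →ₗ[A₀] M₀ := π₀.restrictScalars A₀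
  have hπ : Function.Surjective π := e.symm.surjective.comp (Submodule.mkQ_surjective L)
  have hπsmul : ∀ (p : MvPolynomial (Fin (dX + r)) A₀) y, π (p • y) = φ p • π y := fun p y =>
    map_smul π₀ p y
  have hkerπ : LinearMap.ker π = L.restrictScalars A₀ := by
    ext y
    simp [π, π₀, Submodule.Quotient.mk_eq_zero]
  obtain ⟨G, hG⟩ := hL
  let W : Finset A₀ := G.biUnion fun y => (supp y).image (co y)
  let R := Algebra.adjoin ℤ (W : Set A₀)
  haveI : IsNoetherianRing R := by
    haveI : Algebra.FiniteType ℤ R := R.fg_iff_finiteType.mp ⟨W, rfl⟩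
    exact Algebra.FiniteType.isNoetherianRing ℤ R
  have hlift : ∀ y ∈ G, ∃ z : F (dX + r) n R, ψ A₀ z = y := by
    intro y hy
    have : ∀ i, y i ∈ Set.range (MvPolynomial.map (algebraMap R A₀)) := fun i => by
      rw [MvPolynomial.mem_range_map_iff_coeffs_subset]
      intro c hc
      obtain ⟨m, hm, rfl⟩ := MvPolynomial.mem_coeffs_iff.mp hc
      exact ⟨⟨_, Algebra.subset_adjoin (Finset.mem_biUnion.mpr ⟨y, hy, Finset.mem_image.mpr
        ⟨(i, m), Finset.mem_biUnion.mpr ⟨i, Finset.mem_univ _, Finset.mem_map.mpr ⟨m, hm, rfl⟩⟩,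
          rfl⟩⟩)⟩, rfl⟩
    choose z hz using this
    exact ⟨z, funext hz⟩
  choose! z hz using hlift
  let K : Submodule (MvPolynomial (Fin (dX + r)) R) (F (dX + r) n R) := Submodule.span _ (z '' G)
  have hKL : (KC A₀ K : Submodule A₀ (F (dX + r) n A₀)) = L.restrictScalars A₀ := by
    apply le_antisymm
    · rw [KC, Submodule.span_le]
      rintro _ ⟨k, hk, rfl⟩
      refine Submodule.span_induction (p := fun k _ => ψ A₀ k ∈ L) ?_ (by simp) ?_ ?_ hk
      · rintro _ ⟨y, hy, rfl⟩
        rw [hz y hy, ← hG]; exact Submodule.subset_span hy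
      · intro a b _ _ ha hb; rw [map_add]; exact add_mem ha hb
      · intro c a _ ha; rw [ψ_poly_smul]; exact L.smul_mem _ ha
    · intro y hy
      rw [Submodule.restrictScalars_mem, ← hG] at hy
      refine (Submodule.span_le (p := KP (C := A₀) K)).mpr ?_ hy
      intro g hg
      rw [← hz g hg]
      exact ψ_mem K (Submodule.subset_span ⟨g, hg, rfl⟩)
  refine ⟨dX + r, n, w, hw, R, inferInstance, K, φ, π, hφ, hπ, hπsmul, hkerπ.trans hKL.symm,
    fun x hx => hQ ▸ Ideal.mem_map_of_mem φ hx, fun k => ?_⟩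
  rw [KC_sup, Submodule.map_sup, hKL, ← hkerπ,
    show (LinearMap.ker π).map π = ⊥ from eq_bot_iff.mpr (by
      rintro _ ⟨y, hy, rfl⟩; simpa using hy), bot_sup_eq, KC_Hi hw]
  apply le_antisymm
  · rintro _ ⟨y, hy, rfl⟩
    refine Submodule.smul_induction_on (show y ∈ Hi w n A₀ k from hy) (fun q hq m _ => ?_)
      (fun a b ha hb => by rw [map_add]; exact add_mem ha hb)
    rw [hπsmul]
    have : φ q ∈ J₀ ^ k := by
      rw [← hQ, ← Ideal.map_pow]; exact Ideal.mem_map_of_mem φ hq
    exact (Submodule.restrictScalars_mem A₀ (J₀ ^ k • (⊤ : Submodule B₀ M₀)) _).mpr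
      (Submodule.smul_mem_smul this (Submodule.mem_top (R := B₀)))
  · intro m hm
    refine Submodule.smul_induction_on (show m ∈ J₀ ^ k • (⊤ : Submodule B₀ M₀) from hm)
      (fun b hb x _ => ?_) (fun _ _ => add_mem)
    rw [← hQ, ← Ideal.map_pow] at hb
    obtain ⟨q, hq, rfl⟩ := (Ideal.mem_map_iff_of_surjective φ hφ).mp hb
    obtain ⟨y, rfl⟩ := hπ x
    exact ⟨q • y, Submodule.smul_mem_smul hq trivial, hπsmul q y⟩

/-- The truncations after scalar extension. -/
theorem exists_truncEquiv {A₀ : Type u} [CommRing A₀] [Algebra R A₀] {M₀ : Type u} [AddCommGroup M₀]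
    [Module A₀ M₀] (π : F d n A₀ →ₗ[A₀] M₀) (hπ : Function.Surjective π)
    (K : Submodule (MvPolynomial (Fin d) R) (F d n R)) (hK : LinearMap.ker π ≤ KC A₀ K)
    (N : Submodule A₀ M₀) (hN : (KC A₀ K).map π = N) (C : Type u) [CommRing C] [Algebra A₀ C]
    [Algebra R C] [IsScalarTower R A₀ C] :
    Nonempty (((C ⊗[A₀] M₀) ⧸ LinearMap.range (N.subtype.baseChange C)) ≃ₗ[C] MC C K) := by
  let π₁ : F d n A₀ →ₗ[A₀] M₀ ⧸ N := N.mkQ ∘ₗ π
  have hπ₁ : Function.Surjective π₁ := (Submodule.mkQ_surjective N).comp hπ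
  have hker : LinearMap.ker π₁ = KC A₀ K := by
    rw [LinearMap.ker_comp, Submodule.ker_mkQ, ← hN, Submodule.comap_map_eq, sup_eq_left.mpr hK]
  let e : (M₀ ⧸ N) ≃ₗ[A₀] MC A₀ K :=
    (π₁.quotKerEquivOfSurjective hπ₁).symm ≪≫ₗ Submodule.quotEquivOfEq _ _ hker
  obtain ⟨e'⟩ := exists_modelEquiv K e C
  have hex : Function.Exact (N.subtype.baseChange C) (N.mkQ.baseChange C) := by
    intro x
    rw [LinearMap.baseChange_eq_ltensor, LinearMap.baseChange_eq_ltensor]
    exact lTensor_exact C (LinearMap.exact_subtype_mkQ N) (Submodule.mkQ_surjective N) x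
  have hsurj : Function.Surjective (N.mkQ.baseChange C) := by
    rw [LinearMap.baseChange_eq_ltensor]
    exact LinearMap.lTensor_surjective C (Submodule.mkQ_surjective N)
  exact ⟨hex.linearEquivOfSurjective hsurj ≪≫ₗ e'⟩

end Groth.L07.FlatDescent
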