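import Groth.Agent.L12.RegLift
import Groth.Agent.L05.Kosz.Tor
import Groth.Agent.L28.TorBC
import Groth.Prelude.Def_DRing2
import Mathlib.RingTheory.Flat.CategoryTheory
import Mathlib.RingTheory.Ideal.Height
import Mathlib.RingTheory.TensorProduct.Quotient

/-!
Proper intersections in a Cohen-Macaulay local ring: regularity and vanishing of Tor; Tor and flat
base change.
-/

set_option autoImplicit false
set_option linter.style.haveILetI false
set_option maxSynthPendingDepth 3

universe u

open CategoryTheory CategoryTheory.Limits MonoidalCategory RingTheory.Sequence IsLocalRing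
open scoped TensorProduct

namespace Groth.L07.CMInterAlg

/-- Chains above a prime of height `≥ n` can be extended downwards by `n` steps. -/
theorem ringKrullDim_quotient_add_le {R : Type u} [CommRing R] (J : Ideal R) (n : ℕ)
    (h : ∀ (P : Ideal R) [P.IsPrime], J ≤ P → (n : ℕ∞) ≤ P.height) :
    ringKrullDim (R ⧸ J) + n ≤ ringKrullDim R := by
  rw [ringKrullDim_quotient]
  let V := PrimeSpectrum.zeroLocus (R := R) J
  rcases isEmpty_or_nonempty ↥V with hV | hV
  · rw [Order.krullDim_eq_bot_iff.mpr hV, WithBot.bot_add]; exact bot_le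
  by_cases htop : Order.krullDim (PrimeSpectrum R) = ⊤
  · exact le_top.trans htop.ge
  haveI : FiniteDimensionalOrder (PrimeSpectrum R) := by
    haveI : Nonempty (PrimeSpectrum R) := hV.map Subtype.val
    exact Order.finiteDimensionalOrder_iff_krullDim_ne_bot_and_top.mpr ⟨Order.krullDim_ne_bot_iff.mpr inferInstance, htop⟩
  have hmain : ∀ l : LTSeries V, ((l.length + n : ℕ) : WithBot ℕ∞) ≤ Order.krullDim (PrimeSpectrum R) := by
    intro l
    let l' := l.map Subtype.val fun _ _ h => h
    have hh := h l.head.1.asIdeal l.head.2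
    rw [show l.head.1.asIdeal.height = Order.height l.head.1 from PrimeSpectrum.height_eq_orderHeight l.head.1] at hh
    obtain ⟨p, hp, hlen⟩ := Order.exists_series_of_le_height (l.head.1 : PrimeSpectrum R)
      (n := n) hh
    have := Order.LTSeries.length_le_krullDim (p.smash l' hp)
    have e : (p.smash l' hp).length = p.length + l.length := rfl
    rw [e, hlen, add_comm] at this
    exact this
  haveI : FiniteDimensionalOrder V := by
    refine Order.finiteDimensionalOrder_iff_krullDim_ne_bot_and_top.mpr ⟨Order.krullDim_ne_bot_iff.mpr hV, ?_⟩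
    exact ((Order.krullDim_le_of_strictMono (fun x : V => x.1) fun _ _ h => h).trans_lt
      (lt_top_iff_ne_top.mpr htop)).ne
  calc Order.krullDim V + (n : WithBot ℕ∞)
      = (((LTSeries.longestOf V).length + n : ℕ) : WithBot ℕ∞) := by
        rw [Order.krullDim_eq_length_of_finiteDimensionalOrder, Nat.cast_add]
    _ ≤ _ := hmain _

/-- In a Cohen-Macaulay local ring, a sequence generating an ideal of height at least its length is
regular. -/
theorem isWeaklyRegular_of_le_height {R : Type u} [CommRing R] [LocCoh.IsCohenMacaulayLocalRing R]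
    (xs : List R) (hxs : ∀ x ∈ xs, x ∈ maximalIdeal R)
    (h : ∀ (P : Ideal R) [P.IsPrime], Ideal.ofList xs ≤ P → (xs.length : ℕ∞) ≤ P.height) :
    IsWeaklyRegular R xs := by
  refine Groth.L12.RegLift.isWeaklyRegular_of_dim xs hxs
    (le_antisymm (ringKrullDim_quotient_add_le _ _ h) ?_)
  haveI := (inferInstance : IsLocalRing R).toNontrivial
  have hI : Ideal.ofList xs ≠ ⊤ :=
    ne_top_of_le_ne_top (maximalIdeal.isMaximal R).ne_top (Ideal.span_le.2 hxs)
  have hmod : LocCoh.IsCohenMacaulayModule R R := LocCoh.IsCohenMacaulayLocalRing.supportDim_eq_depth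
  have h2 := Groth.L04.supportDim_eq_add_idealDepth hI hmod
  rw [Module.supportDim_self_eq_ringKrullDim, smul_eq_mul, Ideal.mul_top,
    Module.supportDim_quotient_eq_ringKrullDim] at h2
  rw [h2]
  refine add_le_add le_rfl ?_
  rw [← WithBot.coe_natCast, WithBot.coe_le_coe]
  exact Groth.L04.idealDepth_ofList_le_length xs hxs

/-- `Tor` of the quotients by two sequences whose concatenation is weakly regular vanishes in
positive degrees. -/
theorem subsingleton_tor_of_regular {R : Type u} [CommRing R] (as bs : List R)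
    (ha : IsWeaklyRegular R as) (hab : IsWeaklyRegular R (bs ++ as)) (i : ℕ) (hi : 0 < i) :
    Subsingleton (DRing.Tor R i (R ⧸ Ideal.ofList as) (R ⧸ Ideal.ofList bs)) := by
  rw [← Module.length_eq_zero_iff (R := R), Groth.L05.Kosz.length_tor_koszul _ as ha i,
    Module.length_eq_zero_iff]
  have h1 := ((isWeaklyRegular_append_iff R bs as).mp hab).2
  have e : (R ⧸ (Ideal.ofList bs • ⊤ : Submodule R R)) ≃ₗ[R] (R ⧸ Ideal.ofList bs) :=
    Submodule.quotEquivOfEq _ _ (by rw [smul_eq_mul, Ideal.mul_top])
  rw [e.isWeaklyRegular_congr] at h1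
  exact ModuleCat.subsingleton_of_isZero
    (Groth.L04.Koszul.isZero_of_isWeaklyRegular as (ModuleCat.of R (R ⧸ Ideal.ofList bs)) h1 _ (by omega))

/-- Flat base change of `Tor`: vanishing can be read after base change. -/
theorem subsingleton_tensor_tor {A : Type u} [CommRing A] (L : Type u) [CommRing L] [Algebra A L]
    [Module.Flat A L] (M N : Type u) [AddCommGroup M] [Module A M] [AddCommGroup N] [Module A N] (n : ℕ)
    (h : Subsingleton (DRing.Tor L n (L ⊗[A] M) (L ⊗[A] N))) :
    Subsingleton (L ⊗[A] DRing.Tor A n M N) := by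
  let F := tensorLeft (ModuleCat.of A M)
  let G := tensorLeft (ModuleCat.of A L)
  let Q := projectiveResolution (ModuleCat.of A N)
  let C := (F.mapHomologicalComplex (ComplexShape.down ℕ)).obj Q.complex
  have e₁ : DRing.Tor A n (L ⊗[A] M) N ≃ₗ[A] ((G.mapHomologicalComplex (ComplexShape.down ℕ)).obj C).homology n :=
    ((Q.isoLeftDerivedObj (tensorLeft (ModuleCat.of A (L ⊗[A] M))) n) ≪≫
      (HomologicalComplex.homologyFunctor _ _ n).mapIso
        ((NatIso.mapHomologicalComplex
          (tensorLeftTensor (ModuleCat.of A L) (ModuleCat.of A M)) (ComplexShape.down ℕ)).app Q.complex)).toLinearEquiv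
  have e₂ : ((G.mapHomologicalComplex (ComplexShape.down ℕ)).obj C).homology n ≃ₗ[A] (L ⊗[A] C.homology n) :=
    ((C.sc n).mapHomologyIso G).toLinearEquiv
  have e₃ : DRing.Tor A n M N ≃ₗ[A] C.homology n := (Q.isoLeftDerivedObj F n).toLinearEquiv
  haveI : Subsingleton (DRing.Tor A n (L ⊗[A] M) N) := by
    obtain ⟨φ, hφ⟩ := Groth.L28.TorBC.flat_baseChange (A := A) (A' := L) (L ⊗[A] M) (ModuleCat.of A N) n
    haveI := h
    exact hφ.1.subsingleton
  exact ((e₁.trans e₂).trans (TensorProduct.congr (LinearEquiv.refl A L) e₃.symm)).symm.toEquiv.subsingleton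

theorem subsingleton_of_iso_tor {A : Type u} [CommRing A] {M M' N N' : Type u} [AddCommGroup M] [Module A M]
    [AddCommGroup M'] [Module A M'] [AddCommGroup N] [Module A N] [AddCommGroup N']
    [Module A N'] (e : M ≃ₗ[A] M') (e' : N ≃ₗ[A] N') (n : ℕ) (h : Subsingleton (DRing.Tor A n M N)) :
    Subsingleton (DRing.Tor A n M' N') := by
  let i : ((CategoryTheory.Tor (ModuleCat.{u} A) n).obj (ModuleCat.of A M)).obj (ModuleCat.of A N) ≅
      ((CategoryTheory.Tor (ModuleCat.{u} A) n).obj (ModuleCat.of A M')).obj (ModuleCat.of A N') :=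
    ((CategoryTheory.Tor (ModuleCat.{u} A) n).mapIso e.toModuleIso).app (ModuleCat.of A N) ≪≫
      ((CategoryTheory.Tor (ModuleCat.{u} A) n).obj (ModuleCat.of A M')).mapIso e'.toModuleIso
  exact i.toLinearEquiv.symm.toEquiv.subsingleton

/-- `Tor` of two quotients of a ring vanishes once it does so in the stalks at the primes containing
both ideals. -/
theorem subsingleton_tor_quot {A : Type u} [CommRing A] (I J : Ideal A) (n : ℕ) (hn : 0 < n)
    (h : ∀ (m : Ideal A) [m.IsMaximal], I ≤ m → J ≤ m →
      ∃ (L : Type u) (_ : CommRing L) (_ : Algebra A L) (_ : IsLocalization.AtPrime L m),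
        Subsingleton (DRing.Tor L n (L ⧸ I.map (algebraMap A L)) (L ⧸ J.map (algebraMap A L)))) :
    Subsingleton (DRing.Tor A n (A ⧸ I) (A ⧸ J)) := by
  refine Module.subsingleton_of_localization_maximal
    (fun m [_] => Localization.AtPrime m ⊗[A] DRing.Tor A n (A ⧸ I) (A ⧸ J))
    (fun m [_] => TensorProduct.mk A (Localization.AtPrime m) _ 1) fun m _ => ?_
  by_cases hm : I ≤ m ∧ J ≤ m
  · obtain ⟨L, _, _, _, hL⟩ := h m hm.1 hm.2
    haveI : Module.Flat A L := IsLocalization.flat L m.primeCompl
    have h1 := subsingleton_tensor_tor L (A ⧸ I) (A ⧸ J) n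
      (subsingleton_of_iso_tor (Algebra.TensorProduct.quotIdealMapEquivTensorQuot L I).toLinearEquiv
        (Algebra.TensorProduct.quotIdealMapEquivTensorQuot L J).toLinearEquiv n hL)
    exact (TensorProduct.congr (IsLocalization.algEquiv m.primeCompl (Localization.AtPrime m) L).toLinearEquiv
      (LinearEquiv.refl A _)).toEquiv.subsingleton
  · refine subsingleton_tensor_tor (Localization.AtPrime m) (A ⧸ I) (A ⧸ J) n ?_
    have hz : ∀ (K : Ideal A), ¬ K ≤ m → Subsingleton (Localization.AtPrime m ⊗[A] (A ⧸ K)) := by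
      intro K hK
      obtain ⟨a, ha, ham⟩ := SetLike.not_le_iff_exists.mp hK
      haveI : Subsingleton (Localization.AtPrime m ⧸ K.map (algebraMap A (Localization.AtPrime m))) :=
        Ideal.Quotient.subsingleton_iff.mpr
          (Ideal.eq_top_of_isUnit_mem _ (Ideal.mem_map_of_mem _ ha) (IsLocalization.map_units _ (⟨a, ham⟩ : m.primeCompl)))
      exact (Algebra.TensorProduct.quotIdealMapEquivTensorQuot (Localization.AtPrime m) K).symm.toEquiv.subsingleton
    obtain ⟨k, rfl⟩ : ∃ k, n = k + 1 := ⟨n - 1, by omega⟩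
    rcases not_and_or.mp hm with hI | hJ
    · haveI := hz I hI
      exact ModuleCat.subsingleton_of_isZero
        (Groth.L28.TorFacts.isZero_of_flat_left (ModuleCat.of _ (Localization.AtPrime m ⊗[A] (A ⧸ I))) _ k)
    · haveI := hz J hJ
      exact ModuleCat.subsingleton_of_isZero
        (Groth.L28.TorFacts.isZero_of_flat_right _ (ModuleCat.of _ (Localization.AtPrime m ⊗[A] (A ⧸ J))) k)

end Groth.L07.CMInterAlg
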