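import Groth.Agent.L07.DimFormulaApps
import Groth.Agent.L22.Cyc.RelDim
import Groth.Agent.L03.Catenary
import Mathlib.AlgebraicGeometry.Morphisms.Finite

/-!
Dimensions of schemes of finite type over universally catenary Jacobson bases.
-/

universe u

open CategoryTheory CategoryTheory.Limits AlgebraicGeometry TopologicalSpace Topology

namespace Groth.L07.DimJacobson

open Groth.L22 Groth.L07.Equidim Groth.L07.DimToolkit

set_option autoImplicit false
set_option maxSynthPendingDepth 3
set_option linter.style.haveILetI false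
set_option backward.isDefEq.respectTransparency.types false
set_option backward.isDefEq.respectTransparency false

variable {X : Scheme.{u}}

theorem isEmbedding_pt (x ξ : X) (h : ξ ⤳ x) : IsEmbedding (LocQuotDim.pt x ξ h) :=
  (X.fromSpecStalk x).isEmbedding.comp
    (PrimeSpectrum.isClosedEmbedding_comap_of_surjective _ _ Ideal.Quotient.mk_surjective).isEmbedding

theorem range_pt (x ξ : X) (h : ξ ⤳ x) :
    Set.range (LocQuotDim.pt x ξ h) = {z | ξ ⤳ z ∧ z ⤳ x} := by
  haveI := DimFormula.isDomain_locQuot x ξ h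
  haveI := DimFormula.isLocalRing_locQuot x ξ h
  refine Set.ext fun z => ⟨?_, fun hz => LocQuotDim.exists_pt x ξ h hz.1 hz.2⟩
  rintro ⟨q, rfl⟩
  exact ⟨(specializes_of_eq (LocQuotDim.pt_bot x ξ h).symm).trans
      ((LocQuotDim.pt_specializes_iff x ξ h _ q).mpr bot_le),
    ((LocQuotDim.pt_specializes_iff x ξ h q _).mpr (IsLocalRing.le_maximalIdeal q.2.ne_top)).trans
      (specializes_of_eq (LocQuotDim.pt_closed x ξ h))⟩

/-- The points between two points as the spectrum of the local ring of the closure. -/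
theorem dim_interval (x ξ : X) (h : ξ ⤳ x) :
    topologicalKrullDim ↥{z : X | ξ ⤳ z ∧ z ⤳ x} = ringKrullDim (Cyc.LocQuot x ξ h) := by
  rw [SchemeDim.topologicalKrullDim_eq_of_isEmbedding (isEmbedding_pt x ξ h) (range_pt x ξ h),
    PrimeSpectrum.topologicalKrullDim_eq_ringKrullDim]

/-- Additivity along a chain of points in a catenary local ring. -/
theorem dim_locQuot_add [IsLocallyNoetherian X] {x z ξ : X} (h1 : ξ ⤳ z) (h2 : z ⤳ x)
    (hcat : CAlg.IsUniversallyCatenary (X.presheaf.stalk x)) :
    ringKrullDim (Cyc.LocQuot x ξ (h1.trans h2)) =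
      ringKrullDim (Cyc.LocQuot z ξ h1) + ringKrullDim (Cyc.LocQuot x z h2) := by
  let R := Cyc.LocQuot x ξ (h1.trans h2)
  haveI : IsDomain R := DimFormula.isDomain_locQuot _ _ _
  haveI : IsLocalRing R := DimFormula.isLocalRing_locQuot _ _ _
  haveI : IsNoetherianRing R := inferInstance
  have hR : CAlg.IsCatenary R := Groth.L03.Catenary.isCatenary_quotient _ (hcat.2 _ inferInstance)
  obtain ⟨P, hP⟩ := LocQuotDim.exists_pt x ξ (h1.trans h2) h1 h2
  have key := DimFormula.height_map_mk_add_eq hR (IsLocalRing.le_maximalIdeal P.2.ne_top)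
  have hAP : ringKrullDim (Cyc.LocQuot z ξ h1) = (P.asIdeal.height : WithBot ℕ∞) := by
    rw [← IsLocalization.AtPrime.ringKrullDim_eq_height P.asIdeal (Localization.AtPrime P.asIdeal),
      ← dim_interval z ξ h1, ← PrimeSpectrum.topologicalKrullDim_eq_ringKrullDim (R := Localization.AtPrime P.asIdeal)]
    refine SchemeDim.topologicalKrullDim_eq_of_isEmbedding
      ((isEmbedding_pt x ξ (h1.trans h2)).comp
        (PrimeSpectrum.localization_comap_isEmbedding (Localization.AtPrime P.asIdeal) P.asIdeal.primeCompl)) ?_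
    rw [Set.range_comp, PrimeSpectrum.localization_comap_range (Localization.AtPrime P.asIdeal) P.asIdeal.primeCompl]
    refine Set.ext fun w => ⟨?_, fun hw => ?_⟩
    · rintro ⟨q, hq, rfl⟩
      refine ⟨((range_pt x ξ (h1.trans h2)).subset ⟨q, rfl⟩).1,
        ((LocQuotDim.pt_specializes_iff x ξ (h1.trans h2) q P).mpr fun a ha => ?_).trans (specializes_of_eq hP)⟩
      by_contra hna
      exact Set.disjoint_left.mp hq hna ha
    · obtain ⟨q, rfl⟩ := LocQuotDim.exists_pt x ξ (h1.trans h2) hw.1 (hw.2.trans h2)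
      refine ⟨q, Set.disjoint_left.mpr fun a ha haq => ha ?_, rfl⟩
      exact (LocQuotDim.pt_specializes_iff x ξ (h1.trans h2) q P).mp (hw.2.trans (specializes_of_eq hP.symm)) haq
  haveI : P.asIdeal.IsPrime := P.2
  haveI : Nontrivial (R ⧸ P.asIdeal) := Ideal.Quotient.nontrivial_iff.mpr P.2.ne_top
  haveI : IsLocalRing (R ⧸ P.asIdeal) :=
    IsLocalRing.of_surjective' (Ideal.Quotient.mk _) Ideal.Quotient.mk_surjective
  have hmx : (IsLocalRing.maximalIdeal R).map (Ideal.Quotient.mk P.asIdeal) =
      IsLocalRing.maximalIdeal (R ⧸ P.asIdeal) := by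
    haveI : ((IsLocalRing.maximalIdeal R).map (Ideal.Quotient.mk P.asIdeal)).IsMaximal :=
      (Ideal.map_eq_top_or_isMaximal_of_surjective _ Ideal.Quotient.mk_surjective
        (IsLocalRing.maximalIdeal.isMaximal R)).resolve_left fun htop => (IsLocalRing.maximalIdeal.isMaximal R).ne_top
          (by
            have := congrArg (Ideal.comap (Ideal.Quotient.mk P.asIdeal)) htop
            rwa [Ideal.comap_map_mk (IsLocalRing.le_maximalIdeal P.2.ne_top), Ideal.comap_top] at this)
    exact IsLocalRing.eq_maximalIdeal inferInstance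
  have hxP : ringKrullDim (Cyc.LocQuot x z h2) =
      (((IsLocalRing.maximalIdeal R).map (Ideal.Quotient.mk P.asIdeal)).height : WithBot ℕ∞) := by
    rw [hmx, IsLocalRing.maximalIdeal_height_eq_ringKrullDim,
      ← dim_interval x z h2, ← PrimeSpectrum.topologicalKrullDim_eq_ringKrullDim (R := R ⧸ P.asIdeal)]
    refine SchemeDim.topologicalKrullDim_eq_of_isEmbedding
      ((isEmbedding_pt x ξ (h1.trans h2)).comp
        (PrimeSpectrum.isClosedEmbedding_comap_of_surjective _ _ Ideal.Quotient.mk_surjective).isEmbedding) ?_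
    rw [Set.range_comp, range_comap_of_surjective _ _ Ideal.Quotient.mk_surjective, Ideal.mk_ker]
    refine Set.ext fun w => ⟨?_, fun hw => ?_⟩
    · rintro ⟨q, hq, rfl⟩
      exact ⟨(specializes_of_eq hP.symm).trans ((LocQuotDim.pt_specializes_iff x ξ (h1.trans h2) P q).mpr hq),
        ((range_pt x ξ (h1.trans h2)).subset ⟨q, rfl⟩).2⟩
    · obtain ⟨q, rfl⟩ := LocQuotDim.exists_pt x ξ (h1.trans h2) (h1.trans hw.1) hw.2
      exact ⟨q, (LocQuotDim.pt_specializes_iff x ξ (h1.trans h2) P q).mp ((specializes_of_eq hP).trans hw.1), rfl⟩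
  rw [hAP, hxP, ← IsLocalRing.maximalIdeal_height_eq_ringKrullDim (R := R), ← key, WithBot.coe_add, add_comm]

/-- The dimension of an irreducible Jacobson scheme is read off at the closed points. -/
theorem dim_eq_of_closed_points [IrreducibleSpace X] [JacobsonSpace X] (c : WithBot ℕ∞)
    (hc : ∀ x : X, IsClosed ({x} : Set X) → ringKrullDim (X.presheaf.stalk x) = c) :
    topologicalKrullDim (X : Type u) = c := by
  have hpts : ∀ Z : Set X, IsClosed Z → Z.Nonempty → ∃ x ∈ Z, IsClosed ({x} : Set X) := fun Z hZ hne => by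
    obtain ⟨x, hx, hxc⟩ := nonempty_inter_closedPoints hne hZ.isLocallyClosed
    exact ⟨x, hx, hxc⟩
  refine le_antisymm (iSup_le fun s => ?_) ?_
  · obtain ⟨x, hx, hxc⟩ := hpts _ s.head.isClosed s.head.isIrreducible.nonempty
    rw [← hc x hxc]
    have hg : ∀ i, ∃ P : PrimeSpectrum (X.presheaf.stalk x),
        X.fromSpecStalk x P = (s i).isIrreducible.genericPoint := fun i => by
      refine exists_prime x _ ?_
      have h := (s i).isIrreducible.isGenericPoint_genericPoint_closure
      rw [(s i).isClosed.closure_eq] at h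
      exact h.specializes ((s.strictMono.monotone (Fin.zero_le i) : s.head ≤ s i) hx)
    choose P hP using hg
    refine Order.LTSeries.length_le_krullDim (LTSeries.mk s.length (fun i => P (Fin.rev i)) ?_)
    intro i j hij
    have hlt : s (Fin.rev j) < s (Fin.rev i) := s.strictMono (Fin.rev_lt_rev.mpr hij)
    have hi := (s (Fin.rev i)).isIrreducible.isGenericPoint_genericPoint_closure
    have hj := (s (Fin.rev j)).isIrreducible.isGenericPoint_genericPoint_closure
    rw [(s _).isClosed.closure_eq, ← hP] at hi hj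
    refine lt_of_le_of_ne ?_ fun he => hlt.ne' ?_
    · refine (PrimeSpectrum.le_iff_specializes _ _).mpr ?_
      exact (X.fromSpecStalk x).isEmbedding.isInducing.specializes_iff.mp (hi.specializes (hlt.le hj.mem))
    · refine SetLike.coe_injective ?_
      change P (Fin.rev i) = P (Fin.rev j) at he
      rw [← hi.def, he, hj.def]
  · obtain ⟨x, -, hxc⟩ := hpts Set.univ isClosed_univ Set.univ_nonempty
    rw [← hc x hxc, ← PrimeSpectrum.topologicalKrullDim_eq_ringKrullDim]
    exact (X.fromSpecStalk x).isEmbedding.isInducing.topologicalKrullDim_le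

/-- At closed points the dimension of the local ring is that of the base plus the transcendence degree. -/
theorem stalk_dim_of_isClosed {S : Scheme.{u}} [IsLocallyNoetherian S] [JacobsonSpace S] (p : X ⟶ S)
    [LocallyOfFiniteType p] [IrreducibleSpace X] (h2 : ∀ s : S, CAlg.IsUniversallyCatenary (S.presheaf.stalk s))
    (σ : S) (hσ : p (genericPoint X) = σ) (c : ℕ)
    (hc : ∀ (s : S) (h : σ ⤳ s), IsClosed ({s} : Set S) → ringKrullDim (Cyc.LocQuot s σ h) = (c : WithBot ℕ∞))
    (x : X) (hx : IsClosed ({x} : Set X)) :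
    ringKrullDim (X.presheaf.stalk x) = (c : WithBot ℕ∞) + fdim p (genericPoint X) := by
  haveI : IsLocallyNoetherian X := LocallyOfFiniteType.isLocallyNoetherian p
  have hξ : genericPoint X ⤳ x := (genericPoint_spec X).specializes trivial
  have hpx : IsClosed ({p x} : Set S) := p.closePoints_subset_preimage_closedPoints hx
  obtain ⟨A, B, n, N, hA, hB, hn, hN, -, heq⟩ := formula p hξ
  have hB' : B = c := by
    rw [dim_locQuot_congr' hσ (hξ.map p.continuous) ((specializes_of_eq hσ.symm).trans (hξ.map p.continuous)),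
      hc _ _ hpx] at hB
    exact_mod_cast hB.symm
  have hn0 : n = 0 := by
    have h0 : fdim p x ≤ 0 := by
      haveI : Subsingleton ↥(closure ({x} : Set X) ∩ p ⁻¹' {p x}) := ⟨fun a b => Subtype.ext
        ((hx.closure_eq.subset a.2.1).trans (hx.closure_eq.subset b.2.1).symm)⟩
      exact topologicalKrullDim_zero_of_discreteTopology _
    rw [hn] at h0
    have h0' : n ≤ 0 := by exact_mod_cast h0
    omega
  rw [← dim_locQuot_genericPoint x hξ, hA, hN]
  have := heq (h2 _)
  exact_mod_cast (show A = c + N by omega)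

/-- The dimension of the source is the dimension of the target plus that of the generic fibre. -/
theorem dim_eq_dim_add {Y S : Scheme.{u}} [IsLocallyNoetherian S] [JacobsonSpace S]
    (h2 : ∀ s : S, CAlg.IsUniversallyCatenary (S.presheaf.stalk s))
    (h3 : ∀ S' ∈ irreducibleComponents (S : Type u), ∀ s ∈ S', IsClosed ({s} : Set S) →
      topologicalKrullDim (↥S' : Type u) = topologicalKrullDim ↥{t : S | t ∈ S' ∧ t ⤳ s})
    (p : X ⟶ S) (q : Y ⟶ S) [LocallyOfFiniteType p] [LocallyOfFiniteType q] (f : X ⟶ Y) (hf : f ≫ q = p)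
    [IrreducibleSpace X] [IrreducibleSpace Y] [IsDominant f] :
    topologicalKrullDim (X : Type u) =
      topologicalKrullDim (Y : Type u) + topologicalKrullDim ↥(f.fiber (genericPoint Y)) := by
  subst hf
  haveI : LocallyOfFiniteType f := locallyOfFiniteType_of_comp f q
  haveI : JacobsonSpace X := LocallyOfFiniteType.jacobsonSpace (f ≫ q)
  haveI : JacobsonSpace Y := LocallyOfFiniteType.jacobsonSpace q
  obtain ⟨hη, hfib⟩ := generic_data f
  obtain ⟨σ, hσ⟩ : ∃ σ, q (genericPoint Y) = σ := ⟨_, rfl⟩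
  have hσ' : (f ≫ q) (genericPoint X) = σ := by rw [Scheme.Hom.comp_apply, hη, hσ]
  let S' : Set S := irreducibleComponent σ
  have hS' : S' ∈ irreducibleComponents (S : Type u) := irreducibleComponent_mem_irreducibleComponents σ
  have hg := (isIrreducible_irreducibleComponent (x := σ)).isGenericPoint_genericPoint isClosed_irreducibleComponent
  let σ' := (isIrreducible_irreducibleComponent (x := σ)).genericPoint
  have h1 : σ' ⤳ σ := hg.specializes mem_irreducibleComponent
  obtain ⟨b, hb⟩ := exists_nat_dim_locQuot σ σ' h1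
  have hkey : ∀ (s : S) (h : σ ⤳ s), IsClosed ({s} : Set S) →
      ∃ a : ℕ, ringKrullDim (Cyc.LocQuot s σ h) = (a : WithBot ℕ∞) ∧
        topologicalKrullDim (↥S' : Type u) = ((b + a : ℕ) : WithBot ℕ∞) := by
    intro s h hs
    obtain ⟨a, ha⟩ := exists_nat_dim_locQuot s σ h
    refine ⟨a, ha, ?_⟩
    have hset : {t : S | t ∈ S' ∧ t ⤳ s} = {z : S | σ' ⤳ z ∧ z ⤳ s} :=
      Set.ext fun t => and_congr_left fun _ => hg.specializes_iff_mem.symm
    rw [h3 S' hS' s (h.mem_closed isClosed_irreducibleComponent mem_irreducibleComponent) hs, hset,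
      dim_interval s σ' (h1.trans h), dim_locQuot_add h1 h (h2 s), hb, ha, Nat.cast_add]
  obtain ⟨y₀, -, hy₀⟩ := nonempty_inter_closedPoints (Set.univ_nonempty (α := Y)) isClosed_univ.isLocallyClosed
  have hs₀ : σ ⤳ q y₀ := (specializes_of_eq hσ.symm).trans (((genericPoint_spec Y).specializes trivial).map q.continuous)
  obtain ⟨c, -, hc'⟩ := hkey (q y₀) hs₀ (q.closePoints_subset_preimage_closedPoints hy₀)
  have hc : ∀ (s : S) (h : σ ⤳ s), IsClosed ({s} : Set S) →
      ringKrullDim (Cyc.LocQuot s σ h) = (c : WithBot ℕ∞) := by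
    intro s h hs
    obtain ⟨a, ha, ha'⟩ := hkey s h hs
    rw [hc'] at ha'
    have h' : b + c = b + a := by exact_mod_cast ha'
    rw [ha, show a = c by omega]
  rw [dim_eq_of_closed_points (X := X) _ fun x hx => stalk_dim_of_isClosed (f ≫ q) h2 σ hσ' c hc x hx,
    dim_eq_of_closed_points (X := Y) _ fun y hy => stalk_dim_of_isClosed q h2 σ hσ c hc y hy, ← hfib, add_assoc]
  congr 1
  obtain ⟨n, hn, hn'⟩ := exists_fdim_rtrdeg (f ≫ q) (genericPoint X)
  obtain ⟨m, hm, hm'⟩ := exists_fdim_rtrdeg q (genericPoint Y)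
  obtain ⟨e, he, he'⟩ := exists_fdim_rtrdeg f (genericPoint X)
  rw [hn, hm, he]
  rw [Cyc.rtrdeg_comp, hη, hm', he'] at hn'
  exact_mod_cast hn'.symm

end Groth.L07.DimJacobson
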