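import Groth.Agent.L04.Koszul.Vanish
import Groth.Prelude.Def_LCI2

/-! Koszul-regularity does not depend on the choice of equally many generators. -/

set_option autoImplicit false
set_option linter.style.haveILetI false
set_option backward.isDefEq.respectTransparency.types false

universe u

open CategoryTheory CategoryTheory.Limits CochainComplex CochainComplex.HomComplex CohIII
open Groth.L02.PC (coneEquiv coneEquiv_d)
open Groth.L04.Koszul

namespace Groth.L07.KoszulPerm

variable {A : Type u} [CommRing A]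

section Swap

variable (K : CochainComplex (ModuleCat.{u} A) ℤ) (a b : A)

/-- The component of the exchange of two cones. -/
noncomputable def swapEquiv (i j k : ℤ) (hij : i + 1 = j) (hjk : j + 1 = k) :
    (mappingCone (a • 𝟙 (mappingCone (b • 𝟙 K)))).X i ≃ₗ[A]
      (mappingCone (b • 𝟙 (mappingCone (a • 𝟙 K)))).X i :=
  let F := (coneEquiv (a • 𝟙 (mappingCone (b • 𝟙 K))) i j hij).trans
    ((coneEquiv (b • 𝟙 K) j k hjk).prodCongr (coneEquiv (b • 𝟙 K) i j hij))
  let G := (coneEquiv (b • 𝟙 (mappingCone (a • 𝟙 K))) i j hij).trans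
    ((coneEquiv (a • 𝟙 K) j k hjk).prodCongr (coneEquiv (a • 𝟙 K) i j hij))
  F.trans <| ({
    toFun := fun z => ((-z.1.1, z.2.1), (z.1.2, z.2.2))
    map_add' := fun z w => by
      simp only [Prod.fst_add, Prod.snd_add, neg_add, Prod.mk_add_mk]
    map_smul' := fun r z => by
      simp only [Prod.smul_fst, Prod.smul_snd, ← smul_neg, Prod.smul_mk, RingHom.id_apply]
    invFun := fun z => ((-z.1.1, z.2.1), (z.1.2, z.2.2))
    left_inv := fun z => by simp
    right_inv := fun z => by simp } : ((K.X k × K.X j) × K.X j × K.X i) ≃ₗ[A] _).trans G.symm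

theorem swapEquiv_cmk {i j k : ℤ} (hij : i + 1 = j) (hjk : j + 1 = k) (p : K.X k) (x q : K.X j) (y : K.X i) :
    swapEquiv K a b i j k hij hjk (cmk _ i j hij (cmk _ j k hjk p x) (cmk _ i j hij q y)) =
      cmk _ i j hij (cmk _ j k hjk (-p) q) (cmk _ i j hij x y) := by
  apply (coneEquiv (b • 𝟙 (mappingCone (a • 𝟙 K))) i j hij).injective
  rw [swapEquiv, coneEquiv_cmk]
  simp only [LinearEquiv.trans_apply, LinearEquiv.prodCongr_apply, LinearEquiv.coe_mk, LinearMap.coe_mk,
    AddHom.coe_mk, coneEquiv_cmk, LinearEquiv.trans_symm, LinearEquiv.prodCongr_symm]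
  erw [LinearEquiv.apply_symm_apply]
  rfl

/-- The exchange of two cones of multiplications. -/
noncomputable def swapIso :
    mappingCone (a • 𝟙 (mappingCone (b • 𝟙 K))) ≅ mappingCone (b • 𝟙 (mappingCone (a • 𝟙 K))) :=
  HomologicalComplex.Hom.isoOfComponents
    (fun i => (swapEquiv K a b i (i + 1) (i + 1 + 1) rfl rfl).toModuleIso) (by
    intro i j hij
    obtain rfl : i + 1 = j := hij
    ext z
    obtain ⟨u, v, rfl⟩ := exists_cmk _ (rfl : i + 1 = i + 1) z
    obtain ⟨p, x, rfl⟩ := exists_cmk _ (rfl : i + 1 + 1 = i + 1 + 1) u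
    obtain ⟨q, y, rfl⟩ := exists_cmk _ (rfl : i + 1 = i + 1) v
    show (mappingCone (b • 𝟙 (mappingCone (a • 𝟙 K)))).d i (i + 1)
        (swapEquiv K a b i (i + 1) (i + 1 + 1) rfl rfl _) =
      swapEquiv K a b (i + 1) (i + 1 + 1) (i + 1 + 1 + 1) rfl rfl
        ((mappingCone (a • 𝟙 (mappingCone (b • 𝟙 K)))).d i (i + 1) _)
    rw [swapEquiv_cmk, d_cmk (b • 𝟙 (mappingCone (a • 𝟙 K))) rfl (rfl : i + 1 + 1 = i + 1 + 1),
      d_cmk (a • 𝟙 (mappingCone (b • 𝟙 K))) rfl (rfl : i + 1 + 1 = i + 1 + 1),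
      d_cmk (a • 𝟙 K) (rfl : i + 1 + 1 = i + 1 + 1) (rfl : i + 1 + 1 + 1 = i + 1 + 1 + 1),
      d_cmk (b • 𝟙 K) (rfl : i + 1 + 1 = i + 1 + 1) (rfl : i + 1 + 1 + 1 = i + 1 + 1 + 1),
      d_cmk (a • 𝟙 K) rfl (rfl : i + 1 + 1 = i + 1 + 1), d_cmk (b • 𝟙 K) rfl (rfl : i + 1 + 1 = i + 1 + 1)]
    simp only [HomologicalComplex.smul_f_apply, HomologicalComplex.id_f, ModuleCat.hom_smul, ModuleCat.hom_id,
      LinearMap.smul_apply, LinearMap.id_coe, id_eq, smul_cmk, ← cmk_add, map_neg, smul_neg]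
    have hneg : ∀ {P L : CochainComplex (ModuleCat.{u} A) ℤ} (φ : P ⟶ L) {i j : ℤ} (h : i + 1 = j) (p : P.X j)
        (x : L.X i), -cmk φ i j h p x = cmk φ i j h (-p) (-x) := fun φ _ _ h p x =>
      (map_neg (coneEquiv φ _ _ h).symm (p, x)).symm
    simp only [hneg, ← cmk_add, swapEquiv_cmk]
    congr 2 <;> abel)

end Swap

variable (M : ModuleCat.{u} A)

theorem nonempty_cons_iso {fs gs : List A} (a : A) (h : Nonempty (koszulCx M fs ≅ koszulCx M gs)) :
    Nonempty (koszulCx M (a :: fs) ≅ koszulCx M (a :: gs)) := by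
  obtain ⟨e⟩ := h
  have c1 : (a • 𝟙 (koszulCx M fs)) ≫ e.hom = e.hom ≫ (a • 𝟙 (koszulCx M gs)) := by
    rw [Linear.smul_comp, Linear.comp_smul, Category.id_comp, Category.comp_id]
  have c2 : (a • 𝟙 (koszulCx M gs)) ≫ e.inv = e.inv ≫ (a • 𝟙 (koszulCx M fs)) := by
    rw [Linear.smul_comp, Linear.comp_smul, Category.id_comp, Category.comp_id]
  refine ⟨⟨mappingCone.map _ _ e.hom e.hom c1, mappingCone.map _ _ e.inv e.inv c2, ?_, ?_⟩⟩
  · ext i z
    obtain ⟨p, x, rfl⟩ := exists_cmk_cons M i (i + 1) rfl z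
    show (mappingCone.map _ _ e.inv e.inv c2).f i
      ((mappingCone.map _ _ e.hom e.hom c1).f i (cmk _ i (i + 1) rfl p x)) = _
    rw [map_cmk, map_cmk, ← ConcreteCategory.comp_apply, ← ConcreteCategory.comp_apply,
      ← HomologicalComplex.comp_f, ← HomologicalComplex.comp_f, e.hom_inv_id]
    rfl
  · ext i z
    obtain ⟨p, x, rfl⟩ := exists_cmk_cons M i (i + 1) rfl z
    show (mappingCone.map _ _ e.hom e.hom c1).f i
      ((mappingCone.map _ _ e.inv e.inv c2).f i (cmk _ i (i + 1) rfl p x)) = _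
    rw [map_cmk, map_cmk, ← ConcreteCategory.comp_apply, ← ConcreteCategory.comp_apply,
      ← HomologicalComplex.comp_f, ← HomologicalComplex.comp_f, e.inv_hom_id]
    rfl

/-- Koszul complexes of permuted sequences are isomorphic. -/
theorem nonempty_iso_of_perm {fs gs : List A} (h : List.Perm fs gs) :
    Nonempty (koszulCx M fs ≅ koszulCx M gs) := by
  induction h with
  | nil => exact ⟨Iso.refl _⟩
  | cons a _ ih => exact nonempty_cons_iso M a ih
  | swap a b l => exact ⟨swapIso (koszulCx M l) b a⟩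
  | trans _ _ ih₁ ih₂ => exact ⟨ih₁.some ≪≫ ih₂.some⟩

theorem isZero_perm {fs gs : List A} (h : List.Perm fs gs) (n : ℤ) :
    IsZero ((koszulCx M fs).homology n) ↔ IsZero ((koszulCx M gs).homology n) := by
  obtain ⟨e⟩ := nonempty_iso_of_perm M h
  exact ((HomologicalComplex.homologyFunctor _ _ n).mapIso e).isZero_iff

/-- Prepending elements of the ideal. -/
theorem isZero_append_iff (fs : List A) : ∀ (gs : List A), (∀ a ∈ gs, a ∈ Ideal.ofList fs) → ∀ n : ℤ,
    (IsZero ((koszulCx M (gs ++ fs)).homology n) ↔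
      ∀ j : ℕ, j ≤ gs.length → IsZero ((koszulCx M fs).homology (n + j)))
  | [], _, n => by
    simp only [List.nil_append, List.length_nil, Nat.le_zero, forall_eq, Nat.cast_zero, add_zero]
  | a :: gs, h, n => by
    have ha : a ∈ Ideal.ofList (gs ++ fs) := by
      rw [Ideal.ofList_append]
      exact Submodule.mem_sup_right (h a List.mem_cons_self)
    have h0 : IsZero ((koszulCx M (a :: gs ++ fs)).homology n) ↔
        IsZero ((koszulCx M (gs ++ fs)).homology n) ∧ IsZero ((koszulCx M (gs ++ fs)).homology (n + 1)) := by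
      refine (isZero_cone_smul_iff (koszulCx M (gs ++ fs)) a n (n + 1) rfl).trans ⟨fun ⟨h1, h2⟩ => ?_, fun ⟨h1, h2⟩ => ?_⟩
      · exact ⟨ModuleCat.isZero_iff_subsingleton.2 (subsingleton_of_forall_eq 0 fun c => by
            obtain ⟨c', rfl⟩ := h1 c
            exact smul_homology_eq_zero M ha n c'),
          ModuleCat.isZero_iff_subsingleton.2 (subsingleton_of_forall_eq 0 fun c =>
            h2 c (smul_homology_eq_zero M ha (n + 1) c))⟩
      · haveI := ModuleCat.isZero_iff_subsingleton.1 h1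
        haveI := ModuleCat.isZero_iff_subsingleton.1 h2
        exact ⟨fun c => ⟨0, Subsingleton.elim _ _⟩, fun c _ => Subsingleton.elim _ _⟩
    have h' := fun m => isZero_append_iff fs gs (fun b hb => h b (List.mem_cons_of_mem a hb)) m
    rw [h0, h' n, h' (n + 1), List.length_cons]
    refine ⟨fun ⟨h1, h2⟩ j hj => ?_, fun h1 => ⟨fun j hj => h1 j (by omega), fun j hj => ?_⟩⟩
    · rcases Nat.lt_or_ge j (gs.length + 1) with hlt | hge
      · exact h1 j (by omega)
      · obtain ⟨j, rfl⟩ : ∃ i, j = i + 1 := ⟨j - 1, by omega⟩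
        rw [Nat.cast_add, Nat.cast_one, add_comm (j : ℤ) 1, ← add_assoc]
        exact h2 j (by omega)
    · have := h1 (j + 1) (by omega)
      rwa [Nat.cast_add, Nat.cast_one, add_comm (j : ℤ) 1, ← add_assoc] at this

theorem vanish_iff_append (fs gs : List A) (h : ∀ a ∈ gs, a ∈ Ideal.ofList fs) :
    (∀ n : ℤ, n < 0 → IsZero ((koszulCx M fs).homology n)) ↔
      ∀ n : ℤ, n + gs.length < 0 → IsZero ((koszulCx M (gs ++ fs)).homology n) := by
  refine ⟨fun h1 n hn => (isZero_append_iff M fs gs h n).2 fun j hj => h1 _ (by omega), fun h1 n hn => ?_⟩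
  have := (isZero_append_iff M fs gs h (n - gs.length)).1 (h1 _ (by omega)) gs.length le_rfl
  rwa [sub_add_cancel] at this

/-- Vanishing below degree zero for sequences generating the same ideal. -/
theorem vanish_iff_of_ofList_eq {fs gs : List A} (h : Ideal.ofList fs = Ideal.ofList gs)
    (hlen : fs.length = gs.length) :
    (∀ n : ℤ, n < 0 → IsZero ((koszulCx M fs).homology n)) ↔
      ∀ n : ℤ, n < 0 → IsZero ((koszulCx M gs).homology n) := by
  rw [vanish_iff_append M fs gs (fun a ha => h ▸ Ideal.subset_span ha),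
    vanish_iff_append M gs fs (fun a ha => h.symm ▸ Ideal.subset_span ha), hlen]
  exact forall_congr' fun n => imp_congr Iff.rfl (isZero_perm M List.perm_append_comm n)

theorem isKoszulRegularSeq_iff (l : List A) :
    LCI.IsKoszulRegularSeq A l ↔ ∀ n : ℤ, n < 0 → IsZero ((koszulCx (ModuleCat.of A A) l).homology n) := by
  have e : ∀ n : ℤ, IsZero ((_root_.Koszul.koszul A l).homology n) ↔
      IsZero ((koszulCx (ModuleCat.of A A) l).homology n) := fun n =>
    ((HomologicalComplex.homologyFunctor _ _ n).mapIso (eqToIso (koszul_eq l))).isZero_iff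
  refine ⟨fun h n hn => (e n).1 (h n hn.ne), fun h n hn => (e n).2 ?_⟩
  rcases lt_or_gt_of_ne hn with hlt | hgt
  · exact h n hlt
  · exact ModuleCat.isZero_iff_subsingleton.2 (subsingleton_homology_of_out _ l n (Or.inl hgt))

/-- Koszul-regularity of equally many generators of the same ideal. -/
theorem isKoszulRegularSeq_of_ofList_eq {fs gs : List A} (h : Ideal.ofList fs = Ideal.ofList gs)
    (hlen : fs.length = gs.length) (hf : LCI.IsKoszulRegularSeq A fs) : LCI.IsKoszulRegularSeq A gs :=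
  (isKoszulRegularSeq_iff gs).2 ((vanish_iff_of_ofList_eq _ h hlen).1 ((isKoszulRegularSeq_iff fs).1 hf))

end Groth.L07.KoszulPerm
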