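import Groth.Agent.L07.KoszulBC
import Groth.Agent.L07.KoszulPerm
import Mathlib.RingTheory.Flat.EquationalCriterion

/-! Koszul-regularity with coefficients in a flat module. -/

set_option autoImplicit false
set_option linter.style.haveILetI false
set_option backward.isDefEq.respectTransparency.types false

universe u

open CategoryTheory CategoryTheory.Limits CochainComplex CohIII
open Groth.L04.Koszul
open Groth.L28.Kun (Z cl cl_surjective cl_eq_zero_iff homologyMap_cl)

namespace Groth.L07.KoszulFlat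

variable {B : Type u} [CommRing B] (M : ModuleCat.{u} B)

/-- Every element comes from a finite free module. -/
theorem exists_lift : ∀ (l : List B) (m : ℤ) (z : (koszulCx M l).X m),
    ∃ (G : ModuleCat.{u} B) (_ : Module.Free B G) (_ : Module.Finite B G) (q : G ⟶ M)
      (w : (koszulCx G l).X m), (kmap q l).f m w = z := by
  intro l
  induction l with
  | nil =>
    intro m z
    by_cases hm : m = 0
    · let v := (HomologicalComplex.singleObjXIsoOfEq (ComplexShape.up ℤ) (0 : ℤ) M m hm).hom z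
      let G := ModuleCat.of B B
      let q : G ⟶ M := ModuleCat.ofHom (LinearMap.toSpanSingleton B M v)
      obtain ⟨w, hw⟩ := (single_X_eq (M := G) m hm).2 (1 : B)
      refine ⟨G, inferInstanceAs (Module.Free B B), inferInstanceAs (Module.Finite B B), q, w,
        (single_X_eq (M := M) m hm).1 ?_⟩
      refine (kmap_nil_apply q m hm w).trans ?_
      show q _ = v
      rw [hw]
      exact one_smul B v
    · exact ⟨ModuleCat.of B B, inferInstanceAs (Module.Free B B), inferInstanceAs (Module.Finite B B), 0, 0,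
        (ModuleCat.isZero_iff_subsingleton.1 (isZero_X M [] m (by simp only [List.length_nil]; omega))).elim _ _⟩
  | cons f l ih =>
    intro m z
    obtain ⟨a, x, rfl⟩ := exists_cmk_cons M m (m + 1) rfl z
    obtain ⟨G₁, _, _, q₁, w₁, rfl⟩ := ih _ a
    obtain ⟨G₂, _, _, q₂, w₂, rfl⟩ := ih _ x
    let G := ModuleCat.of B (G₁ × G₂)
    let i₁ : G₁ ⟶ G := ModuleCat.ofHom (LinearMap.inl B G₁ G₂)
    let i₂ : G₂ ⟶ G := ModuleCat.ofHom (LinearMap.inr B G₁ G₂)
    let q : G ⟶ M := ModuleCat.ofHom (LinearMap.coprod q₁.hom q₂.hom)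
    have h₁ : i₁ ≫ q = q₁ := ModuleCat.hom_ext (LinearMap.coprod_inl _ _)
    have h₂ : i₂ ≫ q = q₂ := ModuleCat.hom_ext (LinearMap.coprod_inr _ _)
    refine ⟨G, inferInstanceAs (Module.Free B (G₁ × G₂)), inferInstanceAs (Module.Finite B (G₁ × G₂)), q,
      cmk (stepHom G f l) m (m + 1) rfl ((kmap i₁ l).f _ w₁) ((kmap i₂ l).f _ w₂),
      (kmap_cmk q f l rfl _ _).trans ?_⟩
    rw [← ConcreteCategory.comp_apply, ← ConcreteCategory.comp_apply, ← HomologicalComplex.comp_f,
      ← HomologicalComplex.comp_f, ← Groth.L07.KoszulBC.kmap_comp, ← Groth.L07.KoszulBC.kmap_comp, h₁, h₂]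

variable [Module.Flat B M]

/-- An element dying in a flat module dies in a finite free module. -/
theorem exists_kill : ∀ (l : List B) (m : ℤ) (G : ModuleCat.{u} B) [Module.Free B G] [Module.Finite B G]
    (q : G ⟶ M) (w : (koszulCx G l).X m), (kmap q l).f m w = 0 →
    ∃ (G' : ModuleCat.{u} B) (_ : Module.Free B G') (_ : Module.Finite B G') (p : G ⟶ G') (q' : G' ⟶ M),
      q = p ≫ q' ∧ (kmap p l).f m w = 0 := by
  intro l
  induction l with
  | nil =>
    intro m G _ _ q w hw
    by_cases hm : m = 0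
    · let v := (HomologicalComplex.singleObjXIsoOfEq (ComplexShape.up ℤ) (0 : ℤ) G m hm).hom w
      have hv : q.hom v = 0 := (kmap_nil_apply q m hm w).symm.trans ((congrArg _ hw).trans (map_zero _))
      obtain ⟨k, a, y, hya, hav⟩ := Module.Flat.exists_factorization_of_apply_eq_zero_of_free hv
      let G' := ModuleCat.of B (Fin k →₀ B)
      let p : G ⟶ G' := ModuleCat.ofHom a
      refine ⟨G', inferInstanceAs (Module.Free B (Fin k →₀ B)), inferInstanceAs (Module.Finite B (Fin k →₀ B)), p,
        ModuleCat.ofHom y, ModuleCat.hom_ext hya, (single_X_eq (M := G') m hm).1 ?_⟩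
      exact (kmap_nil_apply p m hm w).trans (hav.trans (map_zero _).symm)
    · exact ⟨G, ‹_›, ‹_›, 𝟙 G, q, (Category.id_comp q).symm,
        (ModuleCat.isZero_iff_subsingleton.1 (isZero_X G [] m (by simp only [List.length_nil]; omega))).elim _ _⟩
  | cons f l ih =>
    intro m G _ _ q w hw
    obtain ⟨a, x, rfl⟩ := exists_cmk_cons G m (m + 1) rfl w
    obtain ⟨ha, hx⟩ := cmk_inj _ rfl
      ((kmap_cmk q f l rfl a x).symm.trans (hw.trans (cmk_zero (stepHom M f l) rfl).symm))
    obtain ⟨G₁, _, _, p₁, q₁, rfl, hp₁⟩ := ih _ G q a ha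
    rw [Groth.L07.KoszulBC.kmap_comp, HomologicalComplex.comp_f, ConcreteCategory.comp_apply] at hx
    obtain ⟨G₂, _, _, p₂, q₂, rfl, hp₂⟩ := ih _ G₁ q₁ _ hx
    refine ⟨G₂, ‹_›, ‹_›, p₁ ≫ p₂, q₂, (Category.assoc _ _ _).symm, (kmap_cmk (p₁ ≫ p₂) f l rfl a x).trans ?_⟩
    rw [Groth.L07.KoszulBC.kmap_comp, HomologicalComplex.comp_f, HomologicalComplex.comp_f,
      ConcreteCategory.comp_apply, ConcreteCategory.comp_apply, hp₁, hp₂, map_zero, cmk_zero]
    rfl

/-- Vanishing Koszul cohomology persists in flat modules. -/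
theorem isZero_of_flat (l : List B) (n : ℤ) (h : IsZero ((koszulCx (ModuleCat.of B B) l).homology n)) :
    IsZero ((koszulCx M l).homology n) := by
  refine ModuleCat.isZero_iff_subsingleton.2 (subsingleton_of_forall_eq 0 fun c => ?_)
  obtain ⟨z, rfl⟩ := cl_surjective _ n c
  obtain ⟨G, _, _, q, w, hw⟩ := exists_lift M l n z.1
  have h1 : (kmap q l).f (n + 1) ((koszulCx G l).d n (n + 1) w) = 0 := by
    rw [← ConcreteCategory.comp_apply, ← (kmap q l).comm n (n + 1), ConcreteCategory.comp_apply, hw]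
    exact z.2
  obtain ⟨G', _, _, p, q', rfl, hp⟩ := exists_kill M l (n + 1) G q _ h1
  have hz : (kmap p l).f n w ∈ Z (koszulCx G' l) n := by
    show (koszulCx G' l).d n (n + 1) ((kmap p l).f n w) = 0
    rw [← ConcreteCategory.comp_apply, (kmap p l).comm n (n + 1), ConcreteCategory.comp_apply, hp]
  haveI : Subsingleton ((koszulCx G' l).homology n) := ModuleCat.isZero_iff_subsingleton.1
    (Groth.L07.KoszulBC.isZero_of_iso (Module.Free.chooseBasis B G').repr.symm.toModuleIso l n
      (Groth.L07.KoszulBC.isZero_finsupp _ (ModuleCat.of B B) l n h))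
  obtain ⟨v, hv⟩ := (cl_eq_zero_iff _ (sub_add_cancel n 1) ⟨_, hz⟩).mp (Subsingleton.elim _ _)
  rw [cl_eq_zero_iff _ (sub_add_cancel n 1)]
  refine ⟨(kmap q' l).f (n - 1) v, ?_⟩
  rw [← hw, Groth.L07.KoszulBC.kmap_comp, HomologicalComplex.comp_f, ConcreteCategory.comp_apply,
    show (kmap p l).f n w = (koszulCx G' l).d (n - 1) n v from hv.symm,
    ← ConcreteCategory.comp_apply, (kmap q' l).comm (n - 1) n, ConcreteCategory.comp_apply]

/-- Koszul-regular sequences are preserved by flat ring maps. -/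
theorem isKoszulRegularSeq_map {B' : Type u} [CommRing B'] (φ : B →+* B') (hφ : φ.Flat) (l : List B)
    (h : LCI.IsKoszulRegularSeq B l) : LCI.IsKoszulRegularSeq B' (l.map φ) := by
  letI := φ.toAlgebra
  haveI : Module.Flat B B' := hφ
  refine (Groth.L07.KoszulPerm.isKoszulRegularSeq_iff _).2 fun n hn => ?_
  exact Groth.L07.KoszulBC.isZero_transfer φ (ModuleCat.of B B') (ModuleCat.of B' B') (AddEquiv.refl B')
    (fun b m => Algebra.smul_def b m) l n
    (isZero_of_flat (ModuleCat.of B B') l n ((Groth.L07.KoszulPerm.isKoszulRegularSeq_iff l).1 h n hn))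

end Groth.L07.KoszulFlat
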