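import Groth.Agent.L07.DVRProper
import Groth.Agent.L18.KerReduced
import Mathlib.AlgebraicGeometry.FunctionField

/-! Applications of the criterion for properness near a point. -/

set_option autoImplicit false
set_option linter.style.haveILetI false
set_option maxSynthPendingDepth 3
set_option backward.isDefEq.respectTransparency.types false
set_option backward.isDefEq.respectTransparency false

universe u

open CategoryTheory CategoryTheory.Limits AlgebraicGeometry Topology IsLocalRing

namespace Groth.L07.DVRProper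

/-- The form with sections and points in the fraction field. -/
theorem extends_of_sections' {X Y : Scheme.{u}} (f : X ⟶ Y) (y : Y) (ξ : X)
    (h : ∀ (A : Type u) [CommRing A] [IsDomain A] [IsDiscreteValuationRing A]
      (g : Spec (CommRingCat.of A) ⟶ Y), g.base (IsLocalRing.closedPoint A) = y →
      ∀ σ : Spec (CommRingCat.of (FractionRing A)) ⟶ pullback f g,
        σ ≫ pullback.snd f g = Spec.map (CommRingCat.ofHom (algebraMap A (FractionRing A))) →
        (σ ≫ pullback.fst f g) (closedPoint (FractionRing A)) = ξ →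
        ∃ s : Spec (CommRingCat.of A) ⟶ pullback f g, s ≫ pullback.snd f g = 𝟙 _ ∧
          Spec.map (CommRingCat.ofHom (algebraMap A (FractionRing A))) ≫ s = σ) :
    Extends f ξ y := by
  intro W hW g hg hgη
  let ε := FractionRing.algEquiv W (X.residueField ξ)
  let a : X.residueField ξ ⟶ CommRingCat.of (FractionRing W) := CommRingCat.ofHom ε.symm.toRingEquiv.toRingHom
  let b : CommRingCat.of (FractionRing W) ⟶ X.residueField ξ := CommRingCat.ofHom ε.toRingEquiv.toRingHom
  have hab : CommRingCat.ofHom W.subtype ≫ a = CommRingCat.ofHom (algebraMap W (FractionRing W)) :=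
    CommRingCat.hom_ext (RingHom.ext fun w => ε.symm.commutes w)
  have hba : a ≫ b = 𝟙 _ := CommRingCat.hom_ext (RingHom.ext fun v => ε.apply_symm_apply v)
  have hb : CommRingCat.ofHom (algebraMap W (FractionRing W)) ≫ b = CommRingCat.ofHom W.subtype :=
    CommRingCat.hom_ext (RingHom.ext fun w => ε.commutes w)
  obtain ⟨s, hs, hs'⟩ := h W g hg (pullback.lift (Spec.map a ≫ X.fromSpecResidueField ξ)
    (Spec.map (CommRingCat.ofHom (algebraMap W (FractionRing W)))) (by
      rw [Category.assoc, ← hgη, ← Category.assoc, ← Spec.map_comp, hab])) (pullback.lift_snd _ _ _) (by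
    rw [pullback.lift_fst, Scheme.Hom.comp_apply]
    exact Scheme.fromSpecResidueField_apply _ _)
  refine ⟨s ≫ pullback.fst f g, ?_, ?_⟩
  · rw [← hb, Spec.map_comp, Category.assoc, reassoc_of% hs', pullback.lift_fst, ← Category.assoc,
      ← Spec.map_comp, hba, Spec.map_id]
    exact Category.id_comp _
  · rw [Category.assoc, pullback.condition, reassoc_of% hs]

/-- The form with sections and points in the fraction field, for all points. -/
theorem extends_of_sections {X Y : Scheme.{u}} (f : X ⟶ Y) (y : Y)
    (h : ∀ (A : Type u) [CommRing A] [IsDomain A] [IsDiscreteValuationRing A]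
      (g : Spec (CommRingCat.of A) ⟶ Y), g.base (IsLocalRing.closedPoint A) = y →
      ∀ σ : Spec (CommRingCat.of (FractionRing A)) ⟶ pullback f g,
        σ ≫ pullback.snd f g = Spec.map (CommRingCat.ofHom (algebraMap A (FractionRing A))) →
        ∃ s : Spec (CommRingCat.of A) ⟶ pullback f g, s ≫ pullback.snd f g = 𝟙 _ ∧
          Spec.map (CommRingCat.ofHom (algebraMap A (FractionRing A))) ≫ s = σ) (ξ : X) :
    Extends f ξ y :=
  extends_of_sections' f y ξ fun A _ _ _ g hg σ hσ _ => h A g hg σ hσ

/-- A map to a valuation subring through a map to its field. -/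
theorem exists_local_hom {R K : Type u} [CommRing R] [IsLocalRing R] [Field K] (A : ValuationSubring K)
    (ψ : R →+* K) (h1 : ∀ r, A.valuation (ψ r) ≤ 1) (h2 : ∀ r ∈ maximalIdeal R, A.valuation (ψ r) < 1) :
    ∃ φ : R →+* A, IsLocalHom φ ∧ A.subtype.comp φ = ψ := by
  refine ⟨ψ.codRestrict A.toSubring fun r => (A.valuation_le_one_iff _).mp (h1 r), ⟨fun r hr => ?_⟩,
    RingHom.ext fun r => rfl⟩
  by_contra hn
  have := h2 r hn
  rw [← A.valuation_lt_one_iff ⟨ψ r, (A.valuation_le_one_iff _).mp (h1 r)⟩] at this
  exact this hr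

/-- The criterion in terms of valuation rings of the function field. -/
theorem isProper_nhd_iff {X Y : Scheme.{u}} [IsIntegral X] [IsLocallyNoetherian Y]
    (f : X ⟶ Y) [IsSeparated f] [LocallyOfFiniteType f] [QuasiCompact f] (y : Y)
    (hξ : f.base (genericPoint X) ⤳ y) :
    (∃ U : Y.Opens, y ∈ U ∧ IsProper (f ∣_ U)) ↔
      ∀ A : ValuationSubring X.functionField, IsDiscreteValuationRing A →
        (∀ r : Y.presheaf.stalk y, A.valuation ((Y.presheaf.stalkSpecializes hξ ≫ f.stalkMap (genericPoint X)) r) ≤ 1) →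
        (∀ r ∈ IsLocalRing.maximalIdeal (Y.presheaf.stalk y),
            A.valuation ((Y.presheaf.stalkSpecializes hξ ≫ f.stalkMap (genericPoint X)) r) < 1) →
        ∃ x : X, f.base x = y ∧
          (∀ r : X.presheaf.stalk x, A.valuation (X.presheaf.stalkSpecializes (genericPoint_specializes x) r) ≤ 1) ∧
          (∀ r ∈ IsLocalRing.maximalIdeal (X.presheaf.stalk x),
            A.valuation (X.presheaf.stalkSpecializes (genericPoint_specializes x) r) < 1) := by
  constructor
  · rintro ⟨U, hyU, hU⟩ A _ h1 h2
    obtain ⟨φ, hφ, hφK⟩ := exists_local_hom A (Y.presheaf.stalkSpecializes hξ ≫ f.stalkMap (genericPoint X)).hom h1 h2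
    let g : Spec (CommRingCat.of A) ⟶ Y := Spec.map (CommRingCat.ofHom φ) ≫ Y.fromSpecStalk y
    have hg : g (closedPoint A) = y :=
      (Groth.L18.apply_closedPoint_of_isLocalHom φ (Y.fromSpecStalk y)).trans Y.fromSpecStalk_closedPoint
    have hgU : Set.range g ⊆ Set.range U.ι := by
      rw [Scheme.Opens.range_ι]
      rintro _ ⟨s, rfl⟩
      exact ((IsLocalRing.specializes_closedPoint (s : PrimeSpectrum A)).map g.continuous).mem_open U.2
        (show g (closedPoint A) ∈ U by rw [hg]; exact hyU)
    let g' := IsOpenImmersion.lift U.ι g hgU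
    let a₀ : Spec X.functionField ⟶ X := X.fromSpecStalk (genericPoint X)
    have hw : a₀ ≫ f = Spec.map (CommRingCat.ofHom A.subtype) ≫ g := by
      show _ = Spec.map _ ≫ Spec.map _ ≫ _
      rw [← Spec.map_comp_assoc, ← CommRingCat.ofHom_comp, hφK, CommRingCat.ofHom_hom, Spec.map_comp,
        Category.assoc, Scheme.SpecMap_stalkSpecializes_fromSpecStalk, Scheme.SpecMap_stalkMap_fromSpecStalk]
    let pt : ↥(Spec X.functionField) := closedPoint X.functionField
    have haU : Set.range a₀ ⊆ Set.range (f ⁻¹ᵁ U).ι := by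
      rw [Scheme.Opens.range_ι]
      rintro _ ⟨s, rfl⟩
      show f (a₀ s) ∈ U
      rw [← Scheme.Hom.comp_apply, hw, Scheme.Hom.comp_apply]
      have := hgU ⟨(Spec.map (CommRingCat.ofHom A.subtype)) s, rfl⟩
      rwa [Scheme.Opens.range_ι] at this
    let a := IsOpenImmersion.lift (f ⁻¹ᵁ U).ι a₀ haU
    obtain ⟨l, hl, hlg⟩ := exists_lift (f ∣_ U) A a g' (by
      rw [← cancel_mono U.ι, Category.assoc, morphismRestrict_ι, IsOpenImmersion.lift_fac_assoc, hw,
        Category.assoc, IsOpenImmersion.lift_fac])
    let l' := l ≫ (f ⁻¹ᵁ U).ι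
    have hlK : Spec.map (CommRingCat.ofHom A.subtype) ≫ l' = a₀ := by
      rw [← Category.assoc, hl, IsOpenImmersion.lift_fac]
    set x := l' (closedPoint A) with hx
    have hfx : f x = y := by
      rw [hx, ← Scheme.Hom.comp_apply, Category.assoc, ← morphismRestrict_ι, reassoc_of% hlg,
        IsOpenImmersion.lift_fac, hg]
    let χ := Scheme.stalkClosedPointTo l'
    have hχ : χ ≫ CommRingCat.ofHom A.subtype = X.presheaf.stalkSpecializes (genericPoint_specializes x) := by
      refine Spec.map_injective ?_
      rw [← cancel_mono (X.fromSpecStalk x), Spec.map_comp, Category.assoc,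
        Scheme.Spec_stalkClosedPointTo_fromSpecStalk, hlK, Scheme.SpecMap_stalkSpecializes_fromSpecStalk]
    refine ⟨x, hfx, fun r => ?_, fun r hr => ?_⟩
    · rw [← hχ, CommRingCat.comp_apply]
      exact (A.valuation_le_one_iff _).mpr (χ r).2
    · rw [← hχ, CommRingCat.comp_apply]
      exact (A.valuation_lt_one_iff _).mp (map_nonunit χ.hom r hr)
  · intro h
    set ξ := genericPoint X with hξdef
    refine exists_nhd f y fun W hW g hg hgη => ?_
    let ρ : X.functionField ⟶ X.residueField ξ := X.residue ξ
    have hρ : Function.Bijective ρ.hom := ⟨RingHom.injective _, X.residue_surjective ξ⟩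
    let ε := RingEquiv.ofBijective ρ.hom hρ
    haveI := hW
    obtain ⟨A, e, hA, he⟩ := @exists_trait_transfer X.functionField (X.residueField ξ) _ _ ε.symm.toRingHom ε.symm.bijective W hW
    -- the image of the local ring of `y`
    have key : ∀ (y' : Y) (hy' : f ξ ⤳ y') (hgy : g (closedPoint W) = y'),
        ∃ φ : Y.presheaf.stalk y' →+* W, IsLocalHom φ ∧ Spec.map (CommRingCat.ofHom φ) ≫ Y.fromSpecStalk y' = g ∧
          W.subtype.comp φ = (Y.presheaf.stalkSpecializes hy' ≫ f.stalkMap ξ ≫ ρ).hom := by
      rintro y' hy' rfl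
      refine ⟨(Scheme.stalkClosedPointTo g).hom, inferInstance, Scheme.Spec_stalkClosedPointTo_fromSpecStalk g, ?_⟩
      suffices h' : Scheme.stalkClosedPointTo g ≫ CommRingCat.ofHom W.subtype =
          Y.presheaf.stalkSpecializes hy' ≫ f.stalkMap ξ ≫ ρ from congrArg CommRingCat.Hom.hom h'
      refine Spec.map_injective ?_
      rw [← cancel_mono (Y.fromSpecStalk (g (closedPoint W))), Spec.map_comp, Category.assoc,
        Scheme.Spec_stalkClosedPointTo_fromSpecStalk, hgη]
      simp only [Spec.map_comp, Category.assoc, Scheme.SpecMap_stalkSpecializes_fromSpecStalk,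
        Scheme.SpecMap_stalkMap_fromSpecStalk, Scheme.fromSpecResidueField, ρ, ξ]
    obtain ⟨φ, hφ, hφg, hφK⟩ := key y hξ hg
    have hAval : ∀ r, ((e (φ r) : A) : X.functionField) =
        (Y.presheaf.stalkSpecializes hξ ≫ f.stalkMap ξ) r := by
      intro r
      rw [he]
      apply ε.injective
      show ε (ε.symm _) = _
      rw [ε.apply_symm_apply]
      exact RingHom.congr_fun hφK r
    obtain ⟨x, hxy, hx1, hx2⟩ := h A hA (fun r => by
        rw [← hAval]; exact (A.valuation_le_one_iff _).mpr (e (φ r)).2) (fun r hr => by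
        rw [← hAval]
        refine (A.valuation_lt_one_iff _).mp fun hu => hr (IsUnit.of_map φ r ?_)
        have h5 := hu.map e.symm.toRingHom
        rwa [show e.symm.toRingHom (e (φ r)) = φ r from e.symm_apply_apply _] at h5)
    obtain ⟨ψ, hψ, hψK⟩ := exists_local_hom A (X.presheaf.stalkSpecializes (genericPoint_specializes x)).hom hx1 hx2
    let ψ' : X.presheaf.stalk x ⟶ CommRingCat.of W := CommRingCat.ofHom (e.symm.toRingHom.comp ψ)
    have hψ' : ψ' ≫ CommRingCat.ofHom W.subtype = X.presheaf.stalkSpecializes (genericPoint_specializes x) ≫ ρ := by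
      refine CommRingCat.hom_ext (RingHom.ext fun r => ?_)
      show ((e.symm (ψ r) : W) : X.residueField ξ) = ρ _
      have h1 : ((e (e.symm (ψ r)) : A) : X.functionField) = (X.presheaf.stalkSpecializes (genericPoint_specializes x)).hom r := by
        rw [e.apply_symm_apply]; exact RingHom.congr_fun hψK r
      rw [he] at h1
      have h2 := congrArg ε h1
      rw [show ε (ε.symm.toRingHom _) = _ from ε.apply_symm_apply _] at h2
      exact h2
    let l : Spec (CommRingCat.of W) ⟶ X := Spec.map ψ' ≫ X.fromSpecStalk x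
    refine ⟨l, ?_, ?_⟩
    · rw [← Spec.map_comp_assoc, hψ', Spec.map_comp, Category.assoc, Scheme.SpecMap_stalkSpecializes_fromSpecStalk]
      rfl
    · rw [Category.assoc, ← Scheme.SpecMap_stalkMap_fromSpecStalk, ← Spec.map_comp_assoc]
      clear h hx1 hx2 hAval
      subst hxy
      rw [← hφg]
      congr 2
      refine CommRingCat.hom_ext (RingHom.ext fun r => ?_)
      refine Subtype.ext ?_
      show (ψ' ≫ CommRingCat.ofHom W.subtype).hom ((f.stalkMap x).hom r) = (W.subtype.comp φ) r
      rw [hψ', hφK]
      exact congr($(Scheme.Hom.stalkSpecializes_stalkMap_assoc f _ _ (genericPoint_specializes x) ρ) r).symm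

/-- Maps from a field agreeing after a morphism with bijective residue map at the common image agree. -/
theorem eq_of_residue_bijective {K : Type u} [Field K] {P S : Scheme.{u}} (p : P ⟶ S)
    (a b : Spec (CommRingCat.of K) ⟶ P) (x : P) (ha : a (closedPoint K) = x) (hb : b (closedPoint K) = x)
    (hp : Function.Surjective (p.residueFieldMap x).hom) (h : a ≫ p = b ≫ p) : a = b := by
  subst ha
  obtain ⟨r, hr⟩ : ∃ r, Spec.map r ≫ P.fromSpecResidueField (a (closedPoint K)) = a :=
    ⟨_, Scheme.descResidueField_stalkClosedPointTo_fromSpecResidueField _ _ _⟩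
  obtain ⟨r', hr'⟩ : ∃ r, Spec.map r ≫ P.fromSpecResidueField (a (closedPoint K)) = b := by
    rw [← hb]; exact ⟨_, Scheme.descResidueField_stalkClosedPointTo_fromSpecResidueField _ _ _⟩
  suffices r = r' by rw [← hr, ← hr', this]
  have h1 : p.residueFieldMap (a (closedPoint K)) ≫ r = p.residueFieldMap (a (closedPoint K)) ≫ r' := by
    refine Spec.map_injective ?_
    rw [← cancel_mono (S.fromSpecResidueField (p (a (closedPoint K)))), Spec.map_comp, Spec.map_comp,
      Category.assoc, Category.assoc, Scheme.Hom.SpecMap_residueFieldMap_fromSpecResidueField,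
      reassoc_of% hr, reassoc_of% hr', h]
  refine CommRingCat.hom_ext (RingHom.ext fun v => ?_)
  obtain ⟨w, rfl⟩ := hp v
  exact congr($h1 w)

/-- A closed immersion with reduced source factors through the reduced subscheme of a bigger closed set. -/
theorem exists_factor {T X : Scheme.{u}} [IsReduced T] (t : T ⟶ X) [QuasiCompact t] (C : TopologicalSpace.Closeds X)
    (h : Set.range t ⊆ C) :
    ∃ m : T ⟶ (Scheme.IdealSheafData.vanishingIdeal C).subscheme,
      m ≫ (Scheme.IdealSheafData.vanishingIdeal C).subschemeι = t :=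
  ⟨IsClosedImmersion.lift (Scheme.IdealSheafData.vanishingIdeal C).subschemeι t (by
      rw [Scheme.IdealSheafData.ker_subschemeι]; exact Groth.L18.vanishingIdeal_le_ker t C h),
    IsClosedImmersion.lift_fac _ _ _⟩

/-- Transfer of properness between reduced closed subschemes with the same support. -/
theorem isProper_iff_of_range_eq {T T' P Y : Scheme.{u}} [IsReduced T] [IsReduced T'] (t : T ⟶ P) (t' : T' ⟶ P)
    [IsClosedImmersion t] [IsClosedImmersion t'] (p : P ⟶ Y) (h : Set.range t = Set.range t') :
    IsProper (t ≫ p) ↔ IsProper (t' ≫ p) := by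
  suffices key : ∀ {A B : Scheme.{u}} [IsReduced A] (a : A ⟶ P) (b : B ⟶ P) [IsClosedImmersion a]
      [IsClosedImmersion b] [IsReduced B], Set.range a = Set.range b → IsProper (b ≫ p) → IsProper (a ≫ p) from
    ⟨key t' t h.symm, key t t' h⟩
  intro A B _ a b _ _ _ hab hb
  have hle : b.ker ≤ a.ker := by
    have h1 : a.ker = Scheme.IdealSheafData.vanishingIdeal a.ker.support := by
      refine le_antisymm (Scheme.IdealSheafData.le_support_iff_le_vanishingIdeal.mp le_rfl) ?_
      refine Groth.L18.vanishingIdeal_le_ker a _ ?_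
      rw [Scheme.Hom.support_ker]; exact subset_closure
    rw [h1, ← Scheme.IdealSheafData.le_support_iff_le_vanishingIdeal]
    intro z hz
    rw [← SetLike.mem_coe, Scheme.Hom.support_ker] at hz ⊢
    rwa [← hab]
  let m := IsClosedImmersion.lift b a hle
  have hm : m ≫ b = a := IsClosedImmersion.lift_fac _ _ _
  haveI : IsClosedImmersion (m ≫ b) := by rw [hm]; infer_instance
  haveI : IsClosedImmersion m := IsClosedImmersion.of_comp m b
  rw [← hm, Category.assoc]
  infer_instance

/-- Lifts for a valuation ring with a given fraction field. -/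
theorem exists_lift' {X Y : Scheme.{u}} (f : X ⟶ Y) [UniversallyClosed f] (R K : Type u) [CommRing R]
    [IsDomain R] [ValuationRing R] [Field K] [Algebra R K] [IsFractionRing R K]
    (a : Spec (CommRingCat.of K) ⟶ X) (g : Spec (CommRingCat.of R) ⟶ Y)
    (h : a ≫ f = Spec.map (CommRingCat.ofHom (algebraMap R K)) ≫ g) :
    ∃ l : Spec (CommRingCat.of R) ⟶ X, Spec.map (CommRingCat.ofHom (algebraMap R K)) ≫ l = a ∧ l ≫ f = g := by
  have hex : ValuativeCriterion.Existence f := by
    have h1 : (@UniversallyClosed : MorphismProperty Scheme.{u}) f := inferInstance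
    rw [UniversallyClosed.eq_valuativeCriterion] at h1
    exact h1.1
  obtain ⟨⟨l, h1, h2⟩⟩ := hex { R := R, K := K, i₁ := a, i₂ := g, commSq := ⟨h⟩ }
  exact ⟨l, h1, h2⟩

/-- Properness of a closure near a point by discrete valuation rings. -/
theorem closure_proper_iff {X Y : Scheme.{u}} [IsLocallyNoetherian Y] (f : X ⟶ Y) [IsSeparated f]
    [LocallyOfFiniteType f] [QuasiCompact f] (Z : Set X)
    (hZ : ∀ z ∈ closure Z, (∀ z' ∈ closure Z, z ∈ closure {z'} → z' = z) → z ∈ Z) (y : Y) :
    (∃ U : Y.Opens, y ∈ U ∧ ∃ hC : IsClosed ((f ⁻¹ᵁ U).ι.base ⁻¹' closure Z),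
      IsProper ((Scheme.IdealSheafData.vanishingIdeal
        (⟨(f ⁻¹ᵁ U).ι.base ⁻¹' closure Z, hC⟩ : TopologicalSpace.Closeds ↥(f ⁻¹ᵁ U))).subschemeι ≫ (f ∣_ U))) ↔
      ∀ (A' : Type u) [CommRing A'] [IsDomain A'] [IsDiscreteValuationRing A'] (g : Spec (CommRingCat.of A') ⟶ Y),
        g.base (IsLocalRing.closedPoint A') = y →
        ∀ x' : ↥(pullback f g), (pullback.fst f g).base x' ∈ Z →
          (pullback.snd f g).base x' = genericPoint (Spec (CommRingCat.of A')) →
          Function.Bijective ((pullback.snd f g).residueFieldMap x').hom →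
          ∃ s : Spec (CommRingCat.of A') ⟶ pullback f g, s ≫ pullback.snd f g = 𝟙 _ ∧ x' ∈ Set.range s.base := by
  haveI : IsLocallyNoetherian X := LocallyOfFiniteType.isLocallyNoetherian f
  let C : TopologicalSpace.Closeds X := ⟨closure Z, isClosed_closure⟩
  let I := Scheme.IdealSheafData.vanishingIdeal C
  let i := I.subschemeι
  haveI : IsReduced I.subscheme := Groth.L18.isReduced_vanishingIdeal_subscheme C
  have hr : Set.range i = closure Z := by
    rw [Scheme.IdealSheafData.range_subschemeι]; simp [I, C]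
  have hU : ∀ (U : Y.Opens) (hC : IsClosed ((f ⁻¹ᵁ U).ι.base ⁻¹' closure Z)),
      IsProper ((Scheme.IdealSheafData.vanishingIdeal
        (⟨(f ⁻¹ᵁ U).ι.base ⁻¹' closure Z, hC⟩ : TopologicalSpace.Closeds ↥(f ⁻¹ᵁ U))).subschemeι ≫ (f ∣_ U)) ↔
        IsProper ((i ≫ f) ∣_ U) := by
    intro U hC
    haveI := Groth.L18.isReduced_vanishingIdeal_subscheme (Y := (f ⁻¹ᵁ U).toScheme)
      ⟨(f ⁻¹ᵁ U).ι.base ⁻¹' closure Z, hC⟩
    haveI : IsClosedImmersion (i ∣_ (f ⁻¹ᵁ U)) :=
      IsZariskiLocalAtTarget.restrict (inferInstance : IsClosedImmersion i) (f ⁻¹ᵁ U)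
    rw [morphismRestrict_comp]
    refine isProper_iff_of_range_eq _ _ _ ?_
    rw [Scheme.IdealSheafData.range_subschemeι, Scheme.IdealSheafData.coe_support_vanishingIdeal]
    show (f ⁻¹ᵁ U).ι ⁻¹' closure Z = _
    ext v
    constructor
    · intro hv
      obtain ⟨w, hw⟩ : (f ⁻¹ᵁ U).ι v ∈ Set.range i := by rw [hr]; exact hv
      refine ⟨⟨w, show f (i w) ∈ U by rw [hw]; exact v.2⟩, (f ⁻¹ᵁ U).ι.isOpenEmbedding.injective ?_⟩
      rw [← Scheme.Hom.comp_apply, morphismRestrict_ι, Scheme.Hom.comp_apply]
      exact hw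
    · rintro ⟨w, rfl⟩
      show (f ⁻¹ᵁ U).ι ((i ∣_ (f ⁻¹ᵁ U)) w) ∈ closure Z
      rw [← hr, ← Scheme.Hom.comp_apply, morphismRestrict_ι, Scheme.Hom.comp_apply]
      exact ⟨_, rfl⟩
  constructor
  · rintro ⟨U, hyU, hC, hp⟩ A _ _ _ g hg x' hxZ hxη hbij
    haveI := (hU U hC).mp hp
    let K := FractionRing A
    let c : Spec (CommRingCat.of K) ⟶ Spec (CommRingCat.of A) := Spec.map (CommRingCat.ofHom (algebraMap A K))
    haveI : IsPreimmersion c := IsPreimmersion.of_isLocalization (nonZeroDivisors A)
    obtain ⟨r, hr', hrb⟩ := exists_residueField_bijective c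
    have hcη : c (closedPoint K) = genericPoint (Spec (CommRingCat.of A)) := by
      refine IsGenericPoint.eq ?_ (genericPoint_spec _)
      refine Set.eq_univ_of_forall fun z => closure_mono ?_
        ((PrimeSpectrum.denseRange_comap_iff_ker_le_nilRadical (algebraMap A K)).mpr (by
          rw [(RingHom.injective_iff_ker_eq_bot _).mp (IsFractionRing.injective A K)]; exact bot_le) z)
      rintro _ ⟨w, rfl⟩
      rw [Unique.eq_default w, ← Unique.eq_default (closedPoint K)]
      rfl
    obtain ⟨σ, hσ, hσx⟩ : ∃ σ : Spec (CommRingCat.of K) ⟶ pullback f g,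
        σ ≫ pullback.snd f g = c ∧ σ (closedPoint K) = x' := by
      obtain ⟨r', hr''⟩ : ∃ r' : (Spec (CommRingCat.of A)).residueField ((pullback.snd f g) x') ⟶ CommRingCat.of K,
          Spec.map r' ≫ (Spec (CommRingCat.of A)).fromSpecResidueField ((pullback.snd f g) x') = c := by
        rw [show (pullback.snd f g) x' = c (closedPoint K) from hxη.trans hcη.symm]; exact ⟨r, hr'⟩
      haveI : IsIso ((pullback.snd f g).residueFieldMap x') :=
        (ConcreteCategory.isIso_iff_bijective _).mpr hbij
      refine ⟨Spec.map (inv ((pullback.snd f g).residueFieldMap x') ≫ r') ≫ (pullback f g).fromSpecResidueField x', ?_, ?_⟩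
      · rw [Category.assoc, ← Scheme.Hom.SpecMap_residueFieldMap_fromSpecResidueField, ← Spec.map_comp_assoc,
          IsIso.hom_inv_id_assoc, hr'']
      · rw [Scheme.Hom.comp_apply]; exact Scheme.fromSpecResidueField_apply _ _
    haveI : IsReduced (Spec (CommRingCat.of K)) := inferInstance
    obtain ⟨m, hm⟩ := exists_factor (σ ≫ pullback.fst f g) C (by
      rintro _ ⟨w, rfl⟩
      rw [show w = closedPoint K from Subsingleton.elim (α := PrimeSpectrum K) w _, Scheme.Hom.comp_apply, hσx]
      exact subset_closure hxZ)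
    have hgU : Set.range g ⊆ Set.range U.ι := by
      rw [Scheme.Opens.range_ι]
      rintro _ ⟨s, rfl⟩
      exact ((IsLocalRing.specializes_closedPoint (s : PrimeSpectrum A)).map g.continuous).mem_open U.2
        (show g (closedPoint A) ∈ U by rw [hg]; exact hyU)
    have hmf : m ≫ i ≫ f = c ≫ g := by
      rw [reassoc_of% hm, pullback.condition, reassoc_of% hσ]
    have hmU : Set.range m ⊆ Set.range ((i ≫ f) ⁻¹ᵁ U).ι := by
      rw [Scheme.Opens.range_ι]
      rintro _ ⟨s, rfl⟩
      show (i ≫ f) (m s) ∈ U
      rw [← Scheme.Hom.comp_apply, hmf, Scheme.Hom.comp_apply]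
      have := hgU ⟨c s, rfl⟩
      rwa [Scheme.Opens.range_ι] at this
    obtain ⟨l, hl, hlg⟩ := exists_lift' ((i ≫ f) ∣_ U) A K (IsOpenImmersion.lift _ m hmU)
      (IsOpenImmersion.lift U.ι g hgU) (by
        rw [← cancel_mono U.ι, Category.assoc, morphismRestrict_ι, IsOpenImmersion.lift_fac_assoc, hmf,
          Category.assoc, IsOpenImmersion.lift_fac])
    let l' := l ≫ ((i ≫ f) ⁻¹ᵁ U).ι ≫ i
    have hl'f : l' ≫ f = g := by
      simp only [l', Category.assoc]
      rw [← morphismRestrict_ι, reassoc_of% hlg, IsOpenImmersion.lift_fac]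
    refine ⟨pullback.lift l' (𝟙 _) (by rw [hl'f, Category.id_comp]), pullback.lift_snd _ _ _, c (closedPoint K), ?_⟩
    rw [← hσx, ← Scheme.Hom.comp_apply]
    refine congrArg (fun t : Spec (CommRingCat.of K) ⟶ pullback f g => t (closedPoint K)) ?_
    apply pullback.hom_ext
    · rw [Category.assoc, pullback.lift_fst, reassoc_of% hl, IsOpenImmersion.lift_fac_assoc]
      exact hm
    · rw [Category.assoc, pullback.lift_snd, hσ, Category.comp_id]
  · intro h
    obtain ⟨U, hyU, hp⟩ : ∃ U : Y.Opens, y ∈ U ∧ IsProper ((i ≫ f) ∣_ U) := by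
      refine exists_nhd_of_forall (i ≫ f) y fun W hW η hη => extends_of_sections' (i ≫ f) y η ?_
      have hzZ : i η ∈ Z := by
        refine hZ _ (hr.le ⟨η, rfl⟩) fun z' hz' hz => ?_
        obtain ⟨w, rfl⟩ : z' ∈ Set.range i := hr.ge hz'
        have h1 : w ⤳ η := i.isEmbedding.toIsInducing.specializes_iff.mp (specializes_iff_mem_closure.mpr hz)
        have h2 : W ⊆ closure {w} := by
          rw [← hη.def]
          exact closure_minimal (Set.singleton_subset_iff.mpr (specializes_iff_mem_closure.mp h1)) isClosed_closure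
        have h3 := hη.specializes (hW.2 isIrreducible_singleton.closure h2 (subset_closure rfl))
        rw [(h1.antisymm h3).eq]
      intro A _ _ _ g hg σ hσ hση
      let K := FractionRing A
      let c : Spec (CommRingCat.of K) ⟶ Spec (CommRingCat.of A) := Spec.map (CommRingCat.ofHom (algebraMap A K))
      haveI : IsPreimmersion c := IsPreimmersion.of_isLocalization (nonZeroDivisors A)
      obtain ⟨rc, hrc, hrcb⟩ := exists_residueField_bijective c
      have hcη : c (closedPoint K) = genericPoint (Spec (CommRingCat.of A)) := by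
        refine IsGenericPoint.eq ?_ (genericPoint_spec _)
        refine Set.eq_univ_of_forall fun z => closure_mono ?_
          ((PrimeSpectrum.denseRange_comap_iff_ker_le_nilRadical (algebraMap A K)).mpr (by
            rw [(RingHom.injective_iff_ker_eq_bot _).mp (IsFractionRing.injective A K)]; exact bot_le) z)
        rintro _ ⟨w, rfl⟩
        rw [Unique.eq_default w, ← Unique.eq_default (closedPoint K)]
        rfl
      let M : pullback (i ≫ f) g ⟶ pullback f g :=
        pullback.lift (pullback.fst _ _ ≫ i) (pullback.snd _ _) (by rw [Category.assoc]; exact pullback.condition)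
      let σ' := σ ≫ M
      have hσ' : σ' ≫ pullback.snd f g = c := by
        rw [Category.assoc, pullback.lift_snd]; exact hσ
      set x' := σ' (closedPoint K) with hx'
      have hfst : pullback.fst f g x' = i η := by
        rw [hx', ← Scheme.Hom.comp_apply, Category.assoc, pullback.lift_fst, ← Category.assoc,
          Scheme.Hom.comp_apply, hση]
      have hsnd : pullback.snd f g x' = c (closedPoint K) := by
        rw [hx', ← Scheme.Hom.comp_apply, hσ']
      have hbij : Function.Bijective ((pullback.snd f g).residueFieldMap x').hom := by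
        refine ⟨RingHom.injective _, fun v => ?_⟩
        obtain ⟨r, hr'⟩ : ∃ r : (pullback f g).residueField x' ⟶ CommRingCat.of K,
            Spec.map r ≫ (pullback f g).fromSpecResidueField x' = σ' :=
          ⟨_, Scheme.descResidueField_stalkClosedPointTo_fromSpecResidueField _ _ _⟩
        obtain ⟨r', hr'', hr'b⟩ : ∃ r' : (Spec (CommRingCat.of A)).residueField ((pullback.snd f g) x') ⟶ CommRingCat.of K,
            Spec.map r' ≫ (Spec (CommRingCat.of A)).fromSpecResidueField ((pullback.snd f g) x') = c ∧
              Function.Bijective r'.hom := by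
          rw [hsnd]; exact ⟨rc, hrc, hrcb⟩
        have he : (pullback.snd f g).residueFieldMap x' ≫ r = r' := by
          refine Spec.map_injective ?_
          rw [← cancel_mono ((Spec (CommRingCat.of A)).fromSpecResidueField ((pullback.snd f g) x')), hr'',
            Spec.map_comp, Category.assoc, Scheme.Hom.SpecMap_residueFieldMap_fromSpecResidueField,
            reassoc_of% hr', hσ']
        obtain ⟨w, hw⟩ := hr'b.2 (r.hom v)
        exact ⟨w, r.hom.injective (by rw [← hw, ← he]; rfl)⟩
      obtain ⟨s, hs, z, hz⟩ := h A g hg x' (by rw [hfst]; exact hzZ) (hsnd.trans hcη) hbij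
      have hzη : z = c (closedPoint K) := by
        rw [← hsnd, ← hz, ← Scheme.Hom.comp_apply, hs]; rfl
      have hsσ : c ≫ s = σ' := eq_of_residue_bijective (pullback.snd f g) _ _ x'
        (by rw [Scheme.Hom.comp_apply, ← hzη, hz]) hx'.symm hbij.2 (by rw [Category.assoc, hs, hσ', Category.comp_id])
      haveI : IsReduced (Spec (CommRingCat.of A)) := inferInstance
      obtain ⟨m, hm⟩ := exists_factor (s ≫ pullback.fst f g) C (by
        rintro _ ⟨w, rfl⟩
        have hw : c (closedPoint K) ⤳ w := by rw [hcη]; exact genericPoint_specializes w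
        have h1 := hw.map (s ≫ pullback.fst f g).continuous
        refine h1.mem_closed isClosed_closure ?_
        rw [Scheme.Hom.comp_apply, ← hzη, hz, hfst]
        exact subset_closure hzZ)
      refine ⟨pullback.lift m (𝟙 _) (by rw [Category.id_comp, reassoc_of% hm, pullback.condition, reassoc_of% hs]),
        pullback.lift_snd _ _ _, ?_⟩
      apply pullback.hom_ext
      · rw [Category.assoc, pullback.lift_fst, ← cancel_mono i, Category.assoc, hm, reassoc_of% hsσ,
          Category.assoc, Category.assoc, pullback.lift_fst]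
      · rw [Category.assoc, pullback.lift_snd, Category.comp_id, hσ]
    exact ⟨U, hyU, isClosed_closure.preimage (f ⁻¹ᵁ U).ι.continuous, (hU U _).mpr hp⟩

end Groth.L07.DVRProper
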