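import Groth.Agent.L07.RatNormal
import Groth.Agent.L07.DVRProperApps
import Groth.Agent.L07.UnivOpenAt

/-!
Helpers for the valuative criterion of extension of sections to normal points.
-/

universe u

open CategoryTheory AlgebraicGeometry Limits TopologicalSpace Topology

namespace Groth.L07.RatSection

set_option maxSynthPendingDepth 3
set_option backward.isDefEq.respectTransparency.types false
set_option backward.isDefEq.respectTransparency false

/-- Gluing two morphisms defined on open subsets. -/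
theorem exists_glue {X Y : Scheme.{u}} (U V : X.Opens) (a : (U : Scheme.{u}) ⟶ Y) (b : (V : Scheme.{u}) ⟶ Y)
    (h : X.homOfLE (inf_le_left : U ⊓ V ≤ U) ≫ a = X.homOfLE (inf_le_right : U ⊓ V ≤ V) ≫ b) :
    ∃ c : ((U ⊔ V : X.Opens) : Scheme.{u}) ⟶ Y,
      X.homOfLE le_sup_left ≫ c = a ∧ X.homOfLE le_sup_right ≫ c = b := by
  let T := (U ⊔ V : X.Opens)
  let O : Bool → X.Opens := fun i => bif i then U else V
  let W : Bool → (T : Scheme.{u}).Opens := fun i => T.ι ⁻¹ᵁ O i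
  have hW : IsOpenCover W := by
    rw [IsOpenCover, eq_top_iff]
    rintro ⟨x, hx⟩ -
    rw [Opens.mem_iSup]
    rcases (hx : x ∈ U ⊔ V) with h' | h'
    · exact ⟨true, h'⟩
    · exact ⟨false, h'⟩
  let 𝒰 := (T : Scheme.{u}).openCoverOfIsOpenCover W hW
  have hr : ∀ i, Set.range ((W i).ι ≫ T.ι) ⊆ Set.range (O i).ι := by
    rintro i _ ⟨v, rfl⟩
    rw [Scheme.Opens.range_ι]
    exact v.2
  let l : ∀ i, (W i : Scheme.{u}) ⟶ (O i : Scheme.{u}) :=
    fun i => IsOpenImmersion.lift (O i).ι ((W i).ι ≫ T.ι) (hr i)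
  have hl : ∀ i, l i ≫ (O i).ι = (W i).ι ≫ T.ι := fun i => IsOpenImmersion.lift_fac _ _ _
  let g : ∀ i : Bool, (O i : Scheme.{u}) ⟶ Y := fun i => Bool.rec b a i
  have key : ∀ {Z : Scheme.{u}} (p : Z ⟶ (U : Scheme.{u})) (q : Z ⟶ (V : Scheme.{u})),
      p ≫ U.ι = q ≫ V.ι → p ≫ a = q ≫ b := by
    intro Z p q e
    have hp : Set.range (p ≫ U.ι) ⊆ Set.range (U ⊓ V).ι := by
      rintro _ ⟨z, rfl⟩
      rw [Scheme.Opens.range_ι]
      refine ⟨(p z).2, ?_⟩
      rw [e]
      exact (q z).2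
    let r := IsOpenImmersion.lift (U ⊓ V).ι (p ≫ U.ι) hp
    have hr : r ≫ (U ⊓ V).ι = p ≫ U.ι := IsOpenImmersion.lift_fac _ _ _
    have e1 : r ≫ X.homOfLE inf_le_left = p := by
      rw [← cancel_mono U.ι, Category.assoc, Scheme.homOfLE_ι, hr]
    have e2 : r ≫ X.homOfLE inf_le_right = q := by
      rw [← cancel_mono V.ι, Category.assoc, Scheme.homOfLE_ι, hr, e]
    rw [← e1, ← e2, Category.assoc, h, Category.assoc]
  have hcompat : ∀ i j : Bool, pullback.fst (W i).ι (W j).ι ≫ (l i ≫ g i) =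
      pullback.snd (W i).ι (W j).ι ≫ (l j ≫ g j) := by
    intro i j
    have e : (pullback.fst (W i).ι (W j).ι ≫ l i) ≫ (O i).ι =
        (pullback.snd (W i).ι (W j).ι ≫ l j) ≫ (O j).ι := by
      rw [Category.assoc, hl, Category.assoc, hl, pullback.condition_assoc]
    simp only [← Category.assoc]
    cases i <;> cases j
    · congr 1
      exact (cancel_mono (O false).ι).mp e
    · exact (key _ _ e.symm).symm
    · exact key _ _ e
    · congr 1
      exact (cancel_mono (O true).ι).mp e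
  refine ⟨𝒰.glueMorphisms (fun i => l i ≫ g i) hcompat, ?_, ?_⟩
  · have hr' : Set.range (X.homOfLE (le_sup_left : U ≤ T)) ⊆ Set.range (W true).ι := by
      rintro _ ⟨v, rfl⟩
      rw [Scheme.Opens.range_ι]
      show T.ι _ ∈ U
      rw [← Scheme.Hom.comp_apply, Scheme.homOfLE_ι]
      exact v.2
    let m := IsOpenImmersion.lift (W true).ι (X.homOfLE (le_sup_left : U ≤ T)) hr'
    have hm : m ≫ (W true).ι = X.homOfLE le_sup_left := IsOpenImmersion.lift_fac _ _ _
    have hml : m ≫ l true = 𝟙 _ := by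
      refine (cancel_mono (O true).ι).mp ?_
      rw [Category.assoc, hl, reassoc_of% hm, Scheme.homOfLE_ι, Category.id_comp]
      rfl
    rw [← hm, Category.assoc]
    erw [Scheme.Cover.ι_glueMorphisms 𝒰 (fun i => l i ≫ g i) hcompat true]
    rw [reassoc_of% hml]
  · have hr' : Set.range (X.homOfLE (le_sup_right : V ≤ T)) ⊆ Set.range (W false).ι := by
      rintro _ ⟨v, rfl⟩
      rw [Scheme.Opens.range_ι]
      show T.ι _ ∈ V
      rw [← Scheme.Hom.comp_apply, Scheme.homOfLE_ι]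
      exact v.2
    let m := IsOpenImmersion.lift (W false).ι (X.homOfLE (le_sup_right : V ≤ T)) hr'
    have hm : m ≫ (W false).ι = X.homOfLE le_sup_right := IsOpenImmersion.lift_fac _ _ _
    have hml : m ≫ l false = 𝟙 _ := by
      refine (cancel_mono (O false).ι).mp ?_
      rw [Category.assoc, hl, reassoc_of% hm, Scheme.homOfLE_ι, Category.id_comp]
      rfl
    rw [← hm, Category.assoc]
    erw [Scheme.Cover.ι_glueMorphisms 𝒰 (fun i => l i ≫ g i) hcompat false]
    rw [reassoc_of% hml]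

/-- A locally Noetherian scheme is integral near a point with domain local ring. -/
theorem exists_integral_nhd {X : Scheme.{u}} [IsLocallyNoetherian X] (x : X) [IsDomain (X.presheaf.stalk x)] :
    ∃ V : X.Opens, x ∈ V ∧ IsAffineOpen V ∧ AlgebraicGeometry.IsIntegral (V : Scheme.{u}) := by
  obtain ⟨V, hV, hxV, -⟩ := exists_isAffineOpen_mem_and_subset (TopologicalSpace.Opens.mem_top x)
  haveI : IsNoetherianRing Γ(X, V) := IsLocallyNoetherian.component_noetherian ⟨V, hV⟩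
  letI := TopCat.Presheaf.algebra_section_stalk X.presheaf ⟨x, hxV⟩
  haveI := hV.isLocalization_stalk ⟨x, hxV⟩
  set p := (hV.primeIdealOf ⟨x, hxV⟩).asIdeal with hp
  let φ := algebraMap Γ(X, V) (X.presheaf.stalk x)
  obtain ⟨G, hG⟩ := (IsNoetherian.noetherian (RingHom.ker φ) : (RingHom.ker φ).FG)
  have hs : ∀ g : Γ(X, V), g ∈ RingHom.ker φ → ∃ s : p.primeCompl, s.1 * g = 0 := fun g hg =>
    (IsLocalization.map_eq_zero_iff p.primeCompl (X.presheaf.stalk x) g).mp hg
  choose s hs using hs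
  let t : Γ(X, V) := ∏ g ∈ G.attach, (s g.1 (hG ▸ Ideal.subset_span g.2)).1
  have ht : t ∈ p.primeCompl := prod_mem fun g _ => (s g.1 _).2
  have hker : ∀ g ∈ RingHom.ker φ, t * g = 0 := by
    intro g hg
    rw [← hG] at hg
    induction hg using Submodule.span_induction with
    | mem g hg =>
      obtain ⟨c, hc⟩ : (fun g' : {a // a ∈ G} => (s g'.1 (hG ▸ Ideal.subset_span g'.2)).1) ⟨g, hg⟩ ∣ t :=
        Finset.dvd_prod_of_mem (fun g' : {a // a ∈ G} => (s g'.1 (hG ▸ Ideal.subset_span g'.2)).1)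
          (Finset.mem_attach G ⟨g, hg⟩)
      rw [hc, mul_right_comm, hs, zero_mul]
    | zero => rw [mul_zero]
    | add a b _ _ ha hb => rw [mul_add, ha, hb, add_zero]
    | smul r a _ ha => rw [smul_eq_mul, mul_left_comm, ha, mul_zero]
  haveI := hV.isLocalization_basicOpen t
  have hu : ∀ y : Submonoid.powers t, IsUnit (φ y) := by
    rintro ⟨_, n, rfl⟩
    exact IsLocalization.map_units (X.presheaf.stalk x) (⟨t ^ n, pow_mem ht n⟩ : p.primeCompl)
  let ψ : Γ(X, X.basicOpen t) →+* X.presheaf.stalk x := IsLocalization.lift hu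
  have hψ : Function.Injective ψ := by
    rw [injective_iff_map_eq_zero]
    intro a ha
    obtain ⟨b, m, rfl⟩ := IsLocalization.exists_mk'_eq (Submonoid.powers t) a
    rw [IsLocalization.lift_mk'_spec, mul_zero] at ha
    rw [IsLocalization.mk'_eq_zero_iff]
    exact ⟨⟨t, 1, pow_one t⟩, hker _ ha⟩
  haveI : IsDomain Γ(X, X.basicOpen t) := hψ.isDomain ψ
  have hxt : x ∈ X.basicOpen t := by
    refine (congrArg (· ∈ X.basicOpen t) (hV.fromSpec_primeIdealOf ⟨x, hxV⟩)).mp ?_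
    show hV.primeIdealOf ⟨x, hxV⟩ ∈ hV.fromSpec ⁻¹ᵁ X.basicOpen t
    rw [hV.fromSpec_preimage_basicOpen]
    exact ht
  refine ⟨X.basicOpen t, hxt, hV.basicOpen t, ?_⟩
  haveI : IsAffine (X.basicOpen t : Scheme.{u}) := hV.basicOpen t
  haveI : IsDomain Γ((X.basicOpen t : Scheme.{u}), ⊤) :=
    (X.basicOpen t).topIso.commRingCatIsoToRingEquiv.injective.isDomain (X.basicOpen t).topIso.commRingCatIsoToRingEquiv.toRingHom
  haveI : Nonempty (X.basicOpen t : Scheme.{u}) := ⟨⟨x, hxt⟩⟩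
  exact isIntegral_of_isAffine_of_isDomain _

/-- A field-valued point landing in the range of a section factors through it. -/
theorem exists_factor_section {X P : Scheme.{u}} {U : X.Opens} (q : P ⟶ X) (σ : (U : Scheme.{u}) ⟶ P)
    (hσ : σ ≫ q = U.ι) {K : Type u} [Field K] (g : Spec (CommRingCat.of K) ⟶ P)
    (hg : g (IsLocalRing.closedPoint K) ∈ Set.range σ) :
    ∃ e : Spec (CommRingCat.of K) ⟶ (U : Scheme.{u}), e ≫ σ = g := by
  obtain ⟨u, hu⟩ := hg
  have hb : Function.Surjective (σ.residueFieldMap u).hom := by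
    have h1 : Function.Bijective ((σ ≫ q).residueFieldMap u).hom := by
      rw [Scheme.Hom.residueFieldMap_congr hσ u]
      exact ConcreteCategory.bijective_of_isIso _
    rw [Scheme.residueFieldMap_comp] at h1
    exact Function.Surjective.of_comp h1.2
  have : IsIso (σ.residueFieldMap u) :=
    (ConcreteCategory.isIso_iff_bijective _).mpr ⟨RingHom.injective _, hb⟩
  have h1 : Spec.map (inv (σ.residueFieldMap u)) ≫ (U : Scheme.{u}).fromSpecResidueField u ≫ σ =
      P.fromSpecResidueField (σ u) := by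
    rw [← Scheme.Hom.SpecMap_residueFieldMap_fromSpecResidueField, ← Spec.map_comp_assoc,
      IsIso.hom_inv_id, Spec.map_id, Category.id_comp]
  obtain ⟨z, φ, hz⟩ : ∃ (z : P) (φ : P.residueField z ⟶ CommRingCat.of K),
      z = g (IsLocalRing.closedPoint K) ∧ Spec.map φ ≫ P.fromSpecResidueField z = g := by
    refine ⟨((Scheme.SpecToEquivOfField K P) g).1, ((Scheme.SpecToEquivOfField K P) g).2, rfl, ?_⟩
    exact (Scheme.SpecToEquivOfField K P).symm_apply_apply g
  refine ⟨Spec.map φ ≫ Spec.map (Scheme.residueFieldCongr (hu.trans hz.1.symm)).hom ≫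
    Spec.map (inv (σ.residueFieldMap u)) ≫ (U : Scheme.{u}).fromSpecResidueField u, ?_⟩
  simp only [Category.assoc, h1, Scheme.residueFieldCongr_fromSpecResidueField]
  exact hz.2


open Groth.L07.DVRProper in
/-- A trait through a point of `U` specialising to `x ∉ U`. -/
theorem exists_dvr_into {X : Scheme.{u}} [IsLocallyNoetherian X] {U : X.Opens} {d x : X}
    (h : d ⤳ x) (hdU : d ∈ U) (hxU : x ∉ U) :
    ∃ (R : Type u) (_ : CommRing R) (_ : IsDomain R) (_ : IsDiscreteValuationRing R)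
      (u : Spec (CommRingCat.of R) ⟶ X) (ub : Spec (CommRingCat.of (FractionRing R)) ⟶ (U : Scheme.{u})),
      u (IsLocalRing.closedPoint R) = x ∧
      ub ≫ U.ι = Spec.map (CommRingCat.ofHom (algebraMap R (FractionRing R))) ≫ u ∧
      U.ι (ub (IsLocalRing.closedPoint (FractionRing R))) = d := by
  obtain ⟨W, t, hW, ht0, ht1⟩ := exists_dvr_through' h (fun e => hxU (e ▸ hdU))
  let e : FractionRing W ≃ₐ[W] X.residueField d := FractionRing.algEquiv W (X.residueField d)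
  let g := Spec.map (CommRingCat.ofHom e.symm.toRingEquiv.toRingHom) ≫ X.fromSpecResidueField d
  have hg : Set.range g ⊆ Set.range U.ι := by
    rintro _ ⟨p, rfl⟩
    rw [Scheme.Opens.range_ι, Scheme.Hom.comp_apply]
    erw [Scheme.fromSpecResidueField_apply]
    exact hdU
  have hsub : Spec.map (CommRingCat.ofHom (algebraMap W (FractionRing W))) =
      Spec.map (CommRingCat.ofHom e.symm.toRingEquiv.toRingHom) ≫
        Spec.map (CommRingCat.ofHom W.subtype) := by
    rw [← Spec.map_comp]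
    congr 1
    ext a
    exact (e.symm.commutes a).symm
  refine ⟨W, inferInstance, inferInstance, hW, t, IsOpenImmersion.lift U.ι g hg, ht0, ?_, ?_⟩
  · rw [IsOpenImmersion.lift_fac, hsub, Category.assoc, ht1]
  · rw [← Scheme.Hom.comp_apply, IsOpenImmersion.lift_fac]
    show (Spec.map _ ≫ X.fromSpecResidueField d) _ = d
    rw [Scheme.Hom.comp_apply]
    erw [Scheme.fromSpecResidueField_apply]

/-- A morphism extending a section restricts along traits. -/
theorem exists_lift_of_extension {X Y : Scheme.{u}} (q : Y ⟶ X) (U U' : X.Opens) (hUU' : U ≤ U')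
    (h : (U : Scheme.{u}) ⟶ Y) (h' : (U' : Scheme.{u}) ⟶ Y) (hh' : h' ≫ q = U'.ι)
    (hag : X.homOfLE hUU' ≫ h' = h) {R : Type u} [CommRing R] [IsLocalRing R]
    (u : Spec (CommRingCat.of R) ⟶ X) {x : X} (hx : u (IsLocalRing.closedPoint R) = x) (hxU' : x ∈ U')
    {T : Scheme.{u}} (ub : T ⟶ (U : Scheme.{u})) (j : T ⟶ Spec (CommRingCat.of R)) (hub : ub ≫ U.ι = j ≫ u) :
    ∃ h₁ : Spec (CommRingCat.of R) ⟶ Y,
      h₁ ≫ q = u ∧ h₁ (IsLocalRing.closedPoint R) = h' ⟨x, hxU'⟩ ∧ j ≫ h₁ = ub ≫ h := by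
  have hr : Set.range u ⊆ Set.range U'.ι := by
    rintro _ ⟨p, rfl⟩
    rw [Scheme.Opens.range_ι]
    exact ((IsLocalRing.specializes_closedPoint p).map u.continuous).mem_open U'.2 (hx ▸ hxU')
  let l := IsOpenImmersion.lift U'.ι u hr
  have hl : l ≫ U'.ι = u := IsOpenImmersion.lift_fac _ _ _
  refine ⟨l ≫ h', by rw [Category.assoc, hh', hl], ?_, ?_⟩
  · rw [Scheme.Hom.comp_apply]
    congr 1
    apply Subtype.ext
    show U'.ι (l (IsLocalRing.closedPoint R)) = x
    rw [← Scheme.Hom.comp_apply, hl, hx]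
  · have e : j ≫ l = ub ≫ X.homOfLE hUU' := by
      rw [← cancel_mono U'.ι, Category.assoc, hl, Category.assoc, Scheme.homOfLE_ι, hub]
    rw [reassoc_of% e, hag]

/-- Gluing an extension near `x` with the given section. -/
theorem exists_extension_of_agree {X Y : Scheme.{u}} (q : Y ⟶ X) (U V : X.Opens)
    (h : (U : Scheme.{u}) ⟶ Y) (hh : h ≫ q = U.ι) {x : X} (hxV : x ∈ V) (s : (V : Scheme.{u}) ⟶ Y)
    (hs : s ≫ q = V.ι)
    (hag : X.homOfLE (inf_le_right : U ⊓ V ≤ V) ≫ s = X.homOfLE (inf_le_left : U ⊓ V ≤ U) ≫ h) :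
    ∃ (U' : X.Opens) (hUU' : U ≤ U') (hxU' : x ∈ U') (h' : (U' : Scheme.{u}) ⟶ Y),
      h' ≫ q = U'.ι ∧ X.homOfLE hUU' ≫ h' = h ∧ h' ⟨x, hxU'⟩ = s ⟨x, hxV⟩ := by
  obtain ⟨c, hcU, hcV⟩ := exists_glue U V h s hag.symm
  refine ⟨U ⊔ V, le_sup_left, le_sup_right (α := X.Opens) hxV, c, ?_, hcU, ?_⟩
  · obtain ⟨d, hdU, hdV⟩ := exists_glue U V U.ι V.ι (by simp)
    let 𝒰 : ((U ⊔ V : X.Opens) : Scheme.{u}).OpenCover :=
      Scheme.openCoverOfIsOpenCover _ (fun i : Bool => (U ⊔ V).ι ⁻¹ᵁ (bif i then U else V)) (by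
        rw [IsOpenCover, eq_top_iff]
        rintro ⟨y, hy⟩ -
        rw [Opens.mem_iSup]
        rcases (hy : y ∈ U ⊔ V) with h' | h'
        · exact ⟨true, h'⟩
        · exact ⟨false, h'⟩)
    refine 𝒰.hom_ext _ _ fun i => ?_
    have hr : Set.range (((U ⊔ V).ι ⁻¹ᵁ (bif i then U else V)).ι ≫ (U ⊔ V).ι) ⊆
        Set.range (bif i then U else V).ι := by
      rintro _ ⟨v, rfl⟩
      rw [Scheme.Opens.range_ι]
      exact v.2
    let l := IsOpenImmersion.lift _ _ hr
    have hl : l ≫ (bif i then U else V).ι = ((U ⊔ V).ι ⁻¹ᵁ (bif i then U else V)).ι ≫ (U ⊔ V).ι :=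
      IsOpenImmersion.lift_fac _ _ _
    show ((U ⊔ V).ι ⁻¹ᵁ (bif i then U else V)).ι ≫ c ≫ q =
      ((U ⊔ V).ι ⁻¹ᵁ (bif i then U else V)).ι ≫ (U ⊔ V).ι
    have hle : (bif i then U else V) ≤ U ⊔ V := by cases i <;> simp
    have he : l ≫ X.homOfLE hle = ((U ⊔ V).ι ⁻¹ᵁ (bif i then U else V)).ι := by
      rw [← cancel_mono (U ⊔ V).ι, Category.assoc, Scheme.homOfLE_ι, hl]
    rw [← he, Category.assoc]
    cases i
    · rw [reassoc_of% hcV, hs]
      exact ((Category.assoc _ _ _).trans (congrArg (l ≫ ·) (Scheme.homOfLE_ι _ hle))).symm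
    · rw [reassoc_of% hcU, hh]
      exact ((Category.assoc _ _ _).trans (congrArg (l ≫ ·) (Scheme.homOfLE_ι _ hle))).symm
  · rw [← hcV, Scheme.Hom.comp_apply]
    congr 1
    exact Subtype.ext (by simp)

open Groth.L07.RatNormal Groth.L07.DVRProper in
/-- The valuative criterion for extending a section to a normal point with prescribed value. -/
theorem exists_extension_of_dvr {X Y : Scheme.{u}} [IsLocallyNoetherian X] (q : Y ⟶ X)
    [LocallyOfFiniteType q] (U : X.Opens) (hU : Dense (U : Set X)) (h : (U : Scheme.{u}) ⟶ Y)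
    (hh : h ≫ q = U.ι) (x : X) (hxU : x ∉ U) [IsDomain (X.presheaf.stalk x)]
    (hx : IsIntegrallyClosed (X.presheaf.stalk x)) (y₀ : Y)
    (H : ∀ (R : Type u) [CommRing R] [IsDomain R] [IsDiscreteValuationRing R]
        (u : Spec (CommRingCat.of R) ⟶ X), u (IsLocalRing.closedPoint R) = x →
        ∀ ub : Spec (CommRingCat.of (FractionRing R)) ⟶ (U : Scheme.{u}),
          ub ≫ U.ι = Spec.map (CommRingCat.ofHom (algebraMap R (FractionRing R))) ≫ u →
          ∃ h₁ : Spec (CommRingCat.of R) ⟶ Y, h₁ ≫ q = u ∧ h₁ (IsLocalRing.closedPoint R) = y₀ ∧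
            Spec.map (CommRingCat.ofHom (algebraMap R (FractionRing R))) ≫ h₁ = ub ≫ h) :
    ∃ (U' : X.Opens) (hUU' : U ≤ U') (hxU' : x ∈ U') (h' : (U' : Scheme.{u}) ⟶ Y),
        h' ≫ q = U'.ι ∧ X.homOfLE hUU' ≫ h' = h ∧ h' ⟨x, hxU'⟩ = y₀ := by
  obtain ⟨V₀, hxV₀, hV₀a, hV₀⟩ := exists_integral_nhd x
  obtain ⟨W, hW, hyW, -⟩ := exists_isAffineOpen_mem_and_subset (TopologicalSpace.Opens.mem_top y₀)
  haveI : IsAffine (W : Scheme.{u}) := hW
  let qW := W.ι ≫ q
  haveI : IsSeparated qW := by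
    haveI : IsSeparated (qW ≫ terminal.from X) := by
      rw [terminal.comp_from]
      exact (Scheme.isSeparated_iff (W : Scheme.{u})).mp inferInstance
    exact IsSeparated.of_comp qW (terminal.from X)
  let U₂ : X.Opens := U.ι ''ᵁ (h ⁻¹ᵁ W)
  have hU₂U : U₂ ≤ U := by rintro _ ⟨v, -, rfl⟩; exact v.2
  have hr₂ : Set.range (X.homOfLE hU₂U ≫ h) ⊆ Set.range W.ι := by
    rintro _ ⟨⟨_, v, hv, rfl⟩, rfl⟩
    rw [Scheme.Opens.range_ι, Scheme.Hom.comp_apply]
    have e : X.homOfLE hU₂U ⟨_, v, hv, rfl⟩ = v := Subtype.ext (Scheme.homOfLE_apply _ _)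
    show h _ ∈ W
    rw [e]
    exact hv
  let σ₂ := IsOpenImmersion.lift W.ι (X.homOfLE hU₂U ≫ h) hr₂
  have hσ₂ : σ₂ ≫ W.ι = X.homOfLE hU₂U ≫ h := IsOpenImmersion.lift_fac _ _ _
  have hσ₂q : σ₂ ≫ qW = U₂.ι := by
    rw [reassoc_of% hσ₂, hh, Scheme.homOfLE_ι]
  -- every generization of `x` in `U` lies in `U₂`
  have hgen : ∀ d : X, d ⤳ x → d ∈ U → d ∈ U₂ := by
    intro d hd hdU
    obtain ⟨R, _, _, _, u, ub, hu, hub, hd'⟩ := exists_dvr_into hd hdU hxU
    obtain ⟨h₁, -, h0, h1⟩ := H R u hu ub hub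
    refine ⟨ub (IsLocalRing.closedPoint (FractionRing R)), ?_, hd'⟩
    show h (ub (IsLocalRing.closedPoint (FractionRing R))) ∈ W
    rw [← Scheme.Hom.comp_apply, ← h1, Scheme.Hom.comp_apply]
    exact ((IsLocalRing.specializes_closedPoint _).map h₁.continuous).mem_open W.2 (h0 ▸ hyW)
  let η₀ := genericPoint (V₀ : Scheme.{u})
  let η : X := V₀.ι η₀
  have hηx : η ⤳ x :=
    (show η₀ ⤳ (⟨x, hxV₀⟩ : (V₀ : Scheme.{u})) from (genericPoint_spec _).specializes trivial).map V₀.ι.continuous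
  have hηU : η ∈ U := by
    obtain ⟨d, hdV, hdU⟩ := dense_iff_inter_open.mp hU _ V₀.2 ⟨x, hxV₀⟩
    have : η ⤳ d :=
      (show η₀ ⤳ (⟨d, hdV⟩ : (V₀ : Scheme.{u})) from (genericPoint_spec _).specializes trivial).map V₀.ι.continuous
    exact this.mem_open U.2 hdU
  have hηU₂ : η ∈ U₂ := hgen η hηx hηU
  -- `y₀` lies in the closure of the graph
  obtain ⟨R, _, _, _, u, ub, hu, hub, hd'⟩ := exists_dvr_into hηx hηU hxU
  obtain ⟨h₁, h1q, h0, h1⟩ := H R u hu ub hub
  have hz : (⟨y₀, hyW⟩ : (W : Scheme.{u})) ∈ closure (Set.range σ₂) := by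
    rw [mem_closure_iff]
    intro O hO hyO
    have hO' := W.ι.isOpenEmbedding.isOpenMap O hO
    have hp : h₁ (Spec.map (CommRingCat.ofHom (algebraMap R (FractionRing R))) (IsLocalRing.closedPoint _)) ∈
        W.ι '' O :=
      ((IsLocalRing.specializes_closedPoint _).map h₁.continuous).mem_open hO' ⟨_, hyO, h0.symm⟩
    obtain ⟨o, ho, hoe⟩ := hp
    refine ⟨o, ho, ⟨η, hηU₂⟩, W.ι.isOpenEmbedding.injective ?_⟩
    rw [hoe, ← Scheme.Hom.comp_apply, hσ₂, ← Scheme.Hom.comp_apply, h1, Scheme.Hom.comp_apply, Scheme.Hom.comp_apply]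
    congr 1
    apply U.ι.isOpenEmbedding.injective
    rw [hd', ← Scheme.Hom.comp_apply, Scheme.homOfLE_ι]
    rfl
  have hqy : qW (⟨y₀, hyW⟩ : (W : Scheme.{u})) = x := by
    show q (W.ι ⟨y₀, hyW⟩) = x
    rw [← hu, ← h1q, Scheme.Hom.comp_apply, h0]
    rfl
  haveI : LocallyOfFiniteType qW := inferInstance
  haveI : IsLocallyNoetherian (W : Scheme.{u}) := LocallyOfFiniteType.isLocallyNoetherian qW
  have hiso : ∀ w ∈ qW ⁻¹ᵁ V₀, w ∈ closure (Set.range σ₂) → qW w = x → w = ⟨y₀, hyW⟩ := by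
    intro w hwV hw hwx
    let w₁ : (W : Scheme.{u}) := σ₂ ⟨η, hηU₂⟩
    have hw₁ : qW w₁ = η := by
      show qW (σ₂ _) = η
      rw [← Scheme.Hom.comp_apply, hσ₂q]
      rfl
    have hspec : w₁ ⤳ w := by
      rw [specializes_iff_mem_closure, mem_closure_iff]
      intro O hO hwO
      obtain ⟨_, ⟨ho, hoV⟩, v, rfl⟩ := mem_closure_iff.mp hw _ (hO.inter (qW ⁻¹ᵁ V₀).2) ⟨hwO, hwV⟩
      have hvV : U₂.ι v ∈ V₀ := by
        have : (σ₂ ≫ qW) v ∈ V₀ := hoV
        rw [hσ₂q] at this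
        exact this
      have hsp : (⟨η, hηU₂⟩ : (U₂ : Scheme.{u})) ⤳ v := by
        rw [U₂.ι.isOpenEmbedding.isInducing.specializes_iff.symm]
        exact (show η₀ ⤳ (⟨U₂.ι v, hvV⟩ : (V₀ : Scheme.{u})) from (genericPoint_spec _).specializes trivial).map V₀.ι.continuous
      exact ⟨w₁, (hsp.map σ₂.continuous).mem_open hO ho, rfl⟩
    have hne : w₁ ≠ w := fun e => hxU (hwx ▸ e ▸ hw₁ ▸ hηU)
    obtain ⟨A, t, hA, ht0, ht1⟩ := exists_dvr_through' hspec hne
    let e : FractionRing A ≃ₐ[A] (W : Scheme.{u}).residueField w₁ :=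
      FractionRing.algEquiv A ((W : Scheme.{u}).residueField w₁)
    have hsub : Spec.map (CommRingCat.ofHom (algebraMap A (FractionRing A))) =
        Spec.map (CommRingCat.ofHom e.symm.toRingEquiv.toRingHom) ≫
          Spec.map (CommRingCat.ofHom A.subtype) := by
      rw [← Spec.map_comp]
      congr 1
      ext a
      exact (e.symm.commutes a).symm
    obtain ⟨f, hf⟩ := exists_factor_section qW σ₂ hσ₂q
      (Spec.map (CommRingCat.ofHom (algebraMap A (FractionRing A))) ≫ t) (by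
        refine ⟨⟨η, hηU₂⟩, ?_⟩
        rw [hsub, Category.assoc, ht1, Scheme.Hom.comp_apply]
        erw [Scheme.fromSpecResidueField_apply])
    haveI := hA
    obtain ⟨h₁', h1q', h0', h1'⟩ := H A (t ≫ qW) (by rw [Scheme.Hom.comp_apply, ht0, hwx])
      (f ≫ X.homOfLE hU₂U) (by rw [Category.assoc, Scheme.homOfLE_ι, ← hσ₂q, reassoc_of% hf])
    have hr : Set.range h₁' ⊆ Set.range W.ι := by
      rintro _ ⟨p, rfl⟩
      rw [Scheme.Opens.range_ι]
      exact ((IsLocalRing.specializes_closedPoint p).map h₁'.continuous).mem_open W.2 (h0' ▸ hyW)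
    let l := IsOpenImmersion.lift W.ι h₁' hr
    have hl : l ≫ W.ι = h₁' := IsOpenImmersion.lift_fac _ _ _
    have : l = t := by
      refine ext_of_generic qW l t (by rw [reassoc_of% hl, h1q']) ?_
      have h2 : Spec.map (CommRingCat.ofHom (algebraMap A (FractionRing A))) ≫ l =
          Spec.map (CommRingCat.ofHom (algebraMap A (FractionRing A))) ≫ t := by
        rw [← cancel_mono W.ι, Category.assoc, hl, h1', Category.assoc, ← hσ₂, reassoc_of% hf]
        simp only [Category.assoc]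
      rw [hsub, Category.assoc, Category.assoc] at h2
      have : IsIso (CommRingCat.ofHom e.symm.toRingEquiv.toRingHom) :=
        (ConcreteCategory.isIso_iff_bijective _).mpr e.symm.bijective
      exact (cancel_epi (Spec.map (CommRingCat.ofHom e.symm.toRingEquiv.toRingHom))).mp h2
    apply W.ι.isOpenEmbedding.injective
    rw [← ht0, ← this, ← Scheme.Hom.comp_apply, hl, h0']
    rfl
  haveI := hV₀
  obtain ⟨V, hxV, s, hVV₀, hs, hsx, hag⟩ := extends_of_isolated qW U₂ σ₂ hσ₂q _ hz x hqy V₀ hxV₀ hx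
    (qW ⁻¹ᵁ V₀) (show qW _ ∈ V₀ from hqy.symm ▸ hxV₀) hiso
  -- shrink `V` so that `U ⊓ V ≤ U₂`
  haveI : IsAffine (V₀ : Scheme.{u}) := hV₀a
  haveI : IsNoetherian (V₀ : Scheme.{u}) := {}
  have hE : ((V : Set X) ∩ (((U : Set X)ᶜ) ∪ (U₂ : Set X))) ∈ nhds x := by
    have hc : Topology.IsConstructible
        (V₀.ι ⁻¹' ((V : Set X) ∩ ((U : Set X)ᶜ ∪ (U₂ : Set X)))) := by
      have hopen : ∀ O : X.Opens, Topology.IsConstructible (V₀.ι ⁻¹' (O : Set X)) := fun O =>
        IsRetrocompact.isConstructible (O.2.preimage V₀.ι.continuous) (fun _ _ _ => NoetherianSpace.isCompact _)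
      rw [Set.preimage_inter, Set.preimage_union, Set.preimage_compl]
      exact (hopen V).inter ((hopen U).compl.union (hopen U₂))
    have hmem : (V₀.ι ⁻¹' ((V : Set X) ∩ ((U : Set X)ᶜ ∪ (U₂ : Set X)))) ∈ nhds (⟨x, hxV₀⟩ : (V₀ : Scheme.{u})) := by
      let φ := (Scheme.isoSpec (V₀ : Scheme.{u}))
      let homeo := φ.hom.homeomorph
      have := Groth.L07.UnivOpenAt.mem_nhds_of_isConstructible
        (E := homeo '' (V₀.ι ⁻¹' ((V : Set X) ∩ ((U : Set X)ᶜ ∪ (U₂ : Set X)))))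
        (p := homeo ⟨x, hxV₀⟩)
        (hc.image_of_isOpenEmbedding homeo.isOpenEmbedding (by convert IsRetrocompact.univ; exact homeo.surjective.range_eq))
        (fun p hp => by
          obtain ⟨p', rfl⟩ := homeo.surjective p
          refine ⟨p', ?_, rfl⟩
          have hp' : p' ⤳ (⟨x, hxV₀⟩ : (V₀ : Scheme.{u})) := homeo.isInducing.specializes_iff.mp hp
          have hpx : V₀.ι p' ⤳ x := by simpa using hp'.map V₀.ι.continuous
          refine ⟨hpx.mem_open V.2 hxV, ?_⟩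
          by_cases hpU : V₀.ι p' ∈ U
          · exact Or.inr (hgen _ hpx hpU)
          · exact Or.inl hpU)
      have h2 := homeo.continuous.continuousAt.preimage_mem_nhds this
      rwa [Set.preimage_image_eq _ homeo.injective] at h2
    refine Filter.mem_of_superset (V₀.ι.isOpenEmbedding.isOpenMap.image_mem_nhds hmem) ?_
    exact Set.image_preimage_subset _ _
  obtain ⟨V', hV'sub, hV'o, hxV'⟩ := mem_nhds_iff.mp hE
  let V'' : X.Opens := ⟨V', hV'o⟩
  have hle : V'' ≤ V := fun _ hv => (hV'sub hv).1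
  have hagY : X.homOfLE (inf_le_right : U ⊓ V'' ≤ V'') ≫ X.homOfLE hle ≫ s ≫ W.ι =
      X.homOfLE (inf_le_left : U ⊓ V'' ≤ U) ≫ h := by
    have hle2 : U ⊓ V'' ≤ U₂ ⊓ V := fun v hv =>
      ⟨((hV'sub hv.2).2).resolve_left (fun hh => hh hv.1), hle hv.2⟩
    have e1 : X.homOfLE (inf_le_right : U ⊓ V'' ≤ V'') ≫ X.homOfLE hle =
        X.homOfLE hle2 ≫ X.homOfLE inf_le_right := by simp [Scheme.homOfLE_homOfLE]
    rw [reassoc_of% e1, reassoc_of% hag, hσ₂]
    simp [Scheme.homOfLE_homOfLE_assoc]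
  obtain ⟨U', hUU', hxU', h', hq', hag', hval⟩ := exists_extension_of_agree q U V'' h hh hxV'
    (X.homOfLE hle ≫ s ≫ W.ι) (by
      rw [Category.assoc, Category.assoc, show s ≫ W.ι ≫ q = V.ι from hs, Scheme.homOfLE_ι]) hagY
  refine ⟨U', hUU', hxU', h', hq', hag', ?_⟩
  rw [hval, Scheme.Hom.comp_apply, Scheme.Hom.comp_apply]
  have : X.homOfLE hle ⟨x, hxV'⟩ = ⟨x, hxV⟩ := Subtype.ext (by simp)
  rw [this, hsx]
  rfl

end Groth.L07.RatSection
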