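import Groth.Agent.L07.KoszulAppend
import Groth.Agent.L07.RegImmBC

/-! Composition of Koszul-regular immersions. -/

set_option autoImplicit false
set_option linter.style.haveILetI false

universe u

open CategoryTheory CategoryTheory.Limits AlgebraicGeometry

namespace Groth.L07.RegImmComp

/-- `i` is cut out in the open `W` by a Koszul-regular sequence of length `n`. -/
def Cut {X Y : Scheme.{u}} (i : Y ⟶ X) (W : X.Opens) (n : ℕ) : Prop :=
  IsClosedImmersion (i ∣_ W) ∧ ∃ rs : List Γ(X, W), rs.length = n ∧ LCI.IsKoszulRegularSeq Γ(X, W) rs ∧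
    RingHom.ker (i.app W).hom = Ideal.ofList rs

theorem app_surjective {X Y : Scheme.{u}} (i : Y ⟶ X) (W : X.Opens) (hW : IsAffineOpen W)
    (hcl : IsClosedImmersion (i ∣_ W)) : Function.Surjective (i.app W).hom := by
  haveI := hcl
  haveI : IsAffine (W : Scheme.{u}) := hW
  have h3 : Function.Surjective ((i ∣_ W).appTop).hom := (i ∣_ W).app_surjective ⊤ (isAffineOpen_top _)
  rw [morphismRestrict_appTop] at h3
  have h4 : Function.Surjective (i.app (W.ι ''ᵁ ⊤)).hom :=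
    Function.Surjective.of_comp_left (f := Y.presheaf.map (eqToHom (image_morphismRestrict_preimage i W ⊤)).op) h3
      (ConcreteCategory.bijective_of_isIso _).1
  have key : ∀ W₀ : X.Opens, W₀ = W → Function.Surjective (i.app W₀).hom →
      Function.Surjective (i.app W).hom := by rintro W₀ rfl h; exact h
  exact key _ W.ι_image_top h4

theorem cut_baseChange {X Y X' Y' : Scheme.{u}} {i : Y ⟶ X} {g : X' ⟶ X} [Flat g]
    {i' : Y' ⟶ X'} {g' : Y' ⟶ Y} (hsq : IsPullback g' i' i g) {W : X.Opens} (hW : IsAffineOpen W)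
    {W' : X'.Opens} (hW' : IsAffineOpen W') (hle : W' ≤ g ⁻¹ᵁ W) {n : ℕ} (h : Cut i W n) : Cut i' W' n := by
  obtain ⟨hcl, rs, hn, hrs, hker⟩ := h
  haveI := hcl
  haveI : IsAffine (W : Scheme.{u}) := hW
  have hUY : i' ⁻¹ᵁ W' = g' ⁻¹ᵁ (i ⁻¹ᵁ W) ⊓ i' ⁻¹ᵁ W' := by
    rw [eq_comm, inf_eq_right]
    intro y hy
    show i (g' y) ∈ W
    rw [show i (g' y) = g (i' y) from congrArg (fun m : Y' ⟶ X => m y) hsq.w]
    exact hle hy
  have hUX : IsAffineOpen (i ⁻¹ᵁ W) := isAffine_of_isAffineHom (i ∣_ W)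
  have hcl' : IsClosedImmersion (i' ∣_ W') := by
    have hp := Scheme.Hom.isPullback_resLE hsq hle (le_rfl : i ⁻¹ᵁ W ≤ i ⁻¹ᵁ W) hUY
    rw [Scheme.Hom.resLE_eq_morphismRestrict, Scheme.Hom.resLE_eq_morphismRestrict] at hp
    exact MorphismProperty.of_isPullback hp hcl
  have hpush := (isIso_pushoutSection_iff hsq hle (le_rfl : i ⁻¹ᵁ W ≤ i ⁻¹ᵁ W) hUY).mp
    (isIso_pushoutSection_of_isAffineOpen hsq hle le_rfl hUY hW hW' hUX)
  refine ⟨hcl', rs.map (g.appLE W W' hle).hom, by rw [List.length_map, hn],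
    Groth.L07.KoszulFlat.isKoszulRegularSeq_map _ (Flat.flat_appLE g hW hW' hle) rs hrs, ?_⟩
  have hσ : Function.Surjective (i.appLE W (i ⁻¹ᵁ W) le_rfl).hom := by
    rw [← Scheme.Hom.app_eq_appLE]; exact app_surjective i W hW hcl
  have hk := Groth.L07.RegImmBC.ker_of_isPushout hpush hσ
  simp only [← Scheme.Hom.app_eq_appLE] at hk
  rw [hk, hker, Ideal.map_ofList]

theorem cut_restrict {X Y : Scheme.{u}} {i : Y ⟶ X} {W W' : X.Opens} (hW : IsAffineOpen W)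
    (hW' : IsAffineOpen W') (hle : W' ≤ W) {n : ℕ} (h : Cut i W n) : Cut i W' n :=
  cut_baseChange (g := 𝟙 X) (g' := 𝟙 Y) (IsPullback.of_horiz_isIso ⟨by simp⟩) hW hW' hle h

/-- Composites are cut out by the concatenated sequences. -/
theorem exists_cut_comp {X Y Z : Scheme.{u}} (i : Y ⟶ X) (j : Z ⟶ Y) (z : Z) {n m : ℕ}
    {W : X.Opens} (hW : IsAffineOpen W) (hzW : i (j z) ∈ W) (hi : Cut i W n)
    {V : Y.Opens} (hV : IsAffineOpen V) (hzV : j z ∈ V) (hj : Cut j V m) :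
    ∃ W' : X.affineOpens, (j ≫ i) z ∈ W'.1 ∧ Cut (j ≫ i) W'.1 (m + n) := by
  haveI := hi.1
  haveI : IsAffine (W : Scheme.{u}) := hW
  have hU : IsAffineOpen (i ⁻¹ᵁ W) := isAffine_of_isAffineHom (i ∣_ W)
  obtain ⟨a, hle, hza⟩ := hU.exists_basicOpen_le (V := V) ⟨j z, hzV⟩ hzW
  obtain ⟨b, rfl⟩ := app_surjective i W hW hi.1 a
  let W' := X.basicOpen b
  have hpre : i ⁻¹ᵁ W' = Y.basicOpen (i.app W b) := i.preimage_basicOpen b
  have hW' : IsAffineOpen W' := hW.basicOpen b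
  obtain ⟨hcl, fs, hfn, hfs, hfk⟩ := cut_restrict hW hW' (X.basicOpen_le b) hi
  obtain ⟨hcl', gs', hgm, hgs, hgk⟩ := cut_restrict hV (hpre ▸ hU.basicOpen (i.app W b) : IsAffineOpen (i ⁻¹ᵁ W'))
    (hpre.trans_le hle) hj
  have hσ := app_surjective i W' hW' hcl
  let σ := (i.app W').hom
  let gs := gs'.map (Function.surjInv hσ)
  have hgs' : gs.map σ = gs' := by
    rw [List.map_map]
    exact (List.map_congr_left fun x _ => Function.surjInv_eq hσ x).trans (List.map_id gs')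
  refine ⟨⟨W', hW'⟩, ?_, ?_, gs ++ fs, ?_, ?_, ?_⟩
  · show j z ∈ i ⁻¹ᵁ W'
    rw [hpre]
    exact hza
  · rw [morphismRestrict_comp]
    haveI := hcl
    haveI := hcl'
    exact IsClosedImmersion.comp (j ∣_ i ⁻¹ᵁ W') (i ∣_ W')
  · rw [List.length_append, List.length_map, hgm, hfn]
  · exact Groth.L07.KoszulAppend.isKoszulRegularSeq_append σ hσ fs gs hfk hfs (hgs'.symm ▸ hgs)
  · have hc : ((j ≫ i).app W').hom = (j.app (i ⁻¹ᵁ W')).hom.comp σ := by
      rw [Scheme.Hom.comp_app]; rfl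
    show RingHom.ker ((j ≫ i).app W').hom = _
    rw [hc]
    refine (RingHom.comap_ker _ σ).symm.trans ?_
    refine (congrArg (Ideal.comap σ) hgk).trans ?_
    rw [← hgs', ← Ideal.map_ofList, Ideal.comap_map_of_surjective σ hσ,
      ← RingHom.ker_eq_comap_bot, hfk, Ideal.ofList_append]

theorem isRegularImmersion_comp {X Y Z : Scheme.{u}} (i : Y ⟶ X) (j : Z ⟶ Y)
    (hi : RegImm.IsRegularImmersion .koszul i) (hj : RegImm.IsRegularImmersion .koszul j) :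
    RegImm.IsRegularImmersion .koszul (j ≫ i) := by
  haveI := hi.1
  haveI := hj.1
  refine ⟨inferInstance, fun z => ?_⟩
  obtain ⟨⟨W, hW⟩, hzW, hcl, rs, hrs, hk⟩ := hi.2 (j z)
  obtain ⟨⟨V, hV⟩, hzV, hcl', rs', hrs', hk'⟩ := hj.2 z
  obtain ⟨W', hz', hc, rs'', -, h1, h2⟩ := exists_cut_comp i j z hW hzW ⟨hcl, rs, rfl, hrs, hk⟩ hV hzV
    ⟨hcl', rs', rfl, hrs', hk'⟩
  exact ⟨W', hz', hc, rs'', h1, h2⟩

theorem isRegularImmersionOfCodim_comp {X Y Z : Scheme.{u}} (n m : ℕ) (i : Y ⟶ X) (j : Z ⟶ Y)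
    (hi : RegImm.IsRegularImmersionOfCodim .koszul n i) (hj : RegImm.IsRegularImmersionOfCodim .koszul m j) :
    RegImm.IsRegularImmersionOfCodim .koszul (m + n) (j ≫ i) := by
  haveI := hi.1
  haveI := hj.1
  refine ⟨inferInstance, fun z => ?_⟩
  obtain ⟨⟨W, hW⟩, hzW, hcl, rs, hn, hrs, hk⟩ := hi.2 (j z)
  obtain ⟨⟨V, hV⟩, hzV, hcl', rs', hm, hrs', hk'⟩ := hj.2 z
  exact exists_cut_comp i j z hW hzW ⟨hcl, rs, hn, hrs, hk⟩ hV hzV ⟨hcl', rs', hm, hrs', hk'⟩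

end Groth.L07.RegImmComp
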