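import Groth.Agent.L07.KoszulChart

/-! Koszul at every point and local complete intersection ring maps. -/

set_option autoImplicit false
set_option linter.style.haveILetI false
set_option maxSynthPendingDepth 3

universe u

open CategoryTheory CategoryTheory.Limits AlgebraicGeometry

namespace Groth.L07.KoszulChart

open Groth.L07.KoszulIdeal (RegAt)

theorem smooth_C (A : Type u) [CommRing A] (n : ℕ) :
    (MvPolynomial.C : A →+* MvPolynomial (Fin n) A).Smooth := by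
  haveI := Groth.L07.KoszulIdeal.isStandardSmooth_mvPolynomial A n
  rw [← MvPolynomial.algebraMap_eq]
  exact RingHom.smooth_algebraMap.mpr inferInstance

theorem finiteType_appLE {X Y : Scheme.{u}} (f : X ⟶ Y) {U : X.Opens} (hU : IsAffineOpen U) {V : Y.Opens}
    (hV : IsAffineOpen V) (e : U ≤ f ⁻¹ᵁ V) (h : LocallyOfFiniteType (U.ι ≫ f)) :
    (f.appLE V U e).hom.FiniteType := by
  have h1 : LocallyOfFiniteType (hU.fromSpec ≫ f) := by
    have : hU.fromSpec = hU.isoSpec.inv ≫ U.ι := by rw [← hU.isoSpec_hom_fromSpec, Iso.inv_hom_id_assoc]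
    rw [this, Category.assoc]
    infer_instance
  rw [← IsAffineOpen.SpecMap_appLE_fromSpec f hV hU e] at h1
  exact HasRingHomProperty.Spec_iff.mp (locallyOfFiniteType_of_comp (Spec.map (f.appLE V U e)) hV.fromSpec)

theorem exists_presentation {A B : Type u} [CommRing A] [CommRing B] (φ : A →+* B) (h : φ.FiniteType) :
    ∃ (n : ℕ) (α : MvPolynomial (Fin n) A →+* B), Function.Surjective α ∧ α.comp MvPolynomial.C = φ := by
  letI := φ.toAlgebra
  haveI : Algebra.FiniteType A B := h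
  obtain ⟨n, α, hα⟩ := Algebra.FiniteType.iff_quotient_mvPolynomial''.mp (inferInstance : Algebra.FiniteType A B)
  exact ⟨n, α.toRingHom, hα, α.comp_algebraMap⟩

theorem exists_primeIdealOf {X : Scheme.{u}} {U : X.Opens} (hU : IsAffineOpen U) (p : Ideal Γ(X, U)) [p.IsPrime] :
    ∃ (x : X) (hx : x ∈ U), (hU.primeIdealOf ⟨x, hx⟩).asIdeal = p := by
  refine ⟨hU.fromSpec ⟨p, inferInstance⟩, ?_, ?_⟩
  · show hU.fromSpec ⟨p, inferInstance⟩ ∈ (U : Set X)
    rw [← hU.range_fromSpec]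
    exact ⟨_, rfl⟩
  · exact congrArg PrimeSpectrum.asIdeal (hU.fromSpec.isOpenEmbedding.injective (hU.fromSpec_primeIdealOf ⟨_, _⟩))

/-- On an affine chart, LCI is Koszul at every point. -/
theorem isLCI_iff {X Y : Scheme.{u}} (f : X ⟶ Y) {U : X.Opens} (hU : IsAffineOpen U) {V : Y.Opens}
    (hV : IsAffineOpen V) (e : U ≤ f ⁻¹ᵁ V) :
    (letI := (f.appLE V U e).hom.toAlgebra; LCI.IsLCI Γ(Y, V) Γ(X, U)) ↔ ∀ x ∈ U, Synt.IsKoszulAt f x := by
  letI := (f.appLE V U e).hom.toAlgebra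
  constructor
  · rintro ⟨-, n, α, hα, hreg⟩ x hx
    exact (isKoszulAt_iff f hU hV e MvPolynomial.C (smooth_C _ n) α.toRingHom hα α.comp_algebraMap x hx).mpr
      ((Groth.L07.KoszulIdeal.isKoszulRegularIdeal_ker_iff _ hα).mp hreg _)
  · intro h
    have hft : LocallyOfFiniteType (U.ι ≫ f) := by
      choose U₀ P i π hxU hft hi hπ e' using fun z : (U : Scheme.{u}) => h z.1 z.2
      haveI : IsZariskiLocalAtSource @LocallyOfFiniteType.{u} :=
        HasRingHomProperty.instIsZariskiLocalAtSource (Q := RingHom.FiniteType)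
      refine IsZariskiLocalAtSource.of_iSup_eq_top (P := @LocallyOfFiniteType.{u}) (fun z => U.ι ⁻¹ᵁ U₀ z)
        (top_le_iff.mp fun z _ => TopologicalSpace.Opens.mem_iSup.mpr ⟨z, hxU z⟩) fun z => ?_
      rw [← Category.assoc, ← morphismRestrict_ι U.ι (U₀ z), Category.assoc]
      haveI := hft z
      infer_instance
    haveI hA : Algebra.FiniteType Γ(Y, V) Γ(X, U) := finiteType_appLE f hU hV e hft
    obtain ⟨n, α, hα⟩ := Algebra.FiniteType.iff_quotient_mvPolynomial''.mp hA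
    refine ⟨hA, n, α, hα, (Groth.L07.KoszulIdeal.isKoszulRegularIdeal_ker_iff _ hα).mpr fun 𝔮 _ => ?_⟩
    obtain ⟨x, hx, rfl⟩ := exists_primeIdealOf hU 𝔮
    exact (isKoszulAt_iff f hU hV e MvPolynomial.C (smooth_C _ n) α.toRingHom hα α.comp_algebraMap x hx).mp (h x hx)

/-- Local complete intersection morphisms: all affine charts, or all points. -/
theorem forall_isLCI_iff {X Y : Scheme.{u}} (f : X ⟶ Y) :
    (∀ (U : X.Opens) (V : Y.Opens) (_ : IsAffineOpen U) (_ : IsAffineOpen V) (e : U ≤ f ⁻¹ᵁ V),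
        letI := (f.appLE V U e).hom.toAlgebra
        LCI.IsLCI Γ(Y, V) Γ(X, U)) ↔ ∀ x, Synt.IsKoszulAt f x := by
  refine ⟨fun h x => ?_, fun h U V hU hV e => (isLCI_iff f hU hV e).mpr fun x _ => h x⟩
  obtain ⟨_, ⟨V, hV, rfl⟩, hxV, -⟩ := (Y.isBasis_affineOpens).exists_subset_of_mem_open (Set.mem_univ (f x)) isOpen_univ
  obtain ⟨_, ⟨U, hU, rfl⟩, hxU, hUV⟩ :=
    (X.isBasis_affineOpens).exists_subset_of_mem_open (show x ∈ f ⁻¹ᵁ V from hxV) (f ⁻¹ᵁ V).2
  exact (isLCI_iff f hU hV hUV).mp (h U V hU hV hUV) x hxU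

/-- A chart at a point where `f` is Koszul. -/
theorem exists_chart {X Y : Scheme.{u}} (f : X ⟶ Y) (x : X) (h : Synt.IsKoszulAt f x) {V : Y.Opens}
    (hV : IsAffineOpen V) (hxV : f x ∈ V) (O : X.Opens) (hxO : x ∈ O) :
    ∃ (U : X.Opens) (hU : IsAffineOpen U) (e : U ≤ f ⁻¹ᵁ V) (hx : x ∈ U) (n : ℕ)
      (α : MvPolynomial (Fin n) Γ(Y, V) →+* Γ(X, U)), U ≤ O ∧ Function.Surjective α ∧
        α.comp MvPolynomial.C = (f.appLE V U e).hom ∧
        RegAt (RingHom.ker α) ((hU.primeIdealOf ⟨x, hx⟩).asIdeal.comap α) := by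
  obtain ⟨U₀, P, i, π, hxU₀, hft, hi, hπ, e'⟩ := id h
  obtain ⟨_, ⟨U, hU, rfl⟩, hxU, hUle⟩ := (X.isBasis_affineOpens).exists_subset_of_mem_open
    (show x ∈ (U₀ ⊓ O ⊓ f ⁻¹ᵁ V : X.Opens) from ⟨⟨hxU₀, hxO⟩, hxV⟩) (U₀ ⊓ O ⊓ f ⁻¹ᵁ V).2
  have eU : U ≤ f ⁻¹ᵁ V := fun z hz => (hUle hz).2
  have hftU : LocallyOfFiniteType (Scheme.Opens.ι (X := X) U ≫ f) := by
    show LocallyOfFiniteType (Scheme.Opens.ι (X := X) U ≫ f)
    rw [← X.homOfLE_ι (U := U) (V := U₀) (fun z hz => (hUle hz).1.1), Category.assoc]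
    infer_instance
  obtain ⟨n, α, hα, hαC⟩ := exists_presentation _ (finiteType_appLE f hU hV eU hftU)
  exact ⟨U, hU, eU, hxU, n, α, fun z hz => (hUle hz).1.2, hα, hαC,
    (isKoszulAt_iff f hU hV eU MvPolynomial.C (smooth_C _ n) α hα hαC x hxU).mp h⟩

end Groth.L07.KoszulChart
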