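import Groth.Agent.L07.QuasiRegularFlat
import Groth.Agent.L07.FibreFlat
import Groth.Agent.L07.RegImmAt
import Groth.Agent.L03.RegImmFlat
import Groth.Agent.L22.LocalDim
import Groth.Prelude.Def_RegImm
import Mathlib.RingTheory.Filtration
import Mathlib.RingTheory.TensorProduct.Finite

/-! A relative quasi-regular immersion has flat ambient space at its points (noetherian local rings). -/

set_option autoImplicit false
set_option linter.style.haveILetI false
set_option maxSynthPendingDepth 3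
set_option backward.isDefEq.respectTransparency false
set_option backward.isDefEq.respectTransparency.types false

universe u

open CategoryTheory CategoryTheory.Limits AlgebraicGeometry TensorProduct

namespace Groth.L07.RelQuasiFlat

variable {R A : Type u} [CommRing R] [CommRing A] [Algebra R A]

theorem flat_quot_pow {c : ℕ} (f : Fin c → A) (hf : CAlgX.IsQuasiRegular f)
    (hflat : Module.Flat R (A ⧸ Ideal.span (Set.range f))) (n : ℕ) :
    Module.Flat R (A ⧸ Ideal.span (Set.range f) ^ n) := by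
  set J := Ideal.span (Set.range f)
  haveI := Groth.L07.QuasiRegular.flat_pow_quot (A := R) f hf hflat 0 n (Nat.zero_le n)
  have h0 : J ^ 0 = (⊤ : Ideal A) := by rw [pow_zero, Ideal.one_eq_top]
  let p : ↥(J ^ 0) →ₗ[A] A ⧸ J ^ n := (Submodule.mkQ (J ^ n)) ∘ₗ (J ^ 0).subtype
  have hp : Function.Surjective p := fun q => by
    obtain ⟨b, rfl⟩ := Submodule.mkQ_surjective _ q
    exact ⟨⟨b, h0 ▸ Submodule.mem_top⟩, rfl⟩
  have hk : LinearMap.ker p = Submodule.comap (J ^ 0).subtype (J ^ n) := by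
    rw [LinearMap.ker_comp, Submodule.ker_mkQ]
  exact Module.Flat.of_linearEquiv
    ((Submodule.quotEquivOfEq _ _ hk.symm ≪≫ₗ p.quotKerEquivOfSurjective hp).restrictScalars R).symm

theorem flat_of_quasiRegular [IsNoetherianRing A] [IsLocalRing A] {c : ℕ} (f : Fin c → A)
    (hf : CAlgX.IsQuasiRegular f) (hne : Ideal.span (Set.range f) ≠ ⊤)
    (hflat : Module.Flat R (A ⧸ Ideal.span (Set.range f))) : Module.Flat R A := by
  set J := Ideal.span (Set.range f) with hJ
  rw [Module.Flat.iff_lTensor_injective]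
  intro I hI
  haveI : Module.Finite R I := Module.Finite.of_fg hI
  rw [injective_iff_map_eq_zero]
  intro x hx
  have hx' : x ∈ (⨅ n : ℕ, J ^ n • (⊤ : Submodule A (A ⊗[R] I))) := by
    rw [Submodule.mem_iInf]
    intro n
    let π : A →ₗ[R] A ⧸ J ^ n := (Submodule.mkQ (J ^ n)).restrictScalars R
    let ι : ↥(J ^ n) →ₗ[R] A := (J ^ n).subtype.restrictScalars R
    have hex : Function.Exact ι π := fun a => by
      show Submodule.mkQ (J ^ n) a = 0 ↔ _
      rw [Submodule.mkQ_apply, Submodule.Quotient.mk_eq_zero]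
      exact ⟨fun h => ⟨⟨a, h⟩, rfl⟩, fun ⟨w, hw⟩ => hw ▸ w.2⟩
    haveI := flat_quot_pow (R := R) f hf hflat n
    have hinj : Function.Injective (I.subtype.lTensor (A ⧸ J ^ n)) :=
      Module.Flat.lTensor_preserves_injective_linearMap _ I.injective_subtype
    have h0 : π.rTensor I x = 0 := by
      apply hinj
      rw [map_zero, ← LinearMap.comp_apply, LinearMap.lTensor_comp_rTensor,
        ← LinearMap.rTensor_comp_lTensor, LinearMap.comp_apply, hx, map_zero]
    have hπ : Function.Surjective π := fun q => Submodule.Quotient.mk_surjective (J ^ n) q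
    have hex' : Function.Exact (ι.rTensor I) (π.rTensor I) := rTensor_exact (R := R) (Q := ↥I) hex hπ
    obtain ⟨y, hy⟩ := (hex' x).1 h0
    rw [← hy]
    clear hx h0 hy
    induction y using TensorProduct.induction_on with
    | zero => simp
    | tmul j i =>
      rw [LinearMap.rTensor_tmul]
      have : ι j ⊗ₜ[R] i = (j : A) • ((1 : A) ⊗ₜ[R] i) := by
        rw [TensorProduct.smul_tmul', smul_eq_mul, mul_one]; rfl
      rw [this]
      exact Submodule.smul_mem_smul j.2 Submodule.mem_top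
    | add a b ha hb => rw [map_add]; exact add_mem ha hb
  rwa [Ideal.iInf_pow_smul_eq_bot_of_isLocalRing J hne, Submodule.mem_bot] at hx'

/-- The quotient of a localisation by the extended ideal stays flat over the base. -/
theorem flat_quot_map {B : Type u} [CommRing B] [Algebra R B] [Algebra B A] [IsScalarTower R B A]
    [Module.Flat B A] (K : Ideal B) [Module.Flat R (B ⧸ K)] :
    Module.Flat R (A ⧸ K.map (algebraMap B A)) := by
  haveI := Groth.L07.FibreFlat.flat_tensor_of_flat (R := R) (B := B) A (B ⧸ K)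
  exact Module.Flat.of_linearEquiv
    (((Algebra.TensorProduct.quotIdealMapEquivTensorQuot A K).toLinearEquiv).restrictScalars R)

theorem flat_stalkMap {Z X S : Scheme.{u}} (f : X ⟶ S) (i : Z ⟶ X)
    (hi : RegImm.IsRelRegularImmersion RegImm.Kind.quasi f i) (z : Z)
    [IsNoetherianRing ↑(X.presheaf.stalk (i z))] : (f.stalkMap (i z)).hom.Flat := by
  obtain ⟨⟨-, hreg⟩, hfl⟩ := hi
  obtain ⟨⟨W, hW⟩, hzW, hclW, rs, hrs, hker⟩ := hreg z
  obtain ⟨_, ⟨V, hV, rfl⟩, hzV, -⟩ :=
    S.isBasis_affineOpens.exists_subset_of_mem_open (Set.mem_univ (f (i z))) isOpen_univ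
  change S.Opens at V
  replace hV : IsAffineOpen V := hV
  obtain ⟨_, ⟨U, hU, rfl⟩, hzU, hUW⟩ :=
    X.isBasis_affineOpens.exists_subset_of_mem_open (show i z ∈ W ⊓ f ⁻¹ᵁ V from ⟨hzW, hzV⟩) (W ⊓ f ⁻¹ᵁ V).2
  change X.Opens at U
  replace hU : IsAffineOpen U := hU
  have hleW : U ≤ W := fun x hx => (hUW hx).1
  have hleV : U ≤ f ⁻¹ᵁ V := fun x hx => (hUW hx).2
  obtain ⟨hcl, hkU⟩ := Groth.L07.RegImmAt.ker_restrict hW hU hleW hclW
  haveI := hcl
  haveI : IsAffine (U : Scheme.{u}) := hU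
  have hUZ : IsAffineOpen (i ⁻¹ᵁ U) := isAffine_of_isAffineHom (i ∣_ U)
  letI aU : Algebra Γ(S, V) Γ(X, U) := (f.appLE V U hleV).hom.toAlgebra
  letI aX : Algebra Γ(X, U) (X.presheaf.stalk (i z)) :=
    TopCat.Presheaf.algebra_section_stalk X.presheaf ⟨i z, hzU⟩
  letI aS : Algebra Γ(S, V) (X.presheaf.stalk (i z)) :=
    ((algebraMap Γ(X, U) (X.presheaf.stalk (i z))).comp (algebraMap Γ(S, V) Γ(X, U))).toAlgebra
  haveI : IsScalarTower Γ(S, V) Γ(X, U) (X.presheaf.stalk (i z)) := IsScalarTower.of_algebraMap_eq fun _ => rfl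
  haveI := hU.isLocalization_stalk ⟨i z, hzU⟩
  haveI : Module.Flat Γ(X, U) (X.presheaf.stalk (i z)) :=
    IsLocalization.flat _ (hU.primeIdealOf ⟨i z, hzU⟩).asIdeal.primeCompl
  let K : Ideal Γ(X, U) := RingHom.ker (i.app U).hom
  haveI hK : Module.Flat Γ(S, V) (Γ(X, U) ⧸ K) := by
    have h1 : ((i ≫ f).appLE V (i ⁻¹ᵁ U) fun w hw => hleV hw).hom.Flat :=
      Flat.flat_appLE (i ≫ f) hV hUZ _
    have h2 : ((i ≫ f).appLE V (i ⁻¹ᵁ U) fun w hw => hleV hw) = f.appLE V U hleV ≫ i.app U := by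
      rw [Scheme.Hom.app_eq_appLE, Scheme.Hom.appLE_comp_appLE]
    rw [h2] at h1
    letI : Algebra Γ(S, V) Γ(Z, i ⁻¹ᵁ U) := (f.appLE V U hleV ≫ i.app U).hom.toAlgebra
    haveI : Module.Flat Γ(S, V) Γ(Z, i ⁻¹ᵁ U) := h1
    let q : Γ(X, U) →ₐ[Γ(S, V)] Γ(Z, i ⁻¹ᵁ U) := ⟨(i.app U).hom, fun _ => rfl⟩
    exact Module.Flat.of_linearEquiv (Ideal.quotientKerAlgEquivOfSurjective (f := q)
      (Groth.L07.RegImmComp.app_surjective i U hU hcl)).toLinearEquiv
  let ρ := (X.presheaf.map (homOfLE hleW).op ≫ X.presheaf.germ U (i z) hzU)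
  have hρ : ρ.hom.Flat := by
    have h1 : (X.presheaf.map (homOfLE hleW).op).hom.Flat := by
      simpa [Scheme.Hom.appLE] using Flat.flat_appLE (𝟙 X) hW hU hleW
    exact RingHom.Flat.comp h1 (RingHom.flat_algebraMap_iff.2 inferInstance :
      (algebraMap Γ(X, U) (X.presheaf.stalk (i z))).Flat)
  have hspan : Ideal.span (Set.range (rs.map ρ.hom).get) =
      K.map (algebraMap Γ(X, U) (X.presheaf.stalk (i z))) := by
    rw [Set.range_list_get]
    change Ideal.ofList (rs.map ρ.hom) = _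
    rw [← Ideal.map_ofList, ← hker, show K = _ from hkU, Ideal.map_map]
    rfl
  have hqr : CAlgX.IsQuasiRegular (rs.map ρ.hom).get := by
    rw [Groth.L03.RegImmFlat.get_map_eq]
    exact Groth.L03.RegImmFlat.isQuasiRegular_cast _ (Groth.L03.RegImmFlat.isQuasiRegular_map ρ.hom hρ hrs)
  have hne : Ideal.span (Set.range (rs.map ρ.hom).get) ≠ ⊤ := by
    rw [hspan]
    intro htop
    obtain ⟨m, hm⟩ : (hU.primeIdealOf ⟨i z, hzU⟩).asIdeal = (hU.primeIdealOf ⟨i z, hzU⟩).asIdeal ∧ True :=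
      ⟨rfl, trivial⟩
    have hle : K ≤ (hU.primeIdealOf ⟨i z, hzU⟩).asIdeal := by
      intro a ha
      by_contra hna
      have h1 : z ∈ i ⁻¹ᵁ X.basicOpen a := (Groth.L22.LocalDim.mem_basicOpen_iff hU hzU a).2 hna
      rw [Scheme.preimage_basicOpen, show i.app U a = 0 from ha, Scheme.basicOpen_zero] at h1
      exact h1
    have h2 := Ideal.map_mono (f := algebraMap Γ(X, U) (X.presheaf.stalk (i z))) hle
    rw [htop, IsLocalization.AtPrime.map_eq_maximalIdeal, top_le_iff] at h2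
    exact (IsLocalRing.maximalIdeal.isMaximal _).ne_top h2
  haveI : Module.Flat Γ(S, V) (X.presheaf.stalk (i z)) := by
    refine flat_of_quasiRegular (rs.map ρ.hom).get hqr hne ?_
    rw [hspan]
    exact flat_quot_map K
  letI aV : Algebra Γ(S, V) (S.presheaf.stalk (f (i z))) :=
    TopCat.Presheaf.algebra_section_stalk S.presheaf ⟨f (i z), hzV⟩
  haveI := hV.isLocalization_stalk ⟨f (i z), hzV⟩
  letI := (f.stalkMap (i z)).hom.toAlgebra
  haveI : IsScalarTower Γ(S, V) (S.presheaf.stalk (f (i z))) (X.presheaf.stalk (i z)) := by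
    refine IsScalarTower.of_algebraMap_eq' ?_
    show (f.appLE V U hleV ≫ X.presheaf.germ U (i z) hzU).hom =
      (S.presheaf.germ V (f (i z)) hzV ≫ f.stalkMap (i z)).hom
    rw [Scheme.Hom.germ_stalkMap, Scheme.Hom.appLE, Category.assoc, X.presheaf.germ_res]
  exact (Module.flat_iff_of_isLocalization (S.presheaf.stalk (f (i z)))
    (hV.primeIdealOf ⟨f (i z), hzV⟩).asIdeal.primeCompl (X.presheaf.stalk (i z))).mpr ‹_›

end Groth.L07.RelQuasiFlat
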