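import Groth.Agent.L07.H1Seq
import Groth.Agent.L07.RelQuasiFlat
import Groth.Agent.L07.FlatStage
import Groth.Agent.L20.FibreDescent
import Groth.Agent.L20.FlatAtBaseChange
import Groth.Agent.L05.Glue.Flat
import Groth.Agent.S2103
import Mathlib.LinearAlgebra.TensorProduct.RightExactness
import Mathlib.LinearAlgebra.TensorProduct.Pi

/-!
An `H₁`-regular sequence with flat quotient in an algebra of finite presentation: the algebra is flat
at the primes containing the sequence.
-/

set_option autoImplicit false
set_option linter.style.haveILetI false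
set_option maxSynthPendingDepth 3

universe u

open TensorProduct Groth.L07.FlatDescent

namespace Groth.L07.H1Flat

open Groth.L07.H1Seq (Triv)

theorem comp_mem_triv {A B : Type u} [CommRing A] [CommRing B] (φ : A →+* B) {c : ℕ}
    {f a : Fin c → A} (h : a ∈ Triv f) : (fun i => φ (a i)) ∈ Triv (fun i => φ (f i)) := by
  refine Submodule.span_induction (p := fun a _ => (fun i => φ (a i)) ∈ Triv (fun i => φ (f i)))
    ?_ ?_ ?_ ?_ h
  · rintro _ ⟨i, j, rfl⟩
    exact Submodule.subset_span ⟨i, j, funext fun k => by simp [Pi.single_apply, apply_ite φ]⟩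
  · simp only [Pi.zero_apply, map_zero]; exact zero_mem _
  · intro a b _ _ ha hb
    simp only [Pi.add_apply, map_add]; exact add_mem ha hb
  · intro r a _ ha
    simp only [Pi.smul_apply, smul_eq_mul, map_mul]; exact Submodule.smul_mem _ (φ r) ha

/-- `H₁`-regularity after a base change along which the relations become trivial. -/
theorem h1_tensor {C C' B : Type u} [CommRing C] [CommRing C'] [CommRing B] [Algebra C B] [Algebra C C']
    {c : ℕ} (f : Fin c → B) (hflat : Module.Flat C (B ⧸ Ideal.span (Set.range f)))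
    (hz : ∀ z : Fin c → B, ∑ i, z i * f i = 0 →
      (fun i => ((1 : C') ⊗ₜ[C] z i : C' ⊗[C] B)) ∈ Triv fun i => ((1 : C') ⊗ₜ[C] f i : C' ⊗[C] B)) :
    CAlgX.IsH1Regular (fun i => ((1 : C') ⊗ₜ[C] f i : C' ⊗[C] B)) := by
  classical
  set J : Submodule C B := (Ideal.span (Set.range f)).restrictScalars C with hJ
  let π₀ : (Fin c → B) →ₗ[C] B := ∑ i, (LinearMap.mulRight C (f i)) ∘ₗ LinearMap.proj i
  have hπ₀ : ∀ v, π₀ v = ∑ i, v i * f i := fun v => by simp [π₀]
  let π : (Fin c → B) →ₗ[C] J := π₀.codRestrict J fun v => by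
    rw [hπ₀]
    exact Ideal.sum_mem _ fun i _ => Ideal.mul_mem_left _ _ (Ideal.subset_span ⟨i, rfl⟩)
  have hπ : Function.Surjective π := fun ⟨x, hx⟩ => by
    obtain ⟨k, hk⟩ := Submodule.mem_span_range_iff_exists_fun (R := B) |>.1 hx
    exact ⟨k, Subtype.ext ((hπ₀ k).trans hk)⟩
  have hκ : Function.Exact (LinearMap.ker π).subtype π := LinearMap.exact_subtype_ker_map π
  have : Module.Flat C (B ⧸ J) := Module.Flat.of_linearEquiv
    (Submodule.Quotient.restrictScalarsEquiv C (Ideal.span (Set.range f)))
  have hinj : Function.Injective (J.subtype.lTensor C') :=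
    Groth.L05.Glue.lTensor_injective_of_flat_coker J.subtype J.mkQ J.injective_subtype
      (LinearMap.exact_subtype_mkQ J) J.mkQ_surjective C'
  let e := TensorProduct.piRight C C C' (fun _ : Fin c => B)
  have he : ∀ z, J.subtype.lTensor C' (π.lTensor C' z) = ∑ i, e z i * ((1 : C') ⊗ₜ[C] f i) := by
    intro z
    induction z using TensorProduct.induction_on with
    | zero => simp
    | tmul x v =>
      simp only [LinearMap.lTensor_tmul, e, TensorProduct.piRight_apply, TensorProduct.piRightHom_tmul,
        Algebra.TensorProduct.tmul_mul_tmul, mul_one]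
      rw [← TensorProduct.tmul_sum, ← hπ₀]
      rfl
    | add x y hx hy => simp only [map_add, hx, hy, Pi.add_apply, add_mul, Finset.sum_add_distrib]
  intro a ha
  obtain ⟨z, rfl⟩ := e.surjective a
  have hz' : π.lTensor C' z = 0 := hinj (by rw [he, map_zero]; exact ha)
  obtain ⟨w, rfl⟩ := (lTensor_exact C' hκ hπ z).1 hz'
  clear ha hz'
  induction w using TensorProduct.induction_on with
  | zero => simp
  | tmul x k =>
    have hk : ∑ i, (k : Fin c → B) i * f i = 0 :=
      (hπ₀ _).symm.trans (congrArg Subtype.val k.2)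
    have : e (((LinearMap.ker π).subtype.lTensor C') (x ⊗ₜ[C] k)) =
        (x ⊗ₜ[C] (1 : B) : C' ⊗[C] B) • fun i => ((1 : C') ⊗ₜ[C] (k : Fin c → B) i : C' ⊗[C] B) := by
      funext l
      simp [e, TensorProduct.piRightHom_tmul, Algebra.TensorProduct.tmul_mul_tmul]
    rw [this]
    exact Submodule.smul_mem _ _ (hz _ hk)
  | add x y hx hy => rw [map_add, map_add]; exact Submodule.add_mem _ hx hy

section Stage

variable {d : ℕ} {R : Type u} [CommRing R] (C : Type u) [CommRing C] [Algebra R C]

/-- The relations of a cyclic module. -/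
theorem kc_comap_proj (I : Ideal (MvPolynomial (Fin d) R)) :
    KC C (Submodule.comap (LinearMap.proj 0 : F d 1 R →ₗ[MvPolynomial (Fin d) R] _) I) =
      Submodule.comap (LinearMap.proj 0 : F d 1 C →ₗ[C] MvPolynomial (Fin d) C)
        ((I.map (MvPolynomial.map (algebraMap R C))).restrictScalars C) := by
  apply le_antisymm
  · rw [KC, Submodule.span_le]
    rintro _ ⟨y, hy, rfl⟩
    exact Ideal.mem_map_of_mem _ hy
  · intro x hx
    have key : ∀ p ∈ I.map (MvPolynomial.map (algebraMap R C)),
        (fun _ : Fin 1 => p) ∈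
          KC C (Submodule.comap (LinearMap.proj 0 : F d 1 R →ₗ[MvPolynomial (Fin d) R] _) I) := by
      intro p hp
      rw [Ideal.map] at hp
      refine Submodule.span_induction (p := fun p _ => (fun _ : Fin 1 => p) ∈ KC C _) ?_ ?_ ?_ ?_ hp
      · rintro _ ⟨y, hy, rfl⟩
        exact ψ_mem (C := C) _ (y := fun _ : Fin 1 => y) hy
      · exact zero_mem _
      · intro a b _ _ ha hb; exact add_mem ha hb
      · intro r a _ ha; exact poly_smul_mem _ r ha
    have hx0 : x = fun _ => x 0 := funext fun i => by rw [Subsingleton.elim i 0]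
    rw [hx0]
    exact key _ hx

/-- The cyclic model. -/
theorem exists_mcEquiv (I : Ideal (MvPolynomial (Fin d) R)) :
    Nonempty (MC C (Submodule.comap (LinearMap.proj 0 : F d 1 R →ₗ[MvPolynomial (Fin d) R] _) I) ≃ₗ[C]
      (MvPolynomial (Fin d) C ⧸ I.map (MvPolynomial.map (algebraMap R C)))) := by
  refine ⟨Submodule.Quotient.equiv _ _ (LinearEquiv.funUnique (Fin 1) C (MvPolynomial (Fin d) C)) ?_ ≪≫ₗ
    Submodule.Quotient.restrictScalarsEquiv C _⟩
  rw [kc_comap_proj]
  ext p
  simp only [Submodule.mem_map, Submodule.mem_comap]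
  constructor
  · rintro ⟨y, hy, rfl⟩; exact hy
  · exact fun hp => ⟨fun _ => p, hp, rfl⟩

/-- Flatness of the quotient by the sequence, read on the cyclic model. -/
theorem flat_quot_of_mc {c : ℕ} (I : Ideal (MvPolynomial (Fin d) R)) (F' : Fin c → MvPolynomial (Fin d) R)
    [Module.Flat C (MC C (Submodule.comap
      (LinearMap.proj 0 : F d 1 R →ₗ[MvPolynomial (Fin d) R] _) (I ⊔ Ideal.span (Set.range F'))))] :
    Module.Flat C ((MvPolynomial (Fin d) C ⧸ I.map (MvPolynomial.map (algebraMap R C))) ⧸
      Ideal.span (Set.range fun i => Ideal.Quotient.mk (I.map (MvPolynomial.map (algebraMap R C)))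
        (MvPolynomial.map (algebraMap R C) (F' i)))) := by
  obtain ⟨e⟩ := exists_mcEquiv C (I ⊔ Ideal.span (Set.range F'))
  have h1 : Ideal.span (Set.range fun i => Ideal.Quotient.mk (I.map (MvPolynomial.map (algebraMap R C)))
      (MvPolynomial.map (algebraMap R C) (F' i))) =
      ((Ideal.span (Set.range F')).map (MvPolynomial.map (algebraMap R C))).map
        (Ideal.Quotient.mk (I.map (MvPolynomial.map (algebraMap R C)))) := by
    rw [Ideal.map_span, Ideal.map_span, ← Set.range_comp, ← Set.range_comp]; rfl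
  rw [h1]
  exact Module.Flat.of_linearEquiv ((DoubleQuot.quotQuotEquivQuotSupₐ C _ _).toLinearEquiv ≪≫ₗ
    (Submodule.quotEquivOfEq _ _ (Ideal.map_sup _ _ _).symm).restrictScalars C ≪≫ₗ e.symm)

end Stage

theorem exists_map_eq {d : ℕ} {A : Type u} [CommRing A] {S : Type u} [CommRing S] [Algebra S A]
    {W : Finset A} (h : ∀ a ∈ W, a ∈ Set.range (algebraMap S A)) (p : MvPolynomial (Fin d) A)
    (hp : p.coeffs ⊆ W) : ∃ p' : MvPolynomial (Fin d) S, MvPolynomial.map (algebraMap S A) p' = p := by
  have : p ∈ Set.range (MvPolynomial.map (algebraMap S A)) := by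
    rw [MvPolynomial.mem_range_map_iff_coeffs_subset]
    exact fun a ha => h a (hp ha)
  exact this

theorem mk_single {X : Type u} [CommRing X] {Y : Type u} [CommRing Y] (φ : X →+* Y) {c : ℕ} (i : Fin c)
    (x : X) (k : Fin c) : φ ((Pi.single i x : Fin c → X) k) = (Pi.single i (φ x) : Fin c → Y) k := by
  simp [Pi.single_apply, apply_ite φ]

/-- A base change with flat quotient along which the relations become trivial. -/
theorem h1_flat_of_isPushout {C C' B B' : Type u} [CommRing C] [CommRing C'] [CommRing B] [CommRing B']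
    [Algebra C C'] [Algebra C B] [Algebra C' B'] [Algebra B B'] [Algebra C B'] [IsScalarTower C C' B']
    [IsScalarTower C B B'] [Algebra.IsPushout C C' B B'] {c : ℕ} (f : Fin c → B)
    (hflat : Module.Flat C (B ⧸ Ideal.span (Set.range f)))
    (hz : ∀ z : Fin c → B, ∑ i, z i * f i = 0 →
      (fun i => algebraMap B B' (z i)) ∈ Triv fun i => algebraMap B B' (f i)) :
    CAlgX.IsH1Regular (fun i => algebraMap B B' (f i)) ∧
      Module.Flat C' (B' ⧸ Ideal.span (Set.range fun i => algebraMap B B' (f i))) := by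
  let e := Algebra.IsPushout.equiv C C' B B'
  have he : ∀ x, e (1 ⊗ₜ x) = algebraMap B B' x := fun x => by
    simp [e, Algebra.IsPushout.equiv_tmul]
  constructor
  · have h1 : CAlgX.IsH1Regular (fun i => ((1 : C') ⊗ₜ[C] f i : C' ⊗[C] B)) := by
      refine h1_tensor f hflat fun z hz' => ?_
      have h2 := comp_mem_triv e.symm.toRingEquiv.toRingHom (hz z hz')
      convert h2 using 2
      · funext i; rw [← he]; exact (e.symm_apply_apply _).symm
      · rw [← he]; exact (e.symm_apply_apply _).symm
    have h2 := Groth.L03.RegImmFlat.isH1Regular_map e.toRingEquiv.toRingHom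
      (RingHom.Flat.of_bijective e.bijective) h1
    convert h2 using 1
    funext i
    exact (he _).symm
  · let J := Ideal.span (Set.range f)
    haveI := hflat
    have hJ : Ideal.span (Set.range fun i => algebraMap B B' (f i)) =
        (J.map (Algebra.TensorProduct.includeRight (R := C) (A := C') (B := B))).map e := by
      rw [Ideal.map_span, Ideal.map_span, ← Set.range_comp, ← Set.range_comp]
      congr 2
      funext i
      exact (he _).symm
    exact Module.Flat.of_linearEquiv ((Ideal.quotientEquivAlg _ _ e hJ).symm.toLinearEquiv ≪≫ₗ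
      (Algebra.TensorProduct.tensorQuotientEquiv (R := C) C' B C' J).symm.toLinearEquiv)

/-- Flatness over a noetherian model. -/
theorem flat_of_model {C A B' B : Type u} [CommRing C] [CommRing A] [CommRing B'] [CommRing B]
    [IsNoetherianRing B'] [Algebra C A] [Algebra C B'] [Algebra A B] [Algebra C B] [Algebra B' B]
    [IsScalarTower C A B] [IsScalarTower C B' B] [hpush : Algebra.IsPushout C A B' B] {c : ℕ}
    (f : Fin c → B') (hf : CAlgX.IsH1Regular f) (hflat : Module.Flat C (B' ⧸ Ideal.span (Set.range f)))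
    (q : Ideal B) [q.IsPrime] (hq : ∀ i, algebraMap B' B (f i) ∈ q) :
    Module.Flat A (LocalizedModule q.primeCompl B) := by
  let q' := q.comap (algebraMap B' B)
  let L := Localization.AtPrime q'
  haveI : Module.Flat C (LocalizedModule q'.primeCompl B') := by
    let g : Fin c → L := fun i => algebraMap B' L (f i)
    have hgq : CAlgX.IsQuasiRegular g := Groth.Agent.S2103.result g
      (Groth.L03.RegImmFlat.isH1Regular_map (algebraMap B' L)
        (RingHom.flat_algebraMap_iff.mpr (IsLocalization.flat _ q'.primeCompl)) hf)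
    have hne : Ideal.span (Set.range g) ≠ ⊤ := by
      refine ne_top_of_le_ne_top (IsLocalRing.maximalIdeal.isMaximal L).ne_top (Ideal.span_le.2 ?_)
      rintro _ ⟨i, rfl⟩
      exact (IsLocalization.AtPrime.to_map_mem_maximal_iff L q' _).2 (hq i)
    haveI : Module.Flat B' L := IsLocalization.flat _ q'.primeCompl
    haveI := hflat
    have hgflat : Module.Flat C (L ⧸ Ideal.span (Set.range g)) := by
      have h := Groth.L07.RelQuasiFlat.flat_quot_map (R := C) (A := L) (Ideal.span (Set.range f))
      rwa [Ideal.map_span, ← Set.range_comp] at h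
    haveI := Groth.L07.RelQuasiFlat.flat_of_quasiRegular (R := C) g hgq hne hgflat
    exact Module.Flat.of_linearEquiv ((IsLocalizedModule.iso q'.primeCompl
      (Algebra.linearMap B' L)).restrictScalars C)
  exact Groth.L20.flat_localizedModule_of_isBaseChange (R := C) (R' := A)
    (Algebra.linearMap B' B) hpush.out q'.primeCompl q.primeCompl (fun t ht => ht)

section Relations

variable {d c : ℕ} {C A B : Type u} [CommRing C] [CommRing A] [CommRing B] [Algebra C A] [Algebra A B]
  (π : MvPolynomial (Fin d) A →ₐ[A] B) (I : Ideal (MvPolynomial (Fin d) C))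
  (F : Fin c → MvPolynomial (Fin d) C)

/-- A relation becomes trivial as soon as finitely many elements of `A` are available. -/
theorem exists_finset_trivial (hπ : Function.Surjective π)
    (hI : I.map (MvPolynomial.map (algebraMap C A)) = RingHom.ker π.toRingHom)
    (hf : CAlgX.IsH1Regular fun i => π (MvPolynomial.map (algebraMap C A) (F i)))
    (z : Fin c → MvPolynomial (Fin d) C ⧸ I) (hz : ∑ i, z i * Ideal.Quotient.mk I (F i) = 0) :
    ∃ W : Finset A, ∀ (C' : Type u) [CommRing C'] [Algebra C C'] [Algebra C' A] [IsScalarTower C C' A],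
      Function.Injective (algebraMap C' A) → (∀ a ∈ W, a ∈ Set.range (algebraMap C' A)) →
      ∃ zt : Fin c → MvPolynomial (Fin d) C, (∀ k, Ideal.Quotient.mk I (zt k) = z k) ∧
        (fun k => Ideal.Quotient.mk (I.map (MvPolynomial.map (algebraMap C C')))
          (MvPolynomial.map (algebraMap C C') (zt k))) ∈
        Triv fun k => Ideal.Quotient.mk (I.map (MvPolynomial.map (algebraMap C C')))
          (MvPolynomial.map (algebraMap C C') (F k)) := by
  classical
  choose zt hzt using fun k => Ideal.Quotient.mk_surjective (z k)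
  let m := MvPolynomial.map (σ := Fin d) (algebraMap C A)
  have hmem : ∑ i, zt i * F i ∈ I := by
    rw [← Ideal.Quotient.eq_zero_iff_mem, map_sum]
    simpa [map_mul, hzt] using hz
  have hrelB : ∑ i, π (m (zt i)) * π (m (F i)) = 0 := by
    have h1 := Ideal.mem_map_of_mem m hmem
    rw [hI] at h1
    have h2 : π (m (∑ i, zt i * F i)) = 0 := h1
    simpa only [map_sum, map_mul] using h2
  have h3 : (fun k => π (m (zt k))) ∈ Submodule.span B (Set.range fun p : Fin c × Fin c =>
      (Pi.single p.1 (π (m (F p.2))) - Pi.single p.2 (π (m (F p.1))) : Fin c → B)) := by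
    refine Submodule.span_mono ?_ (hf _ hrelB)
    rintro _ ⟨i, j, rfl⟩
    exact ⟨(i, j), rfl⟩
  obtain ⟨b', hb'⟩ := (Submodule.mem_span_range_iff_exists_fun B).1 h3
  choose b hb using fun p => hπ (b' p)
  have h4 : ∀ k, m (zt k) -
      ∑ p, b p * (Pi.single p.1 (m (F p.2)) - Pi.single p.2 (m (F p.1)) :
        Fin c → MvPolynomial (Fin d) A) k ∈ Ideal.span (m '' (I : Set (MvPolynomial (Fin d) C))) := by
    intro k
    change _ ∈ I.map m
    rw [hI]
    show π _ = 0
    have h5 := congrFun hb' k
    simp only [Finset.sum_apply, Pi.smul_apply, smul_eq_mul] at h5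
    rw [map_sub, map_sum, ← h5, sub_eq_zero]
    refine Finset.sum_congr rfl fun p _ => ?_
    simp only [Pi.sub_apply, map_mul, map_sub, hb]
    congr 2 <;> exact (mk_single π.toRingHom _ _ k).symm
  choose l hl hlk using fun k => (Finsupp.mem_span_image_iff_linearCombination _).1 (h4 k)
  refine ⟨(Finset.univ.biUnion fun p => (b p).coeffs) ∪
    Finset.univ.biUnion fun k => (l k).support.biUnion fun g => (l k g).coeffs,
    fun C' _ _ _ _ hinj hW => ⟨zt, hzt, ?_⟩⟩
  have hblift : ∀ p, ∃ p' : MvPolynomial (Fin d) C', MvPolynomial.map (algebraMap C' A) p' = b p :=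
    fun p => exists_map_eq hW _ fun a ha => Finset.mem_union_left _
      (Finset.mem_biUnion.2 ⟨p, Finset.mem_univ _, ha⟩)
  have hllift : ∀ k, ∀ g ∈ (l k).support, ∃ p' : MvPolynomial (Fin d) C',
      MvPolynomial.map (algebraMap C' A) p' = l k g :=
    fun k g hg => exists_map_eq hW _ fun a ha => Finset.mem_union_right _
      (Finset.mem_biUnion.2 ⟨k, Finset.mem_univ _, Finset.mem_biUnion.2 ⟨g, hg, ha⟩⟩)
  choose bl hbl using hblift
  choose! ll hll using hllift
  let n := MvPolynomial.map (σ := Fin d) (algebraMap C C')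
  have hnm : ∀ x, MvPolynomial.map (algebraMap C' A) (n x) = m x := fun x => by
    simp only [n, m, MvPolynomial.map_map, ← IsScalarTower.algebraMap_eq]
  have heq : ∀ k, n (zt k) = (∑ p : Fin c × Fin c, bl p *
      (Pi.single p.1 (n (F p.2)) - Pi.single p.2 (n (F p.1)) : Fin c → MvPolynomial (Fin d) C') k) +
      ∑ g ∈ (l k).support, ll k g * n g := by
    intro k
    apply MvPolynomial.map_injective (algebraMap C' A) hinj
    rw [hnm, map_add, map_sum, map_sum]
    have h6 := hlk k
    rw [Finsupp.linearCombination_apply, Finsupp.sum] at h6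
    refine (sub_eq_iff_eq_add'.1 h6.symm).trans ?_
    congr 1
    · refine Finset.sum_congr rfl fun p _ => ?_
      simp only [Pi.sub_apply, map_mul, map_sub, mk_single, hnm, hbl]
    · refine Finset.sum_congr rfl fun g hg => ?_
      rw [map_mul, hll k g hg, hnm, smul_eq_mul]
  have hval : (fun k => Ideal.Quotient.mk (I.map n) (n (zt k))) = ∑ p : Fin c × Fin c,
      Ideal.Quotient.mk (I.map n) (bl p) • (Pi.single p.1 (Ideal.Quotient.mk (I.map n) (n (F p.2))) -
        Pi.single p.2 (Ideal.Quotient.mk (I.map n) (n (F p.1))) :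
          Fin c → MvPolynomial (Fin d) C' ⧸ I.map n) := by
    funext k
    rw [heq k, map_add, map_sum, map_sum, Finset.sum_eq_zero (s := (l k).support) (fun g hg => ?_),
      add_zero, Finset.sum_apply]
    · refine Finset.sum_congr rfl fun p _ => ?_
      simp only [Pi.sub_apply, map_mul, map_sub, mk_single, Pi.smul_apply, smul_eq_mul]
    · rw [Ideal.Quotient.eq_zero_iff_mem]
      exact Ideal.mul_mem_left _ _ (Ideal.mem_map_of_mem _ (hl k hg))
  show (fun k => Ideal.Quotient.mk (I.map n) (n (zt k))) ∈ Triv _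
  rw [hval]
  exact Submodule.sum_mem _ fun p _ =>
    Submodule.smul_mem _ _ (Submodule.subset_span ⟨p.1, p.2, rfl⟩)

end Relations

/-- The statement over a noetherian ring with flat quotient. -/
theorem flat_of_presented {d c : ℕ} {C A B : Type u} [CommRing C] [IsNoetherianRing C] [CommRing A]
    [CommRing B] [Algebra C A] [Algebra A B] (π : MvPolynomial (Fin d) A →ₐ[A] B)
    (hπ : Function.Surjective π) (I : Ideal (MvPolynomial (Fin d) C))
    (hI : I.map (MvPolynomial.map (algebraMap C A)) = RingHom.ker π.toRingHom)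
    (F : Fin c → MvPolynomial (Fin d) C)
    (hflat : Module.Flat C ((MvPolynomial (Fin d) C ⧸ I) ⧸
      Ideal.span (Set.range fun i => Ideal.Quotient.mk I (F i))))
    (hf : CAlgX.IsH1Regular fun i => π (MvPolynomial.map (algebraMap C A) (F i)))
    (q : Ideal B) [q.IsPrime] (hq : ∀ i, π (MvPolynomial.map (algebraMap C A) (F i)) ∈ q) :
    Module.Flat A (LocalizedModule q.primeCompl B) := by
  classical
  obtain ⟨Gz, hGz⟩ : (LinearMap.ker (Fintype.linearCombination (MvPolynomial (Fin d) C ⧸ I)
      fun i => Ideal.Quotient.mk I (F i))).FG := IsNoetherian.noetherian _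
  have hrel : ∀ z ∈ Gz, ∑ i, z i * Ideal.Quotient.mk I (F i) = 0 := by
    intro z hz
    have := LinearMap.mem_ker.1 (hGz ▸ Submodule.subset_span hz :
      z ∈ LinearMap.ker (Fintype.linearCombination (MvPolynomial (Fin d) C ⧸ I)
        fun i => Ideal.Quotient.mk I (F i)))
    simpa [Fintype.linearCombination_apply] using this
  choose! W hW using fun z hz => exists_finset_trivial π I F hπ hI hf z (hrel z hz)
  let C' : Subalgebra C A := Algebra.adjoin C (Gz.biUnion W : Set A)
  haveI : Algebra.FiniteType C C' := C'.fg_iff_finiteType.mp ⟨_, rfl⟩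
  haveI : IsNoetherianRing C' := Algebra.FiniteType.isNoetherianRing C C'
  let I' := I.map (MvPolynomial.map (algebraMap C C'))
  let φ : (MvPolynomial (Fin d) C ⧸ I) →+* (MvPolynomial (Fin d) C' ⧸ I') :=
    Ideal.quotientMap I' (MvPolynomial.map (algebraMap C C')) Ideal.le_comap_map
  letI : Algebra (MvPolynomial (Fin d) C ⧸ I) (MvPolynomial (Fin d) C' ⧸ I') := φ.toAlgebra
  have hφ : ∀ z, algebraMap (MvPolynomial (Fin d) C ⧸ I) (MvPolynomial (Fin d) C' ⧸ I')
      (Ideal.Quotient.mk I z) = Ideal.Quotient.mkₐ C' I' (MvPolynomial.map (algebraMap C C') z) :=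
    fun z => rfl
  haveI : IsScalarTower C (MvPolynomial (Fin d) C ⧸ I) (MvPolynomial (Fin d) C' ⧸ I') :=
    Groth.L20.FibreCrit.isScalarTower_polyQuot (Ideal.Quotient.mkₐ C' I') I hφ
  haveI := Groth.L20.FibreCrit.isPushout_polyQuot (Ideal.Quotient.mkₐ C' I')
    (Ideal.Quotient.mkₐ_surjective C' I') I hφ (Ideal.mk_ker).le
  obtain ⟨hH1, hQ⟩ := h1_flat_of_isPushout (C := C) (C' := C') (B := MvPolynomial (Fin d) C ⧸ I)
    (B' := MvPolynomial (Fin d) C' ⧸ I') (fun i => Ideal.Quotient.mk I (F i)) hflat (fun z hz => by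
      have hzZ : z ∈ LinearMap.ker (Fintype.linearCombination (MvPolynomial (Fin d) C ⧸ I)
          fun i => Ideal.Quotient.mk I (F i)) := by
        rw [LinearMap.mem_ker, Fintype.linearCombination_apply]; simpa using hz
      rw [← hGz] at hzZ
      refine Submodule.span_induction (p := fun z _ => (fun k => φ (z k)) ∈
        Triv fun k => φ (Ideal.Quotient.mk I (F k))) ?_ ?_ ?_ ?_ hzZ
      · intro z hz
        obtain ⟨zt, hzt, h⟩ := hW z hz C' Subtype.val_injective (fun a ha =>
          ⟨⟨a, Algebra.subset_adjoin (Finset.mem_biUnion.2 ⟨z, hz, ha⟩)⟩, rfl⟩)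
        rw [show (fun k => φ (z k)) = fun k => φ (Ideal.Quotient.mk I (zt k)) from
          funext fun k => by rw [hzt]]
        exact h
      · simp only [Pi.zero_apply, map_zero]; exact zero_mem _
      · intro a b _ _ ha hb; simp only [Pi.add_apply, map_add]; exact add_mem ha hb
      · intro r a _ ha
        simp only [Pi.smul_apply, smul_eq_mul, map_mul]; exact Submodule.smul_mem _ (φ r) ha)
  have hcomp : ∀ x : MvPolynomial (Fin d) C, MvPolynomial.map (algebraMap C' A) (MvPolynomial.map (algebraMap C C') x) =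
      MvPolynomial.map (algebraMap C A) x := fun x => by
    rw [MvPolynomial.map_map, ← IsScalarTower.algebraMap_eq]
  have hI' : I'.map (MvPolynomial.map (algebraMap C' A)) = RingHom.ker π.toRingHom := by
    rw [Ideal.map_map, ← hI]
    congr 1
    exact RingHom.ext hcomp
  let χ : (MvPolynomial (Fin d) C' ⧸ I') →+* B :=
    Ideal.Quotient.lift I' (π.toRingHom.comp (MvPolynomial.map (algebraMap C' A)))
      (fun x hx => hI'.le (Ideal.mem_map_of_mem _ hx))
  letI : Algebra (MvPolynomial (Fin d) C' ⧸ I') B := χ.toAlgebra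
  have hχ : ∀ z, algebraMap (MvPolynomial (Fin d) C' ⧸ I') B (Ideal.Quotient.mk I' z) =
      π (MvPolynomial.map (algebraMap C' A) z) := fun z => rfl
  haveI : IsScalarTower C' (MvPolynomial (Fin d) C' ⧸ I') B :=
    Groth.L20.FibreCrit.isScalarTower_polyQuot π I' hχ
  haveI := Groth.L20.FibreCrit.isPushout_polyQuot π hπ I' hχ hI'.ge
  refine flat_of_model (C := C') _ hH1 hQ q fun i => ?_
  show π (MvPolynomial.map (algebraMap C' A) (MvPolynomial.map (algebraMap C C') (F i))) ∈ q
  rw [hcomp]
  exact hq i

/-- An `H₁`-regular sequence with flat quotient: the algebra is flat at the primes containing it. -/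
theorem flat_of_h1 {A B : Type u} [CommRing A] [CommRing B] [Algebra A B] [Algebra.FinitePresentation A B]
    {c : ℕ} (f : Fin c → B) (hf : CAlgX.IsH1Regular f)
    (hflat : Module.Flat A (B ⧸ Ideal.span (Set.range f))) (q : Ideal B) [q.IsPrime] (hq : ∀ i, f i ∈ q) :
    Module.Flat A (LocalizedModule q.primeCompl B) := by
  classical
  obtain ⟨d, π, hπ, hker⟩ := Algebra.FinitePresentation.out (R := A) (A := B)
  obtain ⟨s, hs⟩ := hker
  choose Fl hFl using fun i => hπ (f i)
  let W : Finset A := (s ∪ Finset.univ.image Fl).biUnion MvPolynomial.coeffs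
  let R := Algebra.adjoin ℤ (W : Set A)
  haveI : IsNoetherianRing R := by
    haveI : Algebra.FiniteType ℤ R := R.fg_iff_finiteType.mp ⟨W, rfl⟩
    exact Algebra.FiniteType.isNoetherianRing ℤ R
  have hW : ∀ a ∈ W, a ∈ Set.range (algebraMap R A) := fun a ha =>
    ⟨⟨a, Algebra.subset_adjoin ha⟩, rfl⟩
  have hlift : ∀ p ∈ s ∪ Finset.univ.image Fl,
      ∃ p' : MvPolynomial (Fin d) R, MvPolynomial.map (algebraMap R A) p' = p := fun p hp =>
    exists_map_eq hW p (Finset.subset_biUnion_of_mem MvPolynomial.coeffs hp)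
  choose! lft hlft using hlift
  let I : Ideal (MvPolynomial (Fin d) R) := Ideal.span (lft '' (s : Set (MvPolynomial (Fin d) A)))
  let F' : Fin c → MvPolynomial (Fin d) R := fun i => lft (Fl i)
  have hF' : ∀ i, MvPolynomial.map (algebraMap R A) (F' i) = Fl i := fun i =>
    hlft _ (Finset.mem_union_right _ (Finset.mem_image_of_mem Fl (Finset.mem_univ i)))
  have hI : I.map (MvPolynomial.map (algebraMap R A)) = RingHom.ker π.toRingHom := by
    rw [Ideal.map_span, ← hs, ← Set.image_comp]
    congr 1
    conv_rhs => rw [← Set.image_id (s : Set (MvPolynomial (Fin d) A))]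
    exact Set.image_congr fun p hp => hlft p (Finset.mem_union_left _ hp)
  let K : Submodule (MvPolynomial (Fin d) R) (F d 1 R) :=
    Submodule.comap (LinearMap.proj 0 : F d 1 R →ₗ[MvPolynomial (Fin d) R] _)
      (I ⊔ Ideal.span (Set.range F'))
  haveI : Module.Flat A (MC A K) := by
    obtain ⟨e⟩ := exists_mcEquiv A (I ⊔ Ideal.span (Set.range F'))
    let θ : MvPolynomial (Fin d) A →ₐ[A] B ⧸ Ideal.span (Set.range f) :=
      (Ideal.Quotient.mkₐ A _).comp π
    have hθ : Function.Surjective θ := (Ideal.Quotient.mkₐ_surjective A _).comp hπ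
    have hθk : RingHom.ker θ =
        (I ⊔ Ideal.span (Set.range F')).map (MvPolynomial.map (algebraMap R A)) := by
      rw [Ideal.map_sup, hI, Ideal.map_span, ← Set.range_comp]
      have h1 : (RingHom.ker θ) = (Ideal.span (Set.range f)).comap π.toRingHom := by
        ext x; exact Ideal.Quotient.eq_zero_iff_mem
      have h2 : Set.range f = π.toRingHom '' Set.range Fl := by
        rw [← Set.range_comp]; exact congrArg Set.range (funext fun i => (hFl i).symm)
      rw [h1, h2, ← Ideal.map_span, Ideal.comap_map_of_surjective π.toRingHom hπ, sup_comm]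
      congr 3
      exact funext fun i => (hF' i).symm
    exact Module.Flat.of_linearEquiv (e ≪≫ₗ (Submodule.quotEquivOfEq _ _ hθk.symm).restrictScalars A ≪≫ₗ
      (Ideal.quotientKerAlgEquivOfSurjective hθ).toLinearEquiv)
  obtain ⟨C, hC, hflatC⟩ := exists_fg_stage (R := R) K A
  haveI : Algebra.FiniteType R C := C.fg_iff_finiteType.mp hC
  haveI : IsNoetherianRing C := Algebra.FiniteType.isNoetherianRing R C
  refine flat_of_presented (C := C) π hπ (I.map (MvPolynomial.map (algebraMap R C))) ?_
    (fun i => MvPolynomial.map (algebraMap R C) (F' i)) (flat_quot_of_mc C I F') ?_ q ?_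
  · rw [Ideal.map_map, ← hI]
    congr 1
    exact RingHom.ext fun p => by rw [RingHom.comp_apply, MvPolynomial.map_map, ← IsScalarTower.algebraMap_eq]
  · convert hf using 1
    funext i
    rw [MvPolynomial.map_map, ← IsScalarTower.algebraMap_eq, hF', hFl]
  · intro i
    rw [MvPolynomial.map_map, ← IsScalarTower.algebraMap_eq, hF', hFl]
    exact hq i

end Groth.L07.H1Flat
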