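import Groth.Agent.L07.TransFib
import Groth.Agent.L07.H1Flat
import Groth.Agent.L20.FlatStalk
import Groth.Agent.L07.RegImmAt
import Groth.Agent.L14.RegImmStalk.Stalk

/-!
Transversally regular immersions: base change and the passage from charts.
-/

set_option autoImplicit false
set_option linter.style.haveILetI false
set_option maxSynthPendingDepth 3
set_option backward.isDefEq.respectTransparency false
set_option backward.isDefEq.respectTransparency.types false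

universe u

open CategoryTheory CategoryTheory.Limits AlgebraicGeometry TensorProduct RingTheory.Sequence

namespace Groth.L07.TransImm

variable {Z X S : Scheme.{u}}

/-- A chart of a relative immersion: an affine piece of the source and of the base, on which the
immersion is closed. -/
theorem exists_chart (f : X ⟶ S) (i : Z ⟶ X) [IsImmersion i] (z : Z) (W₀ : X.Opens) (hz : i z ∈ W₀) :
    ∃ (U : X.Opens) (V : S.Opens) (_ : IsAffineOpen U) (_ : IsAffineOpen V) (_ : U ≤ f ⁻¹ᵁ V),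
      U ≤ W₀ ∧ i z ∈ U ∧ IsClosedImmersion (i ∣_ U) := by
  obtain ⟨W, hzW, hclW⟩ := Groth.L07.RegImmAt.exists_isClosedImmersion_restrict i z
  obtain ⟨_, ⟨V, hV, rfl⟩, hzV, -⟩ :=
    S.isBasis_affineOpens.exists_subset_of_mem_open (Set.mem_univ (f (i z))) isOpen_univ
  change S.Opens at V
  replace hV : IsAffineOpen V := hV
  obtain ⟨_, ⟨U, hU, rfl⟩, hzU, hUW⟩ := X.isBasis_affineOpens.exists_subset_of_mem_open
    (show i z ∈ W ⊓ W₀ ⊓ f ⁻¹ᵁ V from ⟨⟨hzW, hz⟩, hzV⟩) (W ⊓ W₀ ⊓ f ⁻¹ᵁ V).2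
  change X.Opens at U
  replace hU : IsAffineOpen U := hU
  exact ⟨U, V, hU, hV, fun x hx => (hUW hx).2, fun x hx => (hUW hx).1.2, hzU,
    Groth.L07.RegImmAt.restrict_closed i (fun x hx => (hUW hx).1.1) hclW⟩

/-- A chart of an immersion regular at a point, inside a given open. -/
theorem exists_seqChart_at (f : X ⟶ S) (i : Z ⟶ X) [IsImmersion i] (k : RegImm.Kind) (z : Z)
    (hi : RegImm.IsRegularImmersionAt k i z) (W₀ : X.Opens) (hz : i z ∈ W₀) :
    ∃ (U : X.Opens) (V : S.Opens) (_ : IsAffineOpen U) (_ : IsAffineOpen V) (_ : U ≤ f ⁻¹ᵁ V),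
      U ≤ W₀ ∧ i z ∈ U ∧ IsClosedImmersion (i ∣_ U) ∧
        ∃ rs : List Γ(X, U), k.Seq Γ(X, U) rs ∧ RingHom.ker (i.app U).hom = Ideal.ofList rs := by
  obtain ⟨⟨W, hW⟩, hzW, hclW, rs, hrs, hker⟩ := hi
  obtain ⟨U, V, hU, hV, e, hle, hzU, hcl⟩ := exists_chart f i z (W ⊓ W₀) ⟨hzW, hz⟩
  have hleW : U ≤ W := hle.trans inf_le_left
  obtain ⟨-, hk⟩ := Groth.L07.RegImmAt.ker_restrict hW hU hleW hclW
  let ρ := (X.presheaf.map (homOfLE hleW).op).hom
  have hρ : ρ.Flat := by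
    have := Flat.flat_appLE (𝟙 X) hW hU hleW
    simpa [Scheme.Hom.appLE] using this
  have hker' : RingHom.ker (i.app U).hom = Ideal.ofList (rs.map ρ) := by
    rw [hk, hker, Ideal.map_ofList]
  refine ⟨U, V, hU, hV, e, hle.trans inf_le_right, hzU, hcl, rs.map ρ,
    Groth.L03.RegImmFlat.seq_map ρ hρ k rs hrs ?_, hker'⟩
  haveI : Nonempty (i ⁻¹ᵁ U).toScheme := ⟨⟨z, hzU⟩⟩
  haveI := Scheme.component_nontrivial Z (i ⁻¹ᵁ U)
  exact fun h => RingHom.ker_ne_top _ (hker'.trans h)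

/-- A chart of a regular immersion of any kind, inside a given open. -/
theorem exists_seqChart (f : X ⟶ S) (i : Z ⟶ X) (k : RegImm.Kind) (hi : RegImm.IsRegularImmersion k i)
    (z : Z) (W₀ : X.Opens) (hz : i z ∈ W₀) :
    ∃ (U : X.Opens) (V : S.Opens) (_ : IsAffineOpen U) (_ : IsAffineOpen V) (_ : U ≤ f ⁻¹ᵁ V),
      U ≤ W₀ ∧ i z ∈ U ∧ IsClosedImmersion (i ∣_ U) ∧
        ∃ rs : List Γ(X, U), k.Seq Γ(X, U) rs ∧ RingHom.ker (i.app U).hom = Ideal.ofList rs := by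
  haveI := hi.1
  exact exists_seqChart_at f i k z (hi.2 z) W₀ hz

/-- The quotient by the ideal of an immersion, flat over the base near the chart. -/
theorem flat_quot_ker_of_restrict (f : X ⟶ S) (i : Z ⟶ X) (W : Z.Opens) [Flat (W.ι ≫ i ≫ f)] {U : X.Opens}
    (hU : IsAffineOpen U) {V : S.Opens} (hV : IsAffineOpen V) (e : U ≤ f ⁻¹ᵁ V)
    (hcl : IsClosedImmersion (i ∣_ U)) (hW : i ⁻¹ᵁ U ≤ W) :
    letI := (f.appLE V U e).hom.toAlgebra
    Module.Flat Γ(S, V) (Γ(X, U) ⧸ RingHom.ker (i.app U).hom) := by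
  letI := (f.appLE V U e).hom.toAlgebra
  haveI := hcl
  haveI : IsAffine (U : Scheme.{u}) := hU
  have hUZ : IsAffineOpen (i ⁻¹ᵁ U) := isAffine_of_isAffineHom (i ∣_ U)
  have hWZ : IsAffineOpen (W.ι ⁻¹ᵁ (i ⁻¹ᵁ U)) := hUZ.preimage_of_isOpenImmersion W.ι (by simpa using hW)
  have h0 : ((W.ι ≫ i ≫ f).appLE V (W.ι ⁻¹ᵁ (i ⁻¹ᵁ U)) fun w hw => e hw).hom.Flat :=
    Flat.flat_appLE (W.ι ≫ i ≫ f) hV hWZ _
  have h0' : ((W.ι ≫ i ≫ f).appLE V (W.ι ⁻¹ᵁ (i ⁻¹ᵁ U)) fun w hw => e hw) =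
      (i ≫ f).appLE V (i ⁻¹ᵁ U) (fun w hw => e hw) ≫ W.ι.app (i ⁻¹ᵁ U) := by
    rw [Scheme.Hom.app_eq_appLE, Scheme.Hom.appLE_comp_appLE]
  haveI : IsIso (W.ι.app (i ⁻¹ᵁ U)) := W.ι.isIso_app _ (by simpa using hW)
  have h1 : ((i ≫ f).appLE V (i ⁻¹ᵁ U) fun w hw => e hw).hom.Flat := by
    rw [show ((i ≫ f).appLE V (i ⁻¹ᵁ U) fun w hw => e hw) =
      (W.ι ≫ i ≫ f).appLE V (W.ι ⁻¹ᵁ (i ⁻¹ᵁ U)) (fun w hw => e hw) ≫ inv (W.ι.app (i ⁻¹ᵁ U)) by
      rw [h0', Category.assoc, IsIso.hom_inv_id, Category.comp_id]]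
    exact RingHom.Flat.comp h0 (RingHom.Flat.of_bijective (ConcreteCategory.bijective_of_isIso _))
  have h2 : ((i ≫ f).appLE V (i ⁻¹ᵁ U) fun w hw => e hw) = f.appLE V U e ≫ i.app U := by
    rw [Scheme.Hom.app_eq_appLE, Scheme.Hom.appLE_comp_appLE]
  rw [h2] at h1
  letI : Algebra Γ(S, V) Γ(Z, i ⁻¹ᵁ U) := (f.appLE V U e ≫ i.app U).hom.toAlgebra
  haveI : Module.Flat Γ(S, V) Γ(Z, i ⁻¹ᵁ U) := h1
  let q : Γ(X, U) →ₐ[Γ(S, V)] Γ(Z, i ⁻¹ᵁ U) := ⟨(i.app U).hom, fun _ => rfl⟩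
  exact Module.Flat.of_linearEquiv (Ideal.quotientKerAlgEquivOfSurjective (f := q)
    (Groth.L07.RegImmComp.app_surjective i U hU hcl)).toLinearEquiv

/-- The quotient by the ideal of an immersion flat over the base. -/
theorem flat_quot_ker (f : X ⟶ S) (i : Z ⟶ X) [Flat (i ≫ f)] {U : X.Opens} (hU : IsAffineOpen U)
    {V : S.Opens} (hV : IsAffineOpen V) (e : U ≤ f ⁻¹ᵁ V) (hcl : IsClosedImmersion (i ∣_ U)) :
    letI := (f.appLE V U e).hom.toAlgebra
    Module.Flat Γ(S, V) (Γ(X, U) ⧸ RingHom.ker (i.app U).hom) := by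
  letI := (f.appLE V U e).hom.toAlgebra
  haveI := hcl
  haveI : IsAffine (U : Scheme.{u}) := hU
  have hUZ : IsAffineOpen (i ⁻¹ᵁ U) := isAffine_of_isAffineHom (i ∣_ U)
  have h1 : ((i ≫ f).appLE V (i ⁻¹ᵁ U) fun w hw => e hw).hom.Flat := Flat.flat_appLE (i ≫ f) hV hUZ _
  have h2 : ((i ≫ f).appLE V (i ⁻¹ᵁ U) fun w hw => e hw) = f.appLE V U e ≫ i.app U := by
    rw [Scheme.Hom.app_eq_appLE, Scheme.Hom.appLE_comp_appLE]
  rw [h2] at h1
  letI : Algebra Γ(S, V) Γ(Z, i ⁻¹ᵁ U) := (f.appLE V U e ≫ i.app U).hom.toAlgebra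
  haveI : Module.Flat Γ(S, V) Γ(Z, i ⁻¹ᵁ U) := h1
  let q : Γ(X, U) →ₐ[Γ(S, V)] Γ(Z, i ⁻¹ᵁ U) := ⟨(i.app U).hom, fun _ => rfl⟩
  exact Module.Flat.of_linearEquiv (Ideal.quotientKerAlgEquivOfSurjective (f := q)
    (Groth.L07.RegImmComp.app_surjective i U hU hcl)).toLinearEquiv

/-- The ideal of an immersion of schemes of finite presentation is finitely generated. -/
theorem fg_ker (f : X ⟶ S) (i : Z ⟶ X) [LocallyOfFinitePresentation f]
    [LocallyOfFinitePresentation (i ≫ f)] {U : X.Opens} (hU : IsAffineOpen U)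
    {V : S.Opens} (hV : IsAffineOpen V) (e : U ≤ f ⁻¹ᵁ V) (hcl : IsClosedImmersion (i ∣_ U)) :
    (RingHom.ker (i.app U).hom).FG := by
  letI := (f.appLE V U e).hom.toAlgebra
  haveI : Algebra.FinitePresentation Γ(S, V) Γ(X, U) := f.finitePresentation_appLE hV hU e
  haveI := hcl
  haveI : IsAffine (U : Scheme.{u}) := hU
  have hUZ : IsAffineOpen (i ⁻¹ᵁ U) := isAffine_of_isAffineHom (i ∣_ U)
  have h1 : ((i ≫ f).appLE V (i ⁻¹ᵁ U) fun w hw => e hw).hom.FinitePresentation :=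
    (i ≫ f).finitePresentation_appLE hV hUZ _
  have h2 : ((i ≫ f).appLE V (i ⁻¹ᵁ U) fun w hw => e hw) = f.appLE V U e ≫ i.app U := by
    rw [Scheme.Hom.app_eq_appLE, Scheme.Hom.appLE_comp_appLE]
  rw [h2] at h1
  letI : Algebra Γ(S, V) Γ(Z, i ⁻¹ᵁ U) := (f.appLE V U e ≫ i.app U).hom.toAlgebra
  haveI : Algebra.FinitePresentation Γ(S, V) Γ(Z, i ⁻¹ᵁ U) := h1
  let q : Γ(X, U) →ₐ[Γ(S, V)] Γ(Z, i ⁻¹ᵁ U) := ⟨(i.app U).hom, fun _ => rfl⟩
  exact Algebra.FinitePresentation.ker_fG_of_surjective q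
    (Groth.L07.RegImmComp.app_surjective i U hU hcl)

/-- A transversally regular immersion is regular. -/
theorem regularAt_of_trans {f : X ⟶ S} {i : Z ⟶ X} {z : Z} (h : RegImm.IsTransRegularImmersionAt f i z) :
    RegImm.IsRegularImmersionAt RegImm.Kind.regular i z := by
  obtain ⟨U, V, e, hz, hcl, rs, htr, hker⟩ := h
  refine ⟨U, hz, hcl, rs, ⟨htr.1, ?_⟩, hker⟩
  rw [smul_eq_mul, Ideal.mul_top, ← hker]
  haveI : Nonempty (i ⁻¹ᵁ U.1).toScheme := ⟨⟨z, hz⟩⟩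
  haveI := Scheme.component_nontrivial Z (i ⁻¹ᵁ U.1)
  exact (RingHom.ker_ne_top _).symm

/-- Base change of a chart of an immersion. -/
theorem exists_baseChange_chart {X' S' Z' : Scheme.{u}} {f : X ⟶ S} {f' : X' ⟶ S'} {g' : X' ⟶ X}
    {g : S' ⟶ S} (hc : IsPullback g' f' f g) {i : Z ⟶ X} {i' : Z' ⟶ X'} {gZ : Z' ⟶ Z}
    (hsq : IsPullback gZ i' i g') {U : X.Opens} (hU : IsAffineOpen U) {V : S.Opens} (hV : IsAffineOpen V)
    (e : U ≤ f ⁻¹ᵁ V) (hcl : IsClosedImmersion (i ∣_ U)) {V' : S'.Opens} (hV' : IsAffineOpen V')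
    (e' : V' ≤ g ⁻¹ᵁ V) :
    letI := (f.appLE V U e).hom.toAlgebra
    letI := (g.appLE V V' e').hom.toAlgebra
    ∃ (hU' : IsAffineOpen (g' ⁻¹ᵁ U ⊓ f' ⁻¹ᵁ V'))
      (ρ : Γ(S', V') ⊗[Γ(S, V)] Γ(X, U) ≃+* Γ(X', g' ⁻¹ᵁ U ⊓ f' ⁻¹ᵁ V')),
      IsClosedImmersion (i' ∣_ (g' ⁻¹ᵁ U ⊓ f' ⁻¹ᵁ V')) ∧
        RingHom.ker (i'.app (g' ⁻¹ᵁ U ⊓ f' ⁻¹ᵁ V')).hom =
          (RingHom.ker (i.app U).hom).map (g'.appLE U (g' ⁻¹ᵁ U ⊓ f' ⁻¹ᵁ V') inf_le_left).hom ∧
        ∀ b, ρ (1 ⊗ₜ b) = (g'.appLE U (g' ⁻¹ᵁ U ⊓ f' ⁻¹ᵁ V') inf_le_left).hom b := by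
  have hpb := Scheme.Hom.isPullback_resLE hc (UT := V') e' e (UY := g' ⁻¹ᵁ U ⊓ f' ⁻¹ᵁ V') rfl
  haveI : IsAffine V.toScheme := hV
  haveI : IsAffine U.toScheme := hU
  haveI : IsAffine V'.toScheme := hV'
  have hU' : IsAffineOpen (g' ⁻¹ᵁ U ⊓ f' ⁻¹ᵁ V') := IsAffine.of_isPullback hpb
  have hpo : IsPushout (f.appLE V U e) (g.appLE V V' e')
      (g'.appLE U (g' ⁻¹ᵁ U ⊓ f' ⁻¹ᵁ V') inf_le_left)
      (f'.appLE V' (g' ⁻¹ᵁ U ⊓ f' ⁻¹ᵁ V') inf_le_right) := by
    refine (isPushout_appTop_of_isPullback hpb).of_iso V.topIso U.topIso V'.topIso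
      (g' ⁻¹ᵁ U ⊓ f' ⁻¹ᵁ V').topIso ?_ ?_ ?_ ?_ <;>
    simp only [Scheme.Hom.appTop, Scheme.Hom.resLE_app_top, Category.assoc, Iso.inv_hom_id, Category.comp_id]
  set U' := g' ⁻¹ᵁ U ⊓ f' ⁻¹ᵁ V' with hU'def
  have hle : U' ≤ g' ⁻¹ᵁ U := inf_le_left
  have hUY : i' ⁻¹ᵁ U' = gZ ⁻¹ᵁ (i ⁻¹ᵁ U) ⊓ i' ⁻¹ᵁ U' := by
    rw [eq_comm, inf_eq_right]
    intro y hy
    show i (gZ y) ∈ U
    rw [show i (gZ y) = g' (i' y) from congrArg (fun m : Z' ⟶ X => m y) hsq.w]
    exact hle hy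
  haveI := hcl
  have hUX : IsAffineOpen (i ⁻¹ᵁ U) := isAffine_of_isAffineHom (i ∣_ U)
  have hσ : Function.Surjective (i.appLE U (i ⁻¹ᵁ U) le_rfl).hom := by
    rw [← Scheme.Hom.app_eq_appLE]
    exact Groth.L07.RegImmComp.app_surjective i U hU hcl
  have hcl' : IsClosedImmersion (i' ∣_ U') := by
    have hp := Scheme.Hom.isPullback_resLE hsq hle (le_rfl : i ⁻¹ᵁ U ≤ i ⁻¹ᵁ U) hUY
    rw [Scheme.Hom.resLE_eq_morphismRestrict, Scheme.Hom.resLE_eq_morphismRestrict] at hp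
    exact MorphismProperty.of_isPullback hp hcl
  have hpush := (isIso_pushoutSection_iff hsq hle (le_rfl : i ⁻¹ᵁ U ≤ i ⁻¹ᵁ U) hUY).mp
    (isIso_pushoutSection_of_isAffineOpen hsq hle le_rfl hUY hU hU' hUX)
  have hk := Groth.L07.RegImmBC.ker_of_isPushout hpush hσ
  have eU' : U' ≤ f' ⁻¹ᵁ V' := inf_le_right
  algebraize [(f.appLE V U e).hom, (g.appLE V V' e').hom, (g'.appLE U U' hle).hom,
    (f'.appLE V' U' eU').hom, ((g'.appLE U U' hle).hom.comp (f.appLE V U e).hom)]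
  haveI : IsScalarTower Γ(S, V) Γ(S', V') Γ(X', U') :=
    IsScalarTower.of_algebraMap_eq' (congrArg CommRingCat.Hom.hom hpo.w)
  haveI : Algebra.IsPushout Γ(S, V) Γ(X, U) Γ(S', V') Γ(X', U') :=
    CommRingCat.isPushout_iff_isPushout.mp hpo
  haveI : Algebra.IsPushout Γ(S, V) Γ(S', V') Γ(X, U) Γ(X', U') := Algebra.IsPushout.symm inferInstance
  let ε := Algebra.IsPushout.equiv Γ(S, V) Γ(S', V') Γ(X, U) Γ(X', U')
  have hε : ∀ b, ε (1 ⊗ₜ b) = algebraMap Γ(X, U) Γ(X', U') b := fun b => by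
    rw [Algebra.IsPushout.equiv_tmul, map_one, one_mul]
  exact ⟨hU', ε.toRingEquiv, hcl', by rw [Scheme.Hom.app_eq_appLE, Scheme.Hom.app_eq_appLE]; exact hk, hε⟩

/-- Regular sequences of one of the kinds in a chart stay so at a point after base change. -/
theorem regularAt_baseChange {X' S' Z' : Scheme.{u}} (k : RegImm.Kind) {f : X ⟶ S} {f' : X' ⟶ S'}
    {g' : X' ⟶ X} {g : S' ⟶ S} (hc : IsPullback g' f' f g) {i : Z ⟶ X} {i' : Z' ⟶ X'} {gZ : Z' ⟶ Z}
    (hsq : IsPullback gZ i' i g')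
    (z : Z) (z' : Z') (hzz' : gZ z' = z) (h : ∃ (U : X.Opens) (_ : IsAffineOpen U) (V : S.Opens) (_ : IsAffineOpen V) (e : U ≤ f ⁻¹ᵁ V),
      i z ∈ U ∧ IsClosedImmersion (i ∣_ U) ∧ ∃ rs : List Γ(X, U),
        RingHom.ker (i.app U).hom = Ideal.ofList rs ∧
        ∀ (A' : Type u) [CommRing A'] (φ : Γ(S, V) →+* A'),
          letI := (f.appLE V U e).hom.toAlgebra
          letI := φ.toAlgebra
          Ideal.ofList (rs.map fun b => (1 : A') ⊗ₜ[Γ(S, V)] b) ≠ ⊤ →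
            k.Seq (A' ⊗[Γ(S, V)] Γ(X, U)) (rs.map fun b => (1 : A') ⊗ₜ[Γ(S, V)] b)) :
    RegImm.IsRegularImmersionAt k i' z' := by
  subst hzz'
  obtain ⟨U, hU, V, hV, e, hz, hcl, rs, hker, hseq⟩ := h
  have hgz : g' (i' z') = i (gZ z') := (congrArg (fun m : Z' ⟶ X => m z') hsq.w).symm
  have hsV : f' (i' z') ∈ g ⁻¹ᵁ V := by
    show g (f' (i' z')) ∈ V
    rw [show g (f' (i' z')) = f (g' (i' z')) from (congrArg (fun m : X' ⟶ S => m (i' z')) hc.w).symm, hgz]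
    exact e hz
  obtain ⟨_, ⟨V', hV', rfl⟩, hzV', e'⟩ := S'.isBasis_affineOpens.exists_subset_of_mem_open hsV (g ⁻¹ᵁ V).2
  change S'.Opens at V'
  replace hV' : IsAffineOpen V' := hV'
  letI := (f.appLE V U e).hom.toAlgebra
  letI := (g.appLE V V' e').hom.toAlgebra
  obtain ⟨hU', ρ, hcl', hk, hρ⟩ := exists_baseChange_chart hc hsq hU hV e hcl hV' e'
  have hmem : i' z' ∈ g' ⁻¹ᵁ U ⊓ f' ⁻¹ᵁ V' := ⟨by show g' (i' z') ∈ U; rw [hgz]; exact hz, hzV'⟩
  have hlist : (rs.map fun b => (1 : Γ(S', V')) ⊗ₜ[Γ(S, V)] b).map ρ.toRingHom =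
      rs.map (g'.appLE U (g' ⁻¹ᵁ U ⊓ f' ⁻¹ᵁ V') inf_le_left).hom := by
    rw [List.map_map]
    exact List.map_congr_left fun b _ => hρ b
  have hk' : RingHom.ker (i'.app (g' ⁻¹ᵁ U ⊓ f' ⁻¹ᵁ V')).hom =
      Ideal.ofList ((rs.map fun b => (1 : Γ(S', V')) ⊗ₜ[Γ(S, V)] b).map ρ.toRingHom) := by
    rw [hk, hker, Ideal.map_ofList, hlist]
  have hne : Ideal.ofList ((rs.map fun b => (1 : Γ(S', V')) ⊗ₜ[Γ(S, V)] b).map ρ.toRingHom) ≠ ⊤ := by
    rw [← hk']
    haveI : Nonempty (i' ⁻¹ᵁ (g' ⁻¹ᵁ U ⊓ f' ⁻¹ᵁ V')).toScheme := ⟨⟨z', hmem⟩⟩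
    haveI := Scheme.component_nontrivial Z' (i' ⁻¹ᵁ (g' ⁻¹ᵁ U ⊓ f' ⁻¹ᵁ V'))
    exact RingHom.ker_ne_top _
  refine ⟨⟨_, hU'⟩, hmem, hcl', _, Groth.L03.RegImmFlat.seq_map _ (RingHom.Flat.of_bijective ρ.bijective) k _
    (hseq Γ(S', V') (g.appLE V V' e').hom fun htop => hne ?_) hne, hk'⟩
  rw [← Ideal.map_ofList, htop, Ideal.map_top]

/-- Regular sequences of one of the kinds in the chart stay so after base change. -/
theorem regularImmersion_baseChange {X' S' Z' : Scheme.{u}} (k : RegImm.Kind) {f : X ⟶ S} {f' : X' ⟶ S'}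
    {g' : X' ⟶ X} {g : S' ⟶ S} (hc : IsPullback g' f' f g) {i : Z ⟶ X} {i' : Z' ⟶ X'} {gZ : Z' ⟶ Z}
    (hsq : IsPullback gZ i' i g') (hi : IsImmersion i)
    (h : ∀ z : Z, ∃ (U : X.Opens) (_ : IsAffineOpen U) (V : S.Opens) (_ : IsAffineOpen V) (e : U ≤ f ⁻¹ᵁ V),
      i z ∈ U ∧ IsClosedImmersion (i ∣_ U) ∧ ∃ rs : List Γ(X, U),
        RingHom.ker (i.app U).hom = Ideal.ofList rs ∧
        ∀ (A' : Type u) [CommRing A'] (φ : Γ(S, V) →+* A'),
          letI := (f.appLE V U e).hom.toAlgebra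
          letI := φ.toAlgebra
          Ideal.ofList (rs.map fun b => (1 : A') ⊗ₜ[Γ(S, V)] b) ≠ ⊤ →
            k.Seq (A' ⊗[Γ(S, V)] Γ(X, U)) (rs.map fun b => (1 : A') ⊗ₜ[Γ(S, V)] b)) :
    RegImm.IsRegularImmersion k i' := by
  exact ⟨MorphismProperty.of_isPullback hsq hi, fun z' => regularAt_baseChange k hc hsq _ z' rfl (h _)⟩

/-- Every base change of a transversally regular immersion is regular. -/
theorem regular_baseChange {X' S' Z' : Scheme.{u}} {f : X ⟶ S} {f' : X' ⟶ S'}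
    {g' : X' ⟶ X} {g : S' ⟶ S} (hc : IsPullback g' f' f g) {i : Z ⟶ X} {i' : Z' ⟶ X'} {gZ : Z' ⟶ Z}
    (hsq : IsPullback gZ i' i g') (hi : RegImm.IsTransRegularImmersion f i) :
    RegImm.IsRegularImmersion RegImm.Kind.regular i' := by
  refine regularImmersion_baseChange _ hc hsq hi.1 fun z => ?_
  obtain ⟨⟨U, hU⟩, ⟨V, hV⟩, e, hz, hcl, rs, htr, hker⟩ := hi.2 z
  refine ⟨U, hU, V, hV, e, hz, hcl, rs, hker, fun A' _ φ => ?_⟩
  letI := (f.appLE V U e).hom.toAlgebra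
  letI := φ.toAlgebra
  intro hne
  exact ⟨(Groth.L07.TransSeq.transReg_baseChange htr A').1, by
    rw [smul_eq_mul, Ideal.mul_top]; exact hne.symm⟩

/-- Transversal regularity at a point from a ring-theoretic chart. -/
theorem transAt_of_away (f : X ⟶ S) (i : Z ⟶ X) {U : X.Opens} (hU : IsAffineOpen U) {V : S.Opens}
    (hV : IsAffineOpen V) (e : U ≤ f ⁻¹ᵁ V) (hcl : IsClosedImmersion (i ∣_ U)) (z : Z) (hz : i z ∈ U)
    (h : letI := (f.appLE V U e).hom.toAlgebra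
      ∃ g ∉ (hU.primeIdealOf ⟨i z, hz⟩).asIdeal, ∃ l : List Γ(X, U),
        ∀ (L : Type u) [CommRing L] [Algebra Γ(S, V) L] [Algebra Γ(X, U) L]
          [IsScalarTower Γ(S, V) Γ(X, U) L], IsLocalization.Away g L →
          RegImm.IsTransRegularSeq Γ(S, V) L (l.map (algebraMap Γ(X, U) L)) ∧
            (RingHom.ker (i.app U).hom).map (algebraMap Γ(X, U) L) = Ideal.ofList (l.map (algebraMap Γ(X, U) L))) :
    RegImm.IsTransRegularImmersionAt f i z := by
  letI := (f.appLE V U e).hom.toAlgebra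
  obtain ⟨g, hg, l, h⟩ := h
  have hmem : i z ∈ X.basicOpen g := (Groth.L07.RegImmDescent.mem_basicOpen_iff_prime hU hz g).2 hg
  obtain ⟨hc, hk⟩ := Groth.L07.RegImmAt.ker_restrict hU (hU.basicOpen g) (X.basicOpen_le g) hcl
  letI := hU.isLocalization_basicOpen g
  have e' : X.basicOpen g ≤ f ⁻¹ᵁ V := (X.basicOpen_le g).trans e
  letI : Algebra Γ(S, V) Γ(X, X.basicOpen g) := (f.appLE V (X.basicOpen g) e').hom.toAlgebra
  haveI : IsScalarTower Γ(S, V) Γ(X, U) Γ(X, X.basicOpen g) := IsScalarTower.of_algebraMap_eq' (by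
    show (f.appLE V (X.basicOpen g) e').hom =
      (X.presheaf.map (homOfLE (X.basicOpen_le g)).op).hom.comp (f.appLE V U e).hom
    rw [← CommRingCat.hom_comp, Scheme.Hom.appLE_map])
  obtain ⟨h1, h2⟩ := h Γ(X, X.basicOpen g) inferInstance
  exact ⟨⟨X.basicOpen g, hU.basicOpen g⟩, ⟨V, hV⟩, e', hmem, hc,
    l.map (algebraMap Γ(X, U) Γ(X, X.basicOpen g)), h1, hk.trans h2⟩

/-- An immersion quasi-regular at a point, flat over the base, is transversally regular where the ambient space is flat. -/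
theorem transAt_of_quasiAt (f : X ⟶ S) [LocallyOfFinitePresentation f] (i : Z ⟶ X) [IsImmersion i]
    [Flat (i ≫ f)] (z : Z) (hi : RegImm.IsRegularImmersionAt RegImm.Kind.quasi i z) (hz : (f.stalkMap (i z)).hom.Flat) :
    RegImm.IsTransRegularImmersionAt f i z := by
  obtain ⟨U, V, hU, hV, e, -, hzU, hcl, rs, hrs, hker⟩ := exists_seqChart_at f i _ z hi ⊤ trivial
  refine transAt_of_away f i hU hV e hcl z hzU ?_
  letI := (f.appLE V U e).hom.toAlgebra
  haveI : Algebra.FinitePresentation Γ(S, V) Γ(X, U) := f.finitePresentation_appLE hV hU e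
  let q := (hU.primeIdealOf ⟨i z, hzU⟩).asIdeal
  have hflat : Module.Flat Γ(S, V) (LocalizedModule q.primeCompl Γ(X, U)) :=
    (Groth.L20.flat_stalkMap_iff f hV hU e hzU).1 hz
  have hquot : Module.Flat Γ(S, V) (Γ(X, U) ⧸ Ideal.ofList rs) := by
    have := flat_quot_ker f i hU hV e hcl
    rwa [hker] at this
  have hl : ∀ b ∈ rs, b ∈ q := fun b hb =>
    Groth.L07.RegImmDescent.ker_le_primeIdealOf i hU z hzU (hker.ge (Ideal.subset_span hb))
  obtain ⟨g, hg, h⟩ := Groth.L07.TransSeq.exists_away_transReg q rs hl hflat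
    (Groth.L07.TransSeq.fibre_isWeaklyRegular q rs hl hrs hquot)
  exact ⟨g, hg, rs, fun L _ _ _ _ hL => ⟨h L g hL dvd_rfl, by rw [hker, Ideal.map_ofList]⟩⟩

/-- A relative quasi-regular immersion is transversally regular where the ambient space is flat. -/
theorem transAt_of_relQuasi (f : X ⟶ S) [LocallyOfFinitePresentation f] (i : Z ⟶ X)
    (hi : RegImm.IsRelRegularImmersion RegImm.Kind.quasi f i) (z : Z) (hz : (f.stalkMap (i z)).hom.Flat) :
    RegImm.IsTransRegularImmersionAt f i z := by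
  obtain ⟨hreg, hfl⟩ := hi
  haveI := hreg.1
  haveI := hfl
  exact transAt_of_quasiAt f i z (hreg.2 z) hz

/-- A relative `H₁`-regular immersion has flat ambient space at its points. -/
theorem flat_stalkMap_of_relH1 (f : X ⟶ S) [LocallyOfFinitePresentation f] (i : Z ⟶ X)
    (hi : RegImm.IsRelRegularImmersion RegImm.Kind.h1 f i) (z : Z) : (f.stalkMap (i z)).hom.Flat := by
  obtain ⟨hreg, hfl⟩ := hi
  obtain ⟨U, V, hU, hV, e, -, hzU, hcl, rs, hrs, hker⟩ := exists_seqChart f i _ hreg z ⊤ trivial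
  rw [Groth.L20.flat_stalkMap_iff f hV hU e hzU]
  letI := (f.appLE V U e).hom.toAlgebra
  haveI : Algebra.FinitePresentation Γ(S, V) Γ(X, U) := f.finitePresentation_appLE hV hU e
  have hquot : Module.Flat Γ(S, V) (Γ(X, U) ⧸ Ideal.span (Set.range rs.get)) := by
    have := flat_quot_ker f i hU hV e hcl
    rwa [hker, ← Groth.L07.H1Seq.span_range_get] at this
  exact Groth.L07.H1Flat.flat_of_h1 rs.get hrs hquot _ fun j =>
    Groth.L07.RegImmDescent.ker_le_primeIdealOf i hU z hzU (hker.ge (Ideal.subset_span (List.get_mem rs j)))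

theorem exists_trans_of_isField {A B : Type u} [CommRing A] [CommRing B] [Algebra A B]
    [Algebra.FinitePresentation A B] (q : Ideal B) [q.IsPrime] (A' : Type u) [CommRing A'] [Algebra A A']
    (hA' : IsField A') (P : Ideal (A' ⊗[A] B)) [P.IsPrime]
    (hflat : Module.Flat A (LocalizedModule q.primeCompl B))
    (hP : P.comap (Algebra.TensorProduct.includeRight (R := A) (A := A') (B := B)) = q)
    {K : Ideal B} (hKq : K ≤ q) (hK : K.FG) [Module.Flat A (B ⧸ K)]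
    (h : Groth.L07.RegImmDescent.LocSeq RegImm.Kind.quasi
      (K.map (Algebra.TensorProduct.includeRight (R := A) (A := A') (B := B)).toRingHom)) :
    ∃ g ∉ q, ∃ l : List B, ∀ (L : Type u) [CommRing L] [Algebra A L] [Algebra B L] [IsScalarTower A B L],
      IsLocalization.Away g L → RegImm.IsTransRegularSeq A L (l.map (algebraMap B L)) ∧
        K.map (algebraMap B L) = Ideal.ofList (l.map (algebraMap B L)) := by
  letI := hA'.toField
  exact Groth.L07.TransSeq.exists_trans_of_fibre q A' P hflat hP hKq hK h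

theorem exists_trans_of_isField_local {A B : Type u} [CommRing A] [CommRing B] [Algebra A B]
    [Algebra.FinitePresentation A B] (q : Ideal B) [q.IsPrime] (A' : Type u) [CommRing A'] [Algebra A A']
    (hA' : IsField A') (P : Ideal (A' ⊗[A] B)) [P.IsPrime]
    (hflat : Module.Flat A (LocalizedModule q.primeCompl B))
    (hP : P.comap (Algebra.TensorProduct.includeRight (R := A) (A := A') (B := B)) = q)
    {K : Ideal B} (hKq : K ≤ q) (hK : K.FG) [Module.Flat A (B ⧸ K)]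
    (h : ∃ h₁ : List (Localization.AtPrime P), RegImm.Kind.quasi.Seq (Localization.AtPrime P) h₁ ∧
      K.map ((algebraMap (A' ⊗[A] B) (Localization.AtPrime P)).comp
        (Algebra.TensorProduct.includeRight (R := A) (A := A') (B := B)).toRingHom) = Ideal.ofList h₁) :
    ∃ g ∉ q, ∃ l : List B, ∀ (L : Type u) [CommRing L] [Algebra A L] [Algebra B L] [IsScalarTower A B L],
      IsLocalization.Away g L → RegImm.IsTransRegularSeq A L (l.map (algebraMap B L)) ∧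
        K.map (algebraMap B L) = Ideal.ofList (l.map (algebraMap B L)) := by
  letI := hA'.toField
  exact Groth.L07.TransSeq.exists_trans_of_fibre_local q A' P hflat hP hKq hK h

/-- Transversal regularity from the quasi-regularity of the fibres. -/
theorem transAt_of_fibre (f : X ⟶ S) [LocallyOfFinitePresentation f] (i : Z ⟶ X) [IsImmersion i]
    [LocallyOfFinitePresentation (i ≫ f)] [Flat (i ≫ f)] (z : Z) (hz : (f.stalkMap (i z)).hom.Flat)
    {Z' : Scheme.{u}} {i' : Z' ⟶ f.fiber (f (i z))} {gZ : Z' ⟶ Z}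
    (hsq : IsPullback gZ i' i (f.fiberι (f (i z))))
    (hfib : RegImm.IsRegularImmersion RegImm.Kind.quasi i') :
    RegImm.IsTransRegularImmersionAt f i z := by
  let s := f (i z)
  obtain ⟨U, V, hU, hV, e, -, hzU, hcl⟩ := exists_chart f i z ⊤ trivial
  refine transAt_of_away f i hU hV e hcl z hzU ?_
  letI := (f.appLE V U e).hom.toAlgebra
  haveI : Algebra.FinitePresentation Γ(S, V) Γ(X, U) := f.finitePresentation_appLE hV hU e
  let q := (hU.primeIdealOf ⟨i z, hzU⟩).asIdeal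
  have hflat : Module.Flat Γ(S, V) (LocalizedModule q.primeCompl Γ(X, U)) :=
    (Groth.L20.flat_stalkMap_iff f hV hU e hzU).1 hz
  let gs := S.fromSpecResidueField s
  have hc : IsPullback (f.fiberι s) (f.fiberToSpecResidueField s) f gs := IsPullback.of_hasPullback f gs
  have e' : (⊤ : (Spec (S.residueField s)).Opens) ≤ gs ⁻¹ᵁ V := fun w _ => by
    show gs w ∈ V
    rw [show gs w = s from Scheme.fromSpecResidueField_apply s w]
    exact e hzU
  letI := (gs.appLE V ⊤ e').hom.toAlgebra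
  obtain ⟨hU', ρ, hcl', hk, hρ⟩ := exists_baseChange_chart hc hsq hU hV e hcl (isAffineOpen_top _) e'
  have hA' : IsField Γ(Spec (S.residueField s), ⊤) :=
    MulEquiv.isField (Semifield.toIsField (S.residueField s))
      (Scheme.ΓSpecIso (S.residueField s)).commRingCatIsoToRingEquiv.toMulEquiv
  obtain ⟨x', hx'⟩ : i z ∈ Set.range (f.fiberι s) := by rw [Scheme.Hom.range_fiberι]; rfl
  have hx'U : x' ∈ f.fiberι s ⁻¹ᵁ U ⊓ f.fiberToSpecResidueField s ⁻¹ᵁ ⊤ :=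
    ⟨by show f.fiberι s x' ∈ U; rw [hx']; exact hzU, trivial⟩
  let P' := (hU'.primeIdealOf ⟨x', hx'U⟩).asIdeal
  let P := P'.comap ρ.toRingHom
  have hP : P.comap (Algebra.TensorProduct.includeRight
      (R := Γ(S, V)) (A := Γ(Spec (S.residueField s), ⊤)) (B := Γ(X, U))) = q := by
    have h1 : P'.comap ((f.fiberι s).appLE U _ inf_le_left).hom =
        (hU.primeIdealOf ⟨f.fiberι s x', hx'U.1⟩).asIdeal :=
      congr($(IsAffineOpen.comap_primeIdealOf_appLE U hU _ hU' inf_le_left hx'U).1)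
    have h2 : (⟨f.fiberι s x', hx'U.1⟩ : U) = ⟨i z, hzU⟩ := Subtype.ext hx'
    rw [h2] at h1
    show _ = (hU.primeIdealOf ⟨i z, hzU⟩).asIdeal
    rw [← h1]
    ext b
    show ρ (1 ⊗ₜ b) ∈ P' ↔ _
    rw [hρ]
    rfl
  have hloc : Groth.L07.RegImmDescent.LocSeq RegImm.Kind.quasi ((RingHom.ker (i.app U).hom).map
      (Algebra.TensorProduct.includeRight (R := Γ(S, V)) (A := Γ(Spec (S.residueField s), ⊤))
        (B := Γ(X, U))).toRingHom) := by
    refine Groth.L07.RegImmDescent.locSeq_descend _ (by simp) ρ.toRingHom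
      (RingHom.FaithfullyFlat.of_bijective ρ.bijective) _ ?_
    have h1 := Groth.L07.RegImmDescent.locSeq_of_regular _ i' hU' hcl' hfib
    rw [hk] at h1
    rw [Ideal.map_map]
    convert h1 using 2
    exact RingHom.ext fun b => hρ b
  haveI := flat_quot_ker f i hU hV e hcl
  exact exists_trans_of_isField q _ hA' P hflat hP
    (Groth.L07.RegImmDescent.ker_le_primeIdealOf i hU z hzU) (fg_ker f i hU hV e hcl) hloc

/-- Transport of local generators to the localised fibre ring. -/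
theorem exists_quasi_local {B R T : Type u} [CommRing B] [CommRing R] [CommRing T] (ρ : R ≃+* T)
    (ir : B →+* R) (φ₀ : B →+* T) (hρ : ∀ b, ρ (ir b) = φ₀ b) (K : Ideal B) (P' : Ideal T) [P'.IsPrime]
    (hK : K ≤ (P'.comap ρ.toRingHom).comap ir) (g : T) (hg : g ∉ P') (Tg : Type u) [CommRing Tg]
    [Algebra T Tg] [IsLocalization.Away g Tg] (l : List Tg) (hl : RegImm.Kind.quasi.Seq Tg l)
    (hgen : (K.map φ₀).map (algebraMap T Tg) = Ideal.ofList l) [(P'.comap ρ.toRingHom).IsPrime] :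
    ∃ h₁ : List (Localization.AtPrime (P'.comap ρ.toRingHom)),
      RegImm.Kind.quasi.Seq (Localization.AtPrime (P'.comap ρ.toRingHom)) h₁ ∧
        K.map ((algebraMap R (Localization.AtPrime (P'.comap ρ.toRingHom))).comp ir) = Ideal.ofList h₁ := by
  let L' := Localization.AtPrime (P'.comap ρ.toRingHom)
  let θ : T →+* L' := (algebraMap R L').comp ρ.symm.toRingHom
  have hgu : IsUnit (θ g) :=
    IsLocalization.map_units L' (⟨ρ.symm g, fun h => hg (by
      change ρ (ρ.symm g) ∈ P' at h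
      rwa [RingEquiv.apply_symm_apply] at h)⟩ : (P'.comap ρ.toRingHom).primeCompl)
  let ψ : Tg →+* L' := IsLocalization.Away.lift (g := θ) g hgu
  have hψc : ψ.comp (algebraMap T Tg) = θ := IsLocalization.Away.lift_comp g hgu
  have hψ : ψ.Flat := by
    letI := ψ.toAlgebra
    letI := θ.toAlgebra
    haveI : IsScalarTower T Tg L' :=
      IsScalarTower.of_algebraMap_eq fun x => (RingHom.congr_fun hψc x).symm
    refine (Module.flat_iff_of_isLocalization Tg (Submonoid.powers g) L').2 ?_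
    exact RingHom.Flat.comp (RingHom.Flat.of_bijective ρ.symm.bijective)
      (RingHom.flat_algebraMap_iff.mpr (IsLocalization.flat L' (P'.comap ρ.toRingHom).primeCompl))
  have hgen' : K.map ((algebraMap R L').comp ir) = Ideal.ofList (l.map ψ) := by
    rw [← Ideal.map_ofList, ← hgen, Ideal.map_map, Ideal.map_map, hψc]
    congr 1
    refine RingHom.ext fun b => ?_
    simp [θ, ← hρ]
  refine ⟨_, Groth.L03.RegImmFlat.seq_map ψ hψ _ l hl ?_, hgen'⟩
  rw [← hgen']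
  exact ne_top_of_le_ne_top (IsLocalRing.maximalIdeal.isMaximal L').ne_top
    (Ideal.map_le_iff_le_comap.2 fun x hx =>
      (IsLocalization.AtPrime.to_map_mem_maximal_iff L' (P'.comap ρ.toRingHom) _).2 (hK hx))

/-- Transversal regularity from the quasi-regularity of the fibre at the point. -/
theorem transAt_of_fibre_at (f : X ⟶ S) [LocallyOfFinitePresentation f] (i : Z ⟶ X) [IsImmersion i]
    [LocallyOfFinitePresentation (i ≫ f)] [Flat (i ≫ f)] (z : Z) (hz : (f.stalkMap (i z)).hom.Flat)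
    {Z' : Scheme.{u}} {i' : Z' ⟶ f.fiber (f (i z))} {gZ : Z' ⟶ Z}
    (hsq : IsPullback gZ i' i (f.fiberι (f (i z))))
    (z' : Z') (hzz' : gZ z' = z) (hfib : RegImm.IsRegularImmersionAt RegImm.Kind.quasi i' z') :
    RegImm.IsTransRegularImmersionAt f i z := by
  let s := f (i z)
  obtain ⟨U, V, hU, hV, e, -, hzU, hcl⟩ := exists_chart f i z ⊤ trivial
  refine transAt_of_away f i hU hV e hcl z hzU ?_
  letI := (f.appLE V U e).hom.toAlgebra
  haveI : Algebra.FinitePresentation Γ(S, V) Γ(X, U) := f.finitePresentation_appLE hV hU e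
  let q := (hU.primeIdealOf ⟨i z, hzU⟩).asIdeal
  have hflat : Module.Flat Γ(S, V) (LocalizedModule q.primeCompl Γ(X, U)) :=
    (Groth.L20.flat_stalkMap_iff f hV hU e hzU).1 hz
  let gs := S.fromSpecResidueField s
  have hc : IsPullback (f.fiberι s) (f.fiberToSpecResidueField s) f gs := IsPullback.of_hasPullback f gs
  have e' : (⊤ : (Spec (S.residueField s)).Opens) ≤ gs ⁻¹ᵁ V := fun w _ => by
    show gs w ∈ V
    rw [show gs w = s from Scheme.fromSpecResidueField_apply s w]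
    exact e hzU
  letI := (gs.appLE V ⊤ e').hom.toAlgebra
  obtain ⟨hU', ρ, hcl', hk, hρ⟩ := exists_baseChange_chart hc hsq hU hV e hcl (isAffineOpen_top _) e'
  have hA' : IsField Γ(Spec (S.residueField s), ⊤) :=
    MulEquiv.isField (Semifield.toIsField (S.residueField s))
      (Scheme.ΓSpecIso (S.residueField s)).commRingCatIsoToRingEquiv.toMulEquiv
  let x' := i' z'
  have hx' : f.fiberι s x' = i z := by
    rw [← hzz']
    exact (congrArg (fun m : Z' ⟶ X => m z') hsq.w).symm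
  have hx'U : x' ∈ f.fiberι s ⁻¹ᵁ U ⊓ f.fiberToSpecResidueField s ⁻¹ᵁ ⊤ :=
    ⟨by show f.fiberι s x' ∈ U; rw [hx']; exact hzU, trivial⟩
  let P' := (hU'.primeIdealOf ⟨x', hx'U⟩).asIdeal
  let P := P'.comap ρ.toRingHom
  have hP : P.comap (Algebra.TensorProduct.includeRight
      (R := Γ(S, V)) (A := Γ(Spec (S.residueField s), ⊤)) (B := Γ(X, U))) = q := by
    have h1 : P'.comap ((f.fiberι s).appLE U _ inf_le_left).hom =
        (hU.primeIdealOf ⟨f.fiberι s x', hx'U.1⟩).asIdeal :=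
      congr($(IsAffineOpen.comap_primeIdealOf_appLE U hU _ hU' inf_le_left hx'U).1)
    have h2 : (⟨f.fiberι s x', hx'U.1⟩ : U) = ⟨i z, hzU⟩ := Subtype.ext hx'
    rw [h2] at h1
    show _ = (hU.primeIdealOf ⟨i z, hzU⟩).asIdeal
    rw [← h1]
    ext b
    show ρ (1 ⊗ₜ b) ∈ P' ↔ _
    rw [hρ]
    rfl
  haveI hP'p : P.IsPrime := Ideal.IsPrime.comap _
  obtain ⟨⟨W, hW⟩, hzW, hclW, rs, hrs, hker⟩ := hfib
  obtain ⟨g, g', eg, hzg⟩ := exists_basicOpen_le_affine_inter hU' hW x' ⟨hx'U, hzW⟩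
  have hgp : g ∉ P' := (Groth.L07.RegImmDescent.mem_basicOpen_iff_prime hU' hx'U g).1 hzg
  have hleW : (f.fiber s).basicOpen g ≤ W := eg.trans_le ((f.fiber s).basicOpen_le g')
  obtain ⟨-, hkg⟩ := Groth.L07.RegImmAt.ker_restrict hU' (hU'.basicOpen g) ((f.fiber s).basicOpen_le g) hcl'
  obtain ⟨-, hkW⟩ := Groth.L07.RegImmAt.ker_restrict hW (hU'.basicOpen g) hleW hclW
  letI := hU'.isLocalization_basicOpen g
  let τ := ((f.fiber s).presheaf.map (homOfLE hleW).op).hom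
  have hτ : τ.Flat := by
    have := Flat.flat_appLE (𝟙 (f.fiber s)) hW (hU'.basicOpen g) hleW
    simpa [Scheme.Hom.appLE, τ] using this
  have hkerg : RingHom.ker (i'.app ((f.fiber s).basicOpen g)).hom = Ideal.ofList (rs.map τ) := by
    rw [hkW, hker, Ideal.map_ofList]
  have hne : Ideal.ofList (rs.map τ) ≠ ⊤ := by
    rw [← hkerg]
    haveI : Nonempty (i' ⁻¹ᵁ (f.fiber s).basicOpen g).toScheme := ⟨⟨z', hzg⟩⟩
    haveI := Scheme.component_nontrivial Z' (i' ⁻¹ᵁ (f.fiber s).basicOpen g)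
    exact RingHom.ker_ne_top _
  haveI := flat_quot_ker f i hU hV e hcl
  exact exists_trans_of_isField_local q _ hA' P hflat hP
    (Groth.L07.RegImmDescent.ker_le_primeIdealOf i hU z hzU) (fg_ker f i hU hV e hcl)
    (exists_quasi_local ρ _ _ hρ (RingHom.ker (i.app U).hom) P'
      (hP.ge.trans' (Groth.L07.RegImmDescent.ker_le_primeIdealOf i hU z hzU)) g hgp
      Γ(f.fiber s, (f.fiber s).basicOpen g) _
      (Groth.L03.RegImmFlat.seq_map τ hτ _ rs hrs hne) (by rw [← hkerg, hkg, hk]; rfl))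

/-- Local regularity of a closed immersion, from its restriction to an open. -/
theorem regularAt_of_restrict (i : Z ⟶ X) [IsClosedImmersion i] (z : Z)
    (h : ∃ V : X.Opens, i z ∈ V ∧ Mor2.IsRegularClosedImmersion (i ∣_ V)) :
    RegImm.IsRegularImmersionAt RegImm.Kind.regular i z := by
  obtain ⟨V, hzV, hcl, h⟩ := h
  obtain ⟨U, hU, hzU, rs, hrs, hker⟩ := h ⟨z, hzV⟩
  haveI := hcl
  rw [Scheme.Hom.ker_apply, Groth.L14.RegImmStalk.ker_app_restrict] at hker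
  exact ⟨⟨_, hU.image_of_isOpenImmersion V.ι⟩, ⟨_, hzU, morphismRestrict_base_coe i V ⟨z, hzV⟩⟩,
    inferInstance, rs, hrs, hker⟩

/-- The restriction of a closed immersion to an open on which it is regular. -/
theorem restrict_of_regularAt (i : Z ⟶ X) [IsClosedImmersion i] (z : Z)
    (h : RegImm.IsRegularImmersionAt RegImm.Kind.regular i z) :
    ∃ V : X.Opens, i z ∈ V ∧ Mor2.IsRegularClosedImmersion (i ∣_ V) := by
  obtain ⟨⟨W, hW⟩, hzW, hcl, hrest⟩ := h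
  haveI := hcl
  haveI : IsAffine (W : Scheme.{u}) := hW
  have hex : ∃ rs : List Γ(X, W), RingTheory.Sequence.IsRegular Γ(X, W) rs ∧
      RingHom.ker (i.app W).hom = Ideal.ofList rs := hrest
  have e : W.ι ''ᵁ ⊤ = W := W.ι_image_top
  rw [← e] at hex
  obtain ⟨rs, hrs, hker⟩ := hex
  refine ⟨W, hzW, inferInstance, fun w => ⟨⊤, isAffineOpen_top _, trivial, rs, hrs, ?_⟩⟩
  rw [Scheme.Hom.ker_apply, Groth.L14.RegImmStalk.ker_app_restrict]
  exact hker

end Groth.L07.TransImm
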