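import Groth.Agent.L07.QuasiSmooth
import Groth.Agent.L07.TransImm
import Groth.Agent.L07.RegImmLocal
import Groth.Agent.L14.RegImmStalk.Kinds

/-!
A section is a quasi-regular immersion near a point iff the morphism is smooth there.
-/

set_option autoImplicit false
set_option linter.style.haveILetI false
set_option maxSynthPendingDepth 3
set_option backward.isDefEq.respectTransparency false
set_option backward.isDefEq.respectTransparency.types false

universe u

open CategoryTheory CategoryTheory.Limits AlgebraicGeometry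

namespace Groth.L07.QuasiSmoothSection

variable {X S : Scheme.{u}}

/-- An open immersion is Koszul-regular at each point. -/
theorem regularAt_opensι (V : S.Opens) (z : V) : RegImm.IsRegularImmersionAt RegImm.Kind.koszul V.ι z := by
  obtain ⟨_, ⟨U, hU, rfl⟩, hzU, hUV⟩ := S.isBasis_affineOpens.exists_subset_of_mem_open z.2 V.2
  change S.Opens at U
  replace hU : IsAffineOpen U := hU
  change U ≤ V at hUV
  haveI : IsIso (V.ι ∣_ U) := by
    haveI : Surjective (V.ι ∣_ U) := ⟨fun w => by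
      refine ⟨⟨⟨w.1, hUV w.2⟩, w.2⟩, Subtype.ext ?_⟩
      exact morphismRestrict_base_coe V.ι _ _⟩
    haveI : Epi (V.ι ∣_ U).base := (TopCat.epi_iff_surjective _).mpr (V.ι ∣_ U).surjective
    exact IsOpenImmersion.isIso _
  haveI : IsIso (V.ι.app U) := V.ι.isIso_app _ (by simpa using hUV)
  haveI : Nonempty U.toScheme := ⟨⟨z.1, hzU⟩⟩
  haveI := Scheme.component_nontrivial S U
  refine ⟨⟨U, hU⟩, hzU, inferInstance, [],
    Groth.L14.RegImmStalk.kind_of_isRegular _ (RingTheory.Sequence.IsRegular.nil _ _), ?_⟩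
  rw [Ideal.ofList_nil]
  exact (RingHom.injective_iff_ker_eq_bot _).mp (ConcreteCategory.bijective_of_isIso (V.ι.app U)).1

/-- Koszul-regular immersions are quasi-regular. -/
theorem quasiAt_of_koszulAt {Z : Scheme.{u}} {i : Z ⟶ X} {z : Z}
    (h : RegImm.IsRegularImmersionAt RegImm.Kind.koszul i z) : RegImm.IsRegularImmersionAt RegImm.Kind.quasi i z := by
  obtain ⟨U, hzU, hcl, rs, hrs, hk⟩ := h
  exact ⟨U, hzU, hcl, rs,
    Groth.L14.RegImmStalk.isQuasiRegular_of_h1 (Groth.L19.Thick.isH1Regular_of_koszul hrs), hk⟩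

/-- A section is an immersion. -/
theorem isImmersion_section (f : X ⟶ S) (u : S ⟶ X) (hu : u ≫ f = 𝟙 S) : IsImmersion u := by
  haveI : IsImmersion (u ≫ f) := by rw [hu]; infer_instance
  exact IsImmersion.of_comp u f

/-- A section is a quasi-regular immersion on the preimage of the smooth locus. -/
theorem quasi_of_smooth (f : X ⟶ S) [LocallyOfFinitePresentation f] (u : S ⟶ X) (hu : u ≫ f = 𝟙 S) :
    RegImm.IsRegularImmersion RegImm.Kind.quasi ((u ⁻¹ᵁ f.smoothLocus).ι ≫ u) := by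
  haveI := isImmersion_section f u hu
  refine ⟨inferInstance, fun z => quasiAt_of_koszulAt ?_⟩
  let O := f.smoothLocus
  let V := u ⁻¹ᵁ O
  haveI : Smooth (O.ι ≫ f) := by
    rw [← Scheme.Hom.smoothLocus_eq_top_iff, ← Scheme.Hom.preimage_smoothLocus_eq]
    exact O.ι_preimage_self
  let j : V.toScheme ⟶ O.toScheme := u ∣_ O
  have hj : j ≫ O.ι = V.ι ≫ u := morphismRestrict_ι u O
  have h1 : RegImm.IsRegularImmersionAt .koszul j z :=
    (Groth.L07.RegImmAt.regularAt_comp_smooth_iff' j (O.ι ≫ f) V.ι (by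
      rw [← Category.assoc, hj, Category.assoc, hu, Category.comp_id]) z).mp (regularAt_opensι V z)
  exact (Groth.L07.RegImmAt.regularAt_comp_smooth_iff' j O.ι (V.ι ≫ u) hj z).mpr h1

/-- Quasi-regularity of a section at a point gives smoothness there. -/
theorem mem_smoothLocus_of_quasi (f : X ⟶ S) [LocallyOfFinitePresentation f] (u : S ⟶ X) (hu : u ≫ f = 𝟙 S)
    (V : S.Opens) (z : V) (h : RegImm.IsRegularImmersionAt RegImm.Kind.quasi (V.ι ≫ u) z) :
    u z.1 ∈ f.smoothLocus := by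
  haveI := isImmersion_section f u hu
  obtain ⟨U, V₁, hU, hV₁, e, -, hzU, hcl, rs, hrs, hker⟩ :=
    Groth.L07.TransImm.exists_seqChart_at f (V.ι ≫ u) RegImm.Kind.quasi z h ⊤ trivial
  have hfu : f (u z.1) = z.1 := by
    rw [← Scheme.Hom.comp_apply, hu]; rfl
  have hzV₁ : z.1 ∈ V₁ := hfu ▸ e hzU
  obtain ⟨a, ha, hza⟩ := hV₁.exists_basicOpen_le (V := u ⁻¹ᵁ U ⊓ V) ⟨z.1, hzU, z.2⟩ hzV₁
  let V' := S.basicOpen a
  let U' := X.basicOpen (f.appLE V₁ U e a)
  have hV' : IsAffineOpen V' := hV₁.basicOpen a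
  have hU' : IsAffineOpen U' := hU.basicOpen _
  have hU'eq : U' = U ⊓ f ⁻¹ᵁ V' := by
    simp only [U', V', Scheme.Hom.appLE, CommRingCat.hom_comp, RingHom.comp_apply, Scheme.basicOpen_res]
    rw [f.preimage_basicOpen]
  have e' : U' ≤ f ⁻¹ᵁ V' := hU'eq.trans_le inf_le_right
  have hle : U' ≤ U := hU'eq.trans_le inf_le_left
  have hVle : V' ≤ u ⁻¹ᵁ U' := fun w hw => by
    show u w ∈ U'
    rw [hU'eq]
    refine ⟨(ha hw).1, ?_⟩
    show f (u w) ∈ V'
    rw [← Scheme.Hom.comp_apply, hu]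
    exact hw
  have hpre : u ⁻¹ᵁ U' = V' := by
    refine le_antisymm (fun w hw => ?_) hVle
    have h2 : u w ∈ U' := hw
    rw [hU'eq] at h2
    have h3 : f (u w) ∈ V' := h2.2
    rwa [← Scheme.Hom.comp_apply, hu] at h3
  obtain ⟨-, hk⟩ := Groth.L07.RegImmAt.ker_restrict hU hU' hle hcl
  have hρ : (X.presheaf.map (homOfLE hle).op).hom.Flat := by
    have := Flat.flat_appLE (𝟙 X) hU hU' hle
    simpa [Scheme.Hom.appLE] using this
  let g : Fin rs.length → Γ(X, U') := (X.presheaf.map (homOfLE hle).op).hom ∘ rs.get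
  have hg : CAlgX.IsQuasiRegular g := Groth.L03.RegImmFlat.isQuasiRegular_map _ hρ hrs
  letI := (f.appLE V' U' e').hom.toAlgebra
  haveI : Algebra.FinitePresentation Γ(S, V') Γ(X, U') := f.finitePresentation_appLE hV' hU' e'
  have hid : ∀ (m : S ⟶ S) (em : V' ≤ m ⁻¹ᵁ V'), m = 𝟙 S → m.appLE V' V' em = 𝟙 _ := by
    rintro m em rfl
    simp only [Scheme.Hom.appLE, Scheme.Hom.id_app, Category.id_comp]
    exact S.presheaf.map_id _
  have hcomp : f.appLE V' U' e' ≫ u.appLE U' V' hVle = 𝟙 _ := by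
    rw [Scheme.Hom.appLE_comp_appLE]
    exact hid _ _ hu
  let ε : Γ(X, U') →ₐ[Γ(S, V')] Γ(S, V') :=
    ⟨(u.appLE U' V' hVle).hom, fun r => congr($hcomp r)⟩
  have hεker : RingHom.ker ε = Ideal.span (Set.range g) := by
    have hbij : Function.Bijective (V.ι.app (u ⁻¹ᵁ U')) := by
      haveI : IsIso (V.ι.app (u ⁻¹ᵁ U')) := V.ι.isIso_app _ (by
        rw [hpre, Scheme.Opens.opensRange_ι]; exact fun w hw => (ha hw).2)
      exact ConcreteCategory.bijective_of_isIso _
    have hbij' : Function.Bijective (S.presheaf.map (homOfLE hVle).op) := by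
      haveI : IsIso (homOfLE hVle) := ⟨homOfLE hpre.le, rfl, rfl⟩
      exact ConcreteCategory.bijective_of_isIso _
    rw [show Ideal.span (Set.range g) = RingHom.ker ((V.ι ≫ u).app U').hom by
      rw [hk, hker, Ideal.map_ofList]
      refine congrArg Ideal.span (Set.ext fun t => ?_)
      simp [g, List.mem_iff_get]
      constructor <;> rintro ⟨n, hn⟩ <;> exact ⟨⟨n, by simpa using n.2⟩, hn⟩]
    ext t
    rw [RingHom.mem_ker, RingHom.mem_ker]
    show S.presheaf.map (homOfLE hVle).op (u.app U' t) = 0 ↔ V.ι.app (u ⁻¹ᵁ U') (u.app U' t) = 0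
    exact (map_eq_zero_iff _ hbij'.1).trans (map_eq_zero_iff _ hbij.1).symm
  have hzU' : u z.1 ∈ U' := hVle hza
  have hq : RingHom.ker ε ≤ (hU'.primeIdealOf ⟨u z.1, hzU'⟩).asIdeal := fun t ht => by
    have h2 := IsAffineOpen.comap_primeIdealOf_appLE (f := u) U' hU' V' hV' hVle hza
    rw [← h2, PrimeSpectrum.comap_asIdeal, Ideal.mem_comap]
    rw [show (u.appLE U' V' hVle).hom t = 0 from RingHom.mem_ker.mp ht]
    exact zero_mem _
  rw [Scheme.Hom.mem_smoothLocus, formallySmooth_stalkMap_iff V' hV' U' hU' e' hzU']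
  exact Groth.L07.QuasiSmooth.isSmoothAt_of_quasiRegular ε g hg hεker _ hq

/-- Smoothness along a section, read on the section. -/
theorem smoothAt_iff (f : X ⟶ S) [LocallyOfFinitePresentation f] (u : S ⟶ X) (hu : u ≫ f = 𝟙 S) (s : S) :
    u s ∈ f.smoothLocus ↔ ∃ V : S.Opens, s ∈ V ∧ RegImm.IsRegularImmersion RegImm.Kind.quasi (V.ι ≫ u) :=
  ⟨fun h => ⟨_, h, quasi_of_smooth f u hu⟩, fun ⟨V, hs, h⟩ => mem_smoothLocus_of_quasi f u hu V ⟨s, hs⟩ (h.2 _)⟩

/-- Regularity at a point is unchanged by an isomorphism of the source. -/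
theorem regularAt_iso_comp {Z Z' : Scheme.{u}} (k : RegImm.Kind) (e : Z' ⟶ Z) [IsIso e] (i : Z ⟶ X) (y : Z') :
    RegImm.IsRegularImmersionAt k (e ≫ i) y ↔ RegImm.IsRegularImmersionAt k i (e y) := by
  refine exists_congr fun U => and_congr Iff.rfl ?_
  have h1 : IsClosedImmersion ((e ≫ i) ∣_ U.1) ↔ IsClosedImmersion (i ∣_ U.1) := by
    rw [morphismRestrict_comp]
    exact MorphismProperty.cancel_left_of_respectsIso @IsClosedImmersion _ _
  have h2 : RingHom.ker ((e ≫ i).app U.1).hom = RingHom.ker (i.app U.1).hom := by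
    ext t
    show e.app (i ⁻¹ᵁ U.1) (i.app U.1 t) = 0 ↔ i.app U.1 t = 0
    exact map_eq_zero_iff _ (ConcreteCategory.bijective_of_isIso (e.app (i ⁻¹ᵁ U.1))).1
  rw [h1, h2]

/-- A section is a quasi-regular immersion iff the morphism is smooth along it. -/
theorem quasi_iff (f : X ⟶ S) [LocallyOfFinitePresentation f] (u : S ⟶ X) (hu : u ≫ f = 𝟙 S) :
    RegImm.IsRegularImmersion RegImm.Kind.quasi u ↔ ∀ s, u s ∈ f.smoothLocus := by
  haveI := isImmersion_section f u hu
  refine ⟨fun h s => mem_smoothLocus_of_quasi f u hu ⊤ ⟨s, trivial⟩ ?_, fun h => ⟨inferInstance, fun s => ?_⟩⟩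
  · haveI : IsIso (⊤ : S.Opens).ι := inferInstanceAs (IsIso (Scheme.topIso S).hom)
    exact (regularAt_iso_comp _ (⊤ : S.Opens).ι u _).mpr (h.2 s)
  · haveI : IsIso (u ⁻¹ᵁ f.smoothLocus).ι := by
      rw [show u ⁻¹ᵁ f.smoothLocus = ⊤ from top_le_iff.mp fun w _ => h w]
      exact inferInstanceAs (IsIso (Scheme.topIso S).hom)
    exact (regularAt_iso_comp _ (u ⁻¹ᵁ f.smoothLocus).ι u ⟨s, h s⟩).mp ((quasi_of_smooth f u hu).2 ⟨s, h s⟩)

end Groth.L07.QuasiSmoothSection
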