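import Groth.Agent.L28.Unibranch.Main
import Mathlib.RingTheory.Polynomial.IsIntegral
import Mathlib.Algebra.MvPolynomial.Equiv

/-!
Geometrically unibranch schemes are locally homeomorphic to normal ones.
-/

universe u

open CategoryTheory AlgebraicGeometry

namespace Groth.L07.Chevalley

set_option maxSynthPendingDepth 3
set_option linter.style.haveILetI false

/-- Geometric unibranchness only depends on the reduction. -/
theorem isGeomUnibranch_of_surjective {A A₁ : Type u} [CommRing A] [CommRing A₁] [IsLocalRing A] [IsLocalRing A₁]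
    (π : A →+* A₁) (hπ : Function.Surjective π) (hker : RingHom.ker π ≤ nilradical A)
    (h : CAlg2.IsGeomUnibranch A) : CAlg2.IsGeomUnibranch A₁ := by
  let σ₀ : CAlg2.red A →+* CAlg2.red A₁ :=
    Ideal.Quotient.lift (nilradical A) ((Ideal.Quotient.mk (nilradical A₁)).comp π) fun a ha => by
      rw [RingHom.comp_apply, Ideal.Quotient.eq_zero_iff_mem]
      exact (mem_nilradical.mp ha).map π
  have hσ : Function.Bijective σ₀ := by
    refine ⟨RingHom.lift_injective_of_ker_le_ideal _ _ fun a ha => ?_, fun b => ?_⟩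
    · rw [RingHom.mem_ker, RingHom.comp_apply, Ideal.Quotient.eq_zero_iff_mem, mem_nilradical] at ha
      obtain ⟨n, hn⟩ := ha
      rw [← map_pow] at hn
      obtain ⟨m, hm⟩ := mem_nilradical.mp (hker hn)
      exact mem_nilradical.mpr ⟨n * m, by rw [pow_mul]; exact hm⟩
    · obtain ⟨b, rfl⟩ := Ideal.Quotient.mk_surjective b
      obtain ⟨a, rfl⟩ := hπ b
      exact ⟨Ideal.Quotient.mk _ a, rfl⟩
  let σ := RingEquiv.ofBijective σ₀ hσ
  haveI := h.1.1
  haveI : IsDomain (CAlg2.red A₁) := σ.symm.injective.isDomain σ.symm.toRingHom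
  let φ : FractionRing (CAlg2.red A) ≃+* FractionRing (CAlg2.red A₁) :=
    IsFractionRing.ringEquivOfRingEquiv σ
  have hφ : ∀ a, φ (algebraMap _ _ a) = algebraMap _ _ (σ a) := fun a =>
    IsFractionRing.ringEquivOfRingEquiv_algebraMap σ a
  have hmem : ∀ x, x ∈ integralClosure (CAlg2.red A) (FractionRing (CAlg2.red A)) →
      φ x ∈ integralClosure (CAlg2.red A₁) (FractionRing (CAlg2.red A₁)) := by
    rintro x ⟨P, hP, hPx⟩
    refine ⟨P.map σ.toRingHom, hP.map _, ?_⟩
    rw [Polynomial.eval₂_map]
    have : (algebraMap (CAlg2.red A₁) (FractionRing (CAlg2.red A₁))).comp σ.toRingHom =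
        φ.toRingHom.comp (algebraMap _ _) := RingHom.ext fun a => (hφ a).symm
    rw [this]
    have := congrArg φ.toRingHom hPx
    rw [Polynomial.hom_eval₂, map_zero] at this
    exact this
  have hmem' : ∀ x, x ∈ integralClosure (CAlg2.red A₁) (FractionRing (CAlg2.red A₁)) →
      φ.symm x ∈ integralClosure (CAlg2.red A) (FractionRing (CAlg2.red A)) := by
    rintro x ⟨P, hP, hPx⟩
    refine ⟨P.map σ.symm.toRingHom, hP.map _, ?_⟩
    rw [Polynomial.eval₂_map]
    have : (algebraMap (CAlg2.red A) (FractionRing (CAlg2.red A))).comp σ.symm.toRingHom =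
        φ.symm.toRingHom.comp (algebraMap _ _) := RingHom.ext fun a => φ.injective (by
          show φ (algebraMap _ _ (σ.symm a)) = φ (φ.symm (algebraMap _ _ a))
          rw [hφ, σ.apply_symm_apply, φ.apply_symm_apply])
    rw [this]
    have := congrArg φ.symm.toRingHom hPx
    rw [Polynomial.hom_eval₂, map_zero] at this
    exact this
  let τ : CAlg2.normRed A ≃+* CAlg2.normRed A₁ :=
    { toFun := fun x => ⟨φ x.1, hmem _ x.2⟩
      invFun := fun x => ⟨φ.symm x.1, hmem' _ x.2⟩
      left_inv := fun x => Subtype.ext (φ.symm_apply_apply _)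
      right_inv := fun x => Subtype.ext (φ.apply_symm_apply _)
      map_mul' := fun x y => Subtype.ext (map_mul φ _ _)
      map_add' := fun x y => Subtype.ext (map_add φ _ _) }
  haveI := h.1.2
  refine ⟨⟨inferInstance, IsLocalRing.of_surjective' τ.toRingHom τ.surjective⟩, fun m' hm' x => ?_⟩
  haveI : (m'.comap τ.toRingHom).IsMaximal := Ideal.comap_isMaximal_of_surjective _ τ.surjective
  obtain ⟨y, rfl⟩ := Ideal.Quotient.mk_surjective x
  obtain ⟨z, rfl⟩ := τ.surjective y
  obtain ⟨n, a, ha⟩ := h.2 (m'.comap τ.toRingHom) (Ideal.Quotient.mk _ z)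
  have hq : ringExpChar (CAlg2.normRed A ⧸ m'.comap τ.toRingHom) = ringExpChar (CAlg2.normRed A₁ ⧸ m') := by
    haveI : IsDomain (CAlg2.normRed A ⧸ m'.comap τ.toRingHom) := Ideal.Quotient.isDomain _
    haveI : IsDomain (CAlg2.normRed A₁ ⧸ m') := Ideal.Quotient.isDomain _
    haveI := ringExpChar.expChar (CAlg2.normRed A ⧸ m'.comap τ.toRingHom)
    haveI := expChar_of_injective_ringHom
      (Ideal.quotientMap_injective (f := τ.toRingHom) (I := m'))
      (ringExpChar (CAlg2.normRed A ⧸ m'.comap τ.toRingHom))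
    exact (ringExpChar.eq _ _).symm
  refine ⟨n, π a, ?_⟩
  have h2 := congrArg (Ideal.quotientMap m' τ.toRingHom le_rfl) ha
  rw [map_pow, Ideal.quotientMap_mk, hq] at h2
  refine Eq.trans ?_ h2
  show Ideal.Quotient.mk m' _ = Ideal.quotientMap m' τ.toRingHom le_rfl (Ideal.Quotient.mk _ _)
  rw [Ideal.quotientMap_mk]
  congr 1
  apply Subtype.ext
  exact (hφ (Ideal.Quotient.mk _ a)).symm

/-- A ring with irreducible spectrum and geometrically unibranch local rings maps to a normal
domain by a universal homeomorphism. -/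
theorem exists_isUH_normal {A : Type u} [CommRing A] [IsDomain (A ⧸ nilradical A)]
    (hgu : ∀ (p : Ideal A) [p.IsPrime], CAlg2.IsGeomUnibranch (Localization.AtPrime p)) :
    ∃ (C : Type u) (_ : CommRing C) (_ : IsDomain C) (_ : IsIntegrallyClosed C) (ψ : A →+* C),
      Groth.L28.AWN.IsUH ψ := by
  let R := A ⧸ nilradical A
  let L := FractionRing R
  have h1 : Groth.L28.AWN.IsUH (algebraMap R (integralClosure R L)) := by
    refine Groth.L28.Unibranch.isUH_integralClosure (RingEquiv.refl L) (IsFractionRing.injective R L)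
      (fun x => ?_) (fun p hp => ?_)
    · obtain ⟨a, d, hd, had⟩ := IsFractionRing.div_surjective (A := R) x
      refine ⟨0, a, d, nonZeroDivisors.ne_zero hd, ?_⟩
      simp only [pow_zero, pow_one, RingEquiv.refl_apply, ← had]
      exact div_mul_cancel₀ _ (IsFractionRing.to_map_ne_zero_of_mem_nonZeroDivisors hd)
    · let q := p.comap (Ideal.Quotient.mk (nilradical A))
      let π : Localization.AtPrime q →+* Localization.AtPrime p :=
        Localization.localRingHom q p (Ideal.Quotient.mk _) rfl
      refine ⟨Localization.AtPrime p, inferInstance, inferInstance, inferInstance, inferInstance, ?_⟩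
      refine isGeomUnibranch_of_surjective π (fun b => ?_) (fun b hb => ?_) (hgu q)
      · obtain ⟨r, s, rfl⟩ := IsLocalization.exists_mk'_eq p.primeCompl b
        obtain ⟨a, rfl⟩ := Ideal.Quotient.mk_surjective r
        obtain ⟨s, hs⟩ := s
        obtain ⟨t, rfl⟩ := Ideal.Quotient.mk_surjective s
        exact ⟨IsLocalization.mk' _ a ⟨t, hs⟩, Localization.localRingHom_mk' _ _ _ _ _ _⟩
      · obtain ⟨a, ⟨t, ht⟩, rfl⟩ := IsLocalization.exists_mk'_eq q.primeCompl b
        rw [RingHom.mem_ker, Localization.localRingHom_mk', IsLocalization.mk'_eq_zero_iff] at hb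
        obtain ⟨⟨s, hs⟩, hsa⟩ := hb
        obtain ⟨s, rfl⟩ := Ideal.Quotient.mk_surjective s
        rw [← map_mul, Ideal.Quotient.eq_zero_iff_mem, mem_nilradical] at hsa
        obtain ⟨k, hk⟩ := hsa
        refine mem_nilradical.mpr ⟨k, ?_⟩
        rw [← IsLocalization.mk'_pow, IsLocalization.mk'_eq_zero_iff]
        exact ⟨⟨s, hs⟩ ^ k, by rw [SubmonoidClass.coe_pow, ← mul_pow]; exact hk⟩
  refine ⟨integralClosure R L, inferInstance, inferInstance,
    integralClosure.isIntegrallyClosedOfFiniteExtension (FractionRing R),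
    (algebraMap R (integralClosure R L)).comp (Ideal.Quotient.mk _), ?_, fun K _ f g hfg => ?_, fun a ha => ?_⟩
  · exact RingHom.IsIntegral.trans _ _ (RingHom.IsIntegral.of_finite
      (RingHom.Finite.of_surjective _ Ideal.Quotient.mk_surjective)) h1.integral
  · exact h1.hom_ext K f g (RingHom.ext fun r => by
      obtain ⟨a, rfl⟩ := Ideal.Quotient.mk_surjective r
      exact RingHom.congr_fun hfg a)
  · obtain ⟨k, hk⟩ := h1.nil _ ha
    rw [← map_pow, Ideal.Quotient.eq_zero_iff_mem, mem_nilradical] at hk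
    exact (IsNilpotent.pow_iff_pos (by rintro rfl; exact one_ne_zero ((pow_zero (Ideal.Quotient.mk (nilradical A) a)).symm.trans (by rw [← map_pow, Ideal.Quotient.eq_zero_iff_mem, mem_nilradical]; exact hk)))).mp hk

/-- Polynomial rings over integrally closed domains are integrally closed. -/
theorem isIntegrallyClosed_mvPolynomial (C : Type u) [CommRing C] [IsDomain C] [IsIntegrallyClosed C] :
    ∀ n : ℕ, IsIntegrallyClosed (MvPolynomial (Fin n) C)
  | 0 => IsIntegrallyClosed.of_equiv (MvPolynomial.isEmptyAlgEquiv C (Fin 0)).symm.toRingEquiv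
  | n + 1 => by
    haveI := isIntegrallyClosed_mvPolynomial C n
    exact IsIntegrallyClosed.of_equiv (MvPolynomial.finSuccEquiv C n).symm.toRingEquiv

end Groth.L07.Chevalley
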