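import Groth.Agent.L19.SmoothLocus

/-! Smoothness of the fibres of a flat morphism and the smooth locus. -/

set_option autoImplicit false
set_option linter.style.haveILetI false
set_option backward.isDefEq.respectTransparency.types false
set_option maxSynthPendingDepth 3

universe u

open CategoryTheory CategoryTheory.Limits AlgebraicGeometry

set_option backward.isDefEq.respectTransparency false

namespace Groth.L07.SmoothFibre

open Groth.L05.Point

/-- For a flat morphism of finite presentation a fibre is smooth iff it lies in the smooth locus. -/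
theorem smooth_fibre_iff {X S : Scheme.{u}} (f : X ⟶ S) [Flat f] [LocallyOfFinitePresentation f] (s : S) :
    Smooth (f.fiberToSpecResidueField s) ↔ ∀ x, f x = s → x ∈ f.smoothLocus := by
  haveI : LocallyOfFinitePresentation (f.fiberToSpecResidueField s) :=
    MorphismProperty.pullback_snd _ _ inferInstance
  constructor
  · intro h x hx
    obtain ⟨w, rfl⟩ : x ∈ Set.range (f.fiberι s) := by rw [f.range_fiberι]; exact hx
    haveI := h
    exact (Groth.L19.SmoothLocus.mem_iff_nhd f _).mpr (Groth.L19.SmoothLocus.nhd_of_fiber f s (Flat.stalkMap f _)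
      ((Groth.L19.SmoothLocus.mem_iff_nhd _ w).mp (by rw [Scheme.Hom.smoothLocus_eq_top]; trivial)))
  · intro h
    rw [← Scheme.Hom.smoothLocus_eq_top_iff, eq_top_iff]
    intro w _
    exact (Groth.L19.SmoothLocus.mem_iff_nhd _ w).mpr (Groth.L19.SmoothLocus.fiber_smooth_of_nhd f s
      ((Groth.L19.SmoothLocus.mem_iff_nhd f _).mp (h _ ((f.range_fiberι s).le ⟨w, rfl⟩))))

/-- A flat morphism of finite presentation with smooth fibres is smooth. -/
theorem smooth_of_fibres {X S : Scheme.{u}} (f : X ⟶ S) [Flat f] [LocallyOfFinitePresentation f]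
    (h : ∀ s, Smooth (f.fiberToSpecResidueField s)) : Smooth f := by
  rw [← Scheme.Hom.smoothLocus_eq_top_iff, eq_top_iff]
  exact fun x _ => (smooth_fibre_iff f _).mp (h _) x rfl

/-- Smoothness of the fibres of a proper flat morphism is an open condition. -/
theorem isOpen_smooth_fibre {X S : Scheme.{u}} (f : X ⟶ S) [IsProper f] [Flat f] [LocallyOfFinitePresentation f] :
    IsOpen {s : S | Smooth (f.fiberToSpecResidueField s)} := by
  have e : {s : S | Smooth (f.fiberToSpecResidueField s)} = (f '' (f.smoothLocus : Set X)ᶜ)ᶜ := by
    ext s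
    simp only [Set.mem_ofPred_eq, smooth_fibre_iff f s, Set.mem_compl_iff, Set.mem_image, not_exists, not_and]
    exact ⟨fun h x hx e => hx (h x e), fun h x e => by_contra fun hx => h x hx e⟩
  rw [e]
  exact (f.isClosedMap _ f.smoothLocus.2.isClosed_compl).isOpen_compl

end Groth.L07.SmoothFibre
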