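import Groth.Agent.L14.Smoothing.Elementary
import Groth.Agent.L19.RelGCISmooth
import Mathlib.RingTheory.Kaehler.Basic
import Mathlib.LinearAlgebra.TensorProduct.Tower

/-!
Local closed embeddings into standard smooth algebras: where the differentials of a finite type
algebra need at most `p` generators, a principal open is a quotient of a standard smooth algebra of
relative dimension `p`.
-/

set_option autoImplicit false
set_option linter.style.haveILetI false

universe u

open MvPolynomial TensorProduct

namespace Groth.L07.LocalEmbed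

/-- The variant of the standard smooth localisation of a naive presentation which records the dimension. -/
theorem relDim_away_of_unit {R : Type u} [CommRing R] {n c p : ℕ} (hp : p + c = n)
    (F : Fin c → MvPolynomial (Fin n) R) (a : Fin c → Fin n) (ha : Function.Injective a)
    (b : MvPolynomial (Fin n) R ⧸ Ideal.span (Set.range F))
    (L : Type u) [CommRing L] [Algebra (MvPolynomial (Fin n) R ⧸ Ideal.span (Set.range F)) L] [Algebra R L]
    [IsScalarTower R (MvPolynomial (Fin n) R ⧸ Ideal.span (Set.range F)) L]
    [IsLocalization.Away b L]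
    (hb : IsUnit (algebraMap _ L (Ideal.Quotient.mk (Ideal.span (Set.range F))
      (_root_.Smoothing.jacobianMinor F id a)))) :
    Algebra.IsStandardSmoothOfRelativeDimension p R L := by
  classical
  let Q := Algebra.PreSubmersivePresentation.naive (v := F) a ha
  have hQ : Q.jacobian = Ideal.Quotient.mk _ (_root_.Smoothing.jacobianMinor F id a) := by
    rw [Algebra.PreSubmersivePresentation.jacobian_eq_jacobiMatrix_det]
    have : Q.jacobiMatrix = (Matrix.of fun j k : Fin c => pderiv (a k) (F (id j))).transpose := by
      ext i j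
      simp only [Q, Algebra.PreSubmersivePresentation.jacobiMatrix_naive, Matrix.transpose_apply, Matrix.of_apply,
        id_eq]
    rw [this, Matrix.det_transpose]
    simp only [Q, _root_.Smoothing.jacobianMinor]
    rfl
  have hbu : IsUnit (algebraMap _ L b) := IsLocalization.Away.algebraMap_isUnit b
  let P : Algebra.SubmersivePresentation R L _ _ :=
    { toPreSubmersivePresentation := .comp (.localizationAway L b) Q
      jacobian_isUnit := by
        rw [Algebra.PreSubmersivePresentation.comp_jacobian_eq_jacobian_smul_jacobian,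
          Algebra.PreSubmersivePresentation.localizationAway_jacobian, Algebra.smul_def, hQ]
        exact hb.mul hbu }
  refine P.isStandardSmoothOfRelativeDimension ?_
  simp only [P, Algebra.Presentation.dimension, Nat.card_sum, Nat.card_unique, Nat.card_fin]
  omega

variable {A B : Type u} [CommRing A] [CommRing B] [Algebra A B]

/-- The differential of a polynomial read in a field under the algebra. -/
noncomputable def dAt {n : ℕ} {K : Type u} [CommRing K] (φ : MvPolynomial (Fin n) A →+* K)
    (f : MvPolynomial (Fin n) A) : Fin n → K := fun i => φ (pderiv i f)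

theorem dAt_mul {n : ℕ} {K : Type u} [CommRing K] (φ : MvPolynomial (Fin n) A →+* K)
    (f g : MvPolynomial (Fin n) A) : dAt φ (f * g) = φ f • dAt φ g + φ g • dAt φ f := by
  funext i
  simp only [dAt, Derivation.leibniz, smul_eq_mul, Pi.add_apply, Pi.smul_apply, map_add, map_mul]

theorem finrank_quotient_le {n : ℕ} (π : MvPolynomial (Fin n) A →ₐ[A] B) (hπ : Function.Surjective π)
    (q : Ideal B) [q.IsPrime] [Module.Finite q.ResidueField (q.ResidueField ⊗[B] Ω[B⁄A])] :
    Module.finrank q.ResidueField ((Fin n → q.ResidueField) ⧸ Submodule.span q.ResidueField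
      (dAt ((algebraMap B q.ResidueField).comp π.toRingHom) '' {f | π f = 0})) ≤
      Module.finrank q.ResidueField (q.ResidueField ⊗[B] Ω[B⁄A]) := by
  classical
  let κ := q.ResidueField
  let φ := (algebraMap B κ).comp π.toRingHom
  let V := Submodule.span κ (dAt φ '' {f | π f = 0})
  let s := Function.surjInv hπ
  have hs : ∀ b, π (s b) = b := Function.surjInv_eq hπ
  let d0 : MvPolynomial (Fin n) A → (Fin n → κ) ⧸ V := fun f => Submodule.Quotient.mk (dAt φ f)
  have hadd : ∀ f g, d0 (f + g) = d0 f + d0 g := fun f g => by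
    show Submodule.Quotient.mk _ = _
    rw [← Submodule.Quotient.mk_add]
    congr 1
    funext i
    simp [dAt]
  have hcongr : ∀ f g, π f = π g → d0 f = d0 g := fun f g h => by
    have : d0 (f - g) = 0 :=
      (Submodule.Quotient.mk_eq_zero V).2 (Submodule.subset_span ⟨f - g, by simp [h], rfl⟩)
    rw [show f = (f - g) + g by ring, hadd, this, zero_add]
  have hsmul : ∀ (a : A) f, d0 (a • f) = a • d0 f := fun a f => by
    show Submodule.Quotient.mk _ = _
    rw [← Submodule.Quotient.mk_smul]
    congr 1
    funext i
    simp only [dAt, φ, Derivation.map_smul, RingHom.comp_apply, AlgHom.toRingHom_eq_coe, RingHom.coe_coe,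
      map_smul, Pi.smul_apply]
    rw [Algebra.smul_def, map_mul, ← IsScalarTower.algebraMap_apply, ← Algebra.smul_def]
  let D : Derivation A B ((Fin n → κ) ⧸ V) :=
    Derivation.mk'
      { toFun := fun b => d0 (s b)
        map_add' := fun a b => by rw [← hadd]; exact hcongr _ _ (by simp [hs])
        map_smul' := fun a b => by
          rw [RingHom.id_apply, ← hsmul]; exact hcongr _ _ (by simp [hs]) }
      fun a b => by
        show d0 (s (a * b)) = a • d0 (s b) + b • d0 (s a)
        rw [hcongr (s (a * b)) (s a * s b) (by simp [hs])]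
        show Submodule.Quotient.mk _ = a • Submodule.Quotient.mk _ + b • Submodule.Quotient.mk _
        rw [dAt_mul, Submodule.Quotient.mk_add, Submodule.Quotient.mk_smul, Submodule.Quotient.mk_smul,
          ← algebraMap_smul κ a, ← algebraMap_smul κ b]
        simp [φ, hs]
  let L := LinearMap.liftBaseChange κ D.liftKaehlerDifferential
  have hL : Function.Surjective L := by
    rw [← LinearMap.range_eq_top, eq_top_iff]
    intro w _
    obtain ⟨w, rfl⟩ := Submodule.Quotient.mk_surjective V w
    rw [show w = ∑ i, w i • (Pi.single i (1 : κ)) from pi_eq_sum_univ' w]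
    simp only [← Submodule.mkQ_apply, map_sum, map_smul]
    refine Submodule.sum_mem _ fun i _ => Submodule.smul_mem _ _ ⟨1 ⊗ₜ KaehlerDifferential.D A B (π (X i)), ?_⟩
    show L _ = _
    simp only [L, LinearMap.liftBaseChange_tmul, one_smul, Derivation.liftKaehlerDifferential_comp_D]
    show d0 (s (π (X i))) = _
    rw [hcongr _ (X i) (hs _)]
    show Submodule.Quotient.mk _ = Submodule.Quotient.mk _
    congr 1
    funext j
    simp [dAt, φ, pderiv_X, Pi.single_apply, apply_ite]
    split_ifs <;> simp_all [eq_comm]
  have h1 := L.finrank_range_le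
  rw [LinearMap.range_eq_top.2 hL, finrank_top] at h1
  exact h1

/-- Local embedding into a standard smooth algebra. -/
theorem exists_standardSmooth [Algebra.FiniteType A B] (q : Ideal B) [q.IsPrime] (p : ℕ)
    (hr : Module.finrank q.ResidueField (q.ResidueField ⊗[B] Ω[B⁄A]) ≤ p) :
    ∃ g : B, g ∉ q ∧ ∃ (D : Type u) (_ : CommRing D) (_ : Algebra A D),
      Algebra.IsStandardSmoothOfRelativeDimension p A D ∧
        ∃ φ : D →ₐ[A] Localization.Away g, Function.Surjective φ := by
  classical
  obtain ⟨n0, π0, hπ0⟩ := (Algebra.FiniteType.iff_quotient_mvPolynomial''.1 inferInstance :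
    ∃ (n : ℕ) (f : MvPolynomial (Fin n) A →ₐ[A] B), Function.Surjective f)
  let n := n0 + p
  let π : MvPolynomial (Fin n) A →ₐ[A] B := aeval (Fin.append (fun i => π0 (X i)) (fun _ => 0))
  have hπ : Function.Surjective π := fun b => by
    obtain ⟨f, rfl⟩ := hπ0 b
    refine ⟨rename (Fin.castAdd p) f, ?_⟩
    show π.comp (rename (Fin.castAdd p)) f = π0 f
    congr 1
    ext i
    simp [π]
  let κ := q.ResidueField
  haveI : Module.Finite κ (κ ⊗[B] Ω[B⁄A]) := inferInstance
  let φ := (algebraMap B κ).comp π.toRingHom
  let S := dAt φ '' {f | π f = 0}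
  have hV := finrank_quotient_le π hπ q
  have hVrank : n - p ≤ Module.finrank κ (Submodule.span κ S) := by
    have := Submodule.finrank_quotient_add_finrank (Submodule.span κ S)
    rw [Module.finrank_fin_fun] at this
    have hV' : Module.finrank κ ((Fin n → κ) ⧸ Submodule.span κ S) ≤ Module.finrank κ (κ ⊗[B] Ω[B⁄A]) := hV
    have hr' : Module.finrank κ (κ ⊗[B] Ω[B⁄A]) ≤ p := hr
    omega
  obtain ⟨T, hTS, hspan, hli⟩ := exists_linearIndependent κ S
  haveI : Fintype T := @Fintype.ofFinite T hli.finite
  have hcard : n - p ≤ Fintype.card T := by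
    rw [← finrank_span_eq_card hli, Subtype.range_coe, hspan]
    exact hVrank
  obtain ⟨c, hc⟩ : ∃ c, c = n - p := ⟨_, rfl⟩
  let ι : Fin c → T := fun i => (Fintype.equivFin T).symm (Fin.castLE (hc.le.trans hcard) i)
  have hv : LinearIndependent κ (fun i => (ι i : Fin n → κ)) :=
    hli.comp ι ((Fintype.equivFin T).symm.injective.comp (Fin.castLE_injective _))
  choose F hF hFd using fun i : Fin c => hTS (ι i).2
  obtain ⟨I, hI⟩ := (Groth.L19.RelGCISmooth.exists_minor _).1 hv
  let Δ := _root_.Smoothing.jacobianMinor F id I
  have hΔ : algebraMap B κ (π Δ) ≠ 0 := by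
    show φ Δ ≠ 0
    rw [show φ Δ = (Matrix.of fun j i => (ι j : Fin n → κ) (I i)).det from ?_]
    · exact hI
    simp only [Δ, _root_.Smoothing.jacobianMinor, RingHom.map_det]
    congr 1
    ext j i
    simp only [RingHom.mapMatrix_apply, Matrix.map_apply, Matrix.of_apply, id_eq]
    rw [← hFd j]
    rfl
  let g := π Δ
  have hg : g ∉ q := fun h => hΔ ((Ideal.algebraMap_residueField_eq_zero).2 h)
  let B0 := MvPolynomial (Fin n) A ⧸ Ideal.span (Set.range F)
  let b : B0 := Ideal.Quotient.mk _ Δ
  let D := Localization.Away b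
  have hsm : Algebra.IsStandardSmoothOfRelativeDimension p A D :=
    relDim_away_of_unit (by omega) F I I.injective b D (IsLocalization.Away.algebraMap_isUnit b)
  have hker : Ideal.span (Set.range F) ≤ RingHom.ker π.toRingHom :=
    Ideal.span_le.2 (Set.range_subset_iff.2 hF)
  let ψ : B0 →ₐ[A] B := Ideal.Quotient.liftₐ _ π fun x hx => RingHom.mem_ker.1 (hker hx)
  have hu : IsUnit ((IsScalarTower.toAlgHom A B (Localization.Away g)).comp ψ b) :=
    IsLocalization.Away.algebraMap_isUnit g
  let f : D →ₐ[A] Localization.Away g := IsLocalization.Away.liftAlgHom (S := D) b hu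
  have hf : ∀ r, f (algebraMap B0 D r) = algebraMap B (Localization.Away g) (ψ r) := fun r =>
    IsLocalization.Away.lift_eq b (g := ((IsScalarTower.toAlgHom A B (Localization.Away g)).comp ψ).toRingHom) hu r
  refine ⟨g, hg, D, inferInstance, inferInstance, hsm, f, fun y => ?_⟩
  obtain ⟨k, r, hr⟩ := IsLocalization.Away.surj g y
  obtain ⟨p', rfl⟩ := hπ r
  obtain ⟨u, huu⟩ := (IsLocalization.Away.algebraMap_isUnit (S := D) b).pow k
  refine ⟨algebraMap B0 D (Ideal.Quotient.mk _ p') * ↑u⁻¹, (u.isUnit.map f).mul_right_cancel ?_⟩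
  rw [← map_mul, mul_assoc, Units.inv_mul, mul_one, hf]
  show algebraMap B _ (π p') = _
  rw [← hr, huu, map_pow, hf]
  rfl

end Groth.L07.LocalEmbed
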