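import Groth.Agent.L22.LocalDim
import Groth.Agent.L22.Cyc.OrdGen
import Groth.Agent.L22.LocQuotDim
import Groth.Agent.L06.RegularSeqCodim
import Mathlib.RingTheory.UniqueFactorizationDomain.Kaplansky
import Mathlib.RingTheory.Filtration

/-! # Locally factorial schemes and regularly immersed divisors -/

set_option autoImplicit false
set_option linter.style.haveILetI false
set_option maxSynthPendingDepth 3
set_option backward.isDefEq.respectTransparency false
set_option backward.isDefEq.respectTransparency.types false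

universe u

open CategoryTheory AlgebraicGeometry IsLocalRing

namespace Groth.L07.LocFactorial

/-- A local ring with a prime ideal generated by one non-zero-divisor is a domain. -/
theorem isDomain_of_prime_span_nzd {R : Type u} [CommRing R] [IsLocalRing R] [IsNoetherianRing R] {t : R}
    (ht : t ∈ nonZeroDivisors R) (hp : (Ideal.span {t}).IsPrime) : IsDomain R := by
  have hdec : ∀ a : R, a ≠ 0 → ∃ (n : ℕ) (b : R), a = t ^ n * b ∧ b ∉ Ideal.span {t} := by
    intro a ha
    obtain ⟨n, hn⟩ : ∃ n, a ∉ Ideal.span {t} ^ n := by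
      by_contra h
      push Not at h
      have hbot := Ideal.iInf_pow_eq_bot_of_isLocalRing (Ideal.span {t}) hp.ne_top
      exact ha ((Submodule.mem_bot R).mp (hbot ▸ Submodule.mem_iInf _ |>.mpr h))
    induction n generalizing a with
    | zero => simp at hn
    | succ n ih =>
      by_cases h1 : a ∈ Ideal.span {t}
      · obtain ⟨c, rfl⟩ := Ideal.mem_span_singleton.mp h1
        obtain ⟨m, b, hb, hbn⟩ := ih c (fun h => ha (by rw [h, mul_zero])) (fun hc => hn (by
          rw [pow_succ']; exact Ideal.mul_mem_mul (Ideal.mem_span_singleton_self t) hc))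
        exact ⟨m + 1, b, by rw [hb, pow_succ', mul_assoc], hbn⟩
      · exact ⟨0, a, by simp, h1⟩
  haveI : NoZeroDivisors R := ⟨fun {a b} hab => by
    by_contra h
    push Not at h
    obtain ⟨n, a', rfl, ha'⟩ := hdec a h.1
    obtain ⟨m, b', rfl, hb'⟩ := hdec b h.2
    have h0 : a' * b' = 0 := (mul_right_mem_nonZeroDivisors_eq_zero_iff
      (pow_mem ht (n + m))).mp (by rw [← hab, pow_add]; ring)
    exact (hp.mem_or_mem (h0 ▸ zero_mem (Ideal.span {t}))).elim ha' hb'⟩
  exact NoZeroDivisors.to_isDomain R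

/-- A Noetherian local ring of positive dimension has a prime of height one. -/
theorem exists_height_one {R : Type u} [CommRing R] [IsLocalRing R] [IsNoetherianRing R]
    (h : 1 ≤ ringKrullDim R) : ∃ P : Ideal R, P.IsPrime ∧ P.height = 1 := by
  have hm : (1 : ℕ∞) ≤ (maximalIdeal R).height := by
    rw [← IsLocalRing.maximalIdeal_height_eq_ringKrullDim] at h
    exact WithBot.coe_le_coe.mp h
  obtain ⟨s, hs, hsmin⟩ : ∃ s ∈ maximalIdeal R, ∀ q ∈ minimalPrimes R, s ∉ q := by
    by_contra hcon
    push Not at hcon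
    have hsub : (maximalIdeal R : Set R) ⊆ ⋃ q ∈ (minimalPrimes.finite_of_isNoetherianRing R).toFinset, (q : Set R) := by
      intro s hs
      obtain ⟨q, hq, hsq⟩ := hcon s hs
      exact Set.mem_iUnion₂.mpr ⟨q, (Set.Finite.mem_toFinset _).mpr hq, hsq⟩
    obtain ⟨q, hq, hle⟩ := (Ideal.subset_union_prime (f := id) ⊥ ⊥
      (fun q hq _ _ => ((Set.Finite.mem_toFinset _).mp hq).isPrime)).mp hsub
    have hq' := (Set.Finite.mem_toFinset _).mp hq
    haveI := hq'.isPrime
    have heq : maximalIdeal R = q := le_antisymm hle (le_maximalIdeal hq'.isPrime.ne_top)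
    rw [heq, Ideal.height_eq_zero_iff.mpr hq'] at hm
    exact absurd hm (by decide)
  obtain ⟨P, hP, -⟩ := Ideal.exists_minimalPrimes_le
    (show Ideal.span {s} ≤ maximalIdeal R from (Ideal.span_singleton_le_iff_mem _).mpr hs)
  haveI := hP.isPrime
  refine ⟨P, hP.isPrime, le_antisymm (Ideal.height_le_one_of_isPrincipal_of_mem_minimalPrimes _ P hP) ?_⟩
  rw [Order.one_le_iff_pos, pos_iff_ne_zero]
  intro h0
  exact hsmin P (Ideal.height_eq_zero_iff.mp h0) (hP.1.2 (Ideal.subset_span rfl))

/-- Kaplansky's criterion in the Noetherian case. -/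
theorem ufm_of_height_one {R : Type u} [CommRing R] [IsDomain R] [IsNoetherianRing R]
    (h : ∀ P : Ideal R, P.IsPrime → P.height = 1 → ∃ t, P = Ideal.span {t}) : UniqueFactorizationMonoid R := by
  refine UniqueFactorizationMonoid.iff_exists_prime_mem_of_isPrime.mpr fun Q hQ hQp => ?_
  obtain ⟨a, haQ, ha0⟩ := Submodule.exists_mem_ne_zero_of_ne_bot hQ
  obtain ⟨P, hP, hPQ⟩ := Ideal.exists_minimalPrimes_le (show Ideal.span {a} ≤ Q from (Ideal.span_singleton_le_iff_mem _).mpr haQ)
  haveI := hP.isPrime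
  have hP0 : P ≠ ⊥ := fun e => ha0 ((Submodule.mem_bot R).mp (e ▸ hP.1.2 (Ideal.subset_span rfl)))
  obtain ⟨t, rfl⟩ := h P hP.isPrime (le_antisymm (Ideal.height_le_one_of_isPrincipal_of_mem_minimalPrimes _ P hP) (by
    rw [Order.one_le_iff_pos, pos_iff_ne_zero]
    intro h0
    rw [Ideal.height_eq_zero_iff, IsDomain.minimalPrimes_eq_singleton_bot, Set.mem_singleton_iff] at h0
    exact hP0 h0))
  have ht0 : t ≠ 0 := fun e => hP0 (by rw [e, Ideal.span_singleton_eq_bot.mpr rfl])
  exact ⟨t, hPQ (Ideal.mem_span_singleton_self t), (Ideal.span_singleton_prime ht0).mp hP.isPrime⟩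

theorem principal_of_height_one {R : Type u} [CommRing R] [IsDomain R] [IsNoetherianRing R]
    [UniqueFactorizationMonoid R] {P : Ideal R} (hP : P.IsPrime) (h : P.height = 1) :
    ∃ t ∈ nonZeroDivisors R, P = Ideal.span {t} := by
  haveI := hP
  obtain ⟨π, hπP, hπ⟩ := Ideal.IsPrime.exists_mem_prime_of_ne_bot hP (fun e => by
    rw [e, Ideal.height_bot] at h; exact absurd h (by decide))
  haveI : (Ideal.span {π}).IsPrime := (Ideal.span_singleton_prime hπ.ne_zero).2 hπ
  refine ⟨π, mem_nonZeroDivisors_of_ne_zero hπ.ne_zero, ?_⟩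
  by_contra hne
  have hlt : Ideal.span {π} < P :=
    lt_of_le_of_ne ((Ideal.span_singleton_le_iff_mem _).2 hπP) (fun e => hne e.symm)
  have hpos : (⊥ : Ideal R) < Ideal.span {π} :=
    bot_lt_iff_ne_bot.2 fun e => hπ.ne_zero (Ideal.span_singleton_eq_bot.1 e)
  haveI : (⊥ : Ideal R).IsPrime := Ideal.isPrime_bot
  have h1 := Order.add_one_le_of_lt (Ideal.height_strict_mono_of_isPrime hpos)
  rw [Ideal.height_bot, zero_add] at h1
  exact absurd (h1.trans_lt ((Ideal.height_strict_mono_of_isPrime hlt).trans_eq h)) (lt_irrefl _)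

theorem ker_specMap_eq {X : Scheme.{u}} {ξ x : X} (h : ξ ⤳ x) :
    RingHom.ker (Cyc.specMap x ξ h) =
      (maximalIdeal (X.presheaf.stalk ξ)).comap (X.presheaf.stalkSpecializes h).hom := by
  rw [show maximalIdeal (X.presheaf.stalk ξ) = RingHom.ker (X.residue ξ).hom from (IsLocalRing.ker_residue).symm,
    RingHom.comap_ker]
  rfl

theorem dim_eq_height_comap {X : Scheme.{u}} {ξ x : X} (h : ξ ⤳ x) :
    ringKrullDim (X.presheaf.stalk ξ) =
      ((maximalIdeal (X.presheaf.stalk ξ)).comap (X.presheaf.stalkSpecializes h).hom).height := by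
  letI := (X.presheaf.stalkSpecializes h).hom.toAlgebra
  haveI : (RingHom.ker (Cyc.specMap x ξ h)).IsPrime := RingHom.ker_isPrime _
  haveI := Groth.L22.Cyc.isLocalization_stalkSpecializes h
  rw [IsLocalization.AtPrime.ringKrullDim_eq_height (RingHom.ker (Cyc.specMap x ξ h)) (X.presheaf.stalk ξ),
    ker_specMap_eq h]

theorem iff_locallyFactorial (X : Scheme.{u}) [IsLocallyNoetherian X]
    (hred : ∀ x : ↥X, IsOpen ({x} : Set ↥X) → _root_.IsReduced ↑(X.presheaf.stalk x)) :
    (∀ ζ : ↥X, ringKrullDim ↑(X.presheaf.stalk ζ) = 1 → ∀ (x : ↥X) (h : ζ ⤳ x),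
        ∃ t : ↑(X.presheaf.stalk x), t ∈ nonZeroDivisors ↑(X.presheaf.stalk x) ∧
          (IsLocalRing.maximalIdeal ↑(X.presheaf.stalk ζ)).comap (X.presheaf.stalkSpecializes h).hom =
            Ideal.span {t}) ↔
      ∀ x : ↥X, ∃ _ : IsDomain ↑(X.presheaf.stalk x), UniqueFactorizationMonoid ↑(X.presheaf.stalk x) := by
  constructor
  · intro H x
    have hP : ∀ (x : X) (P : Ideal (X.presheaf.stalk x)), P.IsPrime → P.height = 1 →
        ∃ t ∈ nonZeroDivisors (X.presheaf.stalk x), P = Ideal.span {t} := by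
      intro x P hPp hP1
      let q : Spec (X.presheaf.stalk x) := ⟨P, hPp⟩
      have hsp : X.fromSpecStalk x q ⤳ x := by
        have h1 : X.fromSpecStalk x q ∈ Set.range (X.fromSpecStalk x) := ⟨_, rfl⟩
        rw [Scheme.range_fromSpecStalk] at h1
        exact h1
      have hdim : ringKrullDim (X.presheaf.stalk (X.fromSpecStalk x q)) = 1 := by
        rw [Groth.L06.RegularSeqCodim.dim_stalk_fromSpecStalk x q]
        exact congrArg _ hP1
      obtain ⟨t, ht, hPt⟩ := H _ hdim x hsp
      refine ⟨t, ht, ?_⟩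
      rw [← hPt, ← ker_specMap_eq hsp]
      have h1 := (X.fromSpecStalk x).isEmbedding.injective
        (Groth.L22.LocQuotDim.fromSpecStalk_ker_specMap x (X.fromSpecStalk x q) hsp ⊥)
      exact (congrArg PrimeSpectrum.asIdeal h1).symm
    have hdom1 : ∀ x : X, 1 ≤ ringKrullDim (X.presheaf.stalk x) → IsDomain (X.presheaf.stalk x) := by
      intro x hx
      obtain ⟨P, hPp, hP1⟩ := exists_height_one hx
      obtain ⟨t, ht, rfl⟩ := hP x P hPp hP1
      exact isDomain_of_prime_span_nzd ht hPp
    have hdom : IsDomain (X.presheaf.stalk x) := by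
      by_cases hx : 1 ≤ ringKrullDim (X.presheaf.stalk x)
      · exact hdom1 x hx
      have hmax : ∀ y : X, y ⤳ x → y = x := fun y hy => by
        by_contra hne; exact hx (Groth.L22.LocalDim.one_le_dim_of_specializes hy hne)
      by_cases hspec : ∃ y : X, x ⤳ y ∧ y ≠ x
      · obtain ⟨y, hxy, hne⟩ := hspec
        haveI := hdom1 y (Groth.L22.LocalDim.one_le_dim_of_specializes hxy (Ne.symm hne))
        letI := (X.presheaf.stalkSpecializes hxy).hom.toAlgebra
        haveI : (RingHom.ker (Cyc.specMap y x hxy)).IsPrime := RingHom.ker_isPrime _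
        haveI := Groth.L22.Cyc.isLocalization_stalkSpecializes hxy
        exact IsLocalization.isDomain_of_le_nonZeroDivisors (S := X.presheaf.stalk x)
          (M := (RingHom.ker (Cyc.specMap y x hxy)).primeCompl) (Ideal.primeCompl_le_nonZeroDivisors _)
      · push Not at hspec
        obtain ⟨O, hxO, hO⟩ := Groth.L22.LocalDim.exists_open_of_maximal hmax
        have hopen : IsOpen ({x} : Set X) := by
          have e : ({x} : Set X) = O := Set.ext fun z =>
            ⟨fun hz => (Set.mem_singleton_iff.mp hz) ▸ hxO, fun hz => hspec z (hO z hz)⟩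
          rw [e]; exact O.2
        haveI := hred x hopen
        haveI : Ring.KrullDimLE 0 (X.presheaf.stalk x) :=
          Ring.krullDimLE_iff.mpr (not_lt.mp fun h => hx (Order.succ_le_of_lt h))
        haveI : IsArtinianRing (X.presheaf.stalk x) := IsNoetherianRing.isArtinianRing_of_krullDimLE_zero
        exact (IsArtinianRing.isField_of_isReduced_of_isLocalRing (X.presheaf.stalk x)).isDomain
    haveI := hdom
    exact ⟨hdom, ufm_of_height_one fun P hPp hP1 =>
      let ⟨t, _, ht⟩ := hP x P hPp hP1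
      ⟨t, ht⟩⟩
  · intro H ζ hζ x h
    obtain ⟨hdom, hufd⟩ := H x
    haveI := hdom
    haveI := hufd
    obtain ⟨t, ht, htP⟩ := principal_of_height_one
      (P := (maximalIdeal (X.presheaf.stalk ζ)).comap (X.presheaf.stalkSpecializes h).hom) inferInstance (by
        have := dim_eq_height_comap h
        rw [hζ] at this
        exact (WithBot.coe_injective this).symm)
    exact ⟨t, ht, htP⟩

end Groth.L07.LocFactorial
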