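import Groth.Agent.L07.SyntAlg
import Groth.Agent.L07.KoszulBC

/-! Syntomic is flat plus local complete intersection. -/

namespace Groth.L07.SyntLCI

open TensorProduct PrimeSpectrum CategoryTheory CategoryTheory.Limits CohIII
open Groth.L07.CILocus Groth.L07.SyntNhd

set_option linter.style.haveILetI false
set_option maxSynthPendingDepth 3

universe u

variable {R : Type u} [CommRing R] {n : ℕ}

local notation "Po" => MvPolynomial (Fin n) R

/-- A Koszul-regular sequence with flat quotient is regular in the fibre. -/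
theorem isRegular_fibre (p : PrimeSpectrum R) (q' : Ideal Po) [q'.IsPrime]
    (Q : Ideal (MvPolynomial (Fin n) p.asIdeal.ResidueField)) [Q.IsPrime] (hQ : Q.comap (θ p) = q')
    (l : List (Localization.AtPrime q')) (hl : ∀ x ∈ l, x ∈ IsLocalRing.maximalIdeal (Localization.AtPrime q'))
    [Module.Flat R (Localization.AtPrime q' ⧸ Ideal.ofList l)]
    (h : ∀ i : ℤ, i ≠ 0 →
      IsZero ((koszulCx (ModuleCat.of (Localization.AtPrime q') (Localization.AtPrime q')) l).homology i)) :
    RingTheory.Sequence.IsRegular (Localization.AtPrime Q)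
      (l.map (Localization.localRingHom q' Q (θ p) hQ.symm)) := by
  let K := p.asIdeal.ResidueField
  let B := Localization.AtPrime q'
  let L := Localization.AtPrime Q
  let φB := Localization.localRingHom q' Q (θ p) hQ.symm
  have hφB : ∀ y, φB (algebraMap Po B y) = algebraMap _ L (θ p y) := Localization.localRingHom_to_map _ _ _ _
  haveI : IsLocalHom φB := Localization.isLocalHom_localRingHom _ _ _ _
  haveI : Module.Flat R B := Localization.flat (R := R) (MvPolynomial (Fin n) R) q'.primeCompl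
  haveI : IsRegularLocalRing L := IsRegularRing.isRegularLocalRing_localization Q
  have hθC : ∀ r : R, θ (d := n) p (MvPolynomial.C r) = MvPolynomial.C (algebraMap R K r) := fun r => by
    simp [θ, K]
  let φA : B →ₐ[R] L :=
    { φB with
      commutes' := fun r => by
        show φB (algebraMap R B r) = _
        rw [IsScalarTower.algebraMap_apply R Po B, hφB, MvPolynomial.algebraMap_eq, hθC,
          IsScalarTower.algebraMap_apply R K L, IsScalarTower.algebraMap_apply K (MvPolynomial (Fin n) K) L]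
        rfl }
  let Ψ : B ⊗[R] K →ₐ[R] L :=
    Algebra.TensorProduct.lift φA (IsScalarTower.toAlgHom R K L) (fun _ _ => Commute.all _ _)
  have hΨ : ∀ b c, Ψ (b ⊗ₜ[R] c) = φB b * algebraMap K L c := fun b c => Algebra.TensorProduct.lift_tmul ..
  let ι₀ : MvPolynomial (Fin n) K →+* B ⊗[R] K := MvPolynomial.eval₂Hom
    Algebra.TensorProduct.includeRight.toRingHom (fun i => algebraMap Po B (MvPolynomial.X i) ⊗ₜ[R] 1)
  have hι₀ : ∀ y : Po, ι₀ (θ p y) = algebraMap Po B y ⊗ₜ[R] (1 : K) := by
    intro y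
    induction y using MvPolynomial.induction_on with
    | C r =>
      rw [hθC, MvPolynomial.eval₂Hom_C, ← MvPolynomial.algebraMap_eq, ← IsScalarTower.algebraMap_apply]
      show (1 : B) ⊗ₜ[R] algebraMap R K r = _
      rw [Algebra.algebraMap_eq_smul_one, Algebra.algebraMap_eq_smul_one, TensorProduct.tmul_smul,
        TensorProduct.smul_tmul']
    | add a b ha hb => simp only [map_add, ha, hb, TensorProduct.add_tmul]
    | mul_X a i ha =>
      simp only [map_mul, ha]
      rw [show θ (d := n) p (MvPolynomial.X i) = MvPolynomial.X i by simp [θ], MvPolynomial.eval₂Hom_X',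
        Algebra.TensorProduct.tmul_mul_tmul, one_mul]
  have hu : ∀ s : Q.primeCompl, IsUnit (ι₀ s) := by
    rintro ⟨s, hs⟩
    obtain ⟨r, hr, t, ht⟩ := exists_lift p s
    have htq : t ∉ q' := fun hm => by
      rw [← hQ, Ideal.mem_comap, ht] at hm
      exact (Ideal.IsPrime.mem_or_mem ‹_› hm).elim (C_ne hr _) hs
    have h1 : IsUnit (ι₀ (MvPolynomial.C (algebraMap R K r) * s)) := by
      rw [← ht, hι₀]
      exact (IsLocalization.map_units B (⟨t, htq⟩ : q'.primeCompl)).map
        (Algebra.TensorProduct.includeLeft (R := R) (S := R) (B := K))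
    rw [map_mul] at h1
    exact isUnit_of_mul_isUnit_right h1
  let Λ : L →+* B ⊗[R] K := IsLocalization.lift (M := Q.primeCompl) hu
  have hΛ : ∀ x, Λ (algebraMap _ L x) = ι₀ x := fun x => IsLocalization.lift_eq hu x
  have h1 : Ψ.toRingHom.comp Λ = RingHom.id L := by
    refine IsLocalization.ringHom_ext Q.primeCompl (MvPolynomial.ringHom_ext (fun c => ?_) (fun i => ?_))
    · show Ψ (Λ (algebraMap _ L (MvPolynomial.C c))) = algebraMap _ L (MvPolynomial.C c)
      rw [hΛ, MvPolynomial.eval₂Hom_C]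
      show Ψ ((1 : B) ⊗ₜ[R] c) = _
      rw [hΨ, map_one, one_mul, IsScalarTower.algebraMap_apply K (MvPolynomial (Fin n) K) L]
      rfl
    · show Ψ (Λ (algebraMap _ L (MvPolynomial.X i))) = algebraMap _ L (MvPolynomial.X i)
      rw [hΛ, MvPolynomial.eval₂Hom_X', hΨ, hφB, map_one, mul_one,
        show θ (d := n) p (MvPolynomial.X i) = MvPolynomial.X i by simp [θ]]
  have h2 : ∀ z, Λ (Ψ z) = z := by
    intro z
    induction z using TensorProduct.induction_on with
    | zero => rw [map_zero, map_zero]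
    | add a b ha hb => rw [map_add, map_add, ha, hb]
    | tmul b c =>
      rw [hΨ, map_mul]
      have hb : Λ (φB b) = b ⊗ₜ[R] (1 : K) := RingHom.congr_fun (f := Λ.comp φB)
        (g := (Algebra.TensorProduct.includeLeft (R := R) (S := R) (B := K) : B →ₐ[R] B ⊗[R] K).toRingHom)
        (IsLocalization.ringHom_ext q'.primeCompl (RingHom.ext fun y => by
          show Λ (φB (algebraMap Po B y)) = _
          rw [hφB, hΛ, hι₀]
          rfl)) b
      rw [hb, IsScalarTower.algebraMap_apply K (MvPolynomial (Fin n) K) L, hΛ, MvPolynomial.algebraMap_eq,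
        MvPolynomial.eval₂Hom_C]
      show b ⊗ₜ[R] (1 : K) * (1 : B) ⊗ₜ[R] c = _
      rw [Algebra.TensorProduct.tmul_mul_tmul, mul_one, one_mul]
  let e : B ⊗[R] K ≃+* L := RingEquiv.ofRingHom Ψ.toRingHom Λ h1 (RingHom.ext h2)
  have he : ∀ (b : B) (z : B ⊗[R] K), e (b • z) = φB b • e z := fun b z => by
    rw [Algebra.smul_def, map_mul, smul_eq_mul, Algebra.TensorProduct.algebraMap_apply, Algebra.algebraMap_self_apply]
    congr 1
    show Ψ (b ⊗ₜ[R] 1) = φB b
    rw [hΨ, map_one, mul_one]
  have hzero : ∀ i : ℤ, i ≠ 0 → IsZero ((koszulCx (ModuleCat.of L L) (l.map φB)).homology i) := fun i hi =>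
    Groth.L07.KoszulBC.isZero_transfer φB (ModuleCat.of B (B ⊗[R] K)) (ModuleCat.of L L) e.toAddEquiv he l i (by
      rcases lt_or_gt_of_ne hi with hlt | hgt
      · obtain ⟨m, rfl⟩ : ∃ m : ℕ, i = -((m : ℤ) + 1) := ⟨(-i - 1).toNat, by omega⟩
        exact Groth.L07.KoszulBC.isZero_baseChange l h m K
      · exact ModuleCat.isZero_iff_subsingleton.2
          (Groth.L04.Koszul.subsingleton_homology_of_out _ l i (Or.inl hgt)))
  have hmem : ∀ x ∈ l.map φB, x ∈ IsLocalRing.maximalIdeal L := fun x hx => by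
    obtain ⟨y, hy, rfl⟩ := List.mem_map.mp hx
    exact map_nonunit φB y (hl y hy)
  refine ⟨Groth.L07.KoszulBC.isWeaklyRegular_of_koszul _ hmem hzero, fun htop => ?_⟩
  rw [smul_eq_mul, Ideal.mul_top] at htop
  exact (IsLocalRing.maximalIdeal.isMaximal L).ne_top (top_le_iff.mp (htop.le.trans (Ideal.span_le.mpr hmem)))

/-- Flat and locally Koszul-regularly presented: the fibre is a complete intersection. -/
theorem ciAt_of_koszul (I : Ideal Po) [Module.Flat R (Po ⧸ I)] (hI : LCI.IsKoszulRegularIdeal I)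
    (P : PrimeSpectrum (Po ⧸ I)) : CIAt R P := by
  let q' := P.asIdeal.comap (Ideal.Quotient.mk I)
  have hIq : I ≤ q' := fun y hy => by
    rw [Ideal.mem_comap, Ideal.Quotient.eq_zero_iff_mem.mpr hy]; exact zero_mem _
  obtain ⟨g, hg, l, hl, hspan⟩ := hI ⟨q', inferInstance⟩ hIq
  let Bg := Localization.Away g
  let B := Localization.AtPrime q'
  have hu : IsUnit (algebraMap Po B g) := IsLocalization.map_units B (⟨g, hg⟩ : q'.primeCompl)
  let ψ : Bg →+* B := IsLocalization.Away.lift g hu
  have hψ : ∀ y, ψ (algebraMap Po Bg y) = algebraMap Po B y := fun y => IsLocalization.Away.lift_eq g hu y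
  letI : Algebra Bg B := ψ.toAlgebra
  letI : Module Bg B := Algebra.toModule
  let S : Submonoid Bg := q'.primeCompl.map (algebraMap Po Bg).toMonoidHom
  have hzero : ∀ i : ℤ, i ≠ 0 → IsZero ((koszulCx (ModuleCat.of B B) (l.map ψ)).homology i) := fun i hi => by
    refine Groth.L07.KoszulBC.isZero_transfer ψ (ModuleCat.of Bg B) (ModuleCat.of B B) (AddEquiv.refl B)
      (fun b m => rfl) l i ?_
    refine Groth.L07.KoszulBC.isZero_localized (ModuleCat.ofHom (Algebra.linearMap Bg B)) S ?_ ?_ ?_ l i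
      (Groth.L07.KoszulBC.isZero_of_isKoszulRegularSeq l hl i hi)
    · intro y
      obtain ⟨⟨x, t⟩, hx⟩ := IsLocalization.surj q'.primeCompl (y : B)
      refine ⟨algebraMap Po Bg x, ⟨algebraMap Po Bg t, t, t.2, rfl⟩, ?_⟩
      show ψ (algebraMap Po Bg x) = ψ (algebraMap Po Bg t) * y
      rw [hψ, hψ, mul_comm]
      exact hx.symm
    · intro x hx
      obtain ⟨⟨a, s⟩, ha⟩ := IsLocalization.surj (Submonoid.powers g) (x : Bg)
      have h0 : algebraMap Po B a = 0 := by
        rw [← hψ, ← ha, map_mul, show ψ x = 0 from hx, zero_mul]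
      obtain ⟨t, ht⟩ := (IsLocalization.map_eq_zero_iff q'.primeCompl B a).mp h0
      refine ⟨⟨algebraMap Po Bg t, t, t.2, rfl⟩, (IsLocalization.map_units Bg s).mul_left_cancel ?_⟩
      rw [mul_zero, smul_eq_mul, mul_left_comm, mul_comm (algebraMap Po Bg s) x, ha, ← map_mul, ht, map_zero]
    · rintro ⟨_, t, ht, rfl⟩
      have hb : IsUnit (ψ (algebraMap Po Bg t)) := by
        rw [hψ]; exact IsLocalization.map_units B (⟨t, ht⟩ : q'.primeCompl)
      obtain ⟨v, hv⟩ := hb.exists_right_inv
      exact ⟨fun y y' hy => hb.mul_left_cancel hy, fun y => ⟨v * y, show ψ (algebraMap Po Bg t) * (v * y) = y by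
        rw [← mul_assoc, hv, one_mul]⟩⟩
  have hofl : Ideal.ofList (l.map ψ) = I.map (algebraMap Po B) := by
    rw [← Ideal.map_ofList, show Ideal.ofList l = I.map (algebraMap Po Bg) from hspan.symm, Ideal.map_map]
    exact congrArg (fun f => Ideal.map f I) (RingHom.ext hψ)
  obtain ⟨hsur, hker⟩ := localRingHom_surjective (Ideal.Quotient.mk I) Ideal.Quotient.mk_surjective P.asIdeal
  rw [Ideal.mk_ker] at hker
  haveI : Module.Flat R (B ⧸ Ideal.ofList (l.map ψ)) := by
    haveI : Module.Flat R (Localization.AtPrime P.asIdeal) := Module.Flat.trans R (Po ⧸ I) _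
    let E := (Ideal.quotEquivOfEq (hofl.trans hker.symm)).trans (RingHom.quotientKerEquivOfSurjective hsur)
    suffices hE : ∀ (r : R) z, E (r • z) = r • E z from
      Module.Flat.of_linearEquiv ({ E.toAddEquiv with map_smul' := hE } :
        (B ⧸ Ideal.ofList (l.map ψ)) ≃ₗ[R] Localization.AtPrime P.asIdeal)
    intro r z
    obtain ⟨z, rfl⟩ := Ideal.Quotient.mk_surjective z
    show E (r • Ideal.Quotient.mk _ z) = r • E (Ideal.Quotient.mk _ z)
    rw [Algebra.smul_def, Algebra.smul_def, map_mul]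
    congr 1
    rw [IsScalarTower.algebraMap_apply R B (B ⧸ Ideal.ofList (l.map ψ)), Ideal.Quotient.algebraMap_eq,
      IsScalarTower.algebraMap_apply R Po B, IsScalarTower.algebraMap_apply R (Po ⧸ I) (Localization.AtPrime P.asIdeal)]
    show Localization.localRingHom q' P.asIdeal (Ideal.Quotient.mk I) rfl (algebraMap Po B (algebraMap R Po r)) = _
    rw [Localization.localRingHom_to_map, Ideal.Quotient.mk_algebraMap]
  have hreg := isRegular_fibre _ q' (polPrime I P) (comap_polPrime I P) (l.map ψ)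
    (fun x hx => by
      rw [← Localization.AtPrime.map_eq_maximalIdeal]
      exact Ideal.map_mono hIq (hofl ▸ Ideal.subset_span hx)) hzero
  refine (ciAt_iff I P).mpr ⟨_, hreg, ?_⟩
  rw [← Ideal.map_ofList, hofl, Ideal.map_map, Ideal.map_map]
  congr 1
  refine RingHom.ext fun y => ?_
  rw [RingHom.comp_apply, RingHom.comp_apply]
  exact Localization.localRingHom_to_map _ _ _ (comap_polPrime I P).symm y

/-- A Koszul-regular ideal is finitely generated. -/
theorem fg_of_isKoszulRegularIdeal {B : Type u} [CommRing B] (I : Ideal B) (h : LCI.IsKoszulRegularIdeal I) :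
    I.FG := by
  classical
  let t : Set B := {g | (I.map (algebraMap B (Localization.Away g))).FG}
  refine Ideal.fg_of_localizationSpan t (by_contra fun ht => ?_) (fun g => g.2)
  obtain ⟨M, hM, hle⟩ := Ideal.exists_le_maximal _ ht
  by_cases hIM : I ≤ M
  · obtain ⟨g, hg, l, -, hgl⟩ := h ⟨M, hM.isPrime⟩ hIM
    refine hg (hle (Ideal.subset_span ?_))
    show (I.map _).FG
    rw [hgl]
    exact Submodule.fg_span l.finite_toSet
  · obtain ⟨y, hy, hyM⟩ := SetLike.not_le_iff_exists.mp hIM
    refine hyM (hle (Ideal.subset_span ?_))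
    show (I.map _).FG
    rw [Ideal.eq_top_of_isUnit_mem _ (Ideal.mem_map_of_mem _ hy) (IsLocalization.Away.algebraMap_isUnit y)]
    exact ⟨{1}, by simp⟩

theorem isSyntomic_of_flat_isLCI {S : Type u} [CommRing S] [Algebra R S] [Module.Flat R S]
    (h : LCI.IsLCI R S) : Synt.IsSyntomic R S := by
  obtain ⟨hft, d, f, hf, hk⟩ := h
  let e : (MvPolynomial (Fin d) R ⧸ RingHom.ker f.toRingHom) ≃ₐ[R] S := Ideal.quotientKerAlgEquivOfSurjective hf
  refine Groth.L07.SyntAlg.isSyntomic_of_algEquiv e ?_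
  haveI : Module.Flat R (MvPolynomial (Fin d) R ⧸ RingHom.ker f.toRingHom) := Module.Flat.of_linearEquiv e.toLinearEquiv
  haveI : Algebra.FinitePresentation R (MvPolynomial (Fin d) R ⧸ RingHom.ker f.toRingHom) :=
    Algebra.FinitePresentation.quotient (fg_of_isKoszulRegularIdeal _ hk)
  exact Groth.L07.SyntAlg.isSyntomic_iff.mpr ⟨inferInstance, fun P => ciAt_of_koszul _ hk P⟩

/-- Flat points with complete intersection fibres are locally Koszul-regularly presented. -/
theorem exists_koszul_nhd (I : Ideal Po) (hI : I.FG) (P : PrimeSpectrum (Po ⧸ I))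
    [Module.Flat R (Localization.AtPrime P.asIdeal)] (h : CIAt R P) :
    ∃ g : MvPolynomial (Fin n) R, g ∉ P.asIdeal.comap (Ideal.Quotient.mk I) ∧
      ∃ l : List (Localization.Away g), LCI.IsKoszulRegularSeq (Localization.Away g) l ∧
        I.map (algebraMap (MvPolynomial (Fin n) R) (Localization.Away g)) = Ideal.span {x | x ∈ l} := by
  obtain ⟨c, f, hfI, hreg, hgen⟩ := exists_generators I P h
  obtain ⟨g, hg, hgI⟩ := Groth.L07.SyntAlg.exists_mul_mem I hI P f hfI hgen
  let J := Ideal.span (Set.range f)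
  have hJI : J ≤ I := Ideal.span_le.mpr (by rintro _ ⟨i, rfl⟩; exact hfI i)
  set p := comap (algebraMap R (Po ⧸ I)) P
  have hJQ : J.map (θ p) ≤ polPrime I P := (Ideal.map_mono hJI).trans (map_le_polPrime I P)
  have key : ∀ (p₀ : PrimeSpectrum R) (Q : Ideal (MvPolynomial (Fin n) p₀.asIdeal.ResidueField)) [Q.IsPrime],
      J.map (θ p₀) ≤ Q →
      (∀ (q : Ideal (MvPolynomial (Fin n) p₀.asIdeal.ResidueField)) [q.IsPrime],
        J.map (θ p₀) ≤ q → q ≤ Q → (c : ℕ∞) ≤ q.height) →
      ∃ PJ : PrimeSpectrum (Po ⧸ J), PJ.asIdeal.comap (Ideal.Quotient.mk J) = Q.comap (θ p₀) ∧ Good J c PJ := by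
    intro p₀ Q _ h1 h2
    obtain ⟨PJ, hPJ, rfl⟩ := exists_point J p₀ Q h1
    refine ⟨PJ, hPJ, fun q _ h3 h4 => h2 q h3 ?_⟩
    rw [eq_polPrime J PJ Q h1 hPJ.symm]
    exact h4
  obtain ⟨PJ, hPJ, hgood⟩ := key p (polPrime I P) hJQ (fun q _ h1 h2 =>
    Groth.L07.CIField.height_ge_of_regular (θ p ∘ f) (polPrime I P) hreg q
      (le_trans (by rw [Ideal.map_span, ← Set.range_comp]) h1) h2)
  rw [comap_polPrime] at hPJ
  obtain ⟨g₁, hg₁, H⟩ := exists_fibre_dim J PJ (c := c) hgood
  obtain ⟨y₁, rfl⟩ := Ideal.Quotient.mk_surjective g₁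
  let G := g * y₁
  let Bg := Localization.Away G
  have hG : G ∉ P.asIdeal.comap (Ideal.Quotient.mk I) := fun hm =>
    (Ideal.IsPrime.mem_or_mem inferInstance hm).elim hg fun h' => hg₁ (hPJ.ge h')
  refine ⟨G, hG, (List.ofFn f).map (algebraMap Po Bg), ?_, ?_⟩
  · refine Groth.L07.KoszulLocal.isKoszulRegularSeq_of_local _ fun M hM hle => ?_
    let w := M.comap (algebraMap Po Bg)
    have hJw : J ≤ w := by
      rw [← Ideal.map_le_iff_le_comap, show J = Ideal.ofList (List.ofFn f) from (Groth.L07.QReg.ofList_ofFn f).symm,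
        Ideal.map_ofList]
      exact hle
    have hk : RingHom.ker (Ideal.Quotient.mk J) ≤ w := by rwa [Ideal.mk_ker]
    haveI := Ideal.map_isPrime_of_surjective Ideal.Quotient.mk_surjective hk
    have hwc : (w.map (Ideal.Quotient.mk J)).comap (Ideal.Quotient.mk J) = w := by
      rw [Ideal.comap_map_of_surjective _ Ideal.Quotient.mk_surjective, ← RingHom.ker_eq_comap_bot,
        Ideal.mk_ker, sup_eq_left.mpr hJw]
    have hGw : G ∉ w := fun hm =>
      hM.ne_top (Ideal.eq_top_of_isUnit_mem _ hm (IsLocalization.Away.algebraMap_isUnit G))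
    have hreg' := (Groth.L07.SyntRel.transversal J f rfl ⟨w.map (Ideal.Quotient.mk J), inferInstance⟩ w hwc
      (H _ fun hm => hGw (Ideal.mul_mem_left _ g (hwc.le hm)))).1.toIsWeaklyRegular
    let e := IsLocalization.localizationLocalizationAtPrimeIsoLocalization (Submonoid.powers G) M
    refine (RingTheory.Sequence.isWeaklyRegular_map_algebraMap_iff (R := Bg) (Localization.AtPrime M)
      (Localization.AtPrime M) _).mp ?_
    rw [List.map_map]
    refine ((e.toRingEquiv.toAddEquiv.isWeaklyRegular_congr ?_).mp hreg')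
    rw [List.forall₂_map_left_iff, List.forall₂_map_right_iff]
    refine List.forall₂_same.mpr fun a _ x => ?_
    show e (algebraMap Po _ a * x) = algebraMap Bg (Localization.AtPrime M) (algebraMap Po Bg a) * e x
    rw [map_mul, AlgEquiv.commutes, ← IsScalarTower.algebraMap_apply]
  · show I.map (algebraMap Po Bg) = Ideal.ofList _
    rw [← Ideal.map_ofList, Groth.L07.QReg.ofList_ofFn]
    refine le_antisymm (Ideal.map_le_iff_le_comap.mpr fun y hy => ?_) (Ideal.map_mono hJI)
    rw [Ideal.mem_comap]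
    have hu : IsUnit (algebraMap Po Bg g) := IsLocalization.Away.isUnit_of_dvd G (dvd_mul_right g y₁)
    obtain ⟨v, hv⟩ := hu.exists_left_inv
    rw [show algebraMap Po Bg y = v * algebraMap Po Bg (g * y) by rw [map_mul, ← mul_assoc, hv, one_mul]]
    exact Ideal.mul_mem_left _ v (Ideal.mem_map_of_mem _ (hgI y hy))

/-- Syntomic algebras are local complete intersections, with respect to any presentation. -/
theorem isKoszulRegularIdeal_ker {S : Type u} [CommRing S] [Algebra R S] (h : Synt.IsSyntomic R S)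
    (π : MvPolynomial (Fin n) R →ₐ[R] S) (hπ : Function.Surjective π) :
    LCI.IsKoszulRegularIdeal (RingHom.ker π.toRingHom) := by
  haveI := h.2.1
  let I := RingHom.ker π.toRingHom
  let e : (MvPolynomial (Fin n) R ⧸ I) ≃ₐ[R] S := Ideal.quotientKerAlgEquivOfSurjective hπ
  haveI : Algebra.FinitePresentation R (MvPolynomial (Fin n) R ⧸ I) := Algebra.FinitePresentation.equiv e.symm
  obtain ⟨hflat, hCI⟩ := Groth.L07.SyntAlg.isSyntomic_iff.mp
    (Groth.L07.SyntAlg.isSyntomic_of_algEquiv e.symm h)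
  intro 𝔭 h𝔭
  have hk : RingHom.ker (Ideal.Quotient.mk I) ≤ 𝔭.asIdeal := by rwa [Ideal.mk_ker]
  haveI := Ideal.map_isPrime_of_surjective Ideal.Quotient.mk_surjective hk
  let P : PrimeSpectrum (Po ⧸ I) := ⟨𝔭.asIdeal.map (Ideal.Quotient.mk I), inferInstance⟩
  haveI := hflat
  haveI : Module.Flat R (Localization.AtPrime P.asIdeal) := Module.Flat.trans R (Po ⧸ I) _
  obtain ⟨g, hg, hl⟩ := exists_koszul_nhd I (Algebra.FinitePresentation.ker_fG_of_surjective π hπ) P (hCI P)
  refine ⟨g, fun hm => hg ?_, hl⟩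
  exact Ideal.mem_map_of_mem _ hm

theorem isLCI_of_isSyntomic {S : Type u} [CommRing S] [Algebra R S] (h : Synt.IsSyntomic R S) :
    LCI.IsLCI R S := by
  haveI := h.2.1
  obtain ⟨d, π, hπ⟩ := Algebra.FiniteType.iff_quotient_mvPolynomial''.mp (inferInstance : Algebra.FiniteType R S)
  exact ⟨inferInstance, d, π, hπ, isKoszulRegularIdeal_ker h π hπ⟩

end Groth.L07.SyntLCI
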