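import Groth.Agent.L07.SyntField
import Groth.Agent.L06.FlatFibre
import Groth.Agent.L04.CMBasic

/-! Complete intersections are Cohen–Macaulay. -/

namespace Groth.L07.Synt

open IsLocalRing

set_option linter.style.haveILetI false

universe u

theorem isCM_quotient_regular {R : Type u} [CommRing R] [IsRegularLocalRing R] (rs : List R)
    (hrs : RingTheory.Sequence.IsRegular R rs) :
    LocCoh.IsCohenMacaulayLocalRing (R ⧸ Ideal.ofList rs) := by
  have hne : Ideal.ofList rs ≠ ⊤ := fun h => hrs.top_ne_smul (by rw [smul_eq_mul, Ideal.mul_top, h])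
  have hI : ∀ r ∈ rs, r ∈ maximalIdeal R := fun r hr => le_maximalIdeal hne (Ideal.subset_span hr)
  haveI := Groth.L01.isLocalRing_quotient hne
  have hM := Groth.L04.isCohenMacaulayModule_quotient_ofList
    ((Groth.L04.isCohenMacaulayLocalRing_of_regular R).supportDim_eq_depth) hrs.toIsWeaklyRegular hI
  have hof : (Ideal.ofList rs • (⊤ : Submodule R R)) = Ideal.ofList rs := by rw [smul_eq_mul, Ideal.mul_top]
  let el := Submodule.quotEquivOfEq _ _ hof
  unfold LocCoh.IsCohenMacaulayModule at hM
  rw [Module.supportDim_eq_of_equiv el, Module.supportDim_quotient_eq_ringKrullDim, LocCoh.depth,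
    Groth.L04.idealDepth_congr el,
    Groth.L04.idealDepth_eq_idealDepth_map_of_finite (B := R ⧸ Ideal.ofList rs) (maximalIdeal R) (R ⧸ Ideal.ofList rs),
    show (maximalIdeal R).map (algebraMap R (R ⧸ Ideal.ofList rs)) = maximalIdeal (R ⧸ Ideal.ofList rs) from
      (Groth.L01.maximalIdeal_quotient_eq_map).symm, ← LocCoh.depth] at hM
  exact { supportDim_eq_depth := by rw [Module.supportDim_self_eq_ringKrullDim]; exact hM }

theorem isCM_ringEquiv {A B : Type u} [CommRing A] [CommRing B] (e : A ≃+* B)
    (h : LocCoh.IsCohenMacaulayLocalRing A) : LocCoh.IsCohenMacaulayLocalRing B := by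
  haveI := h
  haveI := e.isLocalRing
  haveI := isNoetherianRing_of_ringEquiv A e
  refine { supportDim_eq_depth := ?_ }
  rw [Module.supportDim_self_eq_ringKrullDim, ← ringKrullDim_eq_of_ringEquiv e,
    ← Module.supportDim_self_eq_ringKrullDim, h.supportDim_eq_depth, Groth.L06.FlatFibre.depth_eq_of_ringEquiv e]

/-- Complete intersections over a field are Cohen–Macaulay. -/
theorem isCM_of_isCIOver {k S : Type u} [Field k] [CommRing S] [IsLocalRing S] [Algebra k S]
    (h : Synt.IsCIOver k S) : LocCoh.IsCohenMacaulayLocalRing S := by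
  obtain ⟨R, _, _, _, -, rs, -, hreg, ⟨e⟩⟩ := h
  exact isCM_ringEquiv e.symm.toRingEquiv (isCM_quotient_regular rs hreg)

theorem isCMRing_of_isLCIOver {k S : Type u} [Field k] [CommRing S] [Algebra k S]
    (h : Synt.IsLCIOver k S) : LocCoh.IsCohenMacaulayRing S := by
  obtain ⟨hft, h⟩ := isLCIOver_iff.mp h
  haveI := hft
  haveI : IsNoetherianRing S := Algebra.FiniteType.isNoetherianRing k S
  exact { isCohenMacaulayLocalRing_localization := fun p hp =>
    isCM_of_isCIOver ((isCIOver_atPrime_iff (k := k) p).mpr (h ⟨p, hp⟩)) }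

end Groth.L07.Synt
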