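import Groth.Agent.L07.SyntBase
import Groth.Agent.L07.CILocusScheme
import Groth.Prelude.Def_RegImm

/-! Syntomic morphisms of schemes. -/

namespace Groth.L07.SyntScheme

open CategoryTheory CategoryTheory.Limits AlgebraicGeometry PrimeSpectrum
open Groth.L07.CILocus

set_option linter.style.haveILetI false
set_option maxSynthPendingDepth 3

universe u

theorem primeIdealOf_fromSpec {X : Scheme.{u}} {U : X.Opens} (hU : IsAffineOpen U) (P : PrimeSpectrum Γ(X, U)) :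
    ∃ (y : X) (hy : y ∈ U), hU.primeIdealOf ⟨y, hy⟩ = P := by
  have hy : hU.fromSpec P ∈ U := hU.range_fromSpec.le ⟨P, rfl⟩
  haveI : IsOpenImmersion hU.fromSpec := hU.isOpenImmersion_fromSpec
  exact ⟨hU.fromSpec P, hy, hU.fromSpec.isOpenEmbedding.injective (hU.fromSpec_primeIdealOf ⟨_, hy⟩)⟩

/-- The sections of a complete intersection morphism are syntomic algebras. -/
theorem isSyntomic_appLE {X S : Scheme.{u}} {f : X ⟶ S} (hf : CInt.IsCIMorphism f) {V : S.Opens}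
    (hV : IsAffineOpen V) {U : X.Opens} (hU : IsAffineOpen U) (e : U ≤ f ⁻¹ᵁ V) :
    letI := (f.appLE V U e).hom.toAlgebra
    Synt.IsSyntomic Γ(S, V) Γ(X, U) := by
  obtain ⟨hflat, hlfp, hCI⟩ := hf
  letI := (f.appLE V U e).hom.toAlgebra
  haveI : Module.Flat Γ(S, V) Γ(X, U) := Flat.flat_appLE f hV hU e
  haveI : Algebra.FinitePresentation Γ(S, V) Γ(X, U) :=
    LocallyOfFinitePresentation.finitePresentation_appLE f hV hU e
  refine Groth.L07.SyntAlg.isSyntomic_iff.mpr ⟨inferInstance, fun P => ?_⟩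
  obtain ⟨y, hy, rfl⟩ := primeIdealOf_fromSpec hU P
  exact (ciAt_iff_fiberStalk f hV hU e y hy).mpr (hCI y)

/-- Syntomic morphisms are the flat complete intersection morphisms. -/
theorem isSyntomicMor_iff {X S : Scheme.{u}} (f : X ⟶ S) :
    Synt.IsSyntomicMor f ↔ CInt.IsCIMorphism f := by
  refine ⟨fun h => ?_, fun h x => ?_⟩
  · have hflat : Flat f := by
      refine (HasRingHomProperty.iff_exists_appLE (P := @Flat) (Q := RingHom.Flat)
        (RingHom.Flat.stableUnderComposition.stableUnderCompositionWithLocalizationAway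
          RingHom.Flat.holdsForLocalizationAway).1).mpr fun x => ?_
      obtain ⟨U, V, e, hx, hs⟩ := h x
      exact ⟨V, U, hx, e, hs.1⟩
    have hlfp : LocallyOfFinitePresentation f := by
      refine (HasRingHomProperty.iff_exists_appLE (P := @LocallyOfFinitePresentation) (Q := RingHom.FinitePresentation)
        (RingHom.finitePresentation_stableUnderComposition.stableUnderCompositionWithLocalizationAway
          RingHom.finitePresentation_holdsForLocalizationAway).1).mpr fun x => ?_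
      obtain ⟨U, V, e, hx, hs⟩ := h x
      exact ⟨V, U, hx, e, hs.2.1⟩
    refine ⟨hflat, hlfp, fun x => ?_⟩
    haveI := hflat
    haveI := hlfp
    obtain ⟨U, V, e, hx, hs⟩ := h x
    letI := (f.appLE V.1 U.1 e).hom.toAlgebra
    haveI : Algebra.FinitePresentation Γ(S, V.1) Γ(X, U.1) := hs.2.1
    exact (ciAt_iff_fiberStalk f V.2 U.2 e x hx).mp ((Groth.L07.SyntAlg.isSyntomic_iff.mp hs).2 _)
  · obtain ⟨_, ⟨V, hV, rfl⟩, hxV, -⟩ := S.isBasis_affineOpens.exists_subset_of_mem_open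
      (Set.mem_univ (f x)) isOpen_univ
    obtain ⟨_, ⟨W, hW, rfl⟩, hxW, hWV⟩ := X.isBasis_affineOpens.exists_subset_of_mem_open
      (show x ∈ f ⁻¹ᵁ V from hxV) (f ⁻¹ᵁ V).2
    exact ⟨⟨W, hW⟩, ⟨V, hV⟩, hWV, hxW, isSyntomic_appLE h hV hW hWV⟩

/-- Restriction to affine opens, as a map of spectra. -/
theorem isoSpec_hom_comp {X S : Scheme.{u}} (f : X ⟶ S) {V : S.Opens} (hV : IsAffineOpen V) {U : X.Opens}
    (hU : IsAffineOpen U) (e : U ≤ f ⁻¹ᵁ V) :
    hU.isoSpec.hom ≫ Spec.map (f.appLE V U e) = f.resLE V U e ≫ hV.isoSpec.hom := by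
  haveI : IsOpenImmersion hV.fromSpec := hV.isOpenImmersion_fromSpec
  rw [← cancel_mono hV.fromSpec, Category.assoc, Category.assoc, hV.SpecMap_appLE_fromSpec f hU e,
    hV.isoSpec_hom_fromSpec, hU.isoSpec_hom_fromSpec_assoc, Scheme.Hom.resLE_comp_ι]

/-- A standard syntomic neighbourhood in a given affine open of the base. -/
theorem exists_standard {X S : Scheme.{u}} (f : X ⟶ S) (x : X) (V : S.affineOpens) (hV : f.base x ∈ V.1)
    (h : Synt.IsSyntomicAt f x) :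
    ∃ (U : X.affineOpens) (e : U.1 ≤ f ⁻¹ᵁ V.1), x ∈ U.1 ∧ Synt.IsStandardSyntomic (f.resLE V.1 U.1 e) := by
  obtain ⟨U₀, V₀, e₀, hx₀, hs⟩ := h
  let g : (U₀.1 : Scheme.{u}) ⟶ S := U₀.1.ι ≫ f
  letI := (f.appLE V₀.1 U₀.1 e₀).hom.toAlgebra
  have hg : CInt.IsCIMorphism g := by
    haveI : Flat (f.resLE V₀.1 U₀.1 e₀) := by
      rw [HasRingHomProperty.iff_of_isAffine (P := @Flat)]
      exact (RingHom.Flat.respectsIso.arrow_mk_iso_iff (arrowResLEAppIso f V₀.1 U₀.1 e₀)).mpr hs.1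
    haveI : LocallyOfFinitePresentation (f.resLE V₀.1 U₀.1 e₀) := by
      rw [HasRingHomProperty.iff_of_isAffine (P := @LocallyOfFinitePresentation)]
      exact (RingHom.finitePresentation_respectsIso.arrow_mk_iso_iff (arrowResLEAppIso f V₀.1 U₀.1 e₀)).mpr hs.2.1
    have hgeq : g = f.resLE V₀.1 U₀.1 e₀ ≫ V₀.1.ι := (Scheme.Hom.resLE_comp_ι f e₀).symm
    haveI hgf : Flat g := hgeq ▸ inferInstance
    haveI hgp : LocallyOfFinitePresentation g := hgeq ▸ inferInstance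
    refine ⟨hgf, hgp, fun y => ?_⟩
    have e' : (⊤ : (U₀.1 : Scheme.{u}).Opens) ≤ g ⁻¹ᵁ V₀.1 := fun z _ => e₀ z.2
    letI := (g.appLE V₀.1 ⊤ e').hom.toAlgebra
    have hs' : Synt.IsSyntomic Γ(S, V₀.1) Γ((U₀.1 : Scheme.{u}), ⊤) := by
      refine Groth.L07.SyntBase.isSyntomic_ringEquiv (RingEquiv.refl _)
        U₀.1.topIso.symm.commRingCatIsoToRingEquiv (fun r => ?_) hs
      show U₀.1.topIso.inv (f.appLE V₀.1 U₀.1 e₀ r) = g.appLE V₀.1 ⊤ e' r
      rw [← ConcreteCategory.comp_apply]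
      congr 2
      simp only [g, Scheme.Hom.comp_appLE, Scheme.Opens.topIso_inv]
      erw [Scheme.Hom.appLE_map, Scheme.Opens.ι_appLE]
      rfl
    haveI : Algebra.FinitePresentation Γ(S, V₀.1) Γ((U₀.1 : Scheme.{u}), ⊤) := hs'.2.1
    exact (ciAt_iff_fiberStalk g V₀.2 (isAffineOpen_top _) e' y trivial).mp
      ((Groth.L07.SyntAlg.isSyntomic_iff.mp hs').2 _)
  obtain ⟨_, ⟨W, hW, rfl⟩, hxW, hWle⟩ := X.isBasis_affineOpens.exists_subset_of_mem_open
    (show x ∈ U₀.1 ⊓ f ⁻¹ᵁ V.1 from ⟨hx₀, hV⟩) (U₀.1 ⊓ f ⁻¹ᵁ V.1).2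
  have hWU : W ≤ U₀.1 := fun z hz => (hWle hz).1
  have hWV : W ≤ f ⁻¹ᵁ V.1 := fun z hz => (hWle hz).2
  let W' : (U₀.1 : Scheme.{u}).Opens := U₀.1.ι ⁻¹ᵁ W
  have hW' : IsAffineOpen W' := hW.preimage_of_isOpenImmersion U₀.1.ι (by
    rw [Scheme.Opens.opensRange_ι]; exact hWU)
  letI := (f.appLE V.1 W hWV).hom.toAlgebra
  have hsW : Synt.IsSyntomic Γ(S, V.1) Γ(X, W) := by
    have eW : W' ≤ g ⁻¹ᵁ V.1 := fun z hz => hWV (by exact hz)
    have h1 := isSyntomic_appLE hg V.2 hW' eW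
    have hWW : W ≤ U₀.1.ι ''ᵁ W' := by
      rw [Scheme.Hom.image_preimage_eq_opensRange_inf, Scheme.Opens.opensRange_ι]; exact le_inf hWU le_rfl
    haveI : IsIso (U₀.1.ι.app W) := by
      refine U₀.1.ι.isIso_app W ?_
      rw [Scheme.Opens.opensRange_ι]; exact hWU
    letI := (g.appLE V.1 W' eW).hom.toAlgebra
    refine Groth.L07.SyntBase.isSyntomic_ringEquiv (RingEquiv.refl _)
      (asIso (U₀.1.ι.app W)).symm.commRingCatIsoToRingEquiv (fun r => ?_) h1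
    show inv (U₀.1.ι.app W) (g.appLE V.1 W' eW r) = f.appLE V.1 W hWV r
    rw [← ConcreteCategory.comp_apply]
    congr 2
    rw [IsIso.comp_inv_eq, Scheme.Hom.app_eq_appLE, Scheme.Hom.appLE_comp_appLE]
  have hlx : f.base x ∈ V.1 := hV
  let P := hW.primeIdealOf ⟨x, hxW⟩
  obtain ⟨hflat, hfp, -⟩ := id hsW
  haveI := hfp
  haveI := hflat
  haveI : Module.Flat Γ(S, V.1) (Localization.AtPrime P.asIdeal) := Module.Flat.trans _ Γ(X, W) _
  obtain ⟨a, ha, m, c, F, hF, ⟨E⟩⟩ := Groth.L07.SyntAlg.exists_relGCI_nhd' P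
    ((Groth.L07.SyntAlg.isSyntomic_iff.mp hsW).2 P)
  let D := X.basicOpen a
  have hD : IsAffineOpen D := hW.basicOpen a
  have hDV : D ≤ f ⁻¹ᵁ V.1 := (X.basicOpen_le a).trans hWV
  have hxD : x ∈ D := by
    have hmem : P ∈ PrimeSpectrum.basicOpen a := ha
    rw [← IsAffineOpen.fromSpec_preimage_basicOpen hW a] at hmem
    have : hW.fromSpec P ∈ X.basicOpen a := hmem
    rwa [hW.fromSpec_primeIdealOf] at this
  refine ⟨⟨D, hD⟩, hDV, hxD, Γ(S, V.1), inferInstance, m, c, F, hF, ?_⟩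
  haveI := hW.isLocalization_basicOpen a
  let E₁ : Localization.Away a ≃ₐ[Γ(X, W)] Γ(X, D) := IsLocalization.algEquiv (Submonoid.powers a) _ _
  have hcomm : f.appLE V.1 D hDV =
      CommRingCat.ofHom (algebraMap Γ(S, V.1) (Synt.RelGCIRing Γ(S, V.1) m c F)) ≫
        (E.toRingEquiv.symm.trans E₁.toRingEquiv).toCommRingCatIso.hom := by
    ext r
    show f.appLE V.1 D hDV r = E₁ (E.symm (algebraMap _ _ r))
    rw [E.symm.commutes, IsScalarTower.algebraMap_apply Γ(S, V.1) Γ(X, W) (Localization.Away a), E₁.commutes]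
    show _ = X.presheaf.map (homOfLE (X.basicOpen_le a)).op (f.appLE V.1 W hWV r)
    rw [← ConcreteCategory.comp_apply, Scheme.Hom.appLE_map]
  refine ⟨hD.isoSpec ≪≫ Scheme.Spec.mapIso (E.toRingEquiv.symm.trans E₁.toRingEquiv).toCommRingCatIso.op,
    V.2.isoSpec, ?_⟩
  rw [← isoSpec_hom_comp f V.2 hD hDV, hcomm, Spec.map_comp]
  rfl

/-- Standard syntomic restrictions are syntomic. -/
theorem isSyntomicAt_of_standard {X S : Scheme.{u}} (f : X ⟶ S) (x : X) (V : S.affineOpens)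
    (U : X.affineOpens) (e : U.1 ≤ f ⁻¹ᵁ V.1) (hx : x ∈ U.1)
    (h : Synt.IsStandardSyntomic (f.resLE V.1 U.1 e)) : Synt.IsSyntomicAt f x := by
  obtain ⟨R, _, n, c, F, hF, e₁, e₂, he⟩ := h
  refine ⟨U, V, e, hx, ?_⟩
  let T := Synt.RelGCIRing R n c F
  let i₁ : Spec Γ(X, U.1) ≅ Spec (CommRingCat.of T) := U.2.isoSpec.symm ≪≫ e₁
  let i₂ : Spec Γ(S, V.1) ≅ Spec (CommRingCat.of R) := V.2.isoSpec.symm ≪≫ e₂
  let a₁ : CommRingCat.of T ≅ Γ(X, U.1) :=
    ((Spec.fullyFaithful.preimageIso (X := Opposite.op Γ(X, U.1)) (Y := Opposite.op (CommRingCat.of T)) i₁).unop)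
  let a₂ : CommRingCat.of R ≅ Γ(S, V.1) :=
    ((Spec.fullyFaithful.preimageIso (X := Opposite.op Γ(S, V.1)) (Y := Opposite.op (CommRingCat.of R)) i₂).unop)
  have h₁ : Spec.map a₁.hom = i₁.hom := Spec.fullyFaithful.map_preimage i₁.hom
  have h₂ : Spec.map a₂.hom = i₂.hom := Spec.fullyFaithful.map_preimage i₂.hom
  have hw : CommRingCat.ofHom (algebraMap R T) ≫ a₁.hom = a₂.hom ≫ f.appLE V.1 U.1 e := by
    apply Spec.map_injective
    rw [Spec.map_comp, Spec.map_comp, h₁, h₂]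
    show (U.2.isoSpec.inv ≫ e₁.hom) ≫ _ = _ ≫ (V.2.isoSpec.inv ≫ e₂.hom)
    rw [Category.assoc, he, Iso.inv_comp_eq, ← Category.assoc U.2.isoSpec.hom, isoSpec_hom_comp f V.2 U.2 e,
      Category.assoc, Iso.hom_inv_id_assoc]
  letI := (f.appLE V.1 U.1 e).hom.toAlgebra
  refine Groth.L07.SyntBase.isSyntomic_ringEquiv a₂.commRingCatIsoToRingEquiv a₁.commRingCatIsoToRingEquiv
    (fun r => ?_) (Groth.L07.SyntRel.isSyntomic_of_isRelGCI hF)
  exact congrArg (fun φ => φ.hom r) hw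

end Groth.L07.SyntScheme
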