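import Groth.Agent.L07.SyntCM

/-! More on complete intersections over a field. -/

namespace Groth.L07.Synt

open IsLocalRing RingTheory.Sequence

set_option linter.style.haveILetI false

universe u

theorem isGlobalCI_away_of_isGlobalCI {k : Type u} [Field k] {S : Type u} [CommRing S] [Algebra k S]
    (g : S) (h : Synt.IsGlobalCI k S) : Synt.IsGlobalCI k (Localization.Away g) := by
  rcases h with h | ⟨n, c, hcn, φ, r, hφ, hk, hd⟩
  · exact Or.inl (((IsLocalization.subsingleton_iff (S := Localization.Away g) (M := Submonoid.powers g)).mpr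
      (by rw [Subsingleton.elim (0 : S) g]; exact Submonoid.mem_powers g)))
  obtain ⟨g, rfl⟩ := hφ g
  have hCI := isGlobalCI_away (RingHom.ker φ.toRingHom) r
    (fun i => hk ▸ Ideal.subset_span ⟨i, rfl⟩) g
    (fun y hy => hk ▸ Ideal.mul_mem_left _ _ hy)
    (fun q _ hq _ => (bound_of_isGlobalCI φ.toRingHom hφ hcn hd q hq).1)
  let e : (MvPolynomial (Fin n) k ⧸ RingHom.ker φ.toRingHom) ≃ₐ[k] S :=
    Ideal.quotientKerAlgEquivOfSurjective (f := φ) hφ
  exact isGlobalCI_of_algEquiv (AlgEquiv.ofRingEquiv (f := IsLocalization.ringEquivOfRingEquiv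
    (M := Submonoid.powers (Ideal.Quotient.mk (RingHom.ker φ.toRingHom) g)) (T := Submonoid.powers (φ g))
    (Localization.Away (Ideal.Quotient.mk (RingHom.ker φ.toRingHom) g)) (Localization.Away (φ g))
    e.toRingEquiv (by rw [Submonoid.map_powers]; rfl)) (fun x => by
    rw [IsScalarTower.algebraMap_apply k (MvPolynomial (Fin n) k ⧸ RingHom.ker φ.toRingHom)
      (Localization.Away _), IsLocalization.ringEquivOfRingEquiv_eq]
    show algebraMap S _ (e (algebraMap k _ x)) = _
    rw [e.commutes, ← IsScalarTower.algebraMap_apply])) hCI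

/-- Complete intersection points are those with a global complete intersection neighbourhood. -/
theorem isCI_atPrime_iff_exists {k : Type u} [Field k] {S : Type u} [CommRing S] [Algebra k S]
    [Algebra.FiniteType k S] (P : Ideal S) [P.IsPrime] :
    Pi1.IsCompleteIntersection (Localization.AtPrime P) ↔
      ∃ g ∉ P, Synt.IsGlobalCI k (Localization.Away g) := by
  refine ⟨exists_globalCI_away P, fun ⟨g, hg, hCI⟩ => ?_⟩
  haveI : IsNoetherianRing S := Algebra.FiniteType.isNoetherianRing k S
  obtain ⟨P', hP'⟩ : (⟨P, ‹_›⟩ : PrimeSpectrum S) ∈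
      Set.range (PrimeSpectrum.comap (algebraMap S (Localization.Away g))) := by
    rw [PrimeSpectrum.localization_away_comap_range (Localization.Away g) g]; exact hg
  have hPI : P = P'.asIdeal.comap (algebraMap S (Localization.Away g)) :=
    (congrArg PrimeSpectrum.asIdeal hP').symm
  subst hPI
  exact (isCI_away_iff P'.asIdeal).mpr (isCI_of_isGlobalCI hCI P'.asIdeal)

/-- A complete intersection over a field is a local ring of a global complete intersection. -/
theorem exists_globalCI_model {k S : Type u} [Field k] [CommRing S] [IsLocalRing S] [Algebra k S]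
    [Algebra.EssFiniteType k S] (h : Pi1.IsCompleteIntersection S) :
    ∃ (A : Type u) (_ : CommRing A) (_ : Algebra k A) (a : Ideal A) (_ : a.IsPrime),
      Algebra.FiniteType k A ∧ Synt.IsGlobalCI k A ∧ Nonempty (S ≃ₐ[k] Localization.AtPrime a) := by
  haveI : IsNoetherianRing S := Algebra.EssFiniteType.isNoetherianRing k S
  let A := Algebra.EssFiniteType.subalgebra k S
  let a := (maximalIdeal S).comap (algebraMap A S)
  haveI : IsLocalization.AtPrime S a := by
    show IsLocalization a.primeCompl S
    have : a.primeCompl = Algebra.EssFiniteType.submonoid k S := Submonoid.ext fun x => by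
      show ¬(algebraMap A S x ∈ maximalIdeal S) ↔ IsUnit (algebraMap A S x)
      exact IsLocalRing.notMem_maximalIdeal
    rw [this]
    infer_instance
  haveI : IsNoetherianRing A := Algebra.FiniteType.isNoetherianRing k A
  haveI : IsNoetherianRing (Localization.AtPrime a) := IsLocalization.isNoetherianRing a.primeCompl _ inferInstance
  let e : S ≃ₐ[k] Localization.AtPrime a :=
    (IsLocalization.algEquiv a.primeCompl S (Localization.AtPrime a)).restrictScalars k
  obtain ⟨g, hg, hCI⟩ := exists_globalCI_away (k := k) a
    (Groth.L07.Avramov.isCompleteIntersection_of_ringEquiv e.toRingEquiv h)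
  obtain ⟨P', hP'⟩ : (⟨a, inferInstance⟩ : PrimeSpectrum A) ∈
      Set.range (PrimeSpectrum.comap (algebraMap A (Localization.Away g))) := by
    rw [PrimeSpectrum.localization_away_comap_range (Localization.Away g) g]; exact hg
  haveI : Algebra.FiniteType A (Localization.Away g) := IsLocalization.finiteType_of_monoid_fg (Submonoid.powers g) _
  haveI : IsLocalization.AtPrime (Localization.AtPrime P'.asIdeal) a := by
    have ha : a = P'.asIdeal.comap (algebraMap A (Localization.Away g)) := (congrArg PrimeSpectrum.asIdeal hP').symm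
    show IsLocalization a.primeCompl _
    rw [show a.primeCompl = (P'.asIdeal.comap (algebraMap A (Localization.Away g))).primeCompl from
      Submonoid.ext fun z => not_congr (iff_of_eq (congrArg (fun J : Ideal A => z ∈ J) ha))]
    exact IsLocalization.isLocalization_isLocalization_atPrime_isLocalization
      (Submonoid.powers g) (Localization.AtPrime P'.asIdeal) P'.asIdeal
  exact ⟨Localization.Away g, inferInstance, inferInstance, P'.asIdeal, inferInstance,
    Algebra.FiniteType.trans (S := A) inferInstance inferInstance, hCI,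
    ⟨e.trans ((IsLocalization.algEquiv a.primeCompl (Localization.AtPrime a)
      (Localization.AtPrime P'.asIdeal)).restrictScalars k)⟩⟩

/-- A local algebra essentially of finite type over a field is a quotient of a regular one. -/
theorem exists_regular_presentation (k S : Type u) [Field k] [CommRing S] [IsLocalRing S] [Algebra k S]
    [Algebra.EssFiniteType k S] :
    ∃ (R : Type u) (_ : CommRing R) (_ : IsRegularLocalRing R) (_ : Algebra k R),
      Algebra.EssFiniteType k R ∧ ∃ π : R →ₐ[k] S, Function.Surjective π := by
  let A := Algebra.EssFiniteType.subalgebra k S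
  obtain ⟨n, ρ, hρ⟩ := Algebra.FiniteType.iff_quotient_mvPolynomial''.mp (inferInstance : Algebra.FiniteType k A)
  let ψ : MvPolynomial (Fin n) k →ₐ[k] S := A.val.comp ρ
  let Q := (maximalIdeal S).comap ψ.toRingHom
  haveI : IsRegularLocalRing (Localization.AtPrime Q) := IsRegularRing.isRegularLocalRing_localization Q
  let L : Localization.AtPrime Q →ₐ[k] S := IsLocalization.liftAlgHom (M := Q.primeCompl) (f := ψ)
    (fun y => IsLocalRing.notMem_maximalIdeal.mp y.2)
  refine ⟨Localization.AtPrime Q, inferInstance, inferInstance, inferInstance,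
    Algebra.EssFiniteType.comp k (MvPolynomial (Fin n) k) _, L, fun s => ?_⟩
  obtain ⟨x, t, rfl⟩ := IsLocalization.exists_mk'_eq (Algebra.EssFiniteType.submonoid k S) s
  obtain ⟨a, ha⟩ := hρ x
  obtain ⟨b, hb⟩ := hρ (t : A)
  have hbQ : b ∈ Q.primeCompl := by
    refine IsLocalRing.notMem_maximalIdeal.mpr ?_
    show IsUnit (algebraMap A S (ρ b))
    rw [hb]; exact t.2
  refine ⟨IsLocalization.mk' _ a (⟨b, hbQ⟩ : Q.primeCompl), ?_⟩
  rw [IsLocalization.eq_mk'_iff_mul_eq]
  have h1 := congrArg L (IsLocalization.mk'_spec (Localization.AtPrime Q) a (⟨b, hbQ⟩ : Q.primeCompl))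
  have hψ : ∀ y, L (algebraMap _ _ y) = algebraMap A S (ρ y) := fun y => IsLocalization.lift_eq _ _
  rw [map_mul, hψ, hψ, ha, hb] at h1
  exact h1

/-- The dimension of the localised quotient and of the localised polynomial ring. -/
theorem ringKrullDim_quotient_map {A : Type u} [CommRing A] (I : Ideal A) (q : Ideal (A ⧸ I)) [q.IsPrime] :
    ringKrullDim (Localization.AtPrime (q.comap (Ideal.Quotient.mk I)) ⧸
      I.map (algebraMap A (Localization.AtPrime (q.comap (Ideal.Quotient.mk I))))) = (q.height : WithBot ℕ∞) := by
  obtain ⟨h1, h2⟩ := Groth.L07.CILocus.localRingHom_surjective (Ideal.Quotient.mk I) Ideal.Quotient.mk_surjective q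
  rw [Ideal.mk_ker] at h2
  rw [← IsLocalization.AtPrime.ringKrullDim_eq_height q (Localization.AtPrime q)]
  exact ringKrullDim_eq_of_ringEquiv
    ((Ideal.quotEquivOfEq h2.symm).trans (RingHom.quotientKerEquivOfSurjective h1))

/-- In a regular local ring `c` generators of an ideal cutting the dimension by `c` form a regular
sequence, and every regular generating sequence has that length. -/
theorem regular_of_dim {R : Type u} [CommRing R] [IsRegularLocalRing R] {J : Ideal R} (hJ : J ≤ maximalIdeal R)
    {c a b : ℕ} (hR : ringKrullDim R = (a : WithBot ℕ∞)) (hQ : ringKrullDim (R ⧸ J) = (b : WithBot ℕ∞))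
    (habc : c + b = a) :
    (∀ l : List R, Ideal.ofList l = J → l.length = c → IsRegular R l) ∧
      ∀ l : List R, Ideal.ofList l = J → IsRegular R l → l.length = c := by
  constructor
  · intro l hl hlen
    refine ⟨Groth.L07.RegQuot.isWeaklyRegular_of_dim l (fun r hr => hJ (hl ▸ Ideal.subset_span hr)) ?_,
      fun htop => (maximalIdeal.isMaximal R).ne_top (top_le_iff.mp ?_)⟩
    · rw [ringKrullDim_eq_of_ringEquiv (Ideal.quotEquivOfEq hl), hQ, hR, hlen]
      exact_mod_cast (show b + c ≤ a by omega)
    · rw [smul_eq_mul, Ideal.mul_top, hl] at htop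
      exact htop.le.trans hJ
  · intro l hl hreg
    have h := Groth.L04.supportDim_quotient_ofList_add hreg.toIsWeaklyRegular
      (fun r hr => hJ (hl ▸ Ideal.subset_span hr))
    rw [Module.supportDim_self_eq_ringKrullDim,
      Module.supportDim_eq_of_equiv (Submodule.quotEquivOfEq _ J (by rw [smul_eq_mul, Ideal.mul_top, hl])),
      Module.supportDim_quotient_eq_ringKrullDim, hQ, hR] at h
    have : b + l.length = a := by exact_mod_cast h
    omega

end Groth.L07.Synt
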