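import Groth.Agent.L07.OpenDim
import Mathlib.RingTheory.Flat.TorsionFree
import Mathlib.AlgebraicGeometry.Modules.Tilde

/-! Flatness over a discrete valuation ring at a point with reduced fibre. -/

set_option autoImplicit false
set_option linter.style.haveILetI false
set_option maxSynthPendingDepth 3

universe u

open CategoryTheory CategoryTheory.Limits AlgebraicGeometry Topology

namespace Groth.L07.DVRFlat

/-- If every minimal prime of the closed fibre has a generization avoiding the uniformizer and the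
closed fibre is reduced, the algebra is flat over the discrete valuation ring. -/
theorem flat_of_reduced_fibre (A B : Type u) [CommRing A] [IsDomain A] [IsDiscreteValuationRing A]
    [CommRing B] [IsLocalRing B] [IsNoetherianRing B] [Algebra A B] [IsLocalHom (algebraMap A B)]
    (hred : IsReduced (B ⧸ (IsLocalRing.maximalIdeal A).map (algebraMap A B)))
    (hlift : ∀ Q ∈ ((IsLocalRing.maximalIdeal A).map (algebraMap A B)).minimalPrimes,
      ∃ P : Ideal B, P.IsPrime ∧ P ≤ Q ∧ P.comap (algebraMap A B) = ⊥) :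
    Module.Flat A B := by
  obtain ⟨π, hπ⟩ := IsDiscreteValuationRing.exists_irreducible A
  have hm : IsLocalRing.maximalIdeal A = Ideal.span {π} := hπ.maximalIdeal_eq
  have hI : (IsLocalRing.maximalIdeal A).map (algebraMap A B) = Ideal.span {algebraMap A B π} := by
    rw [hm, Ideal.map_span, Set.image_singleton]
  set b := algebraMap A B π with hb
  have hbm : b ∈ IsLocalRing.maximalIdeal B := map_nonunit (algebraMap A B) π (by rw [hm]; exact Ideal.mem_span_singleton_self π)
  -- the torsion
  let T : Ideal B :=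
    { carrier := {x | ∃ n : ℕ, b ^ n * x = 0}
      add_mem' := fun {x y} ⟨n, hn⟩ ⟨k, hk⟩ => ⟨n + k, by
        rw [mul_add, pow_add, mul_right_comm, hn, zero_mul, zero_add, mul_assoc, hk, mul_zero]⟩
      zero_mem' := ⟨0, mul_zero _⟩
      smul_mem' := fun c x ⟨n, hn⟩ => ⟨n, by rw [smul_eq_mul, mul_left_comm, hn, mul_zero]⟩ }
  have hrad : (Ideal.span {b}).IsRadical := (Ideal.isRadical_iff_quotient_reduced _).mpr (hI ▸ hred)
  have hTb : T ≤ Ideal.span {b} := by
    intro x ⟨n, hn⟩
    rw [← hrad.radical, ← Ideal.sInf_minimalPrimes, Ideal.mem_sInf]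
    intro Q hQ
    obtain ⟨P, hP, hPQ, hP0⟩ := hlift Q (hI ▸ hQ)
    refine hPQ ((hP.mem_or_mem (hn ▸ P.zero_mem : b ^ n * x ∈ P)).resolve_left fun hbn => hπ.ne_zero ?_)
    have h1 : π ∈ P.comap (algebraMap A B) := hP.mem_of_pow_mem n hbn
    rwa [hP0] at h1
  have hT : T = ⊥ := by
    refine Submodule.eq_bot_of_le_smul_of_le_jacobson_bot (Ideal.span {b}) T (IsNoetherian.noetherian T) ?_ ?_
    · intro x hx
      obtain ⟨s, rfl⟩ := Ideal.mem_span_singleton'.mp (hTb hx)
      obtain ⟨n, hn⟩ := hx
      rw [mul_comm s b, ← smul_eq_mul]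
      exact Submodule.smul_mem_smul (Ideal.mem_span_singleton_self b)
        (show s ∈ T from ⟨n + 1, by rw [pow_succ, mul_assoc, mul_comm b s, hn]⟩)
    · rw [IsLocalRing.jacobson_eq_maximalIdeal ⊥ bot_ne_top, Ideal.span_le]
      simpa using hbm
  rw [Module.Flat.flat_iff_torsion_eq_bot_of_isBezout, Submodule.eq_bot_iff]
  rintro x ⟨⟨a, ha⟩, hax⟩
  obtain ⟨n, u, hu⟩ := IsDiscreteValuationRing.eq_unit_mul_pow_irreducible (nonZeroDivisors.ne_zero ha) hπ
  change a • x = 0 at hax
  rw [Algebra.smul_def, hu, map_mul, map_pow, mul_assoc,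
    (u.isUnit.map (algebraMap A B)).mul_right_eq_zero] at hax
  exact (hT.le ⟨n, hax⟩ : x ∈ (⊥ : Ideal B))

theorem stalk_dvr {A : Type u} [CommRing A] [IsDomain A] [IsDiscreteValuationRing A]
    (y : ↥(Spec (CommRingCat.of A))) (hy : y = IsLocalRing.closedPoint A) :
    ∃ _ : IsDomain ((Spec (CommRingCat.of A)).presheaf.stalk y),
      IsDiscreteValuationRing ((Spec (CommRingCat.of A)).presheaf.stalk y) := by
  subst hy
  have hu : (IsLocalRing.closedPoint A).asIdeal.primeCompl ≤ IsUnit.submonoid A := fun a ha =>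
    not_not.mp fun h => ha h
  let p : PrimeSpectrum A := IsLocalRing.closedPoint A
  haveI : IsLocalization.AtPrime ((Spec.structureSheaf A).presheaf.stalk p) p.asIdeal :=
    StructureSheaf.IsLocalization.to_stalk A p
  let e : A ≃+* (Spec.structureSheaf A).presheaf.stalk p :=
    (IsLocalization.atUnits A p.asIdeal.primeCompl hu).toRingEquiv
  haveI hd : IsDomain ((Spec.structureSheaf A).presheaf.stalk p) := e.symm.toMulEquiv.isDomain
  refine ⟨hd, ?_⟩
  exact (IsDiscreteValuationRing.RingEquivClass.isDiscreteValuationRing e :)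

theorem flat_stalkMap {A : Type u} [CommRing A] [IsDomain A] [IsDiscreteValuationRing A] {X : Scheme.{u}}
    (f : X ⟶ Spec (CommRingCat.of A)) [LocallyOfFiniteType f] (x : X)
    (hx : f.base x = IsLocalRing.closedPoint A)
    (h : ∀ z : ↥(f.fiber (f.base x)), f.asFiber x ∈ closure {z} →
      (∀ z' : ↥(f.fiber (f.base x)), z ∈ closure {z'} → z' = z) →
      EGA43.IsOpenAt f.base ((f.fiberι (f.base x)).base z))
    (hred : IsReduced ((f.fiber (f.base x)).presheaf.stalk (f.asFiber x))) :
    (f.stalkMap x).hom.Flat := by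
  haveI : IsLocallyNoetherian X := LocallyOfFiniteType.isLocallyNoetherian f
  obtain ⟨_, _⟩ := stalk_dvr (f.base x) hx
  obtain ⟨e⟩ := Groth.L07.CIScheme.exists_fiberStalkEquiv f (f.base x) (f.asFiber x) x (f.fiberι_asFiber x)
  letI := (f.stalkMap x).hom.toAlgebra
  haveI : IsLocalHom (algebraMap ((Spec (CommRingCat.of A)).presheaf.stalk (f.base x)) (X.presheaf.stalk x)) :=
    inferInstanceAs (IsLocalHom (f.stalkMap x).hom)
  haveI := hred
  exact flat_of_reduced_fibre _ _ (isReduced_of_injective e.toRingHom e.injective) fun Q hQ =>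
    Groth.L07.OpenDim.exists_prime_le_of_isOpenAt f x h Q hQ ⊥

end Groth.L07.DVRFlat
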