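import Groth.Agent.L07.FlatGeneric
import Groth.Agent.L07.DVRFlat
import Groth.Agent.L03.GeomReduced2
import Mathlib.RingTheory.Ideal.GoingUp
import Mathlib.RingTheory.LocalRing.ResidueField.Ideal
import Mathlib.Algebra.Polynomial.Lifts
import Groth.Prelude.Def_EGA43

/-!
Flatness at a point with geometrically reduced fibre from openness after base change to discrete valuation rings.
-/

universe u

open TensorProduct PrimeSpectrum

namespace Groth.L07.FlatGeomReduced

set_option linter.style.haveILetI false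
set_option maxSynthPendingDepth 3

variable {R C : Type u} [CommRing R] [CommRing C] [Algebra R C]

/-- The base change of the localization map. -/
noncomputable abbrev toS (𝔮 : Ideal C) [𝔮.IsPrime] (B : Type u) [CommRing B] [Algebra R B] :
    C ⊗[R] B →ₐ[R] Localization.AtPrime 𝔮 ⊗[R] B :=
  Algebra.TensorProduct.map (IsScalarTower.toAlgHom R C (Localization.AtPrime 𝔮)) (AlgHom.id R B)

/-- The map from the base change of a local ring to a local ring of the base change. -/
theorem exists_toLoc (𝔮 : Ideal C) [𝔮.IsPrime] {B : Type u} [CommRing B] [Algebra R B]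
    (Q : Ideal (C ⊗[R] B)) [Q.IsPrime] (hQ : Q.comap Algebra.TensorProduct.includeLeftRingHom ≤ 𝔮) :
    ∃ toL : Localization.AtPrime 𝔮 ⊗[R] B →ₐ[R] Localization.AtPrime Q,
      ∀ x, toL (toS 𝔮 B x) = algebraMap (C ⊗[R] B) (Localization.AtPrime Q) x := by
  let toL : Localization.AtPrime 𝔮 ⊗[R] B →ₐ[R] Localization.AtPrime Q := Algebra.TensorProduct.lift
    { IsLocalization.lift (M := 𝔮.primeCompl) (S := Localization.AtPrime 𝔮)
        (g := (algebraMap (C ⊗[R] B) (Localization.AtPrime Q)).comp Algebra.TensorProduct.includeLeftRingHom)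
        (fun c => IsLocalization.map_units _ (⟨_, fun h => c.2 (hQ h)⟩ : Q.primeCompl)) with
      commutes' := fun r => by
        show IsLocalization.lift _ (algebraMap R (Localization.AtPrime 𝔮) r) = _
        rw [IsScalarTower.algebraMap_apply R C (Localization.AtPrime 𝔮), IsLocalization.lift_eq,
          IsScalarTower.algebraMap_apply R (C ⊗[R] B) (Localization.AtPrime Q)]
        rfl }
    ((IsScalarTower.toAlgHom R (C ⊗[R] B) (Localization.AtPrime Q)).comp Algebra.TensorProduct.includeRight)
    (fun _ _ => Commute.all _ _)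
  refine ⟨toL, fun x => ?_⟩
  induction x using TensorProduct.induction_on with
  | zero => simp
  | add a b ha hb => simp only [map_add, ha, hb]
  | tmul a b => simp [toL, toS, IsLocalization.lift_eq, ← map_mul]

/-- The fibres of the scheme are reduced at every point above `𝔮`. -/
def GeomRedAt (R : Type u) [CommRing R] {C : Type u} [CommRing C] [Algebra R C] (𝔮 : Ideal C) : Prop :=
  ∀ (L : Type u) [Field L] [Algebra R L], RingHom.ker (algebraMap R L) = 𝔮.comap (algebraMap R C) →
    ∀ (Q : Ideal (C ⊗[R] L)) [Q.IsPrime], Q.comap Algebra.TensorProduct.includeLeftRingHom = 𝔮 →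
      IsReduced (Localization.AtPrime Q)

/-- The base change of the local ring to the algebraic closure of the residue field is integral. -/
theorem isIntegral_algClosure (𝔮 : Ideal C) [𝔮.IsPrime] (p : Ideal R) [p.IsPrime]
    (hp : 𝔮.comap (algebraMap R C) = p) :
    (Algebra.TensorProduct.includeLeftRingHom :
      Localization.AtPrime 𝔮 →+* Localization.AtPrime 𝔮 ⊗[R] AlgebraicClosure p.ResidueField).IsIntegral := by
  let S := Localization.AtPrime 𝔮
  let K := AlgebraicClosure p.ResidueField
  let j : S →+* S ⊗[R] K := Algebra.TensorProduct.includeLeftRingHom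
  intro z
  induction z using TensorProduct.induction_on with
  | zero => exact j.isIntegralElem_zero
  | add a b ha hb => exact RingHom.IsIntegralElem.add j ha hb
  | tmul a z =>
    rw [show a ⊗ₜ[R] z = j a * ((1 : S) ⊗ₜ[R] z) by simp [j]]
    refine RingHom.IsIntegralElem.mul j (j.isIntegralElem_map) ?_
    obtain ⟨g, hg, hgz⟩ := (Algebra.IsIntegral.isIntegral (R := p.ResidueField) z)
    obtain ⟨g', hg', -, hg'm⟩ := Polynomial.lifts_and_natDegree_eq_and_monic
      (Polynomial.map_surjective (IsLocalRing.residue (Localization.AtPrime p)) IsLocalRing.residue_surjective g) hg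
    let σ : Localization.AtPrime p →+* S := Localization.localRingHom p 𝔮 (algebraMap R C) hp.symm
    refine ⟨g'.map σ, hg'm.map σ, ?_⟩
    let inc : K →+* S ⊗[R] K := (Algebra.TensorProduct.includeRight : K →ₐ[R] S ⊗[R] K).toRingHom
    have hcomp : j.comp σ = inc.comp ((algebraMap p.ResidueField K).comp (IsLocalRing.residue _)) := by
      refine IsLocalization.ringHom_ext p.primeCompl (RingHom.ext fun r => ?_)
      simp only [RingHom.comp_apply, σ]
      rw [Localization.localRingHom_to_map p 𝔮 (algebraMap R C) hp.symm r]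
      rw [show IsLocalRing.residue _ (algebraMap R (Localization.AtPrime p) r) =
        algebraMap R p.ResidueField r from rfl, ← IsScalarTower.algebraMap_apply R p.ResidueField K,
        ← IsScalarTower.algebraMap_apply R C S]
      show algebraMap R S r ⊗ₜ[R] (1 : K) = (1 : S) ⊗ₜ[R] algebraMap R K r
      rw [Algebra.algebraMap_eq_smul_one, Algebra.algebraMap_eq_smul_one, smul_tmul]
    show Polynomial.eval₂ j (inc z) (g'.map σ) = 0
    rw [Polynomial.eval₂_map, hcomp, ← Polynomial.hom_eval₂, ← Polynomial.eval₂_map, hg', hgz, map_zero]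

/-- Geometric reducedness at a point makes the base change of the local ring to the algebraic closure reduced. -/
theorem isReduced_algClosure (𝔮 : Ideal C) [𝔮.IsPrime] (hred : GeomRedAt R 𝔮) (p : Ideal R) [p.IsPrime]
    (hp : 𝔮.comap (algebraMap R C) = p) :
    IsReduced (Localization.AtPrime 𝔮 ⊗[R] AlgebraicClosure p.ResidueField) := by
  let S := Localization.AtPrime 𝔮
  let K := AlgebraicClosure p.ResidueField
  have hK : RingHom.ker (algebraMap R K) = 𝔮.comap (algebraMap R C) := by
    rw [IsScalarTower.algebraMap_eq R p.ResidueField K,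
      RingHom.ker_comp_of_injective _ (algebraMap p.ResidueField K).injective, Ideal.ker_algebraMap_residueField, hp]
  refine ⟨fun z hz => ?_⟩
  refine Submodule.span_singleton_eq_bot.mp (le_bot_iff.mp ?_ : (Ideal.span {z}) = ⊥)
  by_contra hne
  rw [Ideal.span_le, Set.singleton_subset_iff] at hne
  let ann : Ideal (S ⊗[R] K) :=
    { carrier := {u | u * z = 0}
      add_mem' := fun {a b} ha hb => by simp_all [add_mul]
      zero_mem' := zero_mul z
      smul_mem' := fun c a ha => by simp_all [smul_eq_mul, mul_assoc] }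
  obtain ⟨M, hM, hannM⟩ := Ideal.exists_le_maximal ann (fun h => hne (by
    have := (Ideal.eq_top_iff_one _).mp h
    simpa [ann] using this))
  have hMS : M.comap Algebra.TensorProduct.includeLeftRingHom = IsLocalRing.maximalIdeal S :=
    IsLocalRing.eq_maximalIdeal
      (Ideal.isMaximal_comap_of_isIntegral_of_isMaximal' _ (isIntegral_algClosure 𝔮 p hp) M)
  let Q : Ideal (C ⊗[R] K) := M.comap (toS (R := R) 𝔮 K).toRingHom
  have hQ : Q.comap Algebra.TensorProduct.includeLeftRingHom = 𝔮 := by
    ext c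
    show toS (R := R) 𝔮 K (c ⊗ₜ[R] (1 : K)) ∈ M ↔ _
    simp only [toS, Algebra.TensorProduct.map_tmul, map_one, IsScalarTower.coe_toAlgHom']
    show algebraMap C S c ∈ M.comap Algebra.TensorProduct.includeLeftRingHom ↔ _
    rw [hMS]
    exact IsLocalization.AtPrime.to_map_mem_maximal_iff S 𝔮 c
  haveI := hred K hK Q hQ
  obtain ⟨c, hc, w, hw⟩ := Groth.L07.FlatGeneric.exists_clear 𝔮 z
  obtain ⟨toL, htoL⟩ := exists_toLoc 𝔮 Q hQ.le
  have h0 : algebraMap (C ⊗[R] K) (Localization.AtPrime Q) w = 0 := by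
    rw [← htoL]
    show toL (Algebra.TensorProduct.map _ _ w) = 0
    rw [hw, map_mul, (hz.map toL).eq_zero, mul_zero]
  obtain ⟨v, hv⟩ := (IsLocalization.map_eq_zero_iff Q.primeCompl _ w).mp h0
  have hmem : toS 𝔮 K v * (algebraMap C S c ⊗ₜ[R] (1 : K)) ∈ ann := by
    show _ * z = 0
    rw [mul_assoc, ← hw]
    show toS 𝔮 K v * toS 𝔮 K w = 0
    rw [← map_mul, hv, map_zero]
  rcases hM.isPrime.mem_or_mem (hannM hmem) with h | h
  · exact v.2 h
  · exact hc ((IsLocalization.AtPrime.to_map_mem_maximal_iff S 𝔮 c).mp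
      ((SetLike.ext_iff.mp hMS (algebraMap C S c)).mp h))

/-- Geometric reducedness at a point gives reducedness of the local ring after every field extension. -/
theorem isReduced_localTensor (𝔮 : Ideal C) [𝔮.IsPrime] (hred : GeomRedAt R 𝔮) (L : Type u) [Field L]
    [Algebra R L] (hL : RingHom.ker (algebraMap R L) = 𝔮.comap (algebraMap R C)) :
    IsReduced (Localization.AtPrime 𝔮 ⊗[R] L) := by
  let p := 𝔮.comap (algebraMap R C)
  let k := p.ResidueField
  let S := Localization.AtPrime 𝔮
  let K := AlgebraicClosure k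
  let f : k →+* L := Ideal.ResidueField.lift p (algebraMap R L) hL.ge
    (fun r hr => isUnit_iff_ne_zero.mpr fun h => hr (hL.le (RingHom.mem_ker.mpr h)))
  letI : Algebra k L := f.toAlgebra
  haveI : IsScalarTower R k L := .of_algebraMap_eq fun r => (Ideal.ResidueField.lift_algebraMap p _ _ _ r).symm
  haveI : IsReduced (S ⊗[R] K) := isReduced_algClosure 𝔮 hred p rfl
  haveI : IsReduced (K ⊗[R] S) := isReduced_of_injective (Algebra.TensorProduct.comm R K S).toAlgHom
    (Algebra.TensorProduct.comm R K S).injective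
  haveI : Algebra.IsGeometricallyReduced k (k ⊗[R] S) := by
    rw [Algebra.isGeometricallyReduced_field_iff]
    exact isReduced_of_injective (Algebra.TensorProduct.cancelBaseChange R k K K S).toAlgHom
      (Algebra.TensorProduct.cancelBaseChange R k K K S).injective
  haveI : IsReduced (L ⊗[k] (k ⊗[R] S)) := Groth.L03.GeomReduced2.isReduced_of_isGeometricallyReduced L
  haveI : IsReduced (L ⊗[R] S) :=
    isReduced_of_injective (Algebra.TensorProduct.cancelBaseChange R k L L S).symm.toAlgHom
      (Algebra.TensorProduct.cancelBaseChange R k L L S).symm.injective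
  exact isReduced_of_injective (Algebra.TensorProduct.comm R S L).toAlgHom
    (Algebra.TensorProduct.comm R S L).injective

/-- Geometric reducedness passes to generizations in the fibre. -/
theorem geomRedAt_of_le (𝔮 : Ideal C) [𝔮.IsPrime] (hred : GeomRedAt R 𝔮) (𝔷 : Ideal C) [𝔷.IsPrime]
    (hle : 𝔷 ≤ 𝔮) (h𝔷 : 𝔷.comap (algebraMap R C) = 𝔮.comap (algebraMap R C)) : GeomRedAt R 𝔷 := by
  intro L _ _ hL Q _ hQ
  haveI := isReduced_localTensor 𝔮 hred L (hL.trans h𝔷)
  obtain ⟨toL, htoL⟩ := exists_toLoc 𝔮 Q (hQ.le.trans hle)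
  refine ⟨fun x hx => ?_⟩
  obtain ⟨a, s, rfl⟩ := IsLocalization.exists_mk'_eq Q.primeCompl x
  obtain ⟨n, hn⟩ := hx
  rw [← IsLocalization.mk'_pow, IsLocalization.mk'_eq_zero_iff] at hn
  obtain ⟨u, hu⟩ := hn
  have h1 : toS 𝔮 L ((u : C ⊗[R] L) * a) = 0 := IsNilpotent.eq_zero ⟨n + 1, by
    rw [← map_pow, mul_pow, pow_succ (u : C ⊗[R] L), pow_succ a,
      show ((u : C ⊗[R] L) ^ n * u) * (a ^ n * a) = (u ^ n * a) * (u * a ^ n) by ring, hu, mul_zero, map_zero]⟩
  have h2 := congrArg toL h1
  rw [htoL, map_zero, map_mul] at h2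
  rw [IsLocalization.mk'_eq_zero_iff]
  obtain ⟨v, hv⟩ := (IsLocalization.map_eq_zero_iff Q.primeCompl (Localization.AtPrime Q) _).mp
    ((IsLocalization.map_units (Localization.AtPrime Q) u).mul_right_eq_zero.mp h2)
  exact ⟨v, hv⟩

/-- The fibre of a geometrically reduced point is reduced. -/
theorem isRadical_map (𝔮 : Ideal C) [𝔮.IsPrime] (hred : GeomRedAt R 𝔮) :
    ((𝔮.comap (algebraMap R C)).map (algebraMap R (Localization.AtPrime 𝔮))).IsRadical := by
  let p := 𝔮.comap (algebraMap R C)
  let S := Localization.AtPrime 𝔮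
  let J := p.map (algebraMap R S)
  haveI := isReduced_localTensor 𝔮 hred p.ResidueField p.ker_algebraMap_residueField
  let g : S ⊗[R] p.ResidueField →ₐ[R] S ⧸ J := Algebra.TensorProduct.lift (Ideal.Quotient.mkₐ R J)
    (Ideal.ResidueField.liftₐ p (Algebra.ofId R (S ⧸ J))
      (fun r hr => by
        show Ideal.Quotient.mk J (algebraMap R S r) = 0
        exact Ideal.Quotient.eq_zero_iff_mem.mpr (Ideal.mem_map_of_mem _ hr))
      (fun r hr => by
        show IsUnit (Ideal.Quotient.mk J (algebraMap R S r))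
        refine IsUnit.map _ ?_
        rw [IsScalarTower.algebraMap_apply R C S]
        exact IsLocalization.map_units S (⟨algebraMap R C r, hr⟩ : 𝔮.primeCompl)))
    (fun _ _ => Commute.all _ _)
  intro x hx
  obtain ⟨n, hn⟩ := hx
  have hJ : J ≤ RingHom.ker (Algebra.TensorProduct.includeLeftRingHom : S →+* S ⊗[R] p.ResidueField) := by
    rw [Ideal.map_le_iff_le_comap]
    intro r hr
    show algebraMap R S r ⊗ₜ[R] (1 : p.ResidueField) = 0
    rw [Algebra.algebraMap_eq_smul_one, smul_tmul, ← Algebra.algebraMap_eq_smul_one,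
      Ideal.algebraMap_residueField_eq_zero.mpr hr, tmul_zero]
  have h1 : x ⊗ₜ[R] (1 : p.ResidueField) = 0 := IsNilpotent.eq_zero ⟨n, by
    rw [Algebra.TensorProduct.tmul_pow, one_pow]
    exact hJ hn⟩
  have h2 := congrArg g h1
  simp only [g, Algebra.TensorProduct.lift_tmul, map_one, mul_one, map_zero] at h2
  exact Ideal.Quotient.eq_zero_iff_mem.mp h2

/-- An open point over the closed point of a discrete valuation ring has a generization over the generic point. -/
theorem exists_generic_le {B T : Type u} [CommRing B] [IsDomain B] [CommRing T] [IsNoetherianRing T]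
    (ι : B →+* T) (P : PrimeSpectrum T) (h : EGA43.IsOpenAt (PrimeSpectrum.comap ι) P) :
    ∃ Q : Ideal T, Q.IsPrime ∧ Q ≤ P.asIdeal ∧ Q.comap ι = ⊥ := by
  classical
  have hfin : {I ∈ minimalPrimes T | ¬ I ≤ P.asIdeal}.Finite :=
    (minimalPrimes.finite_of_isNoetherianRing T).subset fun I hI => hI.1
  have hsel : ∀ I : Ideal T, ¬ I ≤ P.asIdeal → ∃ a ∈ I, a ∉ P.asIdeal := fun I hI => Set.not_subset.mp hI
  choose a ha haP using hsel
  let b : Ideal T → T := fun I => if h : I ≤ P.asIdeal then 1 else a I h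
  let c := ∏ I ∈ hfin.toFinset, b I
  have hc : c ∉ P.asIdeal := fun hc => by
    obtain ⟨I, hI, hIc⟩ := P.isPrime.prod_mem_iff.mp hc
    rw [Set.Finite.mem_toFinset] at hI
    simp only [b, dif_neg hI.2] at hIc
    exact haP I hI.2 hIc
  have hnb := h _ ((PrimeSpectrum.basicOpen c).2.mem_nhds (show c ∉ P.asIdeal from hc))
  obtain ⟨V, hV, hVo, hPV⟩ := mem_nhds_iff.mp hnb
  have hbot : (⟨⊥, Ideal.isPrime_bot⟩ : PrimeSpectrum B) ∈ V :=
    ((PrimeSpectrum.le_iff_specializes ⟨⊥, Ideal.isPrime_bot⟩ _).mp bot_le).mem_open hVo hPV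
  obtain ⟨P', hP', hP'B⟩ := hV hbot
  obtain ⟨I, hI, hIP'⟩ := Ideal.exists_minimalPrimes_le (I := ⊥) (J := P'.asIdeal) bot_le
  refine ⟨I, hI.1.1, ?_, le_bot_iff.mp ((Ideal.comap_mono hIP').trans ?_)⟩
  · by_contra hIP
    refine hP' (hIP' ?_)
    show c ∈ I
    refine Ideal.mem_of_dvd I (Finset.dvd_prod_of_mem b (a := I) ?_) ?_
    · exact hfin.mem_toFinset.mpr ⟨hI, hIP⟩
    · simp only [b, dif_neg hIP]; exact ha I hIP
  · exact le_of_eq (congrArg PrimeSpectrum.asIdeal hP'B)

/-- Regularity of a uniformizer after base change to a discrete valuation ring. -/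
theorem isSMulRegular_dvr [IsNoetherianRing R] [Algebra.FiniteType R C] (𝔷 : Ideal C) [𝔷.IsPrime]
    (hred : GeomRedAt R 𝔷)
    (hgen : ∀ q' : Ideal C, q'.IsPrime → q' ≤ 𝔷 → q'.comap (algebraMap R C) = 𝔷.comap (algebraMap R C) → q' = 𝔷)
    (B : Type u) [CommRing B] [IsDomain B] [IsDiscreteValuationRing B] [Algebra R B]
    (hB : (IsLocalRing.maximalIdeal B).comap (algebraMap R B) = 𝔷.comap (algebraMap R C))
    (hopen : ∀ P : PrimeSpectrum (C ⊗[R] B), P.asIdeal.comap Algebra.TensorProduct.includeLeftRingHom = 𝔷 →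
      P.asIdeal.comap (Algebra.TensorProduct.includeRight : B →ₐ[R] C ⊗[R] B).toRingHom = IsLocalRing.maximalIdeal B →
      EGA43.IsOpenAt (PrimeSpectrum.comap (Algebra.TensorProduct.includeRight : B →ₐ[R] C ⊗[R] B).toRingHom) P)
    (q : Ideal (C ⊗[R] B)) [q.IsPrime]
    (hq1 : q.comap Algebra.TensorProduct.includeLeftRingHom = 𝔷)
    (hq2 : q.comap (Algebra.TensorProduct.includeRight : B →ₐ[R] C ⊗[R] B).toRingHom = IsLocalRing.maximalIdeal B)
    (t : B) (ht : t ≠ 0) :
    IsSMulRegular (Localization.AtPrime q)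
      (algebraMap (C ⊗[R] B) (Localization.AtPrime q) ((1 : C) ⊗ₜ[R] t)) := by
  let T := C ⊗[R] B
  let ι : B →+* T := (Algebra.TensorProduct.includeRight : B →ₐ[R] T).toRingHom
  let Lq := Localization.AtPrime q
  letI : Algebra B Lq := ((algebraMap T Lq).comp ι).toAlgebra
  haveI : IsNoetherianRing (B ⊗[R] C) := Algebra.FiniteType.isNoetherianRing B (B ⊗[R] C)
  haveI : IsNoetherianRing T := isNoetherianRing_of_ringEquiv _ (Algebra.TensorProduct.comm R B C).toRingEquiv
  haveI : IsNoetherianRing Lq := IsLocalization.isNoetherianRing q.primeCompl _ inferInstance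
  haveI : IsLocalHom (algebraMap B Lq) := ⟨fun b hb => by
    by_contra hb'
    have h : ι b ∈ q := (SetLike.ext_iff.mp hq2 b).mpr hb'
    exact (IsLocalization.AtPrime.to_map_mem_maximal_iff Lq q (ι b)).mpr h hb⟩
  let m := IsLocalRing.maximalIdeal B
  let J := m.map (algebraMap B Lq)
  suffices Module.Flat B Lq by
    intro x y hxy
    exact (IsSMulRegular.of_flat (S := Lq) (IsRegular.of_ne_zero ht).left) hxy
  refine Groth.L07.DVRFlat.flat_of_reduced_fibre B Lq ?_ ?_
  · -- the closed fibre is reduced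
    let L := B ⧸ m
    letI : Field L := Ideal.Quotient.field m
    have hL : RingHom.ker (algebraMap R L) = 𝔷.comap (algebraMap R C) := by
      rw [← hB]; ext r
      exact Ideal.Quotient.eq_zero_iff_mem
    let Φ : T →ₐ[R] C ⊗[R] L := Algebra.TensorProduct.map (AlgHom.id R C) (Ideal.Quotient.mkₐ R m)
    have hΦ : Function.Surjective Φ := TensorProduct.map_surjective Function.surjective_id Ideal.Quotient.mk_surjective
    have hker : RingHom.ker Φ = m.map ι := by
      refine (Algebra.TensorProduct.lTensor_ker (A := C) (Ideal.Quotient.mkₐ R m) Ideal.Quotient.mk_surjective).trans ?_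
      congr 1
      exact Ideal.mk_ker
    have hkq : RingHom.ker Φ ≤ q := by
      rw [hker, Ideal.map_le_iff_le_comap, hq2]
    let Q := q.map Φ.toRingHom
    haveI : Q.IsPrime := Ideal.map_isPrime_of_surjective hΦ hkq
    have hQc : Q.comap Φ.toRingHom = q := by
      rw [Ideal.comap_map_of_surjective Φ.toRingHom hΦ, sup_eq_left, ← RingHom.ker_eq_comap_bot]; exact hkq
    have hQ : Q.comap Algebra.TensorProduct.includeLeftRingHom = 𝔷 := by
      rw [← hq1]
      ext c
      show c ⊗ₜ[R] (1 : L) ∈ Q ↔ c ⊗ₜ[R] (1 : B) ∈ q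
      rw [SetLike.ext_iff.mp hQc.symm]
      show _ ↔ Φ (c ⊗ₜ[R] (1 : B)) ∈ Q
      rw [show Φ (c ⊗ₜ[R] (1 : B)) = c ⊗ₜ[R] (1 : L) from rfl]
    haveI := hred L hL Q hQ
    let g : Lq →+* Localization.AtPrime Q := Localization.localRingHom q Q Φ.toRingHom hQc.symm
    have hg : RingHom.ker g = J := by
      refine le_antisymm (fun x hx => ?_) ?_
      · obtain ⟨a, s, rfl⟩ := IsLocalization.exists_mk'_eq q.primeCompl x
        rw [RingHom.mem_ker, Localization.localRingHom_mk', IsLocalization.mk'_eq_zero_iff] at hx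
        obtain ⟨u, hu⟩ := hx
        obtain ⟨u', hu'⟩ := hΦ u
        have hu'q : u' ∉ q := fun h => u.2 (hu' ▸ Ideal.mem_map_of_mem _ h)
        have hm : u' * a ∈ m.map ι := by
          rw [← hker, RingHom.mem_ker, map_mul, hu']; exact hu
        have hm2 := Ideal.mem_map_of_mem (algebraMap T Lq) hm
        rw [Ideal.map_map, map_mul,
          Ideal.unit_mul_mem_iff_mem _ (IsLocalization.map_units Lq (⟨u', hu'q⟩ : q.primeCompl))] at hm2
        rw [IsLocalization.mk'_eq_mul_mk'_one]
        exact Ideal.mul_mem_right _ _ hm2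
      · rw [Ideal.map_le_iff_le_comap]
        intro b hb
        show g (algebraMap T Lq (ι b)) = 0
        rw [Localization.localRingHom_to_map]
        have : Φ (ι b) = 0 := hker.ge (Ideal.mem_map_of_mem _ hb)
        show algebraMap _ _ (Φ (ι b)) = 0
        rw [this, map_zero]
    rw [← Ideal.isRadical_iff_quotient_reduced]
    intro x hx
    obtain ⟨n, hn⟩ := hx
    replace hn : x ^ n ∈ RingHom.ker g := hg.ge hn
    refine hg.le ?_
    exact IsNilpotent.eq_zero (x := g x) ⟨n, by rw [← map_pow]; exact hn⟩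
  · -- generizations over the generic point
    intro Q₁ hQ₁
    haveI := hQ₁.1.1
    let P : PrimeSpectrum T := ⟨Q₁.comap (algebraMap T Lq), Ideal.IsPrime.comap _⟩
    have hPq : P.asIdeal ≤ q := by
      refine (Ideal.comap_mono (IsLocalRing.le_maximalIdeal hQ₁.1.1.ne_top)).trans ?_
      exact fun a ha => (IsLocalization.AtPrime.to_map_mem_maximal_iff Lq q a).mp ha
    have hP2 : P.asIdeal.comap ι = m := by
      refine le_antisymm ((Ideal.comap_mono hPq).trans hq2.le) fun b hb => ?_
      exact hQ₁.1.2 (Ideal.mem_map_of_mem (algebraMap B Lq) hb)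
    have hP1 : P.asIdeal.comap Algebra.TensorProduct.includeLeftRingHom = 𝔷 := by
      refine hgen _ (Ideal.IsPrime.comap _) ((Ideal.comap_mono hPq).trans hq1.le) ?_
      rw [← hB]
      ext r
      refine Iff.trans ?_ (SetLike.ext_iff.mp hP2 (algebraMap R B r))
      show (algebraMap R C r ⊗ₜ[R] (1 : B)) ∈ P.asIdeal ↔ ((1 : C) ⊗ₜ[R] algebraMap R B r) ∈ P.asIdeal
      rw [Algebra.algebraMap_eq_smul_one, Algebra.algebraMap_eq_smul_one, smul_tmul]
    obtain ⟨Q, hQ, hQP, hQ0⟩ := exists_generic_le ι P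
      (hopen P hP1 hP2)
    haveI := hQ
    have hQq : Disjoint (q.primeCompl : Set T) (Q : Set T) :=
      Set.disjoint_left.mpr fun a ha haQ => ha (hPq (hQP haQ))
    refine ⟨Q.map (algebraMap T Lq), IsLocalization.isPrime_of_isPrime_disjoint q.primeCompl Lq Q hQ hQq,
      Ideal.map_le_iff_le_comap.mpr hQP, ?_⟩
    rw [← hQ0]
    show (Q.map (algebraMap T Lq)).comap ((algebraMap T Lq).comp ι) = _
    rw [← Ideal.comap_comap]
    exact congrArg (Ideal.comap ι) (IsLocalization.under_map_of_isPrime_disjoint q.primeCompl Lq hQ hQq)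

theorem isReduced_congr {p p' : Ideal R} [p.IsPrime] [p'.IsPrime] (h : p = p')
    (hp : IsReduced (Localization.AtPrime p)) : IsReduced (Localization.AtPrime p') := by
  subst h; exact hp

/-- Flatness at a point with geometrically reduced fibre. -/
theorem flat_of_geomReduced [IsNoetherianRing R] [Algebra.FiniteType R C] (𝔮 : Ideal C) [𝔮.IsPrime]
    [IsReduced (Localization.AtPrime (𝔮.comap (algebraMap R C)))] (hred : GeomRedAt R 𝔮)
    (hopen : ∀ (𝔷 : Ideal C) [𝔷.IsPrime], 𝔷 ≤ 𝔮 →
      𝔷.comap (algebraMap R C) = 𝔮.comap (algebraMap R C) →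
      (∀ q' : Ideal C, q'.IsPrime → q' ≤ 𝔷 → q'.comap (algebraMap R C) = 𝔷.comap (algebraMap R C) → q' = 𝔷) →
      ∀ (B : Type u) [CommRing B] [IsDomain B] [IsDiscreteValuationRing B] [Algebra R B]
        (P : PrimeSpectrum (C ⊗[R] B)), P.asIdeal.comap Algebra.TensorProduct.includeLeftRingHom = 𝔷 →
        P.asIdeal.comap (Algebra.TensorProduct.includeRight : B →ₐ[R] C ⊗[R] B).toRingHom = IsLocalRing.maximalIdeal B →
        EGA43.IsOpenAt (PrimeSpectrum.comap (Algebra.TensorProduct.includeRight : B →ₐ[R] C ⊗[R] B).toRingHom) P) :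
    Module.Flat R (Localization.AtPrime 𝔮) := by
  let p := 𝔮.comap (algebraMap R C)
  let A := Localization.AtPrime p
  let S := Localization.AtPrime 𝔮
  letI : Algebra A S := (Localization.localRingHom p 𝔮 (algebraMap R C) rfl).toAlgebra
  haveI : IsScalarTower R A S := .of_algebraMap_eq fun r => by
    show _ = Localization.localRingHom p 𝔮 (algebraMap R C) rfl (algebraMap R A r)
    rw [Localization.localRingHom_to_map]; rfl
  haveI : IsLocalHom (algebraMap A S) := Localization.isLocalHom_localRingHom _ _ _ rfl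
  haveI : IsNoetherianRing C := Algebra.FiniteType.isNoetherianRing R C
  haveI : IsNoetherianRing A := IsLocalization.isNoetherianRing p.primeCompl _ inferInstance
  haveI : IsNoetherianRing S := IsLocalization.isNoetherianRing 𝔮.primeCompl _ inferInstance
  have hmA : (IsLocalRing.maximalIdeal A).map (algebraMap A S) = p.map (algebraMap R S) := by
    rw [← Localization.AtPrime.map_eq_maximalIdeal, Ideal.map_map, ← IsScalarTower.algebraMap_eq]
  haveI : Module.Flat A S := by
    refine Groth.L07.FlatPropagate.flat_of_flat_minimal (hmA ▸ isRadical_map 𝔮 hred) ?_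
    intro P _ hP
    rw [hmA] at hP
    let 𝔷 := P.comap (algebraMap C S)
    have h𝔷le : 𝔷 ≤ 𝔮 := fun a ha =>
      (IsLocalization.AtPrime.to_map_mem_maximal_iff S 𝔮 a).mp (IsLocalRing.le_maximalIdeal hP.1.1.ne_top ha)
    have h𝔷p : 𝔷.comap (algebraMap R C) = p := by
      refine le_antisymm (Ideal.comap_mono h𝔷le) fun r hr => ?_
      show algebraMap C S (algebraMap R C r) ∈ P
      rw [← IsScalarTower.algebraMap_apply R C S]
      exact hP.1.2 (Ideal.mem_map_of_mem _ hr)
    have hgen : ∀ q' : Ideal C, q'.IsPrime → q' ≤ 𝔷 →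
        q'.comap (algebraMap R C) = 𝔷.comap (algebraMap R C) → q' = 𝔷 := by
      intro q' hq' hle heq
      have hdis : Disjoint (𝔮.primeCompl : Set C) (q' : Set C) :=
        Set.disjoint_left.mpr fun a ha haq => ha (h𝔷le (hle haq))
      haveI := IsLocalization.isPrime_of_isPrime_disjoint 𝔮.primeCompl S q' hq' hdis
      have h1 : P ≤ q'.map (algebraMap C S) := by
        refine hP.2 ⟨inferInstance, ?_⟩ (Ideal.map_le_iff_le_comap.mpr hle)
        rw [IsScalarTower.algebraMap_eq R C S, ← Ideal.map_map]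
        refine Ideal.map_mono (Ideal.map_le_iff_le_comap.mpr ?_)
        rw [heq, h𝔷p]
      refine le_antisymm hle ?_
      have h2 := Ideal.comap_mono (f := algebraMap C S) h1
      exact h2.trans (IsLocalization.under_map_of_isPrime_disjoint 𝔮.primeCompl S hq' hdis).le
    have hred𝔷 := geomRedAt_of_le 𝔮 hred 𝔷 h𝔷le h𝔷p
    haveI : IsReduced (Localization.AtPrime (𝔷.comap (algebraMap R C))) := by
      exact isReduced_congr h𝔷p.symm inferInstance
    have hflat : Module.Flat R (Localization.AtPrime 𝔷) :=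
      Groth.L07.FlatGeneric.flat_generic 𝔷 hgen (isRadical_map 𝔷 hred𝔷) fun B _ _ _ _ hB q _ hq1 hq2 t ht =>
        isSMulRegular_dvr 𝔷 hred𝔷 hgen B hB (hopen 𝔷 h𝔷le h𝔷p hgen B) q hq1 hq2 t ht
    haveI : IsLocalization.AtPrime (Localization.AtPrime P) 𝔷 :=
      IsLocalization.isLocalization_isLocalization_atPrime_isLocalization 𝔮.primeCompl (Localization.AtPrime P) P
    have hflatP : Module.Flat R (Localization.AtPrime P) :=
      Module.Flat.of_linearEquiv
        ((IsLocalization.algEquiv 𝔷.primeCompl (Localization.AtPrime P) (Localization.AtPrime 𝔷)).restrictScalars R).toLinearEquiv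
    exact (Module.flat_iff_of_isLocalization A p.primeCompl (Localization.AtPrime P)).mpr hflatP
  exact Module.Flat.trans R A S

end Groth.L07.FlatGeomReduced
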