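import Groth.Agent.L07.AssRestrict
import Groth.Agent.L16.CohSupport
import Groth.Agent.L16.AffineBC.Pullback
import Groth.Agent.L00.Skyscraper
import Groth.Agent.L16.AffineBC.Local
import Mathlib.RingTheory.Filtration
import Mathlib.CategoryTheory.Subobject.Lattice

/-!
Primary decompositions of coherent modules on locally Noetherian schemes.
-/

set_option autoImplicit false
set_option maxSynthPendingDepth 3
set_option synthInstance.maxHeartbeats 400000
set_option linter.style.haveILetI false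
set_option backward.isDefEq.respectTransparency false
set_option backward.isDefEq.respectTransparency.types false

universe u

open CategoryTheory CategoryTheory.Limits AlgebraicGeometry TopologicalSpace IsLocalRing Opposite

noncomputable section

namespace Groth.L07.PrimaryDecomp

open Groth.L00.Sky (sky Sec sec_ext toHom)
open Groth.L16 (CohSupport.isCoh_image)

variable {X : Scheme.{u}}

/-- A monomorphism is injective on sections. -/
theorem app_injective {M N : X.Modules} (φ : M ⟶ N) [Mono φ] (V : X.Opens) : Function.Injective (φ.app V) := by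
  let E := SheafOfModules.evaluation.{u} X.ringCatSheaf (op V)
  haveI : PreservesLimitsOfShape WalkingCospan E := inferInstance
  exact (ModuleCat.mono_iff_injective (E.map φ)).mp (preserves_mono_of_preservesLimit E φ)

/-- A jointly monomorphic family is jointly injective on sections. -/
theorem sections_eq_zero {M : X.Modules} {ι : Type u} {G : ι → X.Modules} (q : ∀ i, M ⟶ G i)
    (hm : ∀ (T : X.Modules) (a b : T ⟶ M), (∀ i, a ≫ q i = b ≫ q i) → a = b)
    {V : X.Opens} (s : Γ(M, V)) (h : ∀ i, (q i).app V s = 0) : s = 0 := by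
  let L := Pi.lift q
  haveI : Mono L := ⟨fun a b hab => hm _ a b fun i => by
    rw [← Pi.lift_π q i, ← Category.assoc, hab, Category.assoc]⟩
  let P : X.Modules := ∏ᶜ G
  have h0 : L.app V s = 0 := by
    let E := SheafOfModules.evaluation.{u} X.ringCatSheaf (op V)
    haveI : PreservesLimit (Discrete.functor G) E :=
      (inferInstance : PreservesLimitsOfSize.{u, u} E).preservesLimitsOfShape.preservesLimit
    refine Concrete.isLimit_ext _ (isLimitOfPreserves E (limit.isLimit (Discrete.functor G))) _ _ fun i => ?_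
    rw [map_zero]
    show (Pi.π G i.as).app V (L.app V s) = 0
    rw [← h i.as]
    conv_rhs => rw [← Pi.lift_π q i.as]
    rfl
  exact app_injective L V (h0.trans (map_zero _).symm)

theorem germ_natural {M N : X.Modules} (φ : M ⟶ N) {V : X.Opens} {x : X} (hx : x ∈ V) (s : Γ(M, V)) :
    Groth.L19.Ass.stalkMapₗ φ x (M.presheaf.germ V x hx s) = N.presheaf.germ V x hx (φ.app V s) :=
  Groth.L21.Mod.stalkF_map_germ φ V x hx s

theorem ass_subset_of_mono {M N : X.Modules} (φ : M ⟶ N) [Mono φ] : AssSch.Ass M ⊆ AssSch.Ass N := fun x hx =>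
  associatedPrimes.subset_of_injective (f := Groth.L19.Ass.stalkMapₗ φ x)
    ((AddCommGrpCat.mono_iff_injective _).mp (inferInstanceAs (Mono ((Groth.L21.Mod.stalkF X x).map φ)))) hx

theorem isQCoh_sky_pow (x : X) (N : ModuleCat.{u} (X.presheaf.stalk x)) (n : ℕ)
    (hN : ∀ r ∈ maximalIdeal (X.presheaf.stalk x) ^ n, ∀ m : N, r • m = 0) :
    Coh.IsQCoh (sky x N) := by
  refine Groth.L16.QcqsPush.isQCoh_of_sections _ fun y => ?_
  obtain ⟨_, ⟨V, hV, rfl⟩, hyV, -⟩ :=
    X.isBasis_affineOpens.exists_subset_of_mem_open (Set.mem_univ y) isOpen_univ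
  refine ⟨V, hyV, hV, fun a => ⟨fun s => ?_, fun t ht => ?_⟩⟩
  · by_cases hx : x ∈ X.basicOpen a
    · refine ⟨0, (fun _ => (s : Sec x N _) ⟨hx⟩ : Sec x N V), ?_⟩
      refine Eq.trans ?_ ((congrArg (· • s) (show Groth.L18.Frame.ro (X.basicOpen_le a) (a ^ 0) = 1 by
        rw [pow_zero]; exact map_one _)).trans (one_smul _ _)).symm
      rfl
    · exact ⟨0, 0, sec_ext fun h => absurd h hx⟩
  · by_cases hx : x ∈ X.basicOpen a
    · refine ⟨0, ?_⟩
      rw [pow_zero, one_smul]
      exact sec_ext fun h => congrFun ht ⟨hx⟩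
    · refine ⟨n, sec_ext fun h => ?_⟩
      show (X.presheaf.germ V x h (a ^ n) : X.presheaf.stalk x) • (t : Sec x N V) ⟨h⟩ = 0
      rw [map_pow]
      refine hN _ (Ideal.pow_mem_pow ?_ n) _
      rw [mem_maximalIdeal]
      exact fun hu => hx ((Scheme.mem_basicOpen X a x h).mpr hu)

/-- A power of the maximal ideal missing the socle. -/
theorem exists_pow_inf_socle {R N : Type u} [CommRing R] [IsNoetherianRing R] [IsLocalRing R] [AddCommGroup N]
    [Module R N] [Module.Finite R N] :
    ∃ n : ℕ, 0 < n ∧ ∀ m ∈ maximalIdeal R ^ n • (⊤ : Submodule R N),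
      (∀ a ∈ maximalIdeal R, a • m = 0) → m = 0 := by
  obtain ⟨k, hk⟩ := (maximalIdeal R).exists_pow_inf_eq_pow_smul
    (Submodule.torsionBySet R N (maximalIdeal R : Set R))
  refine ⟨k + 1, Nat.succ_pos _, fun m hm h => ?_⟩
  have h1 : m ∈ maximalIdeal R ^ (k + 1) • (⊤ : Submodule R N) ⊓ Submodule.torsionBySet R N (maximalIdeal R : Set R) :=
    ⟨hm, (Submodule.mem_torsionBySet_iff _ _).mpr fun a => h a a.2⟩
  rw [hk (k + 1) (Nat.le_succ k), show k + 1 - k = 1 by omega, pow_one] at h1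
  have h2 : maximalIdeal R • (maximalIdeal R ^ k • (⊤ : Submodule R N) ⊓ Submodule.torsionBySet R N (maximalIdeal R : Set R)) = ⊥ := by
    rw [eq_bot_iff]
    refine Submodule.smul_le.mpr fun a ha z hz => (Submodule.mem_bot R).mpr ?_
    exact (Submodule.mem_torsionBySet_iff _ _).mp hz.2 ⟨a, ha⟩
  rw [h2] at h1
  exact (Submodule.mem_bot R).mp h1

variable [IsLocallyNoetherian X] (M : X.Modules) (hM : Coh.IsCoh M) (x : X)

/-- The order of the primary component at `x`. -/
def nn : ℕ :=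
  haveI := Groth.L06.SupportStalk.finite_stalk M hM x
  (exists_pow_inf_socle (R := X.presheaf.stalk x) (N := M.presheaf.stalk x)).choose

theorem nn_spec : 0 < nn M hM x ∧ ∀ m ∈ maximalIdeal (X.presheaf.stalk x) ^ nn M hM x •
      (⊤ : Submodule (X.presheaf.stalk x) (M.presheaf.stalk x)),
      (∀ a ∈ maximalIdeal (X.presheaf.stalk x), a • m = 0) → m = 0 :=
  haveI := Groth.L06.SupportStalk.finite_stalk M hM x
  (exists_pow_inf_socle (R := X.presheaf.stalk x) (N := M.presheaf.stalk x)).choose_spec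

/-- The stalk modulo a power of the maximal ideal. -/
def P : ModuleCat.{u} (X.presheaf.stalk x) :=
  ModuleCat.of _ (M.presheaf.stalk x ⧸ maximalIdeal (X.presheaf.stalk x) ^ nn M hM x •
    (⊤ : Submodule (X.presheaf.stalk x) (M.presheaf.stalk x)))

theorem smul_P (r : X.presheaf.stalk x) (hr : r ∈ maximalIdeal (X.presheaf.stalk x) ^ nn M hM x)
    (m : P M hM x) : r • m = 0 := by
  induction m using Submodule.Quotient.induction_on with
  | _ z =>
    show Submodule.Quotient.mk (r • z) = (0 : M.presheaf.stalk x ⧸ _)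
    exact (Submodule.Quotient.mk_eq_zero _).mpr (Submodule.smul_mem_smul hr Submodule.mem_top)

instance : Coh.IsQCoh (sky x (P M hM x)) := isQCoh_sky_pow x _ _ (smul_P M hM x)

/-- The map to the skyscraper. -/
def toSky : M ⟶ sky x (P M hM x) :=
  toHom M _ (ModuleCat.ofHom (Submodule.mkQ (maximalIdeal (X.presheaf.stalk x) ^ nn M hM x •
    (⊤ : Submodule (X.presheaf.stalk x) (M.presheaf.stalk x)))))

theorem toSky_app {V : X.Opens} (hx : x ∈ V) (s : Γ(M, V)) :
    ((toSky M hM x).app V s : Sec x (P M hM x) V) ⟨hx⟩ =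
      Submodule.Quotient.mk (M.presheaf.germ V x hx s) :=
  Groth.L00.Sky.toHom_app M _ _ V s ⟨hx⟩

/-- The primary quotient. -/
abbrev G : X.Modules := Abelian.image (toSky M hM x)

/-- The projection to the primary quotient. -/
abbrev q : M ⟶ G M hM x := Abelian.factorThruImage (toSky M hM x)

theorem isCoh_G : Coh.IsCoh (G M hM x) := CohSupport.isCoh_image hM _

theorem q_app_eq_zero_iff {V : X.Opens} (hx : x ∈ V) (s : Γ(M, V)) :
    (q M hM x).app V s = 0 ↔ M.presheaf.germ V x hx s ∈ maximalIdeal (X.presheaf.stalk x) ^ nn M hM x •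
      (⊤ : Submodule (X.presheaf.stalk x) (M.presheaf.stalk x)) := by
  have hfac : (Abelian.image.ι (toSky M hM x)).app V ((q M hM x).app V s) = (toSky M hM x).app V s := by
    conv_rhs => rw [← Abelian.image.fac (toSky M hM x)]
    rfl
  rw [← (app_injective (Abelian.image.ι (toSky M hM x)) V).eq_iff, hfac, map_zero,
    ← Submodule.Quotient.mk_eq_zero, ← toSky_app M hM x hx s]
  exact ⟨fun h => congrFun h ⟨hx⟩, fun h => sec_ext fun _ => h⟩

theorem ass_G (hx : x ∈ AssSch.Ass M) : AssSch.Ass (G M hM x) = {x} := by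
  haveI : Coh.IsQCoh M := hM.1
  haveI : Coh.IsQCoh (G M hM x) := (isCoh_G M hM x).1
  have hsub : AssSch.Ass (G M hM x) ⊆ {x} := by
    intro g hg
    obtain ⟨V, hV, hgV, -⟩ := exists_isAffineOpen_mem_and_subset (Opens.mem_top g)
    haveI : IsNoetherianRing Γ(X, V) := IsLocallyNoetherian.component_noetherian ⟨V, hV⟩
    obtain ⟨hp, s, hs⟩ := isAssociatedPrime_iff.mp ((Groth.L19.Ass.mem_iff_of_affine _ hV hgV).mp hg)
    let v : Sec x (P M hM x) V := (Abelian.image.ι (toSky M hM x)).app V s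
    have hsmul : ∀ a : Γ(X, V), a ∈ (hV.primeIdealOf ⟨g, hgV⟩).asIdeal ↔ a • v = 0 := fun a => by
      rw [hs, Submodule.mem_colon_singleton, Submodule.mem_bot,
        ← (app_injective (Abelian.image.ι (toSky M hM x)) V).eq_iff, map_zero]
      exact Iff.of_eq (congrArg (· = 0) (Scheme.Modules.Hom.app_smul _ _ _))
    have hxV : x ∈ V := by
      by_contra h
      exact hp.ne_top ((Ideal.eq_top_iff_one _).mpr ((hsmul 1).mpr (sec_ext fun h' => absurd h' h)))
    letI := X.presheaf.algebra_section_stalk ⟨x, hxV⟩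
    haveI := hV.isLocalization_stalk ⟨x, hxV⟩
    have key : ∀ a, (a ∈ (hV.primeIdealOf ⟨x, hxV⟩).asIdeal ↔ ¬ IsUnit (X.presheaf.germ V x hxV a)) := fun a => by
      rw [← mem_nonunits_iff, ← mem_maximalIdeal]
      exact (IsLocalization.AtPrime.to_map_mem_maximal_iff (X.presheaf.stalk x) (hV.primeIdealOf ⟨x, hxV⟩).asIdeal a).symm
    have heq : hV.primeIdealOf ⟨g, hgV⟩ = hV.primeIdealOf ⟨x, hxV⟩ := by
      refine PrimeSpectrum.ext (le_antisymm (fun a ha => (key a).mpr fun hu => ?_) fun a ha => ?_)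
      · have h0 : (X.presheaf.germ V x hxV a : X.presheaf.stalk x) • v ⟨hxV⟩ = 0 := congrFun ((hsmul a).mp ha) ⟨hxV⟩
        rw [hu.smul_eq_zero] at h0
        refine hp.ne_top ((Ideal.eq_top_iff_one _).mpr ((hsmul 1).mpr ?_))
        rw [one_smul]
        exact sec_ext fun _ => h0
      · refine hp.mem_of_pow_mem (nn M hM x) ((hsmul _).mpr (sec_ext fun h' => ?_))
        show (X.presheaf.germ V x h' (a ^ nn M hM x) : X.presheaf.stalk x) • v ⟨h'⟩ = 0
        refine smul_P M hM x _ ?_ _
        rw [map_pow]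
        refine Ideal.pow_mem_pow ?_ _
        rw [mem_maximalIdeal]
        exact (key a).mp ha
    have h2 := congrArg hV.fromSpec heq
    rw [hV.fromSpec_primeIdealOf, hV.fromSpec_primeIdealOf] at h2
    exact h2
  refine Set.Subset.antisymm hsub (Set.singleton_subset_iff.mpr ?_)
  haveI := Groth.L06.SupportStalk.finite_stalk M hM x
  have hne : Nontrivial (M.presheaf.stalk x) := by
    by_contra h
    haveI := not_nontrivial_iff_subsingleton.mp h
    have h' := (Groth.L19.Ass.mem_iff M x).mp hx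
    rw [associatedPrimes.eq_empty_of_subsingleton] at h'
    exact h'
  have htop : maximalIdeal (X.presheaf.stalk x) ^ nn M hM x • (⊤ : Submodule (X.presheaf.stalk x) (M.presheaf.stalk x)) ≠ ⊤ :=
    fun h => absurd (Submodule.eq_bot_of_le_smul_of_le_jacobson_bot _ _ Module.Finite.fg_top h.ge
      ((Ideal.pow_le_self (nn_spec M hM x).1.ne').trans (maximalIdeal_le_jacobson _))) top_ne_bot
  obtain ⟨m, -, hm⟩ := Set.not_subset.mp fun h : Set.univ ⊆ (_ : Set (M.presheaf.stalk x)) =>
    htop (Submodule.eq_top_iff'.mpr fun z => h (Set.mem_univ z))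
  obtain ⟨U, hxU, m', rfl⟩ := TopCat.Presheaf.exists_germ_eq M.presheaf m
  obtain ⟨V, hV, hxV, hVU⟩ := exists_isAffineOpen_mem_and_subset hxU
  have hne' : (q M hM x).app V (Groth.L18.Frame.rs M hVU m') ≠ 0 := fun h0 => by
    rw [q_app_eq_zero_iff M hM x hxV, Groth.L20.ModStalk.germ_rs] at h0
    exact hm h0
  obtain ⟨y, -, hy, -⟩ := Groth.L19.Ass.exists_ass_germ_ne_zero _ hV hne'
  exact (Set.mem_singleton_iff.mp (hsub hy)) ▸ hy

theorem eq_zero_of_forall_q {V : X.Opens} (hV : IsAffineOpen V) (s : Γ(M, V))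
    (h : ∀ x ∈ AssSch.Ass M, (q M hM x).app V s = 0) : s = 0 := by
  haveI : Coh.IsQCoh M := hM.1
  haveI : IsNoetherianRing Γ(X, V) := IsLocallyNoetherian.component_noetherian ⟨V, hV⟩
  by_contra hs
  haveI : Nontrivial (Submodule.span Γ(X, V) {s}) :=
    ⟨⟨⟨s, Submodule.mem_span_singleton_self s⟩, 0, fun e => hs (congrArg Subtype.val e)⟩⟩
  obtain ⟨p, hp⟩ := associatedPrimes.nonempty Γ(X, V) (Submodule.span Γ(X, V) {s})
  obtain ⟨hpp, ⟨t, ht⟩, hcolon⟩ := isAssociatedPrime_iff.mp hp
  obtain ⟨r, rfl⟩ := Submodule.mem_span_singleton.mp ht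
  have hcolon' : ∀ a, a ∈ p ↔ a • r • s = 0 := fun a => by
    rw [hcolon, Submodule.mem_colon_singleton, Submodule.mem_bot]
    exact ⟨fun h => congrArg Subtype.val h, fun h => Subtype.ext h⟩
  let x := hV.fromSpec ⟨p, hpp⟩
  have hxV : x ∈ V := Groth.L19.Ass.fromSpec_mem hV _
  have hxA : x ∈ AssSch.Ass M := Groth.L19.Ass.fromSpec_mem_ass M hV (p := p)
    (associatedPrimes.subset_of_injective (Submodule.span Γ(X, V) {s}).injective_subtype hp)
  have hprime : (hV.primeIdealOf ⟨x, hxV⟩).asIdeal = p :=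
    congrArg PrimeSpectrum.asIdeal (Groth.L19.Ass.primeIdealOf_fromSpec hV ⟨p, hpp⟩ hxV)
  letI := Groth.L20.ModStalk.stalkModule M hxV
  letI := X.presheaf.algebra_section_stalk ⟨x, hxV⟩
  haveI := hV.isLocalization_stalk ⟨x, hxV⟩
  haveI := Groth.L20.ModStalk.isLocalizedModule_germ M hV hxV
  have h1 : M.presheaf.germ V x hxV (r • s) ∈ maximalIdeal (X.presheaf.stalk x) ^ nn M hM x •
      (⊤ : Submodule (X.presheaf.stalk x) (M.presheaf.stalk x)) := by
    rw [← q_app_eq_zero_iff M hM x hxV, Scheme.Modules.Hom.app_smul, h x hxA, smul_zero]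
  have h2 := (nn_spec M hM x).2 _ h1 fun a ha => ?_
  · obtain ⟨c, hc⟩ := (IsLocalizedModule.eq_zero_iff (hV.primeIdealOf ⟨x, hxV⟩).asIdeal.primeCompl
      (Groth.L20.ModStalk.germₗ M hxV)).mp h2
    exact c.2 (hprime.ge ((hcolon' _).mpr hc))
  · obtain ⟨⟨b, c⟩, hbc⟩ := IsLocalization.surj (hV.primeIdealOf ⟨x, hxV⟩).asIdeal.primeCompl a
    have hb : b ∈ p := by
      rw [← hprime, ← IsLocalization.AtPrime.to_map_mem_maximal_iff (X.presheaf.stalk x)
        (hV.primeIdealOf ⟨x, hxV⟩).asIdeal b, ← hbc]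
      exact Ideal.mul_mem_right _ _ ha
    have h3 : (algebraMap Γ(X, V) (X.presheaf.stalk x) (c : Γ(X, V))) • (a • M.presheaf.germ V x hxV (r • s)) = 0 := by
      rw [smul_smul, mul_comm, hbc]
      show X.presheaf.germ V x hxV b • _ = _
      rw [← Groth.L20.ModStalk.germ_smul, (hcolon' b).mp hb, map_zero]
    exact (IsLocalization.map_units (X.presheaf.stalk x) c).smul_eq_zero.mp h3

theorem joint (T : X.Modules) (a b : T ⟶ M) (h : ∀ x ∈ AssSch.Ass M, a ≫ q M hM x = b ≫ q M hM x) : a = b := by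
  refine Groth.L16.AffineBC.hom_ext_affine _ _ fun V hV t => ?_
  refine sub_eq_zero.mp (eq_zero_of_forall_q M hM hV _ fun x hx => ?_)
  rw [map_sub, sub_eq_zero]
  exact congrArg (fun φ : T ⟶ G M hM x => φ.app V t) (h x hx)

include hM in
omit x in
theorem exists_primary_decomposition :
    ∃ (G : AssSch.Ass M → X.Modules) (q : ∀ x, M ⟶ G x),
      (∀ x, Epi (q x)) ∧ (∀ x, Coh.IsCoh (G x)) ∧ (∀ x, AssSch.Ass (G x) = {x.1}) ∧
        ∀ (T : X.Modules) (a b : T ⟶ M), (∀ x, a ≫ q x = b ≫ q x) → a = b :=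
  ⟨fun x => Groth.L07.PrimaryDecomp.G M hM x.1, fun x => Groth.L07.PrimaryDecomp.q M hM x.1,
    fun x => inferInstance, fun x => isCoh_G M hM x.1, fun x => ass_G M hM x.1 x.2,
    fun T a b h => joint M hM T a b fun x hx => h ⟨x, hx⟩⟩

omit x in
include hM in
theorem finite_ass [CompactSpace X] : (AssSch.Ass M).Finite := by
  haveI : Coh.IsQCoh M := hM.1
  obtain ⟨T, hT, hcov⟩ := (isCompact_iff_finite_and_eq_biUnion_affineOpens (U := (⊤ : X.Opens))).mp
    CompactSpace.isCompact_univ
  refine (hT.biUnion (t := fun V : X.affineOpens => {a | a ∈ AssSch.Ass M ∧ a ∈ V.1}) fun V _ => ?_).subset fun a ha => ?_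
  · haveI : IsNoetherianRing Γ(X, V.1) := IsLocallyNoetherian.component_noetherian V
    haveI : Module.Finite Γ(X, V.1) Γ(M, V.1) := Groth.L20.ModStalk.finite_sections M hM V.2
    refine ((associatedPrimes.finite Γ(X, V.1) Γ(M, V.1)).preimage
      (f := fun q : PrimeSpectrum Γ(X, V.1) => q.asIdeal) fun a _ b _ h => PrimeSpectrum.ext h).image V.2.fromSpec
      |>.subset fun a ha => ?_
    exact ⟨V.2.primeIdealOf ⟨a, ha.2⟩, (Groth.L19.Ass.mem_iff_of_affine M V.2 ha.2).mp ha.1,
      V.2.fromSpec_primeIdealOf _⟩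
  · have h1 : a ∈ (⊤ : X.Opens) := trivial
    rw [hcov] at h1
    obtain ⟨V, h2⟩ := Opens.mem_iSup.mp h1
    obtain ⟨hV, haV⟩ := Opens.mem_iSup.mp h2
    exact Set.mem_biUnion hV ⟨ha, haV⟩

omit x in
include hM in
theorem exists_filtration [CompactSpace X] :
    ∃ (n : ℕ) (F : Fin (n + 1) → Subobject M) (hF : Antitone F),
      F 0 = ⊤ ∧ F (Fin.last n) = ⊥ ∧ (∀ j, Coh.IsCoh ((F j : Subobject M) : X.Modules)) ∧
        ∀ i : Fin n,
          IsZero (cokernel (Subobject.ofLE (F i.succ) (F i.castSucc) (hF (Fin.castSucc_lt_succ (i := i)).le))) ∨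
            ∃ x ∈ AssSch.Ass M,
              AssSch.Ass (cokernel (Subobject.ofLE (F i.succ) (F i.castSucc) (hF (Fin.castSucc_lt_succ (i := i)).le))) = {x} := by
  obtain ⟨G', q', -, hG, hA, hj⟩ := exists_primary_decomposition M hM
  haveI := (finite_ass M hM).to_subtype
  obtain ⟨n, ⟨e⟩⟩ := Finite.exists_equiv_fin (AssSch.Ass M)
  let step : ∀ i : AssSch.Ass M, Subobject M → Subobject M := fun i S =>
    Subobject.mk (kernel.ι (S.arrow ≫ q' i) ≫ S.arrow)
  let F : Fin (n + 1) → Subobject M := fun j => Fin.induction (motive := fun _ => Subobject M) ⊤ (fun i S => step (e.symm i) S) j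
  have hsucc : ∀ i : Fin n, F i.succ = step (e.symm i) (F i.castSucc) := fun i => by
    simp only [F, Fin.induction_succ]
  have hle : ∀ i S, step i S ≤ S := fun i S => Subobject.mk_le_of_comm (kernel.ι (S.arrow ≫ q' i)) rfl
  have hF : Antitone F := Fin.antitone_iff_succ_le.mpr fun i => by rw [hsucc]; exact hle _ _
  refine ⟨n, F, hF, by simp [F], ?_, fun j => ?_, fun i => ?_⟩
  · have harrow : (F (Fin.last n)).arrow = 0 := by
      refine hj _ _ _ fun x => ?_
      rw [zero_comp]
      obtain ⟨i, rfl⟩ := e.symm.surjective x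
      have h1 : F (Fin.last n) ≤ step (e.symm i) (F i.castSucc) := hsucc i ▸ hF (Fin.le_last _)
      rw [← Subobject.ofLE_arrow h1, Category.assoc,
        ← Subobject.underlyingIso_hom_comp_eq_mk (kernel.ι ((F i.castSucc).arrow ≫ q' (e.symm i)) ≫ (F i.castSucc).arrow)]
      simp only [step, Category.assoc]
      rw [kernel.condition, comp_zero, comp_zero]
    rw [← Subobject.mk_arrow (F (Fin.last n))]
    exact Subobject.mk_eq_bot_iff_zero.mpr harrow
  · induction j using Fin.induction with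
    | zero =>
      simp only [F, Fin.induction_zero]
      exact Groth.L16.CohSupport.isCoh_of_iso (asIso (⊤ : Subobject M).arrow).symm hM
    | succ i ih =>
      rw [hsucc]
      haveI : Coh.IsQCoh (G' (e.symm i)) := (hG _).1
      exact Groth.L16.CohSupport.isCoh_of_iso (Subobject.underlyingIso _).symm
        (Groth.L16.CohSupport.isCoh_kernel ih _)
  · haveI : Coh.IsQCoh (G' (e.symm i)) := (hG _).1
    let a := (F i.castSucc).arrow ≫ q' (e.symm i)
    let o := Subobject.ofLE (F i.succ) (F i.castSucc) (hF (Fin.castSucc_lt_succ (i := i)).le)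
    let w : ((F i.succ : Subobject M) : X.Modules) ≅ kernel a :=
      eqToIso (congrArg (fun S : Subobject M => (S : X.Modules)) (hsucc i)) ≪≫ Subobject.underlyingIso _
    have hw : o = w.hom ≫ kernel.ι a := by
      rw [← cancel_mono (F i.castSucc).arrow, Category.assoc, Subobject.ofLE_arrow]
      simp only [w, Iso.trans_hom, eqToIso.hom, Category.assoc]
      rw [Subobject.underlyingIso_hom_comp_eq_mk]
      exact (Subobject.arrow_congr _ _ (hsucc i)).symm
    let c : cokernel o ≅ Abelian.image a :=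
      cokernelIsoOfEq hw ≪≫ cokernelEpiComp w.hom (kernel.ι a) ≪≫ Abelian.coimageIsoImage a
    have hsub : AssSch.Ass (cokernel o) ⊆ {(e.symm i).1} :=
      (ass_subset_of_mono (c.hom ≫ Abelian.image.ι a)).trans (hA _).le
    rcases Set.subset_singleton_iff_eq.mp hsub with h | h
    · left
      haveI : Coh.IsQCoh (cokernel o) := (Groth.L16.CohSupport.isCoh_of_iso c.symm
        (Groth.L16.CohSupport.isCoh_image (by
          haveI : Coh.IsQCoh M := hM.1
          have : ∀ j, Coh.IsCoh ((F j : Subobject M) : X.Modules) := fun j => by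
            induction j using Fin.induction with
            | zero =>
              simp only [F, Fin.induction_zero]
              exact Groth.L16.CohSupport.isCoh_of_iso (asIso (⊤ : Subobject M).arrow).symm hM
            | succ i ih =>
              rw [hsucc]
              haveI : Coh.IsQCoh (G' (e.symm i)) := (hG _).1
              exact Groth.L16.CohSupport.isCoh_of_iso (Subobject.underlyingIso _).symm
                (Groth.L16.CohSupport.isCoh_kernel ih _)
          exact this i.castSucc) a)).1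
      rw [IsZero.iff_id_eq_zero]
      refine Groth.L16.AffineBC.hom_ext_affine _ _ fun V hV s => ?_
      by_contra hne
      obtain ⟨y, -, hy, -⟩ := Groth.L19.Ass.exists_ass_germ_ne_zero (cokernel o) hV (s := s) fun hs0 => hne (by
        rw [hs0, map_zero, map_zero])
      rw [h] at hy
      exact hy
    · exact Or.inr ⟨(e.symm i).1, (e.symm i).2, h⟩

omit x in
include hM in
theorem app_eq_zero_iff (hne : AssSch.NoEmbedded M) (G : AssSch.Ass M → X.Modules) (q : ∀ y, M ⟶ G y)
    (hG : ∀ y, Coh.IsQCoh (G y)) (hA : ∀ y, AssSch.Ass (G y) = {y.1})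
    (hm : ∀ (T : X.Modules) (a b : T ⟶ M), (∀ y, a ≫ q y = b ≫ q y) → a = b)
    (x : AssSch.Ass M) {V : X.Opens} (hV : IsAffineOpen V) (s : Γ(M, V)) :
    (q x).app V s = 0 ↔ ∀ hx : x.1 ∈ V, M.presheaf.germ V x.1 hx s = 0 := by
  haveI := hG x
  haveI : Coh.IsQCoh M := hM.1
  constructor
  · intro h hx
    have hfin : {a : X | a ∈ AssSch.Ass M ∧ a ∈ V ∧ a ≠ x.1}.Finite := by
      haveI : IsNoetherianRing Γ(X, V) := IsLocallyNoetherian.component_noetherian ⟨V, hV⟩
      haveI : Module.Finite Γ(X, V) Γ(M, V) := Groth.L20.ModStalk.finite_sections M hM hV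
      refine ((associatedPrimes.finite Γ(X, V) Γ(M, V)).preimage
        (f := fun q : PrimeSpectrum Γ(X, V) => q.asIdeal) fun a _ b _ h => PrimeSpectrum.ext h).image hV.fromSpec
        |>.subset fun a ha => ?_
      exact ⟨hV.primeIdealOf ⟨a, ha.2.1⟩, (Groth.L19.Ass.mem_iff_of_affine M hV ha.2.1).mp ha.1,
        hV.fromSpec_primeIdealOf _⟩
    let W : X.Opens := ⟨(V : Set X) \ ⋃ a ∈ {a : X | a ∈ AssSch.Ass M ∧ a ∈ V ∧ a ≠ x.1}, closure ({a} : Set X),
      V.2.sdiff (hfin.isClosed_biUnion fun a _ => isClosed_closure)⟩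
    have hxW : x.1 ∈ W := by
      refine ⟨hx, fun h' => ?_⟩
      obtain ⟨a, ha, hax⟩ := Set.mem_iUnion₂.mp h'
      exact ha.2.2 (hne x.1 x.2 a ha.1 (specializes_iff_mem_closure.mpr hax)).symm
    obtain ⟨V', hV', hxV', hV'W⟩ := exists_isAffineOpen_mem_and_subset hxW
    have hV'V : V' ≤ V := fun a ha => (hV'W ha).1
    have h0 : Groth.L18.Frame.rs M hV'V s = 0 := by
      refine sections_eq_zero q hm _ fun y => ?_
      haveI := hG y
      by_contra hne'
      obtain ⟨z, hzV, hz, hzs⟩ := Groth.L19.Ass.exists_ass_germ_ne_zero (G y) hV' hne'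
      rw [hA y, Set.mem_singleton_iff] at hz
      by_cases hyx : y = x
      · subst hyx
        refine hzs ?_
        rw [← germ_natural (q y) hzV, Groth.L20.ModStalk.germ_rs, germ_natural (q y) (hV'V hzV), h, map_zero]
      · refine (hV'W hzV).2 (Set.mem_iUnion₂.mpr ⟨y.1, ⟨y.2, hz ▸ hV'V hzV, fun e => hyx (Subtype.ext e)⟩, ?_⟩)
        rw [hz]
        exact subset_closure rfl
    rw [← Groth.L20.ModStalk.germ_rs M hV'V hxV', h0, map_zero]
  · intro h
    by_contra hne'
    obtain ⟨z, hzV, hz, hzs⟩ := Groth.L19.Ass.exists_ass_germ_ne_zero (G x) hV hne'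
    rw [hA x, Set.mem_singleton_iff] at hz
    subst hz
    exact hzs (by rw [← germ_natural (q x) hzV, h hzV, map_zero])

omit x in
include hM in
theorem exists_iso (hne : AssSch.NoEmbedded M)
    (G G' : ↥(AssSch.Ass M) → X.Modules) (q : ∀ x, M ⟶ G x) (q' : ∀ x, M ⟶ G' x)
    (hq : ∀ x, Epi (q x)) (hq' : ∀ x, Epi (q' x)) (hG : ∀ x, Coh.IsCoh (G x)) (hG' : ∀ x, Coh.IsCoh (G' x))
    (hA : ∀ x, AssSch.Ass (G x) = {x.1}) (hA' : ∀ x, AssSch.Ass (G' x) = {x.1})
    (hm : ∀ (T : X.Modules) (a b : T ⟶ M), (∀ x, a ≫ q x = b ≫ q x) → a = b)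
    (hm' : ∀ (T : X.Modules) (a b : T ⟶ M), (∀ x, a ≫ q' x = b ≫ q' x) → a = b) (x : ↥(AssSch.Ass M)) :
    ∃ e : G x ≅ G' x, q x ≫ e.hom = q' x := by
  have k := fun {V : X.Opens} (hV : IsAffineOpen V) (s : Γ(M, V)) =>
    app_eq_zero_iff M hM hne G q (fun y => (hG y).1) hA hm x hV s
  have k' := fun {V : X.Opens} (hV : IsAffineOpen V) (s : Γ(M, V)) =>
    app_eq_zero_iff M hM hne G' q' (fun y => (hG' y).1) hA' hm' x hV s
  have h1 : kernel.ι (q x) ≫ q' x = 0 := by
    refine Groth.L16.AffineBC.hom_ext_affine _ _ fun V hV t => ?_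
    show (q' x).app V ((kernel.ι (q x)).app V t) = 0
    refine (k' hV _).mpr ((k hV _).mp ?_)
    exact congrArg (fun φ : kernel (q x) ⟶ G x => φ.app V t) (kernel.condition (q x))
  have h2 : kernel.ι (q' x) ≫ q x = 0 := by
    refine Groth.L16.AffineBC.hom_ext_affine _ _ fun V hV t => ?_
    show (q x).app V ((kernel.ι (q' x)).app V t) = 0
    refine (k hV _).mpr ((k' hV _).mp ?_)
    exact congrArg (fun φ : kernel (q' x) ⟶ G' x => φ.app V t) (kernel.condition (q' x))
  haveI := hq x
  haveI := hq' x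
  refine ⟨⟨Abelian.epiDesc (q x) (q' x) h1, Abelian.epiDesc (q' x) (q x) h2, ?_, ?_⟩, Abelian.comp_epiDesc _ _ _⟩
  · rw [← cancel_epi (q x), ← Category.assoc, Abelian.comp_epiDesc, Abelian.comp_epiDesc, Category.comp_id]
  · rw [← cancel_epi (q' x), ← Category.assoc, Abelian.comp_epiDesc, Abelian.comp_epiDesc, Category.comp_id]

end Groth.L07.PrimaryDecomp
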