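import Groth.Agent.L07.DiagRes
import Mathlib.RingTheory.Finiteness.Projective
import Mathlib.LinearAlgebra.Dual.Lemmas
import Mathlib.Algebra.Module.Torsion.Basic

/-! Injectivity of `I/mI → J/mJ` when `A/J` has finite projective dimension over `A/I`. -/

namespace Groth.L07.FiniteTorConormal

open IsLocalRing

set_option linter.style.haveILetI false

universe u

variable {A : Type u} [CommRing A]

/-- A free module with an endomorphism of square `x`, small modulo the maximal ideal, and an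
augmentation sending its image into `J`. -/
def Periodic [IsLocalRing A] (J : Ideal A) (x : A) : Prop :=
  ∃ (E : Type u) (_ : AddCommGroup E) (_ : Module A E) (_ : Module.Free A E) (δ : E →ₗ[A] E) (e : E)
    (ε : E →ₗ[A] A), δ ∘ₗ δ = x • LinearMap.id ∧ δ e ∈ maximalIdeal A • (⊤ : Submodule A E) ∧
      ε e = 1 ∧ (∀ v, ε (δ v) ∈ J) ∧ (∀ v ∈ maximalIdeal A • (⊤ : Submodule A E), δ v ∈ maximalIdeal A • (⊤ : Submodule A E))

theorem periodic_zero [IsLocalRing A] (J : Ideal A) : Periodic J 0 :=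
  ⟨A, inferInstance, inferInstance, inferInstance, 0, 1, LinearMap.id, by simp, by simp, rfl,
    fun v => J.zero_mem, fun v _ => Submodule.zero_mem _⟩

theorem periodic_add [IsLocalRing A] {J : Ideal A} {x : A} (h : Periodic J x) {μ j : A}
    (hμ : μ ∈ maximalIdeal A) (hj : j ∈ J) (hJ : J ≤ maximalIdeal A) : Periodic J (x + μ * j) := by
  obtain ⟨E, _, _, _, δ, e, ε, h2, he, hε, hεJ, hm⟩ := h
  let δ' : E × E →ₗ[A] E × E :=
    LinearMap.prod (δ ∘ₗ LinearMap.fst A E E + j • LinearMap.snd A E E)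
      (μ • LinearMap.fst A E E - δ ∘ₗ LinearMap.snd A E E)
  have hδ' : ∀ a b : E, δ' (a, b) = (δ a + j • b, μ • a - δ b) := fun a b => rfl
  have hsq : ∀ v, δ (δ v) = x • v := fun v => LinearMap.congr_fun h2 v
  refine ⟨E × E, inferInstance, inferInstance, inferInstance, δ', (e, 0), ε ∘ₗ LinearMap.fst A E E,
    ?_, ?_, hε, ?_, ?_⟩
  · refine LinearMap.ext fun p => ?_
    obtain ⟨a, b⟩ := p
    show δ' (δ' (a, b)) = (x + μ * j) • (a, b)
    rw [hδ', hδ', Prod.smul_mk]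
    refine Prod.ext ?_ ?_
    · show δ (δ a + j • b) + j • (μ • a - δ b) = (x + μ * j) • a
      rw [map_add, map_smul, hsq, smul_sub, smul_smul, add_smul, mul_comm j μ]
      abel
    · show μ • (δ a + j • b) - δ (μ • a - δ b) = (x + μ * j) • b
      rw [map_sub, map_smul, hsq, smul_add, smul_smul, add_smul]
      abel
  · rw [hδ', smul_zero, add_zero, map_zero, sub_zero]
    have h1 := Submodule.mem_map_of_mem (f := LinearMap.inl A E E) he
    rw [Submodule.map_smul''] at h1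
    have h3 : ((0 : E), μ • e) ∈ maximalIdeal A • (⊤ : Submodule A (E × E)) := by
      have := Submodule.smul_mem_smul hμ (Submodule.mem_top (x := ((0 : E), e)) (R := A))
      rwa [Prod.smul_mk, smul_zero] at this
    have h4 : (δ e, (0 : E)) ∈ maximalIdeal A • (⊤ : Submodule A (E × E)) :=
      Submodule.smul_mono le_rfl le_top h1
    simpa using add_mem h4 h3
  · rintro ⟨a, b⟩
    show ε (δ a + j • b) ∈ J
    rw [map_add, map_smul, smul_eq_mul]
    exact add_mem (hεJ a) (J.mul_mem_right _ hj)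
  · intro v hv
    refine Submodule.smul_induction_on (p := fun w => δ' w ∈ maximalIdeal A • (⊤ : Submodule A (E × E))) hv
      (fun r hr w _ => ?_) (fun a b ha hb => by rw [map_add]; exact add_mem ha hb)
    rw [map_smul]
    exact Submodule.smul_mem_smul hr trivial

theorem periodic_of_mem [IsLocalRing A] {J : Ideal A} (hJ : J ≤ maximalIdeal A) {x : A}
    (hx : x ∈ maximalIdeal A * J) : Periodic J x := by
  have key : ∀ y, Periodic J y → Periodic J (y + x) := by
    refine Submodule.mul_induction_on hx (fun μ hμ j hj y hy => periodic_add hy hμ hj hJ) ?_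
    intro a b ha hb y hy
    rw [← add_assoc]
    exact hb _ (ha _ hy)
  simpa using key 0 (periodic_zero J)

section Obstruction

variable [IsLocalRing A] {I : Ideal A} {E : Type u} [AddCommGroup E] [Module A E] [Module.Free A E]
  (δ : E →ₗ[A] E) (e : E)

/-- The obstruction property of a module over the quotient ring. -/
def Obs (N : Type u) [AddCommGroup N] [Module A N] : Prop :=
  ∀ ψ : E →ₗ[A] N, ψ ∘ₗ δ = 0 → ψ e ∈ maximalIdeal A • (⊤ : Submodule A N)

theorem obs_of_subsingleton (N : Type u) [AddCommGroup N] [Module A N] [Subsingleton N] : Obs δ e N :=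
  fun ψ _ => by rw [Subsingleton.elim (ψ e) 0]; exact zero_mem _

theorem obs_congr {N N' : Type u} [AddCommGroup N] [Module A N] [AddCommGroup N'] [Module A N']
    (e' : N ≃ₗ[A] N') (h : Obs δ e N) : Obs δ e N' := by
  intro ψ hψ
  have h1 := h (e'.symm.toLinearMap ∘ₗ ψ) (by rw [LinearMap.comp_assoc, hψ, LinearMap.comp_zero])
  have h2 := Submodule.mem_map_of_mem (f := e'.toLinearMap) h1
  rw [Submodule.map_smul'', Submodule.map_top, LinearEquiv.range] at h2
  simpa using h2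

variable {δ e} {x : A}

/-- Two steps of a resolution. -/
theorem obs_step (hδ2 : δ ∘ₗ δ = x • LinearMap.id) (hδe : δ e ∈ maximalIdeal A • (⊤ : Submodule A E))
    (hx : x ∈ I) (ℓ : ↥I →ₗ[A] ResidueField A) (hℓ : ℓ ⟨x, hx⟩ = 1)
    {N : Type u} [AddCommGroup N] [Module A N] [Module (A ⧸ I) N] [IsScalarTower A (A ⧸ I) N]
    {m₀ m₁ : ℕ} (g₀ : (Fin m₀ → A ⧸ I) →ₗ[A ⧸ I] N) (hg₀ : Function.Surjective g₀)
    (g₁ : (Fin m₁ → A ⧸ I) →ₗ[A ⧸ I] LinearMap.ker g₀) (hg₁ : Function.Surjective g₁)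
    (hobs : Obs δ e (LinearMap.ker g₁)) : Obs δ e N := by
  classical
  intro ψ hψ
  let π₀ : (Fin m₀ → A) →ₗ[A] (Fin m₀ → A ⧸ I) := (Ideal.Quotient.mkₐ A I).toLinearMap.compLeft _
  let π₁ : (Fin m₁ → A) →ₗ[A] (Fin m₁ → A ⧸ I) := (Ideal.Quotient.mkₐ A I).toLinearMap.compLeft _
  have hπ : ∀ (m : ℕ) (v : Fin m → A),
      ((Ideal.Quotient.mkₐ A I).toLinearMap.compLeft (Fin m)) v = 0 ↔ ∀ i, v i ∈ I := fun m v =>
    funext_iff.trans (forall_congr' fun i => Ideal.Quotient.eq_zero_iff_mem)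
  have hπs : ∀ m : ℕ, Function.Surjective ((Ideal.Quotient.mkₐ A I).toLinearMap.compLeft (Fin m)) := by
    intro m v
    choose w hw using fun i => Ideal.Quotient.mk_surjective (v i)
    exact ⟨w, funext hw⟩
  -- lift the map
  obtain ⟨φ₀, hφ₀⟩ := Module.projective_lifting_property ((g₀.restrictScalars A) ∘ₗ π₀) ψ
    (hg₀.comp (hπs m₀))
  have hin : ∀ v, (π₀ ∘ₗ φ₀ ∘ₗ δ) v ∈ (LinearMap.ker g₀).restrictScalars A := fun v => by
    show g₀ (π₀ (φ₀ (δ v))) = 0
    have h1 := LinearMap.congr_fun hφ₀ (δ v)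
    have h2 : ψ (δ v) = 0 := LinearMap.congr_fun hψ v
    exact h1.trans h2
  let c₀ : E →ₗ[A] LinearMap.ker g₀ :=
    (π₀ ∘ₗ φ₀ ∘ₗ δ).codRestrict ((LinearMap.ker g₀).restrictScalars A) hin
  obtain ⟨φ₁, hφ₁⟩ := Module.projective_lifting_property ((g₁.restrictScalars A) ∘ₗ π₁) c₀
    (hg₁.comp (hπs m₁))
  have h1 : ∀ v, ((g₁ (π₁ (φ₁ v))) : Fin m₀ → A ⧸ I) = π₀ (φ₀ (δ v)) := fun v =>
    congrArg Subtype.val (LinearMap.congr_fun hφ₁ v)
  have hsq : ∀ v, δ (δ v) = x • v := fun v => LinearMap.congr_fun hδ2 v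
  have hxπ : ∀ {m : ℕ} (v : Fin m → A), ((Ideal.Quotient.mkₐ A I).toLinearMap.compLeft (Fin m)) (x • v) = 0 :=
    fun v => (hπ _ _).mpr fun i => I.mul_mem_right _ hx
  have hin1 : ∀ v, (π₁ ∘ₗ φ₁ ∘ₗ δ) v ∈ (LinearMap.ker g₁).restrictScalars A := fun v => by
    show g₁ (π₁ (φ₁ (δ v))) = 0
    refine Subtype.ext ?_
    rw [h1, hsq, map_smul, hxπ]
    rfl
  let c₁ : E →ₗ[A] LinearMap.ker g₁ :=
    (π₁ ∘ₗ φ₁ ∘ₗ δ).codRestrict ((LinearMap.ker g₁).restrictScalars A) hin1
  have hc₁ : c₁ ∘ₗ δ = 0 := LinearMap.ext fun v => Subtype.ext <| by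
    show π₁ (φ₁ (δ (δ v))) = 0
    rw [hsq, map_smul, hxπ]
  have hmem := hobs c₁ hc₁
  -- lift the differential
  obtain ⟨G, hG⟩ := Module.projective_lifting_property π₀
    (((LinearMap.ker g₀).subtype ∘ₗ g₁).restrictScalars A ∘ₗ π₁) (hπs m₀)
  have hG' : ∀ v, π₀ (G v) = (g₁ (π₁ v) : Fin m₀ → A ⧸ I) := fun v => LinearMap.congr_fun hG v
  let mI : Submodule A (Fin m₀ → A) :=
    { carrier := {v | ∀ i, v i ∈ maximalIdeal A * I}
      add_mem' := fun ha hb i => add_mem (ha i) (hb i)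
      zero_mem' := fun i => zero_mem _
      smul_mem' := fun c v hv i => Ideal.mul_mem_left _ c (hv i) }
  have hτ : ∀ v, v ∈ maximalIdeal A • (⊤ : Submodule A E) → φ₀ (δ v) - G (φ₁ v) ∈ mI := by
    intro v hv
    refine Submodule.smul_induction_on (p := fun v => φ₀ (δ v) - G (φ₁ v) ∈ mI) hv (fun r hr w _ => ?_)
      (fun a b ha hb => by
        have := add_mem ha hb
        simp only [map_add] at this ⊢
        convert this using 1
        abel)
    intro i
    simp only [map_smul, ← smul_sub]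
    refine Ideal.mul_mem_mul hr ?_
    refine (hπ m₀ _).mp ?_ i
    show π₀ (φ₀ (δ w) - G (φ₁ w)) = 0
    rw [map_sub, hG', h1, sub_self]
  -- the element coming from the deeper syzygy
  obtain ⟨ρ, hρ, hρG⟩ : ∃ ρ : Fin m₁ → A, (∀ i, ρ i ∈ I) ∧ G (φ₁ (δ e)) - G ρ ∈ mI := by
    have key : ∀ z ∈ maximalIdeal A • (⊤ : Submodule A (LinearMap.ker g₁)), ∀ v : Fin m₁ → A,
        π₁ v = (z : Fin m₁ → A ⧸ I) → ∃ ρ : Fin m₁ → A, (∀ i, ρ i ∈ I) ∧ G v - G ρ ∈ mI := by
      intro z hz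
      refine Submodule.smul_induction_on hz (fun r hr w _ v hv => ?_) (fun a b ha hb v hv => ?_)
      · obtain ⟨w', hw'⟩ := hπs m₁ (w : Fin m₁ → A ⧸ I)
        refine ⟨v - r • w', (hπ m₁ _).mp ?_, ?_⟩
        · rw [map_sub, map_smul, hw']
          exact sub_eq_zero.mpr hv
        · rw [map_sub, sub_sub_cancel, map_smul]
          intro i
          refine Ideal.mul_mem_mul hr ((hπ m₀ _).mp ?_ i)
          show π₀ (G w') = 0
          rw [hG', show π₁ w' = (w : Fin m₁ → A ⧸ I) from hw', show g₁ (w : Fin m₁ → A ⧸ I) = 0 from w.2]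
          rfl
      · obtain ⟨a', ha'⟩ := hπs m₁ (a : Fin m₁ → A ⧸ I)
        obtain ⟨ρa, hρa, hρa'⟩ := ha a' ha'
        obtain ⟨ρb, hρb, hρb'⟩ := hb (v - a') (by
          rw [map_sub, hv, show π₁ a' = (a : Fin m₁ → A ⧸ I) from ha']
          exact add_sub_cancel_left _ _)
        refine ⟨ρa + ρb, fun i => add_mem (hρa i) (hρb i), ?_⟩
        have := add_mem hρa' hρb'
        simp only [map_sub, map_add] at this ⊢
        convert this using 1
        abel
    exact key _ hmem _ rfl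
  have htot : x • φ₀ e - G ρ ∈ mI := by
    have h3 := add_mem (hτ (δ e) hδe) hρG
    rw [hsq, map_smul] at h3
    convert h3 using 1
    abel
  -- apply the functional
  choose a ha using fun k : Fin m₁ => IsLocalRing.residue_surjective (ℓ ⟨ρ k, hρ k⟩)
  have hres : ∀ i, (φ₀ e - ∑ k, a k • G (Pi.single k 1)) i ∈ maximalIdeal A := by
    intro i
    have hsum : G ρ = ∑ k, ρ k • G (Pi.single k 1) := by
      conv_lhs => rw [pi_eq_sum_univ' ρ]
      rw [map_sum]
      simp only [map_smul]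
    have hzero : ∀ v : ↥I, (v : A) ∈ maximalIdeal A * I → ℓ v = 0 := by
      intro v hv
      have h1 : (v : A) ∈ (maximalIdeal A • (⊤ : Submodule A ↥I)).map I.subtype := by
        rwa [Submodule.map_smul'', Submodule.map_top, Submodule.range_subtype]
      obtain ⟨w, hw, hwv⟩ := h1
      rw [← Subtype.ext (a1 := w) (a2 := v) hwv]
      refine Submodule.smul_induction_on (p := fun u => ℓ u = 0) hw (fun r hr y _ => ?_)
        (fun y z h1 h2 => by rw [map_add, h1, h2, add_zero])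
      rw [map_smul, Algebra.smul_def,
        show algebraMap A (ResidueField A) r = 0 from (IsLocalRing.residue_eq_zero_iff r).mpr hr, zero_mul]
    have hmemI : (x • φ₀ e - G ρ) i ∈ I := (Ideal.mul_le_right : maximalIdeal A * I ≤ I) (htot i)
    have h4 := hzero ⟨_, hmemI⟩ (htot i)
    rw [← IsLocalRing.residue_eq_zero_iff]
    have h5 : (⟨(x • φ₀ e - G ρ) i, hmemI⟩ : ↥I) =
        φ₀ e i • ⟨x, hx⟩ - ∑ k, G (Pi.single k 1) i • ⟨ρ k, hρ k⟩ := by
      refine Subtype.ext ?_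
      rw [AddSubgroupClass.coe_sub, AddSubmonoidClass.coe_finsetSum]
      show (x • φ₀ e - G ρ) i = _
      rw [hsum]
      simp [Finset.sum_apply, mul_comm]
    rw [h5, map_sub, map_sum, map_smul, hℓ] at h4
    simp only [map_smul, ← ha] at h4
    rw [Pi.sub_apply, Finset.sum_apply, map_sub, map_sum]
    simp only [Pi.smul_apply, smul_eq_mul, map_mul]
    simp only [Algebra.smul_def, mul_one] at h4
    rw [← h4]
    refine congrArg₂ (· - ·) rfl (Finset.sum_congr rfl fun k _ => mul_comm _ _)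
  have hGG : ∀ v, g₀ (π₀ (G v)) = 0 := fun v => by rw [hG']; exact (g₁ (π₁ v)).2
  have hψe : ψ e = g₀ (π₀ (φ₀ e - ∑ k, a k • G (Pi.single k 1))) := by
    rw [map_sub, map_sum, map_sub, map_sum]
    simp only [map_smul, LinearMap.map_smul_of_tower, hGG, smul_zero, Finset.sum_const_zero, sub_zero]
    exact (LinearMap.congr_fun hφ₀ e).symm
  rw [hψe, pi_eq_sum_univ' (φ₀ e - ∑ k, a k • G (Pi.single k 1)), map_sum, map_sum]
  refine sum_mem fun i _ => ?_
  rw [map_smul, LinearMap.map_smul_of_tower]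
  exact Submodule.smul_mem_smul (hres i) trivial

open Groth.L07.DiagRes in
/-- The obstruction property for modules with a finite resolution. -/
theorem obs_of_res [IsLocalRing (A ⧸ I)]
    (hδ2 : δ ∘ₗ δ = x • LinearMap.id) (hδe : δ e ∈ maximalIdeal A • (⊤ : Submodule A E))
    (hx : x ∈ I) (ℓ : ↥I →ₗ[A] ResidueField A) (hℓ : ℓ ⟨x, hx⟩ = 1) :
    ∀ {n : ℕ} {N : Type u} [AddCommGroup N] [Module A N] [Module (A ⧸ I) N] [IsScalarTower A (A ⧸ I) N],
      Res (A ⧸ I) n N → Obs δ e N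
  | 0, N, _, _, _, _, ⟨hp, hf⟩ => by
    haveI := hp; haveI := hf
    haveI : Module.Free (A ⧸ I) N := Module.free_of_flat_of_isLocalRing
    let b := Module.finBasis (A ⧸ I) N
    let g₁ : (Fin 0 → A ⧸ I) →ₗ[A ⧸ I] LinearMap.ker b.equivFun.symm.toLinearMap := 0
    refine obs_step hδ2 hδe hx ℓ hℓ b.equivFun.symm.toLinearMap b.equivFun.symm.surjective g₁ ?_ ?_
    · intro y
      refine ⟨0, Subtype.ext (b.equivFun.symm.injective ?_)⟩
      rw [show b.equivFun.symm (y : Fin _ → A ⧸ I) = 0 from y.2]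
      exact map_zero _
    · exact obs_of_subsingleton δ e _
  | 1, N, _, _, _, _, ⟨m, g, hg, hp, hf⟩ => by
    haveI := hp; haveI := hf
    haveI : Module.Free (A ⧸ I) (LinearMap.ker g) := Module.free_of_flat_of_isLocalRing
    let b := Module.finBasis (A ⧸ I) (LinearMap.ker g)
    haveI : Subsingleton (LinearMap.ker b.equivFun.symm.toLinearMap) :=
      Submodule.subsingleton_iff_eq_bot.mpr (LinearMap.ker_eq_bot.mpr b.equivFun.symm.injective)
    exact obs_step hδ2 hδe hx ℓ hℓ g hg b.equivFun.symm.toLinearMap b.equivFun.symm.surjective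
      (obs_of_subsingleton δ e _)
  | n + 2, N, _, _, _, _, ⟨m, g, hg, m', g', hg', h⟩ =>
    obs_step hδ2 hδe hx ℓ hℓ g hg g' hg' (obs_of_res hδ2 hδe hx ℓ hℓ h)

end Obstruction

/-- `I/mI → J/mJ` is injective when `A/J` has a finite resolution over `A/I`. -/
theorem mem_maximal_mul_of_res [IsNoetherianRing A] [IsLocalRing A] (I J : Ideal A) (hIJ : I ≤ J) (hJ : J ≠ ⊤)
    [Algebra (A ⧸ I) (A ⧸ J)] [IsScalarTower A (A ⧸ I) (A ⧸ J)] {n : ℕ}
    (hres : Groth.L07.DiagRes.Res (A ⧸ I) n (A ⧸ J)) (x : A) (hx : x ∈ I)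
    (hxm : x ∈ maximalIdeal A * J) : x ∈ maximalIdeal A * I := by
  classical
  by_contra hne
  have hJm : J ≤ maximalIdeal A := IsLocalRing.le_maximalIdeal hJ
  haveI : Nontrivial (A ⧸ I) := Ideal.Quotient.nontrivial_iff.mpr fun h => hJ (top_le_iff.mp (h ▸ hIJ))
  haveI : IsLocalRing (A ⧸ I) := IsLocalRing.of_surjective' (Ideal.Quotient.mk I) Ideal.Quotient.mk_surjective
  -- a functional
  obtain ⟨ℓ, hℓ⟩ : ∃ ℓ : ↥I →ₗ[A] ResidueField A, ℓ ⟨x, hx⟩ = 1 := by
    let P : Submodule A ↥I := maximalIdeal A • ⊤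
    have hV : Module.IsTorsionBySet A (↥I ⧸ P) (maximalIdeal A : Set A) := fun v r => by
      obtain ⟨v, rfl⟩ := Submodule.mkQ_surjective P v
      rw [← map_smul, Submodule.mkQ_apply, Submodule.Quotient.mk_eq_zero]
      exact Submodule.smul_mem_smul r.2 trivial
    letI : Module (ResidueField A) (↥I ⧸ P) := hV.module
    haveI : IsScalarTower A (ResidueField A) (↥I ⧸ P) := hV.isScalarTower
    have hv : P.mkQ ⟨x, hx⟩ ≠ 0 := by
      rw [Submodule.mkQ_apply, Ne, Submodule.Quotient.mk_eq_zero]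
      intro h
      apply hne
      have h1 := Submodule.mem_map_of_mem (f := I.subtype) h
      rw [Submodule.map_smul'', Submodule.map_top, Submodule.range_subtype] at h1
      exact h1
    obtain ⟨f, hf⟩ : ∃ f : Module.Dual (ResidueField A) (↥I ⧸ P), f (P.mkQ ⟨x, hx⟩) = 1 :=
      Module.Projective.exists_dual_eq_one (ResidueField A) hv
    exact ⟨(f.restrictScalars A) ∘ₗ P.mkQ, hf⟩
  obtain ⟨E, _, _, _, δ, e, ε, hδ2, hδe, hε, hεJ, -⟩ := periodic_of_mem hJm hxm
  have hobs := obs_of_res hδ2 hδe hx ℓ hℓ hres ((Ideal.Quotient.mkₐ A J).toLinearMap ∘ₗ ε)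
    (LinearMap.ext fun v => Ideal.Quotient.eq_zero_iff_mem.mpr (hεJ v))
  have h1 : (maximalIdeal A • (⊤ : Submodule A (A ⧸ J))) =
      ((maximalIdeal A).map (Ideal.Quotient.mk J)).restrictScalars A := by
    rw [Ideal.smul_top_eq_map]
    rfl
  rw [h1] at hobs
  have h2 : (1 : A) ∈ maximalIdeal A := by
    have h3 : Ideal.Quotient.mk J (1 : A) ∈ (maximalIdeal A).map (Ideal.Quotient.mk J) := by
      have : Ideal.Quotient.mk J (ε e) ∈ (maximalIdeal A).map (Ideal.Quotient.mk J) := hobs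
      rwa [hε] at this
    rwa [Ideal.mem_quotient_iff_mem hJm] at h3
  exact (maximalIdeal.isMaximal A).ne_top ((Ideal.eq_top_iff_one _).mpr h2)


/-- `I/mI → J/mJ` is injective. -/
theorem mem_maximal_mul [IsNoetherianRing A] [IsLocalRing A] (I J : Ideal A) (hIJ : I ≤ J) (hJ : J ≠ ⊤)
    [Algebra (A ⧸ I) (A ⧸ J)] [IsScalarTower A (A ⧸ I) (A ⧸ J)]
    (hfd : DRing.HasFiniteTorDim (A ⧸ I) (A ⧸ J)) (x : A) (hx : x ∈ I)
    (hxm : x ∈ maximalIdeal A * J) : x ∈ maximalIdeal A * I := by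
  haveI : Nontrivial (A ⧸ I) := Ideal.Quotient.nontrivial_iff.mpr fun h => hJ (top_le_iff.mp (h ▸ hIJ))
  -- the finite resolution
  obtain ⟨n, hn⟩ := hfd
  haveI : Module.Finite (A ⧸ I) (A ⧸ J) := Module.Finite.of_surjective (Algebra.linearMap (A ⧸ I) (A ⧸ J))
    fun v => by
      obtain ⟨a, rfl⟩ := Ideal.Quotient.mk_surjective v
      exact ⟨Ideal.Quotient.mk I a, (IsScalarTower.algebraMap_apply A (A ⧸ I) (A ⧸ J) a).symm⟩
  haveI := Groth.L07.DiagRes.flat_of_hasTorDimLE (E := A ⧸ I) (A ⧸ J) (A ⧸ I) n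
    (Groth.L07.DiagRes.hasTorDimLE_congr (TensorProduct.lid (A ⧸ I) (A ⧸ J)).symm hn)
  haveI := Module.finitePresentation_of_finite (A ⧸ I) (TensorProduct (A ⧸ I) (A ⧸ I)
    (Groth.L07.DiagRes.F (E := A ⧸ I) (A ⧸ J) n ⧸ Groth.L07.DiagRes.Z (E := A ⧸ I) (A ⧸ J) n))
  have hres := Groth.L07.DiagRes.res_of_equiv (TensorProduct.lid (A ⧸ I) (A ⧸ J))
    (Groth.L07.DiagRes.res_of_projective (E := A ⧸ I) (A ⧸ J) (A ⧸ I) n Module.Flat.projective_of_finitePresentation)
  exact mem_maximal_mul_of_res I J hIJ hJ hres x hx hxm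

end Groth.L07.FiniteTorConormal
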