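import Groth.Agent.L07.FibreRes
import Groth.Agent.L07.FiniteTorConormal
import Groth.Agent.L07.RegularQuotient
import Groth.Agent.S5068
import Groth.Agent.S2361
import Groth.Agent.S2836

/-! Complete intersections along a flat local homomorphism: the case of a diagram of regular presentations. -/

namespace Groth.L07.AvramovCore

open TensorProduct IsLocalRing RingTheory.Sequence Groth.L07.RegIdeal
open scoped Pointwise

set_option linter.style.haveILetI false
set_option maxSynthPendingDepth 3

universe u

section FlatMap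

variable {R S : Type u} [CommRing R] [IsLocalRing R] [IsNoetherianRing R] [CommRing S] [IsLocalRing S]
  [IsNoetherianRing S] [Algebra R S] [IsLocalHom (algebraMap R S)] [Module.Flat R S]

/-- A regular ideal extends to a regular ideal. -/
theorem isRegularIdeal_map {I : Ideal R} (h : CInt.IsRegularIdeal I) :
    CInt.IsRegularIdeal (I.map (algebraMap R S)) := by
  obtain ⟨rs, hrs, rfl⟩ := h
  haveI : Module.FaithfullyFlat R S := Module.FaithfullyFlat.of_flat_of_isLocalHom
  exact ⟨rs.map (algebraMap R S), IsRegular.of_faithfullyFlat hrs, (Ideal.map_ofList _ _).symm⟩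

/-- Minimal generators stay minimal. -/
theorem isMin_map {I : Ideal R} {n : ℕ} {f : Fin n → R} (hf : IsMin I f) :
    IsMin (I.map (algebraMap R S)) (algebraMap R S ∘ f) := by
  have hspan : Ideal.span (Set.range (algebraMap R S ∘ f)) = I.map (algebraMap R S) := by
    rw [Set.range_comp, ← Ideal.map_span, hf.1]
  refine ⟨hspan, fun c hc i => ?_⟩
  rw [← hspan] at hc
  obtain ⟨d, hd, hdc⟩ := (Submodule.mem_ideal_smul_span_iff_exists_sum (maximalIdeal S) (algebraMap R S ∘ f) _).mp
    (show ∑ i, c i * (algebraMap R S ∘ f) i ∈ maximalIdeal S • Submodule.span S (Set.range (algebraMap R S ∘ f))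
      from hc)
  rw [Finsupp.sum_fintype _ _ (fun i => zero_smul S ((algebraMap R S ∘ f) i))] at hdc
  have hrel : ∑ j, f j • (c j - d j) = 0 := by
    simp only [Algebra.smul_def, mul_sub, Finset.sum_sub_distrib]
    rw [sub_eq_zero]
    calc ∑ j, algebraMap R S (f j) * c j = ∑ j, c j * (algebraMap R S ∘ f) j := by simp [mul_comm]
      _ = ∑ j, d j • (algebraMap R S ∘ f) j := hdc.symm
      _ = _ := by simp [mul_comm]
  obtain ⟨k, a, y, ha, hsum⟩ := Module.Flat.isTrivialRelation_of_sum_smul_eq_zero (R := R) (M := S) (f := f) (x := fun j => c j - d j) hrel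
  have hmem : ∀ j, c j - d j ∈ maximalIdeal S := by
    intro j
    rw [show c j - d j = _ from ha j]
    refine sum_mem fun l _ => ?_
    rw [Algebra.smul_def]
    refine Ideal.mul_mem_right _ _ (IsLocalRing.map_maximalIdeal_le (algebraMap R S) (Ideal.mem_map_of_mem _ ?_))
    exact hf.2 (fun j => a j l) (by rw [show ∑ j, a j l * f j = 0 from by simpa [mul_comm] using hsum l]; exact zero_mem _) j
  exact (sub_add_cancel (c i) (d i)) ▸ add_mem (hmem i) (hd i)

/-- A sequence becoming weakly regular is weakly regular. -/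
theorem isWeaklyRegular_of_map {l : List R} (h : IsWeaklyRegular S (l.map (algebraMap R S))) :
    IsWeaklyRegular R l := by
  haveI : Module.FaithfullyFlat R S := Module.FaithfullyFlat.of_flat_of_isLocalHom
  rw [isWeaklyRegular_iff] at h ⊢
  intro i hi
  have h' := h i (by rwa [List.length_map])
  refine IsSMulRegular.of_right_eq_zero_of_smul fun z hz => ?_
  obtain ⟨z, rfl⟩ := Submodule.mkQ_surjective _ z
  rw [Submodule.mkQ_apply] at hz ⊢
  rw [← Submodule.Quotient.mk_smul, Submodule.Quotient.mk_eq_zero, smul_eq_mul, smul_eq_mul, Ideal.mul_top] at hz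
  rw [Submodule.Quotient.mk_eq_zero, smul_eq_mul, Ideal.mul_top,
    ← Ideal.comap_map_eq_self_of_faithfullyFlat (B := S) (Ideal.ofList (l.take i)), Ideal.mem_comap]
  have h1 := Ideal.mem_map_of_mem (algebraMap R S) hz
  rw [map_mul, Ideal.map_ofList, List.map_take] at h1
  have h2 := h'.right_eq_zero_of_smul (x := Submodule.Quotient.mk (algebraMap R S z)) (by
    rw [← Submodule.Quotient.mk_smul, Submodule.Quotient.mk_eq_zero, smul_eq_mul, List.getElem_map, smul_eq_mul,
      Ideal.mul_top]
    exact h1)
  rw [Submodule.Quotient.mk_eq_zero, smul_eq_mul, Ideal.mul_top, ← List.map_take, ← Ideal.map_ofList] at h2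
  exact h2

/-- Regularity of an ideal descends. -/
theorem isRegularIdeal_of_map {I : Ideal R} (h : CInt.IsRegularIdeal (I.map (algebraMap R S))) :
    CInt.IsRegularIdeal I := by
  obtain ⟨n, f, hf⟩ := exists_isMin I
  have hreg := isRegular_of_isMin h (isMin_map (S := S) hf)
  rw [← List.map_ofFn] at hreg
  refine ⟨List.ofFn f, ⟨isWeaklyRegular_of_map hreg.1, fun htop => ?_⟩, by rw [RegIdeal.ofList_ofFn, hf.1]⟩
  refine hreg.top_ne_smul ?_
  rw [smul_eq_mul, Ideal.mul_top] at htop
  rw [smul_eq_mul, Ideal.mul_top, ← Ideal.map_ofList, ← htop, Ideal.map_top]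

end FlatMap

/-- Flatness descends along a regular sequence. -/
theorem flat_take {A C : Type u} [CommRing A] [IsNoetherianRing A] [CommRing C] [IsLocalRing C]
    [IsNoetherianRing C] [Algebra A C] {rs : List C} (hrs : IsRegular C rs)
    (hflat : Module.Flat A (C ⧸ Ideal.ofList rs)) :
    ∀ j ≤ rs.length, Module.Flat A (C ⧸ Ideal.ofList (rs.take j)) := by
  intro j hj
  induction hj using Nat.decreasingInduction with
  | self => rwa [List.take_length]
  | of_succ i hi ih =>
    let N := C ⧸ Ideal.ofList (rs.take i)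
    have hreg : IsSMulRegular N rs[i] := by
      have h := hrs.regular_mod_prev i hi
      exact ((Submodule.quotEquivOfEq _ _ (by rw [smul_eq_mul, Ideal.mul_top])).isSMulRegular_congr _).mp h
    have hm : rs[i] ∈ maximalIdeal C := by
      refine IsLocalRing.le_maximalIdeal (J := Ideal.ofList rs) (fun htop => hrs.top_ne_smul ?_)
        (Ideal.subset_span (s := {r | r ∈ rs}) (List.getElem_mem hi))
      rw [smul_eq_mul, Ideal.mul_top, htop]
    refine Groth.Agent.S2361.result rs[i] hm N hreg ?_
    let π : N →ₗ[C] C ⧸ Ideal.ofList (rs.take (i + 1)) := Submodule.factor (by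
      rw [List.take_succ_eq_append_getElem hi, Ideal.ofList_append]; exact le_sup_left)
    have hπ : LinearMap.ker π = Ideal.span {rs[i]} • (⊤ : Submodule C N) := by
      ext x
      obtain ⟨c, rfl⟩ := Submodule.mkQ_surjective _ x
      rw [show Ideal.span {rs[i]} • (⊤ : Submodule C N) =
        ((Ideal.span {rs[i]}).map (Ideal.Quotient.mk (Ideal.ofList (rs.take i)))).restrictScalars C from
          Ideal.smul_top_eq_map _, Submodule.restrictScalars_mem, LinearMap.mem_ker]
      show Submodule.Quotient.mk c = 0 ↔ Ideal.Quotient.mk _ c ∈ _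
      rw [Submodule.Quotient.mk_eq_zero, Ideal.mem_quotient_iff_mem_sup, List.take_succ_eq_append_getElem hi,
        Ideal.ofList_append, Ideal.ofList_singleton, sup_comm]
    haveI := ih
    exact Module.Flat.of_linearEquiv ((Submodule.quotEquivOfEq _ _ hπ.symm ≪≫ₗ
      LinearMap.quotKerEquivOfSurjective π (Submodule.factor_surjective _)).restrictScalars A)

/-- The diagram case. -/
theorem core {A B R S : Type u} [CommRing A] [IsLocalRing A] [IsNoetherianRing A]
    [CommRing B] [IsLocalRing B] [IsNoetherianRing B] [Algebra A B] [IsLocalHom (algebraMap A B)]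
    [Module.Flat A B] [CommRing R] [IsRegularLocalRing R] [CommRing S] [IsRegularLocalRing S]
    [Algebra R S] [IsLocalHom (algebraMap R S)] [Module.Flat R S]
    (hfib : IsRegularLocalRing (S ⧸ (maximalIdeal R).map (algebraMap R S)))
    (p : R →+* A) (hp : Function.Surjective p) (q : S →+* B) (hq : Function.Surjective q)
    (hpq : ∀ r, q (algebraMap R S r) = algebraMap A B (p r)) :
    Pi1.IsCompleteIntersection B ↔
      (Pi1.IsCompleteIntersection A ∧ Pi1.IsCompleteIntersection (EGA4.FibRing A B)) := by
  classical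
  let I := RingHom.ker p
  let IS := I.map (algebraMap R S)
  let J := RingHom.ker q
  have hISJ : IS ≤ J := Ideal.map_le_iff_le_comap.mpr fun r hr => by
    rw [Ideal.mem_comap, RingHom.mem_ker, hpq, RingHom.mem_ker.mp hr, map_zero]
  have hJ : J ≠ ⊤ := RingHom.ker_ne_top q
  have hJm : J ≤ maximalIdeal S := le_maximalIdeal hJ
  let C := S ⧸ IS
  haveI : IsLocalRing C := Groth.L01.isLocalRing_quotient (ne_top_of_le_ne_top hJ hISJ)
  -- algebra structures
  letI : Algebra R A := p.toAlgebra
  let a : A →+* C := (Ideal.quotientMap IS (algebraMap R S) (Ideal.map_le_iff_le_comap.mp le_rfl)).comp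
    (RingHom.quotientKerEquivOfSurjective hp).symm.toRingHom
  have ha : ∀ r, a (p r) = Ideal.Quotient.mk IS (algebraMap R S r) := fun r => by
    show Ideal.quotientMap IS (algebraMap R S) (Ideal.map_le_iff_le_comap.mp le_rfl : I ≤ IS.comap (algebraMap R S))
      ((RingHom.quotientKerEquivOfSurjective hp).symm (p r)) = _
    rw [RingHom.quotientKerEquivOfSurjective_symm_apply hp r]
    rfl
  letI : Algebra A C := a.toAlgebra
  haveI : IsScalarTower R A C := IsScalarTower.of_algebraMap_eq fun r => (ha r).symm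
  haveI : Module.Flat A C := Groth.L07.RegFlat.flat_quotient (B := R) (N := S) I hp rfl (N' := C)
    (Ideal.Quotient.mkₐ R IS).toLinearMap Ideal.Quotient.mk_surjective (by
      rw [Ideal.smul_top_eq_map]
      ext s
      exact Ideal.Quotient.eq_zero_iff_mem)
  let b : C →+* B := Ideal.Quotient.lift IS q fun s hs => hISJ hs
  have hb : Function.Surjective b := Ideal.Quotient.lift_surjective_of_surjective _ _ hq
  letI : Algebra C B := b.toAlgebra
  haveI : IsScalarTower A C B := IsScalarTower.of_algebraMap_eq fun x => by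
    obtain ⟨r, rfl⟩ := hp x
    show _ = b (a (p r))
    rw [ha, ← hpq]
    rfl
  haveI : IsLocalHom (algebraMap A C) := ⟨fun x hx => by
    refine (isUnit_map_iff (algebraMap A B) x).mp ?_
    rw [IsScalarTower.algebraMap_apply A C B]
    exact hx.map _⟩
  have hkb : RingHom.ker (algebraMap C B) = J.map (Ideal.Quotient.mk IS) := Ideal.ker_quotient_lift _ _
  -- the fibre of `C` over `A`
  have hmA : (maximalIdeal R).map p = maximalIdeal A := IsLocalRing.map_maximalIdeal_of_surjective p hp
  have hCfib : IsRegularLocalRing (EGA4.FibRing A C) := by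
    haveI := hfib
    have h1 : EGA4.mB A C = ((maximalIdeal R).map (algebraMap R S)).map (Ideal.Quotient.mk IS) := by
      show (maximalIdeal A).map a = _
      rw [← hmA, Ideal.map_map, Ideal.map_map]
      exact congrArg (fun φ => Ideal.map φ (maximalIdeal R)) (RingHom.ext ha)
    have h2 : IS ≤ (maximalIdeal R).map (algebraMap R S) :=
      Ideal.map_mono (le_maximalIdeal (RingHom.ker_ne_top p))
    exact IsRegularLocalRing.of_ringEquiv ((Ideal.quotEquivOfEq h1).trans
      (DoubleQuot.quotQuotEquivQuotOfLE h2)).symm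
  have hCI : ∀ {T : Type u} [CommRing T] [IsLocalRing T] [IsNoetherianRing T] (φ : S →+* T),
      Function.Surjective φ → (Pi1.IsCompleteIntersection T ↔ CInt.IsRegularIdeal (RingHom.ker φ)) :=
    fun φ hφ => ⟨Groth.L07.RegQuot.isRegularIdeal_of_isCompleteIntersection φ hφ,
      Groth.L07.RegQuot.isCompleteIntersection_of_isRegularIdeal φ hφ⟩
  rw [hCI q hq]
  constructor
  · intro hJreg
    -- a finite resolution over `C`
    let eF : EGA4.FibRing A C ≃ₐ[C] C ⊗[A] (A ⧸ maximalIdeal A) :=
      Algebra.TensorProduct.quotIdealMapEquivTensorQuot C (maximalIdeal A)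
    haveI := hCfib
    haveI : IsRegularLocalRing (C ⊗[A] (A ⧸ maximalIdeal A)) := IsRegularLocalRing.of_ringEquiv eF.toRingEquiv
    obtain ⟨d, hd⟩ := Groth.L01.exists_dim_eq_nat (R := C ⊗[A] (A ⧸ maximalIdeal A))
    haveI : Module.Finite C B := Module.Finite.of_surjective (Algebra.linearMap C B) hb
    have hres := Groth.L07.FibreRes.res_of_fibre (A := A) (C := C) (maximalIdeal A)
      (IsLocalRing.map_maximalIdeal_le (algebraMap A C)) d B
      (Groth.Agent.S0563.result _ d hd _)
    letI : Algebra (S ⧸ IS) (S ⧸ J) := (Ideal.Quotient.factor hISJ).toAlgebra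
    haveI : IsScalarTower S (S ⧸ IS) (S ⧸ J) := IsScalarTower.of_algebraMap_eq fun _ => rfl
    let eJ : B ≃ₗ[C] S ⧸ J :=
      { (RingHom.quotientKerEquivOfSurjective hq).symm.toAddEquiv with
        map_smul' := fun c x => by
          obtain ⟨s, rfl⟩ := Ideal.Quotient.mk_surjective c
          obtain ⟨t, rfl⟩ := hq x
          show (RingHom.quotientKerEquivOfSurjective hq).symm (q s * q t) =
            Ideal.Quotient.mk J s * (RingHom.quotientKerEquivOfSurjective hq).symm (q t)
          rw [← map_mul, RingHom.quotientKerEquivOfSurjective_symm_apply hq,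
            RingHom.quotientKerEquivOfSurjective_symm_apply hq, ← map_mul] }
    have hres' : Groth.L07.DiagRes.Res (S ⧸ IS) d (S ⧸ J) := Groth.L07.DiagRes.res_of_equiv eJ hres
    obtain ⟨n, f, hf⟩ := exists_isMin IS
    have hind : Indep J f := fun c hc =>
      hf.2 c (Groth.L07.FiniteTorConormal.mem_maximal_mul_of_res IS J hISJ hJ hres' _
        (hf.1.le (sum_mem fun i _ => Ideal.mul_mem_left _ _ (Ideal.subset_span ⟨i, rfl⟩))) hc)
    obtain ⟨hISreg, hJC⟩ := isRegularIdeal_of_indep hISJ hJreg hf.1 hind
    refine ⟨Groth.L07.RegQuot.isCompleteIntersection_of_isRegularIdeal p hp (isRegularIdeal_of_map hISreg), ?_⟩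
    obtain ⟨gs, hgs, hgs'⟩ := hJC
    have hgsB : Ideal.ofList gs = RingHom.ker (algebraMap C B) := hgs'.trans hkb.symm
    refine ((Groth.Agent.S5068.result A C B hCfib hb).mp ⟨gs, hgsB, hgs.1, flat_take hgs ?_⟩).2
    let ψ : C →ₐ[A] B := IsScalarTower.toAlgHom A C B
    have hψ : Function.Surjective ψ := hb
    have hk : Ideal.ofList gs = RingHom.ker ψ := hgsB
    let e : (C ⧸ Ideal.ofList gs) ≃ₐ[A] B :=
      (Ideal.quotientEquivAlgOfEq A hk).trans (Ideal.quotientKerAlgEquivOfSurjective hψ)
    exact Module.Flat.of_linearEquiv e.toLinearEquiv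
  · rintro ⟨hA, hF⟩
    have hISreg : CInt.IsRegularIdeal IS :=
      isRegularIdeal_map (Groth.L07.RegQuot.isRegularIdeal_of_isCompleteIntersection p hp hA)
    obtain ⟨gs, hgs, htr⟩ := (Groth.Agent.S5068.result A C B hCfib hb).mpr ⟨inferInstance, hF⟩
    refine Groth.Agent.S2836.result S IS J hISJ hJm hISreg ⟨gs, ⟨htr.1, ?_⟩, hgs.trans hkb⟩
    rw [smul_eq_mul, Ideal.mul_top, hgs]
    exact (RingHom.ker_ne_top _).symm

end Groth.L07.AvramovCore
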