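import Groth.Agent.L07.AvramovLift
import Groth.Agent.L07.AvramovCore
import Groth.Agent.L01.CohenRing
import Groth.Agent.L12.PSRing
import Groth.Agent.L20.LocalCriterion
import Groth.Agent.L29.Dual.CompleteDual

/-! Presentations of a local homomorphism of complete local rings by regular local rings. -/

namespace Groth.L07.AvramovDiagram

open IsLocalRing RingTheory.Sequence Groth.L07.RegIdeal

set_option linter.style.haveILetI false
set_option maxSynthPendingDepth 3

universe u

/-- Quotient by part of a regular system of parameters. -/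
theorem params {S : Type u} [CommRing S] [IsLocalRing S] [IsNoetherianRing S] (l₁ l₂ : List S)
    (hgen : Ideal.ofList (l₁ ++ l₂) = maximalIdeal S)
    (hdim : ((l₁.length + l₂.length : ℕ) : WithBot ℕ∞) ≤ ringKrullDim S) :
    IsRegularLocalRing S ∧ IsRegular S l₁ ∧ IsRegularLocalRing (S ⧸ Ideal.ofList l₁) := by
  have hrank : (maximalIdeal S).spanFinrank ≤ (l₁.length + l₂.length) := by
    rw [← hgen, ← List.length_append]
    exact Groth.L01.spanFinrank_ofList_le _
  haveI hS : IsRegularLocalRing S :=
    IsRegularLocalRing.of_spanFinrank_maximalIdeal_le _ ((Nat.cast_le.mpr hrank).trans hdim)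
  have heq : ringKrullDim S = ((l₁.length + l₂.length : ℕ) : WithBot ℕ∞) :=
    le_antisymm (((isRegularLocalRing_iff S).mp hS).symm.le.trans (Nat.cast_le.mpr hrank)) hdim
  have hreg := Groth.L01.isRegular_of_ofList_eq_maximalIdeal (l₁ ++ l₂) hgen (by rw [heq, List.length_append])
  have hle : Ideal.ofList l₁ ≤ maximalIdeal S := by
    rw [← hgen, Ideal.ofList_append]; exact le_sup_left
  have hne : Ideal.ofList l₁ ≠ ⊤ := ne_top_of_le_ne_top (maximalIdeal.isMaximal S).ne_top hle
  have h1 : IsRegular S l₁ := ⟨((isWeaklyRegular_append_iff S l₁ l₂).mp hreg.1).1,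
    by rw [smul_eq_mul, Ideal.mul_top]; exact hne.symm⟩
  haveI := Groth.L01.isLocalRing_quotient hne
  refine ⟨hS, h1, IsRegularLocalRing.of_spanFinrank_maximalIdeal_le _ ?_⟩
  let mk := Ideal.Quotient.mk (Ideal.ofList l₁)
  have hm : maximalIdeal (S ⧸ Ideal.ofList l₁) = Ideal.ofList (l₂.map mk) := by
    rw [← IsLocalRing.map_maximalIdeal_of_surjective mk Ideal.Quotient.mk_surjective, ← hgen, Ideal.ofList_append,
      Ideal.map_sup, Ideal.map_quotient_self, bot_sup_eq, Ideal.map_ofList]
  obtain ⟨a, ha⟩ := Groth.L01.exists_dim_eq_nat (R := S ⧸ Ideal.ofList l₁)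
  have h2 := ringKrullDim_add_length_eq_ringKrullDim_of_isRegular l₁ h1
  rw [ha, heq] at h2
  rw [hm, ha]
  refine Nat.cast_le.mpr ((Groth.L01.spanFinrank_ofList_le _).trans ?_)
  rw [List.length_map]
  have h3 : a + l₁.length = l₁.length + l₂.length := by exact_mod_cast h2
  omega

/-- Flatness when a generating sequence of the maximal ideal of the base stays weakly regular. -/
theorem flat_of_koszul {R S : Type u} [CommRing R] [IsLocalRing R] [IsNoetherianRing R] [CommRing S]
    [IsLocalRing S] [IsNoetherianRing S] [Algebra R S] [IsLocalHom (algebraMap R S)] (rs : List R)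
    (hgen : Ideal.ofList rs = maximalIdeal R) (hreg : IsWeaklyRegular S (rs.map (algebraMap R S))) :
    Module.Flat R S := by
  classical
  refine Groth.L20.flat_of_lTensor_maximalIdeal_injective S ?_
  rw [injective_iff_map_eq_zero]
  intro z hz
  let k := rs.length
  let x : Fin k → maximalIdeal R := fun i =>
    ⟨rs[i], hgen.le <| Ideal.subset_span (s := {r | r ∈ rs}) (List.getElem_mem i.2)⟩
  have hspan : ∀ w : TensorProduct R S (maximalIdeal R), ∃ b : Fin k → S, ∑ i, b i ⊗ₜ[R] x i = w := by
    intro w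
    induction w using TensorProduct.induction_on with
    | zero => exact ⟨0, by simp⟩
    | tmul s r =>
      have hr : (r : R) ∈ Ideal.span (Set.range fun i => rs[(i : Fin k)]) := by
        rw [show (Set.range fun i => rs[(i : Fin k)]) = {w | w ∈ rs} from Set.ext fun w => by
          simp [List.mem_iff_get, k]]
        exact hgen.ge r.2
      obtain ⟨c, hc⟩ := Ideal.mem_span_range_iff_exists_fun.mp hr
      refine ⟨fun i => c i • s, ?_⟩
      have : r = ∑ i, c i • x i := Subtype.ext (by simp [x, ← hc])
      rw [this, TensorProduct.tmul_sum]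
      exact Finset.sum_congr rfl fun i _ => TensorProduct.smul_tmul _ _ _
    | add a c ha hc =>
      obtain ⟨u, hu⟩ := ha; obtain ⟨v, hv⟩ := hc
      exact ⟨u + v, by simp [TensorProduct.add_tmul, Finset.sum_add_distrib, hu, hv]⟩
  obtain ⟨b, rfl⟩ := hspan z
  rw [map_sum] at hz
  have hsum : ∑ i, b i * algebraMap R S (rs[(i : Fin k)]) = 0 := by
    have h1 := congrArg (TensorProduct.rid R S) hz
    simpa [x, Algebra.smul_def, mul_comm] using h1
  have hl : List.ofFn (fun i : Fin k => algebraMap R S rs[i]) = rs.map (algebraMap R S) := by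
    exact List.ext_getElem (by simp [k]) (fun i h1 h2 => by simp)
  obtain ⟨t, ht⟩ := Groth.L07.RegQuot.exists_koszul (hl.symm ▸ hreg) b hsum
  have hb : ∀ i, b i ⊗ₜ[R] x i = ∑ j, (t i j - t j i) ⊗ₜ[R] ((rs[(j : Fin k)] : R) • x i) := fun i => by
    rw [ht i, TensorProduct.sum_tmul]
    refine Finset.sum_congr rfl fun j _ => ?_
    rw [← TensorProduct.smul_tmul, Algebra.smul_def, mul_comm]
  simp only [hb, TensorProduct.sub_tmul, Finset.sum_sub_distrib]
  rw [sub_eq_zero]
  conv_rhs => rw [Finset.sum_comm]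
  refine Finset.sum_congr rfl fun i _ => Finset.sum_congr rfl fun j _ => ?_
  congr 1
  exact Subtype.ext (mul_comm _ _)

section PowerSeries

variable {σ : Type*} [Finite σ] {Λ : Type u} [CommRing Λ] [IsLocalRing Λ]

theorem maximalIdeal_ps :
    maximalIdeal (MvPowerSeries σ Λ) =
      (maximalIdeal Λ).map MvPowerSeries.C ⊔ Ideal.span (Set.range MvPowerSeries.X) := by
  refine le_antisymm (fun f hf => ?_) (sup_le ?_ Groth.L12.span_X_le_maximalIdeal)
  · rw [Groth.L12.ps_mem_maximalIdeal_iff] at hf
    rw [show f = MvPowerSeries.C (MvPowerSeries.constantCoeff f) +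
      (f - MvPowerSeries.C (MvPowerSeries.constantCoeff f)) by ring]
    exact Submodule.add_mem_sup (Ideal.mem_map_of_mem _ hf) (Groth.L12.sub_C_mem_span_X f)
  · exact Ideal.map_le_iff_le_comap.mpr fun a ha => Groth.L12.C_mem_maximalIdeal ha

omit [IsLocalRing Λ] in
/-- Maps out of a power series ring into a separated local ring are determined by constants and variables. -/
theorem ps_ext {B : Type u} [CommRing B] [IsLocalRing B] [IsHausdorff (maximalIdeal B) B]
    (f g : MvPowerSeries σ Λ →+* B) (hC : ∀ a, f (MvPowerSeries.C a) = g (MvPowerSeries.C a))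
    (hX : ∀ i, f (MvPowerSeries.X i) = g (MvPowerSeries.X i))
    (hm : ∀ i, f (MvPowerSeries.X i) ∈ maximalIdeal B) : f = g := by
  have hfX : (Ideal.span (Set.range (MvPowerSeries.X : σ → MvPowerSeries σ Λ))).map f ≤ maximalIdeal B := by
    rw [Ideal.map_span, Ideal.span_le]; rintro _ ⟨_, ⟨i, rfl⟩, rfl⟩; exact hm i
  have hgX : (Ideal.span (Set.range (MvPowerSeries.X : σ → MvPowerSeries σ Λ))).map g ≤ maximalIdeal B := by
    rw [Ideal.map_span, Ideal.span_le]; rintro _ ⟨_, ⟨i, rfl⟩, rfl⟩; rw [← hX]; exact hm i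
  have hpoly : f.comp MvPolynomial.coeToMvPowerSeries.ringHom = g.comp MvPolynomial.coeToMvPowerSeries.ringHom :=
    MvPolynomial.ringHom_ext (fun a => by simpa using hC a) (fun i => by simpa using hX i)
  refine RingHom.ext fun a => sub_eq_zero.mp (IsHausdorff.haus (I := maximalIdeal B) inferInstance _ fun k => ?_)
  rw [SModEq.zero, smul_eq_mul, Ideal.mul_top]
  have h := Groth.L12.sub_truncTotal_mem a k
  have hk := RingHom.congr_fun hpoly (MvPowerSeries.truncTotal k a)
  simp only [RingHom.comp_apply, MvPolynomial.coeToMvPowerSeries.ringHom_apply] at hk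
  have hsplit : f a - g a = f (a - (MvPowerSeries.truncTotal k a : MvPolynomial σ Λ)) -
      g (a - (MvPowerSeries.truncTotal k a : MvPolynomial σ Λ)) := by
    rw [map_sub, map_sub, hk]; ring
  rw [hsplit]
  refine sub_mem (Ideal.pow_right_mono hfX k ?_) (Ideal.pow_right_mono hgX k ?_) <;>
    · rw [← Ideal.map_pow]; exact Ideal.mem_map_of_mem _ h

end PowerSeries

/-- A presentation of `A → B` by a flat local map of regular local rings. -/
structure Diagram (A B : Type u) [CommRing A] [CommRing B] [Algebra A B] where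
  R : Type u
  S : Type u
  [ringR : CommRing R]
  [ringS : CommRing S]
  [regR : IsRegularLocalRing R]
  [regS : IsRegularLocalRing S]
  [algRS : Algebra R S]
  [locRS : IsLocalHom (algebraMap R S)]
  [flatRS : Module.Flat R S]
  fibre : IsRegularLocalRing (S ⧸ (maximalIdeal R).map (algebraMap R S))
  p : R →+* A
  surjP : Function.Surjective p
  q : S →+* B
  surjQ : Function.Surjective q
  comm : ∀ r, q (algebraMap R S r) = algebraMap A B (p r)

attribute [instance] Diagram.ringR Diagram.ringS Diagram.regR Diagram.regS Diagram.algRS Diagram.locRS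
  Diagram.flatRS

variable {A B : Type u} [CommRing A] [CommRing B] [IsNoetherianRing A] [IsNoetherianRing B] [IsLocalRing A]
  [IsLocalRing B] [IsAdicComplete (maximalIdeal A) A] [IsAdicComplete (maximalIdeal B) B]
  [Algebra A B] [IsLocalHom (algebraMap A B)]

/-- The diagram built from coefficient rings. -/
theorem nonempty_diagram_of_coeff {ΛA ΛB : Type u} [CommRing ΛA] [CommRing ΛB] [IsLocalRing ΛA] [IsLocalRing ΛB]
    [IsNoetherianRing ΛA] [IsNoetherianRing ΛB] [IsAdicComplete (maximalIdeal ΛB) ΛB] (c : List ℕ)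
    (hA : maximalIdeal ΛA = Ideal.ofList (c.map (Nat.cast : ℕ → ΛA)))
    (hB : maximalIdeal ΛB = Ideal.ofList (c.map (Nat.cast : ℕ → ΛB)))
    (hdA : ∀ n, ((c.length + n : ℕ) : WithBot ℕ∞) ≤ ringKrullDim (MvPowerSeries (Fin n) ΛA))
    (hdB : ∀ n, ((c.length + n : ℕ) : WithBot ℕ∞) ≤ ringKrullDim (MvPowerSeries (Fin n) ΛB))
    (hL : ∀ N : ℕ, AvramovLift.Lifts ΛA (MvPowerSeries (Fin N) ΛB))
    (FA : ΛA →+* A) (hFA : Function.Surjective ((residue A).comp FA))
    (FB : ΛB →+* B) (hFB : Function.Surjective ((residue B).comp FB)) : Nonempty (Diagram A B) := by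
  classical
  obtain ⟨n, x, hx⟩ := Submodule.fg_iff_exists_fin_generating_family.mp
    (Ideal.fg_of_isNoetherianRing (maximalIdeal A))
  obtain ⟨m, w, hw⟩ := Submodule.fg_iff_exists_fin_generating_family.mp
    (Ideal.fg_of_isNoetherianRing (maximalIdeal B))
  obtain ⟨p, hpC, hpX, hp⟩ := Groth.L01.Cohen.exists_surjective_powerSeries FA hFA x hx
  have hxB : ∀ i, algebraMap A B (x i) ∈ maximalIdeal B := fun i =>
    IsLocalRing.map_maximalIdeal_le (algebraMap A B) (Ideal.mem_map_of_mem _ (hx.le (Ideal.subset_span ⟨i, rfl⟩)))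
  let v : Fin (n + m) → B := Fin.append (fun i => algebraMap A B (x i)) w
  have hv : Ideal.span (Set.range v) = maximalIdeal B := by
    rw [span_range_append]
    refine le_antisymm (sup_le (Ideal.span_le.mpr (by rintro _ ⟨i, rfl⟩; exact hxB i)) hw.le) ?_
    exact hw.ge.trans le_sup_right
  obtain ⟨q, -, hqX, hq⟩ := Groth.L01.Cohen.exists_surjective_powerSeries FB hFB v hv
  let S := MvPowerSeries (Fin (n + m)) ΛB
  let R := MvPowerSeries (Fin n) ΛA
  haveI : IsAdicComplete (maximalIdeal S) S := Groth.L12.isAdicComplete_mvPowerSeries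
  obtain ⟨L, hLq⟩ := AvramovLift.exists_lift (hL (n + m)) q hq ((algebraMap A B).comp FA)
  letI : Algebra ΛA S := L.toAlgebra
  let y : Fin n → S := fun i => MvPowerSeries.X (Fin.castAdd m i)
  obtain ⟨φ, hφ⟩ := Groth.L12.exists_evalPS (R := ΛA) (maximalIdeal S) y fun i => Groth.L12.X_mem_maximalIdeal _
  letI : Algebra R S := φ.toRingHom.toAlgebra
  have hφC : ∀ a, φ (MvPowerSeries.C a) = L a := fun a => φ.commutes a
  -- parameters
  let lR : List R := c.map (Nat.cast : ℕ → R) ++ List.ofFn (MvPowerSeries.X : Fin n → R)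
  let l₁ : List S := c.map (Nat.cast : ℕ → S) ++ List.ofFn y
  let l₂ : List S := List.ofFn fun j : Fin m => MvPowerSeries.X (Fin.natAdd n j)
  have hcast : ∀ {P Q : Type u} [CommRing P] [CommRing Q] (f : P →+* Q),
      (c.map (Nat.cast : ℕ → P)).map f = c.map (Nat.cast : ℕ → Q) := fun f => by
    rw [List.map_map]
    exact List.map_congr_left fun a _ => map_natCast f a
  have hgR : Ideal.ofList lR = maximalIdeal R := by
    rw [maximalIdeal_ps, hA, Ideal.map_ofList, hcast, Ideal.ofList_append, RegIdeal.ofList_ofFn]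
  have hgS : Ideal.ofList (l₁ ++ l₂) = maximalIdeal S := by
    rw [maximalIdeal_ps, hB, Ideal.map_ofList, hcast, Ideal.ofList_append, Ideal.ofList_append, sup_assoc,
      RegIdeal.ofList_ofFn, RegIdeal.ofList_ofFn, ← span_range_append]
    congr 3
    funext i
    refine Fin.addCases (fun i => ?_) (fun i => ?_) i <;> simp [y]
  obtain ⟨hSreg, hl₁, hfib⟩ := params l₁ l₂ hgS (by
    refine le_trans (le_of_eq ?_) (hdB (n + m))
    simp [l₁, l₂, add_assoc])
  obtain ⟨hRreg, -, -⟩ := params ([] : List R) lR (by rw [List.nil_append, hgR]) (by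
    refine le_trans (le_of_eq ?_) (hdA n)
    simp [lR])
  haveI := hSreg; haveI := hRreg
  have hmapl : lR.map (algebraMap R S) = l₁ := by
    show (c.map (Nat.cast : ℕ → R) ++ List.ofFn _).map φ.toRingHom = _
    rw [List.map_append, hcast, List.map_ofFn]
    simp only [l₁, y]
    congr 2
    exact funext hφ
  have hmR : (maximalIdeal R).map (algebraMap R S) = Ideal.ofList l₁ := by
    rw [← hgR, Ideal.map_ofList, hmapl]
  haveI : IsLocalHom (algebraMap R S) := by
    refine ((IsLocalRing.local_hom_TFAE (algebraMap R S)).out 0 2).mpr ?_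
    rw [hmR, ← hgS]
    rw [Ideal.ofList_append l₁]
    exact le_sup_left
  haveI : Module.Flat R S := flat_of_koszul lR hgR (hmapl ▸ hl₁.1)
  have hfib' : IsRegularLocalRing (S ⧸ (maximalIdeal R).map (algebraMap R S)) :=
    IsRegularLocalRing.of_ringEquiv (Ideal.quotEquivOfEq hmR).symm
  have hcomm : q.comp φ.toRingHom = (algebraMap A B).comp p := by
    refine ps_ext _ _ (fun a => ?_) (fun i => ?_) fun i => ?_
    · show q (φ (MvPowerSeries.C a)) = algebraMap A B (p (MvPowerSeries.C a))
      rw [hφC, ← RingHom.comp_apply q L, hLq, ← hpC]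
      rfl
    · show q (φ (MvPowerSeries.X i)) = algebraMap A B (p (MvPowerSeries.X i))
      rw [hφ, hpX, hqX]
      exact Fin.append_left _ _ i
    · show q (φ (MvPowerSeries.X i)) ∈ _
      rw [hφ, hqX]
      exact hv.le (Ideal.subset_span ⟨_, rfl⟩)
  exact ⟨{ R := R, S := S, fibre := hfib', p := p, surjP := hp, q := q, surjQ := hq,
           comm := fun r => RingHom.congr_fun hcomm r }⟩

/-- Local homomorphisms of complete local rings have presentations by regular local rings. -/
theorem nonempty_diagram : Nonempty (Diagram A B) := by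
  obtain ⟨p, hp⟩ := CharP.exists (ResidueField A)
  let ι : ResidueField A →+* ResidueField B := ResidueField.map (algebraMap A B)
  rcases CharP.char_is_prime_or_zero (ResidueField A) p with hpp | rfl
  · haveI := Fact.mk hpp
    haveI : CharP (ResidueField B) p := charP_of_injective_ringHom ι.injective p
    have hcohen : ∀ (T : Type u) [CommRing T] [IsLocalRing T] [IsAdicComplete (maximalIdeal T) T],
        CharP (ResidueField T) p → ∃ (Λ : Type u) (_ : CommRing Λ) (_ : IsLocalRing Λ) (_ : IsDomain Λ)
          (_ : IsNoetherianRing Λ) (_ : IsAdicComplete (maximalIdeal Λ) Λ) (F : Λ →+* T),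
          maximalIdeal Λ = Ideal.span {(p : Λ)} ∧ (∀ a : Λ, (p : Λ) * a = 0 → a = 0) ∧
          Function.Surjective ((residue T).comp F) := by
      intro T _ _ _ hT
      obtain ⟨Λ, _, _, _, -, hm, hreg, hc, hn, ⟨e⟩⟩ := Groth.L01.Cohen.exists_cohenRing p (ResidueField T)
      have hpT : (p : T) ∈ maximalIdeal T := by
        rw [← residue_eq_zero_iff, map_natCast, CharP.cast_eq_zero]
      obtain ⟨F, hF⟩ := Groth.L01.Cohen.exists_lift_cohen hm hreg hpT (e.toRingHom.comp (residue Λ))
      exact ⟨Λ, inferInstance, inferInstance, inferInstance, hn, hc, F, hm, hreg,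
        by rw [hF]; exact e.surjective.comp residue_surjective⟩
    obtain ⟨ΛA, _, _, _, _, _, FA, hmA, hregA, hFA⟩ := hcohen A inferInstance
    obtain ⟨ΛB, _, _, _, _, _, FB, hmB, hregB, hFB⟩ := hcohen B inferInstance
    have hdim : ∀ (Λ : Type u) [CommRing Λ] [IsLocalRing Λ] [IsDomain Λ] [IsNoetherianRing Λ],
        maximalIdeal Λ = Ideal.span {(p : Λ)} → (∀ a : Λ, (p : Λ) * a = 0 → a = 0) →
        ∀ n, (([p].length + n : ℕ) : WithBot ℕ∞) ≤ ringKrullDim (MvPowerSeries (Fin n) Λ) := by
      intro Λ _ _ _ _ hm hreg n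
      have h0 : (p : Λ) ≠ 0 := fun h => one_ne_zero (hreg 1 (by rw [h, zero_mul]))
      let c : MvPowerSeries (Fin n) Λ := MvPowerSeries.C (p : Λ)
      have hc : c ≠ 0 := fun h => h0 (by simpa [c] using congrArg MvPowerSeries.constantCoeff h)
      rw [List.length_singleton, Nat.add_comm, Nat.cast_add, Nat.cast_one]
      refine le_trans (add_le_add ?_ le_rfl)
        (ringKrullDim_quotient_succ_le_of_nonZeroDivisor (mem_nonZeroDivisors_of_ne_zero hc))
      refine (Groth.L01.PowSerReg.le_ringKrullDim (ResidueField Λ) n).trans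
        (ringKrullDim_le_of_surjective (Ideal.Quotient.lift (Ideal.span {c})
          (MvPowerSeries.map (residue Λ)) ?_) ?_)
      · intro a ha
        obtain ⟨b, rfl⟩ := Ideal.mem_span_singleton'.mp ha
        have : residue Λ (p : Λ) = 0 := (residue_eq_zero_iff _).2 (hm ▸ Ideal.mem_span_singleton_self _)
        show MvPowerSeries.map (residue Λ) (b * MvPowerSeries.C (p : Λ)) = 0
        rw [map_mul, MvPowerSeries.map_C, this, map_zero, mul_zero]
      · intro f
        choose g hg using fun d => residue_surjective (MvPowerSeries.coeff d f)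
        refine ⟨Ideal.Quotient.mk _ (fun d => g d), ?_⟩
        rw [Ideal.Quotient.lift_mk]
        ext d
        rw [MvPowerSeries.coeff_map]
        exact hg d
    refine nonempty_diagram_of_coeff [p] (by simpa using hmA) (by simpa using hmB) (hdim ΛA hmA hregA)
      (hdim ΛB hmB hregB) (fun N => AvramovLift.lifts_cohen hmA hregA ?_) FA hFA FB hFB
    rw [← map_natCast (MvPowerSeries.C : ΛB →+* MvPowerSeries (Fin N) ΛB)]
    exact Groth.L12.C_mem_maximalIdeal (hmB ▸ Ideal.mem_span_singleton_self _)
  · haveI := CharP.charP_to_charZero (ResidueField A)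
    haveI : CharP (ResidueField B) 0 := charP_of_injective_ringHom ι.injective 0
    haveI := CharP.charP_to_charZero (ResidueField B)
    obtain ⟨FA, hFA⟩ := Groth.L01.Cohen.exists_coefficientField_charZero (R := A)
    obtain ⟨FB, hFB⟩ := Groth.L01.Cohen.exists_coefficientField_charZero (R := B)
    haveI : IsAdicComplete (maximalIdeal (ResidueField B)) (ResidueField B) := by
      rw [maximalIdeal_eq_bot]; infer_instance
    have hdim : ∀ (K : Type u) [Field K] (n : ℕ),
        ((([] : List ℕ).length + n : ℕ) : WithBot ℕ∞) ≤ ringKrullDim (MvPowerSeries (Fin n) K) := fun K _ n => by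
      simpa using Groth.L01.PowSerReg.le_ringKrullDim K n
    exact nonempty_diagram_of_coeff [] (by simp [maximalIdeal_eq_bot, Ideal.ofList_nil])
      (by simp [maximalIdeal_eq_bot, Ideal.ofList_nil]) (hdim (ResidueField A)) (hdim (ResidueField B))
      (fun N => AvramovLift.lifts_charZero _) FA (by rw [hFA]; exact Function.surjective_id) FB
      (by rw [hFB]; exact Function.surjective_id)

/-- Avramov's theorem for complete rings. -/
theorem complete_case [Module.Flat A B] : Pi1.IsCompleteIntersection B ↔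
    (Pi1.IsCompleteIntersection A ∧ Pi1.IsCompleteIntersection (EGA4.FibRing A B)) := by
  obtain ⟨D⟩ := nonempty_diagram (A := A) (B := B)
  exact AvramovCore.core D.fibre D.p D.surjP D.q D.surjQ D.comm

end Groth.L07.AvramovDiagram
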