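import Groth.Agent.L07.SyntNhd
import Mathlib.RingTheory.TensorProduct.MvPolynomial
import Mathlib.RingTheory.Flat.FaithfullyFlat.Algebra
import Mathlib.RingTheory.FiniteType
import Mathlib.RingTheory.Ideal.KrullsHeightTheorem

/-! Relative global complete intersections descend to finitely generated rings. -/

namespace Groth.L07.SyntApprox

open TensorProduct PrimeSpectrum
open Groth.L07.CILocus Groth.L07.Synt Groth.L07.SyntNhd

set_option linter.style.haveILetI false
set_option maxSynthPendingDepth 3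

universe u

/-- Affine space over a field extension is faithfully flat. -/
theorem faithfullyFlat_map {K L : Type u} [Field K] [Field L] (e : K →+* L) (d : ℕ) :
    (MvPolynomial.map (σ := Fin d) e).FaithfullyFlat := by
  letI := e.toAlgebra
  letI : Algebra (MvPolynomial (Fin d) K) (MvPolynomial (Fin d) L) := (MvPolynomial.map e).toAlgebra
  haveI : IsScalarTower K (MvPolynomial (Fin d) K) (MvPolynomial (Fin d) L) :=
    IsScalarTower.of_algebraMap_eq fun x => by simp [RingHom.algebraMap_toAlgebra]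
  haveI : Algebra.IsPushout K L (MvPolynomial (Fin d) K) (MvPolynomial (Fin d) L) :=
    MvPolynomial.instIsPushout
  haveI : Algebra.IsPushout K (MvPolynomial (Fin d) K) L (MvPolynomial (Fin d) L) := Algebra.IsPushout.symm ‹_›
  exact Module.FaithfullyFlat.of_linearEquiv _ _
    (Algebra.IsPushout.equiv K (MvPolynomial (Fin d) K) L (MvPolynomial (Fin d) L)).toLinearEquiv.symm

theorem height_comap_le {K L : Type u} [Field K] [Field L] (e : K →+* L) {d : ℕ}
    (q : Ideal (MvPolynomial (Fin d) L)) [q.IsPrime] : (q.comap (MvPolynomial.map e)).height ≤ q.height := by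
  letI : Algebra (MvPolynomial (Fin d) K) (MvPolynomial (Fin d) L) := (MvPolynomial.map e).toAlgebra
  haveI : Module.FaithfullyFlat (MvPolynomial (Fin d) K) (MvPolynomial (Fin d) L) := faithfullyFlat_map e d
  haveI : q.LiesOver (q.comap (MvPolynomial.map e)) := ⟨rfl⟩
  rw [Ideal.height_eq_height_add_of_liesOver_of_hasGoingDown (q.comap (MvPolynomial.map e)) q]
  exact le_self_add

theorem exists_height_le {K L : Type u} [Field K] [Field L] (e : K →+* L) {d : ℕ}
    (q₀ : Ideal (MvPolynomial (Fin d) K)) [q₀.IsPrime] :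
    ∃ q : Ideal (MvPolynomial (Fin d) L), q.IsPrime ∧ q₀.map (MvPolynomial.map e) ≤ q ∧ q.height ≤ q₀.height := by
  letI : Algebra (MvPolynomial (Fin d) K) (MvPolynomial (Fin d) L) := (MvPolynomial.map e).toAlgebra
  haveI : Module.FaithfullyFlat (MvPolynomial (Fin d) K) (MvPolynomial (Fin d) L) := faithfullyFlat_map e d
  let J := q₀.map (algebraMap (MvPolynomial (Fin d) K) (MvPolynomial (Fin d) L))
  have hne : J ≠ ⊤ := fun h => (Ideal.IsPrime.ne_top ‹q₀.IsPrime›) (by
    rw [← Ideal.comap_map_eq_self_of_faithfullyFlat (B := MvPolynomial (Fin d) L) q₀]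
    exact (congrArg (Ideal.comap _) h).trans (Ideal.comap_top))
  obtain ⟨q, hq⟩ := Ideal.nonempty_minimalPrimes hne
  haveI := hq.1.1
  have hover : q.under (MvPolynomial (Fin d) K) = q₀ := by
    refine le_antisymm ?_ (Ideal.map_le_iff_le_comap.mp hq.1.2)
    haveI : q.LiesOver (q.under (MvPolynomial (Fin d) K)) := ⟨rfl⟩
    obtain ⟨q', hle, hq', hq'o⟩ := Ideal.exists_ideal_le_liesOver_of_le (p := q₀)
      (q := q.under (MvPolynomial (Fin d) K)) q (Ideal.map_le_iff_le_comap.mp hq.1.2)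
    have h1 : J ≤ q' := Ideal.map_le_iff_le_comap.mpr hq'o.over.le
    rw [le_antisymm (hq.2 ⟨hq', h1⟩ hle) hle]
    exact hq'o.over.ge
  haveI : q.LiesOver q₀ := ⟨hover.symm⟩
  refine ⟨q, inferInstance, hq.1.2, (Ideal.height_le_height_add_of_liesOver q₀ q).trans ?_⟩
  have h0 : (q.map (Ideal.Quotient.mk J)).height = 0 := by
    haveI : (q.map (Ideal.Quotient.mk J)).IsPrime :=
      Ideal.map_isPrime_of_surjective Ideal.Quotient.mk_surjective (by rw [Ideal.mk_ker]; exact hq.1.2)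
    rw [Ideal.height_eq_zero_iff]
    refine ⟨⟨inferInstance, bot_le⟩, fun r hr hle => ?_⟩
    haveI := hr.1
    have h1 : q ≤ r.comap (Ideal.Quotient.mk J) := hq.2 ⟨inferInstance, fun x hx => by
      rw [Ideal.mem_comap, Ideal.Quotient.eq_zero_iff_mem.mpr hx]; exact zero_mem _⟩ (fun x hx => by
      have h2 : Ideal.Quotient.mk J x ∈ q.map (Ideal.Quotient.mk J) := hle hx
      exact (Ideal.mem_quotient_iff_mem hq.1.2).mp h2)
    exact Ideal.map_le_iff_le_comap.mpr h1
  rw [h0, add_zero]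

theorem good_of_ext {R₀ R : Type u} [CommRing R₀] [CommRing R] (φ : R₀ →+* R) {n c : ℕ}
    (F₀ : Fin c → MvPolynomial (Fin n) R₀)
    (h : Synt.IsRelGCI R n c (fun i => MvPolynomial.map φ (F₀ i))) (p : PrimeSpectrum R)
    (P₀ : PrimeSpectrum (MvPolynomial (Fin n) R₀ ⧸ Ideal.span (Set.range F₀)))
    (hP₀ : comap (algebraMap R₀ (MvPolynomial (Fin n) R₀ ⧸ Ideal.span (Set.range F₀))) P₀ = comap φ p) :
    Good (Ideal.span (Set.range F₀)) c P₀ := by
  intro q' _ hq' _
  have hc : (comap (algebraMap R₀ (MvPolynomial (Fin n) R₀ ⧸ Ideal.span (Set.range F₀))) P₀).asIdeal =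
      p.asIdeal.comap φ := congrArg PrimeSpectrum.asIdeal hP₀
  let e := Ideal.ResidueField.map _ p.asIdeal φ hc
  obtain ⟨q'', hq''p, hq''le, hht⟩ := exists_height_le e q'
  haveI := hq''p
  refine le_trans (Groth.L07.SyntRel.height_ge_of_isRelGCI h p q'' ?_) hht
  rw [Ideal.map_span, Ideal.span_le]
  rintro _ ⟨_, ⟨i, rfl⟩, rfl⟩
  have h1 := hq''le (Ideal.mem_map_of_mem (MvPolynomial.map e)
    (hq' (Ideal.mem_map_of_mem _ (Ideal.subset_span (s := Set.range F₀) ⟨i, rfl⟩))))
  rw [θ, MvPolynomial.map_map] at h1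
  show MvPolynomial.map _ (MvPolynomial.map φ (F₀ i)) ∈ q''
  rw [MvPolynomial.map_map]
  refine (congrArg (fun g => MvPolynomial.map g (F₀ i) ∈ q'') ?_).mp h1
  exact RingHom.ext fun r => Ideal.ResidueField.map_algebraMap _ p.asIdeal _ hc r

/-- The good locus of a descended presentation covers the base change. -/
theorem map_eq_top {R₀ R : Type u} [CommRing R₀] [CommRing R] (φ : R₀ →+* R) {n c : ℕ}
    (F₀ : Fin c → MvPolynomial (Fin n) R₀) (F : Fin c → MvPolynomial (Fin n) R)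
    (hF₀ : ∀ i, MvPolynomial.map φ (F₀ i) = F i) (h : Synt.IsRelGCI R n c F)
    (a : Ideal (MvPolynomial (Fin n) R₀)) (hIa : Ideal.span (Set.range F₀) ≤ a)
    (ha : ∀ P : PrimeSpectrum (MvPolynomial (Fin n) R₀ ⧸ Ideal.span (Set.range F₀)),
      a ≤ P.asIdeal.comap (Ideal.Quotient.mk (Ideal.span (Set.range F₀))) ↔
        ¬ Good (Ideal.span (Set.range F₀)) c P) :
    Ideal.span (MvPolynomial.map (σ := Fin n) φ '' (a : Set (MvPolynomial (Fin n) R₀))) = ⊤ := by
  let m := MvPolynomial.map (σ := Fin n) φ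
  show a.map m = ⊤
  have hmI : (Ideal.span (Set.range F₀)).map m = Ideal.span (Set.range F) := by
    rw [Ideal.map_span, ← Set.range_comp]
    congr 2
    exact funext hF₀
  by_contra hne
  obtain ⟨Q, hQ, hle⟩ := Ideal.exists_le_maximal _ hne
  let I := Ideal.span (Set.range F)
  have hIQ : I ≤ Q := hmI.ge.trans ((Ideal.map_mono hIa).trans hle)
  let I₀ := Ideal.span (Set.range F₀)
  have hI₀Q : I₀ ≤ Q.comap m := Ideal.map_le_iff_le_comap.mp (hmI.trans_le hIQ)
  haveI := hQ.isPrime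
  haveI := Ideal.map_isPrime_of_surjective (I := Q.comap m) (f := Ideal.Quotient.mk I₀)
    Ideal.Quotient.mk_surjective (by rwa [Ideal.mk_ker])
  let P₀ : PrimeSpectrum (MvPolynomial (Fin n) R₀ ⧸ I₀) := ⟨(Q.comap m).map (Ideal.Quotient.mk I₀), inferInstance⟩
  have hP₀Q : P₀.asIdeal.comap (Ideal.Quotient.mk I₀) = Q.comap m := by
    rw [Ideal.comap_map_of_surjective _ Ideal.Quotient.mk_surjective, ← RingHom.ker_eq_comap_bot,
      Ideal.mk_ker, sup_eq_left.mpr hI₀Q]
  let p : PrimeSpectrum R := ⟨Q.comap MvPolynomial.C, inferInstance⟩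
  refine (ha P₀).mp (hP₀Q ▸ Ideal.map_le_iff_le_comap.mp hle) (good_of_ext (φ) F₀ ?_ p P₀ ?_)
  · rwa [show (fun i => MvPolynomial.map (φ) (F₀ i)) = F from funext hF₀]
  · refine PrimeSpectrum.ext (Ideal.ext fun r => ?_)
    show MvPolynomial.C r ∈ P₀.asIdeal.comap (Ideal.Quotient.mk I₀) ↔ MvPolynomial.C (φ r) ∈ Q
    rw [hP₀Q, Ideal.mem_comap, MvPolynomial.map_C]

/-- A sufficiently large intermediate ring carries the relative global complete intersection. -/
theorem exists_finset {R₀ R : Type u} [CommRing R₀] [CommRing R] (φ : R₀ →+* R) {n c : ℕ}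
    (F₀ : Fin c → MvPolynomial (Fin n) R₀) (F : Fin c → MvPolynomial (Fin n) R)
    (hF₀ : ∀ i, MvPolynomial.map φ (F₀ i) = F i) (h : Synt.IsRelGCI R n c F) :
    ∃ t : Finset R, ∀ (R₁ : Type u) [CommRing R₁] (ψ : R₁ →+* R) (j : R₀ →+* R₁), Function.Injective ψ →
      ψ.comp j = φ → (∀ b ∈ t, b ∈ Set.range ψ) →
        Synt.IsRelGCI R₁ n c (fun i => MvPolynomial.map j (F₀ i)) := by
  classical
  obtain ⟨a, hIa, ha⟩ := exists_ideal_good (Ideal.span (Set.range F₀)) c
  have h1 : (1 : MvPolynomial (Fin n) R) ∈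
      Ideal.span (MvPolynomial.map (σ := Fin n) φ '' (a : Set (MvPolynomial (Fin n) R₀))) := by
    rw [map_eq_top φ F₀ F hF₀ h a hIa ha]
    trivial
  obtain ⟨N, f, g, hfg⟩ := Submodule.mem_span_set'.mp h1
  choose y hy hyg using fun i => (g i).2
  refine ⟨Finset.univ.biUnion fun i => (f i).coeffs, fun R₁ _ ψ j hψ hcomp hrange => ?_⟩
  let m₁ := MvPolynomial.map (σ := Fin n) j
  have hm₁ : ∀ y, MvPolynomial.map ψ (m₁ y) = MvPolynomial.map φ y := fun y => by
    show MvPolynomial.map _ (MvPolynomial.map _ y) = MvPolynomial.map _ y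
    rw [MvPolynomial.map_map, hcomp]
  choose f₁ hf₁ using fun i => MvPolynomial.mem_range_map_iff_coeffs_subset.mpr
    (fun b hb => hrange b (Finset.mem_biUnion.mpr ⟨i, Finset.mem_univ i, hb⟩) : ((f i).coeffs : Set R) ⊆ Set.range ψ)
  have hone : (1 : MvPolynomial (Fin n) R₁) ∈ a.map m₁ := by
    have : ∑ i, f₁ i * m₁ (y i) = 1 := MvPolynomial.map_injective ψ hψ (by
      rw [map_sum, map_one, ← hfg]
      exact Finset.sum_congr rfl fun i _ => by rw [map_mul, hm₁, hf₁, hyg, smul_eq_mul])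
    rw [← this]
    exact sum_mem fun i _ => Ideal.mul_mem_left _ _ (Ideal.mem_map_of_mem _ (hy i))
  refine isRelGCI_of_height _ fun p₁ q₁ _ hq₁ => ?_
  let p₀ := comap j p₁
  let e := Ideal.ResidueField.map p₀.asIdeal p₁.asIdeal j rfl
  let ε := MvPolynomial.map (σ := Fin n) e
  have hθ : ∀ y, ε (θ p₀ y) = θ p₁ (m₁ y) := fun y => by
    show MvPolynomial.map e (MvPolynomial.map _ y) = MvPolynomial.map _ (MvPolynomial.map _ y)
    rw [MvPolynomial.map_map, MvPolynomial.map_map]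
    congr 2
    exact RingHom.ext fun r => Ideal.ResidueField.map_algebraMap p₀.asIdeal p₁.asIdeal _ rfl r
  let q₀ := q₁.comap ε
  have hq₀ : (Ideal.span (Set.range F₀)).map (θ p₀) ≤ q₀ := by
    rw [Ideal.map_span, Ideal.span_le]
    rintro _ ⟨_, ⟨i, rfl⟩, rfl⟩
    show ε (θ p₀ (F₀ i)) ∈ q₁
    rw [hθ]
    exact hq₁ (Ideal.mem_map_of_mem _ (Ideal.subset_span ⟨i, rfl⟩))
  refine le_trans ?_ (height_comap_le e q₁)
  obtain ⟨z, hz, hzq⟩ : ∃ z ∈ a, θ p₀ z ∉ q₀ := by
    by_contra hcon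
    push Not at hcon
    have hle : a.map m₁ ≤ q₁.comap (θ p₁) := Ideal.map_le_iff_le_comap.mpr fun z hz => by
      have := hcon z hz
      rw [Ideal.mem_comap, hθ] at this
      exact this
    exact (Ideal.IsPrime.comap (θ p₁) (K := q₁)).ne_top ((Ideal.eq_top_iff_one _).mpr (hle hone))
  exact height_ge_of_good (Ideal.span (Set.range F₀)) z
    (fun P hP => by_contra fun hn => hP ((ha P).mpr hn hz)) p₀ q₀ hq₀ hzq

/-- Descent of a relative global complete intersection. -/
theorem exists_descent (R : Type u) [CommRing R] {n c : ℕ} (F : Fin c → MvPolynomial (Fin n) R)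
    (h : Synt.IsRelGCI R n c F) :
    ∃ (R₀ : Subalgebra ℤ R) (F₀ : Fin c → MvPolynomial (Fin n) R₀), Algebra.FiniteType ℤ R₀ ∧
      (∀ i, MvPolynomial.map (algebraMap R₀ R) (F₀ i) = F i) ∧ Synt.IsRelGCI R₀ n c F₀ := by
  classical
  let s₀ : Finset R := Finset.univ.biUnion fun i => (F i).coeffs
  let A₀ := Algebra.adjoin ℤ (s₀ : Set R)
  choose F₀ hF₀ using fun i => MvPolynomial.mem_range_map_iff_coeffs_subset.mpr
    (fun b hb => ⟨⟨b, Algebra.subset_adjoin (Finset.mem_coe.mpr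
      (Finset.mem_biUnion.mpr ⟨i, Finset.mem_univ i, hb⟩))⟩, rfl⟩ :
      ((F i).coeffs : Set R) ⊆ Set.range (algebraMap A₀ R))
  obtain ⟨t, ht⟩ := exists_finset (algebraMap A₀ R) F₀ F hF₀ h
  let A₁ := Algebra.adjoin ℤ ((s₀ ∪ t : Finset R) : Set R)
  have hA : A₀ ≤ A₁ := Algebra.adjoin_mono (Finset.coe_subset.mpr Finset.subset_union_left)
  have hcomp : (algebraMap A₁ R).comp (Subalgebra.inclusion hA).toRingHom = algebraMap A₀ R := rfl
  refine ⟨A₁, fun i => MvPolynomial.map (Subalgebra.inclusion hA).toRingHom (F₀ i),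
    (Subalgebra.fg_iff_finiteType _).mp (Subalgebra.fg_adjoin_finset _),
    fun i => by rw [MvPolynomial.map_map, hcomp]; exact hF₀ i,
    ht A₁ (algebraMap A₁ R) (Subalgebra.inclusion hA).toRingHom Subtype.val_injective hcomp fun b hb =>
      ⟨⟨b, Algebra.subset_adjoin (Finset.mem_coe.mpr (Finset.mem_union_right _ hb))⟩, rfl⟩⟩

end Groth.L07.SyntApprox
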