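import Groth.Agent.L07.AssFlatLocal
import Groth.Agent.L19.Ass.Basic
import Groth.Agent.L07.GeomRk.RelAss
import Groth.Agent.L16.AffineBC.Pullback
import Groth.Agent.L06.SupportStalk
import Groth.Agent.L15.Ref.Tensor
import Groth.Agent.L22.QuotLength

/-!
Associated points of `f^*E ⊗ F` for `F` flat over the base.
-/

set_option autoImplicit false
set_option maxSynthPendingDepth 3
set_option synthInstance.maxHeartbeats 400000
set_option linter.style.haveILetI false
set_option backward.isDefEq.respectTransparency false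
set_option backward.isDefEq.respectTransparency.types false

universe u

open CategoryTheory CategoryTheory.Limits AlgebraicGeometry TopologicalSpace IsLocalRing TensorProduct

noncomputable section

namespace Groth.L07.AssTensor

variable {X Y : Scheme.{u}}

/-- An associated prime of a stalk gives an associated point. -/
theorem fromSpecStalk_mem_ass [IsLocallyNoetherian X] (M : X.Modules) [Coh.IsQCoh M] (x : X)
    (P : PrimeSpectrum (X.presheaf.stalk x))
    (h : P.asIdeal ∈ associatedPrimes (X.presheaf.stalk x) (M.presheaf.stalk x)) :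
    X.fromSpecStalk x P ∈ AssSch.Ass M := by
  obtain ⟨V, hV, hxV, -⟩ := exists_isAffineOpen_mem_and_subset (Opens.mem_top x)
  letI := Groth.L20.ModStalk.stalkModule M hxV
  letI := X.presheaf.algebra_section_stalk ⟨x, hxV⟩
  have := hV.isLocalization_stalk ⟨x, hxV⟩
  have := Groth.L20.ModStalk.isLocalizedModule_germ M hV hxV
  have : IsScalarTower Γ(X, V) (X.presheaf.stalk x) (M.presheaf.stalk x) :=
    IsScalarTower.of_algebraMap_smul fun _ _ => rfl
  haveI : IsNoetherianRing Γ(X, V) := IsLocallyNoetherian.component_noetherian ⟨V, hV⟩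
  have h2 := Module.associatedPrimes.comap_mem_associatedPrimes_of_mem_associatedPrimes_of_isLocalizedModule_of_fg
    (hV.primeIdealOf ⟨x, hxV⟩).asIdeal.primeCompl (Groth.L20.ModStalk.germₗ M hxV) _ h
    (IsNoetherian.noetherian _)
  rw [← hV.fromSpecStalk_eq_fromSpecStalk hxV]
  exact Groth.L19.Ass.fromSpec_mem_ass M hV (p := P.asIdeal.comap _) h2

/-- An associated point specializing to `x` comes from an associated prime of the stalk at `x`. -/
theorem exists_prime_of_ass [IsLocallyNoetherian X] (M : X.Modules) [Coh.IsQCoh M] {x' x : X}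
    (hsp : x' ⤳ x) (h : x' ∈ AssSch.Ass M) :
    ∃ P : PrimeSpectrum (X.presheaf.stalk x),
      P.asIdeal ∈ associatedPrimes (X.presheaf.stalk x) (M.presheaf.stalk x) ∧ X.fromSpecStalk x P = x' := by
  obtain ⟨V, hV, hxV, -⟩ := exists_isAffineOpen_mem_and_subset (Opens.mem_top x)
  obtain ⟨P, rfl⟩ : x' ∈ Set.range (X.fromSpecStalk x) := Scheme.range_fromSpecStalk ▸ hsp
  refine ⟨P, ?_, rfl⟩
  letI := Groth.L20.ModStalk.stalkModule M hxV
  letI := X.presheaf.algebra_section_stalk ⟨x, hxV⟩
  have := hV.isLocalization_stalk ⟨x, hxV⟩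
  have := Groth.L20.ModStalk.isLocalizedModule_germ M hV hxV
  have : IsScalarTower Γ(X, V) (X.presheaf.stalk x) (M.presheaf.stalk x) :=
    IsScalarTower.of_algebraMap_smul fun _ _ => rfl
  apply Module.associatedPrimes.mem_associatedPrimes_of_comap_mem_associatedPrimes_of_isLocalizedModule
    (hV.primeIdealOf ⟨x, hxV⟩).asIdeal.primeCompl (Groth.L20.ModStalk.germₗ M hxV)
  have h1 : X.fromSpecStalk x P ∈ V := hsp.mem_open V.2 hxV
  have h2 := (Groth.L19.Ass.mem_iff_of_affine M hV h1).mp h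
  have h3 : X.fromSpecStalk x P = hV.fromSpec ⟨P.asIdeal.comap (algebraMap Γ(X, V) (X.presheaf.stalk x)), inferInstance⟩ := by
    rw [← hV.fromSpecStalk_eq_fromSpecStalk hxV]
    rfl
  have h4 : hV.primeIdealOf ⟨_, h1⟩ = ⟨P.asIdeal.comap (algebraMap Γ(X, V) (X.presheaf.stalk x)), inferInstance⟩ :=
    hV.fromSpec.isOpenEmbedding.injective ((hV.fromSpec_primeIdealOf _).trans h3)
  rw [h4] at h2
  exact h2

/-- The image of a point of `Spec O_x`. -/
theorem image_fromSpecStalk (f : X ⟶ Y) (x : X) (P : PrimeSpectrum (X.presheaf.stalk x)) :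
    f (X.fromSpecStalk x P) =
      Y.fromSpecStalk (f x) ⟨P.asIdeal.comap (f.stalkMap x).hom, inferInstance⟩ := by
  rw [← Scheme.Hom.comp_apply, ← Scheme.SpecMap_stalkMap_fromSpecStalk]
  rfl

theorem fromSpecStalk_maximal (x : X) (P : PrimeSpectrum (X.presheaf.stalk x))
    (h : P.asIdeal = maximalIdeal _) : X.fromSpecStalk x P = x := by
  rw [show P = closedPoint (X.presheaf.stalk x) from PrimeSpectrum.ext h]
  exact Scheme.fromSpecStalk_closedPoint

/-- A stalk without embedded generalizations has finite length. -/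
theorem isFiniteLength_stalk [IsLocallyNoetherian X] (M : X.Modules) (hM : Coh.IsCoh M) (x : X)
    (hmax : ∀ x' ∈ AssSch.Ass M, x' ⤳ x → x' = x) :
    IsFiniteLength (X.presheaf.stalk x) (M.presheaf.stalk x) := by
  haveI : Coh.IsQCoh M := hM.1
  haveI := Groth.L06.SupportStalk.finite_stalk M hM x
  refine Module.length_ne_top_iff.mp (Groth.L22.QuotLength.length_ne_top_of_support _ fun p hp => ?_)
  rw [Module.support_eq_zeroLocus] at hp
  obtain ⟨q, hq, hqp⟩ := Ideal.exists_minimalPrimes_le (J := p.asIdeal) hp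
  haveI := hq.1.1
  have h1 := fromSpecStalk_mem_ass M x ⟨q, inferInstance⟩
    (Module.associatedPrimes.minimalPrimes_annihilator_subset_associatedPrimes _ _ hq)
  have hsp : X.fromSpecStalk x ⟨q, inferInstance⟩ ⤳ x :=
    (Scheme.range_fromSpecStalk (X := X) (x := x)).le ⟨_, rfl⟩
  have h2 := hmax _ h1 hsp
  have h3 : (⟨q, inferInstance⟩ : PrimeSpectrum (X.presheaf.stalk x)) = closedPoint _ :=
    (X.fromSpecStalk x).isEmbedding.injective (h2.trans Scheme.fromSpecStalk_closedPoint.symm)
  exact le_antisymm (le_maximalIdeal p.2.ne_top) ((congrArg PrimeSpectrum.asIdeal h3).ge.trans hqp)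

section Stalk

variable (f : X ⟶ Y) (E : Y.Modules) (F : X.Modules) (x : X)

/-- The structure map on stalks. -/
abbrev stalkAlg : Algebra (Y.presheaf.stalk (f x)) (X.presheaf.stalk x) := (f.stalkMap x).hom.toAlgebra

/-- The stalk of `f^*E ⊗ F`. -/
def tensorStalk :
    letI := stalkAlg f x
    letI := FlatMod.moduleStalkOver f F x
    haveI : IsScalarTower (Y.presheaf.stalk (f x)) (X.presheaf.stalk x) (F.presheaf.stalk x) :=
      IsScalarTower.of_algebraMap_smul fun _ _ => rfl
    (CohB1.tensorMod ((Scheme.Modules.pullback f).obj E) F).presheaf.stalk x ≃ₗ[X.presheaf.stalk x]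
      F.presheaf.stalk x ⊗[Y.presheaf.stalk (f x)] E.presheaf.stalk (f x) :=
  letI := stalkAlg f x
  letI := FlatMod.moduleStalkOver f F x
  haveI : IsScalarTower (Y.presheaf.stalk (f x)) (X.presheaf.stalk x) (F.presheaf.stalk x) :=
    IsScalarTower.of_algebraMap_smul fun _ _ => rfl
  let el : ((Scheme.Modules.pullback f).obj E).presheaf.stalk x ≃ₗ[X.presheaf.stalk x]
      X.presheaf.stalk x ⊗[Y.presheaf.stalk (f x)] E.presheaf.stalk (f x) :=
    ((Groth.L00.PullStalk.stalkIso f x).app E).toLinearEquiv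
  (Groth.L15.Ref.τE _ F x).symm ≪≫ₗ TensorProduct.congr el (LinearEquiv.refl _ _) ≪≫ₗ
    TensorProduct.comm _ _ _ ≪≫ₗ AlgebraTensorModule.cancelBaseChange _ _ _ _ _

/-- `F_x / m_y F_x`. -/
abbrev FibQ : Type u :=
  F.presheaf.stalk x ⧸ (maximalIdeal (Y.presheaf.stalk (f x))).map (f.stalkMap x).hom •
    (⊤ : Submodule (X.presheaf.stalk x) (F.presheaf.stalk x))

/-- The stalk of the fibre module. -/
theorem fibre_iff (s : Y) (z : ↥(f.fiber s)) {x : X} (hx : f.fiberι s z = x) :
    (z ∈ AssSch.Ass ((Scheme.Modules.pullback (f.fiberι s)).obj F) ↔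
      maximalIdeal (X.presheaf.stalk x) ∈ associatedPrimes (X.presheaf.stalk x) (FibQ f F x)) ∧
    Module.length ((f.fiber s).presheaf.stalk z)
        (((Scheme.Modules.pullback (f.fiberι s)).obj F).presheaf.stalk z) =
      Module.length (X.presheaf.stalk x) (FibQ f F x) := by
  subst hx
  let J := Ideal.map (f.stalkMap (f.fiberι s z)).hom (maximalIdeal (Y.presheaf.stalk (f (f.fiberι s z))))
  letI : Algebra (X.presheaf.stalk (f.fiberι s z)) ((f.fiber s).presheaf.stalk z) :=
    ((f.fiberι s).stalkMap z).hom.toAlgebra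
  have hs : Function.Surjective (algebraMap (X.presheaf.stalk (f.fiberι s z)) ((f.fiber s).presheaf.stalk z)) :=
    (Groth.L18.stalkMap_fiberι f s z).1
  have hk : RingHom.ker (algebraMap (X.presheaf.stalk (f.fiberι s z)) ((f.fiber s).presheaf.stalk z)) = J :=
    (Groth.L18.stalkMap_fiberι f s z).2
  let el : ((Scheme.Modules.pullback (f.fiberι s)).obj F).presheaf.stalk z ≃ₗ[(f.fiber s).presheaf.stalk z]
      (f.fiber s).presheaf.stalk z ⊗[X.presheaf.stalk (f.fiberι s z)] F.presheaf.stalk (f.fiberι s z) :=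
    ((Groth.L00.PullStalk.stalkIso (f.fiberι s) z).app F).toLinearEquiv
  let q : (X.presheaf.stalk (f.fiberι s z) ⧸ J) ≃ₗ[X.presheaf.stalk (f.fiberι s z)] (f.fiber s).presheaf.stalk z :=
    (Submodule.quotEquivOfEq _ _ (hk.symm.trans rfl)).trans
      ((Algebra.linearMap (X.presheaf.stalk (f.fiberι s z)) ((f.fiber s).presheaf.stalk z)).quotKerEquivOfSurjective hs)
  let e := (TensorProduct.congr q.symm (LinearEquiv.refl _ (F.presheaf.stalk (f.fiberι s z)))).trans
    (TensorProduct.quotTensorEquivQuotSMul (F.presheaf.stalk (f.fiberι s z)) J)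
  constructor
  · exact (LinearEquiv.isAssociatedPrime_iff el).trans
      (Groth.L07.RelAss.isAssociatedPrime_restrict_iff hs e).symm
  · rw [el.length_eq]
    exact (Module.length_eq_of_surjective (S := X.presheaf.stalk (f.fiberι s z)) hs).symm.trans e.length_eq

end Stalk

variable [IsLocallyNoetherian X] [IsLocallyNoetherian Y] (f : X ⟶ Y) (E : Y.Modules) (F : X.Modules)

/-- Associated points of `f^*E ⊗ F`. -/
theorem mem_ass_iff (hflat : FlatMod.IsFlatOver f F) (x : X) :
    x ∈ AssSch.Ass (CohB1.tensorMod ((Scheme.Modules.pullback f).obj E) F) ↔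
      f x ∈ AssSch.Ass E ∧
        maximalIdeal (X.presheaf.stalk x) ∈ associatedPrimes (X.presheaf.stalk x) (FibQ f F x) := by
  letI := stalkAlg f x
  letI := FlatMod.moduleStalkOver f F x
  haveI : IsScalarTower (Y.presheaf.stalk (f x)) (X.presheaf.stalk x) (F.presheaf.stalk x) :=
    IsScalarTower.of_algebraMap_smul fun _ _ => rfl
  haveI : Module.Flat (Y.presheaf.stalk (f x)) (F.presheaf.stalk x) := hflat x
  haveI : IsLocalHom (algebraMap (Y.presheaf.stalk (f x)) (X.presheaf.stalk x)) :=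
    inferInstanceAs (IsLocalHom (f.stalkMap x).hom)
  rw [Groth.L19.Ass.mem_iff, LinearEquiv.AssociatedPrimes.eq (tensorStalk f E F x)]
  exact Groth.L07.AssFlatLocal.maximal_mem_iff (F.presheaf.stalk x) (E.presheaf.stalk (f x))

/-- Every associated point of `E` below the support of `F` lifts. -/
theorem exists_lift (hF : Coh.IsCoh F) [Coh.IsQCoh E] (hflat : FlatMod.IsFlatOver f F) (x : X)
    (hx : x ∈ CohB1.support F) {y : Y} (hy : y ∈ AssSch.Ass E) (hsp : y ⤳ f x) :
    ∃ x' : X, x' ⤳ x ∧ f x' = y ∧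
      x' ∈ AssSch.Ass (CohB1.tensorMod ((Scheme.Modules.pullback f).obj E) F) := by
  haveI : Coh.IsQCoh F := hF.1
  haveI := Groth.L16.AffineBC.isQCoh_pullback f E
  haveI := Groth.L00.Tensor.isQCoh_tensorMod ((Scheme.Modules.pullback f).obj E) F
  obtain ⟨p, hp, hpy⟩ := exists_prime_of_ass E hsp hy
  letI := stalkAlg f x
  letI := FlatMod.moduleStalkOver f F x
  haveI : IsScalarTower (Y.presheaf.stalk (f x)) (X.presheaf.stalk x) (F.presheaf.stalk x) :=
    IsScalarTower.of_algebraMap_smul fun _ _ => rfl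
  haveI : Module.Flat (Y.presheaf.stalk (f x)) (F.presheaf.stalk x) := hflat x
  haveI : IsLocalHom (algebraMap (Y.presheaf.stalk (f x)) (X.presheaf.stalk x)) :=
    inferInstanceAs (IsLocalHom (f.stalkMap x).hom)
  haveI := Groth.L06.SupportStalk.finite_stalk F hF x
  haveI : Nontrivial (F.presheaf.stalk x) := not_subsingleton_iff_nontrivial.mp hx
  haveI := Groth.L07.AssFlatLocal.nontrivial_quot (A := X.presheaf.stalk x) (F.presheaf.stalk x) p.asIdeal
    (le_maximalIdeal p.2.ne_top)
  obtain ⟨Q, hQ⟩ := associatedPrimes.nonempty (X.presheaf.stalk x)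
    (F.presheaf.stalk x ⧸ p.asIdeal.map (algebraMap (Y.presheaf.stalk (f x)) (X.presheaf.stalk x)) •
      (⊤ : Submodule (X.presheaf.stalk x) (F.presheaf.stalk x)))
  refine ⟨X.fromSpecStalk x ⟨Q, hQ.isPrime⟩,
    (Scheme.range_fromSpecStalk (X := X) (x := x)).le ⟨_, rfl⟩, ?_, fromSpecStalk_mem_ass _ x _ ?_⟩
  · rw [image_fromSpecStalk]
    refine Eq.trans ?_ hpy
    exact congrArg _ (PrimeSpectrum.ext (Groth.L07.AssFlatLocal.comap_eq_of_mem (F.presheaf.stalk x) p.asIdeal hQ))
  · rw [LinearEquiv.AssociatedPrimes.eq (tensorStalk f E F x)]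
    exact Groth.L07.AssFlatLocal.mem_tensor_of_mem (F.presheaf.stalk x) hp hQ

/-- The length of a stalk of `f^*E ⊗ F`. -/
theorem length_stalk (hflat : FlatMod.IsFlatOver f F) (x : X)
    (hE : IsFiniteLength (Y.presheaf.stalk (f x)) (E.presheaf.stalk (f x))) :
    Module.length (X.presheaf.stalk x)
        ((CohB1.tensorMod ((Scheme.Modules.pullback f).obj E) F).presheaf.stalk x) =
      Module.length (Y.presheaf.stalk (f x)) (E.presheaf.stalk (f x)) *
        Module.length (X.presheaf.stalk x) (FibQ f F x) := by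
  letI := stalkAlg f x
  letI := FlatMod.moduleStalkOver f F x
  haveI : IsScalarTower (Y.presheaf.stalk (f x)) (X.presheaf.stalk x) (F.presheaf.stalk x) :=
    IsScalarTower.of_algebraMap_smul fun _ _ => rfl
  haveI : Module.Flat (Y.presheaf.stalk (f x)) (F.presheaf.stalk x) := hflat x
  rw [(tensorStalk f E F x).length_eq]
  exact Groth.L07.AssFlatLocal.length_tensor (F.presheaf.stalk x) _ hE

/-- The criterion for absence of embedded points. -/
theorem noEmbedded_iff (hE : Coh.IsCoh E) (hF : Coh.IsCoh F) (hflat : FlatMod.IsFlatOver f F) :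
    AssSch.NoEmbedded (CohB1.tensorMod ((Scheme.Modules.pullback f).obj E) F) ↔
      ∀ y ∈ AssSch.Ass E ∩ f.base '' CohB1.support F,
        (∀ y' ∈ AssSch.Ass E, y' ⤳ y → y' = y) ∧
          AssSch.NoEmbedded ((Scheme.Modules.pullback (f.fiberι y)).obj F) := by
  haveI : Coh.IsQCoh E := hE.1
  constructor
  · rintro hT y ⟨hy, x, hx, rfl⟩
    refine ⟨fun y' hy' hsp => ?_, fun z hz z' hz' hsp => ?_⟩
    · obtain ⟨x₁, -, hx₁y, hx₁⟩ := exists_lift f E F hF hflat x hx hy specializes_rfl
      have hx₁F : x₁ ∈ CohB1.support F := fun hsub => by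
        have h := ((mem_ass_iff f E F hflat x₁).mp hx₁).2
        haveI := hsub
        exact absurd h (by simp [associatedPrimes.eq_empty_of_subsingleton])
      have hsp₁ : y' ⤳ f x₁ := by rw [hx₁y]; exact hsp
      obtain ⟨x', hx'sp, hx'y, hx'⟩ := exists_lift f E F hF hflat x₁ hx₁F hy' hsp₁
      rw [← hx'y, ← hT x₁ hx₁ x' hx' hx'sp]
      exact hx₁y
    · have hmem : ∀ w ∈ AssSch.Ass ((Scheme.Modules.pullback (f.fiberι (f x))).obj F),
          f.fiberι (f x) w ∈ AssSch.Ass (CohB1.tensorMod ((Scheme.Modules.pullback f).obj E) F) :=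
        fun w hw => (mem_ass_iff f E F hflat _).mpr
          ⟨by rw [show f (f.fiberι (f x) w) = f x from (f.fiberHomeo (f x) w).2]; exact hy,
            (fibre_iff f F (f x) w rfl).1.mp hw⟩
      exact (f.fiberι (f x)).isEmbedding.injective
        (hT _ (hmem z hz) _ (hmem z' hz') (hsp.map (f.fiberι (f x)).continuous))
  · intro h x hx x' hx' hsp
    obtain ⟨hy, hxQ⟩ := (mem_ass_iff f E F hflat x).mp hx
    obtain ⟨hy', hxQ'⟩ := (mem_ass_iff f E F hflat x').mp hx'
    have hxF : x ∈ CohB1.support F := fun hsub => by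
      haveI := hsub
      exact absurd hxQ (by simp [associatedPrimes.eq_empty_of_subsingleton])
    obtain ⟨hmax, hfib⟩ := h (f x) ⟨hy, x, hxF, rfl⟩
    have he : f x' = f x := hmax (f x') hy' (hsp.map f.continuous)
    obtain ⟨z', hz'⟩ : x' ∈ Set.range (f.fiberι (f x)) := by rw [f.range_fiberι]; exact he
    have h2 := hfib (f.asFiber x) ((fibre_iff f F _ _ (f.fiberι_asFiber x)).1.mpr hxQ)
      z' ((fibre_iff f F _ _ hz').1.mpr hxQ')
      ((f.fiberι (f x)).isEmbedding.isInducing.specializes_iff.mp (by rw [hz', f.fiberι_asFiber]; exact hsp))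
    rw [← hz', ← h2, f.fiberι_asFiber]

/-- The criterion for reducedness. -/
theorem isReducedMod_iff (hE : Coh.IsCoh E) (hF : Coh.IsCoh F) (hflat : FlatMod.IsFlatOver f F) :
    AssSch.IsReducedMod (CohB1.tensorMod ((Scheme.Modules.pullback f).obj E) F) ↔
      ∀ y ∈ AssSch.Ass E ∩ f.base '' CohB1.support F,
        (∀ y' ∈ AssSch.Ass E, y' ⤳ y → y' = y) ∧
          Module.length (Y.presheaf.stalk y) (E.presheaf.stalk y) = 1 ∧
          AssSch.IsReducedMod ((Scheme.Modules.pullback (f.fiberι y)).obj F) := by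
  haveI : Coh.IsQCoh E := hE.1
  constructor
  · rintro ⟨hT, hlen⟩ y hyy
    obtain ⟨hmax, hfib⟩ := (noEmbedded_iff f E F hE hF hflat).mp hT y hyy
    obtain ⟨hy, x, hx, rfl⟩ := hyy
    have hfin := isFiniteLength_stalk E hE (f x) hmax
    have key : ∀ x₁ ∈ AssSch.Ass (CohB1.tensorMod ((Scheme.Modules.pullback f).obj E) F), f x₁ = f x →
        Module.length (Y.presheaf.stalk (f x₁)) (E.presheaf.stalk (f x₁)) = 1 ∧
          Module.length (X.presheaf.stalk x₁) (FibQ f F x₁) = 1 := by
      intro x₁ hx₁ he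
      have h1 := hlen x₁ hx₁
      rw [length_stalk f E F hflat x₁ (isFiniteLength_stalk E hE _ (by rw [he]; exact hmax))] at h1
      exact mul_eq_one.mp h1
    refine ⟨hmax, ?_, hfib, fun z hz => ?_⟩
    · obtain ⟨x₁, -, hx₁y, hx₁⟩ := exists_lift f E F hF hflat x hx hy specializes_rfl
      have h1 := (key x₁ hx₁ hx₁y).1
      rwa [hx₁y] at h1
    · have he : f (f.fiberι (f x) z) = f x := (f.fiberHomeo (f x) z).2
      rw [(fibre_iff f F (f x) z rfl).2]
      refine (key _ ((mem_ass_iff f E F hflat _).mpr ⟨?_, (fibre_iff f F (f x) z rfl).1.mp hz⟩) he).2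
      rw [he]; exact hy
  · intro h
    refine ⟨(noEmbedded_iff f E F hE hF hflat).mpr fun y hy => ⟨(h y hy).1, (h y hy).2.2.1⟩, fun x hx => ?_⟩
    obtain ⟨hy, hxQ⟩ := (mem_ass_iff f E F hflat x).mp hx
    have hxF : x ∈ CohB1.support F := fun hsub => by
      haveI := hsub
      exact absurd hxQ (by simp [associatedPrimes.eq_empty_of_subsingleton])
    obtain ⟨hmax, h1, -, h2⟩ := h (f x) ⟨hy, x, hxF, rfl⟩
    rw [length_stalk f E F hflat x (isFiniteLength_stalk E hE _ hmax), h1, one_mul,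
      ← (fibre_iff f F (f x) _ (f.fiberι_asFiber x)).2]
    exact h2 _ ((fibre_iff f F _ _ (f.fiberι_asFiber x)).1.mpr hxQ)

end Groth.L07.AssTensor
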