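import Groth.Agent.L07.FlatFamilyScheme
import Groth.Agent.L00.StalkFunctor
import Groth.Agent.S1391
import Mathlib.RingTheory.Artinian.Module
import Mathlib.RingTheory.Filtration

/-!
Tools for the statements of EGA IV 11.5.
-/

universe u

open CategoryTheory CategoryTheory.Limits AlgebraicGeometry

namespace Groth.L07.FlatFamily

set_option autoImplicit false
set_option linter.style.haveILetI false
set_option maxSynthPendingDepth 3
set_option backward.isDefEq.respectTransparency.types false
set_option backward.isDefEq.respectTransparency false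

noncomputable section

variable {X Y : Scheme.{u}}

theorem isFlatOverAt_of_iso (f : X ⟶ Y) {M N : X.Modules} (e : M ≅ N) (x : X) (h : FlatMod.IsFlatOverAt f M x) :
    FlatMod.IsFlatOverAt f N x := by
  let T := Groth.L00.Stk.F X x ⋙ ModuleCat.restrictScalars (f.stalkMap x).hom
  haveI : Module.Flat (Y.presheaf.stalk (f x)) (T.obj M) := h
  exact (Module.Flat.of_linearEquiv (T.mapIso e).symm.toLinearEquiv : Module.Flat (Y.presheaf.stalk (f x)) (T.obj N))

/-- Flatness of pullbacks over the points of a base passes to a further base change. -/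
theorem flat_of_comp (f : X ⟶ Y) (F : X.Modules) [Coh.IsQCoh F] (x : X) {T T' : Scheme.{u}} (g : T ⟶ Y) (j : T' ⟶ T)
    (t : T')
    (h : ∀ z : ↥(pullback f g), pullback.fst f g z = x → pullback.snd f g z = j t →
      FlatMod.IsFlatOverAt (pullback.snd f g) ((Scheme.Modules.pullback (pullback.fst f g)).obj F) z)
    (x' : ↥(pullback f (j ≫ g))) (h1 : pullback.fst f (j ≫ g) x' = x) (h2 : pullback.snd f (j ≫ g) x' = t) :
    FlatMod.IsFlatOverAt (pullback.snd f (j ≫ g))
      ((Scheme.Modules.pullback (pullback.fst f (j ≫ g))).obj F) x' := by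
  let m : pullback f (j ≫ g) ⟶ pullback f g :=
    pullback.lift (pullback.fst f (j ≫ g)) (pullback.snd f (j ≫ g) ≫ j) (by rw [Category.assoc, pullback.condition])
  have hm1 : m ≫ pullback.fst f g = pullback.fst f (j ≫ g) := pullback.lift_fst _ _ _
  have hm2 : m ≫ pullback.snd f g = pullback.snd f (j ≫ g) ≫ j := pullback.lift_snd _ _ _
  have hc : IsPullback m (pullback.snd f (j ≫ g)) (pullback.snd f g) j := by
    refine IsPullback.of_right ?_ hm2 (IsPullback.of_hasPullback f g)
    rw [hm1]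
    exact IsPullback.of_hasPullback f (j ≫ g)
  haveI := Groth.L16.AffineBC.isQCoh_pullback (pullback.fst f g) F
  have h3 : FlatMod.IsFlatOverAt (pullback.snd f g) ((Scheme.Modules.pullback (pullback.fst f g)).obj F) (m x') := by
    refine h _ ?_ ?_
    · rw [← Scheme.Hom.comp_apply, hm1]; exact h1
    · rw [← Scheme.Hom.comp_apply, hm2, Scheme.Hom.comp_apply]; exact congrArg j h2
  exact isFlatOverAt_of_iso _ ((Scheme.Modules.pullbackComp m (pullback.fst f g)).app F ≪≫
      (Scheme.Modules.pullbackCongr hm1).app F) x'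
    (Groth.Agent.S1391.result (pullback.snd f g) (pullback.snd f (j ≫ g)) m j hc _ inferInstance x' h3)

/-- The local ring of the spectrum of an Artinian local ring. -/
theorem exists_equiv_stalk {A : Type u} [CommRing A] [IsArtinianRing A] [IsLocalRing A] (p : Spec (CommRingCat.of A)) :
    ∃ e : A ≃+* (Spec (CommRingCat.of A)).presheaf.stalk p,
      CommRingCat.ofHom e.toRingHom = tst (CommRingCat.of A) p := by
  letI : Algebra A ((Spec (CommRingCat.of A)).presheaf.stalk p) := (tst (CommRingCat.of A) p).hom.toAlgebra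
  haveI : IsLocalization.AtPrime ((Spec (CommRingCat.of A)).presheaf.stalk p) p.asIdeal :=
    StructureSheaf.IsLocalization.to_stalk (CommRingCat.of A) p
  haveI : p.asIdeal.IsMaximal := IsArtinianRing.isMaximal_of_isPrime (R := A) p.asIdeal
  refine ⟨(IsLocalization.atUnits A p.asIdeal.primeCompl fun a ha => not_not.mp fun h =>
    ha (IsLocalRing.eq_maximalIdeal ‹p.asIdeal.IsMaximal› ▸ (IsLocalRing.mem_maximalIdeal a).mpr h)).toRingEquiv, ?_⟩
  rfl

theorem isLocalHom_of_artinian {A R : Type u} [CommRing A] [IsArtinianRing A] [IsLocalRing A] [CommRing R] [Nontrivial R]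
    (u : A →+* R) : IsLocalHom u := by
  refine ⟨fun a ha => not_not.mp fun h => ?_⟩
  obtain ⟨n, hn⟩ := IsArtinianRing.isNilpotent_jacobson_bot (R := A)
  have h1 : a ^ n ∈ Ideal.jacobson (⊥ : Ideal A) ^ n :=
    Ideal.pow_mem_pow (by rw [IsLocalRing.jacobson_eq_maximalIdeal ⊥ bot_ne_top]; exact (IsLocalRing.mem_maximalIdeal a).mpr h) n
  rw [hn] at h1
  have h2 := ha.pow n
  rw [← map_pow, Ideal.mem_bot.mp h1, map_zero] at h2
  exact not_isUnit_zero h2

/-- An injective family of an Artinian local ring defines its topology. -/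
theorem htop_artinian {A : Type u} [CommRing A] [IsArtinianRing A] [IsLocalRing A] {ι : Type u} (R : ι → Type u)
    [∀ i, CommRing (R i)] (φ : ∀ i, A →+* R i) (h : ∀ a : A, (∀ i, φ i a = 0) → a = 0) (k : ℕ) :
    ∃ I : ∀ i, Ideal (R i), (∀ a : A, (∀ i, φ i a ∈ I i) → a ∈ IsLocalRing.maximalIdeal A ^ k) ∧
      ∃ K : ℕ, ∀ i, (IsLocalRing.maximalIdeal A ^ K).map (φ i) ≤ I i := by
  obtain ⟨n, hn⟩ := IsArtinianRing.isNilpotent_jacobson_bot (R := A)
  rw [IsLocalRing.jacobson_eq_maximalIdeal ⊥ bot_ne_top] at hn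
  refine ⟨fun _ => ⊥, fun a ha => ?_, n, fun i => ?_⟩
  · rw [h a fun i => Ideal.mem_bot.mp (ha i)]; exact zero_mem _
  · rw [hn, Ideal.zero_eq_bot, Ideal.map_bot]

/-- Finite intersections of preimages of powers defining the adic topology. -/
theorem htop_adic {A : Type u} [CommRing A] [IsLocalRing A] {ι : Type u} (R : ι → Type u)
    [∀ i, CommRing (R i)] [∀ i, IsLocalRing (R i)] (φ : ∀ i, A →+* R i) [∀ i, IsLocalHom (φ i)]
    (htop : ∀ N : ℕ, ∃ s : Finset (ι × ℕ),
      ⨅ p ∈ s, Ideal.comap (φ p.1) (IsLocalRing.maximalIdeal (R p.1) ^ p.2) ≤ IsLocalRing.maximalIdeal A ^ N) (k : ℕ) :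
    ∃ I : ∀ i, Ideal (R i), (∀ a : A, (∀ i, φ i a ∈ I i) → a ∈ IsLocalRing.maximalIdeal A ^ k) ∧
      ∃ K : ℕ, ∀ i, (IsLocalRing.maximalIdeal A ^ K).map (φ i) ≤ I i := by
  classical
  obtain ⟨s, hs⟩ := htop k
  refine ⟨fun i => ⨅ n : {n : ℕ // (i, n) ∈ s}, IsLocalRing.maximalIdeal (R i) ^ n.1,
    fun a ha => hs ?_, s.sup Prod.snd, fun i => le_iInf fun n => ?_⟩
  · simp only [Submodule.mem_iInf, Ideal.mem_comap]
    intro p hp
    exact Submodule.mem_iInf _ |>.mp (ha p.1) ⟨p.2, hp⟩
  · rw [Ideal.map_pow]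
    refine (Ideal.pow_right_mono ((((IsLocalRing.local_hom_TFAE (φ i)).out 0 2).mp (‹∀ i, IsLocalHom (φ i)› i))) _).trans
      (Ideal.pow_le_pow_right ?_)
    exact Finset.le_sup (f := Prod.snd) n.2

/-- A finite extension defines the topology through its localizations at maximal ideals. -/
theorem htop_finite {A B : Type u} [CommRing A] [IsNoetherianRing A] [IsLocalRing A] [CommRing B] [Algebra A B]
    [Module.Finite A B] (hinj : Function.Injective (algebraMap A B)) (k : ℕ) :
    ∃ I : ∀ n : MaximalSpectrum B, Ideal (Localization.AtPrime n.asIdeal),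
      (∀ a : A, (∀ n : MaximalSpectrum B, algebraMap A (Localization.AtPrime n.asIdeal) a ∈ I n) →
        a ∈ IsLocalRing.maximalIdeal A ^ k) ∧
      ∃ K : ℕ, ∀ n : MaximalSpectrum B,
        (IsLocalRing.maximalIdeal A ^ K).map (algebraMap A (Localization.AtPrime n.asIdeal)) ≤ I n := by
  let m := IsLocalRing.maximalIdeal A
  let l := Algebra.linearMap A B
  obtain ⟨c, hc⟩ := Ideal.exists_pow_inf_eq_pow_smul m (LinearMap.range l)
  refine ⟨fun n => ((m ^ (k + c)).map (algebraMap A B)).map (algebraMap B (Localization.AtPrime n.asIdeal)),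
    fun a ha => ?_, k + c, fun n => ?_⟩
  · have h1 : algebraMap A B a ∈ (m ^ (k + c)).map (algebraMap A B) :=
      Ideal.mem_of_localization_maximal fun P hP => by
        have := ha ⟨P, hP⟩
        rwa [IsScalarTower.algebraMap_apply A B (Localization.AtPrime P)] at this
    have h2 : algebraMap A B a ∈ m ^ (k + c) • (⊤ : Submodule A B) ⊓ LinearMap.range l :=
      ⟨by rw [Ideal.smul_top_eq_map]; exact h1, ⟨a, rfl⟩⟩
    rw [hc _ (Nat.le_add_left c k), Nat.add_sub_cancel] at h2
    have h3 : algebraMap A B a ∈ Submodule.map l (m ^ k) := by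
      have h4 := Submodule.smul_mono le_rfl (inf_le_right : m ^ c • (⊤ : Submodule A B) ⊓ LinearMap.range l ≤ _) h2
      rwa [← Submodule.map_top, ← Submodule.map_smul'', Ideal.smul_eq_mul, Ideal.mul_top] at h4
    obtain ⟨a', ha', he⟩ := h3
    rwa [← hinj he]
  · show _ ≤ Ideal.map _ (Ideal.map _ _)
    rw [Ideal.map_map, ← IsScalarTower.algebraMap_eq]

end

end Groth.L07.FlatFamily
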