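import Groth.Agent.L07.GeomNormalAt
import Groth.Prelude.Def_CurvBase
import Groth.Prelude.Def_Pi1
import Groth.Prelude.Def_EGA4b
import Mathlib.AlgebraicGeometry.Noetherian

/-!
Affine charts of products over a field, and the resulting transfer of normality.
-/

universe u

open CategoryTheory CategoryTheory.Limits AlgebraicGeometry TensorProduct

namespace Groth.L07.FieldCharts

set_option autoImplicit false
set_option linter.style.haveILetI false
set_option maxSynthPendingDepth 3
set_option synthInstance.maxHeartbeats 400000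
set_option backward.isDefEq.respectTransparency.types false
set_option backward.isDefEq.respectTransparency false

/-- Every point of a scheme over an affine base lies in an affine chart compatible with the structure map. -/
theorem exists_affine_chart {R : Type u} [CommRing R] {X : Scheme.{u}} (f : X ⟶ Spec (CommRingCat.of R)) (x : X) :
    ∃ (C : Type u) (_ : CommRing C) (_ : Algebra R C) (i : Spec (CommRingCat.of C) ⟶ X) (q : PrimeSpectrum C),
      IsOpenImmersion i ∧ i.base q = x ∧ Spec.map (CommRingCat.ofHom (algebraMap R C)) = i ≫ f := by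
  obtain ⟨U, hU, hxU, -⟩ := exists_isAffineOpen_mem_and_subset (x := x) (U := ⊤) trivial
  obtain ⟨q, hq⟩ : ∃ q, hU.fromSpec.base q = x := by
    have h : x ∈ Set.range hU.fromSpec := by rw [hU.range_fromSpec]; exact hxU
    exact h
  exact ⟨Γ(X, U), inferInstance, (Spec.preimage (hU.fromSpec ≫ f)).hom.toAlgebra, hU.fromSpec, q,
    inferInstance, hq, Spec.map_preimage _⟩

theorem normal_stalk {X : Scheme.{u}} {R : Type u} [CommRing R] (c : Spec (CommRingCat.of R) ⟶ X)
    [IsOpenImmersion c] (P : PrimeSpectrum R)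
    (h : IsDomain (Localization.AtPrime P.asIdeal) ∧ IsIntegrallyClosed (Localization.AtPrime P.asIdeal)) :
    IsDomain (X.presheaf.stalk (c.base P)) ∧ IsIntegrallyClosed (X.presheaf.stalk (c.base P)) :=
  Groth.L07.GeomRk.normal_congr (asIso (c.stalkMap P)).commRingCatIsoToRingEquiv.symm
    (Groth.L07.GeomRk.normal_congr (Spec.stalkIso (CommRingCat.of R) P).commRingCatIsoToRingEquiv.symm h)

theorem normal_localization {X : Scheme.{u}} {R : Type u} [CommRing R] (c : Spec (CommRingCat.of R) ⟶ X)
    [IsOpenImmersion c] (P : PrimeSpectrum R)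
    (h : IsDomain (X.presheaf.stalk (c.base P)) ∧ IsIntegrallyClosed (X.presheaf.stalk (c.base P))) :
    IsDomain (Localization.AtPrime P.asIdeal) ∧ IsIntegrallyClosed (Localization.AtPrime P.asIdeal) :=
  Groth.L07.GeomRk.normal_congr (Spec.stalkIso (CommRingCat.of R) P).commRingCatIsoToRingEquiv
    (Groth.L07.GeomRk.normal_congr (asIso (c.stalkMap P)).commRingCatIsoToRingEquiv h)

theorem normalRing_of_normalScheme {X : Scheme.{u}} (hX : Pi1.IsNormalScheme X) {R : Type u} [CommRing R]
    (c : Spec (CommRingCat.of R) ⟶ X) [IsOpenImmersion c] : EGA4.IsNormalRing R :=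
  fun p hp => normal_localization c ⟨p, hp⟩ (hX _)

section Prod

variable {R : Type u} [CommRing R] {X Y : Scheme.{u}} (f : X ⟶ Spec (CommRingCat.of R))
  (g : Y ⟶ Spec (CommRingCat.of R)) {C B : Type u} [CommRing C] [CommRing B] [Algebra R C] [Algebra R B]
  (i : Spec (CommRingCat.of C) ⟶ X) [IsOpenImmersion i] (i' : Spec (CommRingCat.of B) ⟶ Y) [IsOpenImmersion i']
  (wC : Spec.map (CommRingCat.ofHom (algebraMap R C)) = i ≫ f)
  (wB : Spec.map (CommRingCat.ofHom (algebraMap R B)) = i' ≫ g)

include wC wB in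
theorem exists_prod_chart :
    ∃ c : Spec (CommRingCat.of (C ⊗[R] B)) ⟶ pullback f g, IsOpenImmersion c ∧
      c ≫ pullback.fst f g = Spec.map (CommRingCat.ofHom Algebra.TensorProduct.includeLeftRingHom) ≫ i ∧
      c ≫ pullback.snd f g =
        Spec.map (CommRingCat.ofHom (Algebra.TensorProduct.includeRight : B →ₐ[R] C ⊗[R] B).toRingHom) ≫ i' ∧
      Set.range c.base = (pullback.fst f g).base ⁻¹' Set.range i ∩ (pullback.snd f g).base ⁻¹' Set.range i' := by
  have hP := isPullback_SpecMap_of_isPushout _ _ _ _ (CommRingCat.isPushout_tensorProduct R C B)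
  refine ⟨hP.isoPullback.hom ≫ pullback.map _ _ f g i i' (𝟙 _)
    ((Category.comp_id _).trans wC) ((Category.comp_id _).trans wB), inferInstance, ?_, ?_, ?_⟩
  · rw [Category.assoc, pullback.map, pullback.lift_fst, hP.isoPullback_hom_fst_assoc]
  · rw [Category.assoc, pullback.map, pullback.lift_snd, hP.isoPullback_hom_snd_assoc]
  · have hsurj : Function.Surjective hP.isoPullback.hom := hP.isoPullback.hom.homeomorph.surjective
    rw [Scheme.Hom.comp_base, TopCat.coe_comp, hsurj.range_comp, Scheme.Pullback.range_map]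

end Prod

theorem isNormalScheme_pullback {R : Type u} [CommRing R] {X Y : Scheme.{u}} (f : X ⟶ Spec (CommRingCat.of R))
    (g : Y ⟶ Spec (CommRingCat.of R))
    (h : ∀ (C B : Type u) [CommRing C] [CommRing B] [Algebra R C] [Algebra R B]
      (i : Spec (CommRingCat.of C) ⟶ X) (i' : Spec (CommRingCat.of B) ⟶ Y) [IsOpenImmersion i] [IsOpenImmersion i'],
      Spec.map (CommRingCat.ofHom (algebraMap R C)) = i ≫ f →
      Spec.map (CommRingCat.ofHom (algebraMap R B)) = i' ≫ g → EGA4.IsNormalRing (C ⊗[R] B)) :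
    Pi1.IsNormalScheme (pullback f g) := by
  intro z
  obtain ⟨C, _, _, i, q, hi, hq, wC⟩ := exists_affine_chart f ((pullback.fst f g).base z)
  obtain ⟨B, _, _, i', q', hi', hq', wB⟩ := exists_affine_chart g ((pullback.snd f g).base z)
  obtain ⟨c, hc, -, -, hr⟩ := exists_prod_chart f g i i' wC wB
  obtain ⟨P, rfl⟩ : z ∈ Set.range c.base := by rw [hr]; exact ⟨⟨q, hq⟩, ⟨q', hq'⟩⟩
  exact normal_stalk c P (h C B i i' wC wB P.asIdeal)

section Field

variable (k : Type u) [Field k] (X : Scheme.{u}) [X.Over (Spec (CommRingCat.of k))]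
variable {C : Type u} [CommRing C] [Algebra k C] (i : Spec (CommRingCat.of C) ⟶ X) [IsOpenImmersion i]
  (w : Spec.map (CommRingCat.ofHom (algebraMap k C)) = i ≫ (X ↘ Spec (CommRingCat.of k)))

include w in
/-- The chart of a base change over an affine chart, field on the left. -/
theorem exists_bc_chart (K : Type u) [Field K] [Algebra k K] :
    ∃ c : Spec (CommRingCat.of (K ⊗[k] C)) ⟶ Curv2.bc k X K, IsOpenImmersion c ∧
      c ≫ pullback.fst _ _ = Spec.map (CommRingCat.ofHom
        (Algebra.TensorProduct.includeRight : C →ₐ[k] K ⊗[k] C).toRingHom) ≫ i ∧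
      c ≫ pullback.snd _ _ = Spec.map (CommRingCat.ofHom (algebraMap K (K ⊗[k] C))) ∧
      Set.range c.base = (pullback.fst (X ↘ Spec (CommRingCat.of k))
        (Spec.map (CommRingCat.ofHom (algebraMap k K)))).base ⁻¹' Set.range i := by
  obtain ⟨c, hc, h1, h2, hr⟩ := exists_prod_chart (Spec.map (CommRingCat.ofHom (algebraMap k K)))
    (X ↘ Spec (CommRingCat.of k)) (𝟙 _) i (Category.id_comp _).symm w
  refine ⟨c ≫ (pullbackSymmetry _ _).hom, inferInstance, ?_, ?_, ?_⟩
  · rw [Category.assoc, pullbackSymmetry_hom_comp_fst, h2]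
  · rw [Category.assoc, pullbackSymmetry_hom_comp_snd, h1, Category.comp_id]
    rfl
  · ext z
    let σ := pullbackSymmetry (Spec.map (CommRingCat.ofHom (algebraMap k K))) (X ↘ Spec (CommRingCat.of k))
    obtain ⟨z', rfl⟩ := σ.hom.homeomorph.surjective z
    have key : (pullback.fst _ _ : Curv2.bc k X K ⟶ X) (σ.hom z') =
        (pullback.snd (Spec.map (CommRingCat.ofHom (algebraMap k K))) (X ↘ Spec (CommRingCat.of k))) z' := by
      rw [← Scheme.Hom.comp_apply, pullbackSymmetry_hom_comp_fst]
    constructor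
    · rintro ⟨p, hp⟩
      have hp' : c.base p = z' := σ.hom.homeomorph.injective hp
      have h' := hr ▸ Set.mem_range_self (f := c.base) p
      rw [hp'] at h'
      exact Set.mem_preimage.mpr (key ▸ h'.2)
    · intro hz
      obtain ⟨p, hp⟩ : z' ∈ Set.range c.base := by
        rw [hr]
        refine ⟨⟨_, rfl⟩, ?_⟩
        rw [Set.mem_preimage, ← key]
        exact hz
      exact ⟨p, by rw [Scheme.Hom.comp_apply, hp]; rfl⟩

theorem isNormalScheme_bc (K : Type u) [Field K] [Algebra k K]
    (h : ∀ (C : Type u) [CommRing C] [Algebra k C] (i : Spec (CommRingCat.of C) ⟶ X) [IsOpenImmersion i],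
      Spec.map (CommRingCat.ofHom (algebraMap k C)) = i ≫ (X ↘ Spec (CommRingCat.of k)) →
        EGA4.IsNormalRing (K ⊗[k] C)) :
    Pi1.IsNormalScheme (Curv2.bc k X K) := by
  intro z
  obtain ⟨C, _, _, i, q, hi, hq, w⟩ := exists_affine_chart (X ↘ Spec (CommRingCat.of k)) ((pullback.fst _ _ : Curv2.bc k X K ⟶ X).base z)
  obtain ⟨c, hc, -, -, hr⟩ := exists_bc_chart k X i w K
  obtain ⟨P, rfl⟩ : z ∈ Set.range c.base := by rw [hr]; exact ⟨q, hq⟩
  exact normal_stalk c P (h C i w P.asIdeal)

include w in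
theorem normalRing_of_bc (K : Type u) [Field K] [Algebra k K] (h : Pi1.IsNormalScheme (Curv2.bc k X K)) :
    EGA4.IsNormalRing (K ⊗[k] C) := by
  obtain ⟨c, hc, -, -, -⟩ := exists_bc_chart k X i w K
  exact normalRing_of_normalScheme h c

end Field

end Groth.L07.FieldCharts
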