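import Groth.Agent.L07.Equidim
import Mathlib.RingTheory.ZariskisMainTheorem
import Mathlib.RingTheory.IntegralClosure.GoingDown
import Mathlib.AlgebraicGeometry.Morphisms.UniversallyOpen

/-!
Quasi-finite dominant morphisms to normal schemes are generalizing (EGA IV 14.4.1).
-/

universe u

open CategoryTheory CategoryTheory.Limits AlgebraicGeometry TopologicalSpace Topology

namespace Groth.L07.Chevalley

set_option maxSynthPendingDepth 3
set_option linter.style.haveILetI false
set_option backward.isDefEq.respectTransparency.types false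
set_option backward.isDefEq.respectTransparency false

/-- Going down at a quasi-finite point over an integrally closed domain. -/
theorem exists_prime_le {B S : Type u} [CommRing B] [IsDomain B] [IsIntegrallyClosed B] [CommRing S]
    [IsDomain S] [Algebra B S] [Algebra.FiniteType B S] (hinj : Function.Injective (algebraMap B S))
    (q : Ideal S) [q.IsPrime] [Algebra.QuasiFiniteAt B q] (p' : Ideal B) [p'.IsPrime]
    (hle : p' ≤ q.comap (algebraMap B S)) :
    ∃ Q : Ideal S, Q.IsPrime ∧ Q ≤ q ∧ Q.comap (algebraMap B S) = p' := by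
  obtain ⟨r, hr, hbij⟩ := Algebra.ZariskisMainProperty.of_finiteType (R := B) q
  let C := integralClosure B S
  have hBC : Function.Injective (algebraMap B C) := fun a b h => hinj (congrArg Subtype.val h)
  haveI : FaithfulSMul B C := (faithfulSMul_iff_algebraMap_injective B C).mpr hBC
  haveI : Algebra.IsIntegral B C := inferInstance
  let qC : Ideal C := q.comap C.val.toRingHom
  haveI : qC.IsPrime := Ideal.IsPrime.comap _
  haveI : qC.LiesOver (qC.under B) := ⟨rfl⟩
  have hle' : p' ≤ qC.under B := fun x hx => hle hx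
  obtain ⟨P, hPle, hP, hPo⟩ := Ideal.exists_ideal_le_liesOver_of_le qC hle'
  have hrP : r ∉ P := fun h => hr (hPle h)
  let Cr := Localization.Away r
  let Sr := Localization.Away (C.val.toRingHom r)
  let e : Cr ≃+* Sr := RingEquiv.ofBijective _ hbij
  have hdisj : Disjoint (Submonoid.powers r : Set C) (P : Set C) := by
    rw [Set.disjoint_left]
    rintro _ ⟨m, rfl⟩ h
    exact hrP (hP.mem_of_pow_mem m h)
  let Pr : Ideal Cr := P.map (algebraMap C Cr)
  haveI : Pr.IsPrime := IsLocalization.isPrime_of_isPrime_disjoint (Submonoid.powers r) Cr P hP hdisj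
  have hPr : Pr.comap (algebraMap C Cr) = P :=
    IsLocalization.comap_map_of_isPrime_disjoint (Submonoid.powers r) Cr hP hdisj
  have he : ∀ c : C, e.symm (algebraMap S Sr (c : S)) = algebraMap C Cr c := fun c => by
    rw [RingEquiv.symm_apply_eq]
    show _ = Localization.awayMap C.val.toRingHom r (algebraMap C Cr c)
    exact (IsLocalization.map_eq (M := Submonoid.powers r) (S := Cr) (Q := Sr) (g := C.val.toRingHom) _ c).symm
  let Q : Ideal S := Pr.comap (e.symm.toRingHom.comp (algebraMap S Sr))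
  have hQC : ∀ c : C, (c : S) ∈ Q ↔ c ∈ P := fun c => by
    show e.symm (algebraMap S Sr (c : S)) ∈ Pr ↔ c ∈ P
    rw [he, ← Ideal.mem_comap, hPr]
  refine ⟨Q, Ideal.IsPrime.comap _, fun s hs => ?_, ?_⟩
  · obtain ⟨c, m, hc⟩ := (Localization.awayMap_surjective_iff).mp hbij.2 s
    have h1 : (c : S) ∈ Q := by
      have hc' : (c : S) = (r : S) ^ m * s := hc
      rw [hc']
      exact Ideal.mul_mem_left _ _ hs
    have h2 : C.val.toRingHom r ^ m * s ∈ q := by
      rw [← hc]
      exact hPle ((hQC c).mp h1)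
    exact ((Ideal.IsPrime.mem_or_mem ‹q.IsPrime›) h2).resolve_left
      fun h => hr (Ideal.IsPrime.mem_of_pow_mem ‹q.IsPrime› m h)
  · ext x
    have h1 : p' = P.under B := hPo.over
    rw [h1]
    exact hQC (algebraMap B C x)

/-- A quasi-finite morphism to the spectrum of a normal domain, dominant on every component, is
generalizing. -/
theorem generalizingMap_of_normal {U : Scheme.{u}} {B : Type u} [CommRing B] [IsDomain B]
    [IsIntegrallyClosed B] (g : U ⟶ Spec (CommRingCat.of B)) [LocallyOfFiniteType g] [LocallyQuasiFinite g]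
    (hmax : ∀ ζ : U, (∀ q, q ⤳ ζ → q = ζ) → (g ζ).asIdeal = ⊥) : GeneralizingMap g := by
  intro u t ht
  obtain ⟨W, hW, huW, -⟩ := exists_isAffineOpen_mem_and_subset (TopologicalSpace.Opens.mem_top u)
  obtain ⟨φ, hφ⟩ := Spec.map_surjective (hW.fromSpec ≫ g)
  haveI : LocallyOfFiniteType (Spec.map φ) := hφ ▸ inferInstance
  haveI : LocallyQuasiFinite (Spec.map φ) := hφ ▸ inferInstance
  let q0 := hW.primeIdealOf ⟨u, huW⟩
  have hu : hW.fromSpec q0 = u := hW.fromSpec_primeIdealOf ⟨u, huW⟩
  algebraize [φ.hom]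
  haveI : Algebra.FiniteType B Γ(U, W) :=
    RingHom.finiteType_algebraMap.mp ((HasRingHomProperty.Spec_iff (P := @LocallyOfFiniteType) (φ := φ)).mp inferInstance)
  haveI : Algebra.QuasiFinite B Γ(U, W) :=
    RingHom.quasiFinite_algebraMap.mp ((HasRingHomProperty.Spec_iff (P := @LocallyQuasiFinite)).mp inferInstance)
  haveI := q0.2
  obtain ⟨P, hPmin, hPq⟩ := Ideal.exists_minimalPrimes_le (I := (⊥ : Ideal Γ(U, W))) (J := q0.asIdeal) bot_le
  have hPp : P.IsPrime := hPmin.1.1
  let P0 : PrimeSpectrum Γ(U, W) := ⟨P, hPp⟩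
  have hP0 : ∀ q, q ⤳ hW.fromSpec P0 → q = hW.fromSpec P0 := by
    refine (Groth.L07.Equidim.maximal_openImmersion_iff hW.fromSpec P0).mp fun (q : PrimeSpectrum Γ(U, W)) hq => ?_
    have hle : q.asIdeal ≤ P := (PrimeSpectrum.le_iff_specializes q P0).mpr hq
    exact PrimeSpectrum.ext (le_antisymm hle (hPmin.2 ⟨q.2, bot_le⟩ hle))
  have hPB : P.comap (algebraMap B Γ(U, W)) = ⊥ := by
    have h := hmax _ hP0
    rw [← Scheme.Hom.comp_apply, ← hφ] at h
    exact h
  let S := Γ(U, W) ⧸ P
  haveI : IsDomain S := Ideal.Quotient.isDomain P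
  have hinj : Function.Injective (algebraMap B S) := by
    rw [injective_iff_map_eq_zero]
    intro b hb
    rw [IsScalarTower.algebraMap_apply B Γ(U, W) S, Ideal.Quotient.algebraMap_eq,
      Ideal.Quotient.eq_zero_iff_mem] at hb
    have : b ∈ P.comap (algebraMap B Γ(U, W)) := hb
    rwa [hPB, Ideal.mem_bot] at this
  haveI : Algebra.FiniteType B S :=
    Algebra.FiniteType.of_surjective (Ideal.Quotient.mkₐ B P) Ideal.Quotient.mk_surjective
  haveI : Algebra.QuasiFinite B S :=
    Algebra.QuasiFinite.of_surjective_algHom (Ideal.Quotient.mkₐ B P) Ideal.Quotient.mk_surjective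
  let qS : Ideal S := q0.asIdeal.map (Ideal.Quotient.mk P)
  haveI : qS.IsPrime := Ideal.map_isPrime_of_surjective Ideal.Quotient.mk_surjective (by rw [Ideal.mk_ker]; exact hPq)
  have hqS : qS.comap (Ideal.Quotient.mk P) = q0.asIdeal := by
    rw [Ideal.comap_map_of_surjective _ Ideal.Quotient.mk_surjective, ← RingHom.ker_eq_comap_bot, Ideal.mk_ker,
      sup_eq_left.mpr hPq]
  let t' : PrimeSpectrum B := t
  have ht' : t'.asIdeal ≤ qS.comap (algebraMap B S) := by
    have h1 : t' ⤳ PrimeSpectrum.comap φ.hom q0 := by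
      have : Spec.map φ q0 = g u := by rw [hφ, Scheme.Hom.comp_apply, hu]
      rw [← this] at ht
      exact ht
    intro x hx
    have := (PrimeSpectrum.le_iff_specializes t' _).mpr h1 hx
    show Ideal.Quotient.mk P (algebraMap B Γ(U, W) x) ∈ qS
    rw [← Ideal.mem_comap, hqS]
    exact this
  obtain ⟨Q, hQ, hQle, hQo⟩ := exists_prime_le hinj qS t'.asIdeal ht'
  let Q0 : PrimeSpectrum Γ(U, W) := ⟨Q.comap (Ideal.Quotient.mk P), Ideal.IsPrime.comap _⟩
  refine ⟨hW.fromSpec Q0, ?_, ?_⟩
  · rw [← hu]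
    refine Specializes.map ((PrimeSpectrum.le_iff_specializes Q0 q0).mp ?_) hW.fromSpec.continuous
    show Q0.asIdeal ≤ q0.asIdeal
    rw [← hqS]
    exact Ideal.comap_mono hQle
  · rw [← Scheme.Hom.comp_apply, ← hφ]
    exact PrimeSpectrum.ext hQo

end Groth.L07.Chevalley
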