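import Groth.Agent.L07.EquidimCrit
import Mathlib.AlgebraicGeometry.Morphisms.Flat
import Mathlib.AlgebraicGeometry.Morphisms.UniversallyOpen

/-!
Equidimensionality under flat base change (EGA IV 13.3.8).
-/

universe u

open CategoryTheory CategoryTheory.Limits AlgebraicGeometry TopologicalSpace Topology

namespace Groth.L07.Equidim

open Groth.L22 Groth.L07.EquidimQF

set_option maxSynthPendingDepth 3
set_option linter.style.haveILetI false
set_option backward.isDefEq.respectTransparency.types false
set_option backward.isDefEq.respectTransparency false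

/-- Generizations lift inside a base change along a field extension of residue fields. -/
theorem exists_lift_generization {U' D P' P : Scheme.{u}} {a : U' ⟶ D} {g' : U' ⟶ P'} {g : D ⟶ P}
    {m : P' ⟶ P} (h : IsPullback a g' g m) (ζ : U') (q : P') (hq : q ⤳ g' ζ) (hmq : m q = m (g' ζ)) :
    ∃ ζ₂, ζ₂ ⤳ ζ ∧ g' ζ₂ = q := by
  let d := a ζ
  let j := D.fromSpecResidueField d
  let i := P.fromSpecResidueField (g d)
  let lam := Spec.map (g.residueFieldMap d)
  have hlam : lam ≫ i = j ≫ g := g.SpecMap_residueFieldMap_fromSpecResidueField d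
  haveI : Flat lam := by
    refine (HasRingHomProperty.Spec_iff (P := @Flat)).mpr ?_
    letI : Field (P.residueField (g d) : Type u) := inferInstance
    algebraize [(g.residueFieldMap d).hom]
    show RingHom.Flat (algebraMap (P.residueField (g d)) (D.residueField d))
    rw [RingHom.flat_algebraMap_iff]
    infer_instance
  let T0 := pullback i m
  let T := pullback j a
  let φ : T ⟶ T0 := pullback.lift (pullback.fst j a ≫ lam) (pullback.snd j a ≫ g') (by
    rw [Category.assoc, hlam, Category.assoc, ← h.w, pullback.condition_assoc])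
  have h1 : IsPullback (pullback.fst j a) φ lam (pullback.fst i m) := by
    have h2 : IsPullback (pullback.fst j a) (pullback.snd j a) j a := IsPullback.of_hasPullback _ _
    have h3 : IsPullback (pullback.snd j a ≫ g') (pullback.fst j a) m (j ≫ g) :=
      h2.flip.paste_horiz h.flip
    rw [← hlam] at h3
    have h4 : IsPullback (φ ≫ pullback.snd i m) (pullback.fst j a) m (lam ≫ i) := by
      rw [pullback.lift_snd]; exact h3
    exact (IsPullback.of_right h4 (pullback.lift_fst _ _ _) (IsPullback.of_hasPullback i m).flip).flip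
  haveI : Flat φ := MorphismProperty.of_isPullback (P := @Flat) h1 inferInstance
  obtain ⟨t, -, ht⟩ := Scheme.Pullback.exists_preimage_pullback (f := j) (g := a)
    (IsLocalRing.closedPoint _) ζ (Scheme.fromSpecResidueField_apply d _)
  obtain ⟨q0, -, hq0⟩ := Scheme.Pullback.exists_preimage_pullback (f := i) (g := m)
    (IsLocalRing.closedPoint _) q (by
      rw [hmq, ← Scheme.Hom.comp_apply g' m, ← h.w, Scheme.Hom.comp_apply]
      exact Scheme.fromSpecResidueField_apply (g d) _)
  have hφt : pullback.snd i m (φ t) = g' ζ := by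
    rw [← Scheme.Hom.comp_apply, pullback.lift_snd, Scheme.Hom.comp_apply, ht]
  have hsp : q0 ⤳ φ t := (pullback.snd i m).isEmbedding.isInducing.specializes_iff.mp (by rw [hq0, hφt]; exact hq)
  obtain ⟨t₂, ht₂, he⟩ := Flat.generalizingMap φ hsp
  refine ⟨pullback.snd j a t₂, ?_, ?_⟩
  · rw [← ht]
    exact Specializes.map ht₂ (pullback.snd j a).continuous
  · rw [← hq0, ← he, ← Scheme.Hom.comp_apply, ← Scheme.Hom.comp_apply, pullback.lift_snd]

/-- EGA IV 13.3.8. -/
theorem isEquidimAt_pullback_snd {X Y Y' : Scheme.{u}} (f : X ⟶ Y) [LocallyOfFiniteType f] (b : Y' ⟶ Y)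
    [Flat b] [IsLocallyNoetherian Y'] (x : X) (h : EGA43.IsEquidimAt f x) (x' : ↥(pullback f b))
    (hx' : (pullback.fst f b).base x' = x) : EGA43.IsEquidimAt (pullback.snd f b) x' := by
  obtain ⟨e, D, g, hxD, hg, hqf, hmax⟩ := exists_qf_of_isEquidimAt f x h
  let U' := pullback.fst f b ⁻¹ᵁ D
  have big : IsPullback (pullback.fst f b ∣_ D) (U'.ι ≫ pullback.snd f b) (D.ι ≫ f) b :=
    (isPullback_morphismRestrict (pullback.fst f b) D).paste_vert (IsPullback.of_hasPullback f b)
  let m := AffineSpace.map (ULift.{u} (Fin e)) b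
  have bot := AffineSpace.isPullback_map (n := ULift.{u} (Fin e)) b
  let g' := bot.lift ((pullback.fst f b ∣_ D) ≫ g) (U'.ι ≫ pullback.snd f b)
    (by rw [Category.assoc, hg]; exact big.w)
  have hg'1 : g' ≫ m = (pullback.fst f b ∣_ D) ≫ g := bot.lift_fst _ _ _
  have hg'2 : g' ≫ (𝔸(ULift.{u} (Fin e); Y') ↘ Y') = U'.ι ≫ pullback.snd f b := bot.lift_snd _ _ _
  have top : IsPullback (pullback.fst f b ∣_ D) g' g m :=
    IsPullback.of_bot (by rw [hg'2, hg]; exact big) hg'1.symm bot
  haveI : LocallyQuasiFinite g' := MorphismProperty.of_isPullback (P := @LocallyQuasiFinite) top hqf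
  haveI : Flat (pullback.fst f b ∣_ D) :=
    MorphismProperty.of_isPullback (P := @Flat) big.flip inferInstance
  refine isEquidimAt_of_qf (pullback.snd f b) x' e U' g' (show (pullback.fst f b) x' ∈ D from hx'.symm ▸ hxD)
    hg'2 fun ζ hζ q hq => ?_
  have hζ0 : ∀ r, r ⤳ (pullback.fst f b ∣_ D) ζ → r = (pullback.fst f b ∣_ D) ζ := by
    intro r hr
    obtain ⟨r', hr', he⟩ := Flat.generalizingMap (pullback.fst f b ∣_ D) hr
    rw [← he, hζ r' hr']
  have hmq : m q = m (g' ζ) := by
    have h1 : m q ⤳ m (g' ζ) := hq.map m.continuous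
    rw [← Scheme.Hom.comp_apply g' m, hg'1, Scheme.Hom.comp_apply] at h1 ⊢
    exact (hmax _ hζ0).1 _ h1
  obtain ⟨ζ₂, hζ₂, rfl⟩ := exists_lift_generization top ζ q hq hmq
  rw [hζ ζ₂ hζ₂]

end Groth.L07.Equidim
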