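import Groth.Agent.L07.UnivOpenDVR

/-! Universal openness at a point detected on affine spaces, and by discrete valuation rings. -/

set_option autoImplicit false
set_option linter.style.haveILetI false
set_option maxSynthPendingDepth 3

universe u

open CategoryTheory CategoryTheory.Limits AlgebraicGeometry Topology TensorProduct

namespace Groth.L07.UnivOpenPointwise

open EGA43 (IsOpenAt IsUnivOpenAt)

/-- A basic open of `Spec (A ⊗ B)` comes from a polynomial ring, images included. -/
theorem exists_polynomial_image {R A B : Type u} [CommRing R] [CommRing A] [CommRing B] [Algebra R A]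
    [Algebra R B] (h : A ⊗[R] B) :
    ∃ (n : ℕ) (φ : MvPolynomial (ULift.{u} (Fin n)) R →+* B)
      (h0 : MvPolynomial (ULift.{u} (Fin n)) A) (e : MvPolynomial (ULift.{u} (Fin n)) A →+* A ⊗[R] B),
      e h0 = h ∧ e.comp MvPolynomial.C = Algebra.TensorProduct.includeLeftRingHom ∧
      e.comp (MvPolynomial.map (algebraMap R A)) =
        (Algebra.TensorProduct.includeRight (R := R) (A := A) (B := B)).toRingHom.comp φ ∧
      PrimeSpectrum.comap (Algebra.TensorProduct.includeRight (R := R) (A := A) (B := B)).toRingHom ''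
        (PrimeSpectrum.basicOpen h : Set (PrimeSpectrum (A ⊗[R] B))) =
      PrimeSpectrum.comap φ ⁻¹' (PrimeSpectrum.comap
        (MvPolynomial.map (algebraMap R A) : MvPolynomial (ULift.{u} (Fin n)) R →+* _) ''
          (PrimeSpectrum.basicOpen h0 : Set (PrimeSpectrum (MvPolynomial (ULift.{u} (Fin n)) A)))) := by
  classical
  obtain ⟨s, rfl⟩ := TensorProduct.exists_finset h
  let σ := ULift.{u} (Fin s.card)
  let c : σ → A × B := fun i => (s.equivFin.symm i.down).1
  let φ : MvPolynomial σ R →ₐ[R] B := MvPolynomial.aeval fun i => (c i).2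
  let h0 : MvPolynomial σ A := ∑ i, MvPolynomial.C (c i).1 * MvPolynomial.X i
  let inclR := (Algebra.TensorProduct.includeRight (R := R) (A := A) (B := B)).toRingHom
  let e : MvPolynomial σ A →+* A ⊗[R] B :=
    MvPolynomial.eval₂Hom (Algebra.TensorProduct.includeLeftRingHom)
      fun i => inclR (c i).2
  have he0 : e h0 = ∑ x ∈ s, x.1 ⊗ₜ[R] x.2 := by
    rw [← Finset.sum_coe_sort s fun x => x.1 ⊗ₜ[R] x.2, map_sum]
    refine Fintype.sum_equiv (Equiv.ulift.trans s.equivFin.symm) _ _ fun i => ?_
    simp [e, inclR, c]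
  have hcomm : e.comp (MvPolynomial.map (algebraMap R A)) = inclR.comp φ.toRingHom := by
    refine MvPolynomial.ringHom_ext (fun r => ?_) fun i => ?_
    · simp [e, φ, inclR]
    · simp [e, φ, inclR]
  have key : PrimeSpectrum.comap inclR ''
      (PrimeSpectrum.basicOpen (∑ x ∈ s, x.1 ⊗ₜ[R] x.2) : Set (PrimeSpectrum (A ⊗[R] B))) =
      PrimeSpectrum.comap φ.toRingHom ⁻¹' (PrimeSpectrum.comap
        (MvPolynomial.map (algebraMap R A) : MvPolynomial σ R →+* _) ''
          (PrimeSpectrum.basicOpen h0 : Set (PrimeSpectrum (MvPolynomial σ A)))) := by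
    ext p
    constructor
    · rintro ⟨P, hP, rfl⟩
      refine ⟨PrimeSpectrum.comap e P, fun hm => hP ?_, ?_⟩
      · rw [← he0]; exact hm
      · rw [← PrimeSpectrum.comap_comp_apply, ← PrimeSpectrum.comap_comp_apply, hcomm]
    · rintro ⟨Q, hQ, hQp⟩
      obtain ⟨L, hL, fA, fB, hAB, hQ'⟩ : ∃ (L : Type u) (_ : Field L) (fA : MvPolynomial σ A →+* L)
          (fB : B →+* L), (∀ g, fA (MvPolynomial.map (algebraMap R A) g) = fB (φ g)) ∧
          fA h0 ≠ 0 ∧ RingHom.ker fB = p.asIdeal := by
        let P0 : Ideal (MvPolynomial σ R) := p.asIdeal.comap φ.toRingHom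
        let k := P0.ResidueField
        let iQ : MvPolynomial σ R →+* Q.asIdeal.ResidueField :=
          (algebraMap _ Q.asIdeal.ResidueField).comp (MvPolynomial.map (algebraMap R A))
        let ip : MvPolynomial σ R →+* p.asIdeal.ResidueField :=
          (algebraMap B p.asIdeal.ResidueField).comp φ.toRingHom
        have hQ0 : RingHom.ker iQ = P0 := by
          rw [← RingHom.comap_ker, Ideal.ker_algebraMap_residueField]
          exact congrArg PrimeSpectrum.asIdeal hQp
        have hp0 : RingHom.ker ip = P0 := by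
          rw [← RingHom.comap_ker, Ideal.ker_algebraMap_residueField]
        let _ : Algebra k Q.asIdeal.ResidueField :=
          (Ideal.ResidueField.lift P0 iQ hQ0.ge fun x hx => isUnit_iff_ne_zero.mpr fun h => hx (hQ0.le h)).toAlgebra
        let _ : Algebra k p.asIdeal.ResidueField :=
          (Ideal.ResidueField.lift P0 ip hp0.ge fun x hx => isUnit_iff_ne_zero.mpr fun h => hx (hp0.le h)).toAlgebra
        obtain ⟨m, hm⟩ := Ideal.exists_maximal (Q.asIdeal.ResidueField ⊗[k] p.asIdeal.ResidueField)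
        let _ : Field ((Q.asIdeal.ResidueField ⊗[k] p.asIdeal.ResidueField) ⧸ m) := Ideal.Quotient.field m
        let fQ := (Ideal.Quotient.mk m).comp
          (Algebra.TensorProduct.includeLeftRingHom : Q.asIdeal.ResidueField →+* _)
        let fp := (Ideal.Quotient.mk m).comp
          (Algebra.TensorProduct.includeRight (R := k) (A := Q.asIdeal.ResidueField)
            (B := p.asIdeal.ResidueField)).toRingHom
        refine ⟨_, inferInstance, fQ.comp (algebraMap _ _), fp.comp (algebraMap B _), fun g => ?_,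
          fun hz => hQ ?_, ?_⟩
        · have h1 : algebraMap k Q.asIdeal.ResidueField (algebraMap _ k g) = iQ g :=
            Ideal.ResidueField.lift_algebraMap ..
          have h2 : algebraMap k p.asIdeal.ResidueField (algebraMap _ k g) = ip g :=
            Ideal.ResidueField.lift_algebraMap ..
          have h3 := congrArg (Ideal.Quotient.mk m)
            (Algebra.TensorProduct.tmul_one_eq_one_tmul (A := Q.asIdeal.ResidueField)
              (B := p.asIdeal.ResidueField) (algebraMap _ k g))
          rw [h1, h2] at h3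
          exact h3
        · exact Ideal.algebraMap_residueField_eq_zero.mp ((map_eq_zero fQ).mp hz)
        · rw [← RingHom.comap_ker, RingHom.ker_eq_bot_iff_eq_zero fp |>.mpr fun x => (map_eq_zero fp).mp,
            ← RingHom.ker_eq_comap_bot, Ideal.ker_algebraMap_residueField]
      let _ : Algebra R L := (fB.comp (algebraMap R B)).toAlgebra
      let gA : A →ₐ[R] L := { fA.comp MvPolynomial.C with
        commutes' := fun r => by
          have := hAB (MvPolynomial.C r)
          rw [MvPolynomial.map_C, MvPolynomial.algHom_C] at this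
          exact this }
      let gB : B →ₐ[R] L := { fB with commutes' := fun _ => rfl }
      let G := Algebra.TensorProduct.lift gA gB fun _ _ => Commute.all _ _
      have hG : G.toRingHom.comp e = fA := by
        refine MvPolynomial.ringHom_ext (fun a => ?_) fun i => ?_
        · simp [e, G, gA]
        · have := hAB (MvPolynomial.X i)
          simp [e, G, gB, inclR, φ] at this ⊢
          exact this.symm
      refine ⟨⟨RingHom.ker G.toRingHom, RingHom.ker_isPrime _⟩, fun hker => hQ'.1 ?_, ?_⟩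
      · rw [← hG, RingHom.comp_apply, he0]
        exact hker
      · refine PrimeSpectrum.ext ?_
        rw [PrimeSpectrum.comap_asIdeal, ← hQ'.2]
        refine Ideal.ext fun b => ?_
        change G.toRingHom (inclR b) = 0 ↔ fB b = 0
        simp [G, gB, inclR]
  refine ⟨s.card, φ.toRingHom, h0, e, he0, ?_, hcomm, key⟩
  exact RingHom.ext fun a => by simp [e]

theorem isOpenAt_comap_tensor {R A B : Type u} [CommRing R] [CommRing A] [CommRing B] [Algebra R A]
    [Algebra R B] (P : PrimeSpectrum (A ⊗[R] B))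
    (H : ∀ (n : ℕ) (Q : PrimeSpectrum (MvPolynomial (ULift.{u} (Fin n)) A)),
      PrimeSpectrum.comap MvPolynomial.C Q =
        PrimeSpectrum.comap (Algebra.TensorProduct.includeLeftRingHom : A →+* A ⊗[R] B) P →
      IsOpenAt (PrimeSpectrum.comap
        (MvPolynomial.map (algebraMap R A) : MvPolynomial (ULift.{u} (Fin n)) R →+* _)) Q) :
    IsOpenAt (PrimeSpectrum.comap
      (Algebra.TensorProduct.includeRight (R := R) (A := A) (B := B)).toRingHom) P := by
  intro U hU
  obtain ⟨W, hWU, hW, hPW⟩ := mem_nhds_iff.mp hU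
  obtain ⟨_, ⟨h, rfl⟩, hPh, hsub⟩ :=
    PrimeSpectrum.isTopologicalBasis_basic_opens.exists_subset_of_mem_open hPW hW
  obtain ⟨n, φ, h0, e, he0, heC, hecomm, himg⟩ := exists_polynomial_image h
  have h1 := H n (PrimeSpectrum.comap e P) (by rw [← PrimeSpectrum.comap_comp_apply, heC])
    (PrimeSpectrum.basicOpen h0 : Set _)
    ((PrimeSpectrum.basicOpen h0).2.mem_nhds (show e h0 ∉ P.asIdeal by rw [he0]; exact hPh))
  rw [← PrimeSpectrum.comap_comp_apply, hecomm, PrimeSpectrum.comap_comp_apply] at h1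
  refine Filter.mem_of_superset ((PrimeSpectrum.continuous_comap φ).continuousAt.preimage_mem_nhds h1) ?_
  rw [← himg]
  exact Set.image_mono (hsub.trans hWU)

theorem isOpenAt_of_injective_open {A B C D : Type*} [TopologicalSpace A] [TopologicalSpace B]
    [TopologicalSpace C] [TopologicalSpace D] {k : A → C} {g : A → B} {f : C → D} {j : B → D}
    (hk : IsOpenMap k) (hj : IsOpenEmbedding j) (hsq : ∀ a, j (g a) = f (k a)) {q : A}
    (h : IsOpenAt f (k q)) : IsOpenAt g q := by
  intro U hU
  have h1 := h _ (hk.image_mem_nhds hU)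
  rw [← hsq] at h1
  refine Filter.mem_of_superset (hj.continuous.continuousAt.preimage_mem_nhds h1) ?_
  rintro b ⟨_, ⟨a, ha, rfl⟩, hb⟩
  exact ⟨a, ha, hj.injective (by rw [hsq, hb])⟩

theorem isOpenAt_left_of_comp {X Y Z : Scheme.{u}} {f : X ⟶ Y} {g : Y ⟶ Z} {x : X}
    (h : IsOpenAt (f ≫ g).base x) : IsOpenAt g.base (f.base x) := by
  intro U hU
  have h1 := h (f.base ⁻¹' U) (f.continuous.continuousAt.preimage_mem_nhds hU)
  rw [Scheme.Hom.comp_apply] at h1
  refine Filter.mem_of_superset h1 ?_
  rintro _ ⟨q, hq, rfl⟩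
  exact ⟨_, hq, (Scheme.Hom.comp_apply _ _ _).symm⟩

/-- Universal openness at a point can be tested on affine spaces over the base. -/
theorem of_affineSpace {X Y : Scheme.{u}} (f : X ⟶ Y) (x : X)
    (H : ∀ (n : ℕ) (p : ↥𝔸(ULift.{u} (Fin n); X)), (𝔸(ULift.{u} (Fin n); X) ↘ X).base p = x →
      IsOpenAt (AffineSpace.map (ULift.{u} (Fin n)) f).base p) :
    IsUnivOpenAt f x := by
  intro Y' g x' hx'
  set y' := (pullback.snd f g).base x' with hy'
  have hgy : g.base y' = f.base x := by
    rw [hy', ← Scheme.Hom.comp_apply, ← pullback.condition, Scheme.Hom.comp_apply, hx']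
  obtain ⟨_, ⟨V, hV, rfl⟩, hxV, -⟩ := Y.isBasis_affineOpens.exists_subset_of_mem_open
    (Set.mem_univ (f.base x)) isOpen_univ
  obtain ⟨_, ⟨U, hU, rfl⟩, hxU, hUV⟩ := X.isBasis_affineOpens.exists_subset_of_mem_open
    (show x ∈ (f ⁻¹ᵁ V : Set X) from hxV) (f ⁻¹ᵁ V).2
  obtain ⟨_, ⟨W, hW, rfl⟩, hyW, hWV⟩ := Y'.isBasis_affineOpens.exists_subset_of_mem_open
    (show y' ∈ (g ⁻¹ᵁ V : Set Y') from show g.base y' ∈ V by rw [hgy]; exact hxV) (g ⁻¹ᵁ V).2
  replace hV : IsAffineOpen V := hV
  replace hU : IsAffineOpen U := hU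
  replace hW : IsAffineOpen W := hW
  let φ := f.appLE V U hUV
  let ψ := g.appLE V W hWV
  algebraize [φ.hom, ψ.hom]
  have keyφ : Spec.map φ ≫ hV.fromSpec = hU.fromSpec ≫ f := IsAffineOpen.SpecMap_appLE_fromSpec f hV hU hUV
  have keyψ : Spec.map ψ ≫ hV.fromSpec = hW.fromSpec ≫ g := IsAffineOpen.SpecMap_appLE_fromSpec g hV hW hWV
  have hP : IsPullback _ _ (Spec.map φ) (Spec.map ψ) :=
    isPullback_SpecMap_of_isPushout φ ψ _ _ (CommRingCat.isPushout_tensorProduct Γ(Y, V) Γ(X, U) Γ(Y', W))
  let c := hP.isoPullback.hom ≫ pullback.map (Spec.map φ) (Spec.map ψ) f g hU.fromSpec hW.fromSpec hV.fromSpec keyφ keyψ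
  have hc1 : c ≫ pullback.fst f g =
      Spec.map (CommRingCat.ofHom Algebra.TensorProduct.includeLeftRingHom) ≫ hU.fromSpec := by
    rw [Category.assoc, pullback.map, pullback.lift_fst, hP.isoPullback_hom_fst_assoc]
  have hc2 : c ≫ pullback.snd f g =
      Spec.map (CommRingCat.ofHom (Algebra.TensorProduct.includeRight (R := Γ(Y, V)) (A := Γ(X, U)) (B := Γ(Y', W))).toRingHom) ≫ hW.fromSpec := by
    rw [Category.assoc, pullback.map, pullback.lift_snd, hP.isoPullback_hom_snd_assoc]
  obtain ⟨q, hq⟩ : x' ∈ Set.range c.base := by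
    have h1 : x' ∈ Set.range (pullback.map (Spec.map φ) (Spec.map ψ) f g hU.fromSpec hW.fromSpec hV.fromSpec keyφ keyψ).base := by
      rw [Scheme.Pullback.range_map, hU.range_fromSpec, hW.range_fromSpec]
      exact ⟨by rw [Set.mem_preimage, hx']; exact hxU, hyW⟩
    obtain ⟨r, hr⟩ := h1
    obtain ⟨q, rfl⟩ := hP.isoPullback.hom.surjective r
    exact ⟨q, by rw [Scheme.Hom.comp_apply, hr]⟩
  rw [← hq]
  refine isOpenAt_left_of_comp (f := c) ?_
  rw [hc2]
  refine Groth.L07.UnivOpenAt.isOpenAt_comp ?_ fun U' hU' => hW.fromSpec.isOpenEmbedding.isOpenMap.image_mem_nhds hU'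
  refine isOpenAt_comap_tensor q fun n Q hQ => ?_
  let N := ULift.{u} (Fin n)
  haveI : IsOpenImmersion (AffineSpace.map N hU.fromSpec) :=
    MorphismProperty.of_isPullback (AffineSpace.isPullback_map hU.fromSpec).flip inferInstance
  haveI : IsOpenImmersion (AffineSpace.map N hV.fromSpec) :=
    MorphismProperty.of_isPullback (AffineSpace.isPullback_map hV.fromSpec).flip inferInstance
  let k := (AffineSpace.SpecIso N Γ(X, U)).inv ≫ AffineSpace.map N hU.fromSpec
  let j := (AffineSpace.SpecIso N Γ(Y, V)).inv ≫ AffineSpace.map N hV.fromSpec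
  have hsq : Spec.map (CommRingCat.ofHom (MvPolynomial.map (σ := N) φ.hom)) ≫ j = k ≫ AffineSpace.map N f := by
    simp only [j, k, Category.assoc, ← AffineSpace.map_comp, ← keyφ]
    rw [AffineSpace.map_comp, AffineSpace.map_SpecMap]
    simp
  have hp : (𝔸(N; X) ↘ X).base (k.base Q) = x := by
    refine (Scheme.Hom.comp_apply k (𝔸(N; X) ↘ X) Q).symm.trans ?_
    simp only [k, Category.assoc, AffineSpace.map_over]
    rw [← Category.assoc, AffineSpace.SpecIso_inv_over]
    refine (Scheme.Hom.comp_apply (Spec.map (CommRingCat.ofHom (MvPolynomial.C (R := Γ(X, U)) (σ := N)))) hU.fromSpec Q).trans ?_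
    rw [← hx', ← hq, ← Scheme.Hom.comp_apply c, hc1, Scheme.Hom.comp_apply]
    exact congrArg _ hQ
  exact isOpenAt_of_injective_open (k := k.base) (j := j.base) k.isOpenEmbedding.isOpenMap j.isOpenEmbedding
    (fun a => by rw [← Scheme.Hom.comp_apply]; exact (congr($hsq a)).trans (Scheme.Hom.comp_apply _ _ _)) (H n _ hp)

theorem forall_generization_component {P : Scheme.{u}} [IsLocallyNoetherian P] (x : P) :
    ∃ O : Set P, O ∈ nhds x ∧ ∀ w ∈ O, ∃ ζ, ζ ⤳ w ∧ ζ ⤳ x := by
  obtain ⟨_, ⟨W, hW, rfl⟩, hxW, -⟩ := P.isBasis_affineOpens.exists_subset_of_mem_open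
    (Set.mem_univ x) isOpen_univ
  haveI : IsNoetherianRing Γ(P, W) := IsLocallyNoetherian.component_noetherian ⟨W, hW⟩
  haveI : TopologicalSpace.NoetherianSpace (W : Set P) := noetherianSpace_of_isAffineOpen W hW
  let F : Set (Set (W : Set P)) := {C | C ∈ irreducibleComponents ↥(W : Set P) ∧ (⟨x, hxW⟩ : (W : Set P)) ∉ C}
  have hF : F.Finite := TopologicalSpace.NoetherianSpace.finite_irreducibleComponents.subset fun C hC => hC.1
  have ho : IsOpen (⋃₀ F)ᶜ := by
    rw [Set.sUnion_eq_biUnion]
    exact (hF.isClosed_biUnion fun C hC => isClosed_of_mem_irreducibleComponents C hC.1).isOpen_compl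
  refine ⟨Subtype.val '' (⋃₀ F)ᶜ, (W.2.isOpenMap_subtype_val _ ho).mem_nhds
    ⟨⟨x, hxW⟩, fun ⟨C, hC, h⟩ => hC.2 h, rfl⟩, ?_⟩
  rintro _ ⟨⟨w, hwW⟩, hw, rfl⟩
  let C := irreducibleComponent (⟨w, hwW⟩ : (W : Set P))
  have hxC : (⟨x, hxW⟩ : (W : Set P)) ∈ C := by
    by_contra hc
    exact hw ⟨C, ⟨irreducibleComponent_mem_irreducibleComponents _, hc⟩, mem_irreducibleComponent⟩
  have hC := (isIrreducible_irreducibleComponent (x := (⟨w, hwW⟩ : (W : Set P)))).image _
    continuous_subtype_val.continuousOn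
  have hg := hC.closure.isGenericPoint_genericPoint isClosed_closure
  exact ⟨_, hg.specializes (subset_closure ⟨_, mem_irreducibleComponent, rfl⟩),
    hg.specializes (subset_closure ⟨_, hxC, rfl⟩)⟩

theorem closedPoint_or_generic {A : Type u} [CommRing A] [IsDomain A] [IsDiscreteValuationRing A]
    (z : ↥(Spec (CommRingCat.of A))) (hz : z ≠ IsLocalRing.closedPoint A) :
    z = (⟨⊥, Ideal.isPrime_bot⟩ : PrimeSpectrum A) := by
  refine PrimeSpectrum.ext (by_contra fun h => hz ?_)
  haveI : (z : PrimeSpectrum A).asIdeal.IsPrime := z.2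
  exact PrimeSpectrum.ext (IsLocalRing.eq_maximalIdeal
    (IsPrime.to_maximal_ideal h))

theorem isUnivOpenAt_iff_dvr {X Y : Scheme.{u}} [IsLocallyNoetherian Y] (f : X ⟶ Y)
    [LocallyOfFiniteType f] (x : X) :
    IsUnivOpenAt f x ↔
      ∀ (A : Type u) [CommRing A] [IsDomain A] [IsDiscreteValuationRing A]
        (g : Spec (CommRingCat.of A) ⟶ Y), g.base (IsLocalRing.closedPoint A) = f.base x →
        ∀ x' : ↥(pullback f g), (pullback.fst f g).base x' = x →
          (pullback.snd f g).base x' = IsLocalRing.closedPoint A →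
          ∃ z' : ↥(pullback f g), z' ⤳ x' ∧ (pullback.snd f g).base z' ≠ IsLocalRing.closedPoint A := by
  constructor
  · intro h A _ _ _ g hg x' hx1 hx2
    haveI : IsLocallyNoetherian (Spec (CommRingCat.of A)) := inferInstance
    haveI : IsLocallyNoetherian (pullback f g) := LocallyOfFiniteType.isLocallyNoetherian (pullback.snd f g)
    obtain ⟨O, hO, hOgen⟩ := forall_generization_component x'
    let gη : ↥(Spec (CommRingCat.of A)) := (⟨⊥, Ideal.isPrime_bot⟩ : PrimeSpectrum A)
    have hne : gη ≠ IsLocalRing.closedPoint A := fun e =>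
      IsDiscreteValuationRing.not_a_field A (congrArg PrimeSpectrum.asIdeal e).symm
    have hall : ∀ z, gη ⤳ z := fun z =>
      (PrimeSpectrum.le_iff_specializes (⟨⊥, Ideal.isPrime_bot⟩ : PrimeSpectrum A) z).mp bot_le
    have h1 := h _ g x' hx1 O hO
    rw [hx2] at h1
    obtain ⟨w, hw, hwg⟩ := mem_of_mem_nhds (hall (IsLocalRing.closedPoint A) h1)
    obtain ⟨ζ, hζw, hζx⟩ := hOgen w hw
    refine ⟨ζ, hζx, fun e => hne ?_⟩
    have h2 := hζw.map (pullback.snd f g).continuous
    rw [e, hwg] at h2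
    exact ((hall _).antisymm h2).eq
  · intro h
    haveI : LocallyOfFinitePresentation f := Groth.L23.lfp_of_lft_locallyNoetherian f
    refine of_affineSpace f x fun n p hp => ?_
    let N := ULift.{u} (Fin n)
    haveI : LocallyOfFinitePresentation (AffineSpace.map N f) :=
      MorphismProperty.of_isPullback (AffineSpace.isPullback_map f).flip ‹LocallyOfFinitePresentation f›
    haveI : IsLocallyNoetherian 𝔸(N; Y) := LocallyOfFiniteType.isLocallyNoetherian (𝔸(N; Y) ↘ Y)
    refine Groth.L07.UnivOpenAt.isOpenAt_of_lfp _ p fun U hU y hy => ?_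
    by_cases hne : y = (AffineSpace.map N f).base p
    · exact ⟨p, mem_of_mem_nhds hU, hne.symm⟩
    obtain ⟨W, t, hW, ht₀, ht₁⟩ := Groth.L19.exists_dvr_through hy hne
    have hP : IsPullback (pullback.fst (AffineSpace.map N f) t ≫ 𝔸(N; X) ↘ X) (pullback.snd _ _) f
        (t ≫ 𝔸(N; Y) ↘ Y) :=
      (IsPullback.of_hasPullback (AffineSpace.map N f) t).paste_horiz (AffineSpace.isPullback_map f).flip
    obtain ⟨a, ha1, ha2⟩ := Scheme.Pullback.exists_preimage_pullback (f := AffineSpace.map N f) (g := t) p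
      (IsLocalRing.closedPoint W) ht₀.symm
    obtain ⟨z', hz1, hz2⟩ := h W (t ≫ 𝔸(N; Y) ↘ Y) (by
        refine (Scheme.Hom.comp_apply t (𝔸(N; Y) ↘ Y) _).trans ((congrArg _ ht₀).trans ?_)
        rw [← Scheme.Hom.comp_apply, AffineSpace.map_over, Scheme.Hom.comp_apply, hp])
      (hP.isoPullback.hom.base a) (by
        rw [← Scheme.Hom.comp_apply, hP.isoPullback_hom_fst, Scheme.Hom.comp_apply, ha1, hp]) (by
        rw [← Scheme.Hom.comp_apply, hP.isoPullback_hom_snd, ha2])
    obtain ⟨b, rfl⟩ := hP.isoPullback.hom.surjective z'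
    rw [← Scheme.Hom.comp_apply, hP.isoPullback_hom_snd] at hz2
    refine ⟨(pullback.fst (AffineSpace.map N f) t).base b, ?_, ?_⟩
    · obtain ⟨U', hU', hoU', hpU'⟩ := mem_nhds_iff.mp hU
      refine hU' (Specializes.mem_open ?_ hoU' hpU')
      rw [← ha1]
      exact ((hP.isoPullback.hom.isEmbedding.toIsInducing.specializes_iff).mp hz1).map
        (Scheme.Hom.continuous _)
    · rw [← Scheme.Hom.comp_apply, pullback.condition, Scheme.Hom.comp_apply,
        closedPoint_or_generic _ hz2]
      have h3 : (Spec.map (CommRingCat.ofHom W.subtype)).base (IsLocalRing.closedPoint _) =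
          (⟨⊥, Ideal.isPrime_bot⟩ : PrimeSpectrum W) := by
        refine PrimeSpectrum.ext ?_
        show (IsLocalRing.maximalIdeal _).comap W.subtype = ⊥
        rw [IsLocalRing.isField_iff_maximalIdeal_eq.mp (Field.toIsField _), ← RingHom.ker_eq_comap_bot]
        exact (RingHom.injective_iff_ker_eq_bot _).mp (fun a b hab => Subtype.ext hab)
      rw [← h3]
      exact (Scheme.Hom.comp_apply _ _ _).symm.trans ht₁

theorem forall_isUnivOpenAt_iff {X Y : Scheme.{u}} [IsLocallyNoetherian Y] (f : X ⟶ Y)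
    [LocallyOfFiniteType f] (y : Y) :
    (∀ x : X, f.base x = y → IsUnivOpenAt f x) ↔
      ∀ (A : Type u) [CommRing A] [IsDomain A] [IsDiscreteValuationRing A] (g : Spec (CommRingCat.of A) ⟶ Y),
        g.base (IsLocalRing.closedPoint A) = y →
        ∀ Z ∈ irreducibleComponents (↥(pullback f g) : Type u), Dense ((pullback.snd f g).base '' Z) := by
  have hdense : ∀ (A : Type u) [CommRing A] [IsDomain A] [IsDiscreteValuationRing A]
      (S : Set ↥(Spec (CommRingCat.of A))) (z : ↥(Spec (CommRingCat.of A))), z ∈ S →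
      z ≠ IsLocalRing.closedPoint A → Dense S := by
    intro A _ _ _ S z hz hne w
    refine closure_mono (Set.singleton_subset_iff.mpr hz) (specializes_iff_mem_closure.mp ?_)
    rw [closedPoint_or_generic z hne]
    exact (PrimeSpectrum.le_iff_specializes (⟨⊥, Ideal.isPrime_bot⟩ : PrimeSpectrum A) w).mp bot_le
  constructor
  · intro h A _ _ _ g hg Z hZ
    have hζ := hZ.1.isGenericPoint_genericPoint (isClosed_of_mem_irreducibleComponents Z hZ)
    set ζ := hZ.1.genericPoint
    by_cases hc : (pullback.snd f g).base ζ = IsLocalRing.closedPoint A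
    · obtain ⟨z', hz1, hz2⟩ := (isUnivOpenAt_iff_dvr f ((pullback.fst f g).base ζ)).mp (h _ (by
          rw [← Scheme.Hom.comp_apply, pullback.condition, Scheme.Hom.comp_apply, hc, hg])) A g
        (by rw [← Scheme.Hom.comp_apply (f := pullback.fst f g) f, pullback.condition, Scheme.Hom.comp_apply, hc])
        ζ rfl hc
      exfalso
      have h1 : Z ⊆ closure {z'} := by
        rw [← hζ.def]; exact closure_minimal (Set.singleton_subset_iff.mpr
          (specializes_iff_mem_closure.mp hz1)) isClosed_closure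
      have h2 := hζ.specializes (hZ.2 isIrreducible_singleton.closure h1 (subset_closure rfl))
      exact hz2 ((hz1.antisymm h2).eq ▸ hc)
    · exact hdense A _ _ ⟨ζ, hζ.mem, rfl⟩ hc
  · intro h x hx
    refine (isUnivOpenAt_iff_dvr f x).mpr fun A _ _ _ g hg x' hx1 hx2 => ?_
    let Z := irreducibleComponent x'
    have hZ : Z ∈ irreducibleComponents ↥(pullback f g) := irreducibleComponent_mem_irreducibleComponents _
    have hζ := hZ.1.isGenericPoint_genericPoint (isClosed_of_mem_irreducibleComponents Z hZ)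
    refine ⟨_, hζ.specializes mem_irreducibleComponent, fun e => ?_⟩
    have h1 := hζ.image (pullback.snd f g).continuous
    rw [(h A g (hg.trans hx) Z hZ).closure_eq, e] at h1
    have h2 : (IsLocalRing.closedPoint A : ↥(Spec (CommRingCat.of A))) ⤳
        (⟨⊥, Ideal.isPrime_bot⟩ : PrimeSpectrum A) := h1.specializes (Set.mem_univ _)
    exact IsDiscreteValuationRing.not_a_field A (le_bot_iff.mp
      ((PrimeSpectrum.le_iff_specializes _ (⟨⊥, Ideal.isPrime_bot⟩ : PrimeSpectrum A)).mpr h2))

end Groth.L07.UnivOpenPointwise
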