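import Groth.Agent.L07.ChevalleyNorm
import Groth.Agent.L07.ChevalleyOpen
import Groth.Agent.L07.EquidimBC
import Groth.Agent.L07.UnivOpenPointwise
import Mathlib.AlgebraicGeometry.Noetherian

/-!
Chevalley's criterion of universal openness (EGA IV 14.4.4).
-/

universe u

open CategoryTheory CategoryTheory.Limits AlgebraicGeometry TopologicalSpace Topology

namespace Groth.L07.Chevalley

open Groth.L07.Equidim Groth.L07.EquidimQF

set_option maxSynthPendingDepth 3
set_option linter.style.haveILetI false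
set_option backward.isDefEq.respectTransparency.types false
set_option backward.isDefEq.respectTransparency false

theorem isUnivHomeo_of_isPullback {X Y X' Y' : Scheme.{u}} {a : Y' ⟶ Y} {b : X' ⟶ X} {f : X ⟶ Y}
    {f' : X' ⟶ Y'} (h : IsPullback b f' f a) (hf : FlatMor.IsUnivHomeo f) : FlatMor.IsUnivHomeo f' :=
  (MorphismProperty.universally_isStableUnderBaseChange _).of_isPullback h hf

/-- A quasi-finite morphism sending maximal points to maximal points is open over a Noetherian
scheme homeomorphic to a normal affine one. -/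
theorem isOpenMap_of_univHomeo {U T : Scheme.{u}} [IsLocallyNoetherian T] {B : Type u} [CommRing B]
    [IsDomain B] [IsIntegrallyClosed B] (ν : Spec (CommRingCat.of B) ⟶ T) (hν : FlatMor.IsUnivHomeo ν)
    (g : U ⟶ T) [LocallyOfFiniteType g] [LocallyQuasiFinite g]
    (hmax : ∀ ζ : U, (∀ q, q ⤳ ζ → q = ζ) → ∀ q, q ⤳ g ζ → q = g ζ) : IsOpenMap g := by
  haveI : LocallyOfFinitePresentation g :=
    LocallyOfFinitePresentation.iff_locallyOfFiniteType.mpr inferInstance
  refine isOpenMap_of_generalizingMap g fun u t ht => ?_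
  have h1 : IsHomeomorph ν := Groth.L20.isHomeomorph_of_isUnivHomeo hν
  have h2 : IsHomeomorph (pullback.fst g ν) :=
    Groth.L20.isHomeomorph_of_isUnivHomeo (isUnivHomeo_of_isPullback (IsPullback.of_hasPullback g ν).flip hν)
  have hgen : GeneralizingMap (pullback.snd g ν) := by
    refine generalizingMap_of_normal _ fun ζ hζ => ?_
    have hζ' : ∀ q, q ⤳ pullback.fst g ν ζ → q = pullback.fst g ν ζ := fun q hq => by
      obtain ⟨q', rfl⟩ := h2.bijective.2 q
      rw [hζ q' (h2.isEmbedding.isInducing.specializes_iff.mp hq)]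
    let b0 : PrimeSpectrum B := ⟨⊥, Ideal.isPrime_bot⟩
    have hb : ν b0 ⤳ g (pullback.fst g ν ζ) := by
      rw [← Scheme.Hom.comp_apply (pullback.fst g ν), pullback.condition, Scheme.Hom.comp_apply]
      exact Specializes.map ((PrimeSpectrum.le_iff_specializes b0 _).mp bot_le) ν.continuous
    have h3 : pullback.snd g ν ζ = b0 := h1.bijective.1 (by
      rw [← Scheme.Hom.comp_apply, ← pullback.condition, Scheme.Hom.comp_apply, ← hmax _ hζ' _ hb])
    rw [h3]
  obtain ⟨u', rfl⟩ := h2.bijective.2 u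
  obtain ⟨t', rfl⟩ := h1.bijective.2 t
  have ht' : t' ⤳ pullback.snd g ν u' := by
    refine h1.isEmbedding.isInducing.specializes_iff.mp ?_
    rw [← Scheme.Hom.comp_apply (pullback.snd g ν), ← pullback.condition, Scheme.Hom.comp_apply]
    exact ht
  obtain ⟨w, hw, rfl⟩ := hgen ht'
  refine ⟨pullback.fst g ν w, Specializes.map hw (pullback.fst g ν).continuous, ?_⟩
  rw [← Scheme.Hom.comp_apply, pullback.condition, Scheme.Hom.comp_apply]

variable {n : Type u}

theorem flat_over (T : Scheme.{u}) : Flat (𝔸(n; T) ↘ T) :=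
  MorphismProperty.pullback_fst _ _ <| by
  have := isIso_of_isTerminal specULiftZIsTerminal.{u} terminalIsTerminal (terminal.from _)
  rw [← terminal.comp_from (Spec.map (CommRingCat.ofHom MvPolynomial.C)),
    MorphismProperty.cancel_right_of_respectsIso (P := @Flat),
    HasRingHomProperty.Spec_iff (P := @Flat)]
  exact RingHom.flat_algebraMap_iff.2 (inferInstanceAs (Module.Flat (ULift.{u} ℤ) (MvPolynomial n (ULift.{u} ℤ))))

theorem isUnivHomeo_map {T' T : Scheme.{u}} (ν : T' ⟶ T) (h : FlatMor.IsUnivHomeo ν) :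
    FlatMor.IsUnivHomeo (AffineSpace.map n ν) :=
  isUnivHomeo_of_isPullback (AffineSpace.isPullback_map (n := n) ν).flip h

/-- Affine space over a normal affine scheme is normal affine. -/
theorem exists_normal_affineSpace (e : ℕ) {C : Type u} [CommRing C] [IsDomain C] [IsIntegrallyClosed C]
    {T : Scheme.{u}} (ν : Spec (CommRingCat.of C) ⟶ T) (hν : FlatMor.IsUnivHomeo ν) :
    ∃ (B : Type u) (_ : CommRing B) (_ : IsDomain B) (_ : IsIntegrallyClosed B)
      (ν' : Spec (CommRingCat.of B) ⟶ 𝔸(ULift.{u} (Fin e); T)), FlatMor.IsUnivHomeo ν' := by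
  haveI := isIntegrallyClosed_mvPolynomial C e
  haveI : IsIntegrallyClosed (MvPolynomial (ULift.{u} (Fin e)) C) :=
    IsIntegrallyClosed.of_equiv (MvPolynomial.renameEquiv C Equiv.ulift.symm).toRingEquiv
  refine ⟨MvPolynomial (ULift.{u} (Fin e)) C, inferInstance, inferInstance, inferInstance,
    (AffineSpace.SpecIso _ (CommRingCat.of C)).inv ≫ AffineSpace.map _ ν, ?_⟩
  haveI : MorphismProperty.RespectsIso (FlatMor.IsUnivHomeo.{u}) :=
    MorphismProperty.universally_respectsIso _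
  rw [MorphismProperty.cancel_left_of_respectsIso FlatMor.IsUnivHomeo]
  exact isUnivHomeo_map ν hν

/-- Maximal points go to maximal points after passing to affine spaces. -/
theorem maximal_map {D T : Scheme.{u}} (g : D ⟶ T) (hmax : ∀ d, (∀ q, q ⤳ d → q = d) → ∀ q, q ⤳ g d → q = g d)
    (ζ : ↥𝔸(n; D)) (hζ : ∀ q, q ⤳ ζ → q = ζ) :
    ∀ q, q ⤳ AffineSpace.map n g ζ → q = AffineSpace.map n g ζ := by
  intro q hq
  obtain ⟨h1, h2⟩ := (affineSpace_maximal_iff n ζ).mp hζ
  have hbase : (𝔸(n; T) ↘ T) (AffineSpace.map n g ζ) = g ((𝔸(n; D) ↘ D) ζ) := by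
    rw [← Scheme.Hom.comp_apply, AffineSpace.map_over, Scheme.Hom.comp_apply]
  have hq' : (𝔸(n; T) ↘ T) q = (𝔸(n; T) ↘ T) (AffineSpace.map n g ζ) := by
    have h3 : (𝔸(n; T) ↘ T) q ⤳ (𝔸(n; T) ↘ T) (AffineSpace.map n g ζ) := hq.map (𝔸(n; T) ↘ T).continuous
    rw [hbase] at h3 ⊢
    exact hmax _ h1 _ h3
  obtain ⟨ζ₂, hζ₂, rfl⟩ := exists_lift_generization (AffineSpace.isPullback_map (n := n) g).flip ζ q hq hq'
  rw [hζ ζ₂ hζ₂]

/-- The map on affine spaces of a flat morphism of finite presentation is open. -/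
theorem isOpenMap_map_projection (e : Type u) [Finite e] (T : Scheme.{u}) :
    IsOpenMap (AffineSpace.map n (𝔸(e; T) ↘ T)) := by
  haveI : Flat (𝔸(e; T) ↘ T) := flat_over T
  haveI : UniversallyOpen (AffineSpace.map n (𝔸(e; T) ↘ T)) :=
    MorphismProperty.of_isPullback (P := @UniversallyOpen)
      (AffineSpace.isPullback_map (n := n) (𝔸(e; T) ↘ T)).flip inferInstance
  exact Scheme.Hom.isOpenMap _

/-- An affine irreducible neighbourhood of a point with irreducible local ring spectrum. -/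
theorem exists_irreducible_nhd {Y : Scheme.{u}} [IsLocallyNoetherian Y] (y : Y)
    (h : IsDomain (CAlg2.red (Y.presheaf.stalk y))) :
    ∃ V : Y.Opens, IsAffineOpen V ∧ y ∈ V ∧ IsDomain (Γ(Y, V) ⧸ nilradical Γ(Y, V)) := by
  obtain ⟨V1, hyV1, hV1⟩ := exists_nhd_maximal y
  obtain ⟨V, hV, hyV, hVV1⟩ := exists_isAffineOpen_mem_and_subset hyV1
  haveI : (nilradical (Y.presheaf.stalk y)).IsPrime := (Ideal.Quotient.isDomain_iff_prime _).mp h
  let n0 : PrimeSpectrum (Y.presheaf.stalk y) := ⟨nilradical _, inferInstance⟩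
  let η := Y.fromSpecStalk y n0
  have hηgen : ∀ q, q ⤳ y → η ⤳ q := by
    intro q hq
    obtain ⟨p, rfl⟩ : q ∈ Set.range (Y.fromSpecStalk y) := by rw [Y.range_fromSpecStalk]; exact hq
    have hle : n0.asIdeal ≤ (p : PrimeSpectrum (Y.presheaf.stalk y)).asIdeal :=
      nilradical_le_prime (p : PrimeSpectrum (Y.presheaf.stalk y)).asIdeal
    exact Specializes.map ((PrimeSpectrum.le_iff_specializes n0 _).mp hle) (Y.fromSpecStalk y).continuous
  have hηy : η ⤳ y := hηgen y specializes_rfl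
  have hall : ∀ q ∈ V, η ⤳ q := by
    intro q hq
    obtain ⟨p, hp, hpmax⟩ := exists_maximal_generization q
    have hpy : p ⤳ y := hV1 p (hVV1 (hp.mem_open V.2 hq)) hpmax
    exact (hηgen p hpy).trans hp
  refine ⟨V, hV, hyV, ?_⟩
  let P := hV.primeIdealOf ⟨η, hηy.mem_open V.2 hyV⟩
  have hP : nilradical Γ(Y, V) = P.asIdeal := by
    refine le_antisymm (nilradical_le_prime _) ?_
    rw [nilradical_eq_sInf]
    refine le_sInf fun J hJ => ?_
    let J0 : PrimeSpectrum Γ(Y, V) := ⟨J, hJ⟩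
    refine (PrimeSpectrum.le_iff_specializes P J0).mpr (hV.fromSpec.isOpenEmbedding.isInducing.specializes_iff.mp ?_)
    rw [hV.fromSpec_primeIdealOf]
    refine hall _ ?_
    have : hV.fromSpec J0 ∈ Set.range hV.fromSpec := ⟨J0, rfl⟩
    rwa [hV.range_fromSpec] at this
  rw [Ideal.Quotient.isDomain_iff_prime, hP]
  exact P.2

/-- A geometrically unibranch affine irreducible open maps from a normal affine scheme. -/
theorem exists_normalization {Y : Scheme.{u}} (hY : ∀ y : Y, CAlg2.IsGeomUnibranch (Y.presheaf.stalk y))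
    {V : Y.Opens} (hV : IsAffineOpen V) [IsDomain (Γ(Y, V) ⧸ nilradical Γ(Y, V))] :
    ∃ (C : Type u) (_ : CommRing C) (_ : IsDomain C) (_ : IsIntegrallyClosed C)
      (ν : Spec (CommRingCat.of C) ⟶ (V : Scheme.{u})), FlatMor.IsUnivHomeo ν := by
  obtain ⟨C, i1, i2, i3, ψ, hψ⟩ := exists_isUH_normal (A := Γ(Y, V)) fun p hp => by
    let z : V := ⟨hV.fromSpec ⟨p, hp⟩, hV.range_fromSpec.le ⟨_, rfl⟩⟩
    letI := TopCat.Presheaf.algebra_section_stalk Y.presheaf z
    haveI : IsLocalization.AtPrime (Y.presheaf.stalk z.1) p := hV.isLocalization_stalk' ⟨p, hp⟩ z.2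
    let e := IsLocalization.algEquiv p.primeCompl (Y.presheaf.stalk z.1) (Localization.AtPrime p)
    exact isGeomUnibranch_of_surjective e.toRingEquiv.toRingHom e.surjective
      (fun a ha => by
        have h0 : a = 0 := e.injective ((RingHom.mem_ker.mp ha).trans (map_zero e).symm)
        rw [h0]; exact zero_mem _) (hY _)
  haveI : MorphismProperty.RespectsIso (FlatMor.IsUnivHomeo.{u}) :=
    MorphismProperty.universally_respectsIso _
  refine ⟨C, i1, i2, i3, Spec.map (CommRingCat.ofHom ψ) ≫ hV.isoSpec.inv, ?_⟩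
  rw [MorphismProperty.cancel_right_of_respectsIso FlatMor.IsUnivHomeo]
  exact (Groth.L28.AWN.isUnivHomeo_iff_isUH ψ).mpr hψ

/-- Chevalley: equidimensional implies universally open over a geometrically unibranch base. -/
theorem isUnivOpenAt_of_isEquidimAt {X Y : Scheme.{u}} [IsLocallyNoetherian Y]
    (hY : ∀ y : Y, CAlg2.IsGeomUnibranch (Y.presheaf.stalk y)) (f : X ⟶ Y) [LocallyOfFiniteType f]
    (x : X) (h : EGA43.IsEquidimAt f x) : EGA43.IsUnivOpenAt f x := by
  obtain ⟨e, D, g, hxD, hg, hqf, hmax⟩ := exists_qf_of_isEquidimAt f x h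
  obtain ⟨V, hV, hyV, hVd⟩ := exists_irreducible_nhd (f x) (hY (f x)).1.1
  obtain ⟨C, _, _, _, ν, hν⟩ := exists_normalization hY hV
  obtain ⟨B1, _, _, _, ν1, hν1⟩ := exists_normal_affineSpace e ν hν
  let D' : X.Opens := D ⊓ f ⁻¹ᵁ V
  let j := X.homOfLE (inf_le_left : D' ≤ D)
  let E := ULift.{u} (Fin e)
  let mV := AffineSpace.map E V.ι
  have hbot := AffineSpace.isPullback_map (n := E) V.ι
  haveI : IsOpenImmersion mV := MorphismProperty.of_isPullback (P := @IsOpenImmersion) hbot.flip inferInstance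
  have hr : Set.range (D'.ι ≫ f) ⊆ Set.range V.ι := by
    rintro _ ⟨d, rfl⟩
    rw [Scheme.Opens.range_ι]
    exact d.2.2
  let fV := IsOpenImmersion.lift V.ι (D'.ι ≫ f) hr
  have hfV : fV ≫ V.ι = D'.ι ≫ f := IsOpenImmersion.lift_fac _ _ _
  let g' := hbot.lift (j ≫ g) fV (by rw [hfV, Category.assoc, hg, Scheme.homOfLE_ι_assoc])
  have hg'1 : g' ≫ mV = j ≫ g := hbot.lift_fst _ _ _
  have hg'2 : g' ≫ (𝔸(E; (V : Scheme.{u})) ↘ (V : Scheme.{u})) = fV := hbot.lift_snd _ _ _
  haveI : LocallyOfFiniteType (g ≫ (𝔸(E; Y) ↘ Y)) := hg ▸ inferInstance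
  haveI : LocallyOfFiniteType g := locallyOfFiniteType_of_comp g (𝔸(E; Y) ↘ Y)
  haveI : LocallyOfFiniteType (g' ≫ mV) := hg'1 ▸ inferInstance
  haveI : LocallyQuasiFinite (g' ≫ mV) := hg'1 ▸ inferInstance
  haveI : LocallyOfFiniteType g' := locallyOfFiniteType_of_comp g' mV
  haveI : LocallyQuasiFinite g' := LocallyQuasiFinite.of_comp g' mV
  have hmax' : ∀ d, (∀ q, q ⤳ d → q = d) → ∀ q, q ⤳ g' d → q = g' d := by
    intro d hd
    rw [maximal_openImmersion_iff mV, ← Scheme.Hom.comp_apply, hg'1, Scheme.Hom.comp_apply]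
    exact (hmax _ ((maximal_openImmersion_iff j d).mp hd)).1
  refine Groth.L07.UnivOpenPointwise.of_affineSpace f x fun m p hp => ?_
  let N := ULift.{u} (Fin m)
  haveI : IsNoetherianRing Γ(Y, V) := IsLocallyNoetherian.component_noetherian ⟨V, hV⟩
  haveI : IsLocallyNoetherian (V : Scheme.{u}) := inferInstance
  haveI : IsLocallyNoetherian 𝔸(E; (V : Scheme.{u})) :=
    LocallyOfFiniteType.isLocallyNoetherian (𝔸(E; (V : Scheme.{u})) ↘ (V : Scheme.{u}))
  haveI : IsLocallyNoetherian 𝔸(N; 𝔸(E; (V : Scheme.{u}))) :=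
    LocallyOfFiniteType.isLocallyNoetherian (𝔸(N; 𝔸(E; (V : Scheme.{u}))) ↘ 𝔸(E; (V : Scheme.{u})))
  obtain ⟨B2, _, _, _, ν2, hν2⟩ := exists_normal_affineSpace m ν1 hν1
  haveI : LocallyOfFiniteType (AffineSpace.map N g') :=
    MorphismProperty.of_isPullback (P := @LocallyOfFiniteType) (AffineSpace.isPullback_map (n := N) g').flip inferInstance
  haveI : LocallyQuasiFinite (AffineSpace.map N g') :=
    MorphismProperty.of_isPullback (P := @LocallyQuasiFinite) (AffineSpace.isPullback_map (n := N) g').flip inferInstance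
  have hopen1 : IsOpenMap (AffineSpace.map N g') :=
    isOpenMap_of_univHomeo ν2 hν2 _ (maximal_map g' hmax')
  haveI : IsOpenImmersion (AffineSpace.map N V.ι) :=
    MorphismProperty.of_isPullback (P := @IsOpenImmersion) (AffineSpace.isPullback_map (n := N) V.ι).flip inferInstance
  haveI : IsOpenImmersion (AffineSpace.map N D'.ι) :=
    MorphismProperty.of_isPullback (P := @IsOpenImmersion) (AffineSpace.isPullback_map (n := N) D'.ι).flip inferInstance
  have hfac : AffineSpace.map N D'.ι ≫ AffineSpace.map N f =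
      AffineSpace.map N g' ≫ AffineSpace.map N (𝔸(E; (V : Scheme.{u})) ↘ (V : Scheme.{u})) ≫ AffineSpace.map N V.ι := by
    rw [← AffineSpace.map_comp, ← AffineSpace.map_comp, ← AffineSpace.map_comp, reassoc_of% hg'2, hfV]
  have hopen : IsOpenMap (AffineSpace.map N D'.ι ≫ AffineSpace.map N f) := by
    rw [hfac]
    have h2 := isOpenMap_map_projection (n := N) E (V : Scheme.{u})
    exact ((AffineSpace.map N V.ι).isOpenEmbedding.isOpenMap.comp h2).comp hopen1
  obtain ⟨p', hp', -⟩ := Scheme.exists_preimage_of_isPullback (AffineSpace.isPullback_map (n := N) D'.ι) p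
    (⟨x, hxD, hyV⟩ : (D' : Scheme.{u})) (by rw [show (𝔸(N; X) ↘ X) p = x from hp]; rfl)
  subst hp'
  intro S hS
  have h3 : AffineSpace.map N D'.ι ⁻¹' S ∈ nhds p' :=
    (AffineSpace.map N D'.ι).continuous.continuousAt.preimage_mem_nhds hS
  refine Filter.mem_of_superset (hopen.image_mem_nhds h3) ?_
  rintro _ ⟨w, hw, rfl⟩
  exact ⟨_, hw, rfl⟩

end Groth.L07.Chevalley
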