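import Groth.Agent.L02.AssFlat
import Mathlib.RingTheory.Length
import Mathlib.RingTheory.FiniteLength
import Mathlib.RingTheory.Nakayama
import Mathlib.RingTheory.LocalRing.MaximalIdeal.Basic
import Mathlib.RingTheory.Ideal.AssociatedPrime.Basic

/-!
Associated primes and lengths of `N ⊗ M` for a flat module over a local homomorphism.
-/

set_option autoImplicit false

universe u

open TensorProduct IsLocalRing

namespace Groth.L07.AssFlatLocal

variable {R A : Type u} [CommRing R] [CommRing A] [Algebra R A]
  (N : Type u) [AddCommGroup N] [Module A N] [Module R N] [IsScalarTower R A N] [Module.Flat R N]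

theorem regular_of_notMem (p : Ideal R) [p.IsPrime] {r : R} (hr : r ∉ p) :
    IsSMulRegular (N ⧸ p.map (algebraMap R A) • (⊤ : Submodule A N)) (algebraMap R A r) := by
  obtain ⟨e⟩ := Groth.L02.AssFlat.nonempty_quotEquiv (S := A) N p
  have h : Function.Injective (LinearMap.lsmul R (R ⧸ p) r) := by
    intro a b hab
    have : Ideal.Quotient.mk p r * a = Ideal.Quotient.mk p r * b := by
      simpa [Algebra.smul_def] using hab
    exact mul_left_cancel₀ (fun h0 => hr (Ideal.Quotient.eq_zero_iff_mem.mp h0)) this
  have h2 : Function.Injective (LinearMap.lTensor N (LinearMap.lsmul R (R ⧸ p) r)) :=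
    Module.Flat.lTensor_preserves_injective_linearMap _ h
  intro a b hab
  obtain ⟨a, rfl⟩ := e.surjective a
  obtain ⟨b, rfl⟩ := e.surjective b
  refine congrArg e (h2 ?_)
  have key : ∀ z, LinearMap.lTensor N (LinearMap.lsmul R (R ⧸ p) r) z = algebraMap R A r • z := by
    intro z
    induction z using TensorProduct.induction_on with
    | zero => simp
    | tmul x y =>
      rw [LinearMap.lTensor_tmul, LinearMap.lsmul_apply, TensorProduct.smul_tmul',
        algebraMap_smul, TensorProduct.smul_tmul]
    | add x y hx hy => rw [map_add, hx, hy, smul_add]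
  rw [key, key]
  refine e.injective ?_
  rw [map_smul, map_smul]
  exact hab

theorem comap_eq_of_mem [IsNoetherianRing A] (p : Ideal R) [p.IsPrime] {Q : Ideal A}
    (hQ : Q ∈ associatedPrimes A (N ⧸ p.map (algebraMap R A) • (⊤ : Submodule A N))) :
    Q.comap (algebraMap R A) = p := by
  refine le_antisymm (fun r hr => ?_) fun r hr => ?_
  · by_contra hrp
    have : algebraMap R A r ∈ ⋃ P ∈ associatedPrimes A (N ⧸ p.map (algebraMap R A) • (⊤ : Submodule A N)), (P : Set A) :=
      Set.mem_biUnion hQ hr
    rw [biUnion_associatedPrimes_eq_zero_divisors] at this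
    obtain ⟨x, hx, h0⟩ := this
    exact hx (regular_of_notMem N p hrp (by simpa using h0))
  · refine hQ.annihilator_le (Submodule.mem_annihilator.mpr fun x _ => ?_)
    obtain ⟨x, rfl⟩ := Submodule.Quotient.mk_surjective _ x
    rw [← Submodule.Quotient.mk_smul, Submodule.Quotient.mk_eq_zero]
    exact Submodule.smul_mem_smul (Ideal.mem_map_of_mem _ hr) Submodule.mem_top

theorem mem_tensor_of_mem [IsNoetherianRing R] {M : Type u} [AddCommGroup M] [Module R M]
    {p : Ideal R} (hp : p ∈ associatedPrimes R M) {Q : Ideal A}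
    (hQ : Q ∈ associatedPrimes A (N ⧸ p.map (algebraMap R A) • (⊤ : Submodule A N))) :
    Q ∈ associatedPrimes A (N ⊗[R] M) := by
  rw [Groth.L02.AssFlat.associatedPrimes_tensor]
  exact Set.mem_biUnion hp hQ

variable [IsLocalRing R] [IsLocalRing A] [IsLocalHom (algebraMap R A)]

theorem maximal_mem_iff [IsNoetherianRing R] [IsNoetherianRing A] (M : Type u) [AddCommGroup M] [Module R M] :
    maximalIdeal A ∈ associatedPrimes A (N ⊗[R] M) ↔
      maximalIdeal R ∈ associatedPrimes R M ∧
      maximalIdeal A ∈ associatedPrimes A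
        (N ⧸ (maximalIdeal R).map (algebraMap R A) • (⊤ : Submodule A N)) := by
  refine ⟨fun h => ?_, fun ⟨h1, h2⟩ => mem_tensor_of_mem N h1 h2⟩
  rw [Groth.L02.AssFlat.associatedPrimes_tensor, Set.mem_iUnion₂] at h
  obtain ⟨p, hp, hQ⟩ := h
  haveI := hp.isPrime
  have hpm : p = maximalIdeal R := by
    rw [← comap_eq_of_mem N p hQ]
    exact maximalIdeal_comap (algebraMap R A)
  subst hpm
  exact ⟨hp, hQ⟩

omit [IsScalarTower R A N] [Module.Flat R N] [Module R N] in
theorem nontrivial_quot [Module.Finite A N] [Nontrivial N] (p : Ideal R) (hp : p ≤ maximalIdeal R) :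
    Nontrivial (N ⧸ p.map (algebraMap R A) • (⊤ : Submodule A N)) := by
  refine Submodule.Quotient.nontrivial_iff.mpr fun h => ?_
  refine absurd (Submodule.eq_bot_of_le_smul_of_le_jacobson_bot (p.map (algebraMap R A)) ⊤
    Module.Finite.fg_top h.ge ?_) top_ne_bot
  refine le_trans (Ideal.map_le_iff_le_comap.mpr (hp.trans fun r hr => ?_))
    (maximalIdeal_le_jacobson _)
  exact map_nonunit (algebraMap R A) r hr

omit [IsLocalRing A] [IsLocalHom (algebraMap R A)] in
/-- Lengths multiply. -/
theorem length_tensor (M : Type u) [AddCommGroup M] [Module R M] (hM : IsFiniteLength R M) :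
    Module.length A (N ⊗[R] M) = Module.length R M *
      Module.length A (N ⧸ (maximalIdeal R).map (algebraMap R A) • (⊤ : Submodule A N)) := by
  induction hM with
  | of_subsingleton =>
    rw [Module.length_eq_zero, Module.length_eq_zero, zero_mul]
  | @of_simple_quotient M _ _ K _ _ ih =>
    obtain ⟨m, hm, ⟨e⟩⟩ := isSimpleModule_iff_quot_maximal.mp ‹IsSimpleModule R (M ⧸ K)›
    obtain rfl : m = maximalIdeal R := eq_maximalIdeal hm
    have hB : Module.length R M = Module.length R K + Module.length R (M ⧸ K) :=
      Module.length_eq_add_of_exact K.subtype K.mkQ K.subtype_injective K.mkQ_surjective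
        (LinearMap.exact_subtype_mkQ K)
    have hC : Module.length A (N ⊗[R] M) =
        Module.length A (N ⊗[R] K) + Module.length A (N ⊗[R] (M ⧸ K)) :=
      Module.length_eq_add_of_exact (Groth.L02.AssFlat.tmap A N K.subtype)
        (Groth.L02.AssFlat.tmap A N K.mkQ)
        (Groth.L02.AssFlat.tmap_injective N K.subtype_injective)
        (LinearMap.lTensor_surjective N K.mkQ_surjective)
        (Module.Flat.lTensor_exact N (LinearMap.exact_subtype_mkQ K))
    obtain ⟨e'⟩ := Groth.L02.AssFlat.nonempty_quotEquiv (S := A) N (maximalIdeal R)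
    rw [hB, hC, ih, Module.length_eq_one R (M ⧸ K), add_mul, one_mul]
    congr 1
    exact ((AlgebraTensorModule.congr (LinearEquiv.refl A N) e).trans e').length_eq

end Groth.L07.AssFlatLocal
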