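import Groth.Agent.L07.SyntLCI

/-! Syntomicity along isomorphisms of rings. -/

namespace Groth.L07.SyntBase

open TensorProduct PrimeSpectrum CategoryTheory
open Groth.L07.CILocus Groth.L07.SyntAlg

set_option linter.style.haveILetI false
set_option maxSynthPendingDepth 3

universe u

/-- Complete intersection fibres along a bijective change of base. -/
theorem ciAt_base {R R' S : Type u} [CommRing R] [CommRing R'] [CommRing S] [Algebra R R'] [Algebra R' S]
    [Algebra R S] [IsScalarTower R R' S] [Algebra.FiniteType R S] (hσ : Function.Bijective (algebraMap R R'))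
    (P : PrimeSpectrum S) : CIAt R P ↔ CIAt R' P := by
  haveI : Algebra.FiniteType R' S := Algebra.FiniteType.of_restrictScalars_finiteType R R' S
  set p' := comap (algebraMap R' S) P with hp'
  have hp : comap (algebraMap R S) P = comap (algebraMap R R') p' := by
    rw [hp', ← comap_comp_apply, ← IsScalarTower.algebraMap_eq]
  let p := comap (algebraMap R R') p'
  rw [ciAt_iff_at P p hp, ciAt_iff_at P p' rfl]
  let K := p.asIdeal.ResidueField
  let K' := p'.asIdeal.ResidueField
  let mK : K →ₐ[R] K' := Ideal.ResidueField.mapₐ p.asIdeal p'.asIdeal (Algebra.ofId R R') rfl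
  have hmK : Function.Bijective mK := by
    refine ⟨RingHom.injective _, fun z => ?_⟩
    obtain ⟨a, b, -, rfl⟩ := IsFractionRing.div_surjective (A := R' ⧸ p'.asIdeal) z
    obtain ⟨a, rfl⟩ := Ideal.Quotient.mk_surjective a
    obtain ⟨a, rfl⟩ := hσ.2 a
    obtain ⟨b, rfl⟩ := Ideal.Quotient.mk_surjective b
    obtain ⟨b, rfl⟩ := hσ.2 b
    refine ⟨algebraMap R K a / algebraMap R K b, ?_⟩
    rw [map_div₀, AlgHom.commutes, AlgHom.commutes, IsScalarTower.algebraMap_apply R R' K',
      IsScalarTower.algebraMap_apply R R' K']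
    rfl
  haveI : CompatibleSMul R R' K' S := ⟨fun r a b => by
    obtain ⟨r, rfl⟩ := hσ.2 r
    rw [algebraMap_smul, algebraMap_smul, smul_tmul]⟩
  haveI : CompatibleSMul R' R K' S := ⟨fun r a b => by
    rw [← algebraMap_smul R' r a, ← algebraMap_smul R' r b, smul_tmul]⟩
  let E : p.asIdeal.Fiber S ≃+* p'.asIdeal.Fiber S :=
    (Algebra.TensorProduct.congr (AlgEquiv.ofBijective mK hmK) (AlgEquiv.refl (R := R) (A₁ := S))).toRingEquiv.trans
      (Algebra.TensorProduct.equivOfCompatibleSMul R' R R K' S).toRingEquiv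
  haveI : IsNoetherianRing (p.asIdeal.Fiber S) := Algebra.FiniteType.isNoetherianRing K _
  haveI : IsNoetherianRing (p'.asIdeal.Fiber S) := Algebra.FiniteType.isNoetherianRing K' _
  refine isCI_localization_equiv E _ _ (congrArg PrimeSpectrum.asIdeal (?_ :
    preimageEquivFiber R S p ⟨P, hp⟩ = comap E.toRingHom (preimageEquivFiber R' S p' ⟨P, rfl⟩)))
  refine (preimageEquivFiber R S p).symm.injective (Subtype.ext ?_)
  rw [Equiv.symm_apply_apply]
  have hb : comap Algebra.TensorProduct.includeRight.toRingHom (preimageEquivFiber R' S p' ⟨P, rfl⟩) = P :=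
    congrArg Subtype.val ((preimageEquivFiber R' S p').symm_apply_apply ⟨P, rfl⟩)
  show P = comap Algebra.TensorProduct.includeRight.toRingHom (comap E.toRingHom _)
  conv_lhs => rw [← hb]
  rw [← comap_comp_apply]
  refine congrArg (fun φ : S →+* p'.asIdeal.Fiber S => comap φ _) (RingHom.ext fun a => ?_)
  simp [E]
  rfl

/-- Syntomicity along ring isomorphisms of source and base. -/
theorem isSyntomic_ringEquiv {R S R' S' : Type u} [CommRing R] [CommRing S] [CommRing R'] [CommRing S']
    [Algebra R S] [Algebra R' S'] (σ : R ≃+* R') (τ : S ≃+* S')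
    (h : ∀ r, τ (algebraMap R S r) = algebraMap R' S' (σ r)) (hs : Synt.IsSyntomic R S) :
    Synt.IsSyntomic R' S' := by
  letI : Algebra R R' := σ.toRingHom.toAlgebra
  letI : Algebra R S' := ((algebraMap R' S').comp σ.toRingHom).toAlgebra
  haveI : IsScalarTower R R' S' := IsScalarTower.of_algebraMap_eq fun _ => rfl
  have hs' : Synt.IsSyntomic R S' := isSyntomic_of_algEquiv (AlgEquiv.ofRingEquiv (f := τ) h) hs
  haveI := hs'.2.1
  haveI := hs'.1
  haveI : Algebra.FiniteType R R' := RingHom.FiniteType.of_surjective (algebraMap R R') σ.surjective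
  haveI : Algebra.FinitePresentation R' S' := .of_restrict_scalars_finitePresentation R R' S'
  obtain ⟨-, hCI⟩ := isSyntomic_iff.mp hs'
  refine isSyntomic_iff.mpr ⟨?_, fun P => (ciAt_base σ.bijective P).mp (hCI P)⟩
  rw [← RingHom.flat_algebraMap_iff,
    show algebraMap R' S' = (algebraMap R S').comp σ.symm.toRingHom from RingHom.ext fun r => by
      show algebraMap R' S' r = algebraMap R' S' (σ (σ.symm r))
      rw [σ.apply_symm_apply]]
  exact (RingHom.Flat.of_bijective σ.symm.bijective).comp (RingHom.flat_algebraMap_iff.mpr hs'.1)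

/-- Syntomicity of a ring map only depends on its isomorphism class as an arrow. -/
theorem isSyntomic_of_arrowIso {A B A' B' : CommRingCat.{u}} {a : A ⟶ B} {b : A' ⟶ B'}
    (e : Arrow.mk a ≅ Arrow.mk b) (h : letI := a.hom.toAlgebra; Synt.IsSyntomic A B) :
    letI := b.hom.toAlgebra; Synt.IsSyntomic A' B' := by
  letI := a.hom.toAlgebra
  letI := b.hom.toAlgebra
  let σ : A ≃+* A' := (Arrow.leftFunc.mapIso e).commRingCatIsoToRingEquiv
  let τ : B ≃+* B' := (Arrow.rightFunc.mapIso e).commRingCatIsoToRingEquiv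
  refine isSyntomic_ringEquiv σ τ (fun r => ?_) h
  exact (congrArg (fun φ => φ.hom r) (Arrow.w e.hom)).symm

end Groth.L07.SyntBase
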