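import Groth.Agent.L07.SyntKoszul
import Groth.Agent.L07.KoszulLocal
import Groth.Agent.L07.QuasiRegular

/-! Syntomic morphisms, smooth morphisms and local complete intersection morphisms. -/

namespace Groth.L07.SyntMor

open CategoryTheory CategoryTheory.Limits AlgebraicGeometry IsLocalRing CohIII

set_option linter.style.haveILetI false
set_option maxSynthPendingDepth 3

universe u

/-- Fibre stalks only depend on a neighbourhood. -/
theorem isCI_fiberStalk_comp {X U S : Scheme.{u}} (f : X ⟶ S) [LocallyOfFiniteType f] (j : U ⟶ X)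
    [IsOpenImmersion j] (z : U) :
    Pi1.IsCompleteIntersection (CInt.fiberStalk (j ≫ f) z) ↔ Pi1.IsCompleteIntersection (CInt.fiberStalk f (j z)) := by
  haveI : IsLocallyNoetherian (f.fiber (f (j z))) := Groth.L07.CIBaseChange.isLocallyNoetherian_fiber f _
  haveI : IsLocallyNoetherian ((j ≫ f).fiber ((j ≫ f) z)) := Groth.L07.CIBaseChange.isLocallyNoetherian_fiber _ _
  obtain ⟨e⟩ := Groth.L07.CIScheme.exists_fiberStalkEquiv f (f (j z)) (f.asFiber (j z)) (j z) (f.fiberι_asFiber _)
  obtain ⟨e'⟩ := Groth.L07.CIScheme.exists_fiberStalkEquiv (j ≫ f) ((j ≫ f) z) ((j ≫ f).asFiber z) z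
    ((j ≫ f).fiberι_asFiber z)
  letI := (f.stalkMap (j z)).hom.toAlgebra
  letI := ((j ≫ f).stalkMap z).hom.toAlgebra
  haveI := e.symm.isLocalRing
  haveI := e'.symm.isLocalRing
  haveI := isNoetherianRing_of_ringEquiv _ e.symm
  haveI := isNoetherianRing_of_ringEquiv _ e'.symm
  let eS := (asIso (j.stalkMap z)).commRingCatIsoToRingEquiv
  have hE : (EGA4.mB (S.presheaf.stalk (f (j z))) (X.presheaf.stalk (j z))).map (eS : _ →+* _) =
      EGA4.mB (S.presheaf.stalk ((j ≫ f) z)) (U.presheaf.stalk z) := by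
    rw [EGA4.mB, EGA4.mB, Ideal.map_map]
    congr 1
    ext r
    show j.stalkMap z (f.stalkMap (j z) r) = (j ≫ f).stalkMap z r
    rw [Scheme.Hom.stalkMap_comp]
    rfl
  exact ((Groth.L07.Avramov.isCompleteIntersection_congr e').symm.trans
    (Groth.L07.Avramov.isCompleteIntersection_congr (Ideal.quotientEquiv _ _ eS hE.symm)).symm).trans
      (Groth.L07.Avramov.isCompleteIntersection_congr e)

/-- Smooth morphisms are flat complete intersection morphisms. -/
theorem isCIMorphism_of_smooth {X S : Scheme.{u}} (f : X ⟶ S) [Smooth f] : CInt.IsCIMorphism f := by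
  refine ⟨inferInstance, inferInstance, fun x => ?_⟩
  haveI hs : Smooth (f.fiberToSpecResidueField (f x)) :=
    inferInstanceAs (Smooth (pullback.snd f (S.fromSpecResidueField (f x))))
  haveI := @Groth.L07.SyntKoszul.isRegularLocalRing_of_smooth _ _ _ (f.fiberToSpecResidueField (f x)) hs (f.asFiber x)
  exact Groth.L07.CIFibre.isCompleteIntersection_of_regular _

/-- Regular immersions are locally of finite presentation. -/
theorem lfp_of_isRegularImmersion {U P : Scheme.{u}} (k : RegImm.Kind) (i : U ⟶ P)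
    (h : RegImm.IsRegularImmersion k i) : LocallyOfFinitePresentation i := by
  refine (HasRingHomProperty.iff_exists_appLE (P := @LocallyOfFinitePresentation) (Q := RingHom.FinitePresentation)
    (RingHom.finitePresentation_stableUnderComposition.stableUnderCompositionWithLocalizationAway
      RingHom.finitePresentation_holdsForLocalizationAway).1).mpr fun z => ?_
  obtain ⟨⟨W, hW⟩, hzW, hcl, rs, -, hker⟩ := h.2 z
  haveI := hcl
  haveI : IsAffine (W : Scheme.{u}) := hW
  have hW' : IsAffineOpen (i ⁻¹ᵁ W) := isAffine_of_isAffineHom (i ∣_ W)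
  refine ⟨⟨W, hW⟩, ⟨i ⁻¹ᵁ W, hW'⟩, hzW, le_rfl, ?_⟩
  rw [← Scheme.Hom.app_eq_appLE]
  have hσ : Function.Surjective (i.app W).hom := by
    have h3 : Function.Surjective ((i ∣_ W).appTop).hom := (i ∣_ W).app_surjective ⊤ (isAffineOpen_top _)
    rw [morphismRestrict_appTop] at h3
    have h4 : Function.Surjective (i.app (W.ι ''ᵁ ⊤)).hom :=
      Function.Surjective.of_comp_left (f := U.presheaf.map (eqToHom (image_morphismRestrict_preimage i W ⊤)).op) h3
        (ConcreteCategory.bijective_of_isIso _).1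
    have key : ∀ W' : P.Opens, W' = W → Function.Surjective (i.app W').hom →
        Function.Surjective (i.app W).hom := by rintro W' rfl h; exact h
    exact key _ W.ι_image_top h4
  exact RingHom.FinitePresentation.of_surjective _ hσ (hker ▸ Submodule.fg_span rs.finite_toSet)

/-- Flat local complete intersection morphisms have complete intersection fibres. -/
theorem isCIMorphism_of_koszul {X S : Scheme.{u}} (f : X ⟶ S) [Flat f] (h : ∀ x, Synt.IsKoszulAt f x) :
    CInt.IsCIMorphism f := by
  choose U P i π hx hlft hreg hsm heq using h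
  haveI : IsZariskiLocalAtSource (@LocallyOfFinitePresentation.{u}) := HasRingHomProperty.instIsZariskiLocalAtSource
  have hlfp : LocallyOfFinitePresentation f := by
    refine IsZariskiLocalAtSource.of_iSup_eq_top (P := @LocallyOfFinitePresentation.{u}) U
      (top_le_iff.mp fun x _ => TopologicalSpace.Opens.mem_iSup.mpr ⟨x, hx x⟩) fun x => ?_
    haveI := lfp_of_isRegularImmersion _ _ (hreg x)
    haveI := hsm x
    rw [← heq x]
    infer_instance
  haveI := hlfp
  refine ⟨inferInstance, hlfp, fun x => ?_⟩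
  haveI := hsm x
  haveI : Flat (i x ≫ π x) := by rw [heq x]; infer_instance
  haveI : LocallyOfFiniteType (i x ≫ π x) := by rw [heq x]; infer_instance
  have h1 := Groth.L07.SyntKoszul.isCI_fiberStalk (i x) (π x) ⟨x, hx x⟩ ((hreg x).2 _)
  rw [heq x] at h1
  exact (isCI_fiberStalk_comp f (U x).ι ⟨x, hx x⟩).mp h1

theorem isKoszulRegularSeq_map {B B' : Type u} [CommRing B] [CommRing B'] (φ : B ≃+* B') (l : List B)
    (h : LCI.IsKoszulRegularSeq B l) : LCI.IsKoszulRegularSeq B' (l.map φ) := fun n hn =>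
  (Groth.L07.KoszulBC.isZero_transfer φ.toRingHom (ModuleCat.of B B) (ModuleCat.of B' B') φ.toAddEquiv
      (fun b m => map_mul φ b m) l n (Groth.L07.KoszulBC.isZero_of_isKoszulRegularSeq l h n hn)).of_iso
    ((HomologicalComplex.homologyFunctor _ _ n).mapIso (eqToIso (Groth.L04.Koszul.koszul_eq (l.map φ))))

/-- Syntomic morphisms are Koszul at every point. -/
theorem isKoszulAt_of_isCIMorphism {X S : Scheme.{u}} (f : X ⟶ S) (h : CInt.IsCIMorphism f) (x : X) :
    Synt.IsKoszulAt f x := by
  obtain ⟨_, ⟨V, hV, rfl⟩, hxV, -⟩ := S.isBasis_affineOpens.exists_subset_of_mem_open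
    (Set.mem_univ (f x)) isOpen_univ
  obtain ⟨U, e, hxU, R, _, n, c, F, hF, e₁, e₂, he⟩ := Groth.L07.SyntScheme.exists_standard f x ⟨V, hV⟩ hxV
    ((Groth.L07.SyntScheme.isSyntomicMor_iff f).mpr h x)
  let Po := CommRingCat.of (MvPolynomial (Fin n) R)
  let q : Po ⟶ CommRingCat.of (Synt.RelGCIRing R n c F) := CommRingCat.ofHom (Ideal.Quotient.mk _)
  let p : CommRingCat.of R ⟶ Po := CommRingCat.ofHom (algebraMap R (MvPolynomial (Fin n) R))
  have hq : Function.Surjective q.hom := Ideal.Quotient.mk_surjective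
  haveI : IsClosedImmersion (Spec.map q) := IsClosedImmersion.spec_of_surjective q hq
  haveI : Smooth (Spec.map p) := by
    rw [HasRingHomProperty.Spec_iff (P := @Smooth)]
    haveI : Algebra.Smooth R (MvPolynomial (Fin n) R) := ⟨inferInstance, inferInstance⟩
    exact RingHom.smooth_algebraMap.mpr (inferInstanceAs (Algebra.Smooth R (MvPolynomial (Fin n) R)))
  refine ⟨U.1, Spec Po, e₁.hom ≫ Spec.map q, Spec.map p ≫ e₂.inv ≫ Scheme.Opens.ι V, hxU, ?_, ⟨inferInstance, fun z => ?_⟩,
    inferInstance, ?_⟩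
  · haveI := h.2.1
    infer_instance
  · have hT : IsAffineOpen (⊤ : (Spec Po).Opens) := isAffineOpen_top _
    refine ⟨⟨⊤, hT⟩, trivial, IsZariskiLocalAtTarget.restrict (inferInstanceAs (IsClosedImmersion (e₁.hom ≫ Spec.map q))) _,
      (List.ofFn F).map (Scheme.ΓSpecIso Po).inv.hom, ?_, ?_⟩
    · exact isKoszulRegularSeq_map (Scheme.ΓSpecIso Po).symm.commRingCatIsoToRingEquiv (List.ofFn F)
        (Groth.L07.KoszulLocal.isKoszulRegularSeq_of_local _ fun Q _ hQ =>
          (RingTheory.Sequence.isWeaklyRegular_map_algebraMap_iff _ _ _).mp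
            (Groth.L07.SyntRel.transversal_of_isRelGCI hF Q
              ((Groth.L07.QReg.ofList_ofFn F) ▸ hQ)).1.toIsWeaklyRegular)
    · have h1 : (Spec.map q).appTop = (Scheme.ΓSpecIso Po).hom ≫ q ≫ (Scheme.ΓSpecIso _).inv := by
        rw [← Scheme.ΓSpecIso_naturality_assoc, Iso.hom_inv_id, Category.comp_id]
      have h2 : (e₁.hom ≫ Spec.map q).appTop =
          (Scheme.ΓSpecIso Po).hom ≫ q ≫ ((Scheme.ΓSpecIso _).inv ≫ e₁.hom.appTop) := by
        rw [Scheme.Hom.comp_appTop, h1, Category.assoc, Category.assoc]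
      show RingHom.ker (e₁.hom ≫ Spec.map q).appTop.hom = _
      rw [h2, ← Ideal.map_ofList, Groth.L07.QReg.ofList_ofFn]
      haveI : IsIso e₁.hom.appTop := inferInstanceAs (IsIso (Scheme.Hom.app e₁.hom ⊤))
      let b := (Scheme.ΓSpecIso (CommRingCat.of (Synt.RelGCIRing R n c F))).inv ≫ e₁.hom.appTop
      have hb : Function.Injective b.hom := (ConcreteCategory.bijective_of_isIso b).1
      refine Eq.trans ?_ (congrArg (Ideal.map _) (Ideal.mk_ker : RingHom.ker q.hom = Ideal.span (Set.range F)))
      let a := (Scheme.ΓSpecIso Po).commRingCatIsoToRingEquiv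
      refine Eq.trans ?_ (Ideal.map_symm a).symm
      ext z
      rw [RingHom.mem_ker, Ideal.mem_comap, RingHom.mem_ker]
      exact map_eq_zero_iff b.hom hb
  · have h3 : Spec.map q ≫ Spec.map p = Spec.map (CommRingCat.ofHom (algebraMap R (Synt.RelGCIRing R n c F))) := by
      rw [← Spec.map_comp]; rfl
    rw [Category.assoc, reassoc_of% h3, reassoc_of% he, Iso.hom_inv_id_assoc]
    exact Scheme.Hom.resLE_comp_ι f e

end Groth.L07.SyntMor
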