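import Groth.Agent.L05.NbhdLimit.Basic
import Groth.Agent.L19.Limit.Pullback
import Mathlib.AlgebraicGeometry.Morphisms.QuasiCompact
import Mathlib.AlgebraicGeometry.Morphisms.QuasiSeparated
import Mathlib.AlgebraicGeometry.Morphisms.Separated

/-!
The base change of a morphism to the spectrum of a local ring of the base, as the limit of the
preimages of affine neighbourhoods.
-/

set_option autoImplicit false
set_option linter.style.haveILetI false
set_option backward.isDefEq.respectTransparency false
set_option backward.isDefEq.respectTransparency.types false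

universe u

open CategoryTheory CategoryTheory.Limits AlgebraicGeometry

noncomputable section

namespace Groth.L07.StalkNbhdSystem

/-- A cofiltered system of quasi-compact open subschemes `f ⁻¹ V` with limit `X ×_S Spec O_{S,s}`. -/
structure Sys {X S : Scheme.{u}} (f : X ⟶ S) (s : S) where
  I : Type u
  [cat : SmallCategory I]
  [cofiltered : IsCofiltered I]
  D : I ⥤ Scheme.{u}
  c : Cone D
  isLimit : IsLimit c
  affine : ∀ (i j : I) (φ : i ⟶ j), IsAffineHom (D.map φ)
  compact : ∀ i, CompactSpace (D.obj i)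
  qs : ∀ i, QuasiSeparatedSpace (D.obj i)
  e : pullback f (S.fromSpecStalk s) ≅ c.pt
  a : ∀ i, D.obj i ⟶ X
  isOpenImmersion : ∀ i, IsOpenImmersion (a i)
  map_a : ∀ {i j : I} (φ : i ⟶ j), D.map φ ≫ a j = a i
  π_a : ∀ i, e.hom ≫ c.π.app i ≫ a i = pullback.fst f (S.fromSpecStalk s)
  V : I → S.Opens
  mem : ∀ i, s ∈ V i
  range_a : ∀ i, Set.range (a i) = f ⁻¹' (V i : Set S)

attribute [instance] Sys.cat Sys.cofiltered

theorem nonempty_system {X S : Scheme.{u}} (f : X ⟶ S) [QuasiCompact f] [QuasiSeparated f] (s : S) :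
    Nonempty (Sys f s) := by
  obtain ⟨U, hU, hsU, -⟩ := exists_isAffineOpen_mem_and_subset (X := S) (x := s) (U := ⊤) trivial
  let p := (hU.primeIdealOf ⟨s, hsU⟩).asIdeal
  letI : Algebra Γ(S, U) (S.presheaf.stalk s) := (S.presheaf.germ U s hsU).hom.toAlgebra
  haveI : IsLocalization.AtPrime (S.presheaf.stalk s) p := hU.isLocalization_stalk ⟨s, hsU⟩
  let D := Groth.L05.NbhdLimit.D p
  let c := Groth.L05.NbhdLimit.cone p (S.presheaf.stalk s)
  let i : Groth.L05.NbhdLimit.Idx p :=
    ⟨1, fun h => Ideal.IsPrime.ne_top inferInstance ((Ideal.eq_top_iff_one p).mpr h)⟩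
  let ρ : ∀ j, D.obj j ⟶ S := fun j => (Groth.L05.NbhdLimit.toBase p).app j ≫ hU.fromSpec
  have hρ : ∀ {a b} (φ : a ⟶ b), D.map φ ≫ ρ b = ρ a := fun {a b} φ => by
    show D.map φ ≫ _ ≫ hU.fromSpec = _ ≫ hU.fromSpec
    rw [← Category.assoc, (Groth.L05.NbhdLimit.toBase p).naturality φ]
    rfl
  have hc : ∀ j, c.π.app j ≫ ρ j = S.fromSpecStalk s := fun j => by
    show c.π.app j ≫ _ ≫ hU.fromSpec = _
    rw [← hU.fromSpecStalk_eq_fromSpecStalk hsU]
    exact (Category.assoc _ _ _).symm.trans (congrArg (· ≫ hU.fromSpec)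
      (Groth.L05.NbhdLimit.cone_π_toBase p (S.presheaf.stalk s) j))
  haveI : ∀ j, IsOpenImmersion (ρ j) := fun j =>
    haveI := Groth.L05.NbhdLimit.toBase_isOpenImmersion p j
    inferInstance
  let g₀ := pullback.snd f (ρ i)
  let qY : pullback f (S.fromSpecStalk s) ⟶ pullback f (ρ i) :=
    pullback.lift (pullback.fst _ _) (pullback.snd _ _ ≫ c.π.app i) (by rw [Category.assoc, hc, pullback.condition])
  have hY : IsPullback qY (pullback.snd f (S.fromSpecStalk s)) g₀ (c.π.app i) := by
    refine IsPullback.of_right ?_ (pullback.lift_snd _ _ _) (IsPullback.of_hasPullback f (ρ i))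
    rw [pullback.lift_fst, hc]
    exact IsPullback.of_hasPullback _ _
  haveI : ∀ {x y : Groth.L05.NbhdLimit.Idx p} (φ : x ⟶ y), IsAffineHom (D.map φ) := fun φ => inferInstance
  let a : ∀ k : Over i, (Groth.L19.Limit.bcDiagram D g₀).obj k ⟶ X :=
    fun k => pullback.snd (D.map k.hom) g₀ ≫ pullback.fst f (ρ i)
  have hsq : ∀ k : Over i, IsPullback (a k) (pullback.fst (D.map k.hom) g₀) f (ρ k.left) := by
    intro k
    rw [← hρ k.hom]
    exact (IsPullback.of_hasPullback (D.map k.hom) g₀).flip.paste_horiz (IsPullback.of_hasPullback f (ρ i))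
  have ha : ∀ k : Over i, IsOpenImmersion (a k) := fun k =>
    MorphismProperty.of_isPullback (P := @IsOpenImmersion) (hsq k).flip inferInstance
  haveI hqcF : ∀ k : Over i, QuasiCompact (pullback.fst (D.map k.hom) g₀) := fun k =>
    MorphismProperty.of_isPullback (P := @QuasiCompact) (hsq k) inferInstance
  haveI hqsF : ∀ k : Over i, QuasiSeparated (pullback.fst (D.map k.hom) g₀) := fun k =>
    MorphismProperty.of_isPullback (P := @QuasiSeparated) (hsq k) inferInstance
  refine ⟨{
    I := Over i
    D := Groth.L19.Limit.bcDiagram D g₀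
    c := Groth.L19.Limit.sqCone hY
    isLimit := Groth.L19.Limit.isLimitSqCone (Groth.L05.NbhdLimit.isLimitCone p (S.presheaf.stalk s)) hY
    affine := fun j k φ => inferInstance
    compact := fun k =>
      haveI := hqcF k
      QuasiCompact.compactSpace_of_compactSpace (pullback.fst (D.map k.hom) g₀)
    qs := fun k =>
      haveI := hqsF k
      quasiSeparatedSpace_of_quasiSeparated (pullback.fst (D.map k.hom) g₀)
    e := Iso.refl _
    a := a
    isOpenImmersion := ha
    map_a := ?_
    π_a := ?_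
    V := fun k => (ρ k.left).opensRange
    mem := ?_
    range_a := ?_ }⟩
  · intro j k φ
    simp [a, Groth.L19.Limit.bcDiagram]
  · intro k
    show 𝟙 _ ≫ Groth.L19.Limit.toStage hY k ≫ _ ≫ _ = _
    rw [Category.id_comp, Groth.L19.Limit.toStage_snd_assoc, pullback.lift_fst]
  · intro k
    refine ⟨c.π.app k.left (IsLocalRing.closedPoint (S.presheaf.stalk s)), ?_⟩
    rw [← Scheme.Hom.comp_apply, hc]
    exact Scheme.fromSpecStalk_closedPoint
  · intro k
    show Set.range (a k) = f ⁻¹' Set.range (ρ k.left)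
    rw [← (hsq k).isoPullback_hom_fst, Scheme.Hom.comp_base, TopCat.coe_comp, Set.range_comp,
      show Set.range ⇑(hsq k).isoPullback.hom = Set.univ from
        Set.range_eq_univ.mpr (Scheme.homeoOfIso (hsq k).isoPullback).surjective,
      Set.image_univ, Scheme.Pullback.range_fst]

end Groth.L07.StalkNbhdSystem
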