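import Groth.Agent.L07.PrimaryDecomp
import Groth.Agent.L19.ZClos.Criteria
import Mathlib.AlgebraicGeometry.IdealSheaf.Subscheme

/-!
An associated point is the same as a local copy of the structure sheaf of its closure.
-/

set_option autoImplicit false
set_option maxSynthPendingDepth 3
set_option synthInstance.maxHeartbeats 400000
set_option linter.style.haveILetI false
set_option backward.isDefEq.respectTransparency false
set_option backward.isDefEq.respectTransparency.types false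

universe u

open CategoryTheory CategoryTheory.Limits AlgebraicGeometry TopologicalSpace IsLocalRing Opposite

noncomputable section

namespace Groth.L07.AssMono

open Groth.L18.Frame (rs ro rs_rs ro_ro rs_smul rs_self)

variable {X : Scheme.{u}} (x : X)

/-- The ideal of the closure of `x`. -/
abbrev pt : X.IdealSheafData := Scheme.IdealSheafData.vanishingIdeal ⟨closure {x}, isClosed_closure⟩

theorem app_eq_zero_iff {W : X.Opens} (hW : IsAffineOpen W) (a : Γ(X, W)) :
    (pt x).subschemeι.app W a = 0 ↔ x ∉ X.basicOpen a := by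
  rw [show (pt x).subschemeι.app W a = 0 ↔ a ∈ RingHom.ker ((pt x).subschemeι.app W).hom from Iff.rfl,
    (pt x).ker_subschemeι_app ⟨W, hW⟩]
  show a ∈ PrimeSpectrum.vanishingIdeal (hW.fromSpec ⁻¹' closure {x}) ↔ _
  rw [PrimeSpectrum.mem_vanishingIdeal]
  constructor
  · intro h hx
    have hxW : x ∈ W := X.basicOpen_le a hx
    have h1 := h (hW.primeIdealOf ⟨x, hxW⟩) (by
      show hW.fromSpec _ ∈ closure {x}
      erw [hW.fromSpec_primeIdealOf]
      exact subset_closure rfl)
    have h2 : hW.primeIdealOf ⟨x, hxW⟩ ∈ hW.fromSpec ⁻¹ᵁ X.basicOpen a := by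
      show hW.fromSpec _ ∈ X.basicOpen a
      erw [hW.fromSpec_primeIdealOf]
      exact hx
    rw [hW.fromSpec_preimage_basicOpen] at h2
    exact h2 h1
  · intro hx q hq
    by_contra hqa
    have h2 : q ∈ hW.fromSpec ⁻¹ᵁ X.basicOpen a := by
      rw [hW.fromSpec_preimage_basicOpen]; exact hqa
    exact hx ((specializes_iff_mem_closure.mpr hq).mem_open (X.basicOpen a).2 h2)

variable [IsLocallyNoetherian X] (F : X.Modules) [Coh.IsQCoh F]

theorem smul_eq_zero_iff {V W : X.Opens} (hV : IsAffineOpen V) (hWV : W ≤ V) (hxV : x ∈ V)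
    (s : Γ(F, V)) (hs : ∀ b : Γ(X, V), b • s = 0 ↔ x ∉ X.basicOpen b) (a : Γ(X, W)) :
    a • rs F hWV s = 0 ↔ x ∉ X.basicOpen a := by
  have hgx : F.presheaf.germ V x hxV s ≠ 0 := by
    letI := Groth.L20.ModStalk.stalkModule F hxV
    haveI := Groth.L20.ModStalk.isLocalizedModule_germ F hV hxV
    intro h0
    obtain ⟨c, hc⟩ := (IsLocalizedModule.eq_zero_iff (hV.primeIdealOf ⟨x, hxV⟩).asIdeal.primeCompl
      (Groth.L20.ModStalk.germₗ F hxV)).mp h0
    refine (hs c).mp hc ?_
    have h2 : hV.primeIdealOf ⟨x, hxV⟩ ∈ hV.fromSpec ⁻¹ᵁ X.basicOpen (c : Γ(X, V)) := by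
      rw [hV.fromSpec_preimage_basicOpen]; exact c.2
    have h3 : hV.fromSpec (hV.primeIdealOf ⟨x, hxV⟩) ∈ X.basicOpen (c : Γ(X, V)) := h2
    erw [hV.fromSpec_primeIdealOf] at h3
    exact h3
  constructor
  · intro h hx
    have hxW : x ∈ W := X.basicOpen_le a hx
    have h1 := congrArg (F.presheaf.germ W x hxW) h
    rw [Groth.L20.ModStalk.germ_smul, Groth.L20.ModStalk.germ_rs, map_zero,
      ((Scheme.mem_basicOpen X a x hxW).mp hx).smul_eq_zero] at h1
    exact hgx h1
  · intro hx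
    refine TopCat.Presheaf.section_ext ((Groth.L21.Mod.toAbSh X).obj F) W _ _ fun y hy => ?_
    show F.presheaf.germ W y hy (a • rs F hWV s) = F.presheaf.germ W y hy 0
    rw [Groth.L20.ModStalk.germ_smul, Groth.L20.ModStalk.germ_rs, map_zero]
    letI := X.presheaf.algebra_section_stalk ⟨y, hWV hy⟩
    haveI := hV.isLocalization_stalk ⟨y, hWV hy⟩
    by_cases hxy : x ⤳ y
    swap
    · have hle : ¬ (hV.primeIdealOf ⟨x, hxV⟩).asIdeal ≤ (hV.primeIdealOf ⟨y, hWV hy⟩).asIdeal := fun hle => by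
        have hsp := ((PrimeSpectrum.le_iff_specializes _ _).mp hle).map hV.fromSpec.continuous
        erw [hV.fromSpec_primeIdealOf, hV.fromSpec_primeIdealOf] at hsp
        exact hxy hsp
      obtain ⟨d, hd, hd'⟩ := Set.not_subset.mp hle
      have hd0 : d • s = 0 := (hs d).mpr fun hxd => by
        have h2 : hV.primeIdealOf ⟨x, hxV⟩ ∈ hV.fromSpec ⁻¹ᵁ X.basicOpen d := by
          show hV.fromSpec _ ∈ X.basicOpen d
          erw [hV.fromSpec_primeIdealOf]
          exact hxd
        rw [hV.fromSpec_preimage_basicOpen] at h2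
        exact h2 hd
      letI := Groth.L20.ModStalk.stalkModule F (hWV hy)
      haveI := Groth.L20.ModStalk.isLocalizedModule_germ F hV (hWV hy)
      have h0 : Groth.L20.ModStalk.germₗ F (hWV hy) s = 0 :=
        (IsLocalizedModule.eq_zero_iff (hV.primeIdealOf ⟨y, hWV hy⟩).asIdeal.primeCompl _).mpr ⟨⟨d, hd'⟩, hd0⟩
      rw [show F.presheaf.germ V y (hWV hy) s = 0 from h0, smul_zero]
    obtain ⟨⟨b, c⟩, hbc⟩ := IsLocalization.surj (hV.primeIdealOf ⟨y, hWV hy⟩).asIdeal.primeCompl
      (X.presheaf.germ W y hy a)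
    have hb : b • s = 0 := by
      refine (hs b).mpr fun hxb => ?_
      have hxW : x ∈ W := hxy.mem_open W.2 hy
      obtain ⟨N, hyN, i₁, i₂, hN⟩ := TopCat.Presheaf.germ_eq X.presheaf y hy (hWV hy) (ro hWV (c : Γ(X, V)) * a) b (by
        rw [map_mul]
        erw [TopCat.Presheaf.germ_res_apply]
        rw [mul_comm]
        exact hbc)
      have hxN : x ∈ N := hxy.mem_open N.2 hyN
      have h1 := congrArg (X.presheaf.germ N x hxN) hN
      rw [TopCat.Presheaf.germ_res_apply, TopCat.Presheaf.germ_res_apply, map_mul] at h1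
      apply hx
      rw [Scheme.mem_basicOpen X a x hxW]
      have h2 := (Scheme.mem_basicOpen X b x hxV).mp hxb
      rw [← h1] at h2
      exact isUnit_of_mul_isUnit_right h2
    have hu : IsUnit (X.presheaf.germ V y (hWV hy) (c : Γ(X, V))) :=
      IsLocalization.map_units (X.presheaf.stalk y) c
    refine hu.smul_eq_zero.mp ?_
    rw [smul_smul, mul_comm]
    refine (congrArg (· • _) hbc).trans ?_
    show X.presheaf.germ V y (hWV hy) b • _ = 0
    rw [← Groth.L20.ModStalk.germ_smul, hb, map_zero]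

set_option maxHeartbeats 1600000 in
theorem mem_ass_iff_exists_mono :
    x ∈ AssSch.Ass F ↔ ∃ (U : X.Opens), x ∈ U ∧
      ∃ φ : (Scheme.Modules.pullback U.ι).obj (ClSub.quotMod (pt x)) ⟶ (Scheme.Modules.pullback U.ι).obj F,
        Mono φ := by
  constructor
  · intro hx
    obtain ⟨V, hV, hxV, -⟩ := exists_isAffineOpen_mem_and_subset (Opens.mem_top x)
    haveI : IsNoetherianRing Γ(X, V) := IsLocallyNoetherian.component_noetherian ⟨V, hV⟩
    obtain ⟨-, s, hp⟩ := isAssociatedPrime_iff.mp ((Groth.L19.Ass.mem_iff_of_affine F hV hxV).mp hx)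
    have hs : ∀ b : Γ(X, V), b • s = 0 ↔ x ∉ X.basicOpen b := fun b => by
      have h2 : x ∈ X.basicOpen b ↔ b ∉ (hV.primeIdealOf ⟨x, hxV⟩).asIdeal := by
        have h3 : (hV.fromSpec ⁻¹ᵁ X.basicOpen b) = PrimeSpectrum.basicOpen b := hV.fromSpec_preimage_basicOpen b
        have h4 : hV.primeIdealOf ⟨x, hxV⟩ ∈ hV.fromSpec ⁻¹ᵁ X.basicOpen b ↔
            hV.primeIdealOf ⟨x, hxV⟩ ∈ PrimeSpectrum.basicOpen b := by rw [h3]
        refine Iff.trans ?_ h4
        show _ ↔ hV.fromSpec _ ∈ X.basicOpen b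
        erw [hV.fromSpec_primeIdealOf]
      rw [h2, not_not, hp, Submodule.mem_colon_singleton, Submodule.mem_bot]
    refine ⟨V, hxV, ?_⟩
    let M := ClSub.quotMod (pt x)
    let Z : Scheme.{u} := V
    let W' : Z.Opens → X.Opens := fun W => V.ι ''ᵁ W
    have hle : ∀ W : Z.Opens, W' W ≤ V := fun W => by
      rintro _ ⟨a, -, rfl⟩; exact a.2
    have hsurj : ∀ W : Z.Opens, IsAffineOpen W → Function.Surjective ((pt x).subschemeι.app (W' W)) :=
      fun W hW => (pt x).subschemeι_app_surjective ⟨W' W, hW.image_of_isOpenImmersion V.ι⟩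
    let σ : ∀ W : Z.Opens, Γ(X, W' W) → Γ(F, W' W) := fun W a => a • rs F (hle W) s
    have hzero : ∀ (W : Z.Opens), IsAffineOpen W → ∀ a : Γ(X, W' W),
        (pt x).subschemeι.app (W' W) a = 0 ↔ σ W a = 0 := fun W hW a =>
      (app_eq_zero_iff x (hW.image_of_isOpenImmersion V.ι) a).trans
        (smul_eq_zero_iff x F hV (hle W) hxV s hs a).symm
    have hσ : ∀ (W : Z.Opens), IsAffineOpen W → ∀ a a', (pt x).subschemeι.app (W' W) a =
        (pt x).subschemeι.app (W' W) a' ↔ σ W a = σ W a' := fun W hW a a' => by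
      rw [← sub_eq_zero, ← map_sub, hzero W hW, ← sub_eq_zero (a := σ W a)]
      simp only [σ, sub_smul]
    let g : ∀ (W : Z.Opens), IsAffineOpen W →
        Γ((pt x).subscheme, (pt x).subschemeι ⁻¹ᵁ W' W) → Γ(F, W' W) := fun W hW m =>
      σ W (Function.surjInv (hsurj W hW) m)
    have hgadd : ∀ (W : Z.Opens) (hW : IsAffineOpen W) m m', g W hW (m + m') = g W hW m + g W hW m' := by
      intro W hW m m'
      refine ((hσ W hW _ (Function.surjInv (hsurj W hW) m + Function.surjInv (hsurj W hW) m')).mp ?_).trans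
        (add_smul _ _ _)
      rw [map_add, Function.surjInv_eq (hsurj W hW), Function.surjInv_eq (hsurj W hW), Function.surjInv_eq (hsurj W hW)]
    let f : ∀ (W : Z.Opens), IsAffineOpen W →
        (Γ(M.restrict V.ι, W) →+ Γ(F.restrict V.ι, W)) := fun W hW =>
      AddMonoidHom.mk' (fun m => g W hW m) (fun m m' => hgadd W hW m m')
    have hf : ∀ (W : Z.Opens) (hW : IsAffineOpen W) (a : Γ(X, W' W)) (m : Γ(M.restrict V.ι, W)),
        (show Γ((pt x).subscheme, (pt x).subschemeι ⁻¹ᵁ W' W) from m) = (pt x).subschemeι.app (W' W) a →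
        f W hW m = σ W a := fun W hW a m h => (hσ W hW _ _).mp ((Function.surjInv_eq (hsurj W hW) _).trans h)
    obtain ⟨Φ, hΦ⟩ := Groth.L16.AffineBC.exists_hom_affine (M := M.restrict V.ι) (N := F.restrict V.ι) f
      (fun W W₂ hW hW₂ h m => by
        obtain ⟨a, ha⟩ := hsurj W hW (show Γ((pt x).subscheme, (pt x).subschemeι ⁻¹ᵁ W' W) from m)
        have hW' : W' W₂ ≤ W' W := V.ι.image_mono h
        rw [hf W hW a m ha.symm, hf W₂ hW₂ (ro hW' a) _ ?_]
        · show σ W₂ (ro hW' a) = rs F hW' (σ W a)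
          simp only [σ, rs_smul, rs_rs]
        · show (pt x).subscheme.presheaf.map _ _ = _
          rw [← ha]
          exact (ConcreteCategory.congr_hom ((pt x).subschemeι.naturality (homOfLE hW').op) a).symm)
      (fun W hW r m => by
        obtain ⟨a, ha⟩ := hsurj W hW (show Γ((pt x).subscheme, (pt x).subschemeι ⁻¹ᵁ W' W) from m)
        rw [hf W hW a m ha.symm, hf W hW ((V.ι.appIso W).inv r * a) _ ?_]
        · show ((V.ι.appIso W).inv r * a) • rs F (hle W) s = (V.ι.appIso W).inv r • (a • rs F (hle W) s)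
          rw [mul_smul]
        · rw [map_mul]
          refine Eq.trans ?_ (congrArg (_ * ·) ha.symm)
          rfl)
    haveI : Mono Φ := by
      refine Groth.L19.ZClos.mono_of_app_injective Φ fun W => (injective_iff_map_eq_zero _).mpr fun m hm => ?_
      refine TopCat.Presheaf.section_ext ((Groth.L21.Mod.toAbSh Z).obj (M.restrict V.ι)) W _ _ fun y hy => ?_
      show (M.restrict V.ι).presheaf.germ W y hy m = (M.restrict V.ι).presheaf.germ W y hy 0
      obtain ⟨W₂, hW₂, hyW₂, hW₂W⟩ := exists_isAffineOpen_mem_and_subset hy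
      rw [map_zero, ← Groth.L20.ModStalk.germ_rs (M.restrict V.ι) hW₂W hyW₂]
      have h0 : Φ.app W₂ (rs (M.restrict V.ι) hW₂W m) = 0 := by
        have := ConcreteCategory.congr_hom (Φ.mapPresheaf.naturality (homOfLE hW₂W).op) m
        refine this.trans ?_
        show (F.restrict V.ι).presheaf.map _ (Φ.app W m) = 0
        rw [hm, map_zero]
      obtain ⟨a, ha⟩ := hsurj W₂ hW₂ (show Γ((pt x).subscheme, (pt x).subschemeι ⁻¹ᵁ W' W₂) from
        rs (M.restrict V.ι) hW₂W m)
      rw [hΦ W₂ hW₂, hf W₂ hW₂ a _ ha.symm, ← hzero W₂ hW₂, ha] at h0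
      rw [show rs (M.restrict V.ι) hW₂W m = 0 from h0, map_zero]
    exact ⟨(Scheme.Modules.restrictFunctorIsoPullback V.ι).inv.app M ≫ Φ ≫
      (Scheme.Modules.restrictFunctorIsoPullback V.ι).hom.app F, inferInstance⟩
  · rintro ⟨U, hxU, φ, hφ⟩
    let Z : Scheme.{u} := U
    obtain ⟨W₀, hW₀, hxW₀, -⟩ := exists_isAffineOpen_mem_and_subset (X := Z) (x := ⟨x, hxU⟩) (U := ⊤) trivial
    let M := ClSub.quotMod (pt x)
    let ψ : M.restrict U.ι ⟶ F.restrict U.ι :=
      (Scheme.Modules.restrictFunctorIsoPullback U.ι).hom.app M ≫ φ ≫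
        (Scheme.Modules.restrictFunctorIsoPullback U.ι).inv.app F
    haveI : Mono ψ := inferInstance
    let V : X.Opens := U.ι ''ᵁ W₀
    have hV : IsAffineOpen V := hW₀.image_of_isOpenImmersion U.ι
    have hxV : x ∈ V := ⟨⟨x, hxU⟩, hxW₀, rfl⟩
    let t : Γ(F, V) := ψ.app W₀ (show Γ(M.restrict U.ι, W₀) from (1 : Γ((pt x).subscheme, (pt x).subschemeι ⁻¹ᵁ V)))
    refine Groth.L19.Ass.mem_of_mem_associatedPrimes F hV hxV ⟨(hV.primeIdealOf ⟨x, hxV⟩).2, t, ?_⟩
    refine Eq.trans (Ideal.IsPrime.isRadical (hV.primeIdealOf ⟨x, hxV⟩).2).radical.symm (congrArg _ ?_)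
    ext a
    rw [Submodule.mem_colon_singleton, Submodule.mem_bot]
    have key : a • t = 0 ↔ (pt x).subschemeι.app V a = 0 := by
      have h1 : a • t = ψ.app W₀ ((U.ι.appIso W₀).hom a • (show Γ(M.restrict U.ι, W₀) from
          (1 : Γ((pt x).subscheme, (pt x).subschemeι ⁻¹ᵁ V)))) := by
        rw [Scheme.Modules.Hom.app_smul]
        show a • t = (U.ι.appIso W₀).inv ((U.ι.appIso W₀).hom a) • t
        rw [← CommRingCat.comp_apply, Iso.hom_inv_id]
        rfl
      rw [h1]
      refine Iff.trans ((Groth.L07.PrimaryDecomp.app_injective ψ W₀).eq_iff' (map_zero _)) ?_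
      show (pt x).subschemeι.app V ((U.ι.appIso W₀).inv ((U.ι.appIso W₀).hom a)) * 1 = 0 ↔ _
      rw [mul_one, show (U.ι.appIso W₀).inv ((U.ι.appIso W₀).hom a) = a from
        Iso.hom_inv_id_apply (U.ι.appIso W₀) a]
    rw [key, app_eq_zero_iff x hV]
    have h4 : hV.primeIdealOf ⟨x, hxV⟩ ∈ hV.fromSpec ⁻¹ᵁ X.basicOpen a ↔
        hV.primeIdealOf ⟨x, hxV⟩ ∈ PrimeSpectrum.basicOpen a := by rw [hV.fromSpec_preimage_basicOpen]
    have h5 : x ∈ X.basicOpen a ↔ a ∉ (hV.primeIdealOf ⟨x, hxV⟩).asIdeal := by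
      refine Iff.trans ?_ h4
      show _ ↔ hV.fromSpec _ ∈ X.basicOpen a
      erw [hV.fromSpec_primeIdealOf]
    rw [h5, not_not]

end Groth.L07.AssMono
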