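import Groth.Agent.L07.AssTensor

/-!
Associated points and restriction to open subschemes.
-/

set_option autoImplicit false
set_option maxSynthPendingDepth 3
set_option synthInstance.maxHeartbeats 400000
set_option linter.style.haveILetI false
set_option backward.isDefEq.respectTransparency false
set_option backward.isDefEq.respectTransparency.types false

universe u

open CategoryTheory CategoryTheory.Limits AlgebraicGeometry TopologicalSpace IsLocalRing TensorProduct

noncomputable section

namespace Groth.L07.AssTensor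

variable {X Y : Scheme.{u}}

/-- Pullback along a map which is an isomorphism on the stalk. -/
theorem pullback_stalk_iff (f : X ⟶ Y) (x : X) [IsIso (f.stalkMap x)] (M : Y.Modules) :
    (x ∈ AssSch.Ass ((Scheme.Modules.pullback f).obj M) ↔ f x ∈ AssSch.Ass M) ∧
    Module.length (X.presheaf.stalk x) (((Scheme.Modules.pullback f).obj M).presheaf.stalk x) =
      Module.length (Y.presheaf.stalk (f x)) (M.presheaf.stalk (f x)) := by
  letI : Algebra (Y.presheaf.stalk (f x)) (X.presheaf.stalk x) := (f.stalkMap x).hom.toAlgebra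
  have hb : Function.Bijective (Algebra.linearMap (Y.presheaf.stalk (f x)) (X.presheaf.stalk x)) :=
    ConcreteCategory.bijective_of_isIso (f.stalkMap x)
  have hs : Function.Surjective (algebraMap (Y.presheaf.stalk (f x)) (X.presheaf.stalk x)) := hb.2
  let el : ((Scheme.Modules.pullback f).obj M).presheaf.stalk x ≃ₗ[X.presheaf.stalk x]
      X.presheaf.stalk x ⊗[Y.presheaf.stalk (f x)] M.presheaf.stalk (f x) :=
    ((Groth.L00.PullStalk.stalkIso f x).app M).toLinearEquiv
  let e := (TensorProduct.congr (LinearEquiv.ofBijective _ hb).symm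
    (LinearEquiv.refl _ (M.presheaf.stalk (f x)))).trans (TensorProduct.lid _ _)
  constructor
  · exact (LinearEquiv.isAssociatedPrime_iff el).trans
      (Groth.L07.RelAss.isAssociatedPrime_restrict_iff hs e).symm
  · rw [el.length_eq]
    exact (Module.length_eq_of_surjective (S := Y.presheaf.stalk (f x)) hs).symm.trans e.length_eq

/-- A point of the support specializes from an associated point. -/
theorem exists_ass_specializes [IsLocallyNoetherian X] (M : X.Modules) [Coh.IsQCoh M] {w : X}
    (hw : w ∈ CohB1.support M) : ∃ a ∈ AssSch.Ass M, a ⤳ w := by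
  haveI : Nontrivial (M.presheaf.stalk w) := not_subsingleton_iff_nontrivial.mp hw
  obtain ⟨P, hP⟩ := associatedPrimes.nonempty (X.presheaf.stalk w) (M.presheaf.stalk w)
  exact ⟨_, fromSpecStalk_mem_ass M w ⟨P, hP.isPrime⟩ hP,
    (Scheme.range_fromSpecStalk (X := X) (x := w)).le ⟨_, rfl⟩⟩

/-- Without embedded points, associated points lie in every open dense in the support. -/
theorem ass_mem_of_dense [IsLocallyNoetherian X] (M : X.Modules) (hM : Coh.IsCoh M) (hne : AssSch.NoEmbedded M)
    (U : X.Opens) (hdense : CohB1.support M ⊆ closure ((U : Set X) ∩ CohB1.support M)) {x : X}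
    (hx : x ∈ AssSch.Ass M) : x ∈ U := by
  haveI : Coh.IsQCoh M := hM.1
  obtain ⟨V, hV, hxV, -⟩ := exists_isAffineOpen_mem_and_subset (Opens.mem_top x)
  haveI : IsNoetherianRing Γ(X, V) := IsLocallyNoetherian.component_noetherian ⟨V, hV⟩
  haveI : Module.Finite Γ(X, V) Γ(M, V) := Groth.L20.ModStalk.finite_sections M hM hV
  have hfin : {a : X | a ∈ AssSch.Ass M ∧ a ∈ V ∧ a ≠ x}.Finite := by
    refine ((associatedPrimes.finite Γ(X, V) Γ(M, V)).preimage
      (f := fun q : PrimeSpectrum Γ(X, V) => q.asIdeal) fun a _ b _ h => PrimeSpectrum.ext h).image hV.fromSpec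
      |>.subset fun a ha => ?_
    exact ⟨hV.primeIdealOf ⟨a, ha.2.1⟩, (Groth.L19.Ass.mem_iff_of_affine M hV ha.2.1).mp ha.1,
      hV.fromSpec_primeIdealOf _⟩
  have hcl : IsClosed (⋃ a ∈ {a : X | a ∈ AssSch.Ass M ∧ a ∈ V ∧ a ≠ x}, closure ({a} : Set X)) :=
    hfin.isClosed_biUnion fun a _ => isClosed_closure
  have hxW : x ∈ (V : Set X) \ ⋃ a ∈ {a : X | a ∈ AssSch.Ass M ∧ a ∈ V ∧ a ≠ x}, closure ({a} : Set X) := by
    refine ⟨hxV, fun h => ?_⟩
    obtain ⟨a, ha, hax⟩ := Set.mem_iUnion₂.mp h
    exact ha.2.2 (hne x hx a ha.1 (specializes_iff_mem_closure.mpr hax)).symm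
  have hxs : x ∈ CohB1.support M := fun hsub => by
    haveI := hsub
    have h := (Groth.L19.Ass.mem_iff M x).mp hx
    rw [associatedPrimes.eq_empty_of_subsingleton] at h
    exact h
  obtain ⟨w, ⟨hwV, hwC⟩, hwU, hwS⟩ := mem_closure_iff.mp (hdense hxs) _ (V.2.sdiff hcl) hxW
  obtain ⟨a, ha, haw⟩ := exists_ass_specializes M hwS
  have : a = x := by
    by_contra hne'
    exact hwC (Set.mem_iUnion₂.mpr ⟨a, ⟨ha, haw.mem_open V.2 hwV, hne'⟩, haw.mem_closure⟩)
  subst this
  exact haw.mem_open U.2 hwU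

theorem isReducedMod_iff_restrict [IsLocallyNoetherian X] (U : X.Opens) (M : X.Modules) (hM : Coh.IsCoh M)
    (hdense : CohB1.support M ⊆ closure ((U : Set X) ∩ CohB1.support M)) :
    AssSch.IsReducedMod M ↔
      AssSch.IsReducedMod ((Scheme.Modules.pullback U.ι).obj M) ∧ AssSch.NoEmbedded M := by
  constructor
  · rintro ⟨hne, hlen⟩
    refine ⟨⟨fun a ha b hb hsp => ?_, fun a ha => ?_⟩, hne⟩
    · exact U.ι.isOpenEmbedding.injective (hne _ ((pullback_stalk_iff U.ι a M).1.mp ha) _
        ((pullback_stalk_iff U.ι b M).1.mp hb) (hsp.map U.ι.continuous))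
    · rw [(pullback_stalk_iff U.ι a M).2]
      exact hlen _ ((pullback_stalk_iff U.ι a M).1.mp ha)
  · rintro ⟨⟨-, hlen⟩, hne⟩
    refine ⟨hne, fun x hx => ?_⟩
    have hxU := ass_mem_of_dense M hM hne U hdense hx
    obtain ⟨a, rfl⟩ : x ∈ Set.range U.ι := by rw [Scheme.Opens.range_ι]; exact hxU
    rw [← (pullback_stalk_iff U.ι a M).2]
    exact hlen a ((pullback_stalk_iff U.ι a M).1.mpr hx)

end Groth.L07.AssTensor
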