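import Groth.Agent.L07.GeomPtIntegral
import Groth.Agent.L07.GeomRedPullback
import Mathlib.AlgebraicGeometry.ResidueField
import Mathlib.AlgebraicGeometry.Fiber

/-!
Properties of the geometric fibres at a point.
-/

universe u

open CategoryTheory CategoryTheory.Limits AlgebraicGeometry Topology

namespace Groth.L07.AtGeom

set_option autoImplicit false
set_option linter.style.haveILetI false
set_option maxSynthPendingDepth 3
set_option backward.isDefEq.respectTransparency.types false
set_option backward.isDefEq.respectTransparency false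

/-- A property of local rings holding at all points above `x` of all geometric fibres. -/
def AtGeom (P : ∀ (R : Type u) [CommRing R], Prop) {X Y : Scheme.{u}} (f : X ⟶ Y) (x : X) : Prop :=
  ∀ (L : Type u) [Field L] [IsAlgClosed L] (g : Spec (CommRingCat.of L) ⟶ Y) (z : ↥(pullback f g)),
    (pullback.fst f g) z = x → P ((pullback f g).presheaf.stalk z)

/-- Invariance of a property of local rings under isomorphisms and descent along flat maps. -/
structure Admissible (P : ∀ (R : Type u) [CommRing R], Prop) : Prop where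
  /-- invariance under isomorphisms -/
  equiv : ∀ (R S : Type u) [CommRing R] [CommRing S], (R ≃+* S) → P R → P S
  /-- descent along flat maps -/
  descend : ∀ {Z Z' : Scheme.{u}} (q : Z' ⟶ Z) [Flat q] (m : Z'),
    P (Z'.presheaf.stalk m) → P (Z.presheaf.stalk (q m))

theorem admissible_isDomain : Admissible.{u} fun R _ => IsDomain R :=
  ⟨fun R S _ _ e (h : IsDomain R) => e.symm.toMulEquiv.isDomain R,
    fun q _ m h => Groth.L07.GeomPtIntegral.isDomain_stalk_of_flat_map q m h⟩

theorem admissible_isReduced : Admissible.{u} fun R _ => _root_.IsReduced R :=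
  ⟨fun R S _ _ e (h : _root_.IsReduced R) => isReduced_of_injective e.symm e.symm.injective,
    fun q _ m h => Groth.L07.SectionComp.isReduced_stalk_of_flat_map q m h⟩

variable {P : ∀ (R : Type u) [CommRing R], Prop}

theorem Admissible.of_isOpenImmersion (hP : Admissible P) {Z Z' : Scheme.{u}} (q : Z' ⟶ Z) [IsOpenImmersion q]
    (m : Z') : P (Z'.presheaf.stalk m) ↔ P (Z.presheaf.stalk (q m)) :=
  ⟨hP.equiv _ _ (asIso (q.stalkMap m)).commRingCatIsoToRingEquiv.symm,
    hP.equiv _ _ (asIso (q.stalkMap m)).commRingCatIsoToRingEquiv⟩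

/-- The property passes to base changes. -/
theorem atGeom_baseChange (hP : Admissible P) {X Y X' Y' : Scheme.{u}} {f : X ⟶ Y} {f' : X' ⟶ Y'} {p : X' ⟶ X}
    {t : Y' ⟶ Y} (sq : IsPullback p f' f t) (x' : X') : AtGeom P f' x' ↔ AtGeom P f (p x') := by
  have hbig : ∀ (M : Type u) [Field M] (g' : Spec (CommRingCat.of M) ⟶ Y'),
      IsPullback (pullback.fst f' g' ≫ p) (pullback.snd f' g') f (g' ≫ t) := fun M _ g' =>
    ((IsPullback.of_hasPullback f' g').flip.paste_vert sq.flip).flip
  constructor
  · intro h L _ _ g z hz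
    obtain ⟨n, hn₁, hn₂⟩ := Scheme.Pullback.exists_preimage_pullback (f := pullback.fst f g) (g := p) z x' hz
    let Q := pullback (pullback.fst f g) p
    let M := AlgebraicClosure (Q.residueField n)
    let σ : Spec (CommRingCat.of M) ⟶ Q :=
      Spec.map (CommRingCat.ofHom (algebraMap (Q.residueField n) M)) ≫ Q.fromSpecResidueField n
    have hσ : ∀ c, σ c = n := fun c => Scheme.fromSpecResidueField_apply n _
    let g' : Spec (CommRingCat.of M) ⟶ Y' := σ ≫ pullback.snd _ _ ≫ f'
    let s : Spec (CommRingCat.of M) ⟶ Spec (CommRingCat.of L) := σ ≫ pullback.fst _ _ ≫ pullback.snd f g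
    let q : pullback f' g' ⟶ pullback f g :=
      pullback.lift (pullback.fst f' g' ≫ p) (pullback.snd f' g' ≫ s) (by
        simp only [s, Category.assoc]
        rw [← pullback.condition (f := f) (g := g), pullback.condition_assoc (f := pullback.fst f g) (g := p),
          sq.w, pullback.condition_assoc (f := f') (g := g')]
        simp only [g', Category.assoc])
    have hsg : g' ≫ t = s ≫ g := by
      simp only [s, g', Category.assoc]
      rw [← sq.w, ← pullback.condition_assoc (f := pullback.fst f g) (g := p), pullback.condition (f := f) (g := g)]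
    have hq1 : q ≫ pullback.fst f g = pullback.fst f' g' ≫ p := pullback.lift_fst _ _ _
    have hq2 : q ≫ pullback.snd f g = pullback.snd f' g' ≫ s := pullback.lift_snd _ _ _
    have hsq : IsPullback q (pullback.snd f' g') (pullback.snd f g) s :=
      IsPullback.of_right (h₁₂ := pullback.fst f g) (by rw [hq1, ← hsg]; exact hbig M g') hq2
        (IsPullback.of_hasPullback f g)
    haveI : Flat s := by
      obtain ⟨φ, hφ⟩ := Spec.map_surjective s
      letI : Algebra L M := φ.hom.toAlgebra
      rw [← hφ, Flat.SpecMap_iff]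
      exact RingHom.flat_algebraMap_iff.mpr (Module.Flat.of_free (R := L) (M := M))
    haveI : Flat q := MorphismProperty.of_isPullback hsq.flip ‹Flat s›
    let τ : Spec (CommRingCat.of M) ⟶ pullback f' g' :=
      pullback.lift (σ ≫ pullback.snd _ _) (𝟙 _) (by rw [Category.id_comp, Category.assoc])
    have hτ : τ ≫ q = σ ≫ pullback.fst _ _ := by
      apply pullback.hom_ext
      · rw [Category.assoc, hq1, pullback.lift_fst_assoc]; simp only [Category.assoc, pullback.condition]
      · rw [Category.assoc, hq2, pullback.lift_snd_assoc, Category.id_comp, Category.assoc]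
    let c : Spec (CommRingCat.of M) := IsLocalRing.closedPoint M
    have h1 : pullback.fst f' g' (τ c) = x' := by
      rw [← Scheme.Hom.comp_apply, pullback.lift_fst, Scheme.Hom.comp_apply, hσ, hn₂]
    have h2 : q (τ c) = z := by rw [← Scheme.Hom.comp_apply, hτ, Scheme.Hom.comp_apply, hσ, hn₁]
    exact h2 ▸ hP.descend q (τ c) (h M g' (τ c) h1)
  · intro h L _ _ g' z hz
    let e := (hbig L g').isoPullback
    refine (hP.of_isOpenImmersion e.hom z).mpr (h L (g' ≫ t) (e.hom z) ?_)
    rw [← Scheme.Hom.comp_apply, (hbig L g').isoPullback_hom_fst, Scheme.Hom.comp_apply, hz]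

theorem atGeom_openImmersion_comp (hP : Admissible P) {X U Y : Scheme.{u}} (j : U ⟶ X) [IsOpenImmersion j] (f : X ⟶ Y)
    (x : U) : AtGeom P (j ≫ f) x ↔ AtGeom P f (j x) := by
  have key : ∀ (L : Type u) [Field L] (g : Spec (CommRingCat.of L) ⟶ Y),
      ∃ q : pullback (j ≫ f) g ⟶ pullback f g, IsOpenImmersion q ∧ q ≫ pullback.fst f g = pullback.fst (j ≫ f) g ≫ j ∧
        ∀ z, pullback.fst f g z ∈ Set.range j → z ∈ Set.range q := fun L _ g => by
    let q : pullback (j ≫ f) g ⟶ pullback f g := pullback.map _ _ f g j (𝟙 _) (𝟙 _) (by simp) (by simp)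
    refine ⟨q, inferInstance, pullback.lift_fst _ _ _, fun z hz => ?_⟩
    show z ∈ Set.range (pullback.map (j ≫ f) g f g j (𝟙 _) (𝟙 _) (by simp) (by simp)).base
    rw [Scheme.Pullback.range_map]
    exact ⟨hz, z |> pullback.snd f g, rfl⟩
  constructor
  · intro h L _ _ g z hz
    obtain ⟨q, hq, hq1, hqr⟩ := key L g
    haveI := hq
    obtain ⟨w, rfl⟩ := hqr z ⟨x, hz.symm⟩
    rw [← Scheme.Hom.comp_apply, hq1, Scheme.Hom.comp_apply] at hz
    exact (hP.of_isOpenImmersion q w).mp (h L g w (j.isOpenEmbedding.injective hz))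
  · intro h L _ _ g z hz
    obtain ⟨q, hq, hq1, -⟩ := key L g
    haveI := hq
    exact (hP.of_isOpenImmersion q z).mpr (h L g (q z) (by
      rw [← Scheme.Hom.comp_apply, hq1, Scheme.Hom.comp_apply, hz]))

theorem atGeom_comp_openImmersion (hP : Admissible P) {X Y Z : Scheme.{u}} (f : X ⟶ Y) (j : Y ⟶ Z) [IsOpenImmersion j]
    (x : X) : AtGeom P f x ↔ AtGeom P (f ≫ j) x :=
  atGeom_baseChange hP (p := 𝟙 X) (IsPullback.of_horiz_isIso_mono ⟨by rw [Category.id_comp]⟩) x

/-- The property in terms of the fibre. -/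
theorem atGeom_iff_fiber (hP : Admissible P) {X Y : Scheme.{u}} (f : X ⟶ Y) (x : X) :
    AtGeom P f x ↔ ∀ (K : Type u) [Field K] [Algebra (IsLocalRing.ResidueField (Y.presheaf.stalk (f x))) K]
      (x' : ↥(FBase.bc (f.fiberToSpecResidueField (f x)) K)),
      (FBase.bcπ (f.fiberToSpecResidueField (f x)) K).base x' = f.asFiber x →
        P ((FBase.bc (f.fiberToSpecResidueField (f x)) K).presheaf.stalk x') := by
  constructor
  · intro h K _ _ x' hx'
    let Ω := AlgebraicClosure K
    let κ : Type u := IsLocalRing.ResidueField (Y.presheaf.stalk (f x))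
    let π : f.fiber (f x) ⟶ Spec (CommRingCat.of κ) := f.fiberToSpecResidueField (f x)
    let s : Spec (CommRingCat.of Ω) ⟶ Spec (CommRingCat.of K) := Spec.map (CommRingCat.ofHom (algebraMap K Ω))
    let a : Spec (CommRingCat.of K) ⟶ Spec (CommRingCat.of κ) := Spec.map (CommRingCat.ofHom (algebraMap κ K))
    let g : Spec (CommRingCat.of Ω) ⟶ Y := (s ≫ a) ≫ Y.fromSpecResidueField (f x)
    let ι : pullback (FBase.bcStr π K) s ≅ pullback f g :=
      pullbackLeftPullbackSndIso π a s ≪≫ pullbackLeftPullbackSndIso f (Y.fromSpecResidueField (f x)) (s ≫ a)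
    have hfst : ι.hom ≫ pullback.fst f g = pullback.fst (FBase.bcStr π K) s ≫ FBase.bcπ π K ≫ f.fiberι (f x) := by
      show (_ ≫ _) ≫ _ = pullback.fst (pullback.snd π a) s ≫ pullback.fst π a ≫ pullback.fst f (Y.fromSpecResidueField (f x))
      refine (Category.assoc _ _ _).trans ?_
      refine (congrArg (fun t => (pullbackLeftPullbackSndIso π a s).hom ≫ t)
        (pullbackLeftPullbackSndIso_hom_fst f (Y.fromSpecResidueField (f x)) (s ≫ a))).trans ?_
      refine (Category.assoc _ _ _).symm.trans ?_
      exact (congrArg (fun t => t ≫ pullback.fst f (Y.fromSpecResidueField (f x)))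
        (pullbackLeftPullbackSndIso_hom_fst π a s)).trans (Category.assoc _ _ _)
    haveI : Surjective s := inferInstance
    haveI : Surjective (pullback.fst (FBase.bcStr π K) s) := MorphismProperty.pullback_fst _ _ inferInstance
    haveI : Flat s := inferInstance
    haveI : Flat (pullback.fst (FBase.bcStr π K) s) := MorphismProperty.pullback_fst _ _ inferInstance
    obtain ⟨w, hw⟩ := (pullback.fst (FBase.bcStr π K) s).surjective x'
    have h2 := h Ω g (ι.hom w) (by
      rw [← Scheme.Hom.comp_apply, hfst, Scheme.Hom.comp_apply, Scheme.Hom.comp_apply, hw, hx', f.fiberι_asFiber])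
    exact hw ▸ hP.descend (pullback.fst (FBase.bcStr π K) s) w ((hP.of_isOpenImmersion ι.hom w).mpr h2)
  · intro h L _ _ g z hz
    obtain ⟨⟨y, φ⟩, rfl⟩ := (Scheme.SpecToEquivOfField L Y).symm.surjective g
    have hy : f x = y := by
      rw [← hz, ← Scheme.Hom.comp_apply, pullback.condition, Scheme.Hom.comp_apply]
      show (Spec.map φ ≫ Y.fromSpecResidueField y) _ = y
      rw [Scheme.Hom.comp_apply]
      exact Scheme.fromSpecResidueField_apply _ _
    subst hy
    letI : Algebra (IsLocalRing.ResidueField (Y.presheaf.stalk (f x))) L := φ.hom.toAlgebra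
    let ι : FBase.bc (f.fiberToSpecResidueField (f x)) L ≅ pullback f (Spec.map φ ≫ Y.fromSpecResidueField (f x)) :=
      pullbackLeftPullbackSndIso f (Y.fromSpecResidueField (f x)) (Spec.map φ)
    have hfst : FBase.bcπ (f.fiberToSpecResidueField (f x)) L ≫ f.fiberι (f x) = ι.hom ≫ pullback.fst f _ :=
      (pullbackLeftPullbackSndIso_hom_fst _ _ _).symm
    obtain ⟨w, rfl⟩ := ι.hom.surjective z
    refine (hP.of_isOpenImmersion ι.hom w).mp (h L w ((f.fiberι (f x)).isEmbedding.injective ?_))
    rw [← Scheme.Hom.comp_apply, hfst, Scheme.Hom.comp_apply, f.fiberι_asFiber]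
    exact hz

theorem atGeom_isDomain_iff {X Y : Scheme.{u}} (f : X ⟶ Y) (x : X) :
    AtGeom (fun R _ => IsDomain R) f x ↔
      FBase.IsGeomPtIntegralAt (f.fiberToSpecResidueField (f.base x)) (f.asFiber x) :=
  atGeom_iff_fiber admissible_isDomain f x

theorem atGeom_isReduced_iff {X Y : Scheme.{u}} (f : X ⟶ Y) (x : X) :
    AtGeom (fun R _ => _root_.IsReduced R) f x ↔
      FBase.IsGeomReducedAt (f.fiberToSpecResidueField (f.base x)) (f.asFiber x) :=
  atGeom_iff_fiber admissible_isReduced f x

end Groth.L07.AtGeom
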