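import Groth.Agent.L01.CohenRing

/-! Lifting maps from coefficient rings along surjections of complete local rings. -/

namespace Groth.L07.AvramovLift

open IsLocalRing

set_option linter.style.haveILetI false

universe u

variable {S B Λ : Type u} [CommRing S] [IsLocalRing S] [IsAdicComplete (maximalIdeal S) S]
  [CommRing B] [IsLocalRing B] [IsHausdorff (maximalIdeal B) B] [CommRing Λ]

/-- Maps out of `Λ` lift along square-zero quotients of the truncations of `S`. -/
def Lifts (Λ S : Type u) [CommRing Λ] [CommRing S] [IsLocalRing S] : Prop :=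
  ∀ (n : ℕ) (T : Type u) [CommRing T] (π : S ⧸ maximalIdeal S ^ (n + 1 + 1) →+* T), Function.Surjective π →
    RingHom.ker π ^ 2 = ⊥ → ∀ φ : Λ →+* T, ∃ h : Λ →+* S ⧸ maximalIdeal S ^ (n + 1 + 1), π.comp h = φ

/-- A map to `B` lifts to `S` along a surjection. -/
theorem exists_lift (hL : Lifts Λ S) (q : S →+* B) (hq : Function.Surjective q) (g : Λ →+* B) :
    ∃ F : Λ →+* S, q.comp F = g := by
  classical
  let m := maximalIdeal S
  have hm : m.map q = maximalIdeal B := IsLocalRing.map_maximalIdeal_of_surjective q hq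
  have hpow : ∀ k, (m ^ k).map q = maximalIdeal B ^ k := fun k => by rw [Ideal.map_pow, hm]
  let qb : ∀ k, S ⧸ m ^ k →+* B ⧸ maximalIdeal B ^ k := fun k =>
    Ideal.quotientMap _ q (Ideal.map_le_iff_le_comap.mp (hpow k).le)
  -- one step
  have step : ∀ (n : ℕ) (h : Λ →+* S ⧸ m ^ (n + 1)), (qb (n + 1)).comp h = (Ideal.Quotient.mk _).comp g →
      ∃ h' : Λ →+* S ⧸ m ^ (n + 1 + 1), (qb (n + 1 + 1)).comp h' = (Ideal.Quotient.mk _).comp g ∧
        (Ideal.Quotient.factor (Ideal.pow_le_pow_right (Nat.le_succ (n + 1)))).comp h' = h := by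
    intro n h hh
    let K : Ideal S := (RingHom.ker q ⊔ m ^ (n + 1 + 1)) ⊓ m ^ (n + 1)
    have hK : m ^ (n + 1 + 1) ≤ K := le_inf le_sup_right (Ideal.pow_le_pow_right (Nat.le_succ _))
    let π := Ideal.Quotient.factor hK
    have hsq : RingHom.ker π ^ 2 = ⊥ := by
      rw [Ideal.Quotient.factor_ker, ← Ideal.map_pow, Ideal.map_eq_bot_iff_le_ker, Ideal.mk_ker]
      refine (Ideal.pow_right_mono inf_le_right 2).trans ?_
      rw [← pow_mul]
      exact Ideal.pow_le_pow_right (by omega)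
    have hcm : (m ^ (n + 1 + 1)).map q = maximalIdeal B ^ (n + 1 + 1) := hpow _
    let ψ : S ⧸ K →+* (S ⧸ m ^ (n + 1)) × (B ⧸ maximalIdeal B ^ (n + 1 + 1)) :=
      Ideal.Quotient.lift K ((Ideal.Quotient.mk _).prod ((Ideal.Quotient.mk _).comp q)) fun s hs => by
        refine Prod.ext (Ideal.Quotient.eq_zero_iff_mem.mpr hs.2) (Ideal.Quotient.eq_zero_iff_mem.mpr ?_)
        rw [← hcm, ← Ideal.mem_comap, Ideal.comap_map_of_surjective q hq, ← RingHom.ker_eq_comap_bot, sup_comm]
        exact hs.1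
    have hψ : Function.Injective ψ := by
      rw [injective_iff_map_eq_zero]
      intro x hx
      obtain ⟨s, rfl⟩ := Ideal.Quotient.mk_surjective x
      obtain ⟨h1, h2⟩ := Prod.mk_eq_zero.mp hx
      refine Ideal.Quotient.eq_zero_iff_mem.mpr ⟨?_, Ideal.Quotient.eq_zero_iff_mem.mp h1⟩
      have h3 := Ideal.Quotient.eq_zero_iff_mem.mp h2
      rw [← hcm, ← Ideal.mem_comap, Ideal.comap_map_of_surjective q hq, ← RingHom.ker_eq_comap_bot, sup_comm] at h3
      exact h3
    let Ψ : Λ →+* (S ⧸ m ^ (n + 1)) × (B ⧸ maximalIdeal B ^ (n + 1 + 1)) :=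
      h.prod ((Ideal.Quotient.mk _).comp g)
    have hrange : ∀ a, Ψ a ∈ ψ.range := by
      intro a
      obtain ⟨s, hs⟩ := Ideal.Quotient.mk_surjective (h a)
      have h1 : Ideal.Quotient.mk (maximalIdeal B ^ (n + 1)) (q s) = Ideal.Quotient.mk _ (g a) := by
        have h0 := RingHom.congr_fun hh a
        rw [RingHom.comp_apply, ← hs] at h0
        exact h0
      rw [Ideal.Quotient.eq, ← hpow, Ideal.mem_map_iff_of_surjective q hq] at h1
      obtain ⟨w, hw, hqw⟩ := h1
      refine ⟨Ideal.Quotient.mk K (s - w), Prod.ext ?_ ?_⟩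
      · show Ideal.Quotient.mk _ (s - w) = h a
        rw [map_sub, Ideal.Quotient.eq_zero_iff_mem.mpr hw, sub_zero, hs]
      · show Ideal.Quotient.mk _ (q (s - w)) = Ideal.Quotient.mk _ (g a)
        rw [map_sub, hqw, sub_sub_cancel]
    let e : S ⧸ K ≃+* ψ.range := RingEquiv.ofBijective ψ.rangeRestrict
      ⟨fun a b hab => hψ (congrArg Subtype.val hab), ψ.rangeRestrict_surjective⟩
    let φ : Λ →+* S ⧸ K := e.symm.toRingHom.comp (Ψ.codRestrict ψ.range hrange)
    have hφ : ∀ a, ψ (φ a) = Ψ a := fun a =>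
      congrArg Subtype.val (e.apply_symm_apply (Ψ.codRestrict ψ.range hrange a))
    obtain ⟨h', hh'⟩ := hL n (S ⧸ K) π (Ideal.Quotient.factor_surjective _) hsq φ
    have key : ∀ (a : Λ) (z : S ⧸ m ^ (n + 1 + 1)), h' a = z →
        qb (n + 1 + 1) z = Ideal.Quotient.mk _ (g a) ∧
          Ideal.Quotient.factor (Ideal.pow_le_pow_right (Nat.le_succ (n + 1))) z = h a := by
      intro a z hz
      obtain ⟨s, rfl⟩ := Ideal.Quotient.mk_surjective z
      have h1 : ψ (Ideal.Quotient.mk K s) = Ψ a := by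
        rw [← hφ, ← RingHom.congr_fun hh' a, RingHom.comp_apply, hz]
        rfl
      exact ⟨congrArg Prod.snd h1, congrArg Prod.fst h1⟩
    exact ⟨h', RingHom.ext fun a => (key a _ rfl).1, RingHom.ext fun a => (key a _ rfl).2⟩
  -- the start
  have hbij : Function.Bijective (qb (0 + 1)) := by
    refine ⟨Ideal.quotientMap_injective' ?_, fun y => ?_⟩
    · refine le_of_eq ?_
      rw [← hpow, Ideal.comap_map_of_surjective q hq, ← RingHom.ker_eq_comap_bot, zero_add, pow_one, sup_eq_left]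
      exact le_maximalIdeal (RingHom.ker_ne_top q)
    · obtain ⟨y, rfl⟩ := Ideal.Quotient.mk_surjective y
      obtain ⟨s, rfl⟩ := hq y
      exact ⟨Ideal.Quotient.mk _ s, rfl⟩
  let h₀ : Λ →+* S ⧸ m ^ (0 + 1) :=
    (RingEquiv.ofBijective _ hbij).symm.toRingHom.comp ((Ideal.Quotient.mk _).comp g)
  have hh₀ : (qb (0 + 1)).comp h₀ = (Ideal.Quotient.mk _).comp g := RingHom.ext fun a =>
    (RingEquiv.ofBijective _ hbij).apply_symm_apply _
  choose f hf₁ hf₂ using step
  let G : ∀ n, {h : Λ →+* S ⧸ m ^ (n + 1) // (qb (n + 1)).comp h = (Ideal.Quotient.mk _).comp g} := fun n =>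
    Nat.rec ⟨h₀, hh₀⟩ (fun n h => ⟨f n h.1 h.2, hf₁ n h.1 h.2⟩) n
  have ha : StrictMono fun n : ℕ => n + 1 := strictMono_nat_of_lt_succ fun n => Nat.lt_succ_self _
  have hg : ∀ {k : ℕ}, (Ideal.Quotient.factorPow m (ha.monotone k.le_succ)).comp (G (k + 1)).1 = (G k).1 :=
    fun {k} => hf₂ k (G k).1 (G k).2
  let F := IsAdicComplete.StrictMono.liftRingHom m ha (fun n => (G n).1) hg
  refine ⟨F, RingHom.ext fun a => sub_eq_zero.mp (IsHausdorff.haus (I := maximalIdeal B) inferInstance _ fun k => ?_)⟩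
  rw [SModEq.zero, smul_eq_mul, Ideal.mul_top, RingHom.comp_apply]
  refine Ideal.pow_le_pow_right (Nat.le_succ k) ?_
  have h0 := IsAdicComplete.StrictMono.mk_liftRingHom m ha (fun n => (G n).1) hg (n := k) a
  rw [← Ideal.Quotient.eq]
  have h1 := RingHom.congr_fun (G k).2 a
  rw [RingHom.comp_apply, ← h0] at h1
  exact h1

omit [IsAdicComplete (maximalIdeal S) S] in
/-- Coefficient fields of characteristic zero. -/
theorem lifts_charZero (K : Type u) [Field K] [CharZero K] : Lifts K S := fun _ _ _ π hπ hπ2 φ =>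
  Groth.L01.Cohen.exists_lift_charZero π hπ hπ2 φ

omit [IsAdicComplete (maximalIdeal S) S] in
/-- Cohen rings. -/
theorem lifts_cohen {p : ℕ} [Fact p.Prime] [IsLocalRing Λ]
    (hm : maximalIdeal Λ = Ideal.span {(p : Λ)}) (hreg : ∀ a : Λ, (p : Λ) * a = 0 → a = 0)
    (hpS : (p : S) ∈ maximalIdeal S) : Lifts Λ S := by
  intro n T _ π hπ hπ2 φ
  let I : Ideal Λ := Ideal.span {(p : Λ) ^ (n + 2)}
  have hpn : ((p : S ⧸ maximalIdeal S ^ (n + 1 + 1))) ^ (n + 2) = 0 := by
    rw [← map_natCast (Ideal.Quotient.mk (maximalIdeal S ^ (n + 1 + 1))), ← map_pow,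
      Ideal.Quotient.eq_zero_iff_mem]
    exact Ideal.pow_mem_pow hpS _
  have hIg : I ≤ RingHom.ker φ := by
    rw [Ideal.span_singleton_le_iff_mem, RingHom.mem_ker, map_pow, map_natCast, ← map_natCast π, ← map_pow, hpn,
      map_zero]
  have hne : (Ideal.span {((p : ℕ) : Λ ⧸ I)}).IsMaximal := by
    have : (maximalIdeal Λ).map (Ideal.Quotient.mk I) = Ideal.span {((p : ℕ) : Λ ⧸ I)} := by
      rw [hm, Ideal.map_span, Set.image_singleton, map_natCast]
    rw [← this]
    refine Ideal.IsMaximal.map_of_surjective_of_ker_le Ideal.Quotient.mk_surjective ?_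
    rw [Ideal.mk_ker, hm, Ideal.span_singleton_le_iff_mem]
    exact Ideal.pow_mem_of_mem _ (Ideal.mem_span_singleton_self _) _ (Nat.succ_pos _)
  obtain ⟨h, hh⟩ := Groth.L01.Cohen.exists_lift_of_flat (p := p) (n := n + 2) (Nat.succ_pos _) (A := Λ ⧸ I)
    (by rw [← map_natCast (Ideal.Quotient.mk I), ← map_pow, Ideal.Quotient.eq_zero_iff_mem]
        exact Ideal.mem_span_singleton_self _)
    (fun a ha => by
      obtain ⟨a, rfl⟩ := Ideal.Quotient.mk_surjective a
      rw [← map_natCast (Ideal.Quotient.mk I), ← map_mul, Ideal.Quotient.eq_zero_iff_mem,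
        Ideal.mem_span_singleton'] at ha
      obtain ⟨c, hc⟩ := ha
      refine ⟨Ideal.Quotient.mk I c, ?_⟩
      have h0 : a = (p : Λ) ^ (n + 1) * c := (sub_eq_zero.mp (hreg _ (by rw [mul_sub, ← hc]; ring)))
      rw [show n + 2 - 1 = n + 1 from rfl, h0, map_mul, map_pow, map_natCast])
    hne hpn π hπ hπ2 (Ideal.Quotient.lift I φ hIg)
  refine ⟨h.comp (Ideal.Quotient.mk I), ?_⟩
  rw [← RingHom.comp_assoc, hh]
  exact Ideal.Quotient.lift_comp_mk I φ hIg

end Groth.L07.AvramovLift
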