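import Groth.Agent.L15.FittFree
import Groth.Agent.L18.PBundle.FTProj
import Groth.Agent.L18.PBundle.SymMap
import Groth.Agent.L18.RelProj.ProjHom
import Groth.Agent.L18.RelProj.Exists
import Groth.Agent.L16.ProjSpace.Basic
import Groth.Agent.S1109
import Groth.Agent.L29.DCoh.PCQCoh
import Groth.Agent.L16.NegPow.Gen
import Groth.Agent.L18.AffineApps
import Mathlib.LinearAlgebra.SymmetricAlgebra.Basis

/-!
Projective bundles of finite locally free modules are smooth; embeddings of quasi-projective schemes over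
a base with the resolution property into smooth ones.
-/

set_option autoImplicit false
set_option linter.style.haveILetI false
set_option backward.isDefEq.respectTransparency false
set_option backward.isDefEq.respectTransparency.types false

universe u

open CategoryTheory CategoryTheory.Limits AlgebraicGeometry TopologicalSpace Opposite
open scoped HomogeneousIdeal

noncomputable section

namespace Groth.L07.BundleSmooth

/-- A graded ring concentrated in degree zero has empty `Proj`. -/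
theorem isEmpty_proj {A σ : Type u} [CommRing A] [SetLike σ A] [AddSubgroupClass σ A] (𝒜 : ℕ → σ)
    [GradedRing 𝒜] (h : ∀ n, 0 < n → ∀ x ∈ 𝒜 n, x = 0) : IsEmpty (Proj 𝒜) := by
  refine ⟨fun x => x.not_irrelevant_le ?_⟩
  rw [HomogeneousIdeal.irrelevant_le]
  intro n hn y hy
  rw [h n hn y hy]
  exact zero_mem _

variable {S : Scheme.{u}}

/-- The structure morphism of the projective bundle of a finite locally free module is smooth. -/
theorem smooth_of_isFinLocFree {E : S.Modules} (hE : FlatMod.IsFinLocFree E) [Coh.IsQCoh E]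
    {𝒯 : RelProj.QCGrAlg S} {k : E ⟶ 𝒯.toModule} (hk : RelProj.IsGrSymAlg E 𝒯 k)
    {P : Scheme.{u}} {p : P ⟶ S}
    {chart : ∀ (U : S.Opens) (hU : IsAffineOpen U), (((p ⁻¹ᵁ U : P.Opens) : Scheme.{u}) ≅ Proj (𝒯.deg U hU))}
    (hP : RelProj.IsRelProj 𝒯 p chart) : Smooth p := by
  classical
  obtain ⟨Φ, h0, h1, hmem⟩ := Groth.L18.SymSheaf.exists_gradedEquiv hk
  have key : ∀ z : S, ∃ (W : S.Opens), z ∈ W ∧ Smooth ((p ⁻¹ᵁ W).ι ≫ p) := by
    intro z
    obtain ⟨U, r, hzU, ⟨e⟩⟩ := hE z
    obtain ⟨W, hW, hzW, hWU⟩ := exists_isAffineOpen_mem_and_subset hzU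
    obtain ⟨ψ, hψs, hψi⟩ := Groth.L15.FittSheaf.exists_sections_of_free_hom E e.inv hW hWU
    let b : Module.Basis (ULift.{u} (Fin r)) Γ(S, W) Γ(E, W) :=
      Module.Basis.ofRepr (LinearEquiv.ofBijective ψ ⟨hψi inferInstance, hψs⟩).symm
    let B : Module.Basis (Fin r) Γ(S, W) Γ(E, W) := b.reindex Equiv.ulift
    let eqv : 𝒯.presheaf.obj (op W) ≃+* MvPolynomial (Fin r) Γ(S, W) :=
      (Φ W hW).symm.trans (SymmetricAlgebra.equivMvPolynomial B).toRingEquiv
    have hstr : ∀ a, eqv ((𝒯.str.app (op W)).hom a) = MvPolynomial.C a := fun a => by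
      rw [← h0 W hW a]
      show (SymmetricAlgebra.equivMvPolynomial B) ((Φ W hW).symm (Φ W hW _)) = _
      rw [RingEquiv.symm_apply_apply]
      exact (SymmetricAlgebra.equivMvPolynomial B).commutes a
    have hhom : ∀ n x, x ∈ 𝒯.deg W hW n → (eqv x).IsHomogeneous n := by
      intro n x hx
      obtain ⟨y, rfl⟩ := (Φ W hW).surjective x
      show ((SymmetricAlgebra.equivMvPolynomial B) ((Φ W hW).symm (Φ W hW y))).IsHomogeneous n
      rw [RingEquiv.symm_apply_apply]
      have hy := (hmem W hW n y).2 hx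
      clear hx
      induction hy using Submodule.pow_induction_on_left' with
      | algebraMap a => rw [AlgEquiv.commutes]; exact MvPolynomial.isHomogeneous_C _ a
      | add x y i hx hy ihx ihy => rw [map_add]; exact ihx.add ihy
      | mem_mul m hm i x hx ih =>
        obtain ⟨m, rfl⟩ := hm
        rw [map_mul, Nat.succ_eq_add_one, add_comm]
        refine MvPolynomial.IsHomogeneous.mul ?_ ih
        rw [show SymmetricAlgebra.equivMvPolynomial B (SymmetricAlgebra.ι _ _ m) = B.constr Γ(S, W) MvPolynomial.X m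
          from SymmetricAlgebra.lift_ι_apply _ _, Module.Basis.constr_apply_fintype]
        refine MvPolynomial.IsHomogeneous.sum _ _ _ fun i _ => ?_
        rw [MvPolynomial.smul_eq_C_mul]
        exact (MvPolynomial.isHomogeneous_X _ i).C_mul _
    refine ⟨W, hzW, ?_⟩
    rw [← hP.chart_over W hW]
    rcases r with _ | n
    · haveI : IsEmpty (Proj (𝒯.deg W hW)) := isEmpty_proj _ fun m hm x hx => by
        apply eqv.injective
        rw [map_zero]
        have hh := hhom m x hx
        rw [MvPolynomial.eq_C_of_isEmpty (eqv x)] at hh ⊢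
        by_contra hne
        exact absurd (hh.inj_right (MvPolynomial.isHomogeneous_C _ _) hne) (by omega)
      haveI : IsEmpty ((p ⁻¹ᵁ W : P.Opens) : Scheme.{u}) := (chart W hW).hom.homeomorph.isEmpty
      infer_instance
    let φ : 𝒯.deg W hW →+*ᵍ CohB1.polyGrading n Γ(S, W) :=
      { eqv.toRingHom with
        map_mem := fun {m x} hx => (MvPolynomial.mem_homogeneousSubmodule _ _).2 (hhom m x hx) }
    have hsurj : Function.Surjective φ := eqv.surjective
    have hφ : (CohB1.polyGrading n Γ(S, W))₊ ≤ ((𝒯.deg W hW)₊).map φ := by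
      rw [HomogeneousIdeal.irrelevant_le]
      intro m hm y hy
      obtain ⟨x, hx, rfl⟩ := Groth.L18.RPLoc.exists_degree_preimage_of_surjective φ hsurj m hy
      exact Ideal.mem_map_of_mem _ (HomogeneousIdeal.mem_irrelevant_of_mem _ hm hx)
    haveI : IsIso (Proj.map φ hφ) := Groth.L18.RPLoc.map_isIso_of_bijOn φ hφ fun m _ =>
      ⟨fun x hx => φ.map_mem hx, eqv.injective.injOn, fun y hy => by
        obtain ⟨x, hx, hxy⟩ := Groth.L18.RPLoc.exists_degree_preimage_of_surjective φ hsurj m hy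
        exact ⟨x, hx, hxy⟩⟩
    have hc : Proj.map φ hφ ≫ Proj.toSpecZero (𝒯.deg W hW) ≫ Spec.map (𝒯.strZero W hW) =
        CohB1.ProjSpace.toSpec n Γ(S, W) := by
      rw [Groth.L18.RPLoc.map_toSpecZero φ hφ (𝒯.strZero W hW)
        (CommRingCat.ofHom (algebraMap Γ(S, W) (CohB1.polyGrading n Γ(S, W) 0))) (𝟙 Γ(S, W))
        (fun a => hstr a), Spec.map_id]
      exact Category.comp_id _
    haveI : Smooth (Proj.toSpecZero (𝒯.deg W hW) ≫ Spec.map (𝒯.strZero W hW)) := by
      rw [← MorphismProperty.cancel_left_of_respectsIso (P := @Smooth) (Proj.map φ hφ), hc]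
      exact Groth.L16.ProjSpace.smooth_toSpec n Γ(S, W)
    have : Smooth ((chart W hW).hom ≫ (Proj.toSpecZero (𝒯.deg W hW) ≫ Spec.map (𝒯.strZero W hW)) ≫ hW.fromSpec) :=
      inferInstance
    simpa only [Category.assoc] using this
  choose W hzW hW using key
  refine (IsZariskiLocalAtSource.iff_of_iSup_eq_top (P := @Smooth) (fun z : S => p ⁻¹ᵁ W z) ?_).2 hW
  exact top_le_iff.1 fun x _ => Opens.mem_iSup.2 ⟨p x, hzW (p x)⟩

/-- Over a base with the resolution property a quasi-projective morphism embeds in a smooth one. -/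
theorem exists_factorization {X : Scheme.{u}} [IsLocallyNoetherian S] (hres : PerfAux.HasResolutionProperty S)
    {Z : Scheme.{u}} (v : X ⟶ Z) (q : Z ⟶ S) [IsOpenImmersion v] (hq : RelProj.IsProjective q) :
    ∃ (W : Scheme.{u}) (i : X ⟶ W) (p : W ⟶ S), IsClosedImmersion i ∧ Smooth p ∧
      (∃ (P : Scheme.{u}) (v : W ⟶ P) (r : P ⟶ S), IsOpenImmersion v ∧ RelProj.IsProjective r ∧ v ≫ r = p) ∧
      i ≫ p = v ≫ q := by
  obtain ⟨E, 𝒯, j, P, p, chart, i, hE, hft, hj, hP, hi, hip⟩ := (Groth.L18.PBundle.isProjective_iff q).1 hq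
  obtain ⟨E', π, hE', hπ⟩ := hres E hE hft
  haveI := hE
  haveI := hπ
  haveI : Coh.IsQCoh E' := Groth.L29.DC.PCQCoh.isQCoh_of_isFinLocFree hE'
  obtain ⟨P', p', chart', hP'⟩ := Groth.L18.RP.exists_isRelProj (Groth.L18.SymSheaf.symGr E')
  have hj' := Groth.L18.SymSheaf.isGrSymAlg E'
  obtain ⟨Φ, h0, h1, hmem⟩ := Groth.L18.SymSheaf.exists_gradedEquiv hj
  have hft' : CohB1.IsFT E' := (Groth.L16.NegPow.isCoh_of_isFinLocFree hE').2
  have hgen := Groth.L18.PBundle.isGenDegOne_of_isGrSymAlg hE hj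
  have hgen' := Groth.L18.PBundle.isGenDegOne_of_isGrSymAlg ‹Coh.IsQCoh E'› hj'
  obtain ⟨h, hh, hhp, -⟩ := Groth.L18.PBundle.exists_closedImmersion ‹Coh.IsQCoh E'› hj' (π ≫ j)
    (fun U hU x => hj.2 U hU (π.app U x)) (fun U hU y hy => by
      obtain ⟨x, rfl⟩ := (Φ U hU).surjective y
      have hx := (hmem U hU 1 x).2 hy
      rw [Groth.L18.SymRing.piece, pow_one] at hx
      obtain ⟨m, rfl⟩ := hx
      obtain ⟨m', rfl⟩ := Groth.L18.AffineCrit.surjective_app_of_epi_affine π hU m
      exact ⟨m', (h1 U hU _).symm⟩) hgen' hgen hP' hP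
  haveI := hh
  haveI := hi
  let f := v ≫ i ≫ h
  haveI : IsImmersion f := inferInstance
  haveI := smooth_of_isFinLocFree hE' hj' hP'
  refine ⟨f.coborderRange, f.liftCoborder, f.coborderRange.ι ≫ p', inferInstance, inferInstance,
    ⟨P', f.coborderRange.ι, p', inferInstance, (Groth.L18.PBundle.isProjective_iff p').2
      ⟨E', _, _, P', p', chart', 𝟙 P', ‹Coh.IsQCoh E'›, hft', hj', hP', inferInstance, Category.id_comp _⟩, rfl⟩, ?_⟩
  rw [← Category.assoc, f.liftCoborder_ι, Category.assoc, Category.assoc, hhp, hip]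

end Groth.L07.BundleSmooth
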