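import Groth.Agent.L19.OmegaSh.ConormalMaps
import Groth.Agent.L18.Frame
import Groth.Agent.L19.OmegaSh.ConormalSeq

/-!
Functionals on conormal sheaves at a point, and the injectivity modulo the maximal ideal of a split
inclusion of conormal sheaves.
-/

set_option autoImplicit false
set_option maxSynthPendingDepth 3
set_option linter.style.haveILetI false
set_option backward.isDefEq.respectTransparency false
set_option backward.isDefEq.respectTransparency.types false

universe u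

open CategoryTheory CategoryTheory.Limits AlgebraicGeometry TopologicalSpace Opposite

noncomputable section

namespace Groth.L07.ConormalPoint

open Groth.L19.OmegaSh (idl)
open Groth.L18.Frame (rs ro rs_rs ro_ro rs_smul ro_self rs_self)
open _root_.OmegaSh (idealSect pullSect conormalSect strSect fnSect)

variable {X Y Z : Scheme.{u}}

/-- The skyscraper module with fibre the residue field at `z`. -/
abbrev sky (z : Z) : Z.Modules :=
  (Scheme.Modules.pushforward (Z.fromSpecResidueField z)).obj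
    (Coh.structureModule (Spec (Z.residueField z)))

/-- Constants as sections of the skyscraper. -/
def cst (z : Z) (V : Z.Opens) : Z.residueField z →+* Γ(Spec (Z.residueField z), Z.fromSpecResidueField z ⁻¹ᵁ V) :=
  ((Scheme.ΓSpecIso (Z.residueField z)).inv ≫
    (Spec (Z.residueField z)).presheaf.map (homOfLE le_top).op).hom

/-- Constants as module sections. -/
def cstS (z : Z) (V : Z.Opens) : Z.residueField z →+ Γ(sky z, V) :=
  (strSect _ _).comp (cst z V).toAddMonoidHom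

theorem cstS_eq_of_not_mem {z : Z} {V : Z.Opens} (h : z ∉ V) (a b : Γ(sky z, V)) : a = b := by
  have hbot : Z.fromSpecResidueField z ⁻¹ᵁ V = ⊥ := by
    ext p
    simp only [Opens.map_coe, Set.mem_preimage, SetLike.mem_coe, Scheme.fromSpecResidueField_apply, Opens.coe_bot,
      Set.mem_empty_iff_false, iff_false]
    exact h
  haveI : Subsingleton Γ(Spec (Z.residueField z), Z.fromSpecResidueField z ⁻¹ᵁ V) := by
    rw [hbot]
    exact CommRingCat.subsingleton_of_isTerminal (Spec (Z.residueField z)).sheaf.isTerminalOfEmpty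
  exact @Subsingleton.elim Γ(Spec (Z.residueField z), Z.fromSpecResidueField z ⁻¹ᵁ V) _ a b

theorem cst_eq_zero {z : Z} {V : Z.Opens} (h : z ∈ V) {c : Z.residueField z} (hc : cstS z V c = 0) : c = 0 := by
  haveI : Nonempty (Z.fromSpecResidueField z ⁻¹ᵁ V).toScheme :=
    ⟨⟨IsLocalRing.closedPoint _, by
      show Z.fromSpecResidueField z _ ∈ V
      rw [Scheme.fromSpecResidueField_apply]; exact h⟩⟩
  haveI := Scheme.component_nontrivial (Spec (Z.residueField z)) (Z.fromSpecResidueField z ⁻¹ᵁ V)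
  exact (cst z V).injective (hc.trans (map_zero (cst z V)).symm)

theorem rs_cstS (z : Z) {U V : Z.Opens} (h : V ≤ U) (c : Z.residueField z) :
    rs (sky z) h (cstS z U c) = cstS z V c := by
  show (Spec (Z.residueField z)).presheaf.map (homOfLE (Scheme.Hom.preimage_mono _ h)).op
    ((Spec (Z.residueField z)).presheaf.map _ ((Scheme.ΓSpecIso (Z.residueField z)).inv c)) = _
  rw [← CommRingCat.comp_apply ((Spec (Z.residueField z)).presheaf.map _), ← Functor.map_comp]
  rfl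

theorem app_eq_cst {z : Z} {V : Z.Opens} (h : z ∈ V) (r : Γ(Z, V)) :
    (Z.fromSpecResidueField z).app V r = cst z V (Z.evaluation V z h r) := by
  have h1 : (Z.fromSpecStalk z).app V r = (Spec (Z.presheaf.stalk z)).presheaf.map (homOfLE le_top).op
      ((Scheme.ΓSpecIso (Z.presheaf.stalk z)).inv (Z.presheaf.germ V z h r)) := by
    rw [Scheme.fromSpecStalk_app h]
    rfl
  show ((Spec.map (Z.residue z) ≫ Z.fromSpecStalk z).app V) r = _
  rw [Scheme.Hom.comp_app, CommRingCat.comp_apply, h1]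
  have h2 := congr($((Spec.map (Z.residue z)).naturality (homOfLE (le_top : Z.fromSpecStalk z ⁻¹ᵁ V ≤ ⊤)).op)
    ((Scheme.ΓSpecIso (Z.presheaf.stalk z)).inv (Z.presheaf.germ V z h r)))
  refine h2.trans ?_
  have h3 := congr($(Scheme.ΓSpecIso_inv_naturality (Z.residue z)) (Z.presheaf.germ V z h r))
  show (Spec (Z.residueField z)).presheaf.map _ ((Spec.map (Z.residue z)).appTop _) = _
  rw [CommRingCat.comp_apply, CommRingCat.comp_apply] at h3
  rw [← h3]
  rfl

theorem smul_cstS {z : Z} {V : Z.Opens} (h : z ∈ V) (r : Γ(Z, V)) (c : Z.residueField z) :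
    r • cstS z V c = cstS z V (Z.evaluation V z h r * c) := by
  show (Z.fromSpecResidueField z).app V r * cst z V c = cst z V (Z.evaluation V z h r * c)
  rw [app_eq_cst h, map_mul]

/-- The map from the stalk of `X` to the residue field of `Z`. -/
def resMap (g : Z ⟶ Y) (j : Y ⟶ X) (z : Z) : X.presheaf.stalk (j (g z)) →+* Z.residueField z :=
  (Z.residue z).hom.comp ((g.stalkMap z).hom.comp (j.stalkMap (g z)).hom)

theorem resMap_germ (g : Z ⟶ Y) (j : Y ⟶ X) (z : Z) {U : X.Opens} (h : j (g z) ∈ U) (a : Γ(X, U)) :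
    resMap g j z (X.presheaf.germ U (j (g z)) h a) =
      Z.evaluation (g ⁻¹ᵁ (j ⁻¹ᵁ U)) z h (g.app (j ⁻¹ᵁ U) (j.app U a)) := by
  show Z.residue z (g.stalkMap z (j.stalkMap (g z) (X.presheaf.germ U (j (g z)) h a))) = _
  rw [Scheme.Hom.germ_stalkMap_apply, Scheme.Hom.germ_stalkMap_apply]
  rfl

/-- The germ of a section of the ideal of an immersion. -/
theorem germ_idealSect_mem (j : Y ⟶ X) (y : Y) {U : X.Opens} (h : j y ∈ U) (s : Γ(idl j, U)) :
    X.presheaf.germ U (j y) h (idealSect j.ker U s) ∈ RingHom.ker (j.stalkMap y).hom := by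
  rw [RingHom.mem_ker]
  show j.stalkMap y _ = 0
  rw [Scheme.Hom.germ_stalkMap_apply, Groth.L19.OmegaSh.app_idealSect, map_zero]

/-- Elements of the stalk ideal come from sections of the ideal. -/
theorem exists_rep (j : Y ⟶ X) [IsImmersion j] [QuasiCompact j] (y : Y)
    (t : X.presheaf.stalk (j y)) (ht : t ∈ RingHom.ker (j.stalkMap y).hom) :
    ∃ (U : X.Opens) (h : j y ∈ U) (s : Γ(idl j, U)),
      X.presheaf.germ U (j y) h (idealSect j.ker U s) = t := by
  obtain ⟨W, hW, u, rfl⟩ := TopCat.Presheaf.exists_germ_eq X.presheaf t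
  have h0 : Y.presheaf.germ (j ⁻¹ᵁ W) y hW (j.app W u) = 0 := by
    rw [← Scheme.Hom.germ_stalkMap_apply]; exact ht
  rw [← map_zero (Y.presheaf.germ (j ⁻¹ᵁ W) y hW).hom] at h0
  obtain ⟨O, hyO, i₁, i₂, he⟩ := Y.presheaf.germ_eq y hW hW _ _ h0
  obtain ⟨O', hO', hOO'⟩ := j.isEmbedding.isInducing.isOpen_iff.mp O.2
  let U : X.Opens := ⟨O', hO'⟩ ⊓ W
  have hyU : j y ∈ U := ⟨by
    show y ∈ ⇑j ⁻¹' O'
    rw [hOO']; exact hyO, hW⟩
  have hle : j ⁻¹ᵁ U ≤ O := fun p hp => by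
    show p ∈ O.carrier
    rw [← hOO']; exact hp.1
  obtain ⟨s, hs⟩ := Groth.L19.OmegaSh.exists_idealSect j U (ro inf_le_right u) (by
    rw [Groth.L19.OmegaSh.app_ro]
    have := congrArg (Y.presheaf.map (homOfLE hle).op) he
    rw [map_zero, map_zero, ← CommRingCat.comp_apply, ← Functor.map_comp] at this
    exact this)
  refine ⟨U, hyU, s, ?_⟩
  rw [hs]
  exact X.presheaf.germ_res_apply _ _ _ u

/-- A functional on the stalk ideal gives a map out of the conormal sheaf. -/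
theorem exists_functional (g : Z ⟶ Y) (j : Y ⟶ X) (z : Z)
    (φ : RingHom.ker (j.stalkMap (g z)).hom →+ Z.residueField z)
    (hφ : ∀ (c : X.presheaf.stalk (j (g z))) (a : RingHom.ker (j.stalkMap (g z)).hom),
      φ (c • a) = resMap g j z c * φ a) :
    ∃ α : Omega.conormal j ⟶ (Scheme.Modules.pushforward g).obj (sky z),
      ∀ (U : X.Opens) (hz : j (g z) ∈ U) (s : Γ(idl j, U)),
        α.app (j ⁻¹ᵁ U) (conormalSect j U s) =
          cstS z (g ⁻¹ᵁ (j ⁻¹ᵁ U)) (φ ⟨_, germ_idealSect_mem j (g z) hz s⟩) := by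
  classical
  let ψ : ∀ U : X.Opens, Γ(idl j, U) → Γ((Scheme.Modules.pushforward g).obj (sky z), j ⁻¹ᵁ U) :=
    fun U s => if h : j (g z) ∈ U then cstS z (g ⁻¹ᵁ (j ⁻¹ᵁ U)) (φ ⟨_, germ_idealSect_mem j (g z) h s⟩) else 0
  obtain ⟨α, hα⟩ := Groth.L19.OmegaSh.exists_conormal_hom (i := j) (N := (Scheme.Modules.pushforward g).obj (sky z)) ψ
    (fun U s t => by
      by_cases h : j (g z) ∈ U
      · simp only [ψ, dif_pos h]
        rw [← map_add (cstS z _), ← map_add φ]
        congr 2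
        exact Subtype.ext (by simp [map_add])
      · exact cstS_eq_of_not_mem (V := g ⁻¹ᵁ (j ⁻¹ᵁ U)) h _ _)
    (fun U r s => by
      by_cases h : j (g z) ∈ U
      · simp only [ψ, dif_pos h]
        rw [show (⟨_, germ_idealSect_mem j (g z) h (r • s)⟩ : RingHom.ker (j.stalkMap (g z)).hom) =
          X.presheaf.germ U (j (g z)) h r • ⟨_, germ_idealSect_mem j (g z) h s⟩ from Subtype.ext (by
            show X.presheaf.germ U (j (g z)) h (idealSect j.ker U (r • s)) = _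
            rw [Groth.L19.OmegaSh.idealSect_smul, map_mul]; rfl), hφ, resMap_germ]
        exact (smul_cstS (V := g ⁻¹ᵁ (j ⁻¹ᵁ U)) h (g.app (j ⁻¹ᵁ U) (j.app U r)) _).symm
      · exact cstS_eq_of_not_mem (V := g ⁻¹ᵁ (j ⁻¹ᵁ U)) h _ _)
    (fun U U' h s => by
      by_cases h' : j (g z) ∈ U'
      · simp only [ψ, dif_pos h', dif_pos (h h')]
        rw [show (⟨_, germ_idealSect_mem j (g z) h' (rs (idl j) h s)⟩ : RingHom.ker (j.stalkMap (g z)).hom) =
          ⟨_, germ_idealSect_mem j (g z) (h h') s⟩ from Subtype.ext (by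
            show X.presheaf.germ U' (j (g z)) h' (idealSect j.ker U' (rs (idl j) h s)) = _
            rw [Groth.L19.OmegaSh.idealSect_rs]
            exact X.presheaf.germ_res_apply _ _ _ _)]
        exact (rs_cstS z (Scheme.Hom.preimage_mono g (Scheme.Hom.preimage_mono j h)) _).symm
      · exact cstS_eq_of_not_mem (V := g ⁻¹ᵁ (j ⁻¹ᵁ U')) h' _ _)
  exact ⟨α, fun U hz s => (hα U s).trans (dif_pos hz)⟩

theorem app_smul_restrict {M N : Z.Modules} (U : Z.Opens)
    (l : (Scheme.Modules.restrictFunctor U.ι).obj M ⟶ (Scheme.Modules.restrictFunctor U.ι).obj N)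
    (V : U.toScheme.Opens) (c : Γ(Z, U.ι ''ᵁ V)) (t : Γ(M, U.ι ''ᵁ V)) :
    (show Γ(N, U.ι ''ᵁ V) from l.app V (show Γ((Scheme.Modules.restrictFunctor U.ι).obj M, V) from c • t)) =
      c • (show Γ(N, U.ι ''ᵁ V) from l.app V t) := by
  have h1 := Groth.L18.Frame.restrict_smul' M U V (show Γ(U.toScheme, V) from c) t
  have h2 := Groth.L18.Frame.restrict_smul' N U V (show Γ(U.toScheme, V) from c) (l.app V t)
  rw [← h2, ← Scheme.Modules.Hom.app_smul l (show Γ(U.toScheme, V) from c) t]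
  exact congrArg (fun m => (show Γ(N, U.ι ''ᵁ V) from l.app V m)) h1.symm

/-- Functionals to a field detect membership in `m * I`. -/
theorem mem_maximal_mul_of_functionals {L K : Type u} [CommRing L] [IsLocalRing L] [Field K]
    (e₀ : L →+* K) (hres : ∀ c ∈ IsLocalRing.maximalIdeal L, e₀ c = 0) (I : Ideal L) (x : L) (hx : x ∈ I)
    (key : ∀ φ : I →+ K, (∀ (c : L) (t : I), φ (c • t) = e₀ c * φ t) → φ ⟨x, hx⟩ = 0) :
    x ∈ IsLocalRing.maximalIdeal L * I := by
  by_contra hnot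
  let m := IsLocalRing.maximalIdeal L
  let V := ↥I ⧸ (m • (⊤ : Submodule L ↥I))
  letI : Field (L ⧸ m) := Ideal.Quotient.field m
  let v : V := Submodule.Quotient.mk ⟨x, hx⟩
  have hv : v ≠ 0 := by
    intro h
    rw [Submodule.Quotient.mk_eq_zero] at h
    have h' := Submodule.mem_map_of_mem (f := I.subtype) h
    rw [Submodule.map_smul'', Submodule.map_top, Submodule.range_subtype, smul_eq_mul] at h'
    exact hnot h'
  obtain ⟨d, hd⟩ : ∃ d : Module.Dual (L ⧸ m) V, d v ≠ 0 := by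
    by_contra h
    exact hv ((Module.forall_dual_apply_eq_zero_iff (L ⧸ m) v).1 fun d => by_contra fun h' => h ⟨d, h'⟩)
  let e : L ⧸ m →+* K := Ideal.Quotient.lift m e₀ hres
  refine hd (e.injective (Eq.trans ?_ (map_zero e).symm))
  refine key (AddMonoidHom.mk' (fun t => e (d (Submodule.Quotient.mk t))) fun s t => by
    rw [Submodule.Quotient.mk_add, map_add, map_add]) fun c t => ?_
  show e (d (Submodule.Quotient.mk (c • t))) = e₀ c * e (d (Submodule.Quotient.mk t))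
  rw [Submodule.Quotient.mk_smul, show (c • Submodule.Quotient.mk t : V) =
    Ideal.Quotient.mk m c • Submodule.Quotient.mk t from rfl, map_smul, smul_eq_mul, map_mul]
  rfl

section Generic

variable {M N : Z.Modules} {U : Z.Opens}
  (l : (Scheme.Modules.restrictFunctor U.ι).obj M ⟶ (Scheme.Modules.restrictFunctor U.ι).obj N)

/-- A map of restrictions, on sections. -/
def rapp (V : U.toScheme.Opens) : Γ(M, U.ι ''ᵁ V) →+ Γ(N, U.ι ''ᵁ V) :=
  AddMonoidHom.mk' (fun q => (show Γ(N, U.ι ''ᵁ V) from l.app V q)) fun a b => map_add (l.app V).hom a b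

theorem rapp_smul (V : U.toScheme.Opens) (c : Γ(Z, U.ι ''ᵁ V)) (t : Γ(M, U.ι ''ᵁ V)) :
    rapp l V (c • t) = c • rapp l V t :=
  app_smul_restrict U l V c t

theorem rapp_rs {V V' : U.toScheme.Opens} (h : V' ≤ V) (q : Γ(M, U.ι ''ᵁ V)) :
    rapp l V' (rs M (Scheme.Hom.image_mono _ h) q) = rs N (Scheme.Hom.image_mono _ h) (rapp l V q) :=
  Groth.L19.OmegaSh.hom_rs l h q

theorem rapp_cancel {P : Z.Modules} (a : P ⟶ M) (ev : P ⟶ N)
    (ρ : (Scheme.Modules.restrictFunctor U.ι).obj M ⟶ (Scheme.Modules.restrictFunctor U.ι).obj P)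
    (hρ : (Scheme.Modules.restrictFunctor U.ι).map a ≫ ρ = 𝟙 _) (V : U.toScheme.Opens)
    (q : Γ(P, U.ι ''ᵁ V)) :
    rapp (ρ ≫ (Scheme.Modules.restrictFunctor U.ι).map ev) V (a.app (U.ι ''ᵁ V) q) = ev.app (U.ι ''ᵁ V) q :=
  congrArg (ev.app (U.ι ''ᵁ V))
    congr($(congrArg (fun f => Scheme.Modules.Hom.app f V) hρ) q)

end Generic

theorem smul_sky_eq_zero {z : Z} {V : Z.Opens} (h : z ∈ V) (r : Γ(Z, V))
    (hr : Z.evaluation V z h r = 0) (m : Γ(sky z, V)) : r • m = 0 := by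
  show (Z.fromSpecResidueField z).app V r *
    (show Γ(Spec (Z.residueField z), Z.fromSpecResidueField z ⁻¹ᵁ V) from m) = 0
  rw [app_eq_cst h, hr, map_zero, zero_mul]

section Eval

variable {U : Z.Opens} (k : Z ⟶ X)

/-- The trace on `U` of the preimage of an open of `X`. -/
abbrev opn (U : Z.Opens) (k : Z ⟶ X) (W : X.Opens) : Z.Opens := U.ι ''ᵁ (U.ι ⁻¹ᵁ (k ⁻¹ᵁ W))

theorem opn_le (W : X.Opens) : opn U k W ≤ k ⁻¹ᵁ W := Scheme.Hom.image_preimage_le _ _

theorem mem_opn {z : Z} (hzU : z ∈ U) {W : X.Opens} (hz : k z ∈ W) : z ∈ opn U k W := ⟨⟨z, hzU⟩, hz, rfl⟩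

theorem opn_mono {W W' : X.Opens} (h : W' ≤ W) : opn U k W' ≤ opn U k W :=
  Scheme.Hom.image_mono _ (Scheme.Hom.preimage_mono _ (Scheme.Hom.preimage_mono _ h))

variable {z : Z} (lam : (Scheme.Modules.restrictFunctor U.ι).obj (Omega.conormal k) ⟶
  (Scheme.Modules.restrictFunctor U.ι).obj (sky z))

/-- The value at `z` of a functional on the class of a section of the ideal. -/
def val (W : X.Opens) (s : Γ(idl k, W)) : Γ(sky z, opn U k W) :=
  rapp lam (U.ι ⁻¹ᵁ (k ⁻¹ᵁ W)) (rs (Omega.conormal k) (opn_le k W) (conormalSect k W s))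

theorem val_add (W : X.Opens) (s t : Γ(idl k, W)) : val k lam W (s + t) = val k lam W s + val k lam W t :=
  (congrArg (rapp lam (U.ι ⁻¹ᵁ (k ⁻¹ᵁ W)))
    ((congrArg (rs (Omega.conormal k) (opn_le k W)) (map_add (conormalSect k W).hom s t)).trans
      (map_add _ _ _))).trans (map_add _ _ _)

theorem val_rs {W W' : X.Opens} (h : W' ≤ W) (s : Γ(idl k, W)) :
    val k lam W' (rs (idl k) h s) = rs (sky z) (opn_mono k h) (val k lam W s) := by
  rw [val, Groth.L19.OmegaSh.conormalSect_rs, rs_rs]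
  rw [← rs_rs (Omega.conormal k) (opn_le k W) (opn_mono k h)]
  exact rapp_rs lam (Scheme.Hom.preimage_mono _ (Scheme.Hom.preimage_mono _ h)) _

theorem val_smul_eq_zero (hzU : z ∈ U) (W : X.Opens) (hz : k z ∈ W) (r : Γ(X, W)) (s : Γ(idl k, W))
    (hr : Z.evaluation (k ⁻¹ᵁ W) z hz (k.app W r) = 0) : val k lam W (r • s) = 0 := by
  rw [val, Groth.L19.OmegaSh.conormalSect_smul, rs_smul, rapp_smul]
  exact smul_sky_eq_zero (mem_opn k hzU hz) _
    ((congrArg (Z.residue z) (Z.presheaf.germ_res_apply _ _ _ _)).trans hr) _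

end Eval

/-- Functionals at `z` kill the maximal ideal times the ideal. -/
theorem exists_rep_val_eq_zero (i : Z ⟶ Y) (j : Y ⟶ X) [IsImmersion (i ≫ j)] [QuasiCompact (i ≫ j)]
    {U : Z.Opens} {z : Z} (hzU : z ∈ U)
    (lam : (Scheme.Modules.restrictFunctor U.ι).obj (Omega.conormal (i ≫ j)) ⟶
      (Scheme.Modules.restrictFunctor U.ι).obj (sky z))
    (y : X.presheaf.stalk ((i ≫ j) z))
    (hy : y ∈ IsLocalRing.maximalIdeal _ *
      RingHom.ker ((i ≫ j).stalkMap z).hom) :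
    ∃ (W : X.Opens) (hz : (i ≫ j) z ∈ W) (s : Γ(idl (i ≫ j), W)),
      X.presheaf.germ W ((i ≫ j) z) hz (idealSect (i ≫ j).ker W s) = y ∧ val (i ≫ j) lam W s = 0 := by
  refine Submodule.mul_induction_on (C := fun y => ∃ (W : X.Opens) (hz : (i ≫ j) z ∈ W) (s : Γ(idl (i ≫ j), W)),
      X.presheaf.germ W ((i ≫ j) z) hz (idealSect (i ≫ j).ker W s) = y ∧ val (i ≫ j) lam W s = 0)
    hy (fun c hc t ht => ?_) (fun y₁ y₂ ⟨W₁, h₁, s₁, e₁, l₁⟩ ⟨W₂, h₂, s₂, e₂, l₂⟩ => ?_)
  · obtain ⟨W₂, h₂, s, hs⟩ := exists_rep (i ≫ j) z t ht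
    obtain ⟨W₁, h₁, c', hc'⟩ := TopCat.Presheaf.exists_germ_eq X.presheaf c
    have hz : (i ≫ j) z ∈ W₁ ⊓ W₂ := ⟨h₁, h₂⟩
    have e₁ : X.presheaf.germ (W₁ ⊓ W₂) ((i ≫ j) z) hz (ro (inf_le_left : W₁ ⊓ W₂ ≤ W₁) c') = c :=
      (X.presheaf.germ_res_apply _ _ _ c').trans hc'
    refine ⟨W₁ ⊓ W₂, hz, ro (inf_le_left : W₁ ⊓ W₂ ≤ W₁) c' • rs (idl (i ≫ j)) (inf_le_right : W₁ ⊓ W₂ ≤ W₂) s, ?_, ?_⟩
    · rw [Groth.L19.OmegaSh.idealSect_smul, Groth.L19.OmegaSh.idealSect_rs, map_mul, e₁]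
      refine congrArg (c * ·) ?_
      exact (X.presheaf.germ_res_apply _ _ _ _).trans hs
    · refine val_smul_eq_zero (i ≫ j) lam hzU _ hz _ _ ?_
      show Z.residue z (Z.presheaf.germ _ z hz _) = 0
      refine (IsLocalRing.residue_eq_zero_iff _).mpr ?_
      rw [← Scheme.Hom.germ_stalkMap_apply]
      exact map_nonunit ((i ≫ j).stalkMap z).hom _ (e₁.symm ▸ hc)
  · have hz : (i ≫ j) z ∈ W₁ ⊓ W₂ := ⟨h₁, h₂⟩
    refine ⟨W₁ ⊓ W₂, hz, rs (idl (i ≫ j)) inf_le_left s₁ + rs (idl (i ≫ j)) inf_le_right s₂, ?_, ?_⟩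
    · rw [map_add, map_add, Groth.L19.OmegaSh.idealSect_rs, Groth.L19.OmegaSh.idealSect_rs]
      exact congrArg₂ (· + ·) ((X.presheaf.germ_res_apply _ _ _ _).trans e₁)
        ((X.presheaf.germ_res_apply _ _ _ _).trans e₂)
    · rw [val_add, val_rs, val_rs, l₁, l₂]
      exact (congrArg₂ (· + ·) (map_zero _) (map_zero _)).trans (add_zero _)

/-- The value of the functional composed with the conormal map of `j`. -/
theorem val_of_conormalMap (i : Z ⟶ Y) (j : Y ⟶ X)
    (a : (Scheme.Modules.pullback i).obj (Omega.conormal j) ⟶ Omega.conormal (i ≫ j))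
    (ha : _root_.OmegaSh.IsConormalMap (i ≫ j) j (𝟙 X) i a) {U : Z.Opens} {z : Z}
    (ρ : (Scheme.Modules.restrictFunctor U.ι).obj (Omega.conormal (i ≫ j)) ⟶
      (Scheme.Modules.restrictFunctor U.ι).obj ((Scheme.Modules.pullback i).obj (Omega.conormal j)))
    (hρ : (Scheme.Modules.restrictFunctor U.ι).map a ≫ ρ = 𝟙 _)
    (ev : (Scheme.Modules.pullback i).obj (Omega.conormal j) ⟶ sky z)
    (W : X.Opens) (s : Γ(idl (i ≫ j), W)) (t : Γ(idl j, W))
    (hst : idealSect (i ≫ j).ker W s = idealSect j.ker W t) :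
    val (i ≫ j) (ρ ≫ (Scheme.Modules.restrictFunctor U.ι).map ev) W s =
      rs (sky z) (opn_le (U := U) (i ≫ j) W)
        (ev.app (i ⁻¹ᵁ (j ⁻¹ᵁ W)) (pullSect i (Omega.conormal j) (j ⁻¹ᵁ W) (conormalSect j W t))) := by
  have hcon : rs (Omega.conormal (i ≫ j)) (opn_le (U := U) (i ≫ j) W) (conormalSect (i ≫ j) W s) =
      a.app (opn U (i ≫ j) W) (rs _ (opn_le (U := U) (i ≫ j) W)
        (pullSect i (Omega.conormal j) (j ⁻¹ᵁ W) (conormalSect j W t))) := by
    rw [Groth.L19.OmegaSh.hom_rs a]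
    exact ((ha.2 W t s hst) (opn U (i ≫ j) W) (opn_le (i ≫ j) W) (opn_le (i ≫ j) W)).symm
  rw [val, hcon, rapp_cancel a ev ρ hρ]
  exact Groth.L19.OmegaSh.hom_rs ev (opn_le (U := U) (i ≫ j) W) _

/-- The evaluation map attached to a functional. -/
theorem exists_ev (i : Z ⟶ Y) (j : Y ⟶ X) (z : Z)
    (φ : RingHom.ker (j.stalkMap (i z)).hom →+ Z.residueField z)
    (hφ : ∀ (c : X.presheaf.stalk (j (i z))) (a : RingHom.ker (j.stalkMap (i z)).hom),
      φ (c • a) = resMap i j z c * φ a) :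
    ∃ ev : (Scheme.Modules.pullback i).obj (Omega.conormal j) ⟶ sky z,
      ∀ (W : X.Opens) (hz : j (i z) ∈ W) (t : Γ(idl j, W)),
        ev.app (i ⁻¹ᵁ (j ⁻¹ᵁ W)) (pullSect i (Omega.conormal j) (j ⁻¹ᵁ W) (conormalSect j W t)) =
          cstS z (i ⁻¹ᵁ (j ⁻¹ᵁ W)) (φ ⟨_, germ_idealSect_mem j (i z) hz t⟩) := by
  obtain ⟨α, hα⟩ := exists_functional i j z φ hφ
  refine ⟨((Scheme.Modules.pullbackPushforwardAdjunction i).homEquiv _ _).symm α, fun W hz t => ?_⟩
  have h := congr($(congrArg (fun f => Scheme.Modules.Hom.app f (j ⁻¹ᵁ W))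
    (Equiv.apply_symm_apply ((Scheme.Modules.pullbackPushforwardAdjunction i).homEquiv _ _) α)) (conormalSect j W t))
  rw [Adjunction.homEquiv_unit] at h
  exact h.trans (hα W hz t)

/-- If the inclusion of conormal sheaves has a retraction near `z`, then no minimal generator of the
smaller ideal lies in the maximal ideal times the bigger one. -/
theorem mem_mul_ker (i : Z ⟶ Y) (j : Y ⟶ X) [IsImmersion i] [IsImmersion j]
    [QuasiCompact i] [QuasiCompact j]
    (a : (Scheme.Modules.pullback i).obj (Omega.conormal j) ⟶ Omega.conormal (i ≫ j))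
    (ha : _root_.OmegaSh.IsConormalMap (i ≫ j) j (𝟙 X) i a) (z : Z) (U : Z.Opens) (hzU : z ∈ U)
    (ρ : (Scheme.Modules.restrictFunctor U.ι).obj (Omega.conormal (i ≫ j)) ⟶
      (Scheme.Modules.restrictFunctor U.ι).obj ((Scheme.Modules.pullback i).obj (Omega.conormal j)))
    (hρ : (Scheme.Modules.restrictFunctor U.ι).map a ≫ ρ = 𝟙 _)
    (x : X.presheaf.stalk (j (i z))) (hx : x ∈ RingHom.ker (j.stalkMap (i z)).hom)
    (hxm : x ∈ IsLocalRing.maximalIdeal _ *
      RingHom.ker (((i ≫ j).stalkMap z).hom : X.presheaf.stalk (j (i z)) →+* _)) :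
    x ∈ IsLocalRing.maximalIdeal _ * RingHom.ker (j.stalkMap (i z)).hom := by
  refine mem_maximal_mul_of_functionals (resMap i j z) (fun c hc => ?_) _ x hx fun φ hφ => ?_
  · haveI : IsLocalHom ((i.stalkMap z).hom.comp (j.stalkMap (i z)).hom) := RingHom.isLocalHom_comp _ _
    exact (IsLocalRing.residue_eq_zero_iff _).mpr
      (map_nonunit ((i.stalkMap z).hom.comp (j.stalkMap (i z)).hom) c hc)
  obtain ⟨ev, hev⟩ := exists_ev i j z φ hφ
  obtain ⟨W₁, h₁, s, hs, hls⟩ := exists_rep_val_eq_zero i j hzU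
    (ρ ≫ (Scheme.Modules.restrictFunctor U.ι).map ev) x hxm
  obtain ⟨W₂, h₂, t, ht⟩ := exists_rep j (i z) x hx
  obtain ⟨W, hW, iW₁, iW₂, he⟩ := X.presheaf.germ_eq (j (i z)) h₁ h₂ _ _ (hs.trans ht.symm)
  have hst : idealSect (i ≫ j).ker W (rs (idl (i ≫ j)) iW₁.le s) = idealSect j.ker W (rs (idl j) iW₂.le t) := by
    rw [Groth.L19.OmegaSh.idealSect_rs, Groth.L19.OmegaSh.idealSect_rs]
    exact he
  have ht' : X.presheaf.germ W (j (i z)) hW (idealSect j.ker W (rs (idl j) iW₂.le t)) = x := by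
    rw [Groth.L19.OmegaSh.idealSect_rs]
    exact (X.presheaf.germ_res_apply _ _ _ _).trans ht
  have h1 := val_of_conormalMap i j a ha ρ hρ ev W _ _ hst
  rw [val_rs, hls] at h1
  have h1' := (h1.trans ((congrArg (rs (sky z) (opn_le (U := U) (i ≫ j) W)) (hev W hW _)).trans
    (rs_cstS z (opn_le (U := U) (i ≫ j) W) _)))
  have h2 := cst_eq_zero (mem_opn (i ≫ j) hzU hW) (h1'.symm.trans (map_zero _))
  rwa [show (⟨_, germ_idealSect_mem j (i z) hW (rs (idl j) iW₂.le t)⟩ : RingHom.ker (j.stalkMap (i z)).hom) =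
    ⟨x, hx⟩ from Subtype.ext ht'] at h2

end Groth.L07.ConormalPoint
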