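import Groth.Agent.L07.CIFibre
import Mathlib.RingTheory.RegularLocalRing.Polynomial
import Mathlib.FieldTheory.IntermediateField.Adjoin.Basic
import Mathlib.RingTheory.Localization.BaseChange
import Mathlib.RingTheory.TensorProduct.Quotient
import Mathlib.RingTheory.PolynomialAlgebra

/-! Locally complete intersection rings along finitely generated field extensions. -/

namespace Groth.L07.CIExtension

open IsLocalRing TensorProduct Polynomial

set_option linter.style.haveILetI false
set_option maxSynthPendingDepth 3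

universe u

/-- All local rings are complete intersections. -/
def LocCI (A : Type u) [CommRing A] : Prop :=
  ∀ (p : Ideal A) [p.IsPrime], Pi1.IsCompleteIntersection (Localization.AtPrime p)

theorem locCI_of_isLocalization {A B : Type u} [CommRing A] [IsNoetherianRing A] [CommRing B] [Algebra A B]
    (M : Submonoid A) [IsLocalization M B] (h : LocCI A) : LocCI B := by
  intro P _
  haveI : IsNoetherianRing B := IsLocalization.isNoetherianRing M B inferInstance
  haveI : IsNoetherianRing (Localization.AtPrime P) := IsLocalization.isNoetherianRing P.primeCompl _ inferInstance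
  let p := P.comap (algebraMap A B)
  haveI : IsNoetherianRing (Localization.AtPrime p) := IsLocalization.isNoetherianRing p.primeCompl _ inferInstance
  haveI : IsLocalization.AtPrime (Localization.AtPrime P) p :=
    IsLocalization.isLocalization_isLocalization_atPrime_isLocalization M (Localization.AtPrime P) P
  exact Groth.L07.Avramov.isCompleteIntersection_of_ringEquiv
    (IsLocalization.algEquiv p.primeCompl (Localization.AtPrime p) (Localization.AtPrime P)).toRingEquiv (h p)

theorem locCI_of_ringEquiv {A B : Type u} [CommRing A] [IsNoetherianRing A] [CommRing B] (e : A ≃+* B)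
    (h : LocCI A) : LocCI B := by
  intro P _
  haveI : IsNoetherianRing B := isNoetherianRing_of_ringEquiv A e
  let p := P.comap e.toRingHom
  haveI : IsNoetherianRing (Localization.AtPrime P) := IsLocalization.isNoetherianRing P.primeCompl _ inferInstance
  haveI : IsNoetherianRing (Localization.AtPrime p) := IsLocalization.isNoetherianRing p.primeCompl _ inferInstance
  refine Groth.L07.Avramov.isCompleteIntersection_of_ringEquiv
    (IsLocalization.ringEquivOfRingEquiv (M := p.primeCompl) (T := P.primeCompl)
      (Localization.AtPrime p) (Localization.AtPrime P) e ?_) (h p)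
  ext x
  refine ⟨?_, fun hx => ⟨e.symm x, ?_, e.apply_symm_apply x⟩⟩
  · rintro ⟨y, hy, rfl⟩
    exact hy
  · show e (e.symm x) ∉ P
    rwa [e.apply_symm_apply]

/-- Complete intersections are stable along flat maps with complete intersection fibres. -/
theorem locCI_of_flat {A B : Type u} [CommRing A] [IsNoetherianRing A] [CommRing B] [IsNoetherianRing B]
    [Algebra A B] [Module.Flat A B] (hA : LocCI A)
    (hfib : ∀ (q : Ideal A) [q.IsPrime], LocCI (q.Fiber B)) : LocCI B := by
  intro Q _
  let q := Q.comap (algebraMap A B)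
  haveI : Q.LiesOver q := ⟨rfl⟩
  obtain ⟨i, hl, -, hf, P, hP, ⟨e⟩⟩ := Groth.L07.CIFibre.exists_local_map q Q
  letI := i
  haveI := hl
  haveI := hf
  haveI : IsNoetherianRing (Localization.AtPrime q) := IsLocalization.isNoetherianRing q.primeCompl _ inferInstance
  haveI : IsNoetherianRing (Localization.AtPrime Q) := IsLocalization.isNoetherianRing Q.primeCompl _ inferInstance
  haveI : IsNoetherianRing (EGA4.FibRing (Localization.AtPrime q) (Localization.AtPrime Q)) :=
    inferInstanceAs (IsNoetherianRing (_ ⧸ EGA4.mB _ _))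
  haveI : IsNoetherianRing (Localization.AtPrime P) := isNoetherianRing_of_ringEquiv _ e.symm
  exact (Groth.L07.Avramov.isCompleteIntersection_iff _).mpr
    ⟨hA q, Groth.L07.Avramov.isCompleteIntersection_of_ringEquiv e (hfib q P)⟩

/-- Quotients of a polynomial ring in one variable over a field. -/
theorem locCI_poly_quot (L : Type u) [Field L] (g : L[X]) : LocCI (L[X] ⧸ Ideal.span {g}) := by
  intro P _
  let π := Ideal.Quotient.mk (Ideal.span {g})
  let Q := P.comap π
  haveI : IsRegularLocalRing (Localization.AtPrime Q) := IsRegularRing.isRegularLocalRing_localization Q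
  haveI : IsNoetherianRing (Localization.AtPrime P) := IsLocalization.isNoetherianRing P.primeCompl _ inferInstance
  let φ : Localization.AtPrime Q →+* Localization.AtPrime P := Localization.localRingHom Q P π rfl
  have hφ : Function.Surjective φ := by
    intro z
    obtain ⟨a, ⟨s, hs⟩, rfl⟩ := IsLocalization.exists_mk'_eq P.primeCompl z
    obtain ⟨a, rfl⟩ := Ideal.Quotient.mk_surjective a
    obtain ⟨s, rfl⟩ := Ideal.Quotient.mk_surjective s
    exact ⟨IsLocalization.mk' _ a (⟨s, hs⟩ : Q.primeCompl), Localization.localRingHom_mk' Q P π rfl a ⟨s, hs⟩⟩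
  have hker : RingHom.ker φ = Ideal.span {algebraMap L[X] (Localization.AtPrime Q) g} := by
    rw [← Set.image_singleton, ← Ideal.map_span]
    refine le_antisymm (fun z hz => ?_) (Ideal.map_le_iff_le_comap.mpr fun x hx => ?_)
    · obtain ⟨c, ⟨s, hs⟩, rfl⟩ := IsLocalization.exists_mk'_eq Q.primeCompl z
      rw [RingHom.mem_ker, Localization.localRingHom_mk', IsLocalization.mk'_eq_zero_iff] at hz
      obtain ⟨⟨t, ht⟩, htc⟩ := hz
      obtain ⟨t, rfl⟩ := Ideal.Quotient.mk_surjective t
      rw [IsLocalization.mk'_mem_map_algebraMap_iff Q.primeCompl]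
      exact ⟨t, ht, Ideal.Quotient.eq_zero_iff_mem.mp ((map_mul π t c).trans htc)⟩
    · rw [Ideal.mem_comap, RingHom.mem_ker, Localization.localRingHom_to_map,
        show π x = 0 from Ideal.Quotient.eq_zero_iff_mem.mpr hx, map_zero]
  refine Groth.L07.RegQuot.isCompleteIntersection_of_isRegularIdeal φ hφ ?_
  by_cases hg : g = 0
  · refine ⟨[], ⟨RingTheory.Sequence.IsWeaklyRegular.nil _ _, ?_⟩, ?_⟩
    · rw [Ideal.ofList_nil, Submodule.bot_smul]; exact top_ne_bot
    · rw [hker, Ideal.ofList_nil]; simp [hg]
  · have hmem : ∀ r ∈ [g], r ∈ Q := fun r hr => by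
      rw [List.mem_singleton.mp hr]
      show π g ∈ P
      rw [show π g = 0 from Ideal.Quotient.eq_zero_iff_mem.mpr (Ideal.mem_span_singleton_self g)]
      exact zero_mem _
    have hreg : RingTheory.Sequence.IsWeaklyRegular L[X] [g] :=
      (RingTheory.Sequence.isWeaklyRegular_singleton_iff _ _).mpr (isSMulRegular_iff_right_eq_zero_of_smul.mpr
        fun x hx => (mul_eq_zero.mp hx).resolve_left hg)
    refine ⟨_, hreg.isRegular_of_isLocalization_of_mem _ Q hmem, ?_⟩
    rw [hker, List.map_singleton, Ideal.ofList_singleton]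

/-- Adjoining one element. -/
theorem locCI_adjoin_simple {F : Type u} [Field F] {K : Type u} [Field K] [Algebra F K] (x : K)
    (hK : IntermediateField.adjoin F {x} = ⊤) (R : Type u) [CommRing R] [Algebra F R] [IsNoetherianRing R]
    (hR : LocCI R) : IsNoetherianRing (R ⊗[F] K) ∧ LocCI (R ⊗[F] K) := by
  obtain ⟨f, hf⟩ := IsPrincipalIdealRing.principal (RingHom.ker (aeval (R := F) x).toRingHom)
  let T := F[X] ⧸ Ideal.span {f}
  let ι : T →ₐ[F] K := Ideal.Quotient.liftₐ _ (aeval (R := F) x) fun a ha => hf.ge ha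
  have hι : Function.Injective ι := by
    intro a b hab
    obtain ⟨a, rfl⟩ := Ideal.Quotient.mk_surjective a
    obtain ⟨b, rfl⟩ := Ideal.Quotient.mk_surjective b
    refine Ideal.Quotient.eq.mpr (hf.le ?_)
    show aeval x (a - b) = 0
    rw [map_sub, sub_eq_zero]
    exact hab
  letI : Algebra T K := ι.toRingHom.toAlgebra
  haveI : IsScalarTower F T K := IsScalarTower.of_algebraMap_eq fun a => (ι.commutes a).symm
  haveI : FaithfulSMul T K := (faithfulSMul_iff_algebraMap_injective T K).mpr hι
  haveI : IsFractionRing T K := IsFractionRing.of_field T K fun z => by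
    obtain ⟨r, s, rfl⟩ := (IntermediateField.mem_adjoin_simple_iff F z).mp (hK ▸ IntermediateField.mem_top)
    exact ⟨Ideal.Quotient.mk _ r, Ideal.Quotient.mk _ s, rfl⟩
  haveI : Algebra.FiniteType R (R ⊗[F] T) := inferInstance
  haveI : IsNoetherianRing (R ⊗[F] T) := Algebra.FiniteType.isNoetherianRing R _
  have hRT : LocCI (R ⊗[F] T) := by
    refine locCI_of_flat hR fun q _ => ?_
    let κ := q.ResidueField
    let e₁ : q.Fiber (R ⊗[F] T) ≃+* κ ⊗[F] T :=
      (Algebra.TensorProduct.cancelBaseChange F R κ κ T).toRingEquiv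
    let e₂ : κ ⊗[F] T ≃+* (κ ⊗[F] F[X]) ⧸ (Ideal.span {f}).map (Algebra.TensorProduct.includeRight (R := F) (A := κ)) :=
      (Algebra.TensorProduct.tensorQuotientEquiv (R := F) κ F[X] κ (Ideal.span {f})).toRingEquiv
    let e₃ : κ[X] ≃+* κ ⊗[F] F[X] := (polyEquivTensor' F κ).toRingEquiv
    let e₄ : κ[X] ⧸ Ideal.span {e₃.symm (1 ⊗ₜ f)} ≃+*
        (κ ⊗[F] F[X]) ⧸ (Ideal.span {f}).map (Algebra.TensorProduct.includeRight (R := F) (A := κ)) :=
      Ideal.quotientEquiv _ _ e₃ (by
        rw [Ideal.map_span, Ideal.map_span, Set.image_singleton, Set.image_singleton,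
          Algebra.TensorProduct.includeRight_apply]
        congr 2
        exact (e₃.apply_symm_apply _).symm)
    haveI : IsNoetherianRing (κ[X] ⧸ Ideal.span {e₃.symm ((1 : κ) ⊗ₜ[F] f)}) := inferInstance
    exact locCI_of_ringEquiv (e₄.trans (e₂.symm.trans e₁.symm)) (locCI_poly_quot κ _)
  letI : Algebra (R ⊗[F] T) (R ⊗[F] K) :=
    (Algebra.TensorProduct.map (AlgHom.id R R) (IsScalarTower.toAlgHom F T K)).toRingHom.toAlgebra
  haveI : IsScalarTower R (R ⊗[F] T) (R ⊗[F] K) := IsScalarTower.of_algebraMap_eq fun r => by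
    show r ⊗ₜ[F] (1 : K) = Algebra.TensorProduct.map (AlgHom.id R R) (IsScalarTower.toAlgHom F T K) (r ⊗ₜ 1)
    simp
  haveI := IsLocalization.tensorProduct_tensorProduct_right F R (nonZeroDivisors T) K (RingHom.ext fun t => by
    show Algebra.TensorProduct.map (AlgHom.id R R) (IsScalarTower.toAlgHom F T K) (1 ⊗ₜ t) =
      (1 : R) ⊗ₜ[F] algebraMap T K t
    simp)
  exact ⟨IsLocalization.isNoetherianRing
    ((nonZeroDivisors T).map (Algebra.TensorProduct.includeRight (R := F) (A := R))) _ inferInstance,
    locCI_of_isLocalization ((nonZeroDivisors T).map (Algebra.TensorProduct.includeRight (R := F) (A := R))) hRT⟩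

/-- Finitely generated field extensions. -/
theorem locCI_baseChange (k K R : Type u) [Field k] [Field K] [Algebra k K]
    (hK : ∃ s : Finset K, IntermediateField.adjoin k (s : Set K) = ⊤) [CommRing R] [Algebra k R]
    [IsNoetherianRing R] (hR : LocCI R) : IsNoetherianRing (K ⊗[k] R) ∧ LocCI (K ⊗[k] R) := by
  obtain ⟨s, hs⟩ := hK
  suffices h : IsNoetherianRing ((IntermediateField.adjoin k (s : Set K)) ⊗[k] R) ∧
      LocCI ((IntermediateField.adjoin k (s : Set K)) ⊗[k] R) by
    haveI := h.1
    let e : (IntermediateField.adjoin k (s : Set K)) ⊗[k] R ≃+* K ⊗[k] R :=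
      (Algebra.TensorProduct.congr ((IntermediateField.equivOfEq hs).trans IntermediateField.topEquiv)
        AlgEquiv.refl).toRingEquiv
    exact ⟨isNoetherianRing_of_ringEquiv _ e, locCI_of_ringEquiv e h.2⟩
  refine IntermediateField.induction_on_adjoin_finset s
    (fun F => IsNoetherianRing (F ⊗[k] R) ∧ LocCI (F ⊗[k] R)) ?_ ?_
  · let e : R ≃+* (⊥ : IntermediateField k K) ⊗[k] R :=
      ((Algebra.TensorProduct.lid k R).symm.trans
        (Algebra.TensorProduct.congr (IntermediateField.botEquiv k K).symm AlgEquiv.refl)).toRingEquiv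
    exact ⟨isNoetherianRing_of_ringEquiv _ e, locCI_of_ringEquiv e hR⟩
  · rintro F x - ⟨hn, hF⟩
    haveI := hn
    let F' := IntermediateField.adjoin F {x}
    have htop : IntermediateField.adjoin F {(⟨x, IntermediateField.mem_adjoin_simple_self F x⟩ : F')} = ⊤ := by
      apply IntermediateField.map_injective F'.val
      rw [IntermediateField.adjoin_map, Set.image_singleton, ← AlgHom.fieldRange_eq_map, IntermediateField.fieldRange_val]
      rfl
    obtain ⟨h1, h2⟩ := locCI_adjoin_simple _ htop ((F : Type u) ⊗[k] R) hF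
    haveI := h1
    let e : ((F : Type u) ⊗[k] R) ⊗[F] F' ≃+* (F'.restrictScalars k) ⊗[k] R :=
      ((Algebra.TensorProduct.comm F ((F : Type u) ⊗[k] R) F').trans
        ((Algebra.TensorProduct.cancelBaseChange k F F F' R))).toRingEquiv
    exact ⟨isNoetherianRing_of_ringEquiv _ e, locCI_of_ringEquiv e h2⟩

end Groth.L07.CIExtension
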