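import Groth.Agent.L07.TorFlat
import Groth.Agent.L07.AvramovCore
import Groth.Agent.S0563

/-! Complete intersection homomorphisms and finite Tor-dimension. -/

namespace Groth.L07.CIHom

open CategoryTheory CategoryTheory.Limits IsLocalRing Groth.L07.DiagRes Groth.L07.RegIdeal

set_option linter.style.haveILetI false
set_option maxSynthPendingDepth 3

universe u

variable {A C : Type u} [CommRing A] [IsLocalRing A] [IsNoetherianRing A] [CommRing C] [IsLocalRing C]
  [IsNoetherianRing C] [Algebra A C] [IsLocalHom (algebraMap A C)] [Module.Flat A C]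

/-- Finitely many Tor modules against the residue field give a finite resolution over `C`. -/
theorem res_of_finite_tor (hfib : IsRegularLocalRing (EGA4.FibRing A C)) (M : Type u) [AddCommGroup M]
    [Module C M] [Module A M] [IsScalarTower A C M] [Module.Finite C M] (κ : Type u) [AddCommGroup κ]
    [Module A κ] (e : κ ≃ₗ[A] A ⧸ maximalIdeal A)
    (h : Set.Finite {p : ℕ | ¬Subsingleton (DRing.Tor A p M κ)}) : ∃ n, Res C n M := by
  obtain ⟨n, hn⟩ := h.bddAbove
  have h0 : Subsingleton (DRing.Tor A (n + 1) M κ) := by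
    by_contra hc
    exact Nat.not_succ_le_self n (hn hc)
  have hQ := Groth.L07.TorFlat.flat_of_tor_residue (C := C) M n κ e (@ModuleCat.isZero_of_subsingleton A _ _ h0)
  haveI := hQ
  haveI := hfib
  let eF : EGA4.FibRing A C ≃ₐ[C] TensorProduct A C (A ⧸ maximalIdeal A) :=
    Algebra.TensorProduct.quotIdealMapEquivTensorQuot C (maximalIdeal A)
  haveI : IsRegularLocalRing (TensorProduct A C (A ⧸ maximalIdeal A)) :=
    IsRegularLocalRing.of_ringEquiv eF.toRingEquiv
  obtain ⟨d, hd⟩ := Groth.L01.exists_dim_eq_nat (R := TensorProduct A C (A ⧸ maximalIdeal A))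
  exact ⟨n + d, Groth.L07.TorFlat.res_of_res_Q M n d (Groth.L07.FibreRes.res_of_fibre (A := A) (C := C)
    (maximalIdeal A) (IsLocalRing.map_maximalIdeal_le (algebraMap A C)) d _ (Groth.Agent.S0563.result _ d hd _))⟩

omit [IsLocalRing A] [IsNoetherianRing A] [IsLocalHom (algebraMap A C)] in
/-- The quotient by a regular sequence has finite Tor-dimension over the base. -/
theorem hasFiniteTorDim_quotient (rs : List C) (h : RingTheory.Sequence.IsRegular C rs)
    (M : Type u) [AddCommGroup M] [Module A M] (e : (C ⧸ Ideal.ofList rs) ≃ₗ[A] M) :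
    DRing.HasFiniteTorDim A M := by
  have hmem : ∀ r ∈ rs, r ∈ maximalIdeal C := fun r hr =>
    le_maximalIdeal (fun htop => h.top_ne_smul (by rw [smul_eq_mul, Ideal.mul_top]; exact htop.symm))
      (Ideal.subset_span (s := {x | x ∈ rs}) hr)
  have h1 := ModuleCat.projectiveDimension_quotient_eq_add_length_of_isWeaklyRegular (ModuleCat.of C C) rs h.1 hmem
  have h2 : CategoryTheory.projectiveDimension (ModuleCat.of C C) ≤ (0 : ℕ) := by
    rw [projectiveDimension_le_iff, HasProjectiveDimensionLE, ← projective_iff_hasProjectiveDimensionLT_one,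
      ← IsProjective.iff_projective]
    infer_instance
  have h3 : CategoryTheory.projectiveDimension
      (ModuleCat.of C (C ⧸ Ideal.ofList rs • (⊤ : Submodule C C))) ≤ (rs.length : ℕ) :=
    h1.le.trans ((add_le_add h2 le_rfl).trans (by simp))
  rw [projectiveDimension_le_iff] at h3
  obtain ⟨n, hn⟩ := Groth.L07.TorFlat.hasFiniteTorDim_of_pd (A := A) (C ⧸ Ideal.ofList rs • (⊤ : Submodule C C))
    rs.length h3
  exact ⟨n, hasTorDimLE_congr (((Submodule.quotEquivOfEq _ (Ideal.ofList rs)
    (by rw [smul_eq_mul, Ideal.mul_top])).restrictScalars A) ≪≫ₗ e) hn⟩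

omit [IsLocalRing A] [IsNoetherianRing A] [IsLocalHom (algebraMap A C)] in
/-- A quotient algebra by a regular sequence has finite Tor-dimension over the base. -/
theorem hasFiniteTorDim_of_surjective {B : Type u} [CommRing B] [Algebra C B] [Algebra A B] [IsScalarTower A C B]
    (hB : Function.Surjective (algebraMap C B)) (rs : List C) (h : RingTheory.Sequence.IsRegular C rs)
    (hker : Ideal.ofList rs = RingHom.ker (algebraMap C B)) : DRing.HasFiniteTorDim A B := by
  let ψ : C →ₐ[A] B := IsScalarTower.toAlgHom A C B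
  have hψ : Function.Surjective ψ := hB
  have hk : Ideal.ofList rs = RingHom.ker ψ := hker
  exact hasFiniteTorDim_quotient rs h B
    ((Ideal.quotientEquivAlgOfEq A hk).trans (Ideal.quotientKerAlgEquivOfSurjective hψ)).toLinearEquiv

end Groth.L07.CIHom
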