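import Groth.Agent.L07.CIFactor
import Groth.Agent.L07.TransFibre
import Groth.Agent.L07.AvramovDiagram
import Groth.Agent.S5068

/-! Independence of the factorization. -/

namespace Groth.L07.CIIndep

open IsLocalRing RingTheory.Sequence Groth.L07.RegIdeal

set_option linter.style.haveILetI false
set_option maxSynthPendingDepth 3

universe u

set_option linter.unusedVariables false in
/-- A surjection between flat algebras with regular fibres does not change regularity of kernels. -/
theorem regular_ker_comp_iff {A C S B : Type u} [CommRing A] [IsLocalRing A] [IsNoetherianRing A]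
    [CommRing C] [IsLocalRing C] [IsNoetherianRing C] [CommRing S] [IsLocalRing S] [IsNoetherianRing S]
    [CommRing B] [IsLocalRing B] [Algebra A C] [IsLocalHom (algebraMap A C)] [Module.Flat A C]
    [Algebra A S] [IsLocalHom (algebraMap A S)] [Module.Flat A S]
    (hC : IsRegularLocalRing (EGA4.FibRing A C)) (hS : IsRegularLocalRing (EGA4.FibRing A S))
    (π : C →ₐ[A] S) (hπ : Function.Surjective π) (g : S →+* B) (hg : Function.Surjective g) :
    CInt.IsRegularIdeal (RingHom.ker (g.comp π.toRingHom)) ↔ CInt.IsRegularIdeal (RingHom.ker g) := by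
  classical
  letI : Algebra C S := π.toRingHom.toAlgebra
  haveI : IsScalarTower A C S := IsScalarTower.of_algebraMap_eq fun x => (π.commutes x).symm
  have hsurj : Function.Surjective (algebraMap C S) := hπ
  haveI := hC; haveI := hS
  let L := RingHom.ker (algebraMap C S)
  let K := RingHom.ker (g.comp π.toRingHom)
  have hLK : L ≤ K := fun x hx => by
    show g (π x) = 0
    rw [show π x = 0 from hx, map_zero]
  have hK : K ≠ ⊤ := RingHom.ker_ne_top _
  have hKm : K ≤ maximalIdeal C := le_maximalIdeal hK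
  have hmapg : K.map π.toRingHom = RingHom.ker g := Ideal.map_comap_of_surjective π.toRingHom hπ (RingHom.ker g)
  let e : (C ⧸ L) ≃+* S := RingHom.quotientKerEquivOfSurjective hsurj
  haveI : IsLocalRing (C ⧸ L) := Groth.L01.isLocalRing_quotient (RingHom.ker_ne_top _)
  have hcomp : ((e : (C ⧸ L) →+* S)).comp (Ideal.Quotient.mk L) = π.toRingHom := RingHom.ext fun x => rfl
  have hquot : CInt.IsRegularIdeal (K.map (Ideal.Quotient.mk L)) ↔ CInt.IsRegularIdeal (RingHom.ker g) := by
    constructor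
    · intro h
      have h1 := Groth.L07.CIFactor.isRegularIdeal_equiv e h
      rwa [Ideal.map_map, hcomp, hmapg] at h1
    · intro h
      have h1 := Groth.L07.CIFactor.isRegularIdeal_equiv e.symm h
      rw [← hmapg, ← hcomp, ← Ideal.map_map, Ideal.map_map (e : (C ⧸ L) →+* S)] at h1
      rwa [show ((e.symm : S →+* C ⧸ L)).comp (e : (C ⧸ L) →+* S) = RingHom.id _ from
        RingHom.ext e.symm_apply_apply, Ideal.map_id] at h1
  -- the fibre of `L`
  let Cb := EGA4.FibRing A C
  let mk : C →+* Cb := Ideal.Quotient.mk (EGA4.mB A C)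
  let Lb := L.map mk
  have hmap : (EGA4.mB A C).map (algebraMap C S) = EGA4.mB A S := by
    rw [Ideal.map_map, ← IsScalarTower.algebraMap_eq]
  let pb : Cb →+* EGA4.FibRing A S :=
    Ideal.quotientMap (EGA4.mB A S) (algebraMap C S) (Ideal.map_le_iff_le_comap.mp hmap.le)
  have hpb : Function.Surjective pb := by
    intro b
    obtain ⟨b, rfl⟩ := Ideal.Quotient.mk_surjective b
    obtain ⟨c, rfl⟩ := hsurj b
    exact ⟨mk c, rfl⟩
  have hkpb : RingHom.ker pb = Lb := by
    apply le_antisymm
    · intro z hz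
      obtain ⟨c, rfl⟩ := Ideal.Quotient.mk_surjective z
      have h1 : algebraMap C S c ∈ (EGA4.mB A C).map (algebraMap C S) := by
        rw [hmap]; exact Ideal.Quotient.eq_zero_iff_mem.mp hz
      obtain ⟨c', hc', hcc⟩ := (Ideal.mem_map_iff_of_surjective _ hsurj).mp h1
      have h2 : mk c = mk (c - c') := by
        rw [map_sub, show mk c' = 0 from Ideal.Quotient.eq_zero_iff_mem.mpr hc', sub_zero]
      show mk c ∈ Lb
      rw [h2]
      exact Ideal.mem_map_of_mem _ (by rw [RingHom.mem_ker, map_sub, hcc, sub_self])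
    · refine Ideal.map_le_iff_le_comap.mpr fun c hc => ?_
      show Ideal.Quotient.mk _ (algebraMap C S c) = 0
      rw [RingHom.mem_ker.mp hc, map_zero]
  haveI : IsRegularLocalRing (Cb ⧸ Lb) := IsRegularLocalRing.of_ringEquiv
    ((Ideal.quotEquivOfEq hkpb.symm).trans (RingHom.quotientKerEquivOfSurjective hpb)).symm
  obtain ⟨-, k, fb, hfb, hind⟩ := Groth.L07.RegQuot.regular_quotient_data Lb inferInstance
  obtain ⟨n, f, hf⟩ := exists_isMin L
  have hindK : Indep K f := by
    intro c hc
    refine hf.2 c ?_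
    set x := ∑ i, c i * f i
    have hxL : x ∈ L := sum_mem fun i _ => Ideal.mul_mem_left _ _ (hf.1 ▸ Ideal.subset_span ⟨i, rfl⟩)
    have hx2 : mk x ∈ maximalIdeal Cb * maximalIdeal Cb := by
      have h1 : x ∈ maximalIdeal C * maximalIdeal C := Ideal.mul_mono_right hKm hc
      have h2 := Ideal.mem_map_of_mem mk h1
      rwa [Ideal.map_mul, IsLocalRing.map_maximalIdeal_of_surjective mk Ideal.Quotient.mk_surjective] at h2
    obtain ⟨a, ha⟩ := Ideal.mem_span_range_iff_exists_fun.mp (hfb.ge (Ideal.mem_map_of_mem mk hxL))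
    have hxL' : mk x ∈ maximalIdeal Cb * Lb := by
      rw [← ha]
      exact sum_mem fun i _ => Ideal.mul_mem_mul (hind a (ha.symm ▸ hx2) i) (hfb.le (Ideal.subset_span ⟨i, rfl⟩))
    have h3 : mk x ∈ (maximalIdeal C * L).map mk := by
      rwa [Ideal.map_mul, IsLocalRing.map_maximalIdeal_of_surjective mk Ideal.Quotient.mk_surjective]
    obtain ⟨w, hw, hwx⟩ := (Ideal.mem_map_iff_of_surjective mk Ideal.Quotient.mk_surjective).mp h3
    have h4 : x - w ∈ EGA4.mB A C := by rw [← Ideal.Quotient.eq]; exact hwx.symm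
    have h6 := Groth.L07.TransFibre.mem_smul_of_flat A C S hsurj (maximalIdeal A) (x - w) h4
      (sub_mem hxL (Ideal.mul_le_right hw))
    rw [show x = w + (x - w) by ring]
    refine add_mem hw ?_
    exact (Submodule.smul_mono (IsLocalRing.map_maximalIdeal_le (algebraMap A C)) le_rfl) h6
  constructor
  · intro h
    exact hquot.mp (isRegularIdeal_of_indep hLK h hf.1 hindK).2
  · intro h
    haveI : IsNoetherianRing (EGA4.FibRing A S) := inferInstanceAs (IsNoetherianRing (S ⧸ EGA4.mB A S))
    obtain ⟨rs, hrs, htr⟩ := (Groth.Agent.S5068.result A C S hC hsurj).mpr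
      ⟨inferInstance, Groth.L07.CIFibre.isCompleteIntersection_of_regular _⟩
    refine Groth.Agent.S2836.result C L K hLK hKm ⟨rs, ⟨htr.1, ?_⟩, hrs⟩ (hquot.mpr h)
    rw [smul_eq_mul, Ideal.mul_top, hrs]
    exact (RingHom.ker_ne_top _).symm

/-- Completing the middle ring. -/
theorem exists_completed {A S B : Type u} [CommRing A] [IsLocalRing A] [IsNoetherianRing A]
    [CommRing S] [IsLocalRing S] [IsNoetherianRing S] [CommRing B] [IsLocalRing B] [IsNoetherianRing B]
    [IsAdicComplete (maximalIdeal B) B] [Algebra A B] [Algebra A S] [IsLocalHom (algebraMap A S)]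
    [Module.Flat A S] (hS : IsRegularLocalRing (EGA4.FibRing A S)) (g : S →ₐ[A] B) (hg : Function.Surjective g) :
    ∃ (T : Type u) (_ : CommRing T) (_ : IsLocalRing T) (_ : IsNoetherianRing T)
      (_ : IsAdicComplete (maximalIdeal T) T) (_ : Algebra A T) (_ : IsLocalHom (algebraMap A T))
      (_ : Module.Flat A T) (h : T →ₐ[A] B), IsRegularLocalRing (EGA4.FibRing A T) ∧ Function.Surjective h ∧
        (CInt.IsRegularIdeal (RingHom.ker h) ↔ CInt.IsRegularIdeal (RingHom.ker g)) := by
  let Sh := AdicCompletion (maximalIdeal S) S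
  haveI : IsNoetherianRing Sh := Groth.L01.AnalUnram.isNoetherianRing_completion S
  have hmS : (maximalIdeal S).map (algebraMap S Sh) = maximalIdeal Sh :=
    Groth.L01.AnalUnram.completion_map_maximalIdeal S
  have hmB : (maximalIdeal S).map g.toRingHom = maximalIdeal B :=
    IsLocalRing.map_maximalIdeal_of_surjective g.toRingHom hg
  obtain ⟨φ, hφ, hφm⟩ := Groth.L01.CompletionExt.exists_extend g.toRingHom hmB.le
  have hc : ∀ a, φ (algebraMap A Sh a) = algebraMap A B a := fun a => by
    rw [IsScalarTower.algebraMap_apply A S Sh, hφ]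
    exact g.commutes a
  let h : Sh →ₐ[A] B := { φ with commutes' := hc }
  have hsurj : Function.Surjective h := fun b => by
    obtain ⟨s, rfl⟩ := hg b
    exact ⟨algebraMap S Sh s, hφ s⟩
  haveI : IsLocalHom (algebraMap S Sh) :=
    ((IsLocalRing.local_hom_TFAE (algebraMap S Sh)).out 0 2).mpr hmS.le
  haveI : IsLocalHom (algebraMap A Sh) := by
    rw [IsScalarTower.algebraMap_eq A S Sh]
    exact RingHom.isLocalHom_comp _ _
  haveI : Module.Flat A Sh := Module.Flat.trans A S Sh
  have hker : RingHom.ker φ = (RingHom.ker g.toRingHom).map (algebraMap S Sh) := by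
    refine le_antisymm (fun x hx => ?_) (Ideal.map_le_iff_le_comap.mpr fun s hs => by
      rw [Ideal.mem_comap, RingHom.mem_ker, hφ]; exact hs)
    let N := (RingHom.ker g.toRingHom).map (algebraMap S Sh)
    have hN : N ≠ ⊤ := ne_top_of_le_ne_top (maximalIdeal.isMaximal Sh).ne_top (by
      rw [← hmS]; exact Ideal.map_mono (le_maximalIdeal (RingHom.ker_ne_top _)))
    haveI : IsLocalRing (Sh ⧸ N) := Groth.L01.isLocalRing_quotient hN
    rw [← Ideal.Quotient.eq_zero_iff_mem]
    have h2 : Ideal.Quotient.mk N x ∈ ⨅ k, maximalIdeal (Sh ⧸ N) ^ k := by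
      refine Submodule.mem_iInf _ |>.mpr fun k => ?_
      obtain ⟨s, hs⟩ := Groth.L01.CompletionExt.exists_sub_mem_pow k x
      have h3 : g.toRingHom s ∈ (maximalIdeal S ^ k).map g.toRingHom := by
        rw [Ideal.map_pow, hmB, ← hφ]
        have h4 := Ideal.mem_map_of_mem φ hs
        rw [Ideal.map_pow, map_sub, RingHom.mem_ker.mp hx, zero_sub, neg_mem_iff] at h4
        exact Ideal.pow_right_mono hφm k h4
      obtain ⟨w, hw, hws⟩ := (Ideal.mem_map_iff_of_surjective g.toRingHom hg).mp h3
      rw [← IsLocalRing.map_maximalIdeal_of_surjective (Ideal.Quotient.mk N) Ideal.Quotient.mk_surjective,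
        ← Ideal.map_pow, show x = (x - algebraMap S Sh s) + (algebraMap S Sh (s - w) + algebraMap S Sh w) by
          rw [map_sub]; ring, map_add, map_add,
        show Ideal.Quotient.mk N (algebraMap S Sh (s - w)) = 0 from Ideal.Quotient.eq_zero_iff_mem.mpr
          (Ideal.mem_map_of_mem _ (by rw [RingHom.mem_ker, map_sub, hws, sub_self])), zero_add]
      refine add_mem (Ideal.mem_map_of_mem _ hs) (Ideal.mem_map_of_mem _ ?_)
      rw [← hmS, ← Ideal.map_pow]
      exact Ideal.mem_map_of_mem _ hw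
    rw [Ideal.iInf_pow_eq_bot_of_isLocalRing _ (maximalIdeal.isMaximal (Sh ⧸ N)).ne_top, Submodule.mem_bot] at h2
    exact h2
  have hfib : IsRegularLocalRing (EGA4.FibRing A Sh) := by
    have hfib' : EGA4.mB A Sh = (EGA4.mB A S).map (algebraMap S Sh) := by
      show (maximalIdeal A).map (algebraMap A Sh) = _
      rw [Ideal.map_map, ← IsScalarTower.algebraMap_eq]
    haveI : IsNoetherianRing (EGA4.FibRing A S) := inferInstanceAs (IsNoetherianRing (S ⧸ EGA4.mB A S))
    obtain ⟨F⟩ := Groth.L07.RegQuot.exists_completionQuotEquiv (A := S) (Ideal.Quotient.mk (EGA4.mB A S))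
      Ideal.Quotient.mk_surjective
    haveI : IsRegularLocalRing (AdicCompletion (maximalIdeal (EGA4.FibRing A S)) (EGA4.FibRing A S)) :=
      (Groth.L01.CompletionReg.isRegularLocalRing_iff_completion (EGA4.FibRing A S)).mp hS
    exact IsRegularLocalRing.of_ringEquiv ((Ideal.quotEquivOfEq (hfib'.trans (by rw [Ideal.mk_ker]))).trans F).symm
  refine ⟨Sh, inferInstance, inferInstance, inferInstance, inferInstance, inferInstance, inferInstance,
    inferInstance, h, hfib, hsurj, ?_⟩
  show CInt.IsRegularIdeal (RingHom.ker φ) ↔ CInt.IsRegularIdeal (RingHom.ker g.toRingHom)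
  rw [hker]
  exact ⟨Groth.L07.AvramovCore.isRegularIdeal_of_map, Groth.L07.AvramovCore.isRegularIdeal_map⟩

/-- Noetherian modules along surjections of rings. -/
theorem isNoetherian_of_surjective_algebraMap (T S : Type u) [CommRing T] [CommRing S] [Algebra T S]
    [IsNoetherianRing S] (h : Function.Surjective (algebraMap T S)) : IsNoetherian T S := by
  let up : Submodule T S → Ideal S := fun P =>
    { carrier := P
      add_mem' := fun ha hb => P.add_mem ha hb
      zero_mem' := P.zero_mem
      smul_mem' := fun c x hx => by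
        obtain ⟨t, rfl⟩ := h c
        rw [smul_eq_mul, ← Algebra.smul_def]
        exact P.smul_mem t hx }
  rw [isNoetherian_iff']
  exact StrictMono.wellFoundedGT (f := up) fun P Q hPQ => hPQ

/-- The fibre product of two quotient maps is dominated by a single flat algebra with regular fibre. -/
theorem exists_dominating {A B S S' : Type u} [CommRing A] [IsLocalRing A] [IsNoetherianRing A]
    [IsAdicComplete (maximalIdeal A) A] [CommRing B] [IsLocalRing B] [IsNoetherianRing B]
    [IsAdicComplete (maximalIdeal B) B] [Algebra A B] [IsLocalHom (algebraMap A B)]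
    [CommRing S] [IsLocalRing S] [IsNoetherianRing S] [IsAdicComplete (maximalIdeal S) S] [Algebra A S]
    [CommRing S'] [IsLocalRing S'] [IsNoetherianRing S'] [IsAdicComplete (maximalIdeal S') S'] [Algebra A S']
    (g : S →ₐ[A] B) (g' : S' →ₐ[A] B) (hg : Function.Surjective g) (hg' : Function.Surjective g') :
    ∃ (C : Type u) (_ : CommRing C) (_ : IsLocalRing C) (_ : IsNoetherianRing C) (_ : Algebra A C)
      (_ : IsLocalHom (algebraMap A C)) (_ : Module.Flat A C) (π : C →ₐ[A] S) (π' : C →ₐ[A] S'),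
      IsRegularLocalRing (EGA4.FibRing A C) ∧ Function.Surjective π ∧ Function.Surjective π' ∧
        g.comp π = g'.comp π' := by
  let T : Subalgebra A (S × S') :=
    AlgHom.equalizer (g.comp (AlgHom.fst A S S')) (g'.comp (AlgHom.snd A S S'))
  let p₁ : T →ₐ[A] S := (AlgHom.fst A S S').comp T.val
  let p₂ : T →ₐ[A] S' := (AlgHom.snd A S S').comp T.val
  have hp₁ : Function.Surjective p₁ := fun s => by
    obtain ⟨s', hs'⟩ := hg' (g s)
    exact ⟨⟨(s, s'), hs'.symm⟩, rfl⟩
  have hp₂ : Function.Surjective p₂ := fun s' => by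
    obtain ⟨s, hs⟩ := hg (g' s')
    exact ⟨⟨(s, s'), hs⟩, rfl⟩
  have heq : ∀ t, g (p₁ t) = g' (p₂ t) := fun t => t.2
  haveI : Nontrivial T := p₁.toRingHom.domain_nontrivial
  have hunit : ∀ t : T, IsUnit (g (p₁ t)) → IsUnit t := by
    intro t ht
    haveI : IsLocalHom g.toRingHom := IsLocalHom.of_surjective _ hg
    haveI : IsLocalHom g'.toRingHom := IsLocalHom.of_surjective _ hg'
    obtain ⟨u, hu⟩ := (isUnit_map_iff g.toRingHom (p₁ t)).mp ht
    obtain ⟨u', hu'⟩ := (isUnit_map_iff g'.toRingHom (p₂ t)).mp (heq t ▸ ht)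
    have h1 : g ((u⁻¹ : Sˣ) : S) = g' ((u'⁻¹ : S'ˣ) : S') := by
      refine ht.mul_left_cancel ?_
      calc g (p₁ t) * g ((u⁻¹ : Sˣ) : S) = g (p₁ t * ((u⁻¹ : Sˣ) : S)) := (map_mul _ _ _).symm
        _ = 1 := by rw [← hu, Units.mul_inv, map_one]
        _ = g' (p₂ t * ((u'⁻¹ : S'ˣ) : S')) := by rw [← hu', Units.mul_inv, map_one]
        _ = g (p₁ t) * g' ((u'⁻¹ : S'ˣ) : S') := by rw [map_mul, heq]
    refine isUnit_iff_exists_inv.mpr ⟨⟨(((u⁻¹ : Sˣ) : S), ((u'⁻¹ : S'ˣ) : S')), h1⟩, Subtype.ext ?_⟩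
    refine Prod.ext ?_ ?_
    · show p₁ t * ((u⁻¹ : Sˣ) : S) = 1
      rw [← hu, Units.mul_inv]
    · show p₂ t * ((u'⁻¹ : S'ˣ) : S') = 1
      rw [← hu', Units.mul_inv]
  let gT : T →+* B := g.toRingHom.comp p₁.toRingHom
  haveI : IsLocalHom gT := ⟨hunit⟩
  haveI : IsLocalRing T := RingHom.domain_isLocalRing gT
  haveI : IsNoetherianRing T := by
    letI : Algebra T S := p₁.toRingHom.toAlgebra
    letI : Algebra T S' := p₂.toRingHom.toAlgebra
    haveI : IsNoetherian T S := isNoetherian_of_surjective_algebraMap T S hp₁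
    haveI : IsNoetherian T S' := isNoetherian_of_surjective_algebraMap T S' hp₂
    letI : Module T (S × S') := Prod.instModule
    let ι : T →ₗ[T] S × S' := (Algebra.linearMap T S).prod (Algebra.linearMap T S')
    exact isNoetherian_of_injective ι fun a b h => Subtype.ext h
  let Th := AdicCompletion (maximalIdeal T) T
  haveI : IsNoetherianRing Th := Groth.L01.AnalUnram.isNoetherianRing_completion T
  obtain ⟨ψ₁, hψ₁, hψ₁m⟩ := Groth.L01.CompletionExt.exists_extend p₁.toRingHom
    (IsLocalRing.map_maximalIdeal_of_surjective p₁.toRingHom hp₁).le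
  obtain ⟨ψ₂, hψ₂, hψ₂m⟩ := Groth.L01.CompletionExt.exists_extend p₂.toRingHom
    (IsLocalRing.map_maximalIdeal_of_surjective p₂.toRingHom hp₂).le
  have hm₁ : (maximalIdeal S).map g.toRingHom = maximalIdeal B :=
    IsLocalRing.map_maximalIdeal_of_surjective g.toRingHom hg
  have hm₂ : (maximalIdeal S').map g'.toRingHom = maximalIdeal B :=
    IsLocalRing.map_maximalIdeal_of_surjective g'.toRingHom hg'
  have hψ : g.toRingHom.comp ψ₁ = g'.toRingHom.comp ψ₂ := by
    refine Groth.L01.CompletionExt.ext_of_hausdorff _ _ ?_ ?_ fun t => ?_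
    · rw [← Ideal.map_map]; exact (Ideal.map_mono hψ₁m).trans hm₁.le
    · rw [← Ideal.map_map]; exact (Ideal.map_mono hψ₂m).trans hm₂.le
    · show g (ψ₁ (algebraMap T Th t)) = g' (ψ₂ (algebraMap T Th t))
      rw [hψ₁, hψ₂]
      exact heq t
  haveI : IsLocalHom (algebraMap A T) := ⟨fun a ha => by
    refine (isUnit_map_iff (algebraMap A B) a).mp ?_
    have := ha.map gT
    rwa [show gT (algebraMap A T a) = algebraMap A B a from (g.comp p₁).commutes a] at this⟩
  haveI : IsLocalHom (algebraMap T Th) :=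
    ((IsLocalRing.local_hom_TFAE (algebraMap T Th)).out 0 2).mpr
      (Groth.L01.AnalUnram.completion_map_maximalIdeal T).le
  haveI : IsLocalHom (algebraMap A Th) := by
    rw [IsScalarTower.algebraMap_eq A T Th]
    exact RingHom.isLocalHom_comp _ _
  obtain ⟨D⟩ := Groth.L07.AvramovDiagram.nonempty_diagram (A := A) (B := Th)
  let IS := (RingHom.ker D.p).map (algebraMap D.R D.S)
  have hIS : IS ≤ RingHom.ker D.q := Ideal.map_le_iff_le_comap.mpr fun r hr => by
    rw [Ideal.mem_comap, RingHom.mem_ker, D.comm, RingHom.mem_ker.mp hr, map_zero]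
  haveI : IsLocalRing (D.S ⧸ IS) := Groth.L01.isLocalRing_quotient
    (ne_top_of_le_ne_top (RingHom.ker_ne_top D.q) hIS)
  letI : Algebra D.R A := D.p.toAlgebra
  let a : A →+* D.S ⧸ IS := (Ideal.quotientMap IS (algebraMap D.R D.S) (Ideal.map_le_iff_le_comap.mp le_rfl)).comp
    (RingHom.quotientKerEquivOfSurjective D.surjP).symm.toRingHom
  have ha : ∀ r, a (D.p r) = Ideal.Quotient.mk IS (algebraMap D.R D.S r) := fun r => by
    show Ideal.quotientMap IS (algebraMap D.R D.S)
      (Ideal.map_le_iff_le_comap.mp le_rfl : RingHom.ker D.p ≤ IS.comap (algebraMap D.R D.S))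
      ((RingHom.quotientKerEquivOfSurjective D.surjP).symm (D.p r)) = _
    rw [RingHom.quotientKerEquivOfSurjective_symm_apply D.surjP r]
    rfl
  letI : Algebra A (D.S ⧸ IS) := a.toAlgebra
  haveI : IsScalarTower D.R A (D.S ⧸ IS) := IsScalarTower.of_algebraMap_eq fun r => (ha r).symm
  haveI : Module.Flat A (D.S ⧸ IS) := Groth.L07.RegFlat.flat_quotient (B := D.R) (N := D.S) (RingHom.ker D.p)
    D.surjP rfl (N' := D.S ⧸ IS) (Ideal.Quotient.mkₐ D.R IS).toLinearMap Ideal.Quotient.mk_surjective (by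
      rw [Ideal.smul_top_eq_map]
      ext s
      exact Ideal.Quotient.eq_zero_iff_mem)
  let b : D.S ⧸ IS →+* Th := Ideal.Quotient.lift IS D.q fun s hs => hIS hs
  have hb : ∀ x, b (a x) = algebraMap A Th x := fun x => by
    obtain ⟨r, rfl⟩ := D.surjP x
    rw [ha, ← D.comm]
    rfl
  haveI : IsLocalHom (algebraMap A (D.S ⧸ IS)) := ⟨fun x hx => by
    refine (isUnit_map_iff (algebraMap A Th) x).mp ?_
    rw [← hb]
    exact hx.map b⟩
  have hfib : IsRegularLocalRing (EGA4.FibRing A (D.S ⧸ IS)) := by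
    haveI := D.fibre
    have h1 : EGA4.mB A (D.S ⧸ IS) = ((maximalIdeal D.R).map (algebraMap D.R D.S)).map (Ideal.Quotient.mk IS) := by
      show (maximalIdeal A).map a = _
      rw [← IsLocalRing.map_maximalIdeal_of_surjective D.p D.surjP, Ideal.map_map, Ideal.map_map]
      exact congrArg (fun φ => Ideal.map φ (maximalIdeal D.R)) (RingHom.ext ha)
    have h2 : IS ≤ (maximalIdeal D.R).map (algebraMap D.R D.S) :=
      Ideal.map_mono (le_maximalIdeal (RingHom.ker_ne_top D.p))
    exact IsRegularLocalRing.of_ringEquiv ((Ideal.quotEquivOfEq h1).trans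
      (DoubleQuot.quotQuotEquivQuotOfLE h2)).symm
  have hbs : Function.Surjective b := Ideal.Quotient.lift_surjective_of_surjective _ _ D.surjQ
  have hc₁ : ∀ x, ψ₁ (b (a x)) = algebraMap A S x := fun x => by
    rw [hb, IsScalarTower.algebraMap_apply A T Th, hψ₁]
    exact p₁.commutes x
  have hc₂ : ∀ x, ψ₂ (b (a x)) = algebraMap A S' x := fun x => by
    rw [hb, IsScalarTower.algebraMap_apply A T Th, hψ₂]
    exact p₂.commutes x
  let π : (D.S ⧸ IS) →ₐ[A] S := { ψ₁.comp b with commutes' := hc₁ }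
  let π' : (D.S ⧸ IS) →ₐ[A] S' := { ψ₂.comp b with commutes' := hc₂ }
  refine ⟨D.S ⧸ IS, inferInstance, inferInstance, inferInstance, inferInstance, inferInstance, inferInstance,
    π, π', hfib, fun s => ?_, fun s => ?_, AlgHom.ext fun c => RingHom.congr_fun hψ (b c)⟩
  · obtain ⟨t, rfl⟩ := hp₁ s
    obtain ⟨c, hc⟩ := hbs (algebraMap T Th t)
    exact ⟨c, (congrArg ψ₁ hc).trans (hψ₁ t)⟩
  · obtain ⟨t, rfl⟩ := hp₂ s
    obtain ⟨c, hc⟩ := hbs (algebraMap T Th t)
    exact ⟨c, (congrArg ψ₂ hc).trans (hψ₂ t)⟩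

end Groth.L07.CIIndep
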