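import Groth.Agent.L07.Chevalley
import Mathlib.RingTheory.IntegralClosure.GoingDown
import Mathlib.Algebra.Polynomial.Expand
import Mathlib.RingTheory.Spectrum.Prime.Topology

/-!
Chevalley's criterion without Noetherian hypotheses: quasi-finite morphisms to normal schemes which
send maximal points to maximal points are open.
-/

universe u

open CategoryTheory CategoryTheory.Limits AlgebraicGeometry TopologicalSpace Topology

namespace Groth.L07.Chevalley

open Groth.L07.Equidim Groth.L07.EquidimQF Groth.L22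

set_option maxSynthPendingDepth 3
set_option linter.style.haveILetI false
set_option backward.isDefEq.respectTransparency.types false
set_option backward.isDefEq.respectTransparency false

/-- An integral extension domain of a normal domain has open spectrum map. -/
theorem isOpenMap_comap_normal {B C : Type u} [CommRing B] [IsDomain B] [IsIntegrallyClosed B] [CommRing C]
    [IsDomain C] [Algebra B C] [FaithfulSMul B C] [Algebra.IsIntegral B C] :
    IsOpenMap (PrimeSpectrum.comap (algebraMap B C)) := by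
  rw [(PrimeSpectrum.isTopologicalBasis_basic_opens (R := C)).isOpenMap_iff]
  rintro _ ⟨c, rfl⟩
  set m := minpoly B c with hm
  have hc : IsIntegral B c := Algebra.IsIntegral.isIntegral c
  have hmon : m.Monic := minpoly.monic hc
  suffices h : PrimeSpectrum.comap (algebraMap B C) '' (PrimeSpectrum.basicOpen c : Set (PrimeSpectrum C)) =
      ⋃ i ∈ Finset.range m.natDegree, (PrimeSpectrum.basicOpen (m.coeff i) : Set (PrimeSpectrum B)) by
    rw [h]
    exact isOpen_biUnion fun i _ => (PrimeSpectrum.basicOpen (m.coeff i)).2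
  ext p
  simp only [Set.mem_iUnion, Set.mem_image, SetLike.mem_coe, PrimeSpectrum.mem_basicOpen, Finset.mem_range,
    exists_prop]
  constructor
  · rintro ⟨q, hq, rfl⟩
    by_contra! H
    apply hq
    refine q.2.mem_of_pow_mem m.natDegree ?_
    have h0 : Polynomial.aeval c m = 0 := minpoly.aeval B c
    rw [Polynomial.aeval_eq_sum_range, Finset.sum_range_succ, hmon.coeff_natDegree, one_smul] at h0
    rw [eq_neg_of_add_eq_zero_right h0]
    refine q.asIdeal.neg_mem (Ideal.sum_mem _ fun i hi => ?_)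
    rw [Algebra.smul_def]
    exact Ideal.mul_mem_right _ _ (H i (Finset.mem_range.mp hi))
  · rintro ⟨i, hi, hip⟩
    by_contra! H
    have hrad : c ∈ (p.asIdeal.map (algebraMap B C)).radical := by
      rw [Ideal.radical_eq_sInf, Ideal.mem_sInf]
      rintro Q ⟨hle, hQ⟩
      haveI := hQ
      haveI : Q.LiesOver (Q.under B) := ⟨rfl⟩
      haveI := p.2
      obtain ⟨P, hPle, hP, hPo⟩ := Ideal.exists_ideal_le_liesOver_of_le (p := p.asIdeal) Q
        (fun a ha => Ideal.mem_comap.mpr (hle (Ideal.mem_map_of_mem _ ha)))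
      by_contra hcQ
      exact H ⟨P, hP⟩ (fun h => hcQ (hPle h)) (PrimeSpectrum.ext hPo.over.symm)
    obtain ⟨k, hk⟩ := hrad
    replace hk : c ^ (k + 1) ∈ p.asIdeal.map (algebraMap B C) := by
      rw [pow_succ]; exact Ideal.mul_mem_right _ _ hk
    obtain ⟨F, hFm, hF0, hFc⟩ := Polynomial.exists_monic_aeval_eq_zero_forall_mem_of_mem_map hk
    have hG0 : Polynomial.aeval c (Polynomial.expand B (k + 1) F) = 0 := by rw [Polynomial.expand_aeval, hF0]
    have key := Polynomial.coeff_mem_radical_span_coeff_of_dvd _ _ (hFm.expand (Nat.succ_pos k)) hmon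
      (minpoly.isIntegrallyClosed_dvd hc hG0) i hi.ne
    refine hip ((p.2.radical_le_iff.mpr ?_) key)
    rw [Ideal.span_le]
    rintro _ ⟨j, hj, rfl⟩
    rw [Polynomial.natDegree_expand] at hj
    rw [Polynomial.coeff_expand (Nat.succ_pos k)]
    split_ifs with hdvd
    · obtain ⟨j, rfl⟩ := hdvd
      rw [Nat.mul_div_cancel_left j (Nat.succ_pos k)]
      refine hFc j (Nat.ne_of_lt ?_)
      rw [mul_comm (k + 1)] at hj
      exact Nat.lt_of_mul_lt_mul_right hj
    · exact zero_mem _

/-- Openness at a quasi-finite point over a normal domain. -/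
theorem image_mem_nhds_normal {B S : Type u} [CommRing B] [IsDomain B] [IsIntegrallyClosed B] [CommRing S]
    [IsDomain S] [Algebra B S] [Algebra.FiniteType B S] (hinj : Function.Injective (algebraMap B S))
    (q : PrimeSpectrum S) [Algebra.QuasiFiniteAt B q.asIdeal] {O : Set (PrimeSpectrum S)} (hO : IsOpen O)
    (hq : q ∈ O) :
    PrimeSpectrum.comap (algebraMap B S) '' O ∈ nhds (PrimeSpectrum.comap (algebraMap B S) q) := by
  obtain ⟨r, hr, hbij⟩ := Algebra.ZariskisMainProperty.of_finiteType (R := B) q.asIdeal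
  let C := integralClosure B S
  have hBC : Function.Injective (algebraMap B C) := fun a b h => hinj (congrArg Subtype.val h)
  haveI : FaithfulSMul B C := (faithfulSMul_iff_algebraMap_injective B C).mpr hBC
  let e : Localization.Away r ≃+* Localization.Away (C.val.toRingHom r) := RingEquiv.ofBijective _ hbij
  let kS := PrimeSpectrum.comap (algebraMap S (Localization.Away (C.val.toRingHom r)))
  have hkS : IsOpenEmbedding kS :=
    PrimeSpectrum.localization_away_isOpenEmbedding _ (C.val.toRingHom r)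
  have h1 : IsOpenMap (PrimeSpectrum.comap (algebraMap B (Localization.Away (C.val.toRingHom r)))) := by
    have e1 : algebraMap B (Localization.Away (C.val.toRingHom r)) =
        (e.toRingHom.comp (algebraMap C (Localization.Away r))).comp (algebraMap B C) := by
      refine RingHom.ext fun b => ?_
      show _ = Localization.awayMap C.val.toRingHom r (algebraMap C _ (algebraMap B C b))
      rw [IsScalarTower.algebraMap_apply B S (Localization.Away (C.val.toRingHom r))]
      exact (IsLocalization.map_eq (M := Submonoid.powers r) (S := Localization.Away r)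
        (Q := Localization.Away (C.val.toRingHom r)) (g := C.val.toRingHom) _ (algebraMap B C b)).symm
    rw [e1, PrimeSpectrum.comap_comp, PrimeSpectrum.comap_comp]
    exact isOpenMap_comap_normal.comp
      ((PrimeSpectrum.localization_away_isOpenEmbedding (Localization.Away r) r).isOpenMap.comp
        (PrimeSpectrum.homeomorphOfRingEquiv e).symm.isOpenMap)
  obtain ⟨q', hq'⟩ : q ∈ Set.range kS := by
    rw [show Set.range kS = _ from PrimeSpectrum.localization_away_comap_range _ (C.val.toRingHom r)]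
    exact hr
  have h2 := h1.image_mem_nhds (hkS.continuous.continuousAt.preimage_mem_nhds (hO.mem_nhds (hq' ▸ hq)) : kS ⁻¹' O ∈ nhds q')
  have hcomp : ∀ w, PrimeSpectrum.comap (algebraMap B (Localization.Away (C.val.toRingHom r))) w =
      PrimeSpectrum.comap (algebraMap B S) (kS w) := fun w => by
    rw [IsScalarTower.algebraMap_eq B S (Localization.Away (C.val.toRingHom r))]
    rfl
  rw [hcomp, hq'] at h2
  refine Filter.mem_of_superset h2 ?_
  rintro _ ⟨w, hw, rfl⟩
  exact ⟨kS w, hw, (hcomp w).symm⟩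

/-- A quasi-finite morphism to the spectrum of a normal domain, dominant on every component, is
open. -/
theorem isOpenMap_of_normal {U : Scheme.{u}} {B : Type u} [CommRing B] [IsDomain B]
    [IsIntegrallyClosed B] (g : U ⟶ Spec (CommRingCat.of B)) [LocallyOfFiniteType g] [LocallyQuasiFinite g]
    (hmax : ∀ ζ : U, (∀ q, q ⤳ ζ → q = ζ) → (g ζ).asIdeal = ⊥) : IsOpenMap g := by
  refine IsOpenMap.of_nhds_le fun u => ?_
  rw [Filter.le_map_iff]
  intro N hN
  obtain ⟨W, hW, huW, -⟩ := exists_isAffineOpen_mem_and_subset (TopologicalSpace.Opens.mem_top u)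
  obtain ⟨φ, hφ⟩ := Spec.map_surjective (hW.fromSpec ≫ g)
  haveI : LocallyOfFiniteType (Spec.map φ) := hφ ▸ inferInstance
  haveI : LocallyQuasiFinite (Spec.map φ) := hφ ▸ inferInstance
  let q0 := hW.primeIdealOf ⟨u, huW⟩
  have hu : hW.fromSpec q0 = u := hW.fromSpec_primeIdealOf ⟨u, huW⟩
  algebraize [φ.hom]
  haveI : Algebra.FiniteType B Γ(U, W) :=
    RingHom.finiteType_algebraMap.mp ((HasRingHomProperty.Spec_iff (P := @LocallyOfFiniteType) (φ := φ)).mp inferInstance)
  haveI : Algebra.QuasiFinite B Γ(U, W) :=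
    RingHom.quasiFinite_algebraMap.mp ((HasRingHomProperty.Spec_iff (P := @LocallyQuasiFinite)).mp inferInstance)
  haveI := q0.2
  obtain ⟨P, hPmin, hPq⟩ := Ideal.exists_minimalPrimes_le (I := (⊥ : Ideal Γ(U, W))) (J := q0.asIdeal) bot_le
  have hPp : P.IsPrime := hPmin.1.1
  let P0 : PrimeSpectrum Γ(U, W) := ⟨P, hPp⟩
  have hP0 : ∀ q, q ⤳ hW.fromSpec P0 → q = hW.fromSpec P0 := by
    refine (Groth.L07.Equidim.maximal_openImmersion_iff hW.fromSpec P0).mp fun (q : PrimeSpectrum Γ(U, W)) hq => ?_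
    have hle : q.asIdeal ≤ P := (PrimeSpectrum.le_iff_specializes q P0).mpr hq
    exact PrimeSpectrum.ext (le_antisymm hle (hPmin.2 ⟨q.2, bot_le⟩ hle))
  have hPB : P.comap (algebraMap B Γ(U, W)) = ⊥ := by
    have h := hmax _ hP0
    rw [← Scheme.Hom.comp_apply, ← hφ] at h
    exact h
  let S := Γ(U, W) ⧸ P
  haveI : IsDomain S := Ideal.Quotient.isDomain P
  have hinj : Function.Injective (algebraMap B S) := by
    rw [injective_iff_map_eq_zero]
    intro b hb
    rw [IsScalarTower.algebraMap_apply B Γ(U, W) S, Ideal.Quotient.algebraMap_eq,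
      Ideal.Quotient.eq_zero_iff_mem] at hb
    have : b ∈ P.comap (algebraMap B Γ(U, W)) := hb
    rwa [hPB, Ideal.mem_bot] at this
  haveI : Algebra.FiniteType B S :=
    Algebra.FiniteType.of_surjective (Ideal.Quotient.mkₐ B P) Ideal.Quotient.mk_surjective
  haveI : Algebra.QuasiFinite B S :=
    Algebra.QuasiFinite.of_surjective_algHom (Ideal.Quotient.mkₐ B P) Ideal.Quotient.mk_surjective
  let kP : PrimeSpectrum S → PrimeSpectrum Γ(U, W) := PrimeSpectrum.comap (Ideal.Quotient.mk P)
  obtain ⟨qS, hqS⟩ : q0 ∈ Set.range kP := by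
    rw [show Set.range kP = _ from range_comap_of_surjective _ _ Ideal.Quotient.mk_surjective, Ideal.mk_ker]
    exact hPq
  obtain ⟨O, hON, hO, huO⟩ := mem_nhds_iff.mp hN
  have hmem : qS ∈ kP ⁻¹' (hW.fromSpec ⁻¹' O) := by
    show hW.fromSpec (kP qS) ∈ O
    rw [hqS, hu]; exact huO
  have key := image_mem_nhds_normal hinj qS
    ((hO.preimage hW.fromSpec.continuous).preimage (PrimeSpectrum.continuous_comap _)) hmem
  have hcomp : ∀ w, g (hW.fromSpec (kP w)) = PrimeSpectrum.comap (algebraMap B S) w := fun w => by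
    rw [← Scheme.Hom.comp_apply, ← hφ]
    rfl
  rw [← hcomp, hqS, hu] at key
  refine Filter.mem_of_superset key ?_
  rintro _ ⟨w, hw, rfl⟩
  exact ⟨_, hON hw, hcomp w⟩

/-- A quasi-finite morphism sending maximal points to maximal points is open over a scheme
homeomorphic to a normal affine one. -/
theorem isOpenMap_of_univHomeo' {U T : Scheme.{u}} {B : Type u} [CommRing B]
    [IsDomain B] [IsIntegrallyClosed B] (ν : Spec (CommRingCat.of B) ⟶ T) (hν : FlatMor.IsUnivHomeo ν)
    (g : U ⟶ T) [LocallyOfFiniteType g] [LocallyQuasiFinite g]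
    (hmax : ∀ ζ : U, (∀ q, q ⤳ ζ → q = ζ) → ∀ q, q ⤳ g ζ → q = g ζ) : IsOpenMap g := by
  have h1 : IsHomeomorph ν := Groth.L20.isHomeomorph_of_isUnivHomeo hν
  have h2 : IsHomeomorph (pullback.fst g ν) :=
    Groth.L20.isHomeomorph_of_isUnivHomeo (isUnivHomeo_of_isPullback (IsPullback.of_hasPullback g ν).flip hν)
  have hopen : IsOpenMap (pullback.snd g ν) := by
    refine isOpenMap_of_normal _ fun ζ hζ => ?_
    have hζ' : ∀ q, q ⤳ pullback.fst g ν ζ → q = pullback.fst g ν ζ := fun q hq => by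
      obtain ⟨q', rfl⟩ := h2.bijective.2 q
      rw [hζ q' (h2.isEmbedding.isInducing.specializes_iff.mp hq)]
    let b0 : PrimeSpectrum B := ⟨⊥, Ideal.isPrime_bot⟩
    have hb : ν b0 ⤳ g (pullback.fst g ν ζ) := by
      rw [← Scheme.Hom.comp_apply (pullback.fst g ν), pullback.condition, Scheme.Hom.comp_apply]
      exact Specializes.map ((PrimeSpectrum.le_iff_specializes b0 _).mp bot_le) ν.continuous
    have h3 : pullback.snd g ν ζ = b0 := h1.bijective.1 (by
      rw [← Scheme.Hom.comp_apply, ← pullback.condition, Scheme.Hom.comp_apply, ← hmax _ hζ' _ hb])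
    rw [h3]
  intro O hO
  have h3 : g '' O = ν '' (pullback.snd g ν '' (pullback.fst g ν ⁻¹' O)) := by
    ext t
    constructor
    · rintro ⟨w, hw, rfl⟩
      obtain ⟨w', rfl⟩ := h2.bijective.2 w
      refine ⟨_, ⟨w', hw, rfl⟩, ?_⟩
      rw [← Scheme.Hom.comp_apply, ← pullback.condition, Scheme.Hom.comp_apply]
    · rintro ⟨_, ⟨w', hw, rfl⟩, rfl⟩
      refine ⟨_, hw, ?_⟩
      rw [← Scheme.Hom.comp_apply, pullback.condition, Scheme.Hom.comp_apply]
  rw [h3]
  exact h1.isOpenMap _ (hopen _ (hO.preimage (pullback.fst g ν).continuous))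

/-- Universal openness from a quasi-finite chart over an affine open with irreducible spectrum. -/
theorem isUnivOpenAt_of_qf {X Y : Scheme.{u}}
    (hY : ∀ y : Y, CAlg2.IsGeomUnibranch (Y.presheaf.stalk y)) (f : X ⟶ Y) [LocallyOfFiniteType f]
    (x : X) (e : ℕ) (D : X.Opens) (hxD : x ∈ D) (g : (D : Scheme.{u}) ⟶ 𝔸(ULift.{u} (Fin e); Y))
    [LocallyQuasiFinite g] (hg : g ≫ (𝔸(ULift.{u} (Fin e); Y) ↘ Y) = D.ι ≫ f)
    (hmax : ∀ ζ : (D : Scheme.{u}), (∀ q, q ⤳ ζ → q = ζ) → ∀ q, q ⤳ g ζ → q = g ζ)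
    {V : Y.Opens} (hV : IsAffineOpen V) (hyV : f x ∈ V) [IsDomain (Γ(Y, V) ⧸ nilradical Γ(Y, V))] :
    EGA43.IsUnivOpenAt f x := by
  obtain ⟨C, _, _, _, ν, hν⟩ := exists_normalization hY hV
  obtain ⟨B1, _, _, _, ν1, hν1⟩ := exists_normal_affineSpace e ν hν
  let D' : X.Opens := D ⊓ f ⁻¹ᵁ V
  let j := X.homOfLE (inf_le_left : D' ≤ D)
  let E := ULift.{u} (Fin e)
  let mV := AffineSpace.map E V.ι
  have hbot := AffineSpace.isPullback_map (n := E) V.ι
  haveI : IsOpenImmersion mV := MorphismProperty.of_isPullback (P := @IsOpenImmersion) hbot.flip inferInstance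
  have hr : Set.range (D'.ι ≫ f) ⊆ Set.range V.ι := by
    rintro _ ⟨d, rfl⟩
    rw [Scheme.Opens.range_ι]
    exact d.2.2
  let fV := IsOpenImmersion.lift V.ι (D'.ι ≫ f) hr
  have hfV : fV ≫ V.ι = D'.ι ≫ f := IsOpenImmersion.lift_fac _ _ _
  let g' := hbot.lift (j ≫ g) fV (by rw [hfV, Category.assoc, hg, Scheme.homOfLE_ι_assoc])
  have hg'1 : g' ≫ mV = j ≫ g := hbot.lift_fst _ _ _
  have hg'2 : g' ≫ (𝔸(E; (V : Scheme.{u})) ↘ (V : Scheme.{u})) = fV := hbot.lift_snd _ _ _
  haveI : LocallyOfFiniteType (g ≫ (𝔸(E; Y) ↘ Y)) := hg ▸ inferInstance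
  haveI : LocallyOfFiniteType g := locallyOfFiniteType_of_comp g (𝔸(E; Y) ↘ Y)
  haveI : LocallyOfFiniteType (g' ≫ mV) := hg'1 ▸ inferInstance
  haveI : LocallyQuasiFinite (g' ≫ mV) := hg'1 ▸ inferInstance
  haveI : LocallyOfFiniteType g' := locallyOfFiniteType_of_comp g' mV
  haveI : LocallyQuasiFinite g' := LocallyQuasiFinite.of_comp g' mV
  have hmax' : ∀ d, (∀ q, q ⤳ d → q = d) → ∀ q, q ⤳ g' d → q = g' d := by
    intro d hd
    rw [maximal_openImmersion_iff mV, ← Scheme.Hom.comp_apply, hg'1, Scheme.Hom.comp_apply]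
    exact hmax _ ((maximal_openImmersion_iff j d).mp hd)
  refine Groth.L07.UnivOpenPointwise.of_affineSpace f x fun m p hp => ?_
  let N := ULift.{u} (Fin m)
  obtain ⟨B2, _, _, _, ν2, hν2⟩ := exists_normal_affineSpace m ν1 hν1
  haveI : LocallyOfFiniteType (AffineSpace.map N g') :=
    MorphismProperty.of_isPullback (P := @LocallyOfFiniteType) (AffineSpace.isPullback_map (n := N) g').flip inferInstance
  haveI : LocallyQuasiFinite (AffineSpace.map N g') :=
    MorphismProperty.of_isPullback (P := @LocallyQuasiFinite) (AffineSpace.isPullback_map (n := N) g').flip inferInstance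
  have hopen1 : IsOpenMap (AffineSpace.map N g') :=
    isOpenMap_of_univHomeo' ν2 hν2 _ (maximal_map g' hmax')
  haveI : IsOpenImmersion (AffineSpace.map N V.ι) :=
    MorphismProperty.of_isPullback (P := @IsOpenImmersion) (AffineSpace.isPullback_map (n := N) V.ι).flip inferInstance
  haveI : IsOpenImmersion (AffineSpace.map N D'.ι) :=
    MorphismProperty.of_isPullback (P := @IsOpenImmersion) (AffineSpace.isPullback_map (n := N) D'.ι).flip inferInstance
  have hfac : AffineSpace.map N D'.ι ≫ AffineSpace.map N f =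
      AffineSpace.map N g' ≫ AffineSpace.map N (𝔸(E; (V : Scheme.{u})) ↘ (V : Scheme.{u})) ≫ AffineSpace.map N V.ι := by
    rw [← AffineSpace.map_comp, ← AffineSpace.map_comp, ← AffineSpace.map_comp, reassoc_of% hg'2, hfV]
  have hopen : IsOpenMap (AffineSpace.map N D'.ι ≫ AffineSpace.map N f) := by
    rw [hfac]
    have h2 := isOpenMap_map_projection (n := N) E (V : Scheme.{u})
    exact ((AffineSpace.map N V.ι).isOpenEmbedding.isOpenMap.comp h2).comp hopen1
  obtain ⟨p', hp', -⟩ := Scheme.exists_preimage_of_isPullback (AffineSpace.isPullback_map (n := N) D'.ι) p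
    (⟨x, hxD, hyV⟩ : (D' : Scheme.{u})) (by rw [show (𝔸(N; X) ↘ X) p = x from hp]; rfl)
  subst hp'
  intro S hS
  have h3 : AffineSpace.map N D'.ι ⁻¹' S ∈ nhds p' :=
    (AffineSpace.map N D'.ι).continuous.continuousAt.preimage_mem_nhds hS
  refine Filter.mem_of_superset (hopen.image_mem_nhds h3) ?_
  rintro _ ⟨w, hw, rfl⟩
  exact ⟨_, hw, rfl⟩

/-- An affine open of an irreducible scheme has a domain as reduced ring of sections. -/
theorem isDomain_red_of_irreducible {Y : Scheme.{u}} [IrreducibleSpace Y] {V : Y.Opens} (hV : IsAffineOpen V)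
    (hne : (V : Set Y).Nonempty) : IsDomain (Γ(Y, V) ⧸ nilradical Γ(Y, V)) := by
  rw [Ideal.Quotient.isDomain_iff_prime, ← PrimeSpectrum.irreducibleSpace_iff_isPrime_nilradical]
  obtain ⟨y, hy⟩ := hne
  haveI : Nonempty (PrimeSpectrum Γ(Y, V)) := ⟨hV.primeIdealOf ⟨y, hy⟩⟩
  haveI : PreirreducibleSpace (PrimeSpectrum Γ(Y, V)) := hV.fromSpec.isOpenEmbedding.preirreducibleSpace
  exact { toNonempty := inferInstance }

/-- The generic point of an irreducible source sees the whole of its fibre. -/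
theorem fdim_genericPoint {X Y : Scheme.{u}} [IrreducibleSpace X] (f : X ⟶ Y) :
    fdim f (genericPoint X) = topologicalKrullDim ↥(f.fiber (f (genericPoint X))) := by
  refine SchemeDim.topologicalKrullDim_eq_of_isEmbedding
    (f := f.fiberι _) (Scheme.Hom.isEmbedding _) ?_
  rw [f.range_fiberι, eq_comm, Set.inter_eq_right]
  intro q _
  rw [(genericPoint_spec X).def]
  trivial

/-- The dimension of the fibre through the generic point is finite. -/
theorem exists_nat_fdim {X Y : Scheme.{u}} (f : X ⟶ Y) [LocallyOfFiniteType f] (u : X) :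
    ∃ n : ℕ, fdim f u = (n : WithBot ℕ∞) := by
  let k : Type u := Y.residueField (f u)
  letI : (f.fiber (f u)).Over (Spec (CommRingCat.of k)) := ⟨f.fiberToSpecResidueField (f u)⟩
  haveI : LocallyOfFiniteType (f.fiber (f u) ↘ Spec (CommRingCat.of k)) :=
    MorphismProperty.pullback_snd _ _ inferInstance
  letI : ∀ b, Algebra k ((f.fiber (f u)).residueField b) := fun b => Curv2.resAlgebra k _ b
  obtain ⟨n, hn, -⟩ := SchemeDim.exists_dim_closure_eq_trdeg k (f.fiber (f u)) (f.asFiber u)
  exact ⟨n, by rw [← hn, ← fdim_fiberι, f.fiberι_asFiber]⟩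

/-- A neighbourhood realising the local fibre dimension. -/
theorem exists_nhd_fibreDim_le {X Y : Scheme.{u}} (f : X ⟶ Y) (x : X) (n : ℕ)
    (h : FlatMor.fibreDimAt f x ≤ (n : WithBot ℕ∞)) :
    ∃ U : X.Opens, x ∈ U ∧ topologicalKrullDim ((U : Set X) ∩ f ⁻¹' {f x} : Set X) ≤ (n : WithBot ℕ∞) := by
  have h' : FlatMor.fibreDimAt f x < ((n + 1 : ℕ) : WithBot ℕ∞) := h.trans_lt (by exact_mod_cast Nat.lt_succ_self n)
  obtain ⟨⟨U, hxU⟩, hU⟩ := iInf_lt_iff.mp h'
  obtain ⟨U', hU', hU'U⟩ := (f.fiberι (f x)).isEmbedding.isInducing.isOpen_iff.mp U.2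
  refine ⟨⟨U', hU'⟩, ?_, ?_⟩
  · show x ∈ U'
    rw [← f.fiberι_asFiber x]
    show f.asFiber x ∈ f.fiberι (f x) ⁻¹' U'
    rw [hU'U]; exact hxU
  · refine le_of_eq_of_le (SchemeDim.topologicalKrullDim_eq_of_isEmbedding
      (f := f.fiberι (f x) ∘ (Subtype.val : ↥(U : Set (f.fiber (f x))) → _))
      ((Scheme.Hom.isEmbedding _).comp IsEmbedding.subtypeVal) ?_) ?_
    · rw [Set.range_comp, Subtype.range_coe, show (↑U : Set (f.fiber (f x))) = f.fiberι (f x) ⁻¹' U' from hU'U.symm,
        Set.image_preimage_eq_inter_range, f.range_fiberι]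
      rfl
    · replace hU : topologicalKrullDim ↥(U : Set (f.fiber (f x))) < ((n + 1 : ℕ) : WithBot ℕ∞) := hU
      revert hU
      generalize topologicalKrullDim ↥(U : Set (f.fiber (f x))) = d
      cases d with
      | bot => exact fun _ => bot_le
      | coe d =>
        cases d with
        | top =>
          intro hd
          rw [← WithBot.coe_natCast, WithBot.coe_lt_coe] at hd
          exact absurd hd not_top_lt
        | coe d =>
          intro hd
          norm_cast at hd ⊢
          omega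

/-- Chevalley's criterion, irreducible case. -/
theorem universallyOpen_of_fibreDim {X Y : Scheme.{u}} [IrreducibleSpace X] [IrreducibleSpace Y]
    (hY : ∀ y : Y, CAlg2.IsGeomUnibranch (Y.presheaf.stalk y)) (f : X ⟶ Y) [LocallyOfFiniteType f] [IsDominant f]
    (h : ∀ x : X, FlatMor.fibreDimAt f x = topologicalKrullDim ↥(f.fiber (f.base (genericPoint X)))) :
    UniversallyOpen f := by
  obtain ⟨n, hn⟩ := exists_nat_fdim f (genericPoint X)
  have hn' := (fdim_genericPoint f).symm.trans hn
  have hgenY : ∀ q : Y, q ⤳ f (genericPoint X) → q = f (genericPoint X) := fun q hq => by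
    refine (hq.antisymm (specializes_iff_mem_closure.mpr ?_)).eq
    refine (f.denseRange.closure_range ▸ closure_minimal ?_ isClosed_closure : Set.univ ⊆ _) (Set.mem_univ q)
    rintro _ ⟨a, rfl⟩
    exact specializes_iff_mem_closure.mp (((genericPoint_spec X).specializes trivial).map f.continuous)
  have hat : ∀ x, EGA43.IsUnivOpenAt f x := by
    intro x
    obtain ⟨U, hxU, hU⟩ := exists_nhd_fibreDim_le f x n ((h x).trans hn').le
    obtain ⟨D, g, hxD, -, hg, hqf⟩ := exists_qf_affineSpace f U x hxU n hU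
    haveI : LocallyOfFiniteType (g ≫ (𝔸(ULift.{u} (Fin n); Y) ↘ Y)) := hg ▸ inferInstance
    haveI : LocallyOfFiniteType g := locallyOfFiniteType_of_comp g (𝔸(ULift.{u} (Fin n); Y) ↘ Y)
    obtain ⟨V, hV, hyV, -⟩ := exists_isAffineOpen_mem_and_subset (TopologicalSpace.Opens.mem_top (f x))
    haveI := isDomain_red_of_irreducible hV ⟨_, hyV⟩
    refine isUnivOpenAt_of_qf hY f x n D hxD g hg (fun ζ hζ => ?_) hV hyV
    have hη : D.ι ζ = genericPoint X :=
      (((maximal_openImmersion_iff D.ι ζ).mp hζ) _ ((genericPoint_spec X).specializes trivial)).symm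
    have hfd : fdim (D.ι ≫ f) ζ = (n : WithBot ℕ∞) := by
      rw [fdim_comp D.ι f (D.ι ≫ f) rfl ζ, hη, hn]
    rw [fdim_comp g _ _ hg ζ] at hfd
    have hgen := genericPoint_of_fdim (ULift.{u} (Fin n)) (g ζ) (by rw [hfd]; simp)
    refine (affineSpace_maximal_iff _ (g ζ)).mpr ⟨?_, hgen⟩
    rw [← Scheme.Hom.comp_apply, hg, Scheme.Hom.comp_apply, hη]
    exact hgenY
  refine ⟨fun A B i₁ i₂ f' H => ?_⟩
  show IsOpenMap f'
  intro S hS
  rw [isOpen_iff_mem_nhds]
  rintro _ ⟨a, ha, rfl⟩
  exact Groth.L07.UnivOpenAt.of_isPullback H.flip (hat _) a rfl S (hS.mem_nhds ha)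

end Groth.L07.Chevalley
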