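import Groth.Agent.L07.DivPrincipal
import Groth.Agent.L07.LocFactorial
import Groth.Agent.L14.ParaF.Ufd
import Groth.Agent.L15.Ref.Rank1
import Groth.Agent.L15.CohFlat
import Groth.Agent.L21.Duality.Omega
import Groth.Agent.S16087

/-! # Locally factorial schemes: every Weil divisor is the divisor of a rational section -/

set_option autoImplicit false
set_option linter.style.haveILetI false
set_option maxSynthPendingDepth 3
set_option backward.isDefEq.respectTransparency false
set_option backward.isDefEq.respectTransparency.types false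

universe u

open CategoryTheory AlgebraicGeometry TopologicalSpace IsLocalRing

namespace Groth.L07.ClassGroup

open Groth.L15.CDivLib Groth.L07.DivPrincipal

variable {X : Scheme.{u}} [IsIntegral X] [IsLocallyNoetherian X]

theorem principalAt_of_ufd (hX : Pi1.IsNormalScheme X)
    (hufd : ∀ x : X, UniqueFactorizationMonoid (X.presheaf.stalk x)) (Z : X → ℤ)
    (hZfin : ∀ x : X, ∃ W : X.Opens, x ∈ W ∧ {z : X | z ∈ W ∧ Z z ≠ 0}.Finite) (x : X) : PrincipalAt Z x :=
  principalAt_everywhere hX ∅ (fun y _ hd => by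
    haveI := hufd y
    exact Groth.L14.ParaF.parafactorial_of_ufd (X.presheaf.stalk y) hd) Z hZfin (fun s hs => absurd hs (Set.notMem_empty s)) x

/-- An element with divisor a given prime divisor near `x` generates its prime ideal. -/
theorem exists_generator_of_ord (hX : Pi1.IsNormalScheme X) {x z : X} (hzx : z ⤳ x) (hz1 : Order.coheight z = 1)
    {φ : X.functionField} (hφ : φ ≠ 0)
    (hφord : ∀ w, w ⤳ x → Order.coheight w = 1 → (w = z → Scheme.ord φ w = 1) ∧ (w ≠ z → Scheme.ord φ w = 0)) :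
    ∃ a : X.presheaf.stalk x, am x a = φ ∧ RingHom.ker (Cyc.specMap x z hzx) = Ideal.span {a} := by
  classical
  have hφord : ∀ w, w ⤳ x → Order.coheight w = 1 → Scheme.ord φ w = if w = z then 1 else 0 := fun w hw hc => by
    split_ifs with h
    · exact (hφord w hw hc).1 h
    · exact (hφord w hw hc).2 h
  generalize hker : RingHom.ker (Cyc.specMap x z hzx) = P
  obtain ⟨a, ha⟩ := exists_am_of_ord_nonneg hX x (Units.mk0 (G₀ := X.functionField) φ hφ) fun w hw hc => by
    show 0 ≤ Scheme.ord φ w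
    rw [hφord w hw hc]; split_ifs <;> decide
  have ha' : am x a = φ := ha
  have ha0 : a ≠ 0 := fun h => hφ (by rw [← ha', h, map_zero])
  refine ⟨a, ha', le_antisymm (fun b hb => ?_) ((Ideal.span_singleton_le_iff_mem _).2 ?_)⟩
  · by_cases hb0 : b = 0
    · rw [hb0]; exact zero_mem _
    obtain ⟨c, hc'⟩ := exists_am_of_ord_nonneg hX x
      (Units.mk0 (G₀ := X.functionField) (am x b) (am_ne_zero hb0) / Units.mk0 (G₀ := X.functionField) φ hφ)
      fun w hw hc => by
        rw [ord_units_div]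
        show 0 ≤ Scheme.ord (am x b) w - Scheme.ord φ w
        rw [hφord w hw hc]
        split_ifs with hwz
        · subst hwz
          have := one_le_ord hw hc hb0 (hker.symm ▸ hb)
          omega
        · have := ord_am_nonneg hw b
          omega
    refine Ideal.mem_span_singleton'.2 ⟨c, am_injective x ?_⟩
    rw [map_mul, hc', ha', Units.val_div_eq_div_val, Units.val_mk0, Units.val_mk0, div_mul_cancel₀ _ hφ]
  · by_contra h
    have h1 := (ord_am_eq_zero_iff hzx hz1 ha0).2 (fun h' => h (hker ▸ h'))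
    rw [ha', hφord z hzx hz1, if_pos rfl] at h1
    exact one_ne_zero h1

theorem ufm_stalk_of_secDiv (hX : Pi1.IsNormalScheme X)
    (H : ∀ Z : X → ℤ, (∀ x : X, Order.coheight x ≠ 1 → Z x = 0) →
      (∀ x : X, ∃ W : X.Opens, x ∈ W ∧ {z : X | z ∈ W ∧ Z z ≠ 0}.Finite) →
      ∃ (L : X.Modules) (_ : PicF.IsInvertible L) (s : Cyc.secFibre L (genericPoint ↥X)), s ≠ 0 ∧
        ∀ x : X, Order.coheight x = 1 →
          Cyc.secOrdAt L (genericPoint ↥X) x (genericPoint_specializes x) s = Z x)
    (x : X) : UniqueFactorizationMonoid (X.presheaf.stalk x) := by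
  classical
  refine Groth.L07.LocFactorial.ufm_of_height_one fun P hP hP1 => ?_
  let q : Spec (X.presheaf.stalk x) := ⟨P, hP⟩
  let z := X.fromSpecStalk x q
  have hzx : z ⤳ x := by
    have h1 : z ∈ Set.range (X.fromSpecStalk x) := ⟨q, rfl⟩
    rwa [Scheme.range_fromSpecStalk] at h1
  have hker : RingHom.ker (Cyc.specMap x z hzx) = P := ker_specMap_fromSpecStalk q hzx
  have hz1 : Order.coheight z = 1 := by
    have h1 := height_ker_specMap hzx
    rw [hker, hP1] at h1
    exact_mod_cast h1.symm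
  obtain ⟨L, hL, s, hs, hord⟩ := H (fun w => if w = z then 1 else 0) (fun w hw => if_neg fun (e : w = z) => hw (by rw [e]; exact hz1))
    (fun w => ⟨⊤, trivial, (Set.finite_singleton z).subset fun v hv => by
      by_contra h; exact hv.2 (if_neg h)⟩)
  obtain ⟨U, e, φ, hηU, he, hxU, hφ, hv⟩ := Groth.L15.SecOrd.exists_frame_coeff hL x s hs
  have hφord : ∀ w, w ⤳ x → Order.coheight w = 1 → Scheme.ord φ w = if w = z then 1 else 0 := by
    intro w hw hc
    rw [← hord w hc, hv, Groth.L15.SecOrd.secOrdAt_eq hc _ he (hw.mem_open U.2 hxU) hηU φ hφ]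
  obtain ⟨a, -, ha⟩ := exists_generator_of_ord hX hzx hz1 hφ fun w hw hc =>
    ⟨fun h => by rw [hφord w hw hc, if_pos h], fun h => by rw [hφord w hw hc, if_neg h]⟩
  exact ⟨a, hker.symm.trans ha⟩

/-- Where the cycle is principal, the reflexive module with this divisor has a generator. -/
theorem exists_stalk_generator (hX : Pi1.IsNormalScheme X) {F : X.Modules} (hF : RefHull.IsRef1 F)
    {s' : F.presheaf.stalk (genericPoint ↥X)} (hs' : s' ≠ 0) {Z : X → ℤ}
    (hsd : ∀ z : X, Order.coheight z = 1 → Z z = Cyc.secOrdAt F (genericPoint ↥X) z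
      ((genericPoint_spec ↥X).specializes (Set.mem_univ z)) (Submodule.mkQ _ s'))
    (x : X) (hp : PrincipalAt Z x) :
    ∃ u : F.presheaf.stalk x, Function.Bijective fun r : X.presheaf.stalk x => r • u := by
  classical
  haveI : Coh.IsQCoh F := hF.1.1
  haveI htf := fun y => Groth.L15.Ref.isTorsionFree_stalk hF.1 hF.2.1 y
  have hbij := Groth.L15.Ref.bijective_smul_of_ne_zero hF.2.2 hs'
  obtain ⟨f, hf, hfd⟩ := hp
  let v : F.presheaf.stalk (genericPoint ↥X) := ((f⁻¹ : X.functionField) : X.presheaf.stalk (genericPoint ↥X)) • s'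
  have hcoef : ∀ z, z ⤳ x → Order.coheight z = 1 → ∃ (t : F.presheaf.stalk z) (φ : X.functionField),
      Submodule.span (X.presheaf.stalk z) {t} = ⊤ ∧ φ ≠ 0 ∧ Scheme.ord φ z = 0 ∧
      v = (φ : X.presheaf.stalk (genericPoint ↥X)) • Groth.L15.Ref.toEta F z t := by
    intro z hz hc
    haveI := isDVR_of_coheight hX hc
    obtain ⟨t, ht, ht0⟩ := Groth.L15.Ref.exists_gen_dvr hF z
    obtain ⟨φ, hφ⟩ := Groth.L15.Ref.exists_coeff hF.2.2 ht0 s'
    have hφ0 : φ ≠ 0 := fun h => hs' (by rw [hφ, h]; exact zero_smul _ _)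
    have h1 : Z z = Scheme.ord φ z := by
      refine (hsd z hc).trans ?_
      rw [hφ]
      exact Groth.L15.Ref.secOrdAt_eq hF.2.2 hc _ ht ht0 hφ0
    refine ⟨t, f⁻¹ * φ, ht, mul_ne_zero (inv_ne_zero hf) hφ0, ?_, ?_⟩
    · have h2 := Scheme.ord_mul (X := X) (x := z) hf (mul_ne_zero (inv_ne_zero hf) hφ0)
      rw [mul_inv_cancel_left₀ hf] at h2
      have h3 := hfd z hc hz
      omega
    · show ((f⁻¹ : X.functionField) : X.presheaf.stalk (genericPoint ↥X)) • s' = _
      rw [hφ, smul_smul]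
  obtain ⟨u, hu⟩ := Groth.L15.Ref.mem_range_toEta hX hF.1 hF.2.1 x v fun z hz hc => by
    obtain ⟨t, φ, -, hφ0, hφo, hv⟩ := hcoef z hz hc
    haveI := isDVR_of_coheight hX hc
    rw [hv]
    exact Groth.L15.Ref.smul_gen_mem_range hc t fun _ => hφo.ge
  have hv0 : v ≠ 0 := fun h => by
    have h1 : ((f⁻¹ : X.functionField) : X.presheaf.stalk (genericPoint ↥X)) = 0 :=
      hbij.1 (h.trans (zero_smul _ _).symm)
    exact inv_ne_zero hf h1
  have hvbij := Groth.L15.Ref.bijective_smul_of_ne_zero hF.2.2 hv0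
  have hgen : Function.Bijective fun r : X.presheaf.stalk x => r • u := by
    refine ⟨fun a b hab => am_injective x (hvbij.1 ?_), fun w => ?_⟩
    · show (am x a : X.presheaf.stalk (genericPoint ↥X)) • v = (am x b : X.presheaf.stalk (genericPoint ↥X)) • v
      rw [← hu, ← Groth.L15.Ref.toEta_smul, ← Groth.L15.Ref.toEta_smul]
      exact congrArg _ hab
    obtain ⟨α, hα⟩ := hvbij.2 (Groth.L15.Ref.toEta F x w)
    by_cases hα0 : (α : X.functionField) = 0
    · refine ⟨0, ?_⟩
      have h1 : Groth.L15.Ref.toEta F x w = 0 := hα.symm.trans (by rw [show α = 0 from hα0]; exact zero_smul _ v)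
      show (0 : X.presheaf.stalk x) • u = w
      rw [zero_smul]
      exact (Groth.L15.Ref.toEta_injective x (h1.trans (map_zero _).symm)).symm
    obtain ⟨a, ha⟩ := exists_am_of_ord_nonneg hX x (Units.mk0 (G₀ := X.functionField) α hα0) fun z hz hc => by
      obtain ⟨t, φ, ht, hφ0, hφo, hv⟩ := hcoef z hz hc
      obtain ⟨b, hb⟩ := Submodule.mem_span_singleton.1 (ht.ge (Submodule.mem_top (x := F.presheaf.stalkSpecializes hz w)))
      have h1 : ((α * φ : X.functionField) : X.presheaf.stalk (genericPoint ↥X)) • Groth.L15.Ref.toEta F z t =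
          (am z b : X.presheaf.stalk (genericPoint ↥X)) • Groth.L15.Ref.toEta F z t := by
        rw [← Groth.L15.Ref.toEta_smul, hb, Groth.L15.Ref.toEta_specializes, ← hα, hv]
        exact (smul_smul _ _ _).symm
      have ht0 : Groth.L15.Ref.toEta F z t ≠ 0 := fun h => hv0 (by rw [hv, h, smul_zero])
      have h2 : α * φ = am z b := (Groth.L15.Ref.bijective_smul_of_ne_zero hF.2.2 ht0).1 h1
      have h3 := Scheme.ord_mul (X := X) (x := z) hα0 hφ0
      rw [h2] at h3
      have := ord_nonneg (x := z) b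
      show 0 ≤ Scheme.ord α z
      omega
    refine ⟨a, Groth.L15.Ref.toEta_injective x ?_⟩
    rw [Groth.L15.Ref.toEta_smul, hu, ← hα]
    exact congrArg (fun c : X.presheaf.stalk (genericPoint ↥X) => c • v) ha
  exact ⟨u, hgen⟩

theorem exists_secDiv_of_ufd (hX : Pi1.IsNormalScheme X)
    (hufd : ∀ x : X, UniqueFactorizationMonoid (X.presheaf.stalk x)) (Z : X → ℤ)
    (hZ : ∀ x : X, Order.coheight x ≠ 1 → Z x = 0)
    (hZfin : ∀ x : X, ∃ W : X.Opens, x ∈ W ∧ {z : X | z ∈ W ∧ Z z ≠ 0}.Finite) :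
    ∃ (L : X.Modules) (_ : PicF.IsInvertible L) (s : Cyc.secFibre L (genericPoint ↥X)), s ≠ 0 ∧
      ∀ x : X, Order.coheight x = 1 →
        Cyc.secOrdAt L (genericPoint ↥X) x (genericPoint_specializes x) s = Z x := by
  classical
  let D : AlgebraicCycle X ℤ :=
    { toFun := Z
      supportWithinDomain' := fun _ _ => Set.mem_univ _
      supportLocallyFiniteWithinDomain' := fun x _ => by
        obtain ⟨W, hxW, hW⟩ := hZfin x
        exact ⟨W, W.2.mem_nhds hxW, hW.subset fun z hz => ⟨hz.1, hz.2⟩⟩ }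
  obtain ⟨F, hF, s, hs, hsd⟩ := (Groth.Agent.S16087.result X hX).2 D hZ
  refine ⟨F, ?_, s, hs, fun x hx => (hsd x hx).symm⟩
  obtain ⟨s', rfl⟩ := Submodule.mkQ_surjective _ s
  have hs' : s' ≠ 0 := fun h => hs (by rw [h, map_zero])
  haveI : Coh.IsQCoh F := hF.1.1
  haveI htf := fun y => Groth.L15.Ref.isTorsionFree_stalk hF.1 hF.2.1 y
  have hbij := Groth.L15.Ref.bijective_smul_of_ne_zero hF.2.2 hs'
  have hfree : ∀ x : X, Module.Flat (X.presheaf.stalk x) (F.presheaf.stalk x) := fun x => by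
    obtain ⟨u, hgen⟩ := exists_stalk_generator hX hF hs' hsd x (principalAt_of_ufd hX hufd Z hZfin x)
    exact Module.Flat.of_linearEquiv (LinearEquiv.ofBijective (LinearMap.toSpanSingleton _ _ u) hgen).symm
  refine Groth.L21.Duality.isInvertible_of_generic (Groth.L15.CohFlat.isFinLocFree_of_isCoh_isFlat F hF.1 hfree)
    (δ := s') fun v => hbij.existsUnique v

end Groth.L07.ClassGroup
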