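import Groth.Agent.L20.SeeNormal.Sheaf
import Groth.Prelude.Def_FDesc
import Mathlib.AlgebraicGeometry.IdealSheaf.Functorial
import Mathlib.RingTheory.TensorProduct.Free

/-! # Reduced closure of geometrically reduced families and extension of the base field -/

set_option autoImplicit false
set_option linter.style.haveILetI false
set_option maxSynthPendingDepth 3
set_option backward.isDefEq.respectTransparency false
set_option backward.isDefEq.respectTransparency.types false

universe u

open CategoryTheory CategoryTheory.Limits AlgebraicGeometry TopologicalSpace TensorProduct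

namespace Groth.L07.ClosureBC

section Algebra

variable {k R S K : Type u} [Field k] [CommRing R] [Algebra k R] [CommRing S] [Algebra k S] [Field K] [Algebra k K]

theorem repr_map (φ : R →ₐ[k] S) (b : R ⊗[k] K) {ι : Type*} (B : Module.Basis ι k K) (i : ι) :
    (Algebra.TensorProduct.basis S B).repr (Algebra.TensorProduct.map φ (AlgHom.id k K) b) i =
      φ ((Algebra.TensorProduct.basis R B).repr b i) := by
  induction b using TensorProduct.induction_on with
  | zero => simp
  | tmul r l => simp [Algebra.TensorProduct.basis_repr_tmul]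
  | add x y hx hy => simp [hx, hy]

theorem mem_map_of_repr (J : Ideal R) (b : R ⊗[k] K) {ι : Type*} (B : Module.Basis ι k K)
    (h : ∀ i, (Algebra.TensorProduct.basis R B).repr b i ∈ J) :
    b ∈ J.map (Algebra.TensorProduct.includeLeftRingHom : R →+* R ⊗[k] K) := by
  rw [← (Algebra.TensorProduct.basis R B).linearCombination_repr b, Finsupp.linearCombination_apply]
  refine Submodule.sum_mem _ fun i _ => ?_
  simp only [Algebra.smul_def]
  exact Ideal.mul_mem_right _ _ (Ideal.mem_map_of_mem _ (h i))

end Algebra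

theorem appLE_specMap_fromSpec {X : Scheme.{u}} {U : X.Opens} (hU : IsAffineOpen U) {T : CommRingCat.{u}}
    (ψ : Γ(X, U) ⟶ T) (e) :
    (Spec.map ψ ≫ hU.fromSpec).appLE U ⊤ e = ψ ≫ (Scheme.ΓSpecIso T).inv := by
  rw [Scheme.Hom.appLE, Scheme.Hom.comp_app, IsAffineOpen.fromSpec_app_self, Category.assoc, Category.assoc,
    Scheme.Hom.naturality_assoc]
  erw [← Functor.map_comp]
  refine Eq.trans ?_ (Scheme.ΓSpecIso_inv_naturality ψ).symm
  congr 1

variable {k : Type u} [Field k] {X : Scheme.{u}} (p : X ⟶ Spec (CommRingCat.of k))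
  (K : Type u) [Field K] [Algebra k K]

/-- The affine chart of the base change over an affine chart. -/
noncomputable def chart {A : CommRingCat.{u}} [Algebra k A] (i : Spec A ⟶ X)
    (hi : i ≫ p = Spec.map (CommRingCat.ofHom (algebraMap k A))) :
    Spec (CommRingCat.of (A ⊗[k] K)) ⟶ pullback p (Spec.map (CommRingCat.ofHom (algebraMap k K))) :=
  (pullbackSpecIso k A K).inv ≫ pullback.map _ _ p _ i (𝟙 _) (𝟙 _) ((Category.comp_id _).trans hi.symm)
    ((Category.comp_id _).trans (Category.id_comp _).symm)

variable {p K}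

instance {A : CommRingCat.{u}} [Algebra k A] (i : Spec A ⟶ X) [IsOpenImmersion i]
    (hi : i ≫ p = Spec.map (CommRingCat.ofHom (algebraMap k A))) : IsOpenImmersion (chart p K i hi) := by
  delta chart; infer_instance

theorem chart_fst {A : CommRingCat.{u}} [Algebra k A] (i : Spec A ⟶ X)
    (hi : i ≫ p = Spec.map (CommRingCat.ofHom (algebraMap k A))) :
    chart p K i hi ≫ pullback.fst _ _ =
      Spec.map (CommRingCat.ofHom (Algebra.TensorProduct.includeLeftRingHom : (A : Type u) →+* A ⊗[k] K)) ≫ i := by
  simp [chart, pullbackSpecIso_inv_fst_assoc]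

theorem chart_snd {A : CommRingCat.{u}} [Algebra k A] (i : Spec A ⟶ X)
    (hi : i ≫ p = Spec.map (CommRingCat.ofHom (algebraMap k A))) :
    chart p K i hi ≫ pullback.snd _ _ =
      Spec.map (CommRingCat.ofHom ((Algebra.TensorProduct.includeRight : K →ₐ[k] (A : Type u) ⊗[k] K).toRingHom)) := by
  simp [chart, pullbackSpecIso_inv_snd]

theorem range_chart {A : CommRingCat.{u}} [Algebra k A] (i : Spec A ⟶ X)
    (hi : i ≫ p = Spec.map (CommRingCat.ofHom (algebraMap k A)))
    {x : ↥(pullback p (Spec.map (CommRingCat.ofHom (algebraMap k K))))} (hx : pullback.fst p (Spec.map (CommRingCat.ofHom (algebraMap k K))) x ∈ Set.range i) :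
    x ∈ Set.range (chart p K i hi) := by
  have h : x ∈ Set.range (pullback.map (Spec.map (CommRingCat.ofHom (algebraMap k A)))
      (Spec.map (CommRingCat.ofHom (algebraMap k K))) p (Spec.map (CommRingCat.ofHom (algebraMap k K))) i (𝟙 _) (𝟙 _)
      ((Category.comp_id _).trans hi.symm) ((Category.comp_id _).trans (Category.id_comp _).symm)) := by
    rw [Scheme.Pullback.range_map]
    exact ⟨hx, ⟨_, rfl⟩⟩
  obtain ⟨y, rfl⟩ := h
  exact ⟨(pullbackSpecIso k A K).hom y, by
    rw [chart, ← Scheme.Hom.comp_apply, Iso.hom_inv_id_assoc]⟩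

theorem vanishingIdeal_closure_bc {ι : Type u} (Z : ι → Scheme.{u}) (f : ∀ i, Z i ⟶ X)
    (hred : ∀ (i : ι) (z : Z i), FBase.IsGeomReducedAt (f i ≫ p) z)
    (f' : ∀ i, pullback (f i ≫ p) (Spec.map (CommRingCat.ofHom (algebraMap k K))) ⟶
      pullback p (Spec.map (CommRingCat.ofHom (algebraMap k K))))
    (hf₁ : ∀ i, f' i ≫ pullback.fst _ _ = pullback.fst _ _ ≫ f i)
    (hf₂ : ∀ i, f' i ≫ pullback.snd _ _ = pullback.snd _ _) :
    Scheme.IdealSheafData.vanishingIdeal (Closeds.closure (⋃ i, Set.range (f' i))) =
      (Scheme.IdealSheafData.vanishingIdeal (Closeds.closure (⋃ i, Set.range (f i)))).comap (pullback.fst p _) := by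
  set C := Closeds.closure (⋃ i, Set.range (f i)) with hC
  set C' := Closeds.closure (⋃ i, Set.range (f' i)) with hC'
  refine le_antisymm ?_ ?_
  · let alg : ∀ V : X.affineOpens, Algebra k Γ(X, V) := fun V => (Spec.preimage (V.2.fromSpec ≫ p)).hom.toAlgebra
    have halg : ∀ V : X.affineOpens, letI := alg V
        V.2.fromSpec ≫ p = Spec.map (CommRingCat.ofHom (algebraMap k Γ(X, V))) := fun V => (Spec.map_preimage _).symm
    let W : X.affineOpens → (pullback p (Spec.map (CommRingCat.ofHom (algebraMap k K)))).affineOpens := fun V =>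
      letI := alg V
      ⟨chart p K V.2.fromSpec (halg V) ''ᵁ ⊤, (isAffineOpen_top _).image_of_isOpenImmersion _⟩
    refine Scheme.IdealSheafData.le_of_iSup_eq_top W ?_ fun V => ?_
    · rw [eq_top_iff]
      intro x _
      obtain ⟨_, ⟨V, hV, rfl⟩, hxV, -⟩ :=
        X.isBasis_affineOpens.exists_subset_of_mem_open (Set.mem_univ (pullback.fst p (Spec.map (CommRingCat.ofHom (algebraMap k K))) x)) isOpen_univ
      replace hV : IsAffineOpen V := hV
      letI := alg ⟨V, hV⟩
      refine Opens.mem_iSup.mpr ⟨⟨V, hV⟩, ?_⟩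
      obtain ⟨y, rfl⟩ := range_chart hV.fromSpec (halg ⟨V, hV⟩) (x := x) (by rw [hV.range_fromSpec]; exact hxV)
      exact ⟨y, trivial, rfl⟩
    · letI := alg V
      set j := chart p K V.2.fromSpec (halg V) with hj
      intro c hc
      set J := Scheme.IdealSheafData.vanishingIdeal C
      let b' : Γ(Spec (CommRingCat.of (Γ(X, V) ⊗[k] K)), ⊤) := (j.appIso ⊤).hom c
      suffices h : b' ∈ ((J.comap (pullback.fst p (Spec.map (CommRingCat.ofHom (algebraMap k K))))).comap j).ideal ⟨⊤, isAffineOpen_top _⟩ by
        rw [Scheme.IdealSheafData.ideal_comap_of_isOpenImmersion, Ideal.mem_comap] at h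
        rwa [show (j.appIso ⊤).inv.hom b' = c from Iso.hom_inv_id_apply _ c] at h
      have e0 : (⊤ : (Spec (CommRingCat.of (Γ(X, V) ⊗[k] K))).Opens) ≤
          (Spec.map (CommRingCat.ofHom (Algebra.TensorProduct.includeLeftRingHom :
            (Γ(X, V) : Type u) →+* Γ(X, V) ⊗[k] K)) ≫ V.2.fromSpec) ⁻¹ᵁ V.1 := fun z _ =>
        V.2.range_fromSpec.le ⟨_, rfl⟩
      rw [← Scheme.IdealSheafData.comap_comp, hj, chart_fst,
        Groth.L22.Ideals.comap_ideal _ J V ⟨⊤, isAffineOpen_top _⟩ e0, appLE_specMap_fromSpec]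
      rw [CommRingCat.hom_comp, ← Ideal.map_map]
      let b := (Scheme.ΓSpecIso (CommRingCat.of (Γ(X, V) ⊗[k] K))).hom b'
      have hb' : b' = (Scheme.ΓSpecIso (CommRingCat.of (Γ(X, V) ⊗[k] K))).inv b := (Iso.hom_inv_id_apply _ b').symm
      rw [hb']
      refine Ideal.mem_map_of_mem _ (mem_map_of_repr (J.ideal V) b (Module.Free.chooseBasis k K) fun n => ?_)
      -- every coefficient of `b` vanishes on the images
      have hmem : ∀ y, j y ∈ C' → b ∈ y.asIdeal := by
        intro y hy
        have h1 : j y ∈ (Scheme.IdealSheafData.vanishingIdeal C').support :=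
          Scheme.IdealSheafData.le_support_iff_le_vanishingIdeal.mpr le_rfl hy
        replace h1 := (Scheme.IdealSheafData.mem_support_iff_of_mem (U := W V)
          (show j y ∈ (W V).1 from ⟨y, trivial, rfl⟩)).mp h1
        rw [Scheme.mem_zeroLocus_iff] at h1
        by_contra hby
        refine h1 c hc ?_
        have h2 : y ∈ (Spec (CommRingCat.of (Γ(X, V) ⊗[k] K))).basicOpen b' := by
          rw [basicOpen_eq_of_affine']
          exact hby
        have h3 : j y ∈ j ''ᵁ (Spec (CommRingCat.of (Γ(X, V) ⊗[k] K))).basicOpen b' := ⟨y, h2, rfl⟩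
        rw [Scheme.image_basicOpen] at h3
        rwa [show (j.appIso ⊤).inv b' = c from Iso.hom_inv_id_apply _ c] at h3
      set a := (Algebra.TensorProduct.basis Γ(X, V) (Module.Free.chooseBasis k K)).repr b n
      have hC : ∀ x ∈ V.1, x ∈ C → x ∉ X.basicOpen a := by
        intro x _ hxC hxa
        have hd : Disjoint (X.basicOpen a : Set X) (⋃ i, Set.range (f i)) := by
          rw [Set.disjoint_iUnion_right]
          intro i
          rw [Set.disjoint_left]
          rintro _ hza ⟨z, rfl⟩
          obtain ⟨_, ⟨S, hS, rfl⟩, hzS, hSV⟩ := (Z i).isBasis_affineOpens.exists_subset_of_mem_open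
            (show z ∈ f i ⁻¹ᵁ V.1 from X.basicOpen_le a hza) (f i ⁻¹ᵁ V.1).2
          replace hS : IsAffineOpen S := hS
          replace hSV : S ≤ f i ⁻¹ᵁ V.1 := hSV
          letI := (Spec.preimage (hS.fromSpec ≫ f i ≫ p)).hom.toAlgebra
          have halgS : hS.fromSpec ≫ f i ≫ p = Spec.map (CommRingCat.ofHom (algebraMap k Γ(Z i, S))) :=
            (Spec.map_preimage _).symm
          have hφ : (CommRingCat.ofHom (algebraMap k Γ(X, V))) ≫ (f i).appLE V.1 S hSV =
              CommRingCat.ofHom (algebraMap k Γ(Z i, S)) := by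
            apply Spec.map_injective
            rw [Spec.map_comp, ← halgS, ← halg V, IsAffineOpen.SpecMap_appLE_fromSpec_assoc]
          let φ : Γ(X, V) →ₐ[k] Γ(Z i, S) :=
            { ((f i).appLE V.1 S hSV).hom with commutes' := fun r => congr($hφ r) }
          haveI : IsReduced (pullback (f i ≫ p) (Spec.map (CommRingCat.ofHom (algebraMap k K)))) := by
            refine @isReduced_of_isReduced_stalk _ fun w => ?_
            exact hred i (pullback.fst (f i ≫ p) (Spec.map (CommRingCat.ofHom (algebraMap k K))) w) K w rfl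
          haveI : _root_.IsReduced (Γ(Z i, S) ⊗[k] K) := by
            haveI := isReduced_of_isOpenImmersion (chart (f i ≫ p) K hS.fromSpec halgS)
            exact affine_isReduced_iff _ |>.mp this
          have hzero : Algebra.TensorProduct.map φ (AlgHom.id k K) b = 0 := by
            refine IsNilpotent.eq_zero (nilpotent_iff_mem_prime.mpr fun P hP => ?_)
            let w : Spec (CommRingCat.of (Γ(Z i, S) ⊗[k] K)) := ⟨P, hP⟩
            have hsq : chart (f i ≫ p) K hS.fromSpec halgS ≫ f' i =
                Spec.map (CommRingCat.ofHom (Algebra.TensorProduct.map φ (AlgHom.id k K)).toRingHom) ≫ j := by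
              apply pullback.hom_ext
              · rw [Category.assoc, hf₁, ← Category.assoc, chart_fst, Category.assoc, Category.assoc, hj, chart_fst,
                  ← IsAffineOpen.SpecMap_appLE_fromSpec (f i) V.2 hS hSV, ← Spec.map_comp_assoc, ← Spec.map_comp_assoc]
                congr 2
              · rw [Category.assoc, hf₂, chart_snd, Category.assoc, hj, chart_snd, ← Spec.map_comp]
                congr 1
                ext r
                simp
            refine hmem (Spec.map (CommRingCat.ofHom (Algebra.TensorProduct.map φ (AlgHom.id k K)).toRingHom) w) ?_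
            rw [← Scheme.Hom.comp_apply, ← hsq, Scheme.Hom.comp_apply]
            exact subset_closure (Set.mem_iUnion.mpr ⟨i, _, rfl⟩)
          have h0 : φ a = 0 := by
            rw [← repr_map φ b (Module.Free.chooseBasis k K) n, hzero, map_zero]
            rfl
          have h1 : z ∈ (Z i).basicOpen ((f i).appLE V.1 S hSV a) := by
            rw [Scheme.basicOpen_appLE]
            exact ⟨hzS, hza⟩
          rw [show (f i).appLE V.1 S hSV a = 0 from h0, Scheme.basicOpen_zero] at h1
          exact h1
        exact Set.disjoint_left.mp (hd.closure_right (X.basicOpen a).2) hxa hxC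
      show a ∈ J.ideal V
      rw [Scheme.IdealSheafData.vanishingIdeal_ideal, PrimeSpectrum.mem_vanishingIdeal]
      intro P hP
      by_contra hPa
      have h1 : P ∈ V.2.fromSpec ⁻¹ᵁ X.basicOpen a := by
        rw [V.2.fromSpec_preimage_basicOpen]
        exact hPa
      exact hC _ (V.2.range_fromSpec.le ⟨P, rfl⟩) hP h1
  · rw [← Scheme.IdealSheafData.le_support_iff_le_vanishingIdeal]
    refine Closeds.closure_le.mpr (Set.iUnion_subset fun i => ?_)
    rintro _ ⟨z, rfl⟩
    rw [Scheme.IdealSheafData.support_comap]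
    show pullback.fst p (Spec.map (CommRingCat.ofHom (algebraMap k K))) (f' i z) ∈
      ((Scheme.IdealSheafData.vanishingIdeal C).support : Set X)
    rw [← Scheme.Hom.comp_apply, hf₁, Scheme.Hom.comp_apply]
    exact Scheme.IdealSheafData.le_support_iff_le_vanishingIdeal.mpr le_rfl
      (subset_closure (Set.mem_iUnion.mpr ⟨i, _, rfl⟩))

end Groth.L07.ClosureBC
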