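import Groth.Agent.L07.FlatReducedFibres
import Groth.Agent.L07.GeomRedBaseChange
import Groth.Agent.L18.DominatingDVR
import Mathlib.RingTheory.Filtration
import Mathlib.RingTheory.Ideal.GoingDown

/-!
Components through a point of flatness with geometrically reduced fibre meet a component of the fibre.
-/

universe u

open TensorProduct

namespace Groth.L07.FlatGeomReduced

set_option autoImplicit false
set_option linter.style.haveILetI false
set_option maxSynthPendingDepth 3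
set_option synthInstance.maxHeartbeats 400000

/-- Every minimal prime is contained in a minimal prime over a regular element with reduced zero locus. -/
theorem exists_minimal_span_ge {D : Type u} [CommRing D] [IsLocalRing D] [IsNoetherianRing D] (π : D)
    (hπ : π ∈ IsLocalRing.maximalIdeal D) (hreg : IsSMulRegular D π) (hrad : (Ideal.span {π}).IsRadical)
    (ξ : Ideal D) (hξ : ξ ∈ minimalPrimes D) :
    ∃ 𝔷 ∈ (Ideal.span {π}).minimalPrimes, ξ ≤ 𝔷 := by
  classical
  by_contra hcon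
  push Not at hcon
  haveI := hξ.1.1
  let T := (minimalPrimes.finite_of_isNoetherianRing D).toFinset.erase ξ
  have hsel : ∀ P ∈ T, ∃ a ∈ P, a ∉ ξ := fun P hP => by
    obtain ⟨hne, hP⟩ := Finset.mem_erase.mp hP
    rw [Set.Finite.mem_toFinset] at hP
    exact Set.not_subset.mp fun hle => hne (le_antisymm hle (hξ.2 hP.1 hle))
  choose a haP haξ using hsel
  let e := ∏ P ∈ T.attach, a P.1 P.2
  have heξ : e ∉ ξ := fun h => by
    obtain ⟨P, -, hP⟩ := (hξ.1.1.prod_mem_iff).mp h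
    exact haξ _ _ hP
  have henil : ∀ x ∈ ξ, IsNilpotent (e * x) := fun x hx => by
    refine nilpotent_iff_mem_prime.mpr fun P hP => ?_
    haveI := hP
    obtain ⟨P₀, hP₀, hle⟩ := Ideal.exists_minimalPrimes_le (bot_le : (⊥ : Ideal D) ≤ P)
    refine hle ?_
    by_cases h : P₀ = ξ
    · exact h ▸ Ideal.mul_mem_left _ _ hx
    · refine Ideal.mul_mem_right _ _ (Ideal.prod_mem (I := P₀) (f := fun P : {x // x ∈ T} => a P.1 P.2)
        (Finset.mem_attach T ⟨P₀, Finset.mem_erase.mpr ⟨h, (Set.Finite.mem_toFinset _).mpr hP₀⟩⟩) (haP _ _))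
  have hex : ∃ k : ℕ, ¬ π ^ k ∣ e := by
    by_contra! hc
    refine heξ ?_
    rw [show e = 0 from (Submodule.mem_bot D).mp ?_]
    · exact zero_mem _
    rw [← Ideal.iInf_pow_eq_bot_of_isLocalRing (Ideal.span {π})
      (fun h => (IsLocalRing.maximalIdeal.isMaximal D).ne_top (top_le_iff.mp (h ▸ (Ideal.span_singleton_le_iff_mem _).mpr hπ)))]
    refine Submodule.mem_iInf _ |>.mpr fun i => ?_
    rw [Ideal.span_singleton_pow, Ideal.mem_span_singleton]
    exact hc i
  obtain ⟨k, ⟨e', he'⟩, hk⟩ : ∃ k : ℕ, π ^ k ∣ e ∧ ¬ π ^ (k + 1) ∣ e := by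
    have h0 : Nat.find hex ≠ 0 := fun h => by
      have := Nat.find_spec hex
      rw [h, pow_zero] at this
      exact this (one_dvd e)
    obtain ⟨k, hk⟩ := Nat.exists_eq_succ_of_ne_zero h0
    refine ⟨k, not_not.mp (Nat.find_min hex (by omega)), ?_⟩
    have := Nat.find_spec hex
    rwa [hk] at this
  have he'nil : ∀ x ∈ ξ, IsNilpotent (e' * x) := fun x hx => by
    obtain ⟨n, hn⟩ := henil x hx
    refine ⟨n, ((hreg.pow k).pow n) ?_⟩
    show (π ^ k) ^ n * (e' * x) ^ n = (π ^ k) ^ n * 0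
    rw [mul_zero, ← mul_pow, ← mul_assoc, ← he', hn]
  refine hk ?_
  have h1 : e' ∈ Ideal.span {π} := by
    rw [← hrad.radical, ← Ideal.sInf_minimalPrimes, Submodule.mem_sInf]
    intro P hP
    haveI := hP.1.1
    obtain ⟨x, hxξ, hxP⟩ := Set.not_subset.mp (hcon P hP)
    exact (hP.1.1.mem_or_mem (nilpotent_iff_mem_prime.mp (he'nil x hxξ) P inferInstance)).resolve_right hxP
  obtain ⟨c, rfl⟩ := Ideal.mem_span_singleton.mp h1
  exact ⟨c, by rw [he', pow_succ, mul_assoc]⟩

variable {R C : Type u} [CommRing R] [CommRing C] [Algebra R C]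

/-- Clearing denominators in a fibre. -/
theorem exists_clear_fibre (p : Ideal R) [p.IsPrime] (z : C ⊗[R] p.ResidueField) :
    ∃ r ∉ p, ∃ c : C, ((1 : C) ⊗ₜ[R] algebraMap R p.ResidueField r) * z = c ⊗ₜ[R] (1 : p.ResidueField) := by
  induction z using TensorProduct.induction_on with
  | zero => exact ⟨1, (inferInstance : p.IsPrime).one_notMem, 0, by simp⟩
  | tmul c v =>
    obtain ⟨a, b, hb, rfl⟩ := IsFractionRing.div_surjective (A := R ⧸ p) v
    obtain ⟨a, rfl⟩ := Ideal.Quotient.mk_surjective a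
    obtain ⟨b, rfl⟩ := Ideal.Quotient.mk_surjective b
    have hbp : b ∉ p := fun h => nonZeroDivisors.ne_zero hb (Ideal.Quotient.eq_zero_iff_mem.mpr h)
    have hb0 : algebraMap R p.ResidueField b ≠ 0 := fun h => hbp (Ideal.algebraMap_residueField_eq_zero.mp h)
    refine ⟨b, hbp, a • c, ?_⟩
    rw [Algebra.TensorProduct.tmul_mul_tmul, one_mul]
    show c ⊗ₜ[R] (algebraMap R p.ResidueField b * (algebraMap R p.ResidueField a / algebraMap R p.ResidueField b)) = _
    rw [mul_div_cancel₀ _ hb0, Algebra.algebraMap_eq_smul_one]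
    exact (smul_tmul a c (1 : p.ResidueField)).symm
  | add x y hx hy =>
    obtain ⟨r₁, h₁, c₁, e₁⟩ := hx
    obtain ⟨r₂, h₂, c₂, e₂⟩ := hy
    refine ⟨r₁ * r₂, (inferInstance : p.IsPrime).mul_notMem h₁ h₂, r₂ • c₁ + r₁ • c₂, ?_⟩
    have ht : ∀ (r : R) (c : C), (r • c) ⊗ₜ[R] (1 : p.ResidueField) =
        ((1 : C) ⊗ₜ[R] algebraMap R p.ResidueField r) * (c ⊗ₜ[R] 1) := fun r c => by
      rw [Algebra.TensorProduct.tmul_mul_tmul, one_mul, mul_one, smul_tmul, Algebra.algebraMap_eq_smul_one]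
    rw [add_tmul, ht, ht, ← e₁, ← e₂, map_mul, mul_add, ← mul_one (1 : C), ← Algebra.TensorProduct.tmul_mul_tmul, mul_one]
    ring

/-- Minimal points of a fibre after a field extension lie over minimal points of the fibre. -/
theorem minimal_in_fibre_of_baseChange (L : Type u) [Field L] [Algebra R L]
    (Q : Ideal (C ⊗[R] L)) [Q.IsPrime]
    (hQ : ∀ Q' : Ideal (C ⊗[R] L), Q'.IsPrime → Q' ≤ Q → Q' = Q)
    (q' : Ideal C) [q'.IsPrime] (hle : q' ≤ Q.comap Algebra.TensorProduct.includeLeftRingHom)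
    (hp : q'.comap (algebraMap R C) = RingHom.ker (algebraMap R L)) :
    q' = Q.comap Algebra.TensorProduct.includeLeftRingHom := by
  let p := RingHom.ker (algebraMap R L)
  haveI : p.IsPrime := RingHom.ker_isPrime _
  let k := p.ResidueField
  let f : k →+* L := Ideal.ResidueField.lift p (algebraMap R L) le_rfl
    (fun r hr => isUnit_iff_ne_zero.mpr fun h => hr (RingHom.mem_ker.mpr h))
  letI : Algebra k L := f.toAlgebra
  haveI : IsScalarTower R k L := .of_algebraMap_eq fun r => (Ideal.ResidueField.lift_algebraMap p _ _ _ r).symm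
  let φ : C ⊗[R] k →+* C ⊗[R] L :=
    (Algebra.TensorProduct.map (AlgHom.id R C) (IsScalarTower.toAlgHom R k L)).toRingHom
  have hφ : φ.Flat := flat_map_field k L
  let g : k →+* q'.ResidueField := Ideal.ResidueField.map p q' (algebraMap R C) hp.symm
  have hg : ∀ r : R, g (algebraMap R k r) = algebraMap R q'.ResidueField r := fun r => by
    rw [Ideal.ResidueField.map_algebraMap, ← IsScalarTower.algebraMap_apply]
  let gA : k →ₐ[R] q'.ResidueField := { g with commutes' := hg }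
  let ν : C ⊗[R] k →ₐ[R] q'.ResidueField :=
    Algebra.TensorProduct.lift (IsScalarTower.toAlgHom R C q'.ResidueField) gA (fun _ _ => Commute.all _ _)
  let u' : Ideal (C ⊗[R] k) := RingHom.ker ν.toRingHom
  haveI : u'.IsPrime := RingHom.ker_isPrime _
  have hu'c : u'.comap Algebra.TensorProduct.includeLeftRingHom = q' := by
    ext c
    show ν (c ⊗ₜ 1) = 0 ↔ _
    rw [Algebra.TensorProduct.lift_tmul, map_one, mul_one]
    exact Ideal.algebraMap_residueField_eq_zero
  have hφl : φ.comp Algebra.TensorProduct.includeLeftRingHom = Algebra.TensorProduct.includeLeftRingHom := by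
    refine RingHom.ext fun c => ?_
    simp [φ]
  have hu'le : u' ≤ Q.comap φ := fun z hz => by
    obtain ⟨r, hr, c, hc⟩ := exists_clear_fibre p z
    have hunit : IsUnit ((1 : C) ⊗ₜ[R] algebraMap R k r) :=
      (isUnit_iff_ne_zero.mpr fun h => hr (Ideal.algebraMap_residueField_eq_zero.mp h)).map
        (Algebra.TensorProduct.includeRight : k →ₐ[R] C ⊗[R] k)
    have h1 : c ∈ u'.comap Algebra.TensorProduct.includeLeftRingHom := by
      show c ⊗ₜ[R] (1 : k) ∈ u'
      rw [← hc]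
      exact Ideal.mul_mem_left _ _ hz
    rw [hu'c] at h1
    have h2 : c ⊗ₜ[R] (1 : k) ∈ Q.comap φ := by
      have := hle h1
      rw [← hφl, ← Ideal.comap_comap] at this
      exact this
    rw [← hc] at h2
    exact (Ideal.unit_mul_mem_iff_mem _ hunit).mp h2
  letI := φ.toAlgebra
  haveI : Module.Flat (C ⊗[R] k) (C ⊗[R] L) := hφ
  haveI : Q.LiesOver (Q.comap φ) := ⟨rfl⟩
  obtain ⟨Q', hQ'le, hQ'p, hQ'o⟩ := Ideal.exists_ideal_le_liesOver_of_le (S := C ⊗[R] L) (q := Q.comap φ) Q hu'le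
  rw [← hu'c, hQ'o.over]
  show (Q'.comap φ).comap _ = _
  rw [Ideal.comap_comap, hφl, hQ Q' hQ'p hQ'le]

/-- Each minimal prime below a point of flatness with geometrically reduced fibre is contained in a
minimal point of the fibre below that point. -/
theorem exists_fibre_component_ge [IsNoetherianRing R] [Algebra.FiniteType R C] (𝔮 : Ideal C) [𝔮.IsPrime]
    [Module.Flat R (Localization.AtPrime 𝔮)] (hred : GeomRedAt R 𝔮)
    (ξ : Ideal C) (hξ : ξ ∈ minimalPrimes C) (hle : ξ ≤ 𝔮) :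
    ∃ 𝔷 : Ideal C, 𝔷.IsPrime ∧ ξ ≤ 𝔷 ∧ 𝔷 ≤ 𝔮 ∧ 𝔷.comap (algebraMap R C) = 𝔮.comap (algebraMap R C) ∧
      ∀ q' : Ideal C, q'.IsPrime → q' ≤ 𝔷 → q'.comap (algebraMap R C) = 𝔷.comap (algebraMap R C) → q' = 𝔷 := by
  haveI := hξ.1.1
  let p := 𝔮.comap (algebraMap R C)
  by_cases hξp : ξ.comap (algebraMap R C) = p
  · exact ⟨ξ, inferInstance, le_rfl, hle, hξp, fun q' hq' hq'ξ _ => le_antisymm hq'ξ (hξ.2 ⟨hq', bot_le⟩ hq'ξ)⟩
  haveI : IsNoetherianRing C := Algebra.FiniteType.isNoetherianRing R C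
  let A := Localization.AtPrime 𝔮
  let L := ξ.ResidueField
  have hAu : ∀ c : 𝔮.primeCompl, IsUnit (algebraMap C L (c : C)) := fun c =>
    isUnit_iff_ne_zero.mpr fun h => c.2 (hle (Ideal.algebraMap_residueField_eq_zero.mp h))
  letI : Algebra A L := (IsLocalization.lift (M := 𝔮.primeCompl) (S := A) hAu).toAlgebra
  have hAL : ∀ c : C, algebraMap A L (algebraMap C A c) = algebraMap C L c := fun c => IsLocalization.lift_eq hAu c
  have hgen : Subfield.closure (Set.range (algebraMap A L) ∪ ∅) = ⊤ := eq_top_iff.mpr fun z _ => by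
    obtain ⟨a, b, -, rfl⟩ := IsFractionRing.div_surjective (A := C ⧸ ξ) z
    obtain ⟨a, rfl⟩ := Ideal.Quotient.mk_surjective a
    obtain ⟨b, rfl⟩ := Ideal.Quotient.mk_surjective b
    exact div_mem (Subfield.subset_closure (Or.inl ⟨algebraMap C A a, hAL a⟩))
      (Subfield.subset_closure (Or.inl ⟨algebraMap C A b, hAL b⟩))
  have hker : RingHom.ker (algebraMap A L) ≠ IsLocalRing.maximalIdeal A := fun h => by
    refine hξp (congrArg (Ideal.comap (algebraMap R C)) (le_antisymm hle fun c hc => ?_))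
    have : algebraMap C A c ∈ RingHom.ker (algebraMap A L) :=
      h ▸ (IsLocalization.AtPrime.to_map_mem_maximal_iff A 𝔮 c).mpr hc
    rw [RingHom.mem_ker, hAL] at this
    exact Ideal.algebraMap_residueField_eq_zero.mp this
  obtain ⟨Vs, hV, hVmem, hVm⟩ :=
    Groth.L18.exists_isDiscreteValuationRing_dominating (A := A) (L := L) Set.finite_empty hgen hker
  haveI := hV
  let cV : C →+* Vs := (algebraMap C L).codRestrict Vs.toSubring fun c => by rw [← hAL]; exact hVmem _
  letI : Algebra R Vs := (cV.comp (algebraMap R C)).toAlgebra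
  let cVA : C →ₐ[R] Vs := { cV with commutes' := fun r => rfl }
  let θ : C ⊗[R] Vs →ₐ[R] Vs := Algebra.TensorProduct.lift cVA (AlgHom.id R Vs) (fun _ _ => Commute.all _ _)
  let Q : Ideal (C ⊗[R] Vs) := (IsLocalRing.maximalIdeal Vs).comap θ.toRingHom
  haveI : Q.IsPrime := inferInstance
  have hmem𝔮 : ∀ c : C, cV c ∈ IsLocalRing.maximalIdeal Vs ↔ c ∈ 𝔮 := fun c => by
    constructor
    · intro hc
      by_contra hn
      obtain ⟨u, hu⟩ := IsLocalization.map_units A (⟨c, hn⟩ : 𝔮.primeCompl)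
      have h1 : IsUnit (cV c) := IsUnit.of_mul_eq_one ⟨algebraMap A L ↑u⁻¹, hVmem _⟩ (Subtype.ext (by
        show algebraMap C L c * algebraMap A L ↑u⁻¹ = 1
        rw [← hAL, ← map_mul, ← show (u : A) = algebraMap C A c from hu, Units.mul_inv, map_one]))
      exact (IsLocalRing.mem_maximalIdeal _).mp hc h1
    · intro hc
      refine (ValuationSubring.valuation_lt_one_iff Vs (cV c)).mpr ?_
      show Vs.valuation (algebraMap C L c) < 1
      rw [← hAL]
      exact hVm _ ((IsLocalization.AtPrime.to_map_mem_maximal_iff A 𝔮 c).mpr hc)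
  have hQl : Q.comap Algebra.TensorProduct.includeLeftRingHom = 𝔮 := by
    refine Ideal.ext fun c => ?_
    show θ (c ⊗ₜ 1) ∈ IsLocalRing.maximalIdeal Vs ↔ c ∈ 𝔮
    rw [Algebra.TensorProduct.lift_tmul, map_one, mul_one]
    exact hmem𝔮 c
  have hQr : Q.comap (Algebra.TensorProduct.includeRight : Vs →ₐ[R] C ⊗[R] Vs).toRingHom =
      IsLocalRing.maximalIdeal Vs := by
    refine Ideal.ext fun v => ?_
    show θ (1 ⊗ₜ v) ∈ IsLocalRing.maximalIdeal Vs ↔ v ∈ IsLocalRing.maximalIdeal Vs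
    rw [Algebra.TensorProduct.lift_tmul, map_one, one_mul]
    rfl
  have hmp : (IsLocalRing.maximalIdeal Vs).comap (algebraMap R Vs) = p := by
    ext r
    exact hmem𝔮 (algebraMap R C r)
  let D := Localization.AtPrime Q
  haveI : IsNoetherianRing (C ⊗[R] Vs) := by
    haveI : IsNoetherianRing (Vs ⊗[R] C) := Algebra.FiniteType.isNoetherianRing Vs _
    exact isNoetherianRing_of_ringEquiv _ (Algebra.TensorProduct.comm R Vs C).toRingEquiv
  haveI : IsNoetherianRing D := IsLocalization.isNoetherianRing Q.primeCompl _ inferInstance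
  obtain ⟨ϖ, hϖ⟩ := IsDiscreteValuationRing.exists_irreducible Vs
  have hϖm : IsLocalRing.maximalIdeal Vs = Ideal.span {ϖ} := hϖ.maximalIdeal_eq
  let π : D := algebraMap (C ⊗[R] Vs) D ((1 : C) ⊗ₜ[R] ϖ)
  have hrad : (Ideal.span {π}).IsRadical := by
    have h := isRadical_closed_fibre 𝔮 hred Vs hmp Q hQl hQr
    rw [hϖm, Ideal.map_span, Set.image_singleton] at h
    exact h
  have hreg : IsSMulRegular D π := isSMulRegular_of_flat 𝔮 Vs Q hQl.le ϖ hϖ.ne_zero
  have hπm : π ∈ IsLocalRing.maximalIdeal D := (IsLocalization.AtPrime.to_map_mem_maximal_iff D Q _).mpr (by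
    show ϖ ∈ Q.comap (Algebra.TensorProduct.includeRight : Vs →ₐ[R] C ⊗[R] Vs).toRingHom
    rw [hQr, hϖm]
    exact Ideal.mem_span_singleton_self ϖ)
  -- the generic point
  let θ' : C ⊗[R] Vs →+* L := Vs.subtype.comp θ.toRingHom
  let ξ' : Ideal (C ⊗[R] Vs) := RingHom.ker θ'
  haveI : ξ'.IsPrime := RingHom.ker_isPrime _
  have hξ'Q : ξ' ≤ Q := fun z hz => by
    show θ z ∈ IsLocalRing.maximalIdeal Vs
    rw [show θ z = 0 from Subtype.ext hz]
    exact zero_mem _
  have hξ'l : ξ'.comap Algebra.TensorProduct.includeLeftRingHom = ξ := by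
    ext c
    show ((θ (c ⊗ₜ 1) : Vs) : L) = 0 ↔ _
    rw [Algebra.TensorProduct.lift_tmul, map_one, mul_one]
    exact Ideal.algebraMap_residueField_eq_zero
  haveI hξD : (ξ'.map (algebraMap (C ⊗[R] Vs) D)).IsPrime := by
    refine IsLocalization.isPrime_of_isPrime_disjoint Q.primeCompl D ξ' inferInstance ?_
    exact Set.disjoint_left.mpr fun z hz hz' => hz (hξ'Q hz')
  obtain ⟨η, hη, hηle⟩ := Ideal.exists_minimalPrimes_le (bot_le : (⊥ : Ideal D) ≤ ξ'.map (algebraMap (C ⊗[R] Vs) D))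
  obtain ⟨𝔷₁, h𝔷₁, hη𝔷⟩ := exists_minimal_span_ge π hπm hreg hrad η hη
  haveI := h𝔷₁.1.1
  haveI := hη.1.1
  let z₁ := 𝔷₁.comap (algebraMap (C ⊗[R] Vs) D)
  have hz₁Q : z₁ ≤ Q := fun z hz => by
    by_contra hn
    exact h𝔷₁.1.1.ne_top (Ideal.eq_top_of_isUnit_mem _ hz (IsLocalization.map_units D (⟨z, hn⟩ : Q.primeCompl)))
  have hϖz : (1 : C) ⊗ₜ[R] ϖ ∈ z₁ := h𝔷₁.1.2 (Ideal.mem_span_singleton_self π)
  have hηξ : (η.comap (algebraMap (C ⊗[R] Vs) D)).comap Algebra.TensorProduct.includeLeftRingHom = ξ := by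
    have h1 : (η.comap (algebraMap (C ⊗[R] Vs) D)).comap Algebra.TensorProduct.includeLeftRingHom ≤
        ξ'.comap Algebra.TensorProduct.includeLeftRingHom :=
      Ideal.comap_mono ((Ideal.comap_mono hηle).trans (le_of_eq (IsLocalization.under_map_of_isPrime_disjoint
        Q.primeCompl D inferInstance (Set.disjoint_left.mpr fun z hz hz' => hz (hξ'Q hz')))))
    replace h1 := h1.trans hξ'l.le
    exact le_antisymm h1 (hξ.2 ⟨inferInstance, bot_le⟩ h1)
  -- the closed fibre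
  let κ := Vs ⧸ IsLocalRing.maximalIdeal Vs
  letI : Field κ := Ideal.Quotient.field _
  let ρ : C ⊗[R] Vs →ₐ[R] C ⊗[R] κ :=
    Algebra.TensorProduct.map (AlgHom.id R C) (Ideal.Quotient.mkₐ R (IsLocalRing.maximalIdeal Vs))
  have hρs : Function.Surjective ρ :=
    Algebra.TensorProduct.map_surjective _ _ Function.surjective_id Ideal.Quotient.mk_surjective
  have hρk : RingHom.ker ρ.toRingHom ≤ z₁ := by
    show RingHom.ker ρ ≤ _
    rw [Algebra.TensorProduct.lTensor_ker _ Ideal.Quotient.mk_surjective]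
    refine Ideal.map_le_iff_le_comap.mpr ?_
    show RingHom.ker (Ideal.Quotient.mk (IsLocalRing.maximalIdeal Vs)) ≤ _
    rw [Ideal.mk_ker, hϖm, Ideal.span_singleton_le_iff_mem]
    exact hϖz
  let z₂ : Ideal (C ⊗[R] κ) := z₁.map ρ.toRingHom
  haveI : z₂.IsPrime := Ideal.map_isPrime_of_surjective hρs hρk
  have hz₂ : z₂.comap ρ.toRingHom = z₁ := by
    show (z₁.map ρ.toRingHom).comap ρ.toRingHom = z₁
    rw [Ideal.comap_map_of_surjective ρ.toRingHom hρs, ← RingHom.ker_eq_comap_bot, sup_eq_left.mpr hρk]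
  have hz₂l : z₂.comap Algebra.TensorProduct.includeLeftRingHom = z₁.comap Algebra.TensorProduct.includeLeftRingHom := by
    rw [← hz₂, Ideal.comap_comap]
    congr 1
  have hz₂min : ∀ Q' : Ideal (C ⊗[R] κ), Q'.IsPrime → Q' ≤ z₂ → Q' = z₂ := by
    intro Q' hQ' hQ'le
    haveI := hQ'
    have h1 : Q'.comap ρ.toRingHom ≤ z₁ := hz₂ ▸ Ideal.comap_mono hQ'le
    have hϖQ' : (1 : C) ⊗ₜ[R] ϖ ∈ Q'.comap ρ.toRingHom := by
      show ρ (1 ⊗ₜ ϖ) ∈ Q'
      rw [show ρ (1 ⊗ₜ ϖ) = (1 : C) ⊗ₜ[R] Ideal.Quotient.mk (IsLocalRing.maximalIdeal Vs) ϖ from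
        Algebra.TensorProduct.map_tmul _ _ _ _,
        Ideal.Quotient.eq_zero_iff_mem.mpr (hϖm ▸ Ideal.mem_span_singleton_self ϖ), tmul_zero]
      exact zero_mem _
    have hdisj : Disjoint (Q.primeCompl : Set (C ⊗[R] Vs)) ↑(Q'.comap ρ.toRingHom) :=
      Set.disjoint_left.mpr fun z hz hz' => hz (hz₁Q (h1 hz'))
    haveI : ((Q'.comap ρ.toRingHom).map (algebraMap (C ⊗[R] Vs) D)).IsPrime :=
      IsLocalization.isPrime_of_isPrime_disjoint Q.primeCompl D _ inferInstance hdisj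
    have h2 : 𝔷₁ ≤ (Q'.comap ρ.toRingHom).map (algebraMap (C ⊗[R] Vs) D) := by
      refine h𝔷₁.2 ⟨inferInstance, (Ideal.span_singleton_le_iff_mem _).mpr (Ideal.mem_map_of_mem _ hϖQ')⟩ ?_
      exact Ideal.map_le_iff_le_comap.mpr h1
    have h3 : z₁ ≤ Q'.comap ρ.toRingHom := by
      refine (Ideal.comap_mono h2).trans (le_of_eq ?_)
      exact IsLocalization.under_map_of_isPrime_disjoint Q.primeCompl D inferInstance hdisj
    exact le_antisymm hQ'le (Ideal.map_le_iff_le_comap.mpr h3)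
  have hκ : RingHom.ker (algebraMap R κ) = p := by
    rw [IsScalarTower.algebraMap_eq R Vs κ, ← RingHom.comap_ker, ← hmp]
    congr 1
    exact Ideal.mk_ker
  let 𝔷 := z₁.comap Algebra.TensorProduct.includeLeftRingHom
  have h𝔷p : 𝔷.comap (algebraMap R C) = p := by
    show (z₁.comap _).comap _ = p
    have hb : z₂.comap (Algebra.TensorProduct.includeRight : κ →ₐ[R] C ⊗[R] κ).toRingHom = ⊥ :=
      (Ideal.eq_bot_or_top _).resolve_right (Ideal.IsPrime.ne_top inferInstance)
    have hcomm : (Algebra.TensorProduct.includeLeftRingHom : C →+* C ⊗[R] κ).comp (algebraMap R C) =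
        (Algebra.TensorProduct.includeRight : κ →ₐ[R] C ⊗[R] κ).toRingHom.comp (algebraMap R κ) := by
      refine RingHom.ext fun r => ?_
      show algebraMap R C r ⊗ₜ[R] (1 : κ) = (1 : C) ⊗ₜ[R] algebraMap R κ r
      rw [Algebra.algebraMap_eq_smul_one, Algebra.algebraMap_eq_smul_one, smul_tmul]
    rw [← hz₂l, ← hκ, Ideal.comap_comap, hcomm, ← Ideal.comap_comap, hb]
    rfl
  refine ⟨𝔷, inferInstance, ?_, ?_, h𝔷p, fun q' hq' hq'le hq'p => ?_⟩
  · rw [← hηξ]
    exact Ideal.comap_mono (Ideal.comap_mono hη𝔷)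
  · rw [← hQl]
    exact Ideal.comap_mono hz₁Q
  · haveI := hq'
    show q' = z₁.comap _
    rw [← hz₂l]
    exact minimal_in_fibre_of_baseChange κ z₂ hz₂min q' (hz₂l ▸ hq'le) (by rw [hq'p, h𝔷p, hκ])

end Groth.L07.FlatGeomReduced
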