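import Groth.Agent.L07.SmoothFibrePoint
import Groth.Agent.L07.ComponentFibre
import Groth.Agent.L07.DimToolkit
import Groth.Agent.L23.QFDescent
import Mathlib.RingTheory.RingHom.StandardSmooth
import Mathlib.AlgebraicGeometry.AffineSpace

/-!
The dimensions of the generic fibres of the components through a point with geometrically reduced fibre.
-/

universe u

open CategoryTheory CategoryTheory.Limits AlgebraicGeometry Topology

namespace Groth.L07.FlatGeomReduced

set_option autoImplicit false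
set_option linter.style.haveILetI false
set_option maxSynthPendingDepth 3
set_option backward.isDefEq.respectTransparency.types false
set_option backward.isDefEq.respectTransparency false

open Groth.L07.Equidim

/-- In a standard smooth chart the components have maximal fibre dimension. -/
theorem fdim_le_fdim_of_standardSmooth {R D : Type u} [CommRing R] [CommRing D] [Algebra R D]
    [Algebra.IsStandardSmooth R D] (z ξ : PrimeSpectrum D) (hξ : ξ.asIdeal ∈ minimalPrimes D) :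
    fdim (Spec.map (CommRingCat.ofHom (algebraMap R D))) z ≤ fdim (Spec.map (CommRingCat.ofHom (algebraMap R D))) ξ := by
  have hs : (algebraMap R D).IsStandardSmooth := RingHom.isStandardSmooth_algebraMap.mpr inferInstance
  obtain ⟨n, g, hgC, hg⟩ := hs.exists_etale_mvPolynomial
  let N := ULift.{u} (Fin n)
  let ρ := MvPolynomial.renameEquiv R (Equiv.ulift : N ≃ Fin n)
  let g' : MvPolynomial N R →+* D := g.comp ρ.toAlgHom.toRingHom
  have hbij : Function.Bijective ρ.toAlgHom.toRingHom := ρ.bijective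
  have hg' : g'.Etale := RingHom.Etale.stableUnderComposition _ _
    (RingHom.Etale.respectsIso.2 (RingHom.id _) ρ.toRingEquiv |> fun _ => ?_) hg
  · let m : Spec (CommRingCat.of D) ⟶ 𝔸(N; Spec (CommRingCat.of R)) :=
      Spec.map (CommRingCat.ofHom g') ≫ (AffineSpace.SpecIso N (CommRingCat.of R)).inv
    haveI : Etale (Spec.map (CommRingCat.ofHom g')) := by
      rw [HasRingHomProperty.Spec_iff (P := @Etale)]; exact hg'
    haveI : Etale m := inferInstance
    have hm : m ≫ (𝔸(N; Spec (CommRingCat.of R)) ↘ Spec (CommRingCat.of R)) =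
        Spec.map (CommRingCat.ofHom (algebraMap R D)) := by
      rw [Category.assoc, AffineSpace.SpecIso_inv_over, ← Spec.map_comp]
      refine congrArg Spec.map (CommRingCat.hom_ext (RingHom.ext fun r => ?_))
      show g (ρ (MvPolynomial.C r)) = _
      simp [ρ, ← hgC]
    rw [fdim_comp m _ _ hm, fdim_comp m _ _ hm]
    have hmax : ∀ q, q ⤳ m ξ → q = m ξ := by
     intro q hq
     obtain ⟨ξ', hξ', hmξ⟩ := (Flat.generalizingMap m) hq
     have hle := (PrimeSpectrum.le_iff_specializes ξ' ξ).mpr hξ'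
     rw [← hmξ, show ξ' = ξ from PrimeSpectrum.ext (le_antisymm hle (hξ.2 ⟨ξ'.isPrime, bot_le⟩ hle))]
    exact (Groth.L07.OpenEquiv.fdim_affineSpace_le _).trans (fdim_affineSpace_of_maximal (n := N) (m ξ) hmax).ge
  · exact RingHom.Etale.of_bijective hbij

section Algebra

variable {R C : Type u} [CommRing R] [CommRing C] [Algebra R C]

open TensorProduct

/-- The components through a point of flatness with geometrically reduced fibre: they dominate components
of the base, and each has a chart which is standard smooth around a generic point of the fibre. -/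
theorem exists_component_chart [IsNoetherianRing R] [Algebra.FiniteType R C] (𝔮 : Ideal C) [𝔮.IsPrime]
    [Module.Flat R (Localization.AtPrime 𝔮)] (hred : GeomRedAt R 𝔮)
    (ξ : Ideal C) (hξ : ξ ∈ minimalPrimes C) (hle : ξ ≤ 𝔮) :
    (∀ η : Ideal R, η.IsPrime → η ≤ ξ.comap (algebraMap R C) → η = ξ.comap (algebraMap R C)) ∧
    ∃ 𝔷 : Ideal C, 𝔷.IsPrime ∧ ξ ≤ 𝔷 ∧ 𝔷 ≤ 𝔮 ∧ 𝔷.comap (algebraMap R C) = 𝔮.comap (algebraMap R C) ∧
      (∀ q' : Ideal C, q'.IsPrime → q' ≤ 𝔷 → q'.comap (algebraMap R C) = 𝔷.comap (algebraMap R C) → q' = 𝔷) ∧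
      ∃ f ∉ 𝔷, Algebra.IsStandardSmooth R (Localization.Away f) := by
  haveI := hξ.1.1
  haveI : Algebra.FinitePresentation R C := Algebra.FinitePresentation.of_finiteType.mp inferInstance
  have hflat : ∀ (P : Ideal C) (_ : P.IsPrime), P ≤ 𝔮 → Module.Flat R (Localization.AtPrime P) := fun P hPp hP =>
    (flat_localization_iff (R := R) P.primeCompl (Localization.AtPrime P)).mpr (Groth.L20.flat_localizedModule_of_le
      (show 𝔮.primeCompl ≤ P.primeCompl from fun c hc hcP => hc (hP hcP))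
      ((flat_localization_iff 𝔮.primeCompl (Localization.AtPrime 𝔮)).mp inferInstance))
  obtain ⟨𝔷, h𝔷, hξ𝔷, h𝔷𝔮, h𝔷p, hmin⟩ := exists_fibre_component_ge 𝔮 hred ξ hξ hle
  haveI := h𝔷
  refine ⟨fun η hη hηle => ?_, 𝔷, h𝔷, hξ𝔷, h𝔷𝔮, h𝔷p, hmin, ?_⟩
  · haveI := hη
    haveI := hflat ξ inferInstance hle
    let S := Localization.AtPrime ξ
    haveI : (IsLocalRing.maximalIdeal S).LiesOver (ξ.comap (algebraMap R C)) := ⟨by
      rw [Ideal.under_def, IsScalarTower.algebraMap_eq R C S, ← Ideal.comap_comap]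
      exact (congrArg (Ideal.comap (algebraMap R C)) (IsLocalization.AtPrime.under_maximalIdeal S ξ)).symm⟩
    obtain ⟨P, hPle, hPp, hPo⟩ :=
      Ideal.exists_ideal_le_liesOver_of_le (S := S) (q := ξ.comap (algebraMap R C)) (IsLocalRing.maximalIdeal S) hηle
    have hP1 : P.comap (algebraMap C S) ≤ ξ := by
      refine (Ideal.comap_mono hPle).trans (le_of_eq ?_)
      exact IsLocalization.AtPrime.under_maximalIdeal S ξ
    have hP2 := le_antisymm hP1 (hξ.2 ⟨inferInstance, bot_le⟩ hP1)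
    rw [hPo.over, Ideal.under_def, IsScalarTower.algebraMap_eq R C S, ← Ideal.comap_comap, hP2]
  · haveI := hflat 𝔷 h𝔷 h𝔷𝔮
    haveI := isSmoothAt_of_geomRedAt_generic 𝔷 (geomRedAt_of_le 𝔮 hred 𝔷 h𝔷𝔮 h𝔷p) hmin
    exact Algebra.IsSmoothAt.exists_notMem_isStandardSmooth R 𝔷

end Algebra

variable {X Y : Scheme.{u}}

theorem fdim_postcomp (f : X ⟶ Y) {Z : Scheme.{u}} (i : Y ⟶ Z) (hi : Function.Injective i.base) (u : X) :
    fdim (f ≫ i) u = fdim f u := by
  unfold fdim
  have : (f ≫ i).base ⁻¹' {(f ≫ i).base u} = f.base ⁻¹' {f.base u} := by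
    ext w
    exact ⟨fun h => hi h, fun h => congrArg i.base h⟩
  rw [this]

/-- The components through a point with geometrically reduced fibre at whose fibre's generic points the
morphism is universally open. -/
theorem component_data [IsLocallyNoetherian Y] (f : X ⟶ Y) [LocallyOfFiniteType f] (x : X)
    (hopen : ∀ z : ↥(f.fiber (f.base x)), f.asFiber x ∈ closure {z} →
      (∀ z' : ↥(f.fiber (f.base x)), z ∈ closure {z'} → z' = z) →
      EGA43.IsUnivOpenAt f ((f.fiberι (f.base x)).base z))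
    (hred : FBase.IsGeomReducedAt (f.fiberToSpecResidueField (f.base x)) (f.asFiber x))
    (ξ : X) (hξ : ξ ⤳ x) (hξmax : ∀ q, q ⤳ ξ → q = ξ) :
    (∀ η, η ⤳ f ξ → η = f ξ) ∧ ∃ z, ξ ⤳ z ∧ z ⤳ x ∧ f z = f x ∧
      (∀ z', f z' = f z → z' ⤳ z → z' = z) ∧ fdim f z ≤ fdim f ξ := by
  obtain ⟨V, hV, hyV, -⟩ := exists_isAffineOpen_mem_and_subset (X := Y) (x := f x) (U := ⊤) trivial
  obtain ⟨W, hW, hxW, e⟩ := exists_isAffineOpen_mem_and_subset (X := X) (x := x) (U := f ⁻¹ᵁ V) hyV
  replace e : W ≤ f ⁻¹ᵁ V := e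
  haveI : IsNoetherianRing Γ(Y, V) := IsLocallyNoetherian.component_noetherian ⟨V, hV⟩
  letI := (f.appLE V W e).hom.toAlgebra
  have halg : algebraMap Γ(Y, V) Γ(X, W) = (f.appLE V W e).hom := rfl
  haveI : Algebra.FiniteType Γ(Y, V) Γ(X, W) := RingHom.finiteType_algebraMap.mp (f.finiteType_appLE hV hW e)
  let R := Γ(Y, V)
  let C := Γ(X, W)
  let 𝔮 := (hW.primeIdealOf ⟨x, hxW⟩).asIdeal
  let R₁ := R ⧸ nilradical R
  let C₁ := TensorProduct R R₁ C
  let j : C →+* C₁ := (Algebra.TensorProduct.includeRight : C →ₐ[R] C₁).toRingHom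
  have hj : Function.Surjective j := includeRight_quot_surjective _
  have hnil : ∀ (𝔓 : Ideal C) [𝔓.IsPrime], nilradical R ≤ 𝔓.comap (algebraMap R C) := fun 𝔓 _ r hr =>
    nilradical_le_prime 𝔓 (mem_nilradical.mpr ((mem_nilradical.mp hr).map (algebraMap R C)))
  obtain ⟨𝔮', _, h𝔮'⟩ := exists_over_quot (nilradical R) 𝔮 (hnil 𝔮)
  obtain ⟨hflat, hred'⟩ := flat_quot_nilradical 𝔮 (geomRedAt f x hV hW e hxW halg hred)
    (fun 𝔷 _ hle h𝔷 hgen B _ _ _ _ P hP _ => isOpenAt_chart f x hV hW e hxW halg hopen 𝔷 hle h𝔷 hgen B P hP) 𝔮' h𝔮'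
  -- the point
  have hξW : ξ ∈ W := hξ.mem_open W.2 hxW
  let P₀ := (hW.primeIdealOf ⟨ξ, hξW⟩)
  obtain ⟨ξ₁, _, hξ₁⟩ := exists_over_quot (nilradical R) P₀.asIdeal (hnil P₀.asIdeal)
  have hspec : ∀ a b : PrimeSpectrum C, a.asIdeal ≤ b.asIdeal ↔ hW.fromSpec.base a ⤳ hW.fromSpec.base b := fun a b =>
    (PrimeSpectrum.le_iff_specializes a b).trans hW.fromSpec.isEmbedding.isInducing.specializes_iff.symm
  have hξle : ξ₁ ≤ 𝔮' := fun z hz => by
    obtain ⟨c, rfl⟩ := hj z
    have h1 : c ∈ P₀.asIdeal := hξ₁.le hz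
    have h2 : P₀.asIdeal ≤ 𝔮 := (hspec P₀ _).mpr (by
      rw [hW.fromSpec_primeIdealOf, hW.fromSpec_primeIdealOf]; exact hξ)
    exact h𝔮'.ge (h2 h1)
  have hξmin : ξ₁ ∈ minimalPrimes C₁ := by
    refine ⟨⟨inferInstance, bot_le⟩, fun Q hQ hQle z hz => ?_⟩
    haveI := hQ.1
    obtain ⟨c, rfl⟩ := hj z
    let Qc : PrimeSpectrum C := ⟨Q.comap j, inferInstance⟩
    have h1 : hW.fromSpec.base Qc = ξ := by
      refine hξmax _ ?_
      conv_rhs => rw [show ξ = hW.fromSpec.base P₀ from (hW.fromSpec_primeIdealOf ⟨ξ, hξW⟩).symm]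
      exact (hspec Qc P₀).mp ((Ideal.comap_mono hQle).trans hξ₁.le)
    have h2 : Qc = P₀ := hW.fromSpec.isEmbedding.injective (h1.trans (hW.fromSpec_primeIdealOf ⟨ξ, hξW⟩).symm)
    show c ∈ Qc.asIdeal
    rw [h2]
    exact hξ₁.le hz
  haveI := hflat
  haveI : _root_.IsReduced R₁ := (Ideal.isRadical_iff_quotient_reduced _).mp (Ideal.radical_isRadical _)
  obtain ⟨hdom, 𝔷, h𝔷, hξ𝔷, h𝔷𝔮, h𝔷p, hmin, g, hg, hgs⟩ := exists_component_chart 𝔮' hred' ξ₁ hξmin hξle
  haveI := h𝔷
  -- translation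
  let iR : Spec (CommRingCat.of R₁) ⟶ Y := Spec.map (CommRingCat.ofHom (algebraMap R R₁)) ≫ hV.fromSpec
  let jX : Spec (CommRingCat.of C₁) ⟶ X := Spec.map (CommRingCat.ofHom j) ≫ hW.fromSpec
  haveI : IsClosedImmersion (Spec.map (CommRingCat.ofHom j)) := IsClosedImmersion.spec_of_surjective _ hj
  haveI : IsClosedImmersion (Spec.map (CommRingCat.ofHom (algebraMap R R₁))) :=
    IsClosedImmersion.spec_of_surjective _ Ideal.Quotient.mk_surjective
  have hiR : Function.Injective iR.base := iR.isEmbedding.injective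
  have hsq : jX ≫ f = Spec.map (CommRingCat.ofHom (algebraMap R₁ C₁)) ≫ iR := by
    have keyφ : Spec.map (CommRingCat.ofHom (algebraMap R C)) ≫ hV.fromSpec = hW.fromSpec ≫ f := by
      rw [← IsAffineOpen.SpecMap_appLE_fromSpec f hV hW e, halg]; rfl
    simp only [jX, iR, Category.assoc]
    rw [← keyφ, ← Spec.map_comp_assoc, ← Spec.map_comp_assoc]
    congr 2
    refine CommRingCat.hom_ext (RingHom.ext fun r => ?_)
    show j (algebraMap R C r) = algebraMap R₁ C₁ (algebraMap R R₁ r)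
    rw [← IsScalarTower.algebraMap_apply R R₁ C₁]
    exact (Algebra.TensorProduct.includeRight : C →ₐ[R] C₁).commutes r
  have hjξ : jX.base ⟨ξ₁, inferInstance⟩ = ξ := by
    rw [show ξ = hW.fromSpec.base P₀ from (hW.fromSpec_primeIdealOf ⟨ξ, hξW⟩).symm]
    exact congrArg hW.fromSpec.base (PrimeSpectrum.ext hξ₁)
  have hjx : jX.base ⟨𝔮', inferInstance⟩ = x := by
    exact (congrArg hW.fromSpec.base (PrimeSpectrum.ext h𝔮' : _ = hW.primeIdealOf ⟨x, hxW⟩)).trans
      (hW.fromSpec_primeIdealOf ⟨x, hxW⟩)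
  let z₁ : PrimeSpectrum C₁ := ⟨𝔷, h𝔷⟩
  have hbase : ∀ w : PrimeSpectrum C₁, f (jX.base w) = iR.base (PrimeSpectrum.comap (algebraMap R₁ C₁) w) := fun w => by
    rw [← Scheme.Hom.comp_apply, hsq, Scheme.Hom.comp_apply]; rfl
  refine ⟨fun η hη => ?_, jX.base z₁, ?_, ?_, ?_, fun z' hz' hs => ?_, ?_⟩
  · rw [← hjξ, hbase] at hη ⊢
    have hηV : η ∈ Set.range iR.base := by
      have hrange : Set.range iR.base = (V : Set Y) := by
        have hsur : Function.Surjective (Spec.map (CommRingCat.ofHom (algebraMap R R₁))).base := fun w => by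
          obtain ⟨w', hw'⟩ : (w : PrimeSpectrum R) ∈ Set.range (PrimeSpectrum.comap (Ideal.Quotient.mk (nilradical R))) := by
            rw [_root_.range_comap_of_surjective _ _ Ideal.Quotient.mk_surjective, Ideal.mk_ker]
            exact (PrimeSpectrum.mem_zeroLocus _ _).mpr (nilradical_le_prime _)
          exact ⟨w', hw'⟩
        rw [Scheme.Hom.comp_base, TopCat.coe_comp, hsur.range_comp]
        exact hV.range_fromSpec
      rw [hrange]
      exact hη.mem_open V.2 (hrange.subset ⟨_, rfl⟩)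
    obtain ⟨w, rfl⟩ := hηV
    refine congrArg iR.base (PrimeSpectrum.ext (hdom w.asIdeal w.isPrime ?_))
    exact (PrimeSpectrum.le_iff_specializes w _).mpr (iR.isEmbedding.isInducing.specializes_iff.mp hη)
  · rw [← hjξ]
    exact ((PrimeSpectrum.le_iff_specializes ⟨ξ₁, inferInstance⟩ z₁).mp hξ𝔷).map jX.continuous
  · conv_rhs => rw [← hjx]
    exact ((PrimeSpectrum.le_iff_specializes z₁ ⟨𝔮', inferInstance⟩).mp h𝔷𝔮).map jX.continuous
  · conv_rhs => rw [← hjx]
    rw [hbase, hbase]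
    exact congrArg iR.base (PrimeSpectrum.ext h𝔷p)
  · have hz'W : z' ∈ W := hs.mem_open W.2 (hW.range_fromSpec.subset ⟨_, rfl⟩)
    obtain ⟨Q, _, hQ⟩ := exists_over_quot (nilradical R) (hW.primeIdealOf ⟨z', hz'W⟩).asIdeal (hnil _)
    have hjQ : jX.base ⟨Q, inferInstance⟩ = z' := by
      exact (congrArg hW.fromSpec.base (PrimeSpectrum.ext hQ : _ = hW.primeIdealOf ⟨z', hz'W⟩)).trans
        (hW.fromSpec_primeIdealOf ⟨z', hz'W⟩)
    rw [← hjQ] at hz' hs ⊢
    rw [hbase, hbase] at hz'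
    refine congrArg jX.base (PrimeSpectrum.ext (hmin Q inferInstance ?_ (congrArg PrimeSpectrum.asIdeal (hiR hz'))))
    exact (PrimeSpectrum.le_iff_specializes (⟨Q, inferInstance⟩ : PrimeSpectrum C₁) z₁).mpr
      (jX.isEmbedding.isInducing.specializes_iff.mp hs)
  · let D := Localization.Away g
    haveI := hgs
    let o : Spec (CommRingCat.of D) ⟶ Spec (CommRingCat.of C₁) := Spec.map (CommRingCat.ofHom (algebraMap C₁ D))
    haveI : IsOpenImmersion o := IsOpenImmersion.of_isLocalization g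
    have hlift : ∀ (P : Ideal C₁) (_ : P.IsPrime), g ∉ P → ∃ w : PrimeSpectrum D, o.base w = ⟨P, ‹_›⟩ := fun P _ hP => by
      have hdisj := (Ideal.disjoint_powers_iff_notMem_of_isPrime (I := P) g).mpr hP
      haveI : (P.map (algebraMap C₁ D)).IsPrime :=
        IsLocalization.isPrime_of_isPrime_disjoint (Submonoid.powers g) D P inferInstance hdisj
      exact ⟨⟨P.map (algebraMap C₁ D), inferInstance⟩, PrimeSpectrum.ext
        (IsLocalization.under_map_of_isPrime_disjoint (Submonoid.powers g) D inferInstance hdisj)⟩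
    obtain ⟨wz, hwz⟩ := hlift 𝔷 h𝔷 hg
    obtain ⟨wξ, hwξ⟩ := hlift ξ₁ inferInstance fun h => hg (hξ𝔷 h)
    have hwmin : wξ.asIdeal ∈ minimalPrimes D := by
      refine ⟨⟨wξ.isPrime, bot_le⟩, fun Q hQ hQle => ?_⟩
      haveI := hQ.1
      have h1 : Q.comap (algebraMap C₁ D) ≤ ξ₁ :=
        (Ideal.comap_mono hQle).trans (congrArg PrimeSpectrum.asIdeal hwξ).le
      have h2 := le_antisymm h1 (hξmin.2 ⟨inferInstance, bot_le⟩ h1)
      have h3 : o.base ⟨Q, hQ.1⟩ = o.base wξ := by rw [hwξ]; exact PrimeSpectrum.ext h2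
      exact (congrArg PrimeSpectrum.asIdeal (o.isEmbedding.injective h3)).ge
    have hoD : o ≫ jX ≫ f = Spec.map (CommRingCat.ofHom (algebraMap R₁ D)) ≫ iR := by
      rw [hsq, ← Spec.map_comp_assoc]; rfl
    haveI : LocallyOfFiniteType (o ≫ jX) := inferInstance
    haveI : LocallyQuasiFinite (o ≫ jX) := inferInstance
    have hval : ∀ w : Spec (CommRingCat.of D), fdim f (jX.base (o.base w)) =
        fdim (Spec.map (CommRingCat.ofHom (algebraMap R₁ D))) w := fun w => by
      have h1 : (o ≫ jX) ≫ f = Spec.map (CommRingCat.ofHom (algebraMap R₁ D)) ≫ iR := by rw [Category.assoc, hoD]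
      rw [← fdim_postcomp (Spec.map (CommRingCat.ofHom (algebraMap R₁ D))) iR hiR, fdim_comp (o ≫ jX) f _ h1,
        Scheme.Hom.comp_apply]
      rfl
    have e1 : o.base wz = z₁ := hwz
    calc fdim f (jX.base z₁) = fdim f (jX.base (o.base wz)) := (congrArg (fun w => fdim f (jX.base w)) e1).symm
      _ = _ := hval wz
      _ ≤ _ := fdim_le_fdim_of_standardSmooth wz wξ hwmin
      _ = _ := (hval wξ).symm
      _ = fdim f ξ := congrArg (fdim f) ((congrArg jX.base hwξ).trans hjξ)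

end Groth.L07.FlatGeomReduced
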