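import Groth.Agent.L07.ConormalPairFree
import Groth.Agent.L14.Conormal.Mono
import Groth.Agent.L16.ProjSpace.Twist
import Groth.Agent.L17.FlatBase.CxTools
import Groth.Agent.L29.LocFree

/-!
The conormal sequence of two immersions, near a point where the first is regular.
-/

set_option autoImplicit false
set_option linter.style.haveILetI false
set_option maxSynthPendingDepth 3
set_option backward.isDefEq.respectTransparency.types false
set_option backward.isDefEq.respectTransparency false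

universe u

open CategoryTheory CategoryTheory.Limits AlgebraicGeometry TopologicalSpace Opposite
open Groth.L18.Frame (rs rs_rs rs_self)

noncomputable section

namespace Groth.L07.ConormalPair

variable {X Y Z : Scheme.{u}}

/-- A map of modules injective on a basis of sections below `U` restricts to a monomorphism. -/
theorem mono_restrict_of_injective {M N : Z.Modules} (a : M ⟶ N) (U : Z.Opens)
    (h : ∀ (z : Z) (O : Z.Opens), z ∈ O → O ≤ U → ∃ W : Z.Opens, z ∈ W ∧ W ≤ O ∧ Function.Injective (a.app W)) :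
    Mono ((Scheme.Modules.restrictFunctor U.ι).map a) := by
  refine ⟨fun {P} u v e => Scheme.Modules.hom_ext _ _ fun U' => ?_⟩
  ext t
  refine Groth.L19.OmegaSh.eq_of_local _ _ fun x hx => ?_
  obtain ⟨W, hxW, hle, hinj⟩ := h x.1 (U.ι ''ᵁ U') ⟨x, hx, rfl⟩
    ((U.ι.image_mono le_top).trans U.ι_image_top.le)
  have hW : W ≤ U := hle.trans ((U.ι.image_mono le_top).trans U.ι_image_top.le)
  have e₁ : U.ι ''ᵁ (U.ι ⁻¹ᵁ W) = W := by
    rw [Scheme.Hom.image_preimage_eq_opensRange_inf, Scheme.Opens.opensRange_ι]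
    exact inf_eq_right.2 hW
  have hle' : U.ι ⁻¹ᵁ W ≤ U' := (U.ι.preimage_mono hle).trans (U.ι.preimage_image_eq U').le
  rw [← e₁] at hinj
  refine ⟨U.ι ⁻¹ᵁ W, hle', hxW, hinj ?_⟩
  have e' : ((Scheme.Modules.restrictFunctor U.ι).map a).app U' (u.app U' t) =
      ((Scheme.Modules.restrictFunctor U.ι).map a).app U' (v.app U' t) := congr($(e).app U' t)
  show ((Scheme.Modules.restrictFunctor U.ι).map a).app (U.ι ⁻¹ᵁ W) _ =
    ((Scheme.Modules.restrictFunctor U.ι).map a).app (U.ι ⁻¹ᵁ W) _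
  rw [Groth.L19.OmegaSh.hom_rs, Groth.L19.OmegaSh.hom_rs, e']

/-- A map out of the structure module is the one given by the image of `1`. -/
theorem eq_homOfSection {M : Z.Modules} (φ : Coh.structureModule Z ⟶ M) :
    φ = Groth.L16.homOfSection M (φ.app ⊤ (1 : Γ(Z, ⊤))) := by
  refine Scheme.Modules.hom_ext _ _ fun V => ?_
  ext r₀
  let r : Γ(Z, V) := r₀
  have h1 : φ.app V r₀ = r • φ.app V (1 : Γ(Z, V)) := by
    refine (congrArg (φ.app V) ?_).trans (φ.app_smul r (1 : Γ(Z, V)))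
    exact (mul_one r).symm
  refine h1.trans ?_
  show _ = r • M.presheaf.map (homOfLE (le_top : V ≤ ⊤)).op (φ.app ⊤ (1 : Γ(Z, ⊤)))
  refine congrArg (r • ·) ?_
  refine Eq.trans ?_ (NatTrans.naturality_apply φ.mapPresheaf (homOfLE (le_top : V ≤ ⊤)).op (1 : Γ(Z, ⊤)))
  exact congrArg (φ.app V) (map_one (Z.presheaf.map (homOfLE (le_top : V ≤ ⊤)).op).hom).symm

/-- An epimorphism onto a free module over an affine scheme has a section. -/
theorem exists_section_of_epi [IsAffine Z] {M N : Z.Modules} [Coh.IsQCoh M] [Coh.IsQCoh N] (p : M ⟶ N) [Epi p]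
    {n : ℕ} (e : N ≅ FlatMod.freeMod Z n) : ∃ r : N ⟶ M, r ≫ p = 𝟙 N := by
  classical
  let v : Fin n → (Coh.structureModule Z ⟶ N) := fun k => Sigma.ι (fun _ : Fin n => Coh.structureModule Z) k ≫ e.inv
  choose s hs using fun k => Groth.L16.AffineBC.surjective_app_of_epi p (isAffineOpen_top Z) ((v k).app ⊤ (1 : Γ(Z, ⊤)))
  refine ⟨e.hom ≫ Sigma.desc fun k => Groth.L16.homOfSection M (s k), ?_⟩
  rw [Category.assoc, ← Iso.eq_inv_comp, Category.comp_id]
  refine Sigma.hom_ext _ _ fun k => ?_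
  rw [Sigma.ι_desc_assoc]
  refine ((eq_homOfSection _).trans ?_).trans (eq_homOfSection (v k)).symm
  refine congrArg (Groth.L16.homOfSection N) ?_
  refine Eq.trans ?_ (hs k)
  show p.app ⊤ ((1 : Γ(Z, ⊤)) • M.presheaf.map (homOfLE (le_top : (⊤ : Z.Opens) ≤ ⊤)).op (s k)) = _
  rw [one_smul]
  exact congrArg (p.app ⊤) (rs_self M _ (s k))

/-- A short exact splitting near a point from an exact epimorphic sequence, locally monomorphic and locally free. -/
theorem exists_splitting {S : ShortComplex Z.Modules} (hS : S.Exact) [Epi S.g]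
    [Coh.IsQCoh S.X₂] [Coh.IsQCoh S.X₃] (z : Z) (U₀ : Z.Opens) (hz₀ : z ∈ U₀)
    (hmono : ∀ (x : Z) (O : Z.Opens), x ∈ O → O ≤ U₀ → ∃ W : Z.Opens, x ∈ W ∧ W ≤ O ∧ Function.Injective (S.f.app W))
    (U₁ : Z.Opens) (hz₁ : z ∈ U₁) {n : ℕ} (e : S.X₃.restrict U₁.ι ≅ FlatMod.freeMod (U₁ : Scheme.{u}) n) :
    ∃ U : Z.Opens, z ∈ U ∧ ∀ w : (Scheme.Modules.restrictFunctor U.ι).map S.f ≫
        (Scheme.Modules.restrictFunctor U.ι).map S.g = 0,
      Nonempty (ShortComplex.mk ((Scheme.Modules.restrictFunctor U.ι).map S.f)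
        ((Scheme.Modules.restrictFunctor U.ι).map S.g) w).Splitting := by
  obtain ⟨_, ⟨U', hU', rfl⟩, hzU, hle⟩ :=
    Z.isBasis_affineOpens.exists_subset_of_mem_open (show z ∈ U₀ ⊓ U₁ from ⟨hz₀, hz₁⟩) (U₀ ⊓ U₁).2
  let U : Z.Opens := U'
  have hU : IsAffineOpen U := hU'
  have hU₀ : U ≤ U₀ := fun x hx => (hle hx).1
  have hU₁ : U ≤ U₁ := fun x hx => (hle hx).2
  refine ⟨U, hzU, fun w => ?_⟩
  haveI : IsAffine (U : Scheme.{u}) := hU
  let R := Scheme.Modules.restrictFunctor U.ι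
  haveI : PreservesFiniteLimits (Scheme.Modules.pullback U.ι) :=
    Groth.L17.CxTools.preservesFiniteLimits_pullback _
  haveI : PreservesFiniteLimits R :=
    preservesFiniteLimits_of_natIso (Scheme.Modules.restrictFunctorIsoPullback U.ι).symm
  haveI : R.IsLeftAdjoint := (Scheme.Modules.restrictAdjunction U.ι).isLeftAdjoint
  haveI : R.Additive := (Scheme.Modules.restrictAdjunction U.ι).left_adjoint_additive
  haveI : Coh.IsQCoh (R.obj S.X₂) := Scheme.Modules.isQuasicoherent_restrictFunctor U.ι _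
  haveI : Coh.IsQCoh (R.obj S.X₃) := Scheme.Modules.isQuasicoherent_restrictFunctor U.ι _
  haveI : Epi (R.map S.g) := inferInstance
  obtain ⟨e'⟩ := Groth.L29.LocFree.restrict_le hU₁ e
  obtain ⟨r, hr⟩ := exists_section_of_epi (R.map S.g) e'
  have hm : Mono (R.map S.f) := mono_restrict_of_injective S.f U fun x O hx hO => hmono x O hx (hO.trans hU₀)
  exact ⟨ShortComplex.Splitting.ofExactOfSection (S.map R) (hS.map R) r hr hm⟩

variable (i : Z ⟶ Y) (j : Y ⟶ X) [IsImmersion i] [IsImmersion j] [QuasiCompact i] [QuasiCompact j]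

/-- The first conormal map is injective on a basis of the preimage of a chart where `i` is `H₁`-regular. -/
theorem exists_injective_conormal
    (a : (Scheme.Modules.pullback i).obj (Omega.conormal j) ⟶ Omega.conormal (i ≫ j))
    (ha : _root_.OmegaSh.IsConormalMap (i ≫ j) j (𝟙 X) i a) {V : Y.Opens} (hV : IsAffineOpen V)
    (hclV : IsClosedImmersion (i ∣_ V)) (rs' : List Γ(Y, V)) (hrs' : CAlgX.IsH1Regular rs'.get)
    (hkV : RingHom.ker (i.app V).hom = Ideal.ofList rs')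
    (z : Z) (O : Z.Opens) (hzO : z ∈ O) (hO : O ≤ i ⁻¹ᵁ V) :
    ∃ U : Z.Opens, z ∈ U ∧ U ≤ O ∧ Function.Injective (a.app U) := by
  have hzV : i z ∈ V := hO hzO
  obtain ⟨X₁, hzX₁, hclj⟩ := Groth.L07.RegImmAt.exists_isClosedImmersion_restrict j (i z)
  obtain ⟨OY, hOY, hOYe⟩ := (i.isEmbedding.isInducing.isOpen_iff).1 O.2
  let V' : Y.Opens := V ⊓ ⟨OY, hOY⟩
  have hzV' : i z ∈ V' := ⟨hzV, by
    show z ∈ i ⁻¹' OY
    rw [hOYe]
    exact hzO⟩
  obtain ⟨OX, hOX, hOXe⟩ := (j.isEmbedding.isInducing.isOpen_iff).1 V'.2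
  let X₂ : X.Opens := X₁ ⊓ ⟨OX, hOX⟩
  have hzX₂ : j (i z) ∈ X₂ := ⟨hzX₁, by
    show i z ∈ j ⁻¹' OX
    rw [hOXe]
    exact hzV'⟩
  obtain ⟨_, ⟨W₀, hW₀, rfl⟩, hzW₀, hW₀le⟩ := (X.isBasis_affineOpens).exists_subset_of_mem_open hzX₂ X₂.2
  have hcl₀ := Groth.L07.RegImmAt.restrict_closed j ((show W₀ ≤ X₂ from hW₀le).trans inf_le_left) hclj
  have hP : IsAffineOpen (j ⁻¹ᵁ W₀) := by
    haveI := hcl₀
    haveI : IsAffine (W₀ : Scheme.{u}) := hW₀
    exact isAffine_of_isAffineHom (j ∣_ W₀)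
  have hPV : ∀ y ∈ j ⁻¹ᵁ W₀, y ∈ V' := fun y hy => by
    exact (Set.ext_iff.1 hOXe y).1 (hW₀le hy).2
  obtain ⟨p, g, hpg, hzp⟩ := exists_basicOpen_le_affine_inter hP hV (i z) ⟨hzW₀, hzV⟩
  obtain ⟨b, rfl⟩ := Groth.L07.RegImmComp.app_surjective j W₀ hW₀ hcl₀ p
  let W := X.basicOpen b
  have hWe : j ⁻¹ᵁ W = Y.basicOpen g := (j.preimage_basicOpen b).trans hpg
  refine ⟨i ⁻¹ᵁ (j ⁻¹ᵁ W), ?_, fun z' hz' => ?_, ?_⟩
  · show i z ∈ j ⁻¹ᵁ W
    rw [j.preimage_basicOpen b]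
    exact hzp
  · exact (Set.ext_iff.1 hOYe z').1 (hPV _ (j.preimage_mono (X.basicOpen_le b) hz')).2
  · haveI := hV.isLocalization_basicOpen g
    have hPle : j ⁻¹ᵁ W ≤ V := hWe.le.trans (Y.basicOpen_le g)
    obtain ⟨hclP, hkP⟩ := Groth.L07.RegImmAt.ker_restrict hV
      (show IsAffineOpen (j ⁻¹ᵁ W) by rw [hWe]; exact hV.basicOpen g) hPle hclV
    letI : Algebra Γ(Y, V) Γ(Y, j ⁻¹ᵁ W) := (Y.presheaf.map (homOfLE hPle).op).hom.toAlgebra
    haveI : IsLocalization.Away g Γ(Y, j ⁻¹ᵁ W) :=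
      hV.isLocalization_of_eq_basicOpen g (homOfLE hPle) hWe
    refine Groth.L14.Conormal.injective_app_of_chart i j a ha (hW₀.basicOpen b)
      (Groth.L07.RegImmAt.restrict_closed j (X.basicOpen_le b) hcl₀) hclP
      (fun k => algebraMap Γ(Y, V) Γ(Y, j ⁻¹ᵁ W) (rs'.get k))
      (Groth.L14.Conormal.isH1Regular_localization (Submonoid.powers g) _ hrs') ?_
    rw [hkP, hkV, Ideal.map_ofList, Ideal.ofList]
    refine congrArg Ideal.span (Set.ext fun t => ?_)
    constructor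
    · intro ht
      obtain ⟨u, hu, rfl⟩ := List.mem_map.1 ht
      obtain ⟨k, hk⟩ := List.mem_iff_get.1 hu
      exact ⟨k, congrArg _ hk⟩
    · rintro ⟨k, rfl⟩
      exact List.mem_map.2 ⟨_, List.get_mem _ _, rfl⟩

end Groth.L07.ConormalPair
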