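import Groth.Agent.L14.Conormal.FinLocFree

/-!
Freeness of the conormal sheaf near one point where the immersion is quasi-regular.
-/

set_option autoImplicit false
set_option linter.style.haveILetI false
set_option linter.unusedSectionVars false
set_option backward.isDefEq.respectTransparency.types false
set_option backward.isDefEq.respectTransparency false

universe u

open CategoryTheory CategoryTheory.Limits AlgebraicGeometry TopologicalSpace MvPolynomial
open scoped TensorProduct

noncomputable section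

namespace Groth.L07.ConormalPair

open Groth.L18.Frame (rs ro rs_rs rs_self)

/-- A module with a finite projective chart at a point is free near that point. -/
theorem exists_free_of_projective_chart {X : Scheme.{u}} (M : X.Modules) (x : X) (R : CommRingCat.{u})
    (j : Spec R ⟶ X) [IsOpenImmersion j] (N : ModuleCat.{u} R) [hfp : Module.FinitePresentation R N]
    [hproj : Module.Projective R N] (hx : x ∈ j.opensRange) (he : Nonempty (M.restrict j ≅ tilde N)) :
    ∃ (U : X.Opens) (n : ℕ), x ∈ U ∧ Nonempty (M.restrict U.ι ≅ FlatMod.freeMod (U : Scheme.{u}) n) := by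
  obtain ⟨p, rfl⟩ := hx
  obtain ⟨e⟩ := he
  let p' : PrimeSpectrum R := p
  haveI : Module.Free (Localization.AtPrime p'.asIdeal) (LocalizedModule p'.asIdeal.primeCompl N) :=
    Module.free_of_flat_of_isLocalRing
  obtain ⟨r, hr, hfree, -⟩ := Module.FinitePresentation.exists_free_localizedModule_powers
    p'.asIdeal.primeCompl (LocalizedModule.mkLinearMap p'.asIdeal.primeCompl N)
    (Localization.AtPrime p'.asIdeal)
  let S : CommRingCat.{u} := CommRingCat.of (Localization.Away r)
  let φ : R ⟶ S := CommRingCat.ofHom (algebraMap R (Localization.Away r))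
  haveI : IsOpenImmersion (Spec.map φ) := IsOpenImmersion.of_isLocalization r
  let k : Spec S ⟶ X := Spec.map φ ≫ j
  obtain ⟨e₁⟩ := Groth.L19.PullChart.nonempty_chart_pullback (𝟙 X) M φ j k (Category.comp_id _) N e
  obtain ⟨e₂⟩ := Groth.L18.TildeF.extendScalars_equiv (S := Localization.Away r) N
  let T := Localization.Away r ⊗[R] (N : Type u)
  haveI : Module.Free (Localization.Away r) T :=
    Module.Free.of_equiv (LocalizedModule.equivTensorProduct (Submonoid.powers r) N)
  rcases subsingleton_or_nontrivial (Localization.Away r) with hsub | hnt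
  · obtain ⟨q, -⟩ : p ∈ Set.range (Spec.map φ) := by
      show p' ∈ Set.range (PrimeSpectrum.comap (algebraMap R (Localization.Away r)))
      rw [PrimeSpectrum.localization_away_comap_range _ r]
      exact hr
    exact ((inferInstance : IsEmpty (PrimeSpectrum (Localization.Away r))).false q).elim
  let b := Module.Free.chooseBasis (Localization.Away r) T
  haveI : Fintype (Module.Free.ChooseBasisIndex (Localization.Away r) T) :=
    @Fintype.ofFinite _ (Module.Finite.finite_basis b)
  let σ := (Fintype.equivFin (Module.Free.ChooseBasisIndex (Localization.Away r) T)).trans Equiv.ulift.symm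
  let f₂ := e₂.trans (b.repr.trans (Finsupp.domLCongr σ))
  let i : M.restrict k ≅ FlatMod.freeMod (Spec S) _ :=
    ((Scheme.Modules.restrictFunctor k).mapIso ((Scheme.Modules.pullbackId X).app M)).symm ≪≫ e₁ ≪≫
      (tilde.functor S).mapIso f₂.toModuleIso ≪≫ Groth.L19.PullChart.freeTildeIso S _
  obtain ⟨i'⟩ := Groth.L19.PullChart.exists_free_of_chart M k i
  refine ⟨k.opensRange, _, ?_, ⟨i'⟩⟩
  obtain ⟨q, hq⟩ : p ∈ Set.range (Spec.map φ) := by
    show p' ∈ Set.range (PrimeSpectrum.comap (algebraMap R (Localization.Away r)))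
    rw [PrimeSpectrum.localization_away_comap_range _ r]
    exact hr
  exact ⟨q, by rw [Scheme.Hom.comp_apply, hq]⟩

set_option maxHeartbeats 1600000 in
/-- The conormal sheaf is free near a point where the immersion is quasi-regular. -/
theorem exists_free_conormal {Z Y : Scheme.{u}} (i : Z ⟶ Y) [QuasiCompact i] (z : Z) (V : Y.affineOpens) {c : ℕ}
    (f : Fin c → Γ(Y, V.1)) (hzV : i z ∈ V.1) (hcl : IsClosedImmersion (i ∣_ V.1)) (hf : CAlgX.IsQuasiRegular f)
    (hJ : Ideal.span (Set.range f) = RingHom.ker (i.app V.1).hom) :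
    ∃ (U : Z.Opens) (n : ℕ), z ∈ U ∧
      Nonempty ((Omega.conormal i).restrict U.ι ≅ FlatMod.freeMod (U : Scheme.{u}) n) := by
  open Groth.L14.Conormal in
  classical
  let M := ClSub.idealMod i.ker
  haveI : Coh.IsQCoh (Omega.conormal i) := Groth.L16.AffineBC.isQCoh_pullback i M
  haveI := hcl
  haveI : IsAffine (V.1 : Scheme.{u}) := V.2
  set J := RingHom.ker (i.app V.1).hom
  have hU : IsAffineOpen (i ⁻¹ᵁ V.1) := isAffine_of_isAffineHom (i ∣_ V.1)
  let T := Γ(Y, V.1)
  let A := Γ(Z, i ⁻¹ᵁ V.1)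
  letI algTA : Algebra T A := (i.appLE V.1 (i ⁻¹ᵁ V.1) le_rfl).hom.toAlgebra
  have hal : ∀ a : T, algebraMap T A a = i.app V.1 a := fun a =>
    congr($((Scheme.Hom.app_eq_appLE i (U := V.1)).symm) a)
  letI := Module.compHom Γ((Scheme.Modules.pullback i).obj M, i ⁻¹ᵁ V.1) (i.appLE V.1 (i ⁻¹ᵁ V.1) le_rfl).hom
  haveI : IsScalarTower T A Γ((Scheme.Modules.pullback i).obj M, i ⁻¹ᵁ V.1) := IsScalarTower.of_algebraMap_smul fun _ _ => rfl
  have hbc : IsBaseChange A (Groth.L16.AffineBC.pullRes i M (le_rfl : i ⁻¹ᵁ V.1 ≤ i ⁻¹ᵁ V.1)) :=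
    Groth.L16.AffineBC.isBaseChange_pull i M V.2 hU le_rfl
  have hker : i.ker.ideal V = J := Scheme.Hom.ker_apply _ _
  let ι₀ : Γ(M, V.1) →ₗ[T] J :=
    { toFun := fun s => ⟨_root_.OmegaSh.idealSect i.ker V.1 s,
        hker ▸ (Groth.L18.IdealModule.mem_ideal_iff i.ker V.2 (_root_.OmegaSh.idealSect i.ker V.1 s)).2 ⟨s, rfl⟩⟩
      map_add' := fun a b => Subtype.ext (map_add _ a b)
      map_smul' := fun a s => Subtype.ext (Scheme.Modules.Hom.app_smul (ClSub.idealModι i.ker) a s) }
  have hι : Function.Bijective ι₀ := ⟨fun a b e => _root_.OmegaSh.idealModι_app_injective _ _ (congrArg Subtype.val e),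
    fun b => by
      obtain ⟨s, hs⟩ := (Groth.L18.IdealModule.mem_ideal_iff i.ker V.2 b.1).1 (hker.ge b.2)
      exact ⟨s, Subtype.ext hs⟩⟩
  let q : T ⧸ J →+* A := Ideal.Quotient.lift J (algebraMap T A) fun a ha => (hal a).trans (RingHom.mem_ker.1 ha)
  letI : Algebra (T ⧸ J) A := q.toAlgebra
  haveI : IsScalarTower T (T ⧸ J) A := IsScalarTower.of_algebraMap_eq fun _ => rfl
  obtain ⟨h1, h2⟩ := finite_projective_tensor f hf hJ
  let e₁ : A ⊗[T] J ≃ₗ[A] A ⊗[T ⧸ J] ((T ⧸ J) ⊗[T] J) :=
    (TensorProduct.AlgebraTensorModule.cancelBaseChange T (T ⧸ J) A A J).symm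
  let eP : Γ(Omega.conormal i, i ⁻¹ᵁ V.1) ≃ₗ[A] A ⊗[T ⧸ J] ((T ⧸ J) ⊗[T] J) :=
    (hbc.equiv.symm.trans ((LinearEquiv.ofBijective ι₀ hι).baseChange T A _ _)).trans e₁
  let R : CommRingCat.{u} := Γ(Z, i ⁻¹ᵁ V.1)
  let j : Spec R ⟶ Z := hU.fromSpec
  haveI : ((Omega.conormal i).restrict j).IsQuasicoherent :=
    Scheme.Modules.isQuasicoherent_restrictFunctor j _
  let N' := (moduleSpecΓFunctor (R := R)).obj ((Omega.conormal i).restrict j)
  have e2 : hU.fromSpec ''ᵁ ⊤ = i ⁻¹ᵁ V.1 := by
    rw [Scheme.Hom.image_top_eq_opensRange, hU.opensRange_fromSpec]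
  let eN : N' ≃+ Γ(Omega.conormal i, i ⁻¹ᵁ V.1) :=
    { toFun := fun s => rs _ e2.ge (show Γ(Omega.conormal i, hU.fromSpec ''ᵁ ⊤) from s)
      invFun := fun t => (show Γ(Omega.conormal i, hU.fromSpec ''ᵁ ⊤) from rs _ e2.le t)
      left_inv := fun s => by
        show rs _ e2.le (rs _ e2.ge (show Γ(Omega.conormal i, hU.fromSpec ''ᵁ ⊤) from s)) = _
        rw [rs_rs]
        exact rs_self _ _ _
      right_inv := fun t => by
        show rs _ e2.ge (rs _ e2.le t) = t
        rw [rs_rs]
        exact rs_self _ _ _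
      map_add' := fun a b => map_add ((Omega.conormal i).presheaf.map (homOfLE e2.ge).op).hom a b }
  let eL : N' ≃ₗ[R] Γ(Omega.conormal i, i ⁻¹ᵁ V.1) :=
    { eN with
      map_smul' := fun r s => Groth.L20.ModStalk.finitePresentation_sections_affine.appIso_smul
        (Omega.conormal i) hU r (show Γ(Omega.conormal i, hU.fromSpec ''ᵁ ⊤) from s) }
  haveI : Module.Finite A Γ(Omega.conormal i, i ⁻¹ᵁ V.1) := Module.Finite.equiv eP.symm
  haveI : Module.Projective A Γ(Omega.conormal i, i ⁻¹ᵁ V.1) := Module.Projective.of_equiv eP.symm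
  haveI : Module.Finite R N' := Module.Finite.equiv eL.symm
  haveI : Module.Projective R N' := Module.Projective.of_equiv eL.symm
  haveI : Module.FinitePresentation R N' := Module.finitePresentation_of_projective _ _
  refine exists_free_of_projective_chart (Omega.conormal i) z R j N' ?_
    ⟨(asIso ((Omega.conormal i).restrict j).fromTildeΓ).symm⟩
  rw [hU.opensRange_fromSpec]
  exact hzV

end Groth.L07.ConormalPair
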