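import Groth.Agent.L07.KindSmooth
import Groth.Agent.L07.KoszulAppend
import Groth.Agent.L01.Wiebe.Generic
import Groth.Agent.L07.RegSpread
import Mathlib.LinearAlgebra.LinearIndependent.Lemmas

/-!
Permanence of regular sequences along a split inclusion of conormal modules.
-/

set_option autoImplicit false
set_option maxSynthPendingDepth 3
set_option linter.style.haveILetI false
set_option backward.isDefEq.respectTransparency.types false

universe u

open CategoryTheory CategoryTheory.Limits RingTheory.Sequence Groth.L04.Koszul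

namespace Groth.L07.ConormalSplit

/-- Generators adapted to an inclusion of ideals which is injective modulo the maximal ideal. -/
theorem exists_split_gens {L : Type u} [CommRing L] [IsLocalRing L] (I J : Ideal L) (hIJ : I ≤ J)
    (us hs : List L) (hI : I = Ideal.ofList us) (hJ : J = Ideal.ofList hs)
    (hkey : ∀ x ∈ I, x ∈ IsLocalRing.maximalIdeal L * J → x ∈ IsLocalRing.maximalIdeal L * I) :
    ∃ fs gs : List L, (∀ x ∈ fs, x ∈ us) ∧ (∀ x ∈ gs, x ∈ hs) ∧ fs.length ≤ us.length ∧
      (gs ++ fs).length ≤ hs.length ∧ Ideal.ofList fs = I ∧ Ideal.ofList (gs ++ fs) = J := by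
  classical
  let m := IsLocalRing.maximalIdeal L
  letI : Field (L ⧸ m) := Ideal.Quotient.field m
  let V := ↥J ⧸ (m • (⊤ : Submodule L ↥J))
  let π : L → V := fun x => if h : x ∈ J then Submodule.Quotient.mk ⟨x, h⟩ else 0
  have hπ : ∀ (x : L) (h : x ∈ J), π x = Submodule.Quotient.mk ⟨x, h⟩ := fun x h => dif_pos h
  have hπeq : ∀ x ∈ J, ∀ y ∈ J, π x = π y → x - y ∈ m * J := fun x hx y hy e => by
    rw [hπ x hx, hπ y hy, Submodule.Quotient.eq] at e
    have h' := Submodule.mem_map_of_mem (f := J.subtype) e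
    rw [Submodule.map_smul'', Submodule.map_top, Submodule.range_subtype, smul_eq_mul] at h'
    exact h'
  have hlift : ∀ ys : List L, (∀ y ∈ ys, y ∈ J) → ∀ v ∈ Submodule.span (L ⧸ m) (π '' {y | y ∈ ys}),
      ∃ y ∈ Ideal.ofList ys, π y = v := by
    intro ys hys v hv
    have hle : Ideal.ofList ys ≤ J := Ideal.span_le.mpr hys
    induction hv using Submodule.span_induction with
    | mem v h =>
      obtain ⟨y, hy, rfl⟩ := h
      exact ⟨y, Ideal.subset_span hy, rfl⟩
    | zero => exact ⟨0, zero_mem _, (hπ 0 (zero_mem _)).trans (Submodule.Quotient.mk_zero _)⟩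
    | add v w _ _ h1 h2 =>
      obtain ⟨y, hy, rfl⟩ := h1
      obtain ⟨z, hz, rfl⟩ := h2
      refine ⟨y + z, add_mem hy hz, ?_⟩
      rw [hπ y (hle hy), hπ z (hle hz), hπ _ (add_mem (hle hy) (hle hz)), ← Submodule.Quotient.mk_add]
      rfl
    | smul c v _ h1 =>
      obtain ⟨y, hy, rfl⟩ := h1
      obtain ⟨c, rfl⟩ := Ideal.Quotient.mk_surjective c
      refine ⟨c * y, Ideal.mul_mem_left _ _ hy, ?_⟩
      rw [hπ y (hle hy), hπ _ (Ideal.mul_mem_left _ c (hle hy))]
      rfl
  have hspanπ : ∀ ys : List L, (∀ y ∈ ys, y ∈ J) → ∀ x ∈ Ideal.ofList ys,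
      π x ∈ Submodule.span (L ⧸ m) (π '' {y | y ∈ ys}) := by
    intro ys hys x hx
    have hle : Ideal.ofList ys ≤ J := Ideal.span_le.mpr hys
    induction hx using Submodule.span_induction with
    | mem x h => exact Submodule.subset_span ⟨x, h, rfl⟩
    | zero =>
      rw [show π 0 = 0 from (hπ 0 (zero_mem _)).trans (Submodule.Quotient.mk_zero _)]
      exact zero_mem _
    | add x y hx' hy' h1 h2 =>
      rw [show π (x + y) = π x + π y by
        rw [hπ x (hle hx'), hπ y (hle hy'), hπ _ (add_mem (hle hx') (hle hy')), ← Submodule.Quotient.mk_add]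
        rfl]
      exact add_mem h1 h2
    | smul c x hx' h1 =>
      rw [show π (c • x) = Ideal.Quotient.mk m c • π x by
        rw [smul_eq_mul, hπ x (hle hx'), hπ _ (Ideal.mul_mem_left _ c (hle hx'))]
        rfl]
      exact Submodule.smul_mem _ _ h1
  have husJ : ∀ y ∈ us, y ∈ J := fun y hy => hIJ (hI ▸ Ideal.subset_span hy)
  have hhsJ : ∀ y ∈ hs, y ∈ J := fun y hy => hJ ▸ Ideal.subset_span hy
  let S0 : Finset V := us.toFinset.image π
  let T0 : Finset V := hs.toFinset.image π
  have hS0 : (S0 : Set V) = π '' {y | y ∈ us} := by ext; simp [S0]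
  have hT0 : (T0 : Set V) = π '' {y | y ∈ hs} := by ext; simp [T0]
  have hT0top : Submodule.span (L ⧸ m) (T0 : Set V) = ⊤ := by
    refine eq_top_iff.mpr fun v _ => ?_
    obtain ⟨⟨x, hx⟩, rfl⟩ := Submodule.Quotient.mk_surjective _ v
    rw [← hπ x hx, hT0]
    exact hspanπ hs hhsJ x (hJ.le hx)
  haveI : Module.Finite (L ⧸ m) V := ⟨⟨T0, hT0top⟩⟩
  obtain ⟨b0, hb0S, hb0span, hb0⟩ := exists_linearIndependent (L ⧸ m) (S0 : Set V)
  obtain ⟨b, hbt, hb0b, hbspan, hb⟩ := exists_linearIndepOn_extension (K := L ⧸ m) (v := (id : V → V))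
    (s := b0) (t := b0 ∪ T0) hb0 Set.subset_union_left
  simp only [Set.image_id] at hbspan
  have hb0fin : b0.Finite := S0.finite_toSet.subset hb0S
  have hbfin : b.Finite := (hb0fin.union T0.finite_toSet).subset hbt
  let B0 := hb0fin.toFinset
  let B1 := hbfin.toFinset \ B0
  have hB0 : ∀ v ∈ B0, ∃ y ∈ us, π y = v := fun v hv => by
    have := hb0S (hb0fin.mem_toFinset.mp hv)
    rwa [hS0] at this
  have hB1 : ∀ v ∈ B1, ∃ y ∈ hs, π y = v := fun v hv => by
    obtain ⟨h1, h2⟩ := Finset.mem_sdiff.mp hv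
    have := (hbt (hbfin.mem_toFinset.mp h1)).resolve_left fun h => h2 (hb0fin.mem_toFinset.mpr h)
    rwa [hT0] at this
  choose f0 hf0 hf0π using hB0
  choose f1 hf1 hf1π using hB1
  let fs := B0.toList.pmap f0 fun v hv => Finset.mem_toList.mp hv
  let gs := B1.toList.pmap f1 fun v hv => Finset.mem_toList.mp hv
  have hfs : ∀ x ∈ fs, x ∈ us := fun x hx => by
    obtain ⟨v, hv, rfl⟩ := List.mem_pmap.mp hx
    exact hf0 v _
  have hgs : ∀ x ∈ gs, x ∈ hs := fun x hx => by
    obtain ⟨v, hv, rfl⟩ := List.mem_pmap.mp hx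
    exact hf1 v _
  refine ⟨fs, gs, hfs, hgs, ?_, ?_, ?_, ?_⟩
  · simp only [fs, List.length_pmap, Finset.length_toList]
    calc B0.card ≤ S0.card := Finset.card_le_card fun v hv => hb0S (hb0fin.mem_toFinset.mp hv)
      _ ≤ us.toFinset.card := Finset.card_image_le
      _ ≤ us.length := List.toFinset_card_le us
  · simp only [fs, gs, List.length_append, List.length_pmap, Finset.length_toList]
    have h1 : hbfin.toFinset.card ≤ Module.finrank (L ⧸ m) V := by
      haveI := hbfin.fintype
      rw [Set.Finite.card_toFinset]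
      exact LinearIndependent.fintype_card_le_finrank (b := fun x : b => (x : V)) hb
    have h2 : Module.finrank (L ⧸ m) V ≤ T0.card := by
      rw [← finrank_top (L ⧸ m) V, ← hT0top]
      exact finrank_span_finset_le_card T0
    have h3 : B1.card + B0.card = hbfin.toFinset.card := Finset.card_sdiff_add_card_eq_card
      fun v hv => hbfin.mem_toFinset.mpr (hb0b (hb0fin.mem_toFinset.mp hv))
    have h4 : T0.card ≤ hs.length := Finset.card_image_le.trans (List.toFinset_card_le hs)
    omega
  · have hle : Ideal.ofList fs ≤ I := Ideal.span_le.mpr fun x hx => hI ▸ Ideal.subset_span (hfs x hx)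
    refine le_antisymm hle (Submodule.le_of_le_smul_of_le_jacobson_bot (I := m) ⟨us.toFinset, by
      rw [hI, Ideal.ofList]; congr 1; ext; simp⟩ (IsLocalRing.maximalIdeal_le_jacobson ⊥) fun x hx => ?_)
    have hv : π x ∈ Submodule.span (L ⧸ m) (π '' {y | y ∈ fs}) := by
      have h1 := hspanπ us husJ x (hI.le hx)
      rw [← hS0, ← hb0span] at h1
      refine Submodule.span_mono (fun v hv => ?_) h1
      exact ⟨f0 v (hb0fin.mem_toFinset.mpr hv), List.mem_pmap.mpr ⟨v, Finset.mem_toList.mpr (hb0fin.mem_toFinset.mpr hv), rfl⟩, hf0π v _⟩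
    obtain ⟨y, hy, e⟩ := hlift fs (fun y hy => husJ y (hfs y hy)) _ hv
    have h2 := hkey (x - y) (sub_mem hx (hle hy)) (hπeq x (hIJ hx) y (hIJ (hle hy)) e.symm)
    rw [← add_sub_cancel y x, smul_eq_mul]
    exact add_mem (Submodule.mem_sup_left hy) (Submodule.mem_sup_right h2)
  · have hall : ∀ x ∈ gs ++ fs, x ∈ J := fun x hx => (List.mem_append.mp hx).elim
      (fun h => hhsJ x (hgs x h)) (fun h => husJ x (hfs x h))
    have hle : Ideal.ofList (gs ++ fs) ≤ J := Ideal.span_le.mpr hall
    refine le_antisymm hle (Submodule.le_of_le_smul_of_le_jacobson_bot (I := m) ⟨hs.toFinset, by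
      rw [hJ, Ideal.ofList]; congr 1; ext; simp⟩ (IsLocalRing.maximalIdeal_le_jacobson ⊥) fun x hx => ?_)
    have hv : π x ∈ Submodule.span (L ⧸ m) (π '' {y | y ∈ gs ++ fs}) := by
      have h1 : π x ∈ Submodule.span (L ⧸ m) b :=
        Submodule.span_le.mpr hbspan (Submodule.span_mono Set.subset_union_right (hT0top ▸ Submodule.mem_top))
      refine Submodule.span_mono (fun v hv => ?_) h1
      by_cases h : v ∈ b0
      · exact ⟨f0 v (hb0fin.mem_toFinset.mpr h), List.mem_append.mpr (Or.inr (List.mem_pmap.mpr ⟨v, Finset.mem_toList.mpr (hb0fin.mem_toFinset.mpr h), rfl⟩)), hf0π v _⟩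
      · have hv1 : v ∈ B1 := Finset.mem_sdiff.mpr ⟨hbfin.mem_toFinset.mpr hv, fun h' => h (hb0fin.mem_toFinset.mp h')⟩
        exact ⟨f1 v hv1, List.mem_append.mpr (Or.inl (List.mem_pmap.mpr ⟨v, Finset.mem_toList.mpr hv1, rfl⟩)), hf1π v _⟩
    obtain ⟨y, hy, e⟩ := hlift _ hall _ hv
    rw [← add_sub_cancel y x, smul_eq_mul]
    exact add_mem (Submodule.mem_sup_left hy) (Submodule.mem_sup_right (hπeq x hx y (hle hy) e.symm))

/-- A Koszul-regular sequence stays one modulo a Koszul-regular part of it. -/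
theorem koszul_of_append {A C : Type u} [CommRing A] [CommRing C] (σ : A →+* C) (hσ : Function.Surjective σ)
    (fs gs : List A) (hker : RingHom.ker σ = Ideal.ofList fs) (hf : LCI.IsKoszulRegularSeq A fs)
    (h : LCI.IsKoszulRegularSeq A (gs ++ fs)) : LCI.IsKoszulRegularSeq C (gs.map σ) := by
  obtain ⟨π, hπ⟩ := Groth.L07.KoszulAppend.exists_augmentation (ModuleCat.of A A) fs
    ((Groth.L07.KoszulPerm.isKoszulRegularSeq_iff fs).1 hf) gs
  refine (Groth.L07.KoszulPerm.isKoszulRegularSeq_iff _).2 fun n hn => ?_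
  let Q1 := A ⧸ (Ideal.ofList fs • ⊤ : Submodule A A)
  have hI : (Ideal.ofList fs • ⊤ : Submodule A A) = RingHom.ker σ := by
    rw [Ideal.smul_eq_mul, Ideal.mul_top, hker]
  let e : Q1 ≃+ C := (Submodule.quotEquivOfEq _ _ hI).toAddEquiv.trans
    (RingHom.quotientKerEquivOfSurjective hσ).toAddEquiv
  have he : ∀ (b : A) (m : Q1), e (b • m) = σ b • e m := by
    intro b m
    obtain ⟨a, rfl⟩ := Submodule.Quotient.mk_surjective _ m
    exact map_mul σ b a
  refine Groth.L07.KoszulBC.isZero_transfer σ (ModuleCat.of A Q1) (ModuleCat.of C C) e he gs n ?_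
  haveI := ModuleCat.isZero_iff_subsingleton.1 ((Groth.L07.KoszulPerm.isKoszulRegularSeq_iff _).1 h n hn)
  exact ModuleCat.isZero_iff_subsingleton.2 (subsingleton_of_forall_eq 0 fun c => by
    obtain ⟨d, rfl⟩ := (hπ n).2 c
    rw [Subsingleton.elim d 0, map_zero])

variable {A : Type u} [CommRing A] {k : RegImm.Kind}

theorem seqMap' (hk : k ≠ RegImm.Kind.regular) {B : Type u} [CommRing B] (φ : A →+* B) (hφ : φ.Flat)
    {l : List A} (h : k.Seq A l) : k.Seq B (l.map φ) := by
  cases k with
  | regular => exact absurd rfl hk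
  | koszul => exact Groth.L07.KoszulFlat.isKoszulRegularSeq_map φ hφ l h
  | h1 => exact Groth.L07.KindSmooth.seqMap (Or.inl rfl) φ hφ h
  | quasi => exact Groth.L07.KindSmooth.seqMap (Or.inr rfl) φ hφ h

theorem seq_of_length_le' (hk : k ≠ RegImm.Kind.regular) {f h : List A} (hh : k.Seq A h)
    (e : Ideal.ofList h = Ideal.ofList f) (hle : f.length ≤ h.length) : k.Seq A f := by
  cases k with
  | regular => exact absurd rfl hk
  | koszul => exact Groth.L07.KoszulDescent.isKoszulRegularSeq_of_length_le hh e hle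
  | h1 => exact Groth.L07.KindSmooth.seq_of_length_le (Or.inl rfl) hh e hle
  | quasi => exact Groth.L07.KindSmooth.seq_of_length_le (Or.inr rfl) hh e hle

/-- Generators inside the ideal, without increasing their number. -/
theorem exists_gens' {I : Ideal A} {g : A} {l : List (Localization.Away g)}
    (hI : I.map (algebraMap A (Localization.Away g)) = Ideal.ofList l) :
    ∃ l' : List A, l'.length = l.length ∧ (∀ x ∈ l', x ∈ I) ∧
      I.map (algebraMap A (Localization.Away g)) = Ideal.ofList (l'.map (algebraMap A (Localization.Away g))) := by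
  classical
  let L := Localization.Away g
  have key : ∀ x ∈ l, ∃ a ∈ I, ∃ v : L, IsUnit v ∧ x * v = algebraMap A L a := fun x hx => by
    obtain ⟨⟨a, s⟩, e⟩ := (IsLocalization.mem_map_algebraMap_iff (Submonoid.powers g) L).mp
      (hI.ge (Ideal.subset_span hx))
    exact ⟨a.1, a.2, _, IsLocalization.map_units L s, e⟩
  choose a haI v hv hav using key
  have hmem : ∀ x ∈ l.pmap a (fun _ h => h), x ∈ I := fun x hx => by
    obtain ⟨y, hy, rfl⟩ := List.mem_pmap.mp hx
    exact haI y hy
  refine ⟨l.pmap a fun _ h => h, List.length_pmap, hmem, le_antisymm ?_ ?_⟩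
  · rw [hI, ← Ideal.map_ofList]
    exact Ideal.span_le.mpr fun y hy => (Ideal.mul_unit_mem_iff_mem _ (hv y hy)).mp (by
      rw [hav y hy]
      exact Ideal.mem_map_of_mem _ (Ideal.subset_span (List.mem_pmap.mpr ⟨y, hy, rfl⟩)))
  · rw [← Ideal.map_ofList]
    exact Ideal.map_mono (Ideal.span_le.mpr hmem)

theorem exists_lift_list {B : Type*} (φ : A → B) (us : List A) : ∀ fs : List B, (∀ x ∈ fs, x ∈ us.map φ) →
    ∃ fs' : List A, (∀ x ∈ fs', x ∈ us) ∧ fs'.map φ = fs
  | [], _ => ⟨[], by simp, rfl⟩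
  | b :: fs, h => by
    obtain ⟨a, ha, rfl⟩ := List.mem_map.mp (h b (by simp))
    obtain ⟨fs', h1, rfl⟩ := exists_lift_list φ us fs fun x hx => h x (by simp [hx])
    exact ⟨a :: fs', by simpa [ha] using h1, rfl⟩

/-- Permanence: if `J` is generated near `P` by a sequence of kind `k` and `I ≤ J` is injective modulo
the maximal ideal at `P`, then `J/I` is generated near `P` by such a sequence. -/
theorem locAt_map (hk : k ≠ RegImm.Kind.regular) {B : Type u} [CommRing B] (σ : A →+* B)
    (hσ : Function.Surjective σ) {J : Ideal A} (hIJ : RingHom.ker σ ≤ J) (hI : (RingHom.ker σ).FG)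
    (P : Ideal A) [P.IsPrime] (hJP : J ≤ P) (Q : Ideal B) (hQ : Q.comap σ = P)
    (L : Type u) [CommRing L] [IsLocalRing L] [Algebra A L] [IsLocalization.AtPrime L P]
    (hJ : Groth.L07.KindSmooth.LocAt k J P)
    (hIk : k = RegImm.Kind.koszul → Groth.L07.KindSmooth.LocAt k (RingHom.ker σ) P)
    (hkey : ∀ x ∈ (RingHom.ker σ).map (algebraMap A L),
      x ∈ IsLocalRing.maximalIdeal L * J.map (algebraMap A L) →
        x ∈ IsLocalRing.maximalIdeal L * (RingHom.ker σ).map (algebraMap A L)) :
    Groth.L07.KindSmooth.LocAt k (J.map σ) Q := by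
  classical
  obtain ⟨g, hg, l, hl, hJl⟩ := hJ
  obtain ⟨hsA, hslen, hsJ, hJhs⟩ := exists_gens' hJl
  -- generators of `I`, few in the Koszul case
  obtain ⟨g₁, hg₁, usA, husI, hIus, hkos⟩ : ∃ g₁ ∉ P, ∃ usA : List A, (∀ x ∈ usA, x ∈ RingHom.ker σ) ∧
      (RingHom.ker σ).map (algebraMap A (Localization.Away g₁)) = Ideal.ofList (usA.map (algebraMap A (Localization.Away g₁))) ∧
      (k = RegImm.Kind.koszul → ∃ l₁ : List (Localization.Away g₁), l₁.length = usA.length ∧
        k.Seq (Localization.Away g₁) l₁ ∧ Ideal.ofList l₁ = Ideal.ofList (usA.map (algebraMap A (Localization.Away g₁)))) := by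
    by_cases hkk : k = RegImm.Kind.koszul
    · obtain ⟨g₁, hg₁, l₁, hl₁, hIl₁⟩ := hIk hkk
      obtain ⟨usA, hlen, husI, e⟩ := exists_gens' hIl₁
      exact ⟨g₁, hg₁, usA, husI, e, fun _ => ⟨l₁, hlen.symm, hl₁, hIl₁.symm.trans e⟩⟩
    · obtain ⟨s, hs⟩ := hI
      refine ⟨1, fun h => (‹P.IsPrime›).ne_top ((Ideal.eq_top_iff_one _).mpr h), s.toList,
        fun x hx => hs ▸ Ideal.subset_span (Finset.mem_toList.mp hx), ?_, fun h => absurd h hkk⟩
      rw [← Ideal.map_ofList]
      congr 1
      rw [← hs, Ideal.ofList]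
      congr 1
      ext x; simp
  have hunit : ∀ {M : Type u} [CommRing M] [Algebra A M] [IsLocalization.AtPrime M P] (x : A), x ∉ P →
      IsUnit (algebraMap A M x) := fun {M} _ _ _ x hx => IsLocalization.map_units M (⟨x, hx⟩ : P.primeCompl)
  have hJL : J.map (algebraMap A L) = Ideal.ofList (hsA.map (algebraMap A L)) := by
    let θ : Localization.Away g →+* L := IsLocalization.Away.lift (S := Localization.Away g) g (hunit g hg)
    have hθ : θ.comp (algebraMap A _) = algebraMap A L := IsLocalization.Away.lift_comp ..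
    rw [← hθ, ← Ideal.map_map, hJhs, Ideal.map_ofList, List.map_map, RingHom.coe_comp]
  have hIL : (RingHom.ker σ).map (algebraMap A L) = Ideal.ofList (usA.map (algebraMap A L)) := by
    let θ : Localization.Away g₁ →+* L := IsLocalization.Away.lift (S := Localization.Away g₁) g₁ (hunit g₁ hg₁)
    have hθ : θ.comp (algebraMap A _) = algebraMap A L := IsLocalization.Away.lift_comp ..
    rw [← hθ, ← Ideal.map_map, hIus, Ideal.map_ofList, List.map_map, RingHom.coe_comp]
  obtain ⟨fsL, gsL, hfsL, hgsL, hflen, hlen, hfI, hgJ⟩ := exists_split_gens _ _ (Ideal.map_mono hIJ)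
    (usA.map (algebraMap A L)) (hsA.map (algebraMap A L)) hIL hJL hkey
  obtain ⟨fs, hfs, rfl⟩ := exists_lift_list (algebraMap A L) usA fsL hfsL
  obtain ⟨gs, hgs, rfl⟩ := exists_lift_list (algebraMap A L) hsA gsL hgsL
  simp only [List.length_map, List.length_append] at hflen hlen
  rw [← List.map_append, ← Ideal.map_ofList] at hgJ
  rw [← Ideal.map_ofList] at hfI
  -- a neighbourhood on which they generate
  obtain ⟨t, ht, htI⟩ := Groth.L07.RegSeq.exists_mul_mem_of_map_le hI P L (J := Ideal.ofList fs) hfI.ge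
  obtain ⟨t', ht', htJ⟩ := Groth.L07.RegSeq.exists_mul_mem_of_map_le
    (I := Ideal.ofList hsA) ⟨hsA.toFinset, by rw [Ideal.ofList]; congr 1; ext; simp⟩ P L
    (J := Ideal.ofList (gs ++ fs)) (by rw [hgJ, hJL, Ideal.map_ofList])
  let G := g * g₁ * t * t'
  have hG : G ∉ P := by
    intro h
    rcases (‹P.IsPrime›).mem_or_mem h with h | h
    · rcases (‹P.IsPrime›).mem_or_mem h with h | h
      · exact (‹P.IsPrime›.mem_or_mem h).elim hg hg₁
      · exact ht h
    · exact ht' h
  let AG := Localization.Away G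
  let ι := algebraMap A AG
  have hu : ∀ x, x ∣ G → IsUnit (ι x) := fun x hx =>
    isUnit_of_dvd_unit (map_dvd _ hx) (IsLocalization.Away.algebraMap_isUnit G)
  have hιflat : ι.Flat := RingHom.flat_algebraMap_iff.mpr (IsLocalization.flat _ (Submonoid.powers G))
  let θg : Localization.Away g →+* AG := IsLocalization.Away.lift (S := Localization.Away g) g
    (hu g (Dvd.intro (g₁ * t * t') (by simp [G, mul_assoc])))
  have hθg : θg.comp (algebraMap A _) = ι := IsLocalization.Away.lift_comp ..
  have hJG : J.map ι = Ideal.ofList (hsA.map ι) := by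
    rw [← hθg, ← Ideal.map_map, hJhs, Ideal.map_ofList, List.map_map, RingHom.coe_comp]
  have hJG' : J.map ι = Ideal.ofList ((gs ++ fs).map ι) := by
    rw [← Ideal.map_ofList]
    refine le_antisymm ?_ ?_
    · rw [hJG, ← Ideal.map_ofList]
      refine Ideal.map_le_iff_le_comap.mpr fun x hx => ?_
      rw [Ideal.mem_comap, ← Ideal.unit_mul_mem_iff_mem _ (hu t' (dvd_mul_left t' _)), ← map_mul]
      exact Ideal.mem_map_of_mem _ (htJ x hx)
    · refine Ideal.map_mono (Ideal.span_le.mpr fun x hx => ?_)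
      rcases List.mem_append.mp (show x ∈ gs ++ fs from hx) with h | h
      · exact hsJ x (hgs x h)
      · exact hIJ (husI x (hfs x h))
  have hIG : (RingHom.ker σ).map ι = Ideal.ofList (fs.map ι) := by
    rw [← Ideal.map_ofList]
    refine le_antisymm (Ideal.map_le_iff_le_comap.mpr fun x hx => ?_) (Ideal.map_mono (Ideal.span_le.mpr fun x hx => husI x (hfs x hx)))
    rw [Ideal.mem_comap, ← Ideal.unit_mul_mem_iff_mem _ (hu t (Dvd.dvd.mul_right (dvd_mul_left t _) _)), ← map_mul]
    exact Ideal.mem_map_of_mem _ (htI x hx)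
  have hseq : k.Seq AG ((gs ++ fs).map ι) := by
    refine seq_of_length_le' hk (seqMap' hk θg (Groth.L07.KoszulIdeal.flat_away_lift g _ hιflat _) hl) ?_ ?_
    · rw [← Ideal.map_ofList θg, ← hJl, Ideal.map_map, hθg, hJG']
    · simp only [List.length_map, List.length_append]; omega
  -- the quotient
  haveI : IsLocalization ((Submonoid.powers G).map σ) (Localization.Away (σ G)) := by
    rw [Submonoid.map_powers]; infer_instance
  let σ' : AG →+* Localization.Away (σ G) :=
    IsLocalization.map (Localization.Away (σ G)) σ (M := Submonoid.powers G) (T := (Submonoid.powers G).map σ)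
      (Submonoid.le_comap_map _)
  have hσι : σ'.comp ι = (algebraMap B _).comp σ := IsLocalization.map_comp ..
  have hσ' : Function.Surjective σ' := IsLocalization.map_surjective_of_surjective _ _ _ hσ
  have hker : RingHom.ker σ' = Ideal.ofList (fs.map ι) := by
    rw [← hIG]
    exact IsLocalization.ker_map (T := (Submonoid.powers G).map σ) (Localization.Away (σ G)) σ rfl
  refine ⟨σ G, fun h => hG (hQ ▸ h), (gs.map ι).map σ', ?_, ?_⟩
  · rw [List.map_append] at hseq
    by_cases hkk : k = RegImm.Kind.koszul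
    · subst hkk
      obtain ⟨l₁, hl₁len, hl₁, hl₁e⟩ := hkos rfl
      let θ₁ : Localization.Away g₁ →+* AG := IsLocalization.Away.lift (S := Localization.Away g₁) g₁
        (hu g₁ (Dvd.intro (g * t * t') (by simp [G]; ring)))
      have hθ₁ : θ₁.comp (algebraMap A _) = ι := IsLocalization.Away.lift_comp ..
      refine koszul_of_append σ' hσ' (fs.map ι) (gs.map ι) hker ?_ hseq
      refine seq_of_length_le' (k := RegImm.Kind.koszul) hk
        (seqMap' (k := RegImm.Kind.koszul) hk θ₁ (Groth.L07.KoszulIdeal.flat_away_lift g₁ _ hιflat _) hl₁) ?_ ?_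
      · rw [← Ideal.map_ofList θ₁, hl₁e, ← hIus, Ideal.map_map, hθ₁, hIG]
      · simp only [List.length_map]; omega
    · have hw : Groth.L07.KindSmooth.Weak k := by cases k <;> simp_all [Groth.L07.KindSmooth.Weak]
      exact Groth.L07.KindSmooth.seq_of_append hw (fs.map ι) σ' hσ' hker (gs.map ι) hseq
  · rw [← Ideal.map_ofList σ', Ideal.map_map, ← hσι, ← Ideal.map_map, hJG', List.map_append,
      Ideal.ofList_append, Ideal.map_sup, ← hker, Ideal.map_eq_bot_iff_le_ker _ |>.mpr le_rfl, sup_bot_eq]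

end Groth.L07.ConormalSplit
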