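import Groth.Agent.L07.KindSmooth
import Groth.Agent.L07.RegImmLocal

/-!
Regular immersions of each kind through a smooth scheme descend to immersions into the base.
-/

set_option autoImplicit false
set_option linter.style.haveILetI false
set_option maxSynthPendingDepth 3
set_option backward.isDefEq.respectTransparency false
set_option backward.isDefEq.respectTransparency.types false

universe u

open CategoryTheory CategoryTheory.Limits AlgebraicGeometry
open Groth.L07.RegImmDescent Groth.L07.RegImmComp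

namespace Groth.L07.KindSmooth

variable {X Z : Scheme.{u}} {k : RegImm.Kind}

/-- A regular immersion gives a local sequence in any affine chart, at a point. -/
theorem locAt_of_regularAt (hw : Weak k) (i : Z ⟶ X) {U : X.Opens} (hU : IsAffineOpen U)
    (hcl : IsClosedImmersion (i ∣_ U)) (z : Z) (hz : i z ∈ U) (hi : RegImm.IsRegularImmersionAt k i z) :
    LocAt k (RingHom.ker (i.app U).hom) (hU.primeIdealOf ⟨i z, hz⟩).asIdeal := by
  obtain ⟨⟨W, hW⟩, hzW, hclW, rs, hrs, hker⟩ := hi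
  obtain ⟨g, g', e, hzg⟩ := exists_basicOpen_le_affine_inter hU hW (i z) ⟨hz, hzW⟩
  have hgp : g ∉ (hU.primeIdealOf ⟨i z, hz⟩).asIdeal := (mem_basicOpen_iff_prime hU hz g).1 hzg
  have hleW : X.basicOpen g ≤ W := e.trans_le (X.basicOpen_le g')
  obtain ⟨-, hk⟩ := Groth.L07.RegImmAt.ker_restrict hU (hU.basicOpen g) (X.basicOpen_le g) hcl
  obtain ⟨-, hkW⟩ := Groth.L07.RegImmAt.ker_restrict hW (hU.basicOpen g) hleW hclW
  letI := hU.isLocalization_basicOpen g
  let ε := IsLocalization.algEquiv (Submonoid.powers g) Γ(X, X.basicOpen g) (Localization.Away g)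
  let ψ : Γ(X, W) →+* Localization.Away g :=
    ε.toRingEquiv.toRingHom.comp (X.presheaf.map (homOfLE hleW).op).hom
  have hψ : ψ.Flat := by
    refine RingHom.Flat.comp ?_ (RingHom.Flat.of_bijective ε.bijective)
    have := Flat.flat_appLE (𝟙 X) hW (hU.basicOpen g) hleW
    simpa [Scheme.Hom.appLE] using this
  have hgen : (RingHom.ker (i.app U).hom).map (algebraMap Γ(X, U) (Localization.Away g)) =
      Ideal.ofList (rs.map ψ) := by
    rw [← Ideal.map_ofList, ← hker, ← Ideal.map_map, ← hkW, hk, Ideal.map_map]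
    congr 1
    exact RingHom.ext fun x => (ε.commutes x).symm
  exact ⟨g, hgp, rs.map ψ, seqMap hw ψ hψ hrs, hgen⟩

/-- A local sequence in an affine chart gives regularity at the point. -/
theorem regularAt_of_locAt (i : Z ⟶ X) {U : X.Opens} (hU : IsAffineOpen U)
    (hcl : IsClosedImmersion (i ∣_ U)) (z : Z) (hz : i z ∈ U)
    (h : LocAt k (RingHom.ker (i.app U).hom) (hU.primeIdealOf ⟨i z, hz⟩).asIdeal) : RegImm.IsRegularImmersionAt k i z := by
  obtain ⟨g, hg, l, hl, hgen⟩ := h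
  have hzg : i z ∈ X.basicOpen g := (mem_basicOpen_iff_prime hU hz g).2 hg
  obtain ⟨hc, hk⟩ := Groth.L07.RegImmAt.ker_restrict hU (hU.basicOpen g) (X.basicOpen_le g) hcl
  letI := hU.isLocalization_basicOpen g
  let ε := IsLocalization.algEquiv (Submonoid.powers g) (Localization.Away g) Γ(X, X.basicOpen g)
  have hgen' : RingHom.ker (i.app (X.basicOpen g)).hom = Ideal.ofList (l.map ε.toRingEquiv.toRingHom) := by
    rw [hk, ← Ideal.map_ofList, ← hgen, Ideal.map_map]
    congr 1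
    exact RingHom.ext fun x => (ε.commutes x).symm
  refine ⟨⟨X.basicOpen g, hU.basicOpen g⟩, hzg, hc, l.map ε.toRingEquiv.toRingHom,
    Groth.L03.RegImmFlat.seq_map _ (RingHom.Flat.of_bijective ε.bijective) k l hl ?_, hgen'⟩
  haveI : Nonempty (i ⁻¹ᵁ X.basicOpen g).toScheme := ⟨⟨z, hzg⟩⟩
  haveI := Scheme.component_nontrivial Z (i ⁻¹ᵁ X.basicOpen g)
  exact fun h => RingHom.ker_ne_top _ (hgen'.trans h)

/-- Regularity of the given kind in a pair of affine charts. -/
theorem regularAt_chart {X V V' : Scheme.{u}} (hk : Weak k) (j : X ⟶ V') (p : V' ⟶ V) (x : X)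
    (D : V.Opens) (hD : IsAffineOpen D) (D' : V'.Opens) (hD' : IsAffineOpen D') (eD' : D' ≤ p ⁻¹ᵁ D)
    [IsSeparated (p.resLE D D' eD')]
    (hss' : (p.appLE D D' eD').hom.IsStandardSmooth) (hjD : j ⁻¹ᵁ D' = (j ≫ p) ⁻¹ᵁ D)
    (hclD : IsClosedImmersion ((j ≫ p) ∣_ D)) (hxr : (j ≫ p) x ∈ D)
    (h : RegImm.IsRegularImmersionAt k j x) : RegImm.IsRegularImmersionAt k (j ≫ p) x := by
  haveI := hclD
  haveI : IsAffine (D : Scheme.{u}) := hD
  haveI : IsAffine (D' : Scheme.{u}) := hD'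
  have hclD' : IsClosedImmersion (j ∣_ D') := by
    haveI : IsClosedImmersion (j ∣_ D' ≫ p.resLE D D' eD') := by
      rw [← Scheme.Hom.resLE_eq_morphismRestrict, Scheme.Hom.resLE_comp_resLE,
        Scheme.Hom.resLE_congr (j ≫ p) _ rfl hjD @IsClosedImmersion, Scheme.Hom.resLE_eq_morphismRestrict]
      exact hclD
    exact IsClosedImmersion.of_comp (j ∣_ D') (p.resLE D D' eD')
  have hxD : (j ≫ p) x ∈ D := hxr
  have hxD' : j x ∈ D' := by
    show x ∈ j ⁻¹ᵁ D'
    rw [hjD]; exact hxD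
  let f := (p.appLE D D' eD').hom
  have hcomp : ∀ t, j.app D' (f t) = X.presheaf.map (eqToHom hjD).op ((j ≫ p).app D t) := fun t => by
    show ((p.appLE D D' eD') ≫ j.app D') t = ((j ≫ p).app D ≫ X.presheaf.map (eqToHom hjD).op) t
    congr 2
    rw [Scheme.Hom.app_eq_appLE, Scheme.Hom.appLE_comp_appLE, Scheme.Hom.app_eq_appLE, Scheme.Hom.appLE_map]
  have hbij : Function.Bijective (X.presheaf.map (eqToHom hjD).op).hom := ConcreteCategory.bijective_of_isIso _
  have hkerD : (RingHom.ker (j.app D').hom).comap f = RingHom.ker ((j ≫ p).app D).hom := by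
    ext t
    rw [Ideal.mem_comap, RingHom.mem_ker, RingHom.mem_ker, hcomp]
    exact map_eq_zero_iff _ hbij.1
  have hsurj : Function.Surjective ((Ideal.Quotient.mk (RingHom.ker (j.app D').hom)).comp f) := fun y => by
    obtain ⟨w, rfl⟩ := Ideal.Quotient.mk_surjective y
    obtain ⟨v, hv⟩ := hbij.2 (j.app D' w)
    obtain ⟨t, rfl⟩ := app_surjective (j ≫ p) D hD hclD v
    refine ⟨t, Ideal.Quotient.eq.mpr ?_⟩
    rw [RingHom.mem_ker, map_sub, hcomp, hv, sub_self]
  have hJP : RingHom.ker (j.app D').hom ≤ (hD'.primeIdealOf ⟨j x, hxD'⟩).asIdeal := by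
    haveI := hclD'
    have hj' : IsAffineOpen (j ⁻¹ᵁ D') := isAffine_of_isAffineHom (j ∣_ D')
    intro w hw
    have := IsAffineOpen.comap_primeIdealOf_appLE (f := j) D' hD' (j ⁻¹ᵁ D') hj' le_rfl (show x ∈ j ⁻¹ᵁ D' from hxD')
    rw [← this]
    rw [PrimeSpectrum.comap_asIdeal, Ideal.mem_comap, ← Scheme.Hom.app_eq_appLE, RingHom.mem_ker.mp hw]
    exact zero_mem _
  have h1 := locAt_of_regularAt hk j hD' hclD' x hxD' h
  have h2 := locAt_comap_of_standardSmooth hk f hss' _ hsurj _ hJP h1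
  rw [hkerD, show ((hD'.primeIdealOf ⟨j x, hxD'⟩).asIdeal).comap f = (hD.primeIdealOf ⟨(j ≫ p) x, hxD⟩).asIdeal from
    congrArg PrimeSpectrum.asIdeal (IsAffineOpen.comap_primeIdealOf_appLE (f := p) D hD D' hD' eD' hxD')] at h2
  exact regularAt_of_locAt (j ≫ p) hD hclD x hxD h2

/-- Regularity descends from a smooth ambient scheme. -/
theorem regularAt_comp_smooth {X V V' : Scheme.{u}} (hk : k ≠ RegImm.Kind.regular) (j : X ⟶ V') (p : V' ⟶ V) [Smooth p]
    (i : X ⟶ V) [IsImmersion i] (h : j ≫ p = i) (x : X) (hj : RegImm.IsRegularImmersionAt k j x) :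
    RegImm.IsRegularImmersionAt k i x := by
  by_cases hkz : k = RegImm.Kind.koszul
  · subst hkz
    exact (Groth.L07.RegImmAt.regularAt_comp_smooth_iff' j p i h x).mpr hj
  have hw : Weak k := by cases k <;> simp_all [Weak]
  obtain ⟨W, hxW, hcl⟩ := Groth.L07.RegImmAt.exists_isClosedImmersion_restrict i x
  subst h
  obtain ⟨U, hU, U', hU', hxU', e, hss⟩ := Smooth.exists_isStandardSmooth p (j x)
  have hxU : (j ≫ p) x ∈ U := e hxU'
  -- a basic open inside `U ⊓ W` whose preimage lies in `U'`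
  obtain ⟨a, ha, hxa⟩ := hU.exists_basicOpen_le (V := W) ⟨(j ≫ p) x, hxW⟩ hxU
  have hDa := hU.basicOpen a
  have hcla : IsClosedImmersion ((j ≫ p) ∣_ V.basicOpen a) := Groth.L07.RegImmAt.restrict_closed (j ≫ p) ha hcl
  haveI := hcla
  haveI : IsAffine (V.basicOpen a : Scheme.{u}) := hDa
  have hpre : IsAffineOpen ((j ≫ p) ⁻¹ᵁ V.basicOpen a) := isAffine_of_isAffineHom ((j ≫ p) ∣_ V.basicOpen a)
  obtain ⟨c, hc, hxc⟩ := hpre.exists_basicOpen_le (V := j ⁻¹ᵁ U') ⟨x, hxU'⟩ hxa
  obtain ⟨b, rfl⟩ := app_surjective (j ≫ p) (V.basicOpen a) hDa hcla c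
  obtain ⟨r, g', eD, hxr⟩ := exists_basicOpen_le_affine_inter hU (hDa.basicOpen b) ((j ≫ p) x)
    ⟨hxU, by show x ∈ (j ≫ p) ⁻¹ᵁ V.basicOpen b; rw [(j ≫ p).preimage_basicOpen b]; exact hxc⟩
  -- the two charts
  let D := V.basicOpen r
  let D' := V'.basicOpen (p.appLE U U' e r)
  have hD := hU.basicOpen r
  have hD' := hU'.basicOpen (p.appLE U U' e r)
  have hDb : D ≤ V.basicOpen b := eD.trans_le (V.basicOpen_le g')
  have eD' : D' ≤ p ⁻¹ᵁ D := by simp [D, D', Scheme.Hom.appLE]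
  have hss' : (p.appLE D D' eD').hom.IsStandardSmooth := by
    letI := hU.isLocalization_basicOpen r
    letI := hU'.isLocalization_basicOpen (p.appLE U U' e r)
    rw [IsAffineOpen.appLE_eq_away_map p hU hU' e r]
    exact RingHom.isStandardSmooth_localizationPreserves.away _ r _ _ hss
  have hjD : j ⁻¹ᵁ D' = (j ≫ p) ⁻¹ᵁ D := by
    refine le_antisymm (fun z hz => eD' hz) fun z hz => ?_
    have hz1 : j z ∈ U' := hc (by rw [← (j ≫ p).preimage_basicOpen b]; exact hDb hz)
    show j z ∈ V'.basicOpen (p.appLE U U' e r)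
    simp only [Scheme.Hom.appLE, CommRingCat.hom_comp, RingHom.comp_apply, Scheme.basicOpen_res]
    refine ⟨hz1, ?_⟩
    rw [← p.preimage_basicOpen r]
    exact hz
  have hclD : IsClosedImmersion ((j ≫ p) ∣_ D) := Groth.L07.RegImmAt.restrict_closed (j ≫ p) (hDb.trans (V.basicOpen_le b)) hcla
  haveI : IsAffine (D : Scheme.{u}) := hD
  haveI : IsAffine (D' : Scheme.{u}) := hD'
  exact regularAt_chart hw j p x D hD D' hD' eD' hss' hjD hclD hxr hj

end Groth.L07.KindSmooth
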