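import Groth.Agent.L07.ConormalPoint
import Groth.Agent.L07.ConormalSplitAlg
import Groth.Agent.L07.KindSmoothScheme
import Groth.Agent.L14.RegImmStalk.Stalk
import Groth.Agent.L17.FlatBase.CxTools

/-!
Regularity of an immersion inherited from a composite along a split conormal sequence.
-/

set_option autoImplicit false
set_option linter.style.haveILetI false
set_option maxSynthPendingDepth 3
set_option backward.isDefEq.respectTransparency false
set_option backward.isDefEq.respectTransparency.types false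

universe u

open CategoryTheory CategoryTheory.Limits AlgebraicGeometry TopologicalSpace
open Groth.L07.RegImmDescent Groth.L07.RegImmComp Groth.L07.KindSmooth

namespace Groth.L07.ConormalSplit

variable {X Y Z : Scheme.{u}} {k : RegImm.Kind}

/-- A regular immersion gives a local sequence in any affine chart, at a point. -/
theorem locAt_of_regularAt' (hk : k ≠ RegImm.Kind.regular) (i : Z ⟶ X) {U : X.Opens} (hU : IsAffineOpen U)
    (hcl : IsClosedImmersion (i ∣_ U)) (z : Z) (hz : i z ∈ U) (hi : RegImm.IsRegularImmersionAt k i z) :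
    LocAt k (RingHom.ker (i.app U).hom) (hU.primeIdealOf ⟨i z, hz⟩).asIdeal := by
  obtain ⟨⟨W, hW⟩, hzW, hclW, rs, hrs, hker⟩ := hi
  obtain ⟨g, g', e, hzg⟩ := exists_basicOpen_le_affine_inter hU hW (i z) ⟨hz, hzW⟩
  have hgp : g ∉ (hU.primeIdealOf ⟨i z, hz⟩).asIdeal := (mem_basicOpen_iff_prime hU hz g).1 hzg
  have hleW : X.basicOpen g ≤ W := e.trans_le (X.basicOpen_le g')
  obtain ⟨-, hk'⟩ := Groth.L07.RegImmAt.ker_restrict hU (hU.basicOpen g) (X.basicOpen_le g) hcl
  obtain ⟨-, hkW⟩ := Groth.L07.RegImmAt.ker_restrict hW (hU.basicOpen g) hleW hclW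
  letI := hU.isLocalization_basicOpen g
  let ε := IsLocalization.algEquiv (Submonoid.powers g) Γ(X, X.basicOpen g) (Localization.Away g)
  let ψ : Γ(X, W) →+* Localization.Away g :=
    ε.toRingEquiv.toRingHom.comp (X.presheaf.map (homOfLE hleW).op).hom
  have hψ : ψ.Flat := by
    refine RingHom.Flat.comp ?_ (RingHom.Flat.of_bijective ε.bijective)
    have := Flat.flat_appLE (𝟙 X) hW (hU.basicOpen g) hleW
    simpa [Scheme.Hom.appLE] using this
  have hgen : (RingHom.ker (i.app U).hom).map (algebraMap Γ(X, U) (Localization.Away g)) =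
      Ideal.ofList (rs.map ψ) := by
    rw [← Ideal.map_ofList, ← hker, ← Ideal.map_map, ← hkW, hk', Ideal.map_map]
    congr 1
    exact RingHom.ext fun x => (ε.commutes x).symm
  exact ⟨g, hgp, rs.map ψ, seqMap' hk ψ hψ hrs, hgen⟩

/-- Regularity of `i` from that of `i ≫ j`, when the conormal map of `j` has a retraction near `z`. -/
theorem regularAt_of_retraction (hk : k ≠ RegImm.Kind.regular) (i : Z ⟶ Y) (j : Y ⟶ X)
    [IsImmersion i] [IsImmersion j] [QuasiCompact i] [QuasiCompact j] [LocallyOfFinitePresentation j]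
    (a : (Scheme.Modules.pullback i).obj (Omega.conormal j) ⟶ Omega.conormal (i ≫ j))
    (ha : _root_.OmegaSh.IsConormalMap (i ≫ j) j (𝟙 X) i a) (z : Z) (U : Z.Opens) (hzU : z ∈ U)
    (ρ : (Scheme.Modules.restrictFunctor U.ι).obj (Omega.conormal (i ≫ j)) ⟶
      (Scheme.Modules.restrictFunctor U.ι).obj ((Scheme.Modules.pullback i).obj (Omega.conormal j)))
    (hρ : (Scheme.Modules.restrictFunctor U.ι).map a ≫ ρ = 𝟙 _)
    (hij : RegImm.IsRegularImmersionAt k (i ≫ j) z)
    (hj : k = RegImm.Kind.koszul → RegImm.IsRegularImmersionAt k j (i z)) :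
    RegImm.IsRegularImmersionAt k i z := by
  obtain ⟨W₁, hzW₁, hcl₁⟩ := Groth.L07.RegImmAt.exists_isClosedImmersion_restrict (i ≫ j) z
  obtain ⟨W₂, hzW₂, hcl₂⟩ := Groth.L07.RegImmAt.exists_isClosedImmersion_restrict j (i z)
  obtain ⟨_, ⟨W, hW, rfl⟩, hzW, hle⟩ := X.isBasis_affineOpens.exists_subset_of_mem_open
    (show j (i z) ∈ W₁ ⊓ W₂ from ⟨hzW₁, hzW₂⟩) (W₁ ⊓ W₂).2
  have hclij := Groth.L07.RegImmAt.restrict_closed (i ≫ j) (fun x hx => (hle hx).1 : W ≤ W₁) hcl₁
  have hclj := Groth.L07.RegImmAt.restrict_closed j (fun x hx => (hle hx).2 : W ≤ W₂) hcl₂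
  haveI := hclj
  haveI : IsAffine (W : Scheme.{u}) := hW
  have hV : IsAffineOpen (j ⁻¹ᵁ W) := isAffine_of_isAffineHom (j ∣_ W)
  have hcli : IsClosedImmersion (i ∣_ (j ⁻¹ᵁ W)) := by
    haveI : IsClosedImmersion (i ∣_ (j ⁻¹ᵁ W) ≫ j ∣_ W) := by
      rw [← morphismRestrict_comp]; exact hclij
    exact IsClosedImmersion.of_comp (i ∣_ (j ⁻¹ᵁ W)) (j ∣_ W)
  have hσ : Function.Surjective (j.app W).hom := app_surjective j W hW hclj
  have hkeri : RingHom.ker (i.app (j ⁻¹ᵁ W)).hom = (RingHom.ker ((i ≫ j).app W).hom).map (j.app W).hom := by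
    rw [Scheme.Hom.comp_app, CommRingCat.hom_comp, ← RingHom.comap_ker,
      Ideal.map_comap_of_surjective _ hσ]
  have hzV : i z ∈ j ⁻¹ᵁ W := hzW
  refine regularAt_of_locAt i hV hcli z hzV ?_
  rw [hkeri]
  letI : Algebra Γ(X, W) (X.presheaf.stalk (j (i z))) := (X.presheaf.germ W (j (i z)) hzW).hom.toAlgebra
  haveI := hW.isLocalization_stalk ⟨j (i z), hzW⟩
  have hP : ((hV.primeIdealOf ⟨i z, hzV⟩).asIdeal).comap (j.app W).hom = (hW.primeIdealOf ⟨j (i z), hzW⟩).asIdeal := by
    have := IsAffineOpen.comap_primeIdealOf_appLE (f := j) W hW (j ⁻¹ᵁ W) hV le_rfl (x := i z) hzV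
    rw [← Scheme.Hom.app_eq_appLE] at this
    exact congrArg PrimeSpectrum.asIdeal this
  have hIJ : RingHom.ker (j.app W).hom ≤ RingHom.ker ((i ≫ j).app W).hom := fun r hr => by
    rw [RingHom.mem_ker, Scheme.Hom.comp_app, CommRingCat.hom_comp, RingHom.comp_apply, RingHom.mem_ker.mp hr, map_zero]
  have hfg : (RingHom.ker (j.app W).hom).FG := by
    letI := (j.app W).hom.toAlgebra
    haveI : Algebra.FinitePresentation Γ(X, W) Γ(Y, j ⁻¹ᵁ W) := by
      have h := j.finitePresentation_appLE hW hV le_rfl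
      rw [← Scheme.Hom.app_eq_appLE] at h
      exact h
    exact (Algebra.FinitePresentation.ker_fG_of_surjective (Algebra.ofId Γ(X, W) Γ(Y, j ⁻¹ᵁ W)) hσ :)
  refine locAt_map hk (j.app W).hom hσ hIJ hfg (hW.primeIdealOf ⟨j (i z), hzW⟩).asIdeal
    (ker_le_primeIdealOf (i ≫ j) hW z hzW) _ hP (X.presheaf.stalk (j (i z)))
    (locAt_of_regularAt' hk (i ≫ j) hW hclij z hzW hij)
    (fun h => locAt_of_regularAt' hk j hW hclj (i z) hzW (hj h)) ?_
  intro x hx hxm
  have e1 : (RingHom.ker (j.app W).hom).map (algebraMap Γ(X, W) (X.presheaf.stalk (j (i z)))) =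
      RingHom.ker (j.stalkMap (i z)).hom :=
    (Groth.L14.RegImmStalk.ker_stalkMap j hW hclj (i z) hzW).symm
  have e2 : (RingHom.ker ((i ≫ j).app W).hom).map (algebraMap Γ(X, W) (X.presheaf.stalk (j (i z)))) =
      RingHom.ker (((i ≫ j).stalkMap z).hom : X.presheaf.stalk (j (i z)) →+* _) :=
    (Groth.L14.RegImmStalk.ker_stalkMap (i ≫ j) hW hclij z hzW).symm
  rw [e1] at hx ⊢
  rw [e2] at hxm
  exact Groth.L07.ConormalPoint.mem_mul_ker i j a ha z U hzU ρ hρ x hx hxm

/-- A retraction of the first map of a short exact sequence on an open where the second has a section. -/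
theorem exists_retraction {S : ShortComplex Z.Modules} (hS : S.ShortExact) (U : Z.Opens)
    (r : (Scheme.Modules.restrictFunctor U.ι).obj S.X₃ ⟶ (Scheme.Modules.restrictFunctor U.ι).obj S.X₂)
    (hr : r ≫ (Scheme.Modules.restrictFunctor U.ι).map S.g = 𝟙 _) :
    ∃ ρ : (Scheme.Modules.restrictFunctor U.ι).obj S.X₂ ⟶ (Scheme.Modules.restrictFunctor U.ι).obj S.X₁,
      (Scheme.Modules.restrictFunctor U.ι).map S.f ≫ ρ = 𝟙 _ := by
  let R := Scheme.Modules.restrictFunctor U.ι
  haveI : PreservesFiniteLimits (Scheme.Modules.pullback U.ι) :=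
    Groth.L17.CxTools.preservesFiniteLimits_pullback _
  haveI : PreservesFiniteLimits R :=
    preservesFiniteLimits_of_natIso (Scheme.Modules.restrictFunctorIsoPullback U.ι).symm
  haveI : R.IsLeftAdjoint := (Scheme.Modules.restrictAdjunction U.ι).isLeftAdjoint
  haveI : R.Additive := (Scheme.Modules.restrictAdjunction U.ι).left_adjoint_additive
  have h := hS.map_of_exact R
  haveI := h.mono_f
  exact ⟨_, (ShortComplex.Splitting.ofExactOfSection _ h.exact r hr h.mono_f).f_r⟩

end Groth.L07.ConormalSplit
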