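import Groth.Agent.L07.CorrespondenceLoci
import Groth.Agent.L21.CurveTop
import Groth.Agent.L21.RR.PointPow
import Mathlib.AlgebraicGeometry.Morphisms.Flat

/-!
A proper dominant morphism from an integral curve to a regular curve is finite and flat.
-/

set_option autoImplicit false
set_option linter.style.haveILetI false
set_option backward.isDefEq.respectTransparency false
set_option backward.isDefEq.respectTransparency.types false
universe u

open CategoryTheory AlgebraicGeometry TopologicalSpace

namespace Groth.L07.Correspondence

variable {Z W : Scheme.{u}} [IsIntegral Z] [IsIntegral W] (p : Z ⟶ W)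

theorem stalkMap_injective_of_dominant [IsDominant p] (z : Z) : Function.Injective (p.stalkMap z).hom := by
  rw [injective_iff_map_eq_zero]
  intro a ha
  obtain ⟨U, hU, s, rfl⟩ := TopCat.Presheaf.exists_germ_eq (x := p z) W.presheaf a
  have ha' : Z.presheaf.germ (p ⁻¹ᵁ U) z hU (p.app U s) = 0 := by
    rw [← ha]
    exact (Scheme.Hom.germ_stalkMap_apply p U z hU s).symm
  have h0 : p.app U s = 0 := by
    apply germ_injective_of_isIntegral Z z hU
    rw [map_zero]; exact ha'
  have hs : s = 0 := by
    rw [← basicOpen_eq_bot_iff s]
    by_contra hne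
    obtain ⟨w, hw⟩ : (W.basicOpen s : Set W).Nonempty := by
      rw [Set.nonempty_iff_ne_empty]
      exact fun h => hne (Opens.ext h)
    have h1 : genericPoint W ∈ W.basicOpen s :=
      ((genericPoint_spec W).specializes (show w ∈ Set.univ from trivial)).mem_open (W.basicOpen s).2 hw
    obtain ⟨hgen, -⟩ := Groth.L07.DimToolkit.generic_data p
    have h2 : genericPoint Z ∈ p ⁻¹ᵁ W.basicOpen s := by
      show p (genericPoint Z) ∈ W.basicOpen s
      rw [hgen]; exact h1
    rw [Scheme.preimage_basicOpen, h0, Scheme.basicOpen_zero] at h2
    exact h2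
  rw [hs, map_zero]

theorem isFinite_and_flat_curve [IsProper p] [IsDominant p] [IsNoetherian W]
    (hW : topologicalKrullDim W = 1) (hZ : topologicalKrullDim Z = 1)
    (hreg : ∀ w : W, IsRegularLocalRing (W.presheaf.stalk w)) : IsFinite p ∧ Flat p := by
  haveI : CompactSpace Z := QuasiCompact.compactSpace_of_compactSpace p
  haveI : IsLocallyNoetherian Z := LocallyOfFiniteType.isLocallyNoetherian p
  haveI : IsNoetherian Z := {}
  constructor
  · suffices LocallyQuasiFinite p from .of_isProper_of_locallyQuasiFinite p
    refine .of_finite_preimage_singleton p fun w => ?_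
    by_cases hw : w = genericPoint W
    · rw [hw]
      exact finite_preimage_genericPoint p 1 (by exact_mod_cast hW) (by exact_mod_cast hZ)
    have hne : closure ({w} : Set W) ≠ Set.univ := fun h =>
      hw (IsGenericPoint.eq (show IsGenericPoint w Set.univ from h) (genericPoint_spec W))
    have hcl := (Groth.L21.CurveTop.finite_of_isClosed hW.le isClosed_closure hne).2 w (subset_closure rfl)
    refine (Groth.L21.CurveTop.finite_of_isClosed hZ.le (hcl.preimage p.continuous) fun h => hw ?_).1
    have h1 : p (genericPoint Z) = w := by
      have : genericPoint Z ∈ p ⁻¹' {w} := by rw [h]; trivial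
      exact this
    exact h1.symm.trans (Groth.L07.DimToolkit.generic_data p).1
  · rw [Flat.iff_flat_stalkMap]
    intro z
    haveI := hreg (p z)
    have hinj := stalkMap_injective_of_dominant p z
    by_cases hF : IsField (W.presheaf.stalk (p z))
    · letI := hF.toField
      letI := (p.stalkMap z).hom.toAlgebra
      show Module.Flat _ _
      infer_instance
    haveI : IsDiscreteValuationRing (W.presheaf.stalk (p z)) :=
      ((IsDiscreteValuationRing.TFAE (W.presheaf.stalk (p z)) hF).out 0 4
        (a := IsDiscreteValuationRing (W.presheaf.stalk (p z)))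
        (b := (IsLocalRing.maximalIdeal (W.presheaf.stalk (p z))).IsPrincipal)).2
        (Groth.L21.SmoothDescent.isPrincipal_of_dim_le_one
          ((Groth.L21.SmoothDescent.ringKrullDim_stalk_le (p z)).trans hW.le))
    letI := (p.stalkMap z).hom.toAlgebra
    show Module.Flat _ _
    haveI : FaithfulSMul (W.presheaf.stalk (p z)) (Z.presheaf.stalk z) :=
      (faithfulSMul_iff_algebraMap_injective _ _).2 hinj
    infer_instance

end Groth.L07.Correspondence
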