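import Groth.Agent.L19.DimTrdeg
import Groth.Agent.L07.DimFormulaApps
import Groth.Agent.L18.ZeroDim
import Groth.Agent.L20.FlatStalk
import Mathlib.AlgebraicGeometry.ZariskisMainTheorem

/-!
Flat and finite loci of a proper morphism of integral schemes of the same dimension.
-/

set_option autoImplicit false
set_option linter.style.haveILetI false
set_option linter.unusedSectionVars false
set_option backward.isDefEq.respectTransparency false
set_option backward.isDefEq.respectTransparency.types false
universe u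

open CategoryTheory AlgebraicGeometry TopologicalSpace

namespace Groth.L07.Correspondence

variable {Z W : Scheme.{u}} [IsIntegral Z] [IsIntegral W] (p : Z ⟶ W)

theorem isOpen_flat_over [IsProper p] [IsLocallyNoetherian W] :
    IsOpen {w : W | ∀ z : Z, p z = w → (p.stalkMap z).hom.Flat} := by
  have h := p.isClosedMap _ (Groth.L20.isOpen_flat_stalkMap p).isClosed_compl
  convert h.isOpen_compl using 1
  ext w
  show (∀ z, p z = w → _) ↔ w ∉ p '' _
  constructor
  · rintro h ⟨z, hz, e⟩; exact hz (h z e)
  · exact fun h z e => by_contra fun hz => h ⟨z, hz, e⟩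

omit [IsIntegral Z] in
theorem flat_over_genericPoint (z : Z) (hz : p z = genericPoint W) : (p.stalkMap z).hom.Flat := by
  have hF : IsField (W.presheaf.stalk (p z)) := by
    rw [hz]; exact Field.toIsField W.functionField
  letI := hF.toField
  letI := (p.stalkMap z).hom.toAlgebra
  show Module.Flat _ _
  infer_instance

theorem finite_preimage_genericPoint [IsProper p] [IsLocallyNoetherian W] (n : ℕ)
    (hW : topologicalKrullDim W = n) (hZ : topologicalKrullDim Z = n) :
    (p ⁻¹' {genericPoint W}).Finite := by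
  by_cases hne : ∃ z, p z = genericPoint W
  · obtain ⟨z₀, hz₀⟩ := hne
    have hd : DenseRange p := by
      show Dense (Set.range p)
      rw [dense_iff_closure_eq, Set.eq_univ_iff_forall]
      intro w
      have hsub : ({genericPoint W} : Set W) ⊆ Set.range p := Set.singleton_subset_iff.2 ⟨z₀, hz₀⟩
      exact closure_mono hsub ((genericPoint_spec W).specializes trivial).mem_closure
    haveI : IsDominant p := ⟨hd⟩
    obtain ⟨hgen, hfib⟩ := Groth.L07.DimToolkit.generic_data p
    obtain ⟨r, hr, hr'⟩ := Groth.L07.DimToolkit.exists_fdim_rtrdeg p (genericPoint Z)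
    have h1 := Groth.L19.DimTrdeg.fdim_add_le p p.isClosedMap hgen r hr'
    rw [hW, hZ] at h1
    have hr0 : r = 0 := by
      have : n + r ≤ n := by exact_mod_cast h1
      omega
    have hS : topologicalKrullDim ↥(p ⁻¹' {genericPoint W}) ≤ 0 := by
      unfold Groth.L07.Equidim.fdim at hr
      rw [genericPoint_closure, Set.univ_inter] at hr
      rw [← hgen]
      show topologicalKrullDim ↥(p ⁻¹' {p (genericPoint Z)}) ≤ 0
      rw [hr, hr0]
      rfl
    refine (Set.finite_singleton (genericPoint Z)).subset fun z hz => ?_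
    let a : ↥(p ⁻¹' {genericPoint W}) := ⟨genericPoint Z, hgen⟩
    let b : ↥(p ⁻¹' {genericPoint W}) := ⟨z, hz⟩
    have hab : a ⤳ b := (subtype_specializes_iff _ _).2 ((genericPoint_spec Z).specializes trivial)
    exact (congrArg Subtype.val (Groth.L18.ZeroDim.eq_of_specializes hS hab)).symm
  · refine Set.finite_empty.subset fun z hz => hne ⟨z, hz⟩

theorem exists_finite_open [IsProper p] [IsLocallyNoetherian W] (n : ℕ)
    (hW : topologicalKrullDim W = n) (hZ : topologicalKrullDim Z = n) :
    ∃ U : W.Opens, (U : Set W) = {w : W | (p ⁻¹' {w}).Finite} ∧ (U : Set W).Nonempty ∧ IsFinite (p ∣_ U) := by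
  let V : W.Opens := ⟨_, (p.isClosedMap _ p.quasiFiniteLocus.isOpen.isClosed_compl).isOpen_compl⟩
  have key : ∀ w : W, (p ⁻¹' {w}).Finite → w ∈ V := fun w hw => by
    suffices ∀ z, p z = w → p.QuasiFiniteAt z by simpa [V, not_imp_not]
    rintro z rfl
    have : Finite (p.fiber (p z)) := (p.fiberHomeo (p z)).finite_iff.mpr hw
    exact Scheme.Hom.quasiFiniteAt_iff_isOpen_singleton_asFiber.mpr (isOpen_discrete _)
  have hfin : IsFinite (p ∣_ V) := by
    suffices LocallyQuasiFinite (p ∣_ V) from .of_isProper_of_locallyQuasiFinite _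
    rw [← Scheme.Hom.quasiFiniteLocus_eq_top_iff]
    ext x
    have : p.QuasiFiniteAt ((p ⁻¹ᵁ V).ι x) := by by_contra H; exact x.2 ⟨_, H, by simp⟩
    rw [← Scheme.Hom.quasiFiniteAt_comp_iff_of_isOpenImmersion, ← morphismRestrict_ι,
      Scheme.Hom.quasiFiniteAt_comp_iff] at this
    simpa
  refine ⟨V, Set.ext fun w => ⟨fun hw => ?_, key w⟩,
    ⟨genericPoint W, key _ (finite_preimage_genericPoint p n hW hZ)⟩, hfin⟩
  have := hfin
  have h := (p ∣_ V).finite_preimage_singleton ⟨w, hw⟩
  refine (h.image (p ⁻¹ᵁ V).ι).subset fun z hz => ?_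
  have hzV : z ∈ p ⁻¹ᵁ V := by
    show p z ∈ V
    rw [show p z = w from hz]; exact hw
  refine ⟨⟨z, hzV⟩, ?_, rfl⟩
  apply Subtype.ext
  show ((p ∣_ V) ⟨z, hzV⟩).1 = w
  rw [morphismRestrict_base]
  exact hz

end Groth.L07.Correspondence
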