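import Groth.Agent.L06.NormalTotalQuot
import Mathlib.RingTheory.AdicCompletion.AsTensorProduct
import Mathlib.RingTheory.AdicCompletion.Noetherian
import Mathlib.RingTheory.AdicCompletion.Algebra
import Mathlib.RingTheory.SimpleModule.InjectiveProjective
import Groth.Agent.L01.AnalUnram
import Mathlib.RingTheory.Artinian.Ring
import Mathlib.LinearAlgebra.TensorProduct.Pi
import Mathlib.RingTheory.Flat.Basic

/-! Normality of a completion descends along finite extensions of normal rings. -/

set_option autoImplicit false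
set_option maxSynthPendingDepth 3
set_option linter.all false
noncomputable section
universe u
open TensorProduct IsLocalRing Polynomial
open scoped nonZeroDivisors

namespace Groth.L07.CplNormalDescent

section
variable (A : Type u) [CommRing A] [IsNoetherianRing A] [IsLocalRing A]
  (C : Type u) [CommRing C] [Algebra A C] [Module.Finite A C]

theorem nonempty_equiv :
    Nonempty ((AdicCompletion (maximalIdeal A) A ⊗[A] C) ≃+* AdicCompletion ((maximalIdeal A).map (algebraMap A C)) C) := by
  let m := maximalIdeal A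
  let J := (maximalIdeal A).map (algebraMap A C)
  obtain ⟨k, hk, hkle⟩ : ∃ k, 0 < k ∧ J ^ k ≤ J := ⟨1, one_pos, (pow_one J).le⟩
  have hmJ : ∀ n, m ^ n ≤ (J ^ n).comap (algebraMap A C) := fun n => by
    rw [← Ideal.map_le_iff_le_comap, Ideal.map_pow]
  let f : (n : ℕ) → AdicCompletion m A →ₐ[A] C ⧸ J ^ n := fun n =>
    (Ideal.quotientMapₐ (J ^ n) (Algebra.ofId A C) (hmJ n)).comp (AdicCompletion.evalₐ m n)
  have hfmk : ∀ (n : ℕ) (a : AdicCompletion.AdicCauchySequence m A),
      f n (AdicCompletion.mk m A a) = Ideal.Quotient.mk (J ^ n) (algebraMap A C (a.val n)) := fun n a => by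
    show Ideal.quotientMapₐ (J ^ n) (Algebra.ofId A C) (hmJ n) (AdicCompletion.evalₐ m n (AdicCompletion.mk m A a)) = _
    rw [AdicCompletion.evalₐ_mk]
    rfl
  have hf : ∀ {i j : ℕ} (hle : i ≤ j), (Ideal.Quotient.factorPow J hle).comp (f j).toRingHom = (f i).toRingHom := by
    intro i j hle
    refine RingHom.ext fun x => ?_
    obtain ⟨a, rfl⟩ := AdicCompletion.mk_surjective m A x
    show Ideal.Quotient.factorPow J hle (f j (AdicCompletion.mk m A a)) = f i (AdicCompletion.mk m A a)
    rw [hfmk, hfmk]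
    have h2 := congrArg (Ideal.quotientMap (J ^ i) (algebraMap A C) (hmJ i)) (AdicCompletion.Ideal.mk_eq_mk m hle a)
    rw [Ideal.quotientMap_mk, Ideal.quotientMap_mk] at h2
    exact h2
  let g : AdicCompletion m A →+* AdicCompletion J C := AdicCompletion.liftRingHom J (fun n => (f n).toRingHom) hf
  have hg : ∀ n x, AdicCompletion.evalₐ J n (g x) = f n x := fun n x => AdicCompletion.evalₐ_liftRingHom J _ hf n x
  let G : AdicCompletion m A →ₐ[A] AdicCompletion J C :=
    { g with
      commutes' := fun r => AdicCompletion.ext_evalₐ fun n => by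
        show AdicCompletion.evalₐ J n (g (algebraMap A _ r)) = _
        rw [hg, AlgHom.commutes, IsScalarTower.algebraMap_apply A C (AdicCompletion J C), AlgHom.commutes]
        rfl }
  let Φ : AdicCompletion m A ⊗[A] C →ₐ[A] AdicCompletion J C :=
    Algebra.TensorProduct.lift G (IsScalarTower.toAlgHom A C (AdicCompletion J C)) fun _ _ => Commute.all _ _
  have hsub : ∀ n, (m ^ n • ⊤ : Submodule A C) ≤ (J ^ n).restrictScalars A := fun n => by
    refine Submodule.smul_le.mpr fun a ha c _ => ?_
    rw [Submodule.restrictScalars_mem, Algebra.smul_def]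
    exact Ideal.mul_mem_right _ _ (hmJ n ha)
  let π : (n : ℕ) → (C ⧸ (m ^ n • ⊤ : Submodule A C)) →ₗ[A] C ⧸ J ^ n := fun n =>
    Submodule.liftQ _ ((Ideal.Quotient.mkₐ A (J ^ n)).toLinearMap) (fun c hc => by
      rw [LinearMap.mem_ker]
      exact Ideal.Quotient.eq_zero_iff_mem.mpr (hsub n hc))
  have hrel : ∀ n z, AdicCompletion.evalₐ J n (Φ z) = π n ((AdicCompletion.ofTensorProduct m C z).val n) := by
    intro n z
    induction z using TensorProduct.induction_on with
    | zero => simp only [map_zero]; exact (map_zero (π n)).symm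
    | tmul x c =>
      obtain ⟨a, rfl⟩ := AdicCompletion.mk_surjective m A x
      rw [Algebra.TensorProduct.lift_tmul, map_mul]
      show AdicCompletion.evalₐ J n (g _) * AdicCompletion.evalₐ J n (algebraMap C _ c) = _
      rw [hg, AlgHom.commutes, hfmk, AdicCompletion.ofTensorProduct_tmul, Ideal.Quotient.algebraMap_eq]
      show _ = π n (Submodule.Quotient.mk (a.val n • c))
      rw [← map_mul, ← Algebra.smul_def]
      rfl
    | add x y hx hy =>
      rw [map_add, map_add, hx, hy, map_add, AdicCompletion.val_add_apply, map_add]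
  have hb := AdicCompletion.ofTensorProduct_bijective_of_finite_of_isNoetherian m C
  have hJm : ∀ n, (J ^ (k * n)).restrictScalars A ≤ (m ^ n • ⊤ : Submodule A C) := fun n c hc => by
    rw [Ideal.smul_top_eq_map, Submodule.restrictScalars_mem, Ideal.map_pow]
    rw [Submodule.restrictScalars_mem, pow_mul] at hc
    exact Ideal.pow_right_mono hkle n hc
  have hinj : Function.Injective Φ := by
    refine (injective_iff_map_eq_zero Φ).mpr fun z hz => hb.1 ?_
    rw [map_zero]
    refine AdicCompletion.ext fun n => ?_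
    have h1 := hrel (k * n) z
    rw [hz, map_zero] at h1
    obtain ⟨c, hc⟩ := Submodule.Quotient.mk_surjective _ ((AdicCompletion.ofTensorProduct m C z).val (k * n))
    rw [← hc] at h1
    have h2 : c ∈ J ^ (k * n) := Ideal.Quotient.eq_zero_iff_mem.mp h1.symm
    have hle : n ≤ k * n := Nat.le_mul_of_pos_left n hk
    rw [← AdicCompletion.transitionMap_comp_eval_apply m C hle (AdicCompletion.ofTensorProduct m C z)] at *
    show AdicCompletion.transitionMap m C hle ((AdicCompletion.ofTensorProduct m C z).val (k * n)) = 0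
    rw [← hc]
    exact (Submodule.Quotient.mk_eq_zero _).mpr (hJm n h2)
  have hsurj : Function.Surjective Φ := by
    intro y
    obtain ⟨b, rfl⟩ := AdicCompletion.mk_surjective J C y
    have hcauchy : AdicCompletion.IsAdicCauchy m C fun n => b.val (k * n) := fun {i j} hle => by
      refine SModEq.sub_mem.mpr (hJm i ?_)
      have := SModEq.sub_mem.mp (b.property (Nat.mul_le_mul_left k hle))
      rw [smul_eq_mul, Ideal.mul_top] at this
      exact this
    obtain ⟨z, hz⟩ := hb.2 (AdicCompletion.mk m C ⟨_, hcauchy⟩)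
    refine ⟨z, AdicCompletion.ext_evalₐ fun n => ?_⟩
    rw [hrel, hz, AdicCompletion.evalₐ_mk]
    show Ideal.Quotient.mk (J ^ n) (b.val (k * n)) = _
    rw [Ideal.Quotient.eq]
    have := SModEq.sub_mem.mp (b.property (Nat.le_mul_of_pos_left n hk)).symm
    rw [smul_eq_mul, Ideal.mul_top] at this
    exact this
  exact ⟨RingEquiv.ofBijective Φ ⟨hinj, hsurj⟩⟩

end

/-- integrally closed in the total quotient ring -/
def IC (R : Type u) [CommRing R] : Prop :=
  ∀ y : FractionRing R, IsIntegral R y → y ∈ Set.range (algebraMap R (FractionRing R))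

section
variable {R : Type u} [CommRing R]

theorem scaleRoots_eval_eq_zero_of (p : R[X]) {Q : Type u} [CommRing Q] [Algebra R Q]
    (hinj : Function.Injective (algebraMap R Q)) {y : Q} (hy : aeval y p = 0) {a b : R}
    (hab : y * algebraMap R Q b = algebraMap R Q a) : (p.scaleRoots b).eval a = 0 := hinj (by
  rw [← eval₂_at_apply, ← hab, mul_comm y, scaleRoots_eval₂_mul (algebraMap R Q), ← aeval_def, hy,
    mul_zero, map_zero])

variable [IsReduced R] [IsNoetherianRing R]

theorem finite_minimalPrimes' : (minimalPrimes R).Finite :=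
  minimalPrimes.finite_of_isNoetherianRing R

/-- a support idempotent for every element -/
theorem exists_support (hIC : IC R) (b : R) :
    ∃ e b' : R, e * e = e ∧ e * b = b ∧ b' = b + (1 - e) ∧ b' ∈ nonZeroDivisors R := by
  let Q := FractionRing R
  let φ := algebraMap R Q
  have hI : (1 : Q) ∈ LinearMap.ker (LinearMap.mulRight Q (φ b)) ⊔ Ideal.span {φ b} := by
    by_contra h1
    obtain ⟨P, hP, hle⟩ := Ideal.exists_le_maximal _ ((Ideal.ne_top_iff_one _).mpr h1)
    haveI := hP.isPrime
    obtain ⟨s, hs, hsa⟩ := Groth.L06.NormalTotalQuot.exists_not_mem_mul_eq_zero finite_minimalPrimes' P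
      (hle (Submodule.mem_sup_right (Ideal.mem_span_singleton_self (φ b))))
    exact hs (hle (Submodule.mem_sup_left (show s * φ b = 0 from hsa)))
  obtain ⟨u, hu, w, hw, huw⟩ := Submodule.mem_sup.mp hI
  obtain ⟨c, rfl⟩ := Ideal.mem_span_singleton'.mp hw
  have hu' : u * φ b = 0 := hu
  have hid : (c * φ b) * (c * φ b) = c * φ b := by linear_combination (c * φ b) * huw - c * hu'
  obtain ⟨e, he⟩ := hIC (c * φ b) ⟨X ^ 2 - X, monic_X_pow_sub (n := 2) (degree_X_le.trans_lt (by exact_mod_cast one_lt_two)), by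
    simp only [eval₂_sub, eval₂_X_pow, eval₂_X]
    rw [sq, hid, sub_self]⟩
  have hinj : Function.Injective φ := IsFractionRing.injective R Q
  refine ⟨e, b + (1 - e), hinj (by rw [map_mul, he, hid]), hinj (by
    rw [map_mul, he]; linear_combination (φ b) * huw - hu'), rfl, ?_⟩
  rw [mem_nonZeroDivisors_iff_right]
  intro x hx
  have h1 : φ x * (φ b + (1 - c * φ b)) = 0 := by
    rw [← he, ← map_one φ, ← map_sub, ← map_add, ← map_mul, hx, map_zero]
  have h2 : (φ b + (1 - c * φ b)) * (c * c * φ b + u) = 1 := by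
    linear_combination (2 - c) * hid + hu' + (1 - c * φ b) * huw
  apply hinj
  rw [map_zero]
  calc φ x = φ x * ((φ b + (1 - c * φ b)) * (c * c * φ b + u)) := by rw [h2, mul_one]
    _ = 0 := by rw [← mul_assoc, h1, zero_mul]

/-- homogeneous integral relations give divisibility -/
theorem exists_div (hIC : IC R) {a b : R} {p : R[X]} (hp : p.Monic) (h : (p.scaleRoots b).eval a = 0) :
    ∃ z, z * b = a := by
  let Q := FractionRing R
  let φ := algebraMap R Q
  obtain ⟨e, b', he, heb, hb', hnz⟩ := exists_support hIC b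
  obtain ⟨bu, hbu⟩ := IsLocalization.map_units Q (⟨b', hnz⟩ : nonZeroDivisors R)
  let y : Q := φ (e * a) * ↑bu⁻¹
  have hy : y * φ b' = φ (e * a) := by
    show φ (e * a) * ↑bu⁻¹ * φ b' = _
    rw [mul_assoc, ← hbu, Units.inv_mul, mul_one]
  have h2 : φ e * aeval y p = 0 := by
    have h0 : φ e * (φ b ^ p.natDegree * aeval y p) = 0 := by
      have h3 : φ e * φ a = φ b * (φ e * y) := by
        have hb1 : φ e * φ b' = φ b := by
          rw [hb', ← map_mul, mul_add, heb, mul_sub, mul_one, he, sub_self, add_zero]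
        rw [← hb1, ← map_mul]
        calc φ (e * a) = φ e * φ (e * a) := by rw [← map_mul, ← mul_assoc, he]
          _ = _ := by
            rw [← hy]
            linear_combination (-(y * φ b')) * congrArg φ he + (y * φ b') * (map_mul φ e e)
      have hee : φ e * φ e = φ e := by rw [← map_mul, he]
      -- compare after multiplying by `e`
      have key : ∀ (q : R[X]) (s t : Q), φ e * s = φ e * t → φ e * q.eval₂ φ s = φ e * q.eval₂ φ t := by
        intro q s t hst
        induction q using Polynomial.induction_on' with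
        | add q₁ q₂ h1 h2 => simp only [eval₂_add, mul_add, h1, h2]
        | monomial n r =>
          rw [eval₂_monomial, eval₂_monomial]
          rcases Nat.eq_zero_or_pos n with h0 | h0
          · subst h0; simp
          · have e1 : φ e ^ n = φ e := by
              obtain ⟨k, rfl⟩ := Nat.exists_eq_succ_of_ne_zero h0.ne'
              exact IsIdempotentElem.pow_succ_eq k hee
            calc φ e * (φ r * s ^ n) = φ r * (φ e * s) ^ n := by rw [mul_pow, e1]; ring
              _ = φ e * (φ r * t ^ n) := by rw [hst, mul_pow, e1]; ring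
      have := key (p.scaleRoots b) (φ b * y) (φ a) (by rw [h3]; ring)
      rw [scaleRoots_eval₂_mul φ, eval₂_at_apply, h, map_zero, mul_zero, ← aeval_def] at this
      exact this
    have hb1 : φ e * φ b = φ e * φ b' := by
      rw [← map_mul, ← map_mul, hb', mul_add, mul_sub, mul_one, he, sub_self, add_zero]
    have hu : IsUnit (φ b' ^ p.natDegree) := (hbu ▸ bu.isUnit).pow _
    refine hu.mul_right_eq_zero.mp ?_
    rcases Nat.eq_zero_or_pos p.natDegree with hd | hd
    · rw [hd, pow_zero, one_mul] at h0 ⊢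
      exact h0
    · have e1 : φ e ^ p.natDegree = φ e := by
        obtain ⟨k, hk⟩ := Nat.exists_eq_succ_of_ne_zero hd.ne'
        rw [hk]
        exact IsIdempotentElem.pow_succ_eq k (show φ e * φ e = φ e by rw [← map_mul, he])
      calc φ b' ^ p.natDegree * (φ e * aeval y p) = (φ e * φ b') ^ p.natDegree * aeval y p := by
            rw [mul_pow, e1]; ring
        _ = (φ e * φ b) ^ p.natDegree * aeval y p := by rw [hb1]
        _ = φ e * (φ b ^ p.natDegree * aeval y p) := by rw [mul_pow, e1]; ring
        _ = 0 := h0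
  have hey : φ e * y = y := by
    show φ e * (φ (e * a) * ↑bu⁻¹) = _
    rw [← mul_assoc, ← map_mul, ← mul_assoc, he]
  have hint : IsIntegral R y := by
    refine ⟨p * X, hp.mul monic_X, ?_⟩
    show eval₂ φ y (p * X) = 0
    rw [eval₂_mul, eval₂_X, ← hey, ← mul_assoc, mul_comm _ (φ e), hey]
    exact (mul_eq_zero_of_left h2 y)
  obtain ⟨z, hz⟩ := hIC y hint
  have hza : z * b' = e * a := IsFractionRing.injective R Q (by rw [map_mul]; exact hz ▸ hy)
  -- the part outside the support of `b`
  have hzero : (1 - e) * a = 0 := by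
    rcases Nat.eq_zero_or_pos p.natDegree with hd | hd
    · have h1 := hp.natDegree_eq_zero.mp hd
      rw [h1] at h
      have h10 : (1 : R) = 0 := by simpa using h
      calc (1 - e) * a = 1 * ((1 - e) * a) := (one_mul _).symm
        _ = 0 := by rw [h10, zero_mul]
    · refine IsNilpotent.eq_zero ⟨p.natDegree, ?_⟩
      have h1 : (1 - e) * b = 0 := by rw [sub_mul, one_mul, heb, sub_self]
      have hs : (1 - e) * (p.scaleRoots b).eval a = (1 - e) * a ^ p.natDegree := by
        rw [eval_eq_sum_range, natDegree_scaleRoots, Finset.sum_range_succ, mul_add, Finset.mul_sum,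
          Finset.sum_eq_zero, zero_add]
        · rw [coeff_scaleRoots, Nat.sub_self, pow_zero, mul_one, hp.coeff_natDegree, one_mul]
        · intro i hi
          rw [coeff_scaleRoots]
          obtain ⟨k, hk⟩ := Nat.exists_eq_succ_of_ne_zero (Nat.sub_ne_zero_of_lt (Finset.mem_range.mp hi))
          rw [hk, pow_succ]
          linear_combination (p.coeff i * b ^ k * a ^ i) * h1
      rw [h, mul_zero] at hs
      have h1e : IsIdempotentElem (1 - e) := (show IsIdempotentElem e from he).one_sub
      obtain ⟨k, hk⟩ := Nat.exists_eq_succ_of_ne_zero hd.ne'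
      rw [mul_pow, hk, h1e.pow_succ_eq, ← hk, ← hs]
  refine ⟨z * e, ?_⟩
  rw [hb'] at hza
  linear_combination e * hza - hzero + (z + a) * he

theorem normal_of_IC (hIC : IC R) : EGA4.IsNormalRing R := by
  refine Groth.L06.NormalTensor.isNormalRing_of_idem ?_ fun Q _ a b p hp hab hb => ?_
  · intro a b hab
    obtain ⟨e, b', he, heb, hb', hnz⟩ := exists_support hIC b
    refine ⟨1 - e, (show IsIdempotentElem e from he).one_sub.eq, ?_, by rw [sub_mul, one_mul, heb, sub_self]⟩
    have : e * a = 0 := (mem_nonZeroDivisors_iff_right.mp hnz) _ (by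
      rw [hb']; linear_combination e * hab - a * he)
    linear_combination -this
  · obtain ⟨z, hz⟩ := exists_div hIC hp hab
    exact ⟨1, fun h => (inferInstance : Q.IsPrime).ne_top ((Ideal.eq_top_iff_one _).mpr h), z,
      by rw [one_mul, hz]⟩

/-- finite modules embed into free ones up to torsion -/
theorem exists_coord (M : Type u) [AddCommGroup M] [Module R M] [Module.Finite R M] :
    ∃ (r : ℕ) (f : M →ₗ[R] (Fin r → R)), ∀ x : M, f x = 0 → ∃ t ∈ nonZeroDivisors R, t • x = 0 := by
  classical
  let Q := FractionRing R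
  haveI : Ring.KrullDimLE 0 Q := Ring.KrullDimLE.mk₀ fun P hP => by
    obtain ⟨M', hM', hle⟩ := Ideal.exists_le_maximal P hP.ne_top
    haveI := hM'.isPrime
    have : M' ≤ P := fun z hz => by
      obtain ⟨s, hs, hsz⟩ := Groth.L06.NormalTotalQuot.exists_not_mem_mul_eq_zero finite_minimalPrimes' M' hz
      exact (hP.mem_or_mem (show s * z ∈ P by rw [hsz]; exact P.zero_mem)).resolve_left fun h => hs (hle h)
    rwa [le_antisymm hle this]
  haveI : IsNoetherianRing Q := IsLocalization.isNoetherianRing (nonZeroDivisors R) Q inferInstance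
  haveI : IsArtinianRing Q := isArtinianRing_iff_isNoetherianRing_krullDimLE_zero.mpr ⟨inferInstance, inferInstance⟩
  haveI : IsReduced Q := inferInstanceAs (IsReduced (Localization (nonZeroDivisors R)))
  let ℓ := TensorProduct.mk R Q M 1
  haveI : IsLocalizedModule (nonZeroDivisors R) ℓ :=
    (isLocalizedModule_iff_isBaseChange (nonZeroDivisors R) Q ℓ).mpr (TensorProduct.isBaseChange R M Q)
  haveI : IsSemisimpleRing Q := IsArtinianRing.isSemisimpleRing_of_isReduced Q
  haveI : Module.Projective Q (Q ⊗[R] M) := Module.projective_of_isSemisimpleRing Q (Q ⊗[R] M)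
  obtain ⟨r, g, hg⟩ := Module.Finite.exists_fin' Q (Q ⊗[R] M)
  obtain ⟨σ, hσ⟩ := Module.projective_lifting_property g LinearMap.id hg
  obtain ⟨S, hS⟩ := (inferInstance : Module.Finite R M).fg_top
  obtain ⟨d, hd⟩ := IsLocalization.exist_integer_multiples_of_finset (nonZeroDivisors R)
    ((S ×ˢ (Finset.univ : Finset (Fin r))).image fun i => σ (ℓ i.1) i.2)
  let h : M →ₗ[R] (Fin r → Q) := (d : R) • ((σ.restrictScalars R).comp ℓ)
  have hh : ∀ x, h x ∈ LinearMap.range (((Algebra.linearMap R Q).compLeft (Fin r)) : (Fin r → R) →ₗ[R] (Fin r → Q)) := by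
    intro x
    have hx : x ∈ Submodule.span R (S : Set M) := hS ▸ Submodule.mem_top
    induction hx using Submodule.span_induction with
    | mem y hy =>
      choose w hw using fun i : Fin r => hd (σ (ℓ y) i)
        (Finset.mem_image.mpr ⟨(y, i), Finset.mem_product.mpr ⟨hy, Finset.mem_univ i⟩, rfl⟩)
      exact ⟨w, funext fun i => hw i⟩
    | zero => rw [map_zero]; exact zero_mem _
    | add a b _ _ ha hb => rw [map_add]; exact add_mem ha hb
    | smul c a _ ha => rw [map_smul]; exact Submodule.smul_mem _ c ha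
  have hinjQ : Function.Injective (((Algebra.linearMap R Q).compLeft (Fin r)) : (Fin r → R) →ₗ[R] (Fin r → Q)) :=
    fun a b hab => funext fun i => IsFractionRing.injective R Q (congrFun hab i)
  let f : M →ₗ[R] (Fin r → R) :=
    (LinearEquiv.ofInjective _ hinjQ).symm.toLinearMap.comp (h.codRestrict _ hh)
  refine ⟨r, f, fun x hx => ?_⟩
  have h0 : h x = 0 := by
    have h1 : (LinearEquiv.ofInjective _ hinjQ).symm ⟨h x, hh x⟩ = 0 := hx
    rw [LinearEquiv.map_eq_zero_iff] at h1
    exact congrArg Subtype.val h1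
  obtain ⟨t, ht⟩ := (IsLocalizedModule.eq_zero_iff (nonZeroDivisors R) ℓ (m := (d : R) • x)).mp (by
    have h1 : g (σ (ℓ x)) = ℓ x := LinearMap.congr_fun hσ _
    have h2 : (d : R) • σ (ℓ x) = 0 := h0
    rw [map_smul, ← h1]
    exact (LinearMap.map_smul_of_tower g (d : R) (σ (ℓ x))).symm.trans (by rw [h2, map_zero]))
  refine ⟨t * d, mul_mem t.2 d.2, ?_⟩
  rw [mul_smul]
  exact ht

end

theorem tensor_normal {A : Type u} [CommRing A] (Ah : Type u) [CommRing Ah] [Algebra A Ah] [Module.Flat A Ah]
    (B C : Type u) [CommRing B] [CommRing C] [Algebra A B] [Algebra A C] [Algebra B C] [IsScalarTower A B C]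
    [IsNoetherianRing B] [Module.Finite B C]
    [IsNoetherianRing (Ah ⊗[A] B)] [IsNoetherianRing (Ah ⊗[A] C)]
    (hinj : Function.Injective (algebraMap B C)) (hB : EGA4.IsNormalRing B)
    (hC : EGA4.IsNormalRing (Ah ⊗[A] C)) : EGA4.IsNormalRing (Ah ⊗[A] B) := by
  classical
  let ι : B →ₐ[A] C := IsScalarTower.toAlgHom A B C
  let φ : Ah ⊗[A] B →ₐ[A] Ah ⊗[A] C := Algebra.TensorProduct.map (AlgHom.id A Ah) ι
  have hφ : Function.Injective φ :=
    Module.Flat.lTensor_preserves_injective_linearMap ι.toLinearMap hinj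
  haveI : IsReduced B := Groth.L06.NormalAscent.isReduced_of_isNormalRing hB
  haveI : IsReduced (Ah ⊗[A] C) := Groth.L06.NormalAscent.isReduced_of_isNormalRing hC
  haveI : IsReduced (Ah ⊗[A] B) := isReduced_of_injective φ hφ
  have hICB : IC B := Groth.L06.NormalTotalQuot.integrallyClosedIn_of_normal hB
  have hICC : IC (Ah ⊗[A] C) := Groth.L06.NormalTotalQuot.integrallyClosedIn_of_normal hC
  let N : Submodule B C := Submodule.span B {1}
  obtain ⟨r, f, hf⟩ := exists_coord (R := B) (C ⧸ N)
  let T : Submodule B C := Submodule.torsion B C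
  let F : C →ₗ[B] (Fin r → B) := f.comp N.mkQ
  have hker : ∀ c, F c = 0 → ∃ w : B, ∃ τ ∈ T, c = algebraMap B C w + τ := by
    intro c hc
    obtain ⟨t, ht, htc⟩ := hf _ hc
    rw [← map_smul, Submodule.mkQ_apply, Submodule.Quotient.mk_eq_zero, Submodule.mem_span_singleton] at htc
    obtain ⟨b, hb⟩ := htc
    rw [← Algebra.algebraMap_eq_smul_one, Algebra.smul_def] at hb
    haveI : IsNoetherian B C := isNoetherian_of_isNoetherianRing_of_finite B C
    obtain ⟨p, hp, hpc⟩ := Algebra.IsIntegral.isIntegral (R := B) c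
    have h0 := scaleRoots_eval_eq_zero_of p hinj hpc (a := b) (b := t) (by rw [mul_comm, hb])
    obtain ⟨z, hz⟩ := exists_div hICB hp h0
    refine ⟨z, c - algebraMap B C z, (Submodule.mem_torsion_iff _).mpr ⟨⟨t, ht⟩, ?_⟩, by ring⟩
    show t • (c - algebraMap B C z) = 0
    rw [Algebra.smul_def, mul_sub, ← hb, ← map_mul, mul_comm t z, hz, sub_self]
  obtain ⟨t₀, ht₀, hT⟩ : ∃ t₀ ∈ nonZeroDivisors B, ∀ τ ∈ T, t₀ • τ = 0 := by
    obtain ⟨S, hS⟩ := IsNoetherian.noetherian T
    have : ∀ x ∈ S, ∃ a : nonZeroDivisors B, a • x = 0 := fun x hx =>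
      (Submodule.mem_torsion_iff _).mp (hS.le (Submodule.subset_span hx))
    choose a ha using this
    refine ⟨∏ x ∈ S.attach, (a x.1 x.2 : B), prod_mem fun x _ => (a x.1 x.2).2, fun τ hτ => ?_⟩
    rw [← hS] at hτ
    induction hτ using Submodule.span_induction with
    | mem y hy =>
      rw [← Finset.mul_prod_erase _ _ (Finset.mem_attach S ⟨y, hy⟩), mul_comm, mul_smul,
        show (a y hy : B) • y = 0 from ha y hy, smul_zero]
    | zero => exact smul_zero _
    | add u v _ _ hu hv => rw [smul_add, hu, hv, add_zero]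
    | smul c u _ hu => rw [smul_comm, hu, smul_zero]
  refine normal_of_IC fun y hy => ?_
  obtain ⟨p, hp, hpy⟩ := hy
  obtain ⟨⟨a, s⟩, hs⟩ := IsLocalization.surj (nonZeroDivisors (Ah ⊗[A] B)) y
  have hG := scaleRoots_eval_eq_zero_of p (IsFractionRing.injective _ (FractionRing (Ah ⊗[A] B))) hpy hs
  have hG' : ∃ q : (Ah ⊗[A] C)[X], q.Monic ∧ (q.scaleRoots (φ s)).eval (φ a) = 0 := by
    rcases subsingleton_or_nontrivial (Ah ⊗[A] C) with hC0 | hC0
    · exact ⟨1, monic_one, Subsingleton.elim _ _⟩
    · refine ⟨p.map φ.toRingHom, hp.map _, ?_⟩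
      have h1 := congrArg φ hG
      rw [map_zero] at h1
      rw [← h1]
      have h2 := map_scaleRoots p (s : Ah ⊗[A] B) φ.toRingHom (by rw [hp.leadingCoeff, map_one]; exact one_ne_zero)
      exact (congrArg (Polynomial.eval (φ a)) h2.symm).trans (eval_map_apply φ.toRingHom a)
  obtain ⟨q, hq, hG'⟩ := hG'
  obtain ⟨z, hz⟩ := exists_div hICC hq hG'
  let Fi : Fin r → (Ah ⊗[A] C →ₗ[A] Ah ⊗[A] B) := fun i =>
    (((LinearMap.proj i).comp F).restrictScalars A).lTensor Ah
  have hlin : ∀ i (x : Ah ⊗[A] B) (c : Ah ⊗[A] C), Fi i (φ x * c) = x * Fi i c := by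
    intro i x c
    induction x using TensorProduct.induction_on with
    | zero => simp
    | add x₁ x₂ h₁ h₂ => rw [map_add, add_mul, map_add, h₁, h₂, add_mul]
    | tmul α w =>
      induction c using TensorProduct.induction_on with
      | zero => simp
      | add c₁ c₂ h₁ h₂ => rw [mul_add, map_add, h₁, h₂, map_add, mul_add]
      | tmul β c =>
        simp only [φ, Fi, Algebra.TensorProduct.map_tmul, Algebra.TensorProduct.tmul_mul_tmul,
          AlgHom.id_apply, LinearMap.lTensor_tmul, LinearMap.restrictScalars_apply, LinearMap.comp_apply,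
          LinearMap.proj_apply]
        congr 1
        show F (algebraMap B C w * c) i = w * F c i
        rw [← Algebra.smul_def, map_smul]
        rfl
  have hzero : ∀ i, Fi i z = 0 := fun i => by
    have h1 : Fi i (φ s * z) = 0 := by
      rw [mul_comm, hz, ← mul_one (φ a), hlin]
      have : Fi i 1 = 0 := by
        rw [Algebra.TensorProduct.one_def]
        show (1 : Ah) ⊗ₜ[A] (F 1 i) = 0
        rw [show F 1 = f 0 from congrArg f ((Submodule.Quotient.mk_eq_zero N).mpr (Submodule.mem_span_singleton_self 1)),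
          map_zero, Pi.zero_apply, tmul_zero]
      rw [this, mul_zero]
    rw [hlin] at h1
    exact (mem_nonZeroDivisors_iff_left.mp s.2) _ h1
  obtain ⟨w, τ, hτ, hzw⟩ : ∃ w τ, (∀ x : B, x = t₀ → φ ((1 : Ah) ⊗ₜ x) * τ = 0) ∧ z = φ w + τ := by
    have hex : Function.Exact ((LinearMap.ker (F.restrictScalars A)).subtype.lTensor Ah)
        ((F.restrictScalars A).lTensor Ah) :=
      Module.Flat.lTensor_exact Ah (LinearMap.exact_subtype_ker_map _)
    have h0 : (F.restrictScalars A).lTensor Ah z = 0 := by
      apply (TensorProduct.piRight A A Ah (fun _ : Fin r => B)).injective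
      rw [map_zero]
      funext i
      refine Eq.trans ?_ (hzero i)
      clear hzero hz
      induction z using TensorProduct.induction_on with
      | zero => simp
      | tmul α c => simp [Fi]
      | add z₁ z₂ h₁ h₂ => rw [map_add, map_add, map_add, Pi.add_apply, h₁, h₂]
    obtain ⟨v, hv⟩ := (hex z).mp h0
    rw [← hv]
    clear hz hzero h0 hv
    induction v using TensorProduct.induction_on with
    | zero => exact ⟨0, 0, fun x _ => mul_zero _, by rw [map_zero φ, add_zero]; exact map_zero _⟩
    | tmul α c =>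
      obtain ⟨w, τ, hτ, hc⟩ := hker c.1 c.2
      refine ⟨α ⊗ₜ w, α ⊗ₜ τ, fun x hx => ?_, ?_⟩
      · simp only [φ, Algebra.TensorProduct.map_tmul, Algebra.TensorProduct.tmul_mul_tmul]
        show _ ⊗ₜ[A] (algebraMap B C x * τ) = 0
        rw [← Algebra.smul_def, hx, hT τ hτ, tmul_zero]
      · simp only [φ, Algebra.TensorProduct.map_tmul, LinearMap.lTensor_tmul, Submodule.subtype_apply, hc,
          tmul_add]
        rfl
    | add v₁ v₂ h₁ h₂ =>
      obtain ⟨w₁, τ₁, e₁, d₁⟩ := h₁
      obtain ⟨w₂, τ₂, e₂, d₂⟩ := h₂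
      exact ⟨w₁ + w₂, τ₁ + τ₂, fun x hx => by rw [mul_add, e₁ x hx, e₂ x hx, add_zero],
        by rw [map_add, map_add, d₁, d₂]; abel⟩
  let T₀ : Ah ⊗[A] B := (1 : Ah) ⊗ₜ t₀
  have hws : (s : Ah ⊗[A] B) * w = a := by
    have h1 : T₀ * ((s : Ah ⊗[A] B) * w - a) = 0 := hφ (by
      rw [map_mul, map_sub, map_mul, map_zero, ← hz, hzw]
      linear_combination (-(φ (s : Ah ⊗[A] B))) * hτ t₀ rfl)
    have hT₀ : Function.Injective (fun x : Ah ⊗[A] B => T₀ * x) := by
      have hm : ∀ x : Ah ⊗[A] B, T₀ * x = (LinearMap.mulLeft A t₀).lTensor Ah x := fun x => by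
        induction x using TensorProduct.induction_on with
        | zero => simp
        | tmul α w => simp [T₀]
        | add x₁ x₂ h₁ h₂ => rw [mul_add, h₁, h₂, map_add]
      intro x₁ x₂ hx
      refine Module.Flat.lTensor_preserves_injective_linearMap (LinearMap.mulLeft A t₀)
        (fun u v huv => ?_) ((hm x₁).symm.trans (hx.trans (hm x₂)))
      exact (mem_nonZeroDivisors_iff_left.mp ht₀ (u - v) (by rw [mul_sub]; exact sub_eq_zero.mpr huv) |> sub_eq_zero.mp)
    exact sub_eq_zero.mp (hT₀ (h1.trans (mul_zero T₀).symm))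
  refine ⟨w, (IsLocalization.map_units (FractionRing (Ah ⊗[A] B)) s).mul_left_cancel ?_⟩
  rw [← map_mul, hws, ← hs, mul_comm]

theorem normal_completion (A : Type u) [CommRing A] [IsLocalRing A] [IsNoetherianRing A]
    (B C : Type u) [CommRing B] [CommRing C] [Algebra A B] [Algebra A C] [Algebra B C] [IsScalarTower A B C]
    [Module.Finite A B] [Module.Finite A C] (hinj : Function.Injective (algebraMap B C))
    (hB : EGA4.IsNormalRing B)
    (hC : EGA4.IsNormalRing (AdicCompletion ((maximalIdeal A).map (algebraMap A C)) C)) :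
    EGA4.IsNormalRing (AdicCompletion ((maximalIdeal A).map (algebraMap A B)) B) := by
  let Ah := AdicCompletion (maximalIdeal A) A
  haveI : IsNoetherianRing Ah := Groth.L01.AnalUnram.isNoetherianRing_completion A
  haveI : Module.Flat A Ah := AdicCompletion.flat_of_isNoetherian _
  haveI : IsNoetherianRing B := IsNoetherianRing.of_finite A B
  haveI : Module.Finite B C := Module.Finite.of_restrictScalars_finite A B C
  haveI : IsNoetherianRing (Ah ⊗[A] B) := IsNoetherianRing.of_finite Ah _
  haveI : IsNoetherianRing (Ah ⊗[A] C) := IsNoetherianRing.of_finite Ah _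
  obtain ⟨eB⟩ := nonempty_equiv A B
  obtain ⟨eC⟩ := nonempty_equiv A C
  exact Groth.L06.NormalAscent.isNormalRing_of_ringEquiv eB (tensor_normal Ah B C hinj hB
    (Groth.L06.NormalAscent.isNormalRing_of_ringEquiv eC.symm hC))

end Groth.L07.CplNormalDescent
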