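import Groth.Agent.L07.DPowGen
import Mathlib.RingTheory.DividedPowers.SubDPIdeal
import Mathlib.RingTheory.Flat.Basic
import Mathlib.LinearAlgebra.TensorProduct.Basic
import Mathlib.RingTheory.Ideal.Operations
import Mathlib.RingTheory.PowerSeries.Basic
import Mathlib.Algebra.Group.TypeTags.Basic

/-! Extension of divided powers along flat algebras. -/

namespace Groth.L07.DPGen

universe u v

open Finset TensorProduct PowerSeries

variable {A : Type u} {B : Type v} [CommRing A] [CommRing B] [Algebra A B] {I : Ideal A}

/-- The series of a scalar extension of an exponential. -/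
noncomputable def scaled (γ : DividedPowers I) (a : A) (q : B) : PowerSeries B :=
  rescale q (PowerSeries.map (algebraMap A B) (γ.exp a))

theorem coeff_scaled (γ : DividedPowers I) (a : A) (q : B) (n : ℕ) :
    coeff n (scaled γ a q) = q ^ n * algebraMap A B (γ.dpow n a) := by
  simp [scaled, coeff_rescale, DividedPowers.exp]

theorem scaled_add_left (γ : DividedPowers I) {a a' : A} (ha : a ∈ I) (ha' : a' ∈ I) (q : B) :
    scaled γ (a + a') q = scaled γ a q * scaled γ a' q := by
  simp [scaled, γ.exp_add ha ha']

theorem scaled_add_right (γ : DividedPowers I) {a : A} (ha : a ∈ I) (q q' : B) :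
    scaled γ a (q + q') = scaled γ a q * scaled γ a q' := by
  ext n
  rw [coeff_scaled, PowerSeries.coeff_mul, Commute.add_pow' (Commute.all q q') n, sum_mul]
  refine sum_congr rfl fun k hk => ?_
  rw [mem_antidiagonal] at hk
  rw [coeff_scaled, coeff_scaled, mul_mul_mul_comm, ← map_mul, γ.mul_dpow ha, map_mul, map_natCast,
    hk, nsmul_eq_mul]
  ring

theorem scaled_smul (γ : DividedPowers I) {a : A} (ha : a ∈ I) (r : A) (q : B) :
    scaled γ (r * a) q = scaled γ a (algebraMap A B r * q) := by
  ext n
  rw [coeff_scaled, coeff_scaled, γ.dpow_mul ha, map_mul, map_pow, mul_pow]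
  ring

theorem scaled_mul (γ : DividedPowers I) (a : A) (p q : B) :
    scaled γ a (p * q) = rescale p (scaled γ a q) := by
  ext n
  rw [coeff_rescale, coeff_scaled, coeff_scaled, mul_pow, mul_assoc]

theorem scaled_zero_right (γ : DividedPowers I) {a : A} (ha : a ∈ I) :
    scaled γ a (0 : B) = 1 := by
  ext n
  rw [coeff_scaled, PowerSeries.coeff_one]
  rcases eq_or_ne n 0 with rfl | hn
  · simp [γ.dpow_zero ha]
  · simp [hn]

theorem scaled_zero_left (γ : DividedPowers I) (q : B) : scaled γ 0 q = 1 := by
  ext n
  rw [coeff_scaled, PowerSeries.coeff_one]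
  rcases eq_or_ne n 0 with rfl | hn
  · simp [γ.dpow_zero (zero_mem _)]
  · simp [hn, γ.dpow_eval_zero hn]

/-- The series attached to a tensor. -/
noncomputable def tensorExp (γ : DividedPowers I) : I ⊗[A] B →+ Additive (PowerSeries B) :=
  TensorProduct.liftAddHom
    { toFun := fun a : I =>
        { toFun := fun q : B => Additive.ofMul (scaled γ (a : A) q)
          map_zero' := congrArg Additive.ofMul (scaled_zero_right γ a.2)
          map_add' := fun q q' => congrArg Additive.ofMul (scaled_add_right γ a.2 q q') }
      map_zero' := by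
        refine AddMonoidHom.ext fun q => ?_
        exact congrArg Additive.ofMul (scaled_zero_left γ q)
      map_add' := fun a a' => by
        refine AddMonoidHom.ext fun q => ?_
        exact congrArg Additive.ofMul (scaled_add_left γ a.2 a'.2 q) }
    (fun r a q => by
      show Additive.ofMul (scaled γ ((r • a : I) : A) q) = Additive.ofMul (scaled γ (a : A) (r • q))
      rw [Submodule.coe_smul, smul_eq_mul, scaled_smul γ a.2, Algebra.smul_def])

theorem tensorExp_tmul (γ : DividedPowers I) (a : I) (q : B) :
    (tensorExp γ (a ⊗ₜ[A] q)).toMul = scaled γ (a : A) q := by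
  simp [tensorExp]

/-- The multiplication map of an extended ideal. -/
noncomputable def tensorMap (I : Ideal A) : I ⊗[A] B →ₗ[A] B :=
  (TensorProduct.lid A B).toLinearMap ∘ₗ (Submodule.subtype I).rTensor B

theorem tensorMap_tmul (a : I) (q : B) :
    tensorMap I (a ⊗ₜ[A] q) = algebraMap A B (a : A) * q := by
  simp [tensorMap, Algebra.smul_def]

theorem mem_map_iff_exists (z : B) :
    z ∈ I.map (algebraMap A B) ↔ ∃ t : I ⊗[A] B, tensorMap I t = z := by
  constructor
  · intro hz
    have hz' : z ∈ I • (⊤ : Submodule A B) := by rw [Ideal.smul_top_eq_map]; exact hz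
    refine Submodule.smul_induction_on hz' (fun a ha q _ => ⟨⟨a, ha⟩ ⊗ₜ[A] q, ?_⟩) ?_
    · rw [tensorMap_tmul, Algebra.smul_def]
    · rintro x y ⟨t, rfl⟩ ⟨s, rfl⟩; exact ⟨t + s, map_add _ _ _⟩
  · rintro ⟨t, rfl⟩
    induction t using TensorProduct.induction_on with
    | zero => simp
    | tmul a q => rw [tensorMap_tmul]; exact Ideal.mul_mem_right _ _ (Ideal.mem_map_of_mem _ a.2)
    | add t s h h' => rw [map_add]; exact add_mem h h'

/-- Divided powers extend along flat algebras. -/
theorem exists_extension_of_flat [Module.Flat A B] (γ : DividedPowers I) :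
    ∃ δ : DividedPowers (I.map (algebraMap A B)), γ.IsDPMorphism δ (algebraMap A B) := by
  classical
  have hinj : Function.Injective (tensorMap (B := B) I) :=
    (TensorProduct.lid A B).injective.comp
      (Module.Flat.rTensor_preserves_injective_linearMap _ Subtype.val_injective)
  let d : ℕ → B → B := fun n z => if h : z ∈ I.map (algebraMap A B) then
    coeff n (tensorExp γ ((mem_map_iff_exists z).mp h).choose).toMul else 0
  have hd : ∀ n t, d n (tensorMap I t) = coeff n (tensorExp γ t).toMul := by
    intro n t
    have h : tensorMap I t ∈ I.map (algebraMap A B) := (mem_map_iff_exists _).mpr ⟨t, rfl⟩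
    show dite _ _ _ = _
    rw [dif_pos h, hinj ((mem_map_iff_exists _).mp h).choose_spec]
  have hgen : ∀ n, ∀ a ∈ I, d n (algebraMap A B a) = algebraMap A B (γ.dpow n a) := by
    intro n a ha
    have := hd n ((⟨a, ha⟩ : I) ⊗ₜ[A] (1 : B))
    rwa [tensorMap_tmul, mul_one, tensorExp_tmul, coeff_scaled, one_pow, one_mul] at this
  have hpre : PreDP (I.map (algebraMap A B)) d := by
    refine ⟨?_, ?_, ?_, ?_, ?_⟩
    · intro z hz
      obtain ⟨t, rfl⟩ := (mem_map_iff_exists z).mp hz
      rw [hd]
      clear hz
      induction t using TensorProduct.induction_on with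
      | zero => simp
      | tmul a q => rw [tensorExp_tmul, coeff_scaled, γ.dpow_zero a.2]; simp
      | add t s h h' =>
        rw [map_add (tensorExp γ), toMul_add, PowerSeries.coeff_mul, Finset.Nat.antidiagonal_zero, sum_singleton,
          h, h', mul_one]
    · intro z hz
      obtain ⟨t, rfl⟩ := (mem_map_iff_exists z).mp hz
      rw [hd]
      clear hz
      have h0 : ∀ s : I ⊗[A] B, coeff 0 (tensorExp γ s).toMul = 1 := by
        intro s
        induction s using TensorProduct.induction_on with
        | zero => simp
        | tmul a q => rw [tensorExp_tmul, coeff_scaled, γ.dpow_zero a.2]; simp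
        | add t s h h' =>
          rw [map_add (tensorExp γ), toMul_add, PowerSeries.coeff_mul, Finset.Nat.antidiagonal_zero,
            sum_singleton, h, h', mul_one]
      induction t using TensorProduct.induction_on with
      | zero => simp
      | tmul a q =>
        rw [tensorExp_tmul, coeff_scaled, γ.dpow_one a.2, tensorMap_tmul, pow_one, mul_comm]
      | add t s h h' =>
        rw [map_add (tensorExp γ), map_add (tensorMap I), toMul_add, PowerSeries.coeff_mul,
          Finset.Nat.sum_antidiagonal_eq_sum_range_succ_mk, sum_range_succ, sum_range_one]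
        simp only [Nat.sub_zero, Nat.sub_self, h, h', h0]
        ring
    · intro n z hn hz
      obtain ⟨t, rfl⟩ := (mem_map_iff_exists z).mp hz
      rw [hd]
      clear hz
      induction t using TensorProduct.induction_on generalizing n with
      | zero => simp [hn]
      | tmul a q =>
        rw [tensorExp_tmul, coeff_scaled]
        exact Ideal.mul_mem_left _ _ (Ideal.mem_map_of_mem _ (γ.dpow_mem hn a.2))
      | add t s h h' =>
        rw [map_add (tensorExp γ), toMul_add, PowerSeries.coeff_mul]
        refine sum_mem ?_
        rintro ⟨i, j⟩ hij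
        rw [mem_antidiagonal] at hij
        rcases eq_or_ne i 0 with rfl | hi
        · exact Ideal.mul_mem_left _ _ (h' j (by omega))
        · exact Ideal.mul_mem_right _ _ (h i hi)
    · intro n z w hz hw
      obtain ⟨t, rfl⟩ := (mem_map_iff_exists z).mp hz
      obtain ⟨s, rfl⟩ := (mem_map_iff_exists w).mp hw
      rw [← map_add, hd, map_add, toMul_add, PowerSeries.coeff_mul]
      exact sum_congr rfl fun k _ => by rw [hd, hd]
    · intro n p z hz
      obtain ⟨t, rfl⟩ := (mem_map_iff_exists z).mp hz
      have hmul : ∀ s : I ⊗[A] B, ∃ s' : I ⊗[A] B, tensorMap I s' = p * tensorMap I s ∧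
          (tensorExp γ s').toMul = rescale p (tensorExp γ s).toMul := by
        intro s
        induction s using TensorProduct.induction_on with
        | zero => exact ⟨0, by simp, by simp⟩
        | tmul a q =>
          exact ⟨a ⊗ₜ[A] (p * q), by rw [tensorMap_tmul, tensorMap_tmul]; ring,
            by rw [tensorExp_tmul, tensorExp_tmul, scaled_mul]⟩
        | add x y hx hy =>
          obtain ⟨x', hx1, hx2⟩ := hx
          obtain ⟨y', hy1, hy2⟩ := hy
          exact ⟨x' + y', by rw [map_add, map_add, hx1, hy1, mul_add],
            by rw [map_add (tensorExp γ), map_add (tensorExp γ), toMul_add, toMul_add, hx2, hy2, map_mul]⟩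
      obtain ⟨t', ht', ht''⟩ := hmul t
      rw [← ht', hd, ht'', coeff_rescale, hd]
  have hgood : ∀ z ∈ algebraMap A B '' (I : Set A), Good d z := by
    rintro _ ⟨a, ha, rfl⟩
    refine ⟨fun m n => ?_, fun m n hn => ?_⟩
    · rw [hgen m a ha, hgen n a ha, hgen (m + n) a ha, ← map_mul, γ.mul_dpow ha, map_mul,
        map_natCast]
    · rw [hgen n a ha, hgen m _ (γ.dpow_mem hn ha), hgen (m * n) a ha, γ.dpow_comp hn ha, map_mul,
        map_natCast]
  obtain ⟨δ, hδ⟩ := exists_dividedPowers hpre (fun n z hz => dif_neg hz) rfl hgood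
  exact ⟨δ, le_rfl, fun {n} a ha => by rw [hδ]; exact hgen n a ha⟩

end Groth.L07.DPGen
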