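import Mathlib.RingTheory.DividedPowers.DPMorphism
import Mathlib.RingTheory.DividedPowers.RatAlgebra
import Mathlib.Algebra.MvPolynomial.Basic
import Mathlib.Algebra.MvPolynomial.CommRing
import Mathlib.Data.Rat.Cast.CharZero
import Mathlib.LinearAlgebra.Finsupp.LinearCombination
import Mathlib.RingTheory.Ideal.Prod
import Mathlib.Tactic.LinearCombination
import Mathlib.Tactic.Ring

/-! Divided powers from axioms checked on generators, and sums of divided power ideals. -/

namespace Groth.L07.DPGen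

universe u

open Finset

/-- The axioms of divided powers which do not involve a product or a composite of two operations. -/
structure PreDP {A : Type u} [CommRing A] (I : Ideal A) (d : ℕ → A → A) : Prop where
  zero : ∀ x ∈ I, d 0 x = 1
  one : ∀ x ∈ I, d 1 x = x
  mem : ∀ (n : ℕ) (x : A), n ≠ 0 → x ∈ I → d n x ∈ I
  add : ∀ (n : ℕ) (x y : A), x ∈ I → y ∈ I →
    d n (x + y) = (antidiagonal n).sum fun k => d k.1 x * d k.2 y
  mul : ∀ (n : ℕ) (a x : A), x ∈ I → d n (a * x) = a ^ n * d n x

/-- The product and composition rules at one element. -/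
structure Good {A : Type u} [CommRing A] (d : ℕ → A → A) (x : A) : Prop where
  mul_dpow : ∀ m n : ℕ, d m x * d n x = (m + n).choose m * d (m + n) x
  comp : ∀ m n : ℕ, n ≠ 0 → d m (d n x) = Nat.uniformBell m n * d (m * n) x

variable {A : Type u} [CommRing A] {I : Ideal A} {d : ℕ → A → A}

/-- The natural span of the products of divided powers of two elements. -/
def mon (d : ℕ → A → A) (x y : A) : Submodule ℕ A :=
  Submodule.span ℕ (Set.range fun p : ℕ × ℕ => d p.1 x * d p.2 y)

theorem mem_mon (x y : A) (a b : ℕ) : d a x * d b y ∈ mon d x y :=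
  Submodule.subset_span ⟨(a, b), rfl⟩

theorem natCast_mul_mem_mon {x y z : A} (c : ℕ) (hz : z ∈ mon d x y) :
    (c : A) * z ∈ mon d x y := by
  rw [← nsmul_eq_mul]; exact nsmul_mem hz c

theorem mon_mul_mem {x y z w : A} (hx : Good d x) (hy : Good d y) (hz : z ∈ mon d x y)
    (hw : w ∈ mon d x y) : z * w ∈ mon d x y := by
  induction hz using Submodule.span_induction with
  | mem z hz =>
    induction hw using Submodule.span_induction with
    | mem w hw =>
      obtain ⟨⟨a, b⟩, rfl⟩ := hz
      obtain ⟨⟨c, e⟩, rfl⟩ := hw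
      show d a x * d b y * (d c x * d e y) ∈ _
      rw [mul_mul_mul_comm, hx.mul_dpow, hy.mul_dpow, mul_mul_mul_comm, ← Nat.cast_mul]
      exact natCast_mul_mem_mon _ (mem_mon _ _ _ _)
    | zero => simp
    | add _ _ _ _ h h' => rw [mul_add]; exact add_mem h h'
    | smul c _ _ h => rw [mul_smul_comm]; exact nsmul_mem h c
  | zero => simp
  | add _ _ _ _ h h' => rw [add_mul]; exact add_mem h h'
  | smul c _ _ h => rw [smul_mul_assoc]; exact nsmul_mem h c

theorem one_mem_mon (hd : PreDP I d) {x y : A} (hxI : x ∈ I) (hyI : y ∈ I) :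
    (1 : A) ∈ mon d x y := by
  have := mem_mon (d := d) x y 0 0
  rwa [hd.zero x hxI, hd.zero y hyI, mul_one] at this

theorem pow_mem_mon (hd : PreDP I d) {x y z : A} (hx : Good d x) (hy : Good d y) (hxI : x ∈ I)
    (hyI : y ∈ I) (hz : z ∈ mon d x y) (k : ℕ) : z ^ k ∈ mon d x y := by
  induction k with
  | zero => simpa using one_mem_mon hd hxI hyI
  | succ k ih => rw [pow_succ]; exact mon_mul_mem hx hy ih hz

theorem dpow_add_mem_mon (hd : PreDP I d) {x y : A} (hxI : x ∈ I) (hyI : y ∈ I) (n : ℕ) :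
    d n (x + y) ∈ mon d x y := by
  rw [hd.add n x y hxI hyI]
  exact sum_mem fun k _ => mem_mon _ _ _ _

theorem dpow_comp_add_mem_mon (hd : PreDP I d) {x y : A} (hx : Good d x) (hy : Good d y)
    (hxI : x ∈ I) (hyI : y ∈ I) (m n : ℕ) (hn : n ≠ 0) : d m (d n (x + y)) ∈ mon d x y := by
  suffices h : d n (x + y) ∈ I ∧ ∀ k, d k (d n (x + y)) ∈ mon d x y from h.2 m
  rw [hd.add n x y hxI hyI]
  refine sum_induction (fun k : ℕ × ℕ => d k.1 x * d k.2 y)
    (fun z => z ∈ I ∧ ∀ k, d k z ∈ mon d x y) ?_ ?_ ?_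
  · rintro z w ⟨hz, hz'⟩ ⟨hw, hw'⟩
    refine ⟨add_mem hz hw, fun k => ?_⟩
    rw [hd.add k z w hz hw]
    exact sum_mem fun j _ => mon_mul_mem hx hy (hz' _) (hw' _)
  · refine ⟨zero_mem _, fun k => ?_⟩
    rcases eq_or_ne k 0 with rfl | hk
    · rw [hd.zero 0 (zero_mem _)]; exact one_mem_mon hd hxI hyI
    · have h0 := hd.mul k 0 x hxI
      rw [zero_mul, zero_pow hk, zero_mul] at h0
      rw [h0]; exact zero_mem _
  · rintro ⟨a, b⟩ hab
    rw [mem_antidiagonal] at hab
    rcases eq_or_ne b 0 with rfl | hb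
    · have ha : a ≠ 0 := by simp only [add_zero] at hab; rwa [hab]
      simp only [hd.zero y hyI, mul_one]
      refine ⟨hd.mem a x ha hxI, fun k => ?_⟩
      rw [hx.comp k a ha, ← mul_one (d (k * a) x), ← hd.zero y hyI]
      exact natCast_mul_mem_mon _ (mem_mon _ _ _ _)
    · have hbI : d b y ∈ I := hd.mem b y hb hyI
      refine ⟨I.mul_mem_left _ hbI, fun k => ?_⟩
      rw [hd.mul k _ _ hbI, hy.comp k b hb]
      refine mon_mul_mem hx hy (pow_mem_mon hd hx hy hxI hyI ?_ k) (natCast_mul_mem_mon _ ?_)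
      · rw [← mul_one (d a x), ← hd.zero y hyI]; exact mem_mon _ _ _ _
      · rw [← one_mul (d (k * b) y), ← hd.zero x hxI]; exact mem_mon _ _ _ _

/-- The polynomial ring used as a universal example. -/
abbrev U : Type := MvPolynomial (Fin 2) ℚ

/-- The ideal of the variables. -/
noncomputable def J : Ideal U := Ideal.span (Set.range MvPolynomial.X)

open Classical in
/-- Divided powers of the universal example. -/
noncomputable def dU : DividedPowers J := DividedPowers.RatAlgebra.dividedPowers J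

theorem X_mem_J (i : Fin 2) : (MvPolynomial.X i : U) ∈ J := Ideal.subset_span ⟨i, rfl⟩

open Classical in
theorem dU_X (i : Fin 2) (a : ℕ) :
    dU.dpow a (MvPolynomial.X i) = MvPolynomial.monomial (Finsupp.single i a) ((a.factorial : ℚ))⁻¹ := by
  rw [DividedPowers.RatAlgebra.dpow_eq_inv_fact_smul J dU (X_mem_J i), Ring.inverse_eq_inv',
    MvPolynomial.X_pow_eq_monomial, MvPolynomial.smul_monomial, smul_eq_mul, mul_one]

theorem monU_injective : Function.Injective (Finsupp.linearCombination ℕ fun p : ℕ × ℕ =>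
    dU.dpow p.1 (MvPolynomial.X 0) * dU.dpow p.2 (MvPolynomial.X 1)) := by
  intro c c' h
  ext ⟨a, b⟩
  have hcoeff : ∀ e : ℕ × ℕ →₀ ℕ, MvPolynomial.coeff (Finsupp.single 0 a + Finsupp.single 1 b)
      (Finsupp.linearCombination ℕ (fun p : ℕ × ℕ =>
        dU.dpow p.1 (MvPolynomial.X 0) * dU.dpow p.2 (MvPolynomial.X 1)) e) =
      (e (a, b) : ℚ) * ((a.factorial : ℚ)⁻¹ * (b.factorial : ℚ)⁻¹) := by
    intro e
    induction e using Finsupp.induction_linear with
    | zero => simp
    | add f g hf hg => simp [map_add, MvPolynomial.coeff_add, hf, hg, add_mul]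
    | single p c =>
      rw [Finsupp.linearCombination_single, dU_X, dU_X, MvPolynomial.monomial_mul,
        MvPolynomial.smul_monomial, MvPolynomial.coeff_monomial, Finsupp.single_apply]
      by_cases hp : p = (a, b)
      · subst hp
        simp [nsmul_eq_mul]
      · rw [if_neg, if_neg hp]
        · simp
        · intro he
          apply hp
          have h0 := DFunLike.congr_fun he 0
          have h1 := DFunLike.congr_fun he 1
          simp at h0 h1
          exact Prod.ext h0 h1
  have := hcoeff c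
  rw [h, hcoeff c'] at this
  have hne : ((a.factorial : ℚ)⁻¹ * (b.factorial : ℚ)⁻¹) ≠ 0 :=
    mul_ne_zero (inv_ne_zero (Nat.cast_ne_zero.mpr a.factorial_ne_zero))
      (inv_ne_zero (Nat.cast_ne_zero.mpr b.factorial_ne_zero))
  exact_mod_cast (mul_right_cancel₀ hne this).symm

theorem mem_prodJ {z : A × U} (h : z.1 ∈ I ∧ z.2 ∈ J) : z ∈ I.prod J := h

theorem mem_fst {z : A × U} (h : z ∈ I.prod J) : z.1 ∈ I := h.1

theorem mem_snd {z : A × U} (h : z ∈ I.prod J) : z.2 ∈ J := h.2

/-- The product of a system with the universal example. -/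
noncomputable def dProd (d : ℕ → A → A) : ℕ → A × U → A × U :=
  fun n z => (d n z.1, dU.dpow n z.2)

theorem preDP_prod (hd : PreDP I d) : PreDP (I.prod J) (dProd d) where
  zero z hz := Prod.ext (hd.zero _ (mem_fst hz)) (dU.dpow_zero (mem_snd hz))
  one z hz := Prod.ext (hd.one _ (mem_fst hz)) (dU.dpow_one (mem_snd hz))
  mem n z hn hz := mem_prodJ
    ⟨hd.mem n _ hn (mem_fst hz), dU.dpow_mem hn (mem_snd hz)⟩
  add n z w hz hw := Prod.ext
    (by simpa [dProd, Prod.fst_sum] using
      hd.add n _ _ (mem_fst hz) (mem_fst hw))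
    (by simpa [dProd, Prod.snd_sum] using
      dU.dpow_add (n := n) (mem_snd hz) (mem_snd hw))
  mul n a z hz := Prod.ext (hd.mul n _ _ (mem_fst hz))
    (dU.dpow_mul (mem_snd hz))

theorem good_prod {x : A} (hx : Good d x) (i : Fin 2) :
    Good (dProd d) (x, (MvPolynomial.X i : U)) where
  mul_dpow m n := Prod.ext (by simpa [dProd] using hx.mul_dpow m n)
    (by simpa [dProd] using dU.mul_dpow (m := m) (n := n) (X_mem_J i))
  comp m n hn := Prod.ext (by simpa [dProd] using hx.comp m n hn)
    (by simpa [dProd] using dU.dpow_comp (m := m) hn (X_mem_J i))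

theorem fst_eq_of_snd_eq {x y : A} {z w : A × U}
    (hz : z ∈ mon (dProd d) (x, MvPolynomial.X 0) (y, MvPolynomial.X 1))
    (hw : w ∈ mon (dProd d) (x, MvPolynomial.X 0) (y, MvPolynomial.X 1))
    (h : z.2 = w.2) : z.1 = w.1 := by
  obtain ⟨c, rfl⟩ := Finsupp.mem_span_range_iff_exists_finsupp.mp hz
  obtain ⟨c', rfl⟩ := Finsupp.mem_span_range_iff_exists_finsupp.mp hw
  suffices c = c' by subst this; rfl
  apply monU_injective
  simpa [Finsupp.linearCombination_apply, Finsupp.sum, Prod.snd_sum, dProd] using h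

theorem Good.add (hd : PreDP I d) {x y : A} (hx : Good d x) (hy : Good d y) (hxI : x ∈ I)
    (hyI : y ∈ I) : Good d (x + y) := by
  have hp := preDP_prod hd
  have hx' := good_prod hx 0
  have hy' := good_prod hy 1
  have hxI' : ((x, MvPolynomial.X 0) : A × U) ∈ I.prod J := mem_prodJ ⟨hxI, X_mem_J 0⟩
  have hyI' : ((y, MvPolynomial.X 1) : A × U) ∈ I.prod J := mem_prodJ ⟨hyI, X_mem_J 1⟩
  have hsum := (mem_snd (add_mem hxI' hyI'))
  constructor
  · intro m n
    have h := fst_eq_of_snd_eq (mon_mul_mem hx' hy' (dpow_add_mem_mon hp hxI' hyI' m)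
        (dpow_add_mem_mon hp hxI' hyI' n))
      (natCast_mul_mem_mon ((m + n).choose m) (dpow_add_mem_mon hp hxI' hyI' (m + n)))
      (by simpa [dProd] using dU.mul_dpow hsum)
    simpa [dProd] using h
  · intro m n hn
    have h := fst_eq_of_snd_eq (dpow_comp_add_mem_mon hp hx' hy' hxI' hyI' m n hn)
      (natCast_mul_mem_mon (Nat.uniformBell m n) (dpow_add_mem_mon hp hxI' hyI' (m * n)))
      (by simpa [dProd] using dU.dpow_comp hn hsum)
    simpa [dProd] using h

theorem Good.zero (hd : PreDP I d) : Good d (0 : A) := by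
  have h0 : ∀ k, k ≠ 0 → d k (0 : A) = 0 := by
    intro k hk
    have := hd.mul k 0 0 (zero_mem _)
    rwa [zero_mul, zero_pow hk, zero_mul] at this
  constructor
  · intro m n
    rcases eq_or_ne m 0 with rfl | hm
    · simp [hd.zero 0 (zero_mem _)]
    · rw [h0 m hm, h0 (m + n) (by omega)]; simp
  · intro m n hn
    rw [h0 n hn]
    rcases eq_or_ne m 0 with rfl | hm
    · simp [hd.zero 0 (zero_mem _), Nat.uniformBell_zero_left]
    · rw [h0 m hm, h0 (m * n) (mul_ne_zero hm hn)]; simp

theorem Good.smul (hd : PreDP I d) {x : A} (hx : Good d x) (hxI : x ∈ I) (a : A) :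
    Good d (a * x) := by
  constructor
  · intro m n
    rw [hd.mul m a x hxI, hd.mul n a x hxI, hd.mul (m + n) a x hxI, mul_mul_mul_comm,
      hx.mul_dpow, pow_add]
    ring
  · intro m n hn
    rw [hd.mul n a x hxI, hd.mul m _ _ (hd.mem n x hn hxI), hx.comp m n hn,
      hd.mul (m * n) a x hxI, ← pow_mul, mul_comm n m]
    ring

/-- Operations with the elementary axioms satisfy all axioms if they do so on generators. -/
theorem exists_dividedPowers (hd : PreDP I d) (hnull : ∀ (n : ℕ) (x : A), x ∉ I → d n x = 0)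
    {S : Set A} (hS : Ideal.span S = I) (hgood : ∀ x ∈ S, Good d x) :
    ∃ γ : DividedPowers I, γ.dpow = d := by
  have hall : ∀ x ∈ I, Good d x := by
    intro x hx
    rw [← hS] at hx
    induction hx using Submodule.span_induction with
    | mem x hx => exact hgood x hx
    | zero => exact Good.zero hd
    | add x y hx hy h h' => exact h.add hd h' (hS ▸ hx) (hS ▸ hy)
    | smul a x hx h => exact h.smul hd (hS ▸ hx) a
  exact ⟨{
    dpow := d
    dpow_null := fun h => hnull _ _ h
    dpow_zero := fun h => hd.zero _ h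
    dpow_one := fun h => hd.one _ h
    dpow_mem := fun hn h => hd.mem _ _ hn h
    dpow_add := fun h h' => hd.add _ _ _ h h'
    dpow_mul := fun h => hd.mul _ _ _ h
    mul_dpow := fun h => (hall _ h).mul_dpow _ _
    dpow_comp := fun hn h => (hall _ h).comp _ _ hn }, rfl⟩

/-- The candidate operation on a sum of two ideals. -/
noncomputable def supVal {I J : Ideal A} (γ : DividedPowers I) (δ : DividedPowers J) (n : ℕ)
    (x y : A) : A :=
  (antidiagonal n).sum fun k => γ.dpow k.1 x * δ.dpow k.2 y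

theorem supVal_congr {I J : Ideal A} (γ : DividedPowers I) (δ : DividedPowers J)
    (h : ∀ (n : ℕ) (x : A), x ∈ I ⊓ J → γ.dpow n x = δ.dpow n x) {x y x' y' : A}
    (hx : x ∈ I) (hy : y ∈ J) (hx' : x' ∈ I) (hy' : y' ∈ J) (he : x + y = x' + y') (n : ℕ) :
    supVal γ δ n x y = supVal γ δ n x' y' := by
  have hz : x - x' ∈ I ⊓ J := by
    refine ⟨sub_mem hx hx', ?_⟩
    have : x - x' = y' - y := by linear_combination he
    rw [this]; exact sub_mem hy' hy
  have hmk : ∀ (u v : A) (m : ℕ), supVal γ δ m u v = PowerSeries.coeff m (γ.exp u * δ.exp v) := by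
    intro u v m
    simp [supVal, PowerSeries.coeff_mul, DividedPowers.exp]
  rw [hmk, hmk, show γ.exp x = γ.exp (x' + (x - x')) by rw [add_sub_cancel],
    γ.exp_add hx' hz.1, show δ.exp y' = δ.exp ((x - x') + y) by
      congr 1; linear_combination (-1 : A) * he, δ.exp_add hz.2 hy,
    show γ.exp (x - x') = δ.exp (x - x') from PowerSeries.ext fun m => by
      simpa [DividedPowers.exp] using h m _ hz, mul_assoc]

theorem supVal_left {I J : Ideal A} (γ : DividedPowers I) (δ : DividedPowers J) {x : A}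
    (hx : x ∈ I) (n : ℕ) : supVal γ δ n x 0 = γ.dpow n x := by
  rw [supVal, sum_eq_single (n, 0)]
  · simp [δ.dpow_zero (zero_mem _)]
  · rintro ⟨a, b⟩ hab hne
    have hb : b ≠ 0 := by rintro rfl; simp [mem_antidiagonal] at hab; exact hne (by rw [hab])
    rw [δ.dpow_eval_zero hb, mul_zero]
  · simp [mem_antidiagonal]

theorem supVal_right {I J : Ideal A} (γ : DividedPowers I) (δ : DividedPowers J) {y : A}
    (hy : y ∈ J) (n : ℕ) : supVal γ δ n 0 y = δ.dpow n y := by
  rw [supVal, sum_eq_single (0, n)]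
  · simp [γ.dpow_zero (zero_mem _)]
  · rintro ⟨a, b⟩ hab hne
    have hb : a ≠ 0 := by rintro rfl; simp [mem_antidiagonal] at hab; exact hne (by rw [hab])
    rw [γ.dpow_eval_zero hb, zero_mul]
  · simp [mem_antidiagonal]

theorem exp_supVal {I J : Ideal A} (γ : DividedPowers I) (δ : DividedPowers J) (x y : A) :
    PowerSeries.mk (fun n => supVal γ δ n x y) = γ.exp x * δ.exp y := by
  ext n; simp [supVal, PowerSeries.coeff_mul, DividedPowers.exp]

/-- Divided powers on a sum of ideals. -/
theorem existsUnique_sup {I J : Ideal A} (γ : DividedPowers I) (δ : DividedPowers J)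
    (h : ∀ (n : ℕ) (x : A), x ∈ I ⊓ J → γ.dpow n x = δ.dpow n x) :
    ∃! ε : DividedPowers (I ⊔ J),
      (∀ (n : ℕ) (x : A), x ∈ I → ε.dpow n x = γ.dpow n x) ∧
        (∀ (n : ℕ) (x : A), x ∈ J → ε.dpow n x = δ.dpow n x) := by
  classical
  let e : ℕ → A → A := fun n z =>
    if hz : z ∈ I ⊔ J then supVal γ δ n (Submodule.mem_sup.mp hz).choose
      (Submodule.mem_sup.mp hz).choose_spec.2.choose else 0
  have he : ∀ (n : ℕ) {x y : A}, x ∈ I → y ∈ J → e n (x + y) = supVal γ δ n x y := by
    intro n x y hx hy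
    have hz : x + y ∈ I ⊔ J := Submodule.add_mem_sup hx hy
    show dite _ _ _ = _
    rw [dif_pos hz]
    exact supVal_congr γ δ h (Submodule.mem_sup.mp hz).choose_spec.1
      (Submodule.mem_sup.mp hz).choose_spec.2.choose_spec.1 hx hy
      (Submodule.mem_sup.mp hz).choose_spec.2.choose_spec.2 n
  have heI : ∀ (n : ℕ) {x : A}, x ∈ I → e n x = γ.dpow n x := by
    intro n x hx
    rw [← add_zero x, he n hx (zero_mem _), supVal_left γ δ hx, add_zero]
  have heJ : ∀ (n : ℕ) {y : A}, y ∈ J → e n y = δ.dpow n y := by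
    intro n y hy
    rw [← zero_add y, he n (zero_mem _) hy, supVal_right γ δ hy, zero_add]
  have hpre : PreDP (I ⊔ J) e := by
    refine ⟨?_, ?_, ?_, ?_, ?_⟩
    · intro z hz
      obtain ⟨x, hx, y, hy, rfl⟩ := Submodule.mem_sup.mp hz
      rw [he 0 hx hy]
      simp [supVal, γ.dpow_zero hx, δ.dpow_zero hy]
    · intro z hz
      obtain ⟨x, hx, y, hy, rfl⟩ := Submodule.mem_sup.mp hz
      rw [he 1 hx hy]
      simp [supVal, Finset.Nat.antidiagonal_succ, γ.dpow_zero hx, δ.dpow_zero hy, γ.dpow_one hx,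
        δ.dpow_one hy, add_comm]
    · intro n z hn hz
      obtain ⟨x, hx, y, hy, rfl⟩ := Submodule.mem_sup.mp hz
      rw [he n hx hy]
      refine sum_mem ?_
      rintro ⟨a, b⟩ hab
      rw [mem_antidiagonal] at hab
      rcases eq_or_ne a 0 with rfl | ha
      · exact Submodule.mem_sup_right (J.mul_mem_left _ (δ.dpow_mem (by omega) hy))
      · exact Submodule.mem_sup_left (I.mul_mem_right _ (γ.dpow_mem ha hx))
    · intro n z w hz hw
      obtain ⟨x, hx, y, hy, rfl⟩ := Submodule.mem_sup.mp hz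
      obtain ⟨x', hx', y', hy', rfl⟩ := Submodule.mem_sup.mp hw
      rw [add_add_add_comm, he n (add_mem hx hx') (add_mem hy hy')]
      have hs : ∀ k : ℕ × ℕ, e k.1 (x + y) * e k.2 (x' + y') =
          supVal γ δ k.1 x y * supVal γ δ k.2 x' y' := fun k => by rw [he _ hx hy, he _ hx' hy']
      simp only [hs]
      have := congrArg (PowerSeries.coeff n) (show
        PowerSeries.mk (fun m => supVal γ δ m (x + x') (y + y')) =
          PowerSeries.mk (fun m => supVal γ δ m x y) *
            PowerSeries.mk (fun m => supVal γ δ m x' y') by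
        rw [exp_supVal, exp_supVal, exp_supVal, γ.exp_add hx hx', δ.exp_add hy hy']; ring)
      simpa [PowerSeries.coeff_mul] using this
    · intro n a z hz
      obtain ⟨x, hx, y, hy, rfl⟩ := Submodule.mem_sup.mp hz
      rw [mul_add, he n (I.mul_mem_left a hx) (J.mul_mem_left a hy), he n hx hy, supVal, supVal,
        Finset.mul_sum]
      refine sum_congr rfl ?_
      rintro ⟨i, j⟩ hij
      rw [mem_antidiagonal] at hij
      simp only
      rw [γ.dpow_mul hx, δ.dpow_mul hy, ← hij, pow_add]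
      ring
  have hgood : ∀ z ∈ (I : Set A) ∪ (J : Set A), Good e z := by
    rintro z (hz | hz)
    · refine ⟨fun m n => ?_, fun m n hn => ?_⟩
      · rw [heI m hz, heI n hz, heI (m + n) hz, γ.mul_dpow hz]
      · rw [heI n hz, heI m (γ.dpow_mem hn hz), heI (m * n) hz, γ.dpow_comp hn hz]
    · refine ⟨fun m n => ?_, fun m n hn => ?_⟩
      · rw [heJ m hz, heJ n hz, heJ (m + n) hz, δ.mul_dpow hz]
      · rw [heJ n hz, heJ m (δ.dpow_mem hn hz), heJ (m * n) hz, δ.dpow_comp hn hz]
  have hspan : Ideal.span ((I : Set A) ∪ (J : Set A)) = I ⊔ J := by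
    rw [Ideal.span_union, Ideal.span_eq, Ideal.span_eq]
  obtain ⟨ε, hε⟩ := exists_dividedPowers hpre (fun n z hz => dif_neg hz) hspan hgood
  refine ⟨ε, ⟨fun n x hx => by rw [hε]; exact heI n hx, fun n x hx => by rw [hε]; exact heJ n hx⟩,
    fun ε' hε' => ?_⟩
  refine DividedPowers.dpow_eq_from_gens ε ε' hspan.symm ?_
  rintro n z (hz | hz)
  · rw [hε, heI n hz, hε'.1 n z hz]
  · rw [hε, heJ n hz, hε'.2 n z hz]

end Groth.L07.DPGen
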