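import Groth.Agent.L07.DPowGen
import Mathlib.Data.Nat.Choose.Lucas
import Mathlib.Algebra.GroupWithZero.Units.Basic
import Mathlib.Combinatorics.Enumerative.Bell
import Mathlib.Data.Nat.Prime.Factorial
import Mathlib.Algebra.CharP.Algebra
import Mathlib.Tactic.LinearCombination

/-! Divided powers from a `p`-th divided power, when the integers prime to `p` are invertible. -/

namespace Groth.L07.DPGen

universe u v

open Finset
open MvPolynomial (X)

variable {A : Type u} [CommRing A] {B : Type v} [CommRing B]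

instance : CharZero U :=
  charZero_of_injective_algebraMap (MvPolynomial.C_injective (Fin 2) ℚ)

/-- The inverse of a natural number. -/
noncomputable def iv (A : Type u) [CommRing A] (k : ℕ) : A := Ring.inverse (k : A)

theorem natCast_mul_iv {k : ℕ} (h : IsUnit (k : A)) : (k : A) * iv A k = 1 :=
  Ring.mul_inverse_cancel _ h

theorem iv_one : iv A 1 = 1 := by simp [iv]

theorem map_iv (f : A →+* B) {k : ℕ} (h : IsUnit (k : A)) : f (iv A k) = iv B k := by
  have h' : IsUnit (k : B) := by simpa using h.map f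
  refine h'.mul_left_cancel ?_
  rw [natCast_mul_iv h', ← map_natCast f, ← map_mul, natCast_mul_iv h, map_one]

/-- A candidate `p`-th divided power. -/
structure Sys (p : ℕ) (I : Ideal A) (d : A → A) : Prop where
  prime : p.Prime
  unit : ∀ n : ℕ, ¬ p ∣ n → IsUnit (n : A)
  mem : ∀ x ∈ I, d x ∈ I
  fac : ∀ x ∈ I, (p.factorial : A) * d x = x ^ p
  mul : ∀ a x : A, x ∈ I → d (a * x) = a ^ p * d x
  add : ∀ x ∈ I, ∀ y ∈ I, d (x + y) = d x + d y +
    ((antidiagonal p).filter fun k => 0 < k.1 ∧ 0 < k.2).sum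
      fun k => iv A (k.1.factorial * k.2.factorial) * x ^ k.1 * y ^ k.2

/-- The divided powers generated by a `p`-th one. -/
noncomputable def gam (p : ℕ) (d : A → A) (n : ℕ) (x : A) : A :=
  if h : 2 ≤ p ∧ p ≤ n then
    iv A (n.choose (n % p) * Nat.uniformBell (n / p) p) *
      (iv A (n % p).factorial * x ^ (n % p) * gam p d (n / p) (d x))
  else iv A n.factorial * x ^ n
termination_by n
decreasing_by exact Nat.div_lt_self (by omega) h.1

variable {p : ℕ} {I : Ideal A} {d : A → A}

theorem ndvd_factorial (hp : p.Prime) {r : ℕ} (h : r < p) : ¬ p ∣ r.factorial := fun hd =>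
  absurd ((Nat.Prime.dvd_factorial hp).mp hd) (Nat.not_le.mpr h)

theorem ndvd_mul (hp : p.Prime) {a b : ℕ} (ha : ¬ p ∣ a) (hb : ¬ p ∣ b) : ¬ p ∣ a * b := fun h =>
  (hp.dvd_mul.mp h).elim ha hb

theorem ndvd_one (hp : p.Prime) : ¬ p ∣ 1 := hp.not_dvd_one

theorem ndvd_choose (hp : p.Prime) (q : ℕ) {r : ℕ} (h : r < p) :
    ¬ p ∣ (p * q + r).choose r := by
  haveI := Fact.mk hp
  intro hd
  have hmod := Choose.choose_modEq_choose_mod_mul_choose_div_nat (p := p) (n := p * q + r) (k := r)
  rw [Nat.mul_add_mod, Nat.mod_eq_of_lt h, Nat.mul_add_div hp.pos, Nat.div_eq_of_lt h,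
    Nat.choose_self, Nat.choose_zero_right, one_mul] at hmod
  exact ndvd_one hp (Nat.modEq_zero_iff_dvd.mp (hmod.symm.trans (Nat.modEq_zero_iff_dvd.mpr hd)))

theorem ndvd_uniformBell (hp : p.Prime) (q : ℕ) : ¬ p ∣ Nat.uniformBell q p := by
  induction q with
  | zero => rw [Nat.uniformBell_zero_left]; exact ndvd_one hp
  | succ q ih =>
    rw [Nat.uniformBell_succ_left]
    refine ndvd_mul hp ?_ ih
    have := ndvd_choose hp q (r := p - 1) (by have := hp.pos; omega)
    rwa [mul_comm p q, show q * p + (p - 1) = q * p + p - 1 by have := hp.pos; omega] at this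

theorem gam_of_lt {n : ℕ} (h : n < p) (x : A) : gam p d n x = iv A n.factorial * x ^ n := by
  rw [gam, dif_neg]; omega

theorem gam_zero (hp : p.Prime) (x : A) : gam p d 0 x = 1 := by
  rw [gam_of_lt hp.pos, Nat.factorial_zero, iv_one, pow_zero, mul_one]

theorem gam_one (hp : p.Prime) (x : A) : gam p d 1 x = x := by
  rw [gam_of_lt hp.one_lt, Nat.factorial_one, iv_one, pow_one, one_mul]

theorem gam_eq (hp : p.Prime) (q : ℕ) {r : ℕ} (h : r < p) (x : A) :
    gam p d (p * q + r) x = iv A ((p * q + r).choose r * Nat.uniformBell q p) *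
      (iv A r.factorial * x ^ r * gam p d q (d x)) := by
  rcases eq_or_ne q 0 with rfl | hq
  · simp [gam_of_lt h, Nat.uniformBell_zero_left, iv_one, gam_zero hp]
  · have hle : p ≤ p * q + r := by
      have : p * 1 ≤ p * q := Nat.mul_le_mul_left p (Nat.one_le_iff_ne_zero.mpr hq)
      omega
    conv_lhs => rw [gam, dif_pos ⟨hp.two_le, hle⟩]
    rw [Nat.mul_add_mod, Nat.mod_eq_of_lt h, Nat.mul_add_div hp.pos, Nat.div_eq_of_lt h, add_zero]

theorem exists_eq_mul_add (hp : p.Prime) (n : ℕ) :
    ∃ q r, r < p ∧ n = p * q + r ∧ (q < n ∨ n = 0) := by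
  refine ⟨n / p, n % p, Nat.mod_lt _ hp.pos, (Nat.div_add_mod n p).symm, ?_⟩
  rcases Nat.eq_zero_or_pos n with h | h
  · exact Or.inr h
  · exact Or.inl (Nat.div_lt_self h hp.one_lt)

theorem gam_mul (hS : Sys p I d) (n : ℕ) (a : A) {x : A} (hx : x ∈ I) :
    gam p d n (a * x) = a ^ n * gam p d n x := by
  induction n using Nat.strong_induction_on generalizing a x with
  | _ n ih =>
    obtain ⟨q, r, hr, rfl, hq | h0⟩ := exists_eq_mul_add hS.prime n
    · rw [gam_eq hS.prime q hr, gam_eq hS.prime q hr, hS.mul a x hx, ih q hq _ (hS.mem x hx),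
        mul_pow, pow_add, pow_mul]
      ring
    · rw [h0, gam_zero hS.prime, gam_zero hS.prime, pow_zero, one_mul]

theorem factorial_mul_gam (hS : Sys p I d) (n : ℕ) {x : A} (hx : x ∈ I) :
    (n.factorial : A) * gam p d n x = x ^ n := by
  induction n using Nat.strong_induction_on generalizing x with
  | _ n ih =>
    obtain ⟨q, r, hr, rfl, hq | h0⟩ := exists_eq_mul_add hS.prime n
    · have hn : (p * q + r).factorial = (p * q + r).choose r * Nat.uniformBell q p * r.factorial *
          (p.factorial ^ q * q.factorial) := by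
        rw [← Nat.choose_mul_factorial_mul_factorial (Nat.le_add_left r (p * q)),
          Nat.add_sub_cancel, mul_comm p q, ← Nat.uniformBell_mul_eq q hS.prime.ne_zero]
        ring
      rw [hn, gam_eq hS.prime q hr, Nat.cast_mul, Nat.cast_mul _ r.factorial]
      set c := (p * q + r).choose r * Nat.uniformBell q p
      have hc := natCast_mul_iv (hS.unit c (ndvd_mul hS.prime (ndvd_choose hS.prime q hr)
        (ndvd_uniformBell hS.prime q)))
      have hr' := natCast_mul_iv (hS.unit _ (ndvd_factorial hS.prime hr))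
      have hq' := ih q hq (hS.mem x hx)
      calc (c : A) * (r.factorial : A) * ((p.factorial ^ q * q.factorial : ℕ) : A) *
            (iv A c * (iv A r.factorial * x ^ r * gam p d q (d x)))
          = ((c : A) * iv A c) * ((r.factorial : A) * iv A r.factorial) *
              (x ^ r * ((p.factorial : A) ^ q * ((q.factorial : A) * gam p d q (d x)))) := by
            push_cast; ring
        _ = x ^ (p * q + r) := by
            rw [hc, hr', hq', ← mul_pow, hS.fac x hx, pow_add, pow_mul]; ring
    · rw [h0, gam_zero hS.prime, Nat.factorial_zero, Nat.cast_one, pow_zero, mul_one]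

theorem gam_mem (hS : Sys p I d) (n : ℕ) {x : A} (hn : n ≠ 0) (hx : x ∈ I) : gam p d n x ∈ I := by
  induction n using Nat.strong_induction_on generalizing x with
  | _ n ih =>
    obtain ⟨q, r, hr, rfl, hq | h0⟩ := exists_eq_mul_add hS.prime n
    · rw [gam_eq hS.prime q hr]
      refine I.mul_mem_left _ ?_
      rcases eq_or_ne q 0 with rfl | hq0
      · refine I.mul_mem_right _ (I.mul_mem_left _ (Ideal.pow_mem_of_mem _ hx r ?_))
        simp only [mul_zero, zero_add] at hn
        omega
      · exact I.mul_mem_left _ (ih q hq hq0 (hS.mem x hx))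
    · exact absurd h0 hn

theorem map_gam (f : A →+* B) {d' : B → B} (hS : Sys p I d) (hf : ∀ x ∈ I, f (d x) = d' (f x))
    (n : ℕ) {x : A} (hx : x ∈ I) : f (gam p d n x) = gam p d' n (f x) := by
  induction n using Nat.strong_induction_on generalizing x with
  | _ n ih =>
    obtain ⟨q, r, hr, rfl, hq | h0⟩ := exists_eq_mul_add hS.prime n
    · rw [gam_eq hS.prime q hr, gam_eq hS.prime q hr, map_mul, map_mul, map_mul, map_pow,
        ih q hq (hS.mem x hx), hf x hx, map_iv f (hS.unit _ (ndvd_factorial hS.prime hr)),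
        map_iv f (hS.unit _ (ndvd_mul hS.prime (ndvd_choose hS.prime q hr)
          (ndvd_uniformBell hS.prime q)))]
    · rw [h0, gam_zero hS.prime, gam_zero hS.prime, map_one]

/-- `z` is a multiple of `gam N x` with coefficient in the localisation away from `p`. -/
def Mult (p : ℕ) (d : A → A) (N : ℕ) (x z : A) : Prop :=
  ∃ k c : ℕ, ¬ p ∣ k ∧ (k : A) * z = (c : A) * gam p d N x

theorem Mult.gam_self (hp : p.Prime) (N : ℕ) (x : A) : Mult p d N x (gam p d N x) :=
  ⟨1, 1, ndvd_one hp, rfl⟩

theorem Mult.natCast_mul {N : ℕ} {x z : A} (j : ℕ) (h : Mult p d N x z) :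
    Mult p d N x ((j : A) * z) := by
  obtain ⟨k, c, hk, hkc⟩ := h
  exact ⟨k, j * c, hk, by rw [mul_left_comm, hkc, Nat.cast_mul, mul_assoc]⟩

theorem Mult.iv_mul (hS : Sys p I d) {N : ℕ} {x z : A} {j : ℕ} (hj : ¬ p ∣ j)
    (h : Mult p d N x z) : Mult p d N x (iv A j * z) := by
  obtain ⟨k, c, hk, hkc⟩ := h
  refine ⟨k * j, c, ndvd_mul hS.prime hk hj, ?_⟩
  rw [Nat.cast_mul, mul_assoc, ← mul_assoc (j : A), natCast_mul_iv (hS.unit j hj), one_mul, hkc]

theorem Mult.iv_pow_mul (hS : Sys p I d) {N : ℕ} {x z : A} {j : ℕ} (hj : ¬ p ∣ j) (m : ℕ)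
    (h : Mult p d N x z) : Mult p d N x (iv A j ^ m * z) := by
  induction m with
  | zero => simpa using h
  | succ m ih => rw [pow_succ', mul_assoc]; exact ih.iv_mul hS hj

theorem Mult.pow_self (hS : Sys p I d) (j : ℕ) {x : A} (hx : x ∈ I) : Mult p d j x (x ^ j) :=
  ⟨1, j.factorial, ndvd_one hS.prime, by rw [Nat.cast_one, one_mul, factorial_mul_gam hS j hx]⟩

/-- Pass from multiples at `d x` to multiples at `x`. -/
theorem Mult.step (hS : Sys p I d) {j : ℕ} {x z : A} (h : Mult p d j (d x) z) {r : ℕ}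
    (hr : r < p) : Mult p d (p * j + r) x (x ^ r * z) := by
  obtain ⟨k, c, hk, hkc⟩ := h
  refine ⟨k, c * ((p * j + r).choose r * Nat.uniformBell j p) * r.factorial, hk, ?_⟩
  rw [mul_left_comm, hkc, gam_eq hS.prime j hr, Nat.cast_mul, Nat.cast_mul]
  have hc := natCast_mul_iv (hS.unit _ (ndvd_mul hS.prime (ndvd_choose hS.prime j hr)
    (ndvd_uniformBell hS.prime j)))
  have hr' := natCast_mul_iv (hS.unit _ (ndvd_factorial hS.prime hr))
  calc x ^ r * ((c : A) * gam p d j (d x))
      = ((((p * j + r).choose r * Nat.uniformBell j p : ℕ) : A) *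
          iv A ((p * j + r).choose r * Nat.uniformBell j p)) *
        ((r.factorial : A) * iv A r.factorial) * ((c : A) * (x ^ r * gam p d j (d x))) := by
        rw [hc, hr']; ring
    _ = _ := by ring

theorem mult_gam_mul_gam (hS : Sys p I d) (N : ℕ) : ∀ {x : A}, x ∈ I → ∀ {a b : ℕ}, a + b = N →
    Mult p d N x (gam p d a x * gam p d b x) := by
  induction N using Nat.strong_induction_on with
  | _ N ih =>
    intro x hx a b hab
    obtain ⟨q, r, hr, rfl, -⟩ := exists_eq_mul_add hS.prime a
    obtain ⟨q', r', hr', rfl, -⟩ := exists_eq_mul_add hS.prime b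
    rcases Nat.eq_zero_or_pos N with rfl | hN
    · have h1 : p * q + r = 0 := by omega
      have h2 : p * q' + r' = 0 := by omega
      rw [h1, h2]
      nth_rewrite 2 [gam_zero hS.prime]
      rw [mul_one]
      exact Mult.gam_self hS.prime 0 x
    · have hqq : p * (q + q') ≤ N := by rw [mul_add]; omega
      have hlt : q + q' < N := by
        have : 2 * (q + q') ≤ p * (q + q') := Nat.mul_le_mul_right _ hS.prime.two_le
        omega
      have hM := ih _ hlt (hS.mem x hx) (a := q) (b := q') rfl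
      have key : Mult p d N x (x ^ (r + r') * (gam p d q (d x) * gam p d q' (d x))) := by
        rcases lt_or_ge (r + r') p with hlt' | hge
        · have := hM.step hS hlt'
          rwa [show p * (q + q') + (r + r') = N by rw [mul_add]; omega] at this
        · have hj1 : q + q' + 1 < N := by
            have h2 : 2 * (q + q' + 1) ≤ p * (q + q' + 1) :=
              Nat.mul_le_mul_right _ hS.prime.two_le
            have h3 : p * (q + q' + 1) ≤ N := by rw [mul_add, mul_add]; omega
            omega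
          have hM' : Mult p d (q + q' + 1) (d x) (d x * (gam p d q (d x) * gam p d q' (d x))) := by
            obtain ⟨k, c, hk, hkc⟩ := hM
            obtain ⟨k', c', hk', hkc'⟩ :=
              ih _ hj1 (hS.mem x hx) (a := 1) (b := q + q') (by omega)
            rw [gam_one hS.prime] at hkc'
            refine ⟨k * k', c * c', ndvd_mul hS.prime hk hk', ?_⟩
            push_cast
            linear_combination (k' : A) * d x * hkc + (c : A) * hkc'
          have := (hM'.natCast_mul p.factorial).step hS (r := r + r' - p) (by omega)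
          rw [show p * (q + q' + 1) + (r + r' - p) = N by rw [mul_add, mul_add]; omega] at this
          convert this using 1
          have hxp : x ^ (r + r') = x ^ (r + r' - p) * ((p.factorial : A) * d x) := by
            rw [hS.fac x hx, ← pow_add]; congr 1; omega
          rw [hxp]; ring
      have := (((key.iv_mul hS (ndvd_factorial hS.prime hr')).iv_mul hS
        (ndvd_factorial hS.prime hr)).iv_mul hS (ndvd_mul hS.prime (ndvd_choose hS.prime q' hr')
          (ndvd_uniformBell hS.prime q'))).iv_mul hS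
        (ndvd_mul hS.prime (ndvd_choose hS.prime q hr) (ndvd_uniformBell hS.prime q))
      convert this using 1
      rw [gam_eq hS.prime q hr, gam_eq hS.prime q' hr', pow_add]
      ring

theorem Mult.mul (hS : Sys p I d) {N M : ℕ} {x z w : A} (hx : x ∈ I) (hz : Mult p d N x z)
    (hw : Mult p d M x w) : Mult p d (N + M) x (z * w) := by
  obtain ⟨k, c, hk, hkc⟩ := hz
  obtain ⟨k', c', hk', hkc'⟩ := hw
  obtain ⟨e, f, he, hef⟩ := mult_gam_mul_gam hS _ hx (a := N) (b := M) rfl
  refine ⟨k * k' * e, c * c' * f, ndvd_mul hS.prime (ndvd_mul hS.prime hk hk') he, ?_⟩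
  push_cast
  linear_combination (k' : A) * w * e * hkc + (c : A) * gam p d N x * e * hkc' +
    (c : A) * c' * hef

theorem mult_gam_gam (hS : Sys p I d) (n : ℕ) : n ≠ 0 → ∀ (m : ℕ) {x : A}, x ∈ I →
    Mult p d (m * n) x (gam p d m (gam p d n x)) := by
  induction n using Nat.strong_induction_on with
  | _ n ih =>
    intro hn m x hx
    obtain ⟨q, r, hr, rfl, hq | h0⟩ := exists_eq_mul_add hS.prime n
    · rcases eq_or_ne q 0 with rfl | hq0
      · simp only [mul_zero, zero_add] at hn ⊢
        obtain ⟨j, rfl⟩ : ∃ j, r = j + 1 := ⟨r - 1, by omega⟩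
        rw [gam_of_lt hr, pow_succ, ← mul_assoc, gam_mul hS m _ hx, mul_pow, ← pow_mul, mul_assoc]
        refine Mult.iv_pow_mul hS (ndvd_factorial hS.prime hr) m ?_
        have := Mult.mul hS hx (Mult.pow_self hS (j * m) hx) (Mult.gam_self (d := d) hS.prime m x)
        rwa [show j * m + m = m * (j + 1) by ring] at this
      · have hIH := (ih q hq hq0 m (hS.mem x hx)).step hS (r := 0) hS.prime.pos
        rw [pow_zero, one_mul, add_zero] at hIH
        rw [gam_eq hS.prime q hr, ← mul_assoc,
          gam_mul hS m _ (gam_mem hS q hq0 (hS.mem x hx)), mul_pow, mul_pow, ← pow_mul,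
          mul_assoc, mul_assoc]
        refine Mult.iv_pow_mul hS (ndvd_mul hS.prime (ndvd_choose hS.prime q hr)
          (ndvd_uniformBell hS.prime q)) m ?_
        refine Mult.iv_pow_mul hS (ndvd_factorial hS.prime hr) m ?_
        have := Mult.mul hS hx (Mult.pow_self hS (r * m) hx) hIH
        rwa [show r * m + p * (m * q) = m * (p * q + r) by ring] at this
    · exact absurd h0 hn

/-- The product of a system with the universal example. -/
noncomputable def dP (p : ℕ) (d : A → A) : A × U → A × U := fun z => (d z.1, dU.dpow p z.2)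

theorem isUnit_U {n : ℕ} (h : ¬ p ∣ n) : IsUnit (n : U) :=
  by simpa using ((Nat.cast_ne_zero (R := ℚ)).mpr
    (fun h0 : n = 0 => h (h0 ▸ dvd_zero p))).isUnit.map (algebraMap ℚ U)

theorem dU_eq (n : ℕ) {z : U} (hz : z ∈ J) (hu : IsUnit (n.factorial : U)) :
    dU.dpow n z = iv U n.factorial * z ^ n := by
  rw [← dU.factorial_mul_dpow_eq_pow hz, ← mul_assoc, mul_comm (iv U _), natCast_mul_iv hu, one_mul]

theorem sys_U (hp : p.Prime) : Sys p J (dU.dpow p) where
  prime := hp
  unit _ h := isUnit_U h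
  mem _ hx := dU.dpow_mem hp.ne_zero hx
  fac _ hx := dU.factorial_mul_dpow_eq_pow hx
  mul _ _ hx := dU.dpow_mul hx
  add x hx y hy := by
    rw [dU.dpow_add hx hy, ← sum_filter_add_sum_filter_not (antidiagonal p)
      (fun k => 0 < k.1 ∧ 0 < k.2), add_comm]
    congr 1
    · have hset : (antidiagonal p).filter (fun k => ¬ (0 < k.1 ∧ 0 < k.2)) = {(p, 0), (0, p)} := by
        ext ⟨a, b⟩
        simp only [mem_filter, mem_antidiagonal, mem_insert, mem_singleton, Prod.mk.injEq]
        omega
      rw [hset, sum_pair (by simp [hp.ne_zero]), dU.dpow_zero hx, dU.dpow_zero hy, mul_one, one_mul]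
    · refine sum_congr rfl ?_
      rintro ⟨a, b⟩ hab
      simp only [mem_filter, mem_antidiagonal] at hab
      have ha := isUnit_U (ndvd_factorial hp (show a < p by omega))
      have hb := isUnit_U (ndvd_factorial hp (show b < p by omega))
      rw [dU_eq a hx ha, dU_eq b hy hb]
      have : iv U (a.factorial * b.factorial) = iv U a.factorial * iv U b.factorial := by
        simp only [iv, Nat.cast_mul]
        exact Ring.mul_inverse_rev' (Commute.all _ _) |>.trans (mul_comm _ _)
      simp only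
      rw [this]
      ring

theorem isUnit_prod (hS : Sys p I d) {n : ℕ} (h : ¬ p ∣ n) : IsUnit (n : A × U) :=
  Prod.isUnit_iff.mpr ⟨by simpa using hS.unit n h, by simpa using isUnit_U h⟩

theorem sys_prod (hS : Sys p I d) : Sys p (I.prod J) (dP p d) where
  prime := hS.prime
  unit _ h := isUnit_prod hS h
  mem _ hx := ⟨hS.mem _ hx.1, (sys_U hS.prime).mem _ hx.2⟩
  fac _ hx := Prod.ext (by simpa [dP] using hS.fac _ hx.1)
    (by simpa [dP] using (sys_U hS.prime).fac _ hx.2)
  mul _ _ hx := Prod.ext (by simpa [dP] using hS.mul _ _ hx.1)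
    (by simpa [dP] using (sys_U hS.prime).mul _ _ hx.2)
  add x hx y hy := by
    have hiv : ∀ {B : Type u} [CommRing B] (f : A × U →+* B) (k : ℕ × ℕ),
        k ∈ (antidiagonal p).filter (fun k => 0 < k.1 ∧ 0 < k.2) →
          f (iv (A × U) (k.1.factorial * k.2.factorial)) =
            iv B (k.1.factorial * k.2.factorial) := by
      intro B _ f k hk
      simp only [mem_filter, mem_antidiagonal] at hk
      exact map_iv f (isUnit_prod hS (ndvd_mul hS.prime
        (ndvd_factorial hS.prime (by omega)) (ndvd_factorial hS.prime (by omega))))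
    refine Prod.ext ?_ ?_
    · show d (x.1 + y.1) = _
      rw [hS.add x.1 hx.1 y.1 hy.1]
      simp only [Prod.fst_add, Prod.fst_sum, dP]
      congr 1
      refine sum_congr rfl fun k hk => ?_
      rw [← hiv (RingHom.fst A U) k hk]
      rfl
    · show dU.dpow p (x.2 + y.2) = _
      rw [(sys_U hS.prime).add x.2 hx.2 y.2 hy.2]
      simp only [Prod.snd_add, Prod.snd_sum, dP]
      congr 1
      refine sum_congr rfl fun k hk => ?_
      simp only [mem_filter, mem_antidiagonal] at hk
      rw [← map_iv (RingHom.snd A U) (isUnit_prod hS (ndvd_mul hS.prime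
        (ndvd_factorial hS.prime (show k.1 < p by omega))
        (ndvd_factorial hS.prime (show k.2 < p by omega))))]
      rfl

theorem gam_U (hp : p.Prime) (n : ℕ) {z : U} (hz : z ∈ J) :
    gam p (dU.dpow p) n z = dU.dpow n z :=
  mul_left_cancel₀ (Nat.cast_ne_zero.mpr n.factorial_ne_zero)
    ((factorial_mul_gam (sys_U hp) n hz).trans (dU.factorial_mul_dpow_eq_pow hz).symm)

theorem gam_prod (hS : Sys p I d) (n : ℕ) {z : A × U} (hz : z ∈ I.prod J) :
    gam p (dP p d) n z = (gam p d n z.1, dU.dpow n z.2) :=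
  Prod.ext (map_gam (RingHom.fst A U) (sys_prod hS) (fun _ _ => rfl) n hz)
    ((map_gam (RingHom.snd A U) (d' := dU.dpow p) (sys_prod hS) (fun _ _ => rfl) n hz).trans
      (gam_U hS.prime n hz.2))

theorem coeff_eq_of_mult (hS : Sys p I d) {x : A} (hx : x ∈ I) {N : ℕ} {z : A × U} {C : ℕ}
    (hz : Mult p (dP p d) N (x, X 0) z)
    (hC : (N.factorial : U) * z.2 = (C : U) * (X 0 : U) ^ N) :
    z.1 = (C : A) * gam p d N x := by
  obtain ⟨k, c, hk, hkc⟩ := hz
  rw [gam_prod hS N ⟨hx, X_mem_J 0⟩] at hkc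
  have h1 : (k : A) * z.1 = (c : A) * gam p d N x := by simpa using congrArg Prod.fst hkc
  have h2 : (k : U) * z.2 = (c : U) * dU.dpow N (X 0) := by simpa using congrArg Prod.snd hkc
  have h3 : ((k * C : ℕ) : U) = (c : U) := by
    refine mul_right_cancel₀ (b := (X 0 : U) ^ N) (pow_ne_zero _ (MvPolynomial.X_ne_zero _)) ?_
    rw [← dU.factorial_mul_dpow_eq_pow (X_mem_J 0)] at hC ⊢
    push_cast
    linear_combination (N.factorial : U) * h2 - (k : U) * hC
  have h4 : k * C = c := Nat.cast_injective h3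
  refine (hS.unit k hk).mul_left_cancel ?_
  rw [h1, ← h4, Nat.cast_mul, mul_assoc]

theorem gam_good (hS : Sys p I d) {x : A} (hx : x ∈ I) : Good (gam p d) x where
  mul_dpow a b := by
    have hxp : ((x, X 0) : A × U) ∈ I.prod J := ⟨hx, X_mem_J 0⟩
    have h := coeff_eq_of_mult hS hx (C := (a + b).choose a)
      (mult_gam_mul_gam (sys_prod hS) _ hxp (a := a) (b := b) rfl) (by
        rw [gam_prod hS a hxp, gam_prod hS b hxp]
        simp only [Prod.snd_mul]
        rw [← dU.factorial_mul_dpow_eq_pow (X_mem_J 0), dU.mul_dpow (X_mem_J 0)]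
        ring)
    rwa [gam_prod hS a hxp, gam_prod hS b hxp] at h
  comp m n hn := by
    have hxp : ((x, X 0) : A × U) ∈ I.prod J := ⟨hx, X_mem_J 0⟩
    have hg : gam p (dP p d) n (x, X 0) ∈ I.prod J := gam_mem (sys_prod hS) n hn hxp
    have h := coeff_eq_of_mult hS hx (C := Nat.uniformBell m n)
      (mult_gam_gam (sys_prod hS) n hn m hxp) (by
        rw [gam_prod hS m hg, gam_prod hS n hxp]
        simp only
        rw [← dU.factorial_mul_dpow_eq_pow (X_mem_J 0), dU.dpow_comp hn (X_mem_J 0)]
        ring)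
    rwa [gam_prod hS m hg, gam_prod hS n hxp] at h

/-- Elements with a multiple prime to `p` in a given span. -/
def Loc (p : ℕ) (d : A → A) (x y : A) : Set A :=
  {z | ∃ k : ℕ, ¬ p ∣ k ∧ (k : A) * z ∈ mon (gam p d) x y}

theorem loc_mon (hp : p.Prime) {x y z : A} (h : z ∈ mon (gam p d) x y) : z ∈ Loc p d x y :=
  ⟨1, ndvd_one hp, by rwa [Nat.cast_one, one_mul]⟩

theorem loc_mul (hS : Sys p I d) {x y z w : A} (hx : x ∈ I) (hy : y ∈ I)
    (hz : z ∈ Loc p d x y) (hw : w ∈ Loc p d x y) : z * w ∈ Loc p d x y := by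
  obtain ⟨k, hk, hkz⟩ := hz
  obtain ⟨k', hk', hkw⟩ := hw
  refine ⟨k * k', ndvd_mul hS.prime hk hk', ?_⟩
  rw [Nat.cast_mul, mul_mul_mul_comm]
  exact mon_mul_mem (gam_good hS hx) (gam_good hS hy) hkz hkw

theorem loc_pow (hS : Sys p I d) {x y z : A} (hx : x ∈ I) (hy : y ∈ I)
    (hz : z ∈ Loc p d x y) (j : ℕ) : z ^ j ∈ Loc p d x y := by
  induction j with
  | zero =>
    refine loc_mon hS.prime ?_
    have := mem_mon (d := gam p d) x y 0 0
    rw [gam_zero hS.prime, gam_zero hS.prime, one_mul] at this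
    rwa [pow_zero]
  | succ j ih => rw [pow_succ]; exact loc_mul hS hx hy ih hz

theorem loc_iv (hS : Sys p I d) {x y z : A} {j : ℕ} (hj : ¬ p ∣ j) (hz : z ∈ Loc p d x y) :
    iv A j * z ∈ Loc p d x y := by
  obtain ⟨k, hk, hkz⟩ := hz
  refine ⟨k * j, ndvd_mul hS.prime hk hj, ?_⟩
  rwa [Nat.cast_mul, mul_assoc, ← mul_assoc (j : A), natCast_mul_iv (hS.unit j hj), one_mul]

theorem loc_natCast (hS : Sys p I d) {x y z : A} (j : ℕ) (hz : z ∈ Loc p d x y) :
    (j : A) * z ∈ Loc p d x y := by
  obtain ⟨k, hk, hkz⟩ := hz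
  refine ⟨k, hk, ?_⟩
  rw [mul_left_comm]
  exact natCast_mul_mem_mon j hkz

theorem loc_add (hS : Sys p I d) {x y z w : A} (hz : z ∈ Loc p d x y) (hw : w ∈ Loc p d x y) :
    z + w ∈ Loc p d x y := by
  obtain ⟨k, hk, hkz⟩ := hz
  obtain ⟨k', hk', hkw⟩ := hw
  refine ⟨k * k', ndvd_mul hS.prime hk hk', ?_⟩
  rw [Nat.cast_mul, mul_add]
  refine add_mem ?_ ?_
  · rw [mul_comm (k : A), mul_assoc]; exact natCast_mul_mem_mon k' hkz
  · rw [mul_assoc]; exact natCast_mul_mem_mon k hkw

theorem loc_gam_add (hS : Sys p I d) (n : ℕ) {x y : A} (hx : x ∈ I) (hy : y ∈ I)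
    (IH : ∀ k < n, ∀ u ∈ I, ∀ v ∈ I, gam p d k (u + v) =
      (antidiagonal k).sum fun i => gam p d i.1 u * gam p d i.2 v) :
    gam p d n (x + y) ∈ Loc p d x y := by
  have hleft : ∀ k, gam p d k x ∈ Loc p d x y := fun k => by
    have := loc_mon hS.prime (mem_mon (d := gam p d) x y k 0)
    rwa [gam_zero hS.prime, mul_one] at this
  have hright : ∀ k, gam p d k y ∈ Loc p d x y := fun k => by
    have := loc_mon hS.prime (mem_mon (d := gam p d) x y 0 k)
    rwa [gam_zero hS.prime, one_mul] at this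
  have hx1 : x ∈ Loc p d x y := by simpa [gam_one hS.prime] using hleft 1
  have hy1 : y ∈ Loc p d x y := by simpa [gam_one hS.prime] using hright 1
  have hone : (1 : A) ∈ Loc p d x y := by simpa [gam_zero hS.prime] using hleft 0
  have hzero : (0 : A) ∈ Loc p d x y :=
    ⟨1, ndvd_one hS.prime, by rw [mul_zero]; exact zero_mem _⟩
  obtain ⟨q, r, hr, rfl, hq | h0⟩ := exists_eq_mul_add hS.prime n
  · rw [gam_eq hS.prime q hr]
    refine loc_iv hS (ndvd_mul hS.prime (ndvd_choose hS.prime q hr)
      (ndvd_uniformBell hS.prime q)) (loc_mul hS hx hy (loc_mul hS hx hy ?_ ?_) ?_)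
    · simpa using loc_iv hS (ndvd_factorial hS.prime hr) hone
    · exact loc_pow hS hx hy (loc_add hS hx1 hy1) r
    let G : A → Prop := fun u => u ∈ I ∧ ∀ k ≤ q, gam p d k u ∈ Loc p d x y
    have hGadd : ∀ u v, G u → G v → G (u + v) := by
      rintro u v ⟨hu, hu'⟩ ⟨hv, hv'⟩
      refine ⟨add_mem hu hv, fun k hk => ?_⟩
      rw [IH k (lt_of_le_of_lt hk hq) u hu v hv]
      refine sum_induction _ (· ∈ Loc p d x y) (fun _ _ => loc_add hS) hzero ?_
      rintro ⟨i, j⟩ hij
      rw [mem_antidiagonal] at hij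
      exact loc_mul hS hx hy (hu' i (by omega)) (hv' j (by omega))
    have hdz : ∀ z ∈ I, (∀ k, gam p d k z ∈ Loc p d x y) → G (d z) := by
      refine fun z hz hzL => ⟨hS.mem z hz, fun k _ => ?_⟩
      obtain ⟨j, c, hj, hjc⟩ :=
        (Mult.gam_self (d := d) hS.prime k (d z)).step hS (r := 0) hS.prime.pos
      rw [pow_zero, one_mul, add_zero] at hjc
      have h := loc_iv hS hj (loc_natCast hS c (hzL (p * k)))
      rwa [← hjc, ← mul_assoc, mul_comm (iv A j), natCast_mul_iv (hS.unit j hj), one_mul] at h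
    refine (?_ : G (d (x + y))).2 q le_rfl
    rw [hS.add x hx y hy]
    refine hGadd _ _ (hGadd _ _ (hdz x hx hleft) (hdz y hy hright)) ?_
    refine sum_induction _ G hGadd ⟨zero_mem _, fun k _ => ?_⟩ ?_
    · rw [← zero_mul x, gam_mul hS k 0 hx]
      exact loc_mul hS hx hy (loc_pow hS hx hy hzero k) (hleft k)
    · rintro ⟨i, j⟩ hij
      simp only [mem_filter, mem_antidiagonal] at hij
      obtain ⟨l, rfl⟩ : ∃ l, j = l + 1 := ⟨j - 1, by omega⟩
      simp only
      rw [pow_succ y l, ← mul_assoc]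
      refine ⟨I.mul_mem_left _ hy, fun k _ => ?_⟩
      rw [gam_mul hS k _ hy]
      refine loc_mul hS hx hy (loc_pow hS hx hy (loc_mul hS hx hy ?_ (loc_pow hS hx hy hy1 l)) k)
        (hright k)
      exact loc_iv hS (ndvd_mul hS.prime (ndvd_factorial hS.prime (by omega))
        (ndvd_factorial hS.prime (by omega))) (loc_pow hS hx hy hx1 i)
  · rw [h0, gam_zero hS.prime]; exact hone

theorem gam_add (n : ℕ) : ∀ {A : Type u} [CommRing A] {I : Ideal A} {d : A → A}, Sys p I d →
    ∀ x ∈ I, ∀ y ∈ I, gam p d n (x + y) =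
      (antidiagonal n).sum fun k => gam p d k.1 x * gam p d k.2 y := by
  induction n using Nat.strong_induction_on with
  | _ n ih =>
    intro A _ I d hS x hx y hy
    have hP := sys_prod hS
    have hxp : ((x, X 0) : A × U) ∈ I.prod J := ⟨hx, X_mem_J 0⟩
    have hyp : ((y, X 1) : A × U) ∈ I.prod J := ⟨hy, X_mem_J 1⟩
    have hmon : mon (gam p (dP p d)) (x, (X 0 : U)) (y, X 1) =
        mon (dProd (gam p d)) (x, (X 0 : U)) (y, X 1) := by
      unfold mon
      congr 2
      funext k
      rw [gam_prod hS k.1 hxp, gam_prod hS k.2 hyp]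
      rfl
    obtain ⟨k, hk, hkz⟩ := loc_gam_add hP n hxp hyp (fun j hj => ih j hj hP)
    have hw : (k : A × U) * (antidiagonal n).sum (fun j =>
        gam p (dP p d) j.1 (x, X 0) * gam p (dP p d) j.2 (y, X 1)) ∈
          mon (gam p (dP p d)) (x, X 0) (y, X 1) :=
      natCast_mul_mem_mon k (sum_mem fun j _ => mem_mon _ _ _ _)
    have h := fst_eq_of_snd_eq (hmon ▸ hkz) (hmon ▸ hw) (by
      simp only [Prod.snd_mul, Prod.snd_sum, gam_prod hS _ hxp, gam_prod hS _ hyp,
        gam_prod hS n (add_mem hxp hyp), Prod.snd_add]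
      rw [dU.dpow_add (X_mem_J 0) (X_mem_J 1)])
    simp only [Prod.fst_mul, Prod.fst_sum, gam_prod hS _ hxp, gam_prod hS _ hyp,
      gam_prod hS n (add_mem hxp hyp), Prod.fst_add, Prod.fst_natCast] at h
    exact (hS.unit k hk).mul_left_cancel h

/-- Divided powers exist and are unique given a `p`-th divided power. -/
theorem existsUnique_of_dpow_prime (hS : Sys p I d) :
    ∃! γ : DividedPowers I, ∀ x ∈ I, γ.dpow p x = d x := by
  classical
  let e : ℕ → A → A := fun n x => if x ∈ I then gam p d n x else 0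
  have he : ∀ (n : ℕ) {x : A}, x ∈ I → e n x = gam p d n x := fun n x hx => if_pos hx
  have hpre : PreDP I e := by
    refine ⟨fun x hx => ?_, fun x hx => ?_, fun n x hn hx => ?_, fun n x y hx hy => ?_,
      fun n a x hx => ?_⟩
    · rw [he 0 hx, gam_zero hS.prime]
    · rw [he 1 hx, gam_one hS.prime]
    · rw [he n hx]; exact gam_mem hS n hn hx
    · rw [he n (add_mem hx hy), gam_add n hS x hx y hy]
      exact sum_congr rfl fun k _ => by rw [he _ hx, he _ hy]
    · rw [he n (I.mul_mem_left a hx), he n hx, gam_mul hS n a hx]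
  obtain ⟨γ, hγ⟩ := exists_dividedPowers hpre (fun n x hx => if_neg hx) (Ideal.span_eq I)
    fun x hx => ⟨fun m n => by rw [he m hx, he n hx, he (m + n) hx]; exact (gam_good hS hx).1 m n,
      fun m n hn => by
        rw [he n hx, he m (gam_mem hS n hn hx), he (m * n) hx]
        exact (gam_good hS hx).2 m n hn⟩
  have hp' : ∀ x ∈ I, gam p d p x = d x := by
    intro x hx
    have h := gam_eq (d := d) hS.prime 1 hS.prime.pos x
    simpa [gam_one hS.prime, Nat.uniformBell_one_left, iv_one] using h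
  refine ⟨γ, fun x hx => by rw [hγ, he p hx, hp' x hx], fun γ' hγ' => ?_⟩
  refine DividedPowers.ext γ' γ fun n x hx => ?_
  rw [hγ, he n hx]
  induction n using Nat.strong_induction_on generalizing x with
  | _ n ih =>
    obtain ⟨q, r, hr, rfl, hq | h0⟩ := exists_eq_mul_add hS.prime n
    · have hu := hS.unit _ (ndvd_mul hS.prime (ndvd_choose hS.prime q hr)
        (ndvd_uniformBell hS.prime q))
      have hr' := hS.unit _ (ndvd_factorial hS.prime hr)
      have hq' := ih q hq (d x) (hS.mem x hx)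
      rw [← hγ' x hx, γ'.dpow_comp hS.prime.ne_zero hx, hγ' x hx] at hq'
      have hdr : γ'.dpow r x = iv A r.factorial * x ^ r := by
        rw [← γ'.factorial_mul_dpow_eq_pow hx, ← mul_assoc, mul_comm (iv A _),
          natCast_mul_iv hr', one_mul]
      refine hu.mul_left_cancel ?_
      rw [gam_eq hS.prime q hr, ← mul_assoc (((p * q + r).choose r * _ : ℕ) : A),
        natCast_mul_iv hu, one_mul, ← hq', ← hdr, ← mul_assoc, mul_comm (γ'.dpow r x),
        mul_assoc, γ'.mul_dpow hx, mul_comm q p, Nat.cast_mul,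
        show (r + p * q).choose r = (p * q + r).choose r by rw [add_comm],
        show γ'.dpow (r + p * q) x = γ'.dpow (p * q + r) x by rw [add_comm]]
      ring
    · rw [h0, gam_zero hS.prime, γ'.dpow_zero hx]

end Groth.L07.DPGen
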