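import Groth.Agent.L19.OmegaSh.Along
import Groth.Agent.L19.OmegaSh.DiffCompat

/-!
Derivations on a fibre product.
-/

set_option autoImplicit false
set_option backward.isDefEq.respectTransparency.types false
set_option backward.isDefEq.respectTransparency false
set_option linter.style.haveILetI false

universe u

open CategoryTheory AlgebraicGeometry TopologicalSpace OmegaSh

namespace Groth.L07.DerProd

/-- Derivations of a base change correspond to derivations of the scheme it is a base change of. -/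
theorem pushDerSq_bijective {X S X' S' : Scheme.{u}} {f : X ⟶ S} {g : S' ⟶ S} {g' : X' ⟶ X} {f' : X' ⟶ S'}
    (hsq : IsPullback g' f' f g) (G : X'.Modules) :
    Function.Bijective (fun D : OmegaSh.Der f' G => Groth.L19.OmegaSh.pushDerSq g' g hsq.w.symm D) := by
  let P : X'.affineOpens → Prop := fun U => Groth.L19.OmegaSh.Good f' U ∧
    ∃ W : X.affineOpens, Groth.L19.OmegaSh.Good f W ∧ U.1 ≤ g' ⁻¹ᵁ W.1
  have hP : ∀ (x : X') (O : X'.Opens), x ∈ O → ∃ U, P U ∧ x ∈ U.1 ∧ U.1 ≤ O := by
    intro x O hx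
    obtain ⟨W, hW, hxW, -⟩ := Groth.L19.OmegaSh.exists_good (f := f) (g' x) ⊤ trivial
    obtain ⟨U, hU, hxU, hUle⟩ :=
      Groth.L19.OmegaSh.exists_good (f := f') x (O ⊓ g' ⁻¹ᵁ W.1) ⟨hx, hxW⟩
    exact ⟨U, ⟨hU, W, hW, hUle.trans inf_le_right⟩, hxU, hUle.trans inf_le_left⟩
  constructor
  · intro D₁ D₂ h12
    refine Groth.L19.OmegaSh.der_ext_points D₁ D₂ P hP fun U hU => hsq.hom_ext ?_ ?_
    · obtain ⟨W, -, e⟩ := hU.2
      have h12' : Groth.L19.OmegaSh.pushDerSq g' g hsq.w.symm D₁ =
          Groth.L19.OmegaSh.pushDerSq g' g hsq.w.symm D₂ := h12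
      rw [Groth.L19.OmegaSh.dPt_comp hsq.w.symm D₁ U W e, Groth.L19.OmegaSh.dPt_comp hsq.w.symm D₂ U W e, h12']
    · rw [Groth.L19.OmegaSh.dPt_base D₁ hU.1, Groth.L19.OmegaSh.dPt_base D₂ hU.1]
  · intro E
    have hc : ∀ (U : X'.affineOpens) (p : P U),
        Groth.L19.OmegaSh.ePt E U p.2.choose p.2.choose_spec.2 ≫ f =
          ((Spec.map (Groth.L19.OmegaSh.inlL G U.1) ≫ U.2.fromSpec) ≫ f') ≫ g := fun U p => by
      rw [Groth.L19.OmegaSh.ePt_base E U _ _ p.2.choose_spec.1, Category.assoc, Category.assoc, Category.assoc,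
        hsq.w]
    let F : Groth.L19.OmegaSh.PointFam f' G :=
      { P := P
        exists_P := hP
        r := fun U p => hsq.lift _ _ (hc U p)
        prL_r := fun U p => hsq.hom_ext
          (by rw [Category.assoc, hsq.lift_fst, Groth.L19.OmegaSh.prL_ePt])
          (by rw [Category.assoc, hsq.lift_snd, ← Category.assoc, ← Spec.map_comp_assoc,
            Groth.L19.OmegaSh.inlL_prL, Spec.map_id, Category.id_comp])
        resL_r := fun U U' p p' h => hsq.hom_ext
          (by rw [Category.assoc, hsq.lift_fst, hsq.lift_fst, Groth.L19.OmegaSh.resL_ePt]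
              exact Groth.L19.OmegaSh.ePt_indep E U' _ _ _ _)
          (by rw [Category.assoc, hsq.lift_snd, hsq.lift_snd]
              simp only [Category.assoc]
              rw [← Spec.map_comp_assoc, Groth.L19.OmegaSh.inlL_resL, Spec.map_comp_assoc,
                IsAffineOpen.map_fromSpec_assoc])
        r_base := fun U p => hsq.lift_snd _ _ _ }
    refine ⟨F.der, ?_⟩
    refine PresheafOfModules.Derivation.ext ?_
    ext Z a
    refine Groth.L19.OmegaSh.eq_of_basis (G := G) P hP (Z := g' ⁻¹ᵁ Z.unop) _ _ fun U p hU => ?_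
    refine Eq.trans ?_ (Groth.L19.OmegaSh.μ_ePt E U p.2.choose p.2.choose_spec.2 Z.unop hU a)
    refine (F.val_spec _ (g'.app Z.unop a) U p hU).trans ?_
    rw [Scheme.Hom.app_eq_appLE, ← Groth.L19.OmegaSh.μ_comp G (F.r U p) g'
      (Groth.L19.OmegaSh.top_le_of_prL_id _ (F.prL_r U p) hU) le_rfl
      (show ⊤ ≤ (F.r U p ≫ g') ⁻¹ᵁ Z.unop from Groth.L19.OmegaSh.top_le_of_prL_id _ (F.prL_r U p) hU) a]
    exact congrArg (Groth.L19.OmegaSh.snd' G)
      (congr($(Groth.L19.OmegaSh.τ_congr G (hsq.lift_fst _ _ (hc U p)) Z.unop _ _) a))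

variable {X Y S Z : Scheme.{u}}

theorem app_base {p : Z ⟶ X} {a : X ⟶ S} {h : Z ⟶ S} (w : p ≫ a = h) {G : Z.Modules} (D : OmegaSh.Der p G)
    (V : S.Opens) (c : Γ(S, V)) : D.app (h ⁻¹ᵁ V) (h.app V c) = 0 := by
  subst w
  exact D.d_app (X := Opposite.op (a ⁻¹ᵁ V)) (a.app V c)

/-- The zero derivation. -/
noncomputable def derZero (q : Z ⟶ X) (G : Z.Modules) : OmegaSh.Der q G where
  d := 0
  d_mul := fun {U} a b => by
    show (0 : Γ(G, U.unop)) = (show Γ(Z, U.unop) from a) • (0 : Γ(G, U.unop)) +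
      (show Γ(Z, U.unop) from b) • (0 : Γ(G, U.unop))
    rw [smul_zero, smul_zero, add_zero]
  d_map := fun {U V} i a => (map_zero (G.presheaf.map i).hom).symm
  d_app := fun {V} c => rfl

/-- Derivations on a fibre product agreeing on both factors are equal. -/
theorem der_ext {a : X ⟶ S} {b : Y ⟶ S} {p : Z ⟶ X} {q : Z ⟶ Y} (hZ : IsPullback p q a b) {h : Z ⟶ S}
    {G : Z.Modules} (D D' : OmegaSh.Der h G)
    (hp : ∀ (U : X.Opens) (s : Γ(X, U)), D.app (p ⁻¹ᵁ U) (p.app U s) = D'.app (p ⁻¹ᵁ U) (p.app U s))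
    (hq : ∀ (U : Y.Opens) (s : Γ(Y, U)), D.app (q ⁻¹ᵁ U) (q.app U s) = D'.app (q ⁻¹ᵁ U) (q.app U s)) :
    D = D' := by
  let E : OmegaSh.Der p G :=
    { d := fun {U} => D.app U.unop - D'.app U.unop
      d_mul := fun {U} x y => by
        show D.app U.unop (x * y) - D'.app U.unop (x * y) =
          (show Γ(Z, U.unop) from x) • (D.app U.unop y - D'.app U.unop y) +
            (show Γ(Z, U.unop) from y) • (D.app U.unop x - D'.app U.unop x)
        rw [show D.app U.unop (x * y) = (show Γ(Z, U.unop) from x) • D.app U.unop y +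
          (show Γ(Z, U.unop) from y) • D.app U.unop x from D.d_mul x y,
          show D'.app U.unop (x * y) = (show Γ(Z, U.unop) from x) • D'.app U.unop y +
          (show Γ(Z, U.unop) from y) • D'.app U.unop x from D'.d_mul x y, smul_sub, smul_sub]
        abel
      d_map := fun {U V} i x => by
        show D.app V.unop _ - D'.app V.unop _ = G.presheaf.map i (D.app U.unop x - D'.app U.unop x)
        rw [map_sub]
        exact congrArg₂ (· - ·) (D.d_map i x) (D'.d_map i x)
      d_app := fun {V} c => sub_eq_zero.2 (hp V.unop c) }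
  have h0 : E = derZero p G := by
    refine (pushDerSq_bijective hZ.flip G).1 ?_
    refine PresheafOfModules.Derivation.ext ?_
    ext U s
    exact sub_eq_zero.2 (hq U.unop s)
  refine PresheafOfModules.Derivation.ext ?_
  ext U x
  exact sub_eq_zero.1 (congrArg (fun E' : OmegaSh.Der p G => E'.app U.unop x) h0)

end Groth.L07.DerProd
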