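import Groth.Agent.L18.KerReduced
import Groth.Agent.L23.SchKer
import Mathlib.AlgebraicGeometry.Geometrically.Reduced
import Mathlib.AlgebraicGeometry.Morphisms.Separated
import Mathlib.AlgebraicGeometry.Morphisms.Flat
import Mathlib.AlgebraicGeometry.Morphisms.ClosedImmersion
import Mathlib.RingTheory.TensorProduct.Basic

/-!
Products with a geometrically reduced field extension; separatedness from an affine cover.
-/

set_option autoImplicit false
set_option linter.style.haveILetI false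
set_option maxSynthPendingDepth 3
set_option backward.isDefEq.respectTransparency false
set_option backward.isDefEq.respectTransparency.types false

universe u v

open CategoryTheory CategoryTheory.Limits AlgebraicGeometry TensorProduct

namespace Groth.L07.DescendClosed

variable {k K : Type u} [Field k] [Field K] [Algebra k K]
  [GeometricallyReduced (Spec.map (CommRingCat.ofHom (algebraMap k K)))]

theorem isReduced_tensor_of_fg (A : Type u) [CommRing A] [Algebra k A] [Algebra.FiniteType k A]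
    [_root_.IsReduced A] : _root_.IsReduced (A ⊗[k] K) := by
  haveI : IsNoetherianRing A := Algebra.FiniteType.isNoetherianRing k A
  haveI : IsNoetherianRing (CommRingCat.of A) := ‹IsNoetherianRing A›
  haveI : IsReduced (Spec (CommRingCat.of A)) := affine_isReduced_iff _ |>.mpr ‹_›
  haveI : Flat (Spec.map (CommRingCat.ofHom (algebraMap k K))) := by
    rw [HasRingHomProperty.Spec_iff (P := @Flat)]
    show (algebraMap k K).Flat
    exact RingHom.flat_algebraMap_iff.mpr inferInstance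
  haveI : IsReduced (pullback (Spec.map (CommRingCat.ofHom (algebraMap k A)))
      (Spec.map (CommRingCat.ofHom (algebraMap k K)))) := inferInstance
  exact (affine_isReduced_iff _).mp (isReduced_of_isOpenImmersion (pullbackSpecIso k A K).inv)

theorem isReduced_tensor (A : Type u) [CommRing A] [Algebra k A] [_root_.IsReduced A] :
    _root_.IsReduced (A ⊗[k] K) := by
  refine ⟨fun x hx => ?_⟩
  classical
  let b := Module.Free.chooseBasis k K
  let bA := Algebra.TensorProduct.basis A b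
  let s : Finset A := (bA.repr x).frange
  let A₀ := Algebra.adjoin k (s : Set A)
  have : Algebra.FiniteType k A₀ := (Subalgebra.fg_iff_finiteType _).mp ⟨s, rfl⟩
  have : _root_.IsReduced A₀ := isReduced_of_injective A₀.val Subtype.val_injective
  let J : A₀ ⊗[k] K →ₐ[k] A ⊗[k] K := Algebra.TensorProduct.map A₀.val (AlgHom.id k K)
  have hJ : Function.Injective J :=
    Module.Flat.rTensor_preserves_injective_linearMap (M := K) A₀.val.toLinearMap Subtype.val_injective
  have hmem : ∀ l, bA.repr x l ∈ A₀ := by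
    intro l
    by_cases h0 : bA.repr x l = 0
    · rw [h0]; exact zero_mem _
    · exact Algebra.subset_adjoin (Finsupp.mem_frange.mpr ⟨h0, l, rfl⟩)
  obtain ⟨x₀, hx₀⟩ : x ∈ J.range := by
    rw [← bA.linearCombination_repr x, Finsupp.linearCombination_apply]
    refine sum_mem fun l _ => ⟨⟨_, hmem l⟩ ⊗ₜ b l, ?_⟩
    simp [J, bA, TensorProduct.smul_tmul']
  rw [AlgHom.toRingHom_eq_coe, RingHom.coe_coe] at hx₀
  have h1 := isReduced_tensor_of_fg (k := k) (K := K) A₀
  rw [← hx₀, h1.eq_zero x₀ ((IsNilpotent.map_iff hJ).mp (by rw [hx₀]; exact hx)), map_zero]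

theorem isReduced_pullback {Z : Scheme.{u}} [IsReduced Z] (f : Z ⟶ Spec (CommRingCat.of k)) :
    IsReduced (pullback f (Spec.map (CommRingCat.ofHom (algebraMap k K)))) := by
  apply +allowSynthFailures @IsReduced.of_openCover
    (𝒰 := Scheme.Pullback.openCoverOfLeft Z.affineOpenCover.openCover f
      (Spec.map (CommRingCat.ofHom (algebraMap k K))))
  intro i
  let A := Z.affineOpenCover.X i
  let j : Spec (CommRingCat.of A) ⟶ Z := Z.affineOpenCover.f i
  letI : Algebra k A := (Spec.preimage (j ≫ f)).hom.toAlgebra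
  have hj : j ≫ f = Spec.map (CommRingCat.ofHom (algebraMap k A)) := (Spec.map_preimage _).symm
  have : IsOpenImmersion j := Z.affineOpenCover.map_prop i
  have hA : IsReduced (Spec (CommRingCat.of A)) := isReduced_of_isOpenImmersion j
  rw [affine_isReduced_iff] at hA
  have hT : _root_.IsReduced (A ⊗[k] K) := isReduced_tensor A
  haveI : IsReduced (Spec (CommRingCat.of (A ⊗[k] K))) := (affine_isReduced_iff _).mpr hT
  let e : pullback (j ≫ f) (Spec.map (CommRingCat.ofHom (algebraMap k K))) ≅ Spec (CommRingCat.of (A ⊗[k] K)) :=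
    pullback.congrHom hj rfl ≪≫ pullbackSpecIso k A K
  show IsReduced (pullback (j ≫ f) (Spec.map (CommRingCat.ofHom (algebraMap k K))))
  exact isReduced_of_isOpenImmersion e.hom

/-- The inverse image of a radical ideal sheaf is radical. -/
theorem comap_vanishingIdeal {Y : Scheme.{u}} (fY : Y ⟶ Spec (CommRingCat.of k))
    (T' : TopologicalSpace.Closeds Y) :
    (Scheme.IdealSheafData.vanishingIdeal T').comap (pullback.fst fY (Spec.map (CommRingCat.ofHom (algebraMap k K)))) =
      Scheme.IdealSheafData.vanishingIdeal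
        (T'.preimage (pullback.fst fY (Spec.map (CommRingCat.ofHom (algebraMap k K)))).continuous) := by
  let s := Spec.map (CommRingCat.ofHom (algebraMap k K))
  let π := pullback.fst fY s
  let V := Scheme.IdealSheafData.vanishingIdeal T'
  haveI : IsReduced V.subscheme := Groth.L18.isReduced_vanishingIdeal_subscheme T'
  haveI := isReduced_pullback (K := K) (V.subschemeι ≫ fY)
  haveI : IsReduced (pullback π V.subschemeι) :=
    isReduced_of_isOpenImmersion ((pullbackSymmetry π V.subschemeι) ≪≫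
      pullbackRightPullbackFstIso fY s V.subschemeι).hom
  show (pullback.fst π V.subschemeι).ker = _
  rw [Groth.L23.SchKer.ker_eq_vanishingIdeal (pullback.fst π V.subschemeι)]
  congr 1
  ext1
  show closure (Set.range (pullback.fst π V.subschemeι)) = π ⁻¹' (T' : Set Y)
  rw [Scheme.Pullback.range_fst, Scheme.IdealSheafData.range_subschemeι]
  simp only [V, Scheme.IdealSheafData.coe_support_vanishingIdeal]
  exact (T'.isClosed.preimage π.continuous).closure_eq

omit [Field k] [Field K] [Algebra k K]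

section Separated

variable {X Y : Scheme.{u}}

theorem appLE_eq_map {g : X ⟶ X} (h : g = 𝟙 X) {U V : X.Opens} {hVU : V ≤ U} (e : V ≤ g ⁻¹ᵁ U) :
    g.appLE U V e = X.presheaf.map (homOfLE hVU).op := by
  subst h
  simp [Scheme.Hom.appLE]

/-- The legs of a pushout of rings generate it. -/
theorem closure_of_isPushout {R A B P : CommRingCat.{u}} {f : R ⟶ A} {g : R ⟶ B} {inl : A ⟶ P} {inr : B ⟶ P}
    (h : IsPushout f g inl inr) : Subring.closure (Set.range inl.hom ∪ Set.range inr.hom) = ⊤ := by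
  set S := Subring.closure (Set.range inl.hom ∪ Set.range inr.hom)
  let a : A ⟶ CommRingCat.of S :=
    CommRingCat.ofHom (inl.hom.codRestrict S fun x => Subring.subset_closure (Or.inl ⟨x, rfl⟩))
  let b : B ⟶ CommRingCat.of S :=
    CommRingCat.ofHom (inr.hom.codRestrict S fun x => Subring.subset_closure (Or.inr ⟨x, rfl⟩))
  let d : P ⟶ CommRingCat.of S := h.desc a b (by
    ext x
    exact congrArg (fun m : R ⟶ P => m.hom x) h.w)
  have hd : d ≫ CommRingCat.ofHom S.subtype = 𝟙 P := by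
    apply h.hom_ext
    · rw [← Category.assoc, h.inl_desc, Category.comp_id]; ext x; rfl
    · rw [← Category.assoc, h.inr_desc, Category.comp_id]; ext x; rfl
  refine top_le_iff.mp fun p _ => ?_
  have h1 : S.subtype (d.hom p) = p := congrArg (fun m : P ⟶ P => m.hom p) hd
  exact h1 ▸ (d.hom p).2

theorem isSeparated_iff_cover [IsAffine Y] (f : X ⟶ Y) {ι : Type v} (U : ι → X.Opens)
    (hU : ∀ i, IsAffineOpen (U i)) (hcov : ⨆ i, U i = ⊤) :
    IsSeparated f ↔ ∀ i j, IsAffineOpen (U i ⊓ U j) ∧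
      Subring.closure (Set.range (X.presheaf.map (homOfLE (inf_le_left : U i ⊓ U j ≤ U i)).op).hom ∪
        Set.range (X.presheaf.map (homOfLE (inf_le_right : U i ⊓ U j ≤ U j)).op).hom) = ⊤ := by
  let p₁ := pullback.fst f f
  let p₂ := pullback.snd f f
  let Δ := pullback.diagonal f
  have H : IsPullback p₁ p₂ f f := IsPullback.of_hasPullback f f
  have e1 : ∀ i, U i ≤ f ⁻¹ᵁ ⊤ := fun i => le_top
  let W : ι × ι → (pullback f f).Opens := fun ij => p₁ ⁻¹ᵁ U ij.1 ⊓ p₂ ⁻¹ᵁ U ij.2
  have hWaff : ∀ ij, IsAffineOpen (W ij) := fun ij => by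
    have : IsAffine _ := hU ij.1
    have : IsAffine _ := hU ij.2
    have : IsAffine _ := isAffineOpen_top Y
    exact .of_isIso (Scheme.Hom.isPullback_resLE H (e1 ij.2) (e1 ij.1) (UY := W ij) rfl).isoPullback.hom
  have hWcov : ⨆ ij, ((⟨W ij, hWaff ij⟩ : (pullback f f).affineOpens) : (pullback f f).Opens) = ⊤ := by
    refine top_le_iff.mp fun x _ => ?_
    obtain ⟨i, hi⟩ := TopologicalSpace.Opens.mem_iSup.mp (hcov.ge (TopologicalSpace.Opens.mem_top (p₁ x)))
    obtain ⟨j, hj⟩ := TopologicalSpace.Opens.mem_iSup.mp (hcov.ge (TopologicalSpace.Opens.mem_top (p₂ x)))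
    exact TopologicalSpace.Opens.mem_iSup.mpr ⟨(i, j), hi, hj⟩
  have hpre : ∀ ij, Δ ⁻¹ᵁ W ij = U ij.1 ⊓ U ij.2 := fun ij => by
    simp only [W, Scheme.Hom.preimage_inf, ← Scheme.Hom.comp_preimage, Δ, p₁, p₂, pullback.diagonal_fst,
      pullback.diagonal_snd, Scheme.Hom.id_preimage]
  have hpush : ∀ ij, IsPushout (f.appLE ⊤ (U ij.1) (e1 ij.1)) (f.appLE ⊤ (U ij.2) (e1 ij.2))
      (p₁.appLE (U ij.1) (W ij) inf_le_left) (p₂.appLE (U ij.2) (W ij) inf_le_right) := fun ij =>
    (isIso_pushoutSection_iff H (e1 ij.2) (e1 ij.1) (UY := W ij) rfl).mp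
      (isIso_pushoutSection_of_isAffineOpen H (e1 ij.2) (e1 ij.1) (UY := W ij) rfl (isAffineOpen_top Y)
        (hU ij.2) (hU ij.1))
  have hr1 : ∀ ij (a : Γ(X, U ij.1)), (Δ.appLE (W ij) (U ij.1 ⊓ U ij.2) (hpre ij).ge).hom
      ((p₁.appLE (U ij.1) (W ij) inf_le_left).hom a) =
        (X.presheaf.map (homOfLE (inf_le_left : U ij.1 ⊓ U ij.2 ≤ U ij.1)).op).hom a := fun ij a => by
    have h : p₁.appLE (U ij.1) (W ij) inf_le_left ≫ Δ.appLE (W ij) (U ij.1 ⊓ U ij.2) (hpre ij).ge =
        X.presheaf.map (homOfLE (inf_le_left : U ij.1 ⊓ U ij.2 ≤ U ij.1)).op := by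
      rw [Scheme.Hom.appLE_comp_appLE]
      exact appLE_eq_map (show Δ ≫ p₁ = 𝟙 X by simp [Δ, p₁]) _
    exact congrArg (fun m : Γ(X, U ij.1) ⟶ Γ(X, U ij.1 ⊓ U ij.2) => m.hom a) h
  have hr2 : ∀ ij (a : Γ(X, U ij.2)), (Δ.appLE (W ij) (U ij.1 ⊓ U ij.2) (hpre ij).ge).hom
      ((p₂.appLE (U ij.2) (W ij) inf_le_right).hom a) =
        (X.presheaf.map (homOfLE (inf_le_right : U ij.1 ⊓ U ij.2 ≤ U ij.2)).op).hom a := fun ij a => by
    have h : p₂.appLE (U ij.2) (W ij) inf_le_right ≫ Δ.appLE (W ij) (U ij.1 ⊓ U ij.2) (hpre ij).ge =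
        X.presheaf.map (homOfLE (inf_le_right : U ij.1 ⊓ U ij.2 ≤ U ij.2)).op := by
      rw [Scheme.Hom.appLE_comp_appLE]
      exact appLE_eq_map (show Δ ≫ p₂ = 𝟙 X by simp [Δ, p₂]) _
    exact congrArg (fun m : Γ(X, U ij.2) ⟶ Γ(X, U ij.1 ⊓ U ij.2) => m.hom a) h
  have hsurj : ∀ ij, Function.Surjective (Δ.appLE (W ij) (U ij.1 ⊓ U ij.2) (hpre ij).ge).hom ↔
      Subring.closure (Set.range (X.presheaf.map (homOfLE (inf_le_left : U ij.1 ⊓ U ij.2 ≤ U ij.1)).op).hom ∪
        Set.range (X.presheaf.map (homOfLE (inf_le_right : U ij.1 ⊓ U ij.2 ≤ U ij.2)).op).hom) = ⊤ := by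
    intro ij
    set ψ := (Δ.appLE (W ij) (U ij.1 ⊓ U ij.2) (hpre ij).ge).hom
    have himg : (Subring.closure (Set.range (p₁.appLE (U ij.1) (W ij) inf_le_left).hom ∪
        Set.range (p₂.appLE (U ij.2) (W ij) inf_le_right).hom)).map ψ =
        Subring.closure (Set.range (X.presheaf.map (homOfLE (inf_le_left : U ij.1 ⊓ U ij.2 ≤ U ij.1)).op).hom ∪
          Set.range (X.presheaf.map (homOfLE (inf_le_right : U ij.1 ⊓ U ij.2 ≤ U ij.2)).op).hom) := by
      rw [RingHom.map_closure, Set.image_union, ← Set.range_comp, ← Set.range_comp,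
        show (ψ ∘ (p₁.appLE (U ij.1) (W ij) inf_le_left).hom) = _ from funext (hr1 ij),
        show (ψ ∘ (p₂.appLE (U ij.2) (W ij) inf_le_right).hom) = _ from funext (hr2 ij)]
    rw [closure_of_isPushout (hpush ij), ← RingHom.range_eq_map] at himg
    rw [← himg, RingHom.range_eq_top]
  rw [show IsSeparated f ↔ IsClosedImmersion Δ from ⟨fun h => h.1, fun h => ⟨h⟩⟩,
    HasAffineProperty.iff_of_iSup_eq_top (P := @IsClosedImmersion) (fun ij => ⟨W ij, hWaff ij⟩) hWcov]
  have key : ∀ ij : ι × ι, (IsAffine (Δ ⁻¹ᵁ W ij).toScheme ∧ Function.Surjective (Δ ∣_ W ij).appTop) ↔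
      (IsAffineOpen (U ij.1 ⊓ U ij.2) ∧
      Subring.closure (Set.range (X.presheaf.map (homOfLE (inf_le_left : U ij.1 ⊓ U ij.2 ≤ U ij.1)).op).hom ∪
        Set.range (X.presheaf.map (homOfLE (inf_le_right : U ij.1 ⊓ U ij.2 ≤ U ij.2)).op).hom) = ⊤) := by
    intro ij
    rw [← hsurj ij]
    refine and_congr ?_ ?_
    · show IsAffineOpen (Δ ⁻¹ᵁ W ij) ↔ _
      rw [hpre]
    · have h : Arrow.mk (Δ ∣_ W ij).appTop ≅ Arrow.mk (Δ.appLE (W ij) (U ij.1 ⊓ U ij.2) (hpre ij).ge) :=
        Arrow.isoMk (W ij).topIso ((Δ ⁻¹ᵁ W ij).topIso ≪≫ X.presheaf.mapIso (eqToIso (hpre ij).symm).op) (by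
          simp [Scheme.Hom.appLE, Scheme.Opens.topIso, ← Functor.map_comp]
          rfl)
      exact (MorphismProperty.surjective CommRingCat).arrow_mk_iso_iff h
  exact ⟨fun h i j => (key (i, j)).mp (h (i, j)), fun h ij => (key ij).mpr (h ij.1 ij.2)⟩

end Separated

end Groth.L07.DescendClosed
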