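import Groth.Prelude.Def_PolLaw
import Groth.Prelude.Def_PolLaw2
import Mathlib.RingTheory.LocalRing.Module
import Mathlib.RingTheory.LocalProperties.Basic
import Mathlib.LinearAlgebra.Determinant
import Mathlib.Tactic

/-! The determinant law of a finite projective module. -/

set_option autoImplicit false
set_option linter.all false

universe u

open TensorProduct

namespace Groth.L07.DetLaw

variable {A B M : Type u} [CommRing A] [CommRing B] [Algebra A B]
  [AddCommGroup M] [Module A M] [Module B M] [IsScalarTower A B M]
  {n : ℕ} (π : (Fin n → A) →ₗ[A] M) (i : M →ₗ[A] (Fin n → A))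

/-- The action of `x` on `M`, extended by the identity to a free module containing `M` as a summand. -/
noncomputable def extAct (R : Type u) [CommRing R] [Algebra A R] (x : R ⊗[A] B) :
    Module.End R (R ⊗[A] (Fin n → A)) :=
  i.baseChange R ∘ₗ PolLaw.actEnd M R x ∘ₗ π.baseChange R + (1 - i.baseChange R ∘ₗ π.baseChange R)

noncomputable def extDet (R : Type u) [CommRing R] [Algebra A R] (x : R ⊗[A] B) : R :=
  LinearMap.det (extAct π i R x)

variable (hπi : π ∘ₗ i = LinearMap.id)
include hπi

theorem bc_apply (R : Type u) [CommRing R] [Algebra A R] (z : R ⊗[A] M) :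
    π.baseChange R (i.baseChange R z) = z := by
  induction z using TensorProduct.induction_on with
  | zero => simp
  | tmul r m =>
    simp only [LinearMap.baseChange_tmul]
    rw [show π (i m) = m from LinearMap.congr_fun hπi m]
  | add a b ha hb => simp only [map_add, ha, hb]

theorem extAct_one (R : Type u) [CommRing R] [Algebra A R] : extAct π i R (1 : R ⊗[A] B) = 1 := by
  simp only [extAct, map_one, Module.End.one_eq_id, LinearMap.id_comp]
  abel

theorem extAct_mul (R : Type u) [CommRing R] [Algebra A R] (x y : R ⊗[A] B) :
    extAct π i R (x * y) = extAct π i R x * extAct π i R y := by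
  refine LinearMap.ext fun z => ?_
  simp only [extAct, Module.End.mul_apply, map_mul, LinearMap.add_apply, LinearMap.sub_apply,
    LinearMap.comp_apply, Module.End.one_apply, map_add, map_sub, bc_apply π i hπi]
  simp

theorem extDet_one (R : Type u) [CommRing R] [Algebra A R] : extDet π i R (1 : R ⊗[A] B) = 1 := by
  rw [extDet, extAct_one π i hπi, map_one]

theorem extDet_mul (R : Type u) [CommRing R] [Algebra A R] (x y : R ⊗[A] B) :
    extDet π i R (x * y) = extDet π i R x * extDet π i R y := by
  rw [extDet, extAct_mul π i hπi, map_mul]; rfl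

omit hπi in
theorem rTensor_bc {N P : Type u} [AddCommGroup N] [Module A N] [AddCommGroup P] [Module A P]
    (f : N →ₗ[A] P) {R R' : Type u} [CommRing R] [Algebra A R] [CommRing R'] [Algebra A R']
    (φ : R →ₐ[A] R') (z : R ⊗[A] N) :
    φ.toLinearMap.rTensor P (f.baseChange R z) = f.baseChange R' (φ.toLinearMap.rTensor N z) := by
  induction z using TensorProduct.induction_on with
  | zero => simp
  | tmul r m => simp
  | add a b ha hb => simp only [map_add, ha, hb]

omit hπi in
theorem rTensor_extAct {R R' : Type u} [CommRing R] [Algebra A R] [CommRing R'] [Algebra A R']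
    (φ : R →ₐ[A] R') (x : R ⊗[A] B) (z : R ⊗[A] (Fin n → A)) :
    φ.toLinearMap.rTensor _ (extAct π i R x z) =
      extAct π i R' (Algebra.TensorProduct.map φ (AlgHom.id A B) x) (φ.toLinearMap.rTensor _ z) := by
  simp only [extAct, LinearMap.add_apply, LinearMap.sub_apply, LinearMap.comp_apply,
    Module.End.one_apply, map_add, map_sub, rTensor_bc, PolLaw.rTensor_actEnd]

omit hπi in
theorem repr_rTensor {R R' : Type u} [CommRing R] [Algebra A R] [CommRing R'] [Algebra A R']
    (φ : R →ₐ[A] R') (z : R ⊗[A] (Fin n → A)) (k : Fin n) :
    (Algebra.TensorProduct.basis R' (Pi.basisFun A (Fin n))).repr (φ.toLinearMap.rTensor _ z) k =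
      φ ((Algebra.TensorProduct.basis R (Pi.basisFun A (Fin n))).repr z k) := by
  induction z using TensorProduct.induction_on with
  | zero => simp
  | tmul r m => simp [Algebra.TensorProduct.basis_repr_tmul]
  | add a b ha hb => simp only [map_add, Finsupp.add_apply, ha, hb]

omit hπi in
theorem extDet_map {R R' : Type u} [CommRing R] [Algebra A R] [CommRing R'] [Algebra A R']
    (φ : R →ₐ[A] R') (x : R ⊗[A] B) :
    extDet π i R' (Algebra.TensorProduct.map φ (AlgHom.id A B) x) = φ (extDet π i R x) := by
  classical
  unfold extDet
  rw [← LinearMap.det_toMatrix (Algebra.TensorProduct.basis R' (Pi.basisFun A (Fin n))),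
    ← LinearMap.det_toMatrix (Algebra.TensorProduct.basis R (Pi.basisFun A (Fin n))), AlgHom.map_det]
  congr 1
  ext k l
  simp only [AlgHom.mapMatrix_apply, Matrix.map_apply, LinearMap.toMatrix_apply,
    Algebra.TensorProduct.basis_apply]
  rw [← repr_rTensor φ, rTensor_extAct, LinearMap.rTensor_tmul, AlgHom.toLinearMap_apply, map_one]

theorem extDet_local (R : Type u) [CommRing R] [IsLocalRing R] [Algebra A R] [Module.Finite A M]
    [Module.Projective A M] (x : R ⊗[A] B) : extDet π i R x = PolLaw.detAct M R x := by
  let P := π.baseChange R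
  let I := i.baseChange R
  haveI : Module.Free R (R ⊗[A] M) := Module.free_of_flat_of_isLocalRing
  let C := LinearMap.ker P
  let q : (R ⊗[A] (Fin n → A)) →ₗ[R] C := LinearMap.codRestrict C (1 - I ∘ₗ P) fun z => by
    simp [C, P, I, bc_apply π i hπi]
  have hq : ∀ z : C, q z.1 = z := fun z => by
    apply Subtype.ext
    have := z.2
    simp only [C, LinearMap.mem_ker] at this
    simp [q, this]
  haveI : Module.Finite R C := Module.Finite.of_surjective q fun z => ⟨z.1, hq z⟩
  haveI : Module.Projective R C := Module.Projective.of_split C.subtype q (LinearMap.ext hq)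
  haveI : Module.Flat R C := Module.Flat.of_projective
  haveI : Module.Free R C := by convert Module.free_of_flat_of_isLocalRing (R := R) (P := C)
  let e : (R ⊗[A] (Fin n → A)) ≃ₗ[R] (R ⊗[A] M) × C :=
    { toLinearMap := LinearMap.prod P q
      invFun := fun w => I w.1 + w.2.1
      left_inv := fun z => by simp [q]
      right_inv := fun w => by
        have := w.2.2
        simp only [C, LinearMap.mem_ker] at this
        refine Prod.ext ?_ (Subtype.ext ?_)
        · simp [P, I, bc_apply π i hπi, this] at *
        · simp [q, P, I, bc_apply π i hπi] at * }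
  have h : extAct π i R x = (e.symm : _ →ₗ[R] R ⊗[A] (Fin n → A)) ∘ₗ
      ((PolLaw.actEnd M R x).prodMap (1 : Module.End R C)) ∘ₗ (e : _ →ₗ[R] (R ⊗[A] M) × C) := by
    refine LinearMap.ext fun z => ?_
    simp [extAct, e, q, P, I]
  rw [extDet, h]
  refine Eq.trans (LinearMap.det_conj (M := (R ⊗[A] M) × C) (N := R ⊗[A] (Fin n → A)) ((PolLaw.actEnd M R x).prodMap (1 : Module.End R C)) e.symm) ?_
  rw [LinearMap.det_prodMap, map_one, mul_one]
  rfl

omit hπi in
/-- The value on a test semiring, computed over the isomorphic ring. -/
noncomputable def extFun (S : Type u) [CommSemiring S] [Algebra A S] (x : S ⊗[A] B) : S ⊗[A] A :=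
  (Algebra.TensorProduct.lid A S (extDet π i (A ⊗[A] S) (PolLaw.toRing A B S x))) ⊗ₜ[A] (1 : A)

omit hπi in
/-- The determinant law. -/
noncomputable def detLawProj : B →ₚₗ[A] A where
  toFun' S _ _ := extFun π i S
  isCompat' {S} _ _ {S'} _ _ φ := by
    funext x
    let ψ : A ⊗[A] S →ₐ[A] A ⊗[A] S' := Algebra.TensorProduct.map (AlgHom.id A A) φ
    have hψ : Algebra.TensorProduct.map ψ (AlgHom.id A B) (PolLaw.toRing A B S x) =
        PolLaw.toRing A B S' (φ.toLinearMap.rTensor B x) := by
      induction x using TensorProduct.induction_on with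
      | zero => simp
      | tmul s b => simp [ψ, Algebra.TensorProduct.map_tmul, Algebra.TensorProduct.lid_symm_apply,
          LinearMap.rTensor_tmul]
      | add x y hx hy => simp only [map_add, hx, hy]
    have hlid : ∀ r : A ⊗[A] S,
        Algebra.TensorProduct.lid A S' (ψ r) = φ (Algebra.TensorProduct.lid A S r) := by
      intro r
      induction r using TensorProduct.induction_on with
      | zero => simp
      | tmul a s => simp [ψ, Algebra.TensorProduct.map_tmul, Algebra.TensorProduct.lid_tmul]
      | add x y hx hy => simp only [map_add, hx, hy]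
    show φ.toLinearMap.rTensor A (extFun π i S x) = extFun π i S' (φ.toLinearMap.rTensor B x)
    unfold extFun
    rw [LinearMap.rTensor_tmul, ← hψ, extDet_map, AlgHom.toLinearMap_apply, hlid]

omit hπi in
theorem law_apply (S : Type u) [CommRing S] [Algebra A S] (x : S ⊗[A] B) :
    (detLawProj π i).toFun' S x = extDet π i S x ⊗ₜ[A] (1 : A) := by
  show extFun π i S x = _
  unfold extFun
  rw [← AlgEquiv.coe_toAlgHom, ← extDet_map]
  congr
  induction x using TensorProduct.induction_on with
  | zero => simp
  | tmul s b => simp [Algebra.TensorProduct.map_tmul, Algebra.TensorProduct.lid_symm_apply]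
  | add x y hx hy => simp only [map_add, hx, hy]

theorem law_isMult : PolLaw.IsMult (detLawProj π i : B →ₚₗ[A] A) := by
  intro S _ _
  refine ⟨?_, fun x y => ?_⟩
  · show extFun π i S 1 = 1
    unfold extFun
    have h : PolLaw.toRing A B S 1 = 1 := by
      simp [Algebra.TensorProduct.one_def, Algebra.TensorProduct.map_tmul, Algebra.TensorProduct.lid_symm_apply]
    have h1 : Algebra.TensorProduct.lid A S 1 = 1 := by
      simp [Algebra.TensorProduct.one_def, Algebra.TensorProduct.lid_tmul]
    rw [h, extDet_one π i hπi, h1]; rfl
  · show extFun π i S (x * y) = extFun π i S x * extFun π i S y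
    unfold extFun
    simp [extDet_mul π i hπi, Algebra.TensorProduct.tmul_mul_tmul]

omit hπi in
/-- A polynomial law with values in the base is determined by its members over local rings. -/
theorem ext_of_local {N N' : B →ₚₗ[A] A}
    (h : ∀ (S : Type u) [CommRing S] [IsLocalRing S] [Algebra A S] (x : S ⊗[A] B),
      N.toFun' S x = N'.toFun' S x) : N = N' := by
  have key : ∀ (R : Type u) [CommRing R] [Algebra A R] (x : R ⊗[A] B), N.toFun' R x = N'.toFun' R x := by
    intro R _ _ x
    apply (Algebra.TensorProduct.rid A A R).injective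
    rw [← sub_eq_zero]
    refine eq_zero_of_localization _ fun m _ => ?_
    let φ := IsScalarTower.toAlgHom A R (Localization.AtPrime m)
    have hc : ∀ z : R ⊗[A] A, algebraMap R (Localization.AtPrime m) (Algebra.TensorProduct.rid A A R z) =
        Algebra.TensorProduct.rid A A (Localization.AtPrime m) (φ.toLinearMap.rTensor A z) := by
      intro z
      induction z using TensorProduct.induction_on with
      | zero => simp
      | tmul r a => simp [φ, Algebra.smul_def, ← IsScalarTower.algebraMap_apply]
      | add a b ha hb => simp only [map_add, ha, hb]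
    rw [map_sub, hc, hc, N.isCompat_apply', N'.isCompat_apply', h, sub_self]
  refine PolynomialLaw.ext (funext fun S => funext fun _ => funext fun _ => funext fun x => ?_)
  let e := (Algebra.TensorProduct.lid A S).symm
  have h1 := key (A ⊗[A] S) (e.toAlgHom.toLinearMap.rTensor B x)
  rw [← N.isCompat_apply', ← N'.isCompat_apply'] at h1
  exact Function.LeftInverse.injective (g := (Algebra.TensorProduct.lid A S).toAlgHom.toLinearMap.rTensor A)
    (fun z => by
      induction z using TensorProduct.induction_on with
      | zero => simp
      | tmul a b => simp [e]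
      | add a b ha hb => simp only [map_add, ha, hb]) h1

end Groth.L07.DetLaw
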