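import Groth.Prelude.Def_DRing2
import Groth.Agent.L28.TorFacts
import Groth.Agent.L02.Flat
import Groth.Agent.L07.Ferrand
import Groth.Agent.L01.Regular
import Mathlib.RingTheory.LocalRing.Module
import Mathlib.RingTheory.TensorProduct.Free
import Mathlib.LinearAlgebra.TensorProduct.RightExactness
import Mathlib.RingTheory.KrullDimension.Regular
import Mathlib.RingTheory.Ideal.Cotangent
import Mathlib.RingTheory.Flat.Equalizer

/-! Finite free resolutions, their behaviour under base change, and regularity from a finite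
resolution of the residue field. -/

namespace Groth.L07.DiagRes

open CategoryTheory CategoryTheory.Limits TensorProduct

set_option linter.style.haveILetI false

universe u

/-- A finite free resolution of length `n`, ending in a finite projective module. -/
def Res (E : Type u) [CommRing E] : ℕ → ∀ (M : Type u) [AddCommGroup M] [Module E M], Prop
  | 0, M, _, _ => Module.Projective E M ∧ Module.Finite E M
  | n + 1, M, _, _ => ∃ (m : ℕ) (g : (Fin m → E) →ₗ[E] M), Function.Surjective g ∧
      Res E n (LinearMap.ker g)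

variable {E : Type u} [CommRing E]

theorem res_of_equiv : ∀ {n : ℕ} {M M' : Type u} [AddCommGroup M] [Module E M] [AddCommGroup M']
    [Module E M'], (M ≃ₗ[E] M') → Res E n M → Res E n M'
  | 0, M, M', _, _, _, _, e, ⟨h, hf⟩ => by
    haveI := h; haveI := hf
    exact ⟨Module.Projective.of_equiv e, Module.Finite.equiv e⟩
  | n + 1, M, M', _, _, _, _, e, ⟨m, g, hg, h⟩ => by
    refine ⟨m, e.toLinearMap ∘ₗ g, e.surjective.comp hg, res_of_equiv ?_ h⟩
    exact LinearEquiv.ofEq _ _ (LinearEquiv.ker_comp _ _).symm

/-- The projective dimension is bounded by the length. -/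
theorem hasProjectiveDimensionLT_of_res : ∀ {n : ℕ} {M : Type u} [AddCommGroup M] [Module E M],
    Res E n M → HasProjectiveDimensionLT (ModuleCat.of E M) (n + 1)
  | 0, M, _, _, ⟨h, _⟩ => by
    rw [← projective_iff_hasProjectiveDimensionLT_one, ← IsProjective.iff_projective]
    exact h
  | n + 1, M, _, _, ⟨m, g, hg, h⟩ => by
    have hex := LinearMap.exact_subtype_ker_map g
    have hS : (ShortComplex.mk (ModuleCat.ofHom (LinearMap.ker g).subtype) (ModuleCat.ofHom g)
        (ModuleCat.hom_ext (LinearMap.ext fun x => (hex _).mpr ⟨x, rfl⟩))).ShortExact :=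
      { exact := (ShortComplex.moduleCat_exact_iff _).mpr fun x hx => (hex x).mp hx
        mono_f := (ModuleCat.mono_iff_injective _).mpr Subtype.val_injective
        epi_g := (ModuleCat.epi_iff_surjective _).mpr hg }
    exact (hS.hasProjectiveDimensionLT_X₃_iff n ((IsProjective.iff_projective _).mp
      (inferInstanceAs (Module.Projective E (Fin m → E))))).mpr (hasProjectiveDimensionLT_of_res h)

/-- The Tor dimension only depends on the isomorphism class. -/
theorem hasTorDimLE_congr {M M' : Type u} [AddCommGroup M] [Module E M] [AddCommGroup M'] [Module E M']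
    {n : ℕ} (e : M ≃ₗ[E] M') (h : DRing.HasTorDimLE E n M) : DRing.HasTorDimLE E n M' := by
  intro N _ _ p hp
  haveI := h N p hp
  let i := ((CategoryTheory.Tor (ModuleCat.{u} E) p).mapIso e.toModuleIso).app (ModuleCat.of E N)
  exact i.toLinearEquiv.toEquiv.symm.subsingleton

section BaseChange

variable {E' : Type u} [CommRing E'] [Algebra E E']

/-- Extension of scalars of a kernel. -/
theorem exists_kerEquiv {M : Type u} [AddCommGroup M] [Module E M] {m : ℕ}
    (g : (Fin m → E) →ₗ[E] M) (hg : Function.Surjective g)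
    (hinj : Function.Injective ((LinearMap.ker g).subtype.baseChange E')) :
    ∃ g' : (Fin m → E') →ₗ[E'] E' ⊗[E] M, Function.Surjective g' ∧
      Nonempty (E' ⊗[E] LinearMap.ker g ≃ₗ[E'] LinearMap.ker g') := by
  let π := TensorProduct.piScalarRight E E' E' (Fin m)
  have hs : Function.Surjective (g.baseChange E') := by
    rw [LinearMap.baseChange_eq_ltensor]; exact LinearMap.lTensor_surjective E' hg
  refine ⟨g.baseChange E' ∘ₗ π.symm.toLinearMap, hs.comp π.symm.surjective, ⟨?_⟩⟩
  have hex : Function.Exact ((LinearMap.ker g).subtype.baseChange E') (g.baseChange E') := by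
    simp only [LinearMap.baseChange_eq_ltensor]
    exact lTensor_exact (M := ↥(LinearMap.ker g)) E' (LinearMap.exact_subtype_ker_map g) hg
  refine LinearEquiv.ofInjective (π.toLinearMap ∘ₗ (LinearMap.ker g).subtype.baseChange E')
    (π.injective.comp hinj) ≪≫ₗ LinearEquiv.ofEq _ _ ?_
  ext y
  rw [LinearMap.mem_range, LinearMap.mem_ker, LinearMap.comp_apply, hex]
  exact ⟨fun ⟨x, hx⟩ => ⟨x, by rw [← hx]; exact (π.symm_apply_apply _).symm⟩,
    fun ⟨x, hx⟩ => ⟨x, by rw [LinearMap.comp_apply, hx]; exact π.apply_symm_apply _⟩⟩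

/-- Resolutions survive a flat extension of scalars. -/
theorem res_baseChange_flat [Module.Flat E E'] : ∀ {n : ℕ} {M : Type u} [AddCommGroup M] [Module E M],
    Res E n M → Res E' n (E' ⊗[E] M)
  | 0, M, _, _, ⟨h, hf⟩ => by
    haveI := h; haveI := hf
    exact ⟨inferInstance, inferInstance⟩
  | n + 1, M, _, _, ⟨m, g, hg, h⟩ => by
    obtain ⟨g', hg', ⟨e⟩⟩ := exists_kerEquiv (E' := E') g hg (by
      rw [LinearMap.baseChange_eq_ltensor]
      exact Module.Flat.lTensor_preserves_injective_linearMap _ Subtype.val_injective)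
    exact ⟨m, g', hg', res_of_equiv e (res_baseChange_flat h)⟩

end BaseChange

section OverBase

variable (R : Type u) [CommRing R] [Algebra R E] (K : Type u) [CommRing K] [Algebra R K]

/-- `(E ⊗ K) ⊗ W = W ⊗ K`. -/
noncomputable def tensorEquiv (W : Type u) [AddCommGroup W] [Module E W] [Module R W] [IsScalarTower R E W] :
    (E ⊗[R] K) ⊗[E] W ≃ₗ[E] W ⊗[R] K :=
  TensorProduct.comm E (E ⊗[R] K) W ≪≫ₗ (AlgebraTensorModule.assoc R E E W E K).symm ≪≫ₗ
    AlgebraTensorModule.congr (TensorProduct.rid E W) (LinearEquiv.refl R K)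

theorem tensorEquiv_tmul {W : Type u} [AddCommGroup W] [Module E W] [Module R W] [IsScalarTower R E W]
    (b : E) (k : K) (w : W) : tensorEquiv R K W ((b ⊗ₜ[R] k) ⊗ₜ[E] w) = (b • w) ⊗ₜ[R] k := by
  simp [tensorEquiv]

/-- Resolutions of modules flat over the base survive extension of the base. -/
theorem res_baseChange_base [Module.Flat R E] : ∀ {n : ℕ} {M : Type u} [AddCommGroup M] [Module E M]
    [Module R M] [IsScalarTower R E M] [Module.Flat R M],
    Res E n M → Res (E ⊗[R] K) n ((E ⊗[R] K) ⊗[E] M)
  | 0, M, _, _, _, _, _, ⟨h, hf⟩ => by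
    haveI := h; haveI := hf
    exact ⟨inferInstance, inferInstance⟩
  | n + 1, M, _, _, _, _, _, ⟨m, g, hg, h⟩ => by
    let gR : (Fin m → E) →ₗ[R] M := g.restrictScalars R
    let sR : ↥(LinearMap.ker g) →ₗ[R] (Fin m → E) := (LinearMap.ker g).subtype.restrictScalars R
    have hexR : Function.Exact sR gR := LinearMap.exact_subtype_ker_map g
    haveI : Module.Flat R (Fin m → E) :=
      Module.Flat.trans R E (Fin m → E)
    haveI : Module.Flat R (LinearMap.ker g) :=
      Groth.L02.flat_of_universallyInjective sR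
        (Groth.L02.universallyInjective_of_flat_coker sR gR Subtype.val_injective hexR hg)
    obtain ⟨g', hg', ⟨e⟩⟩ := exists_kerEquiv (E' := E ⊗[R] K) g hg (by
      intro a b hab
      apply (tensorEquiv R K _).injective
      have h1 : Function.Injective (sR.rTensor K) := by
        intro x y hxy
        refine (TensorProduct.comm R ↥(LinearMap.ker g) K).injective ?_
        refine LinearMap.lTensor_injective_of_exact_of_flat (P := M) gR hg sR Subtype.val_injective hexR K ?_
        have hc : ∀ v, sR.lTensor K (TensorProduct.comm R _ K v) = TensorProduct.comm R _ K (sR.rTensor K v) :=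
          fun v => by
            induction v using TensorProduct.induction_on with
            | zero => simp
            | tmul a b => simp
            | add a b ha hb => simp [ha, hb]
        rw [hc, hc, hxy]
      apply h1
      have hnat : ∀ z, tensorEquiv R K _ ((LinearMap.ker g).subtype.baseChange (E ⊗[R] K) z) =
          sR.rTensor K (tensorEquiv R K _ z) := by
        intro z
        induction z using TensorProduct.induction_on with
        | zero => simp
        | tmul c x =>
          induction c using TensorProduct.induction_on with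
          | zero => simp
          | tmul b k =>
            rw [LinearMap.baseChange_tmul, tensorEquiv_tmul, tensorEquiv_tmul, LinearMap.rTensor_tmul]
            rfl
          | add a b ha hb =>
            simp only [LinearMap.baseChange_tmul, TensorProduct.add_tmul, map_add] at ha hb ⊢
            rw [ha, hb]
        | add a b ha hb => simp only [map_add, ha, hb]
      rw [← hnat, ← hnat, hab])
    exact ⟨m, g', hg', res_of_equiv e (res_baseChange_base h)⟩

end OverBase

section Chain

theorem quotEquiv {m k : ℕ} (f : (Fin m → E) →ₗ[E] (Fin k → E)) (P : Submodule E (Fin m → E))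
    (Q : Submodule E (Fin k → E)) (h : LinearMap.ker f = P) (h' : LinearMap.range f = Q) :
    Nonempty (((Fin m → E) ⧸ P) ≃ₗ[E] Q) :=
  ⟨Submodule.quotEquivOfEq _ _ h.symm ≪≫ₗ f.quotKerEquivRange ≪≫ₗ LinearEquiv.ofEq _ _ h'⟩

variable [IsNoetherianRing E] (M : Type u) [AddCommGroup M] [Module E M] [Module.Finite E M]

/-- The rank of the cover of a submodule. -/
noncomputable def rk {m : ℕ} (K : Submodule E (Fin m → E)) : ℕ := (Module.Finite.exists_fin' E K).choose

/-- A cover of a submodule. -/
noncomputable def cover {m : ℕ} (K : Submodule E (Fin m → E)) : (Fin (rk K) → E) →ₗ[E] (Fin m → E) :=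
  K.subtype ∘ₗ (Module.Finite.exists_fin' E K).choose_spec.choose

theorem range_cover {m : ℕ} (K : Submodule E (Fin m → E)) : LinearMap.range (cover K) = K := by
  have hs := (Module.Finite.exists_fin' E K).choose_spec.choose_spec
  refine le_antisymm (fun x hx => ?_) fun x hx => ?_
  · obtain ⟨y, rfl⟩ := hx
    exact Subtype.prop _
  · obtain ⟨y, hy⟩ := hs ⟨x, hx⟩
    exact ⟨y, congrArg Subtype.val hy⟩

/-- The rank in degree zero. -/
noncomputable def rk₀ : ℕ := (Module.Finite.exists_fin' E M).choose

/-- The augmentation. -/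
noncomputable def ε : (Fin (rk₀ (E := E) M) → E) →ₗ[E] M := (Module.Finite.exists_fin' E M).choose_spec.choose

theorem ε_surjective : Function.Surjective (ε (E := E) M) :=
  (Module.Finite.exists_fin' E M).choose_spec.choose_spec

/-- The chain of syzygies. -/
noncomputable def chain : ℕ → Σ m : ℕ, Submodule E (Fin m → E)
  | 0 => ⟨rk₀ (E := E) M, LinearMap.ker (ε M)⟩
  | j + 1 => ⟨rk (chain j).2, LinearMap.ker (cover (chain j).2)⟩

/-- The terms. -/
abbrev F (j : ℕ) : Type u := Fin (chain (E := E) M j).1 → E

/-- The cycles. -/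
noncomputable abbrev Z (j : ℕ) : Submodule E (F (E := E) M j) := (chain M j).2

/-- The differential. -/
noncomputable def d (j : ℕ) : F (E := E) M (j + 1) →ₗ[E] F (E := E) M j := cover (Z M j)

theorem range_d (j : ℕ) : LinearMap.range (d (E := E) M j) = Z M j := range_cover _

theorem ker_d (j : ℕ) : LinearMap.ker (d (E := E) M j) = Z M (j + 1) := rfl

/-- The augmentation, on the first term. -/
noncomputable def eps : F (E := E) M 0 →ₗ[E] M := ε (E := E) M

theorem eps_surjective : Function.Surjective (eps (E := E) M) := ε_surjective M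

theorem ker_eps : LinearMap.ker (eps (E := E) M) = Z (E := E) M 0 := rfl

attribute [irreducible] chain d eps

/-- The next syzygy covers the cycles. -/
theorem stepEquiv (j : ℕ) :
    Nonempty ((F (E := E) M (j + 1) ⧸ Z (E := E) M (j + 1)) ≃ₗ[E] ↥(Z (E := E) M j)) :=
  quotEquiv (d (E := E) M j) _ _ (ker_d (E := E) M j) (range_d (E := E) M j)

/-- Projectivity of an extended syzygy gives a finite resolution after flat extension. -/
theorem res_of_projective (E' : Type u) [CommRing E'] [Algebra E E'] [Module.Flat E E'] (n : ℕ)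
    (h : Module.Projective E' (E' ⊗[E] (F (E := E) M n ⧸ Z (E := E) M n))) : Res E' n (E' ⊗[E] M) := by
  have key : ∀ (k j : ℕ), j + k = n → Res E' k (E' ⊗[E] (F (E := E) M j ⧸ Z (E := E) M j)) := by
    intro k
    induction k with
    | zero =>
      intro j hj
      obtain rfl : j = n := by omega
      exact ⟨h, inferInstance⟩
    | succ k ih =>
      intro j hj
      obtain ⟨g', hg', ⟨e⟩⟩ := exists_kerEquiv (E' := E') (Z (E := E) M j).mkQ (Submodule.mkQ_surjective _) (by
        rw [LinearMap.baseChange_eq_ltensor]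
        exact Module.Flat.lTensor_preserves_injective_linearMap _ Subtype.val_injective)
      obtain ⟨e₀'⟩ := stepEquiv (E := E) M j
      let e₀ : (F (E := E) M (j + 1) ⧸ Z (E := E) M (j + 1)) ≃ₗ[E] LinearMap.ker (Z (E := E) M j).mkQ :=
        e₀' ≪≫ₗ LinearEquiv.ofEq _ _ (Submodule.ker_mkQ _).symm
      exact ⟨_, g', hg', res_of_equiv (TensorProduct.AlgebraTensorModule.congr (LinearEquiv.refl E' E') e₀ ≪≫ₗ e)
        (ih (j + 1) (by omega))⟩
  let e₁ : (F (E := E) M 0 ⧸ Z (E := E) M 0) ≃ₗ[E] M := Submodule.quotEquivOfEq _ _ (ker_eps (E := E) M).symm ≪≫ₗ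
    (eps (E := E) M).quotKerEquivOfSurjective (eps_surjective M)
  exact res_of_equiv (TensorProduct.AlgebraTensorModule.congr (LinearEquiv.refl E' E') e₁)
    (key n 0 (Nat.zero_add n))

/-- Vanishing of Tor over a flat extension makes an extended syzygy flat. -/
theorem flat_of_hasTorDimLE (E' : Type u) [CommRing E'] [Algebra E E'] [Module.Flat E E'] (n : ℕ)
    (h : DRing.HasTorDimLE E' n (E' ⊗[E] M)) :
    Module.Flat E' (E' ⊗[E] (F (E := E) M n ⧸ Z (E := E) M n)) := by
  let X : ℕ → ModuleCat.{u} E' := fun j => ModuleCat.of E' (E' ⊗[E] F (E := E) M j)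
  let D : ∀ j, X (j + 1) ⟶ X j := fun j => ModuleCat.ofHom ((d M j).baseChange E')
  have hdd : ∀ j, d (E := E) M j ∘ₗ d M (j + 1) = 0 := fun j => by
    refine LinearMap.ext fun x => ?_
    have : d (E := E) M (j + 1) x ∈ LinearMap.ker (d (E := E) M j) := by
      rw [ker_d, ← range_d]; exact ⟨x, rfl⟩
    exact this
  let P : ChainComplex (ModuleCat.{u} E') ℕ := ChainComplex.of X D (fun j => ModuleCat.hom_ext (by
    show (d M j).baseChange E' ∘ₗ (d M (j + 1)).baseChange E' = 0
    rw [← LinearMap.baseChange_comp, hdd, LinearMap.baseChange_zero]))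
  have hd : ∀ j, P.d (j + 1) j = D j := fun j => ChainComplex.of_d X D j
  have hP : Groth.L28.Balance.IsRes P
      (ModuleCat.ofHom ((eps (E := E) M).baseChange E') : P.X 0 ⟶ ModuleCat.of E' (E' ⊗[E] M)) := by
    refine ⟨?_, ?_, fun j => ?_, fun j => ?_⟩
    · show Function.Surjective ((eps (E := E) M).baseChange E')
      rw [LinearMap.baseChange_eq_ltensor]
      exact LinearMap.lTensor_surjective E' (eps_surjective M)
    · rw [hd]
      show Function.Exact ((d M 0).baseChange E') ((eps (E := E) M).baseChange E')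
      simp only [LinearMap.baseChange_eq_ltensor]
      exact Module.Flat.lTensor_exact E' (LinearMap.exact_iff.mpr ((ker_eps (E := E) M).trans (range_d M 0).symm))
    · rw [hd, hd]
      show Function.Exact ((d M (j + 1)).baseChange E') ((d M j).baseChange E')
      simp only [LinearMap.baseChange_eq_ltensor]
      exact Module.Flat.lTensor_exact E' (LinearMap.exact_iff.mpr ((ker_d M j).trans (range_d M (j + 1)).symm))
    · exact (inferInstance : Module.Flat E' (E' ⊗[E] F (E := E) M j))
  -- the cover of the syzygy, extended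
  let c : F (E := E) M (n + 1) →ₗ[E] ↥(Z (E := E) M n) := (d M n).codRestrict _ fun x => (range_d (E := E) M n).le ⟨x, rfl⟩
  have hc : Function.Surjective c := fun z => by
    obtain ⟨x, hx⟩ := (range_d M n).ge z.2
    exact ⟨x, Subtype.ext hx⟩
  have hcd : c ∘ₗ d M (n + 1) = 0 :=
    LinearMap.ext fun x => Subtype.ext (LinearMap.congr_fun (hdd n) x)
  have hsub : (Z (E := E) M n).subtype ∘ₗ c = d M n := LinearMap.ext fun _ => rfl
  refine Groth.L02.flat_of_exact_of_rTensor_quotient ((Z (E := E) M n).subtype.baseChange E')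
    ((Z (E := E) M n).mkQ.baseChange E') ?_ ?_ fun J _ => ?_
  · simp only [LinearMap.baseChange_eq_ltensor]
    exact lTensor_exact (M := ↥(Z (E := E) M n)) E' (LinearMap.exact_subtype_mkQ _) (Submodule.mkQ_surjective _)
  · rw [LinearMap.baseChange_eq_ltensor]; exact LinearMap.lTensor_surjective E' (Submodule.mkQ_surjective _)
  rw [injective_iff_map_eq_zero]
  intro w hw
  let c' := c.baseChange E'
  have hc' : Function.Surjective (c'.rTensor (E' ⧸ J)) :=
    LinearMap.rTensor_surjective _ (by simp only [c', LinearMap.baseChange_eq_ltensor]; exact LinearMap.lTensor_surjective E' hc)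
  obtain ⟨x, rfl⟩ := hc' w
  rw [← LinearMap.comp_apply, ← LinearMap.rTensor_comp, ← LinearMap.baseChange_comp, hsub] at hw
  obtain ⟨e⟩ := Groth.L28.TorFacts.nonempty_iso_left (N := ModuleCat.of E' (E' ⧸ J)) P
    (ModuleCat.ofHom ((eps (E := E) M).baseChange E')) hP (n + 1)
  have hzero := (Groth.L28.HomElt.isZero_homology_iff (i := n + 2) (k := n)
    ((ComplexShape.down ℕ).prev_eq' rfl) ((ComplexShape.down ℕ).next_eq' rfl)).mp
    (IsZero.of_iso (@ModuleCat.isZero_of_subsingleton E' _ _ (h (E' ⧸ J) (n + 1) (Nat.lt_succ_self n))) e.symm)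
  have hdT : ∀ (j : ℕ) (v : (E' ⊗[E] F (E := E) M (j + 1)) ⊗[E'] (E' ⧸ J)),
      ((((MonoidalCategory.tensorRight (ModuleCat.of E' (E' ⧸ J))).mapHomologicalComplex
        (ComplexShape.down ℕ)).obj P).d (j + 1) j) v = ((d M j).baseChange E').rTensor (E' ⧸ J) v := by
    intro j v
    rw [Functor.mapHomologicalComplex_obj_d, hd]
    rfl
  obtain ⟨y, hy⟩ := hzero x (by rw [hdT]; exact hw)
  rw [hdT] at hy
  rw [← hy, ← LinearMap.comp_apply, ← LinearMap.rTensor_comp, ← LinearMap.baseChange_comp, hcd]
  simp

end Chain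

section Regular

open IsLocalRing

/-- A Noetherian local ring whose residue field has a finite resolution is regular. -/
theorem isRegularLocalRing_of_res [IsNoetherianRing E] [IsLocalRing E] {n : ℕ}
    (h : Res E n (E ⧸ maximalIdeal E)) : IsRegularLocalRing E := by
  classical
  let m := maximalIdeal E
  have hm : m ≠ ⊤ := (maximalIdeal.isMaximal E).ne_top
  have hex := LinearMap.exact_subtype_mkQ m
  have hS : (ShortComplex.mk (ModuleCat.ofHom (Submodule.subtype m)) (ModuleCat.ofHom (Submodule.mkQ m))
      (ModuleCat.hom_ext (LinearMap.ext fun x => (hex _).mpr ⟨x, rfl⟩))).ShortExact :=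
    { exact := (ShortComplex.moduleCat_exact_iff _).mpr fun x hx => (hex x).mp hx
      mono_f := (ModuleCat.mono_iff_injective _).mpr Subtype.val_injective
      epi_g := (ModuleCat.epi_iff_surjective _).mpr (Submodule.mkQ_surjective _) }
  have hpd : ∃ k, HasProjectiveDimensionLT (ModuleCat.of E m) k := by
    refine ⟨n + 1, hS.hasProjectiveDimensionLT_X₁ (n + 1) ?_ ?_⟩
    · haveI : CategoryTheory.Projective (ModuleCat.of E E) :=
        (IsProjective.iff_projective _).mp inferInstance
      haveI : HasProjectiveDimensionLT (ModuleCat.of E E) 1 :=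
        projective_iff_hasProjectiveDimensionLT_one.mp inferInstance
      exact hasProjectiveDimensionLT_of_ge _ 1 (n + 1) (by omega)
    · haveI := hasProjectiveDimensionLT_of_res h
      exact hasProjectiveDimensionLT_of_ge _ (n + 1) (n + 1 + 1) (by omega)
  haveI : IsField (E ⧸ m) → True := fun _ => trivial
  letI : Field (E ⧸ m) := Ideal.Quotient.field m
  haveI : Module.Finite (E ⧸ m) m.Cotangent :=
    haveI : Module.Finite E m.Cotangent := Module.Finite.of_surjective m.toCotangent m.toCotangent_surjective
    Module.Finite.of_restrictScalars_finite E _ _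
  let b := Module.finBasis (E ⧸ m) m.Cotangent
  let φ : Fin (Module.finrank (E ⧸ m) m.Cotangent) → (m →ₗ[E] E ⧸ m) := fun j =>
    ((b.coord j).restrictScalars E) ∘ₗ m.toCotangent
  obtain ⟨x, -, hxφ, hxreg⟩ := Groth.L07.Ferrand.exists_regular_lifts _ E m hm hpd φ ⊤ le_top (fun i => by
    obtain ⟨w, hw⟩ := m.toCotangent_surjective (b i)
    refine ⟨w, trivial, fun j => ?_⟩
    show b.coord j (m.toCotangent w) = _
    rw [hw, Module.Basis.coord_apply, b.repr_self, Finsupp.single_apply]
    simp [eq_comm])
  let l := List.ofFn fun i => (x i : E)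
  have hbx : ∀ i, m.toCotangent (x i) = b i := fun i => b.repr.injective (Finsupp.ext fun j => by
    have h1 : b.coord j (m.toCotangent (x i)) = _ := hxφ i j
    rw [b.repr_self, Finsupp.single_apply, ← Module.Basis.coord_apply, h1]
    simp [eq_comm])
  have hgen : m ≤ Ideal.ofList l := by
    refine Groth.L01.maximalIdeal_le_of_le_sup_sq fun y hy => ?_
    choose c hc using fun i => Ideal.Quotient.mk_surjective (b.repr (m.toCotangent ⟨y, hy⟩) i)
    have h1 : m.toCotangent ⟨y, hy⟩ = m.toCotangent (∑ i, c i • x i) := by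
      rw [map_sum, ← b.sum_repr (m.toCotangent ⟨y, hy⟩)]
      refine Finset.sum_congr rfl fun i _ => ?_
      rw [map_smul, hbx, ← hc, ← algebraMap_smul (E ⧸ m) (c i)]
      rfl
    rw [← sub_eq_zero, ← map_sub, Ideal.toCotangent_eq_zero] at h1
    have h2 : y - ∑ i, c i * (x i : E) ∈ m ^ 2 := by
      simpa [Submodule.coe_sum] using h1
    rw [show y = ∑ i, c i * (x i : E) + (y - ∑ i, c i * (x i : E)) by abel]
    exact add_mem (Ideal.mem_sup_left (Submodule.sum_mem _ fun i _ => Ideal.mul_mem_left _ _
      (Ideal.subset_span (List.mem_ofFn.mpr ⟨i, rfl⟩)))) (Ideal.mem_sup_right h2)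
  have hle : Ideal.ofList l ≤ m := Ideal.span_le.mpr fun y hy => by
    obtain ⟨i, rfl⟩ := List.mem_ofFn.mp hy
    exact (x i).2
  have heq : Ideal.ofList l = m := le_antisymm hle hgen
  have hreg : RingTheory.Sequence.IsRegular E l := ⟨hxreg, by
    rw [heq, smul_eq_mul, Ideal.mul_top]; exact hm.symm⟩
  refine IsRegularLocalRing.of_spanFinrank_maximalIdeal_le E ?_
  have h1 := Groth.L01.spanFinrank_ofList_le l
  rw [heq] at h1
  refine (Nat.cast_le.mpr h1).trans ?_
  rw [← ringKrullDim_add_length_eq_ringKrullDim_of_isRegular l hreg]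
  haveI : Nontrivial (E ⧸ Ideal.ofList l) := Ideal.Quotient.nontrivial_iff.mpr (heq ▸ hm)
  exact le_add_of_nonneg_left ringKrullDim_nonneg_of_nontrivial

end Regular

end Groth.L07.DiagRes
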