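import Groth.Agent.L07.DiagRes
import Groth.Agent.S2116
import Groth.Agent.S9447
import Mathlib.RingTheory.Smooth.Fiber
import Mathlib.RingTheory.Jacobson.Ring
import Mathlib.RingTheory.TensorProduct.Maps
import Mathlib.RingTheory.Localization.BaseChange
import Mathlib.FieldTheory.IsAlgClosed.AlgebraicClosure

/-! A flat algebra of finite type whose diagonal has a finite resolution is smooth. -/

namespace Groth.L07.DiagSmooth

open TensorProduct Groth.L07.DiagRes

set_option linter.style.haveILetI false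
set_option maxSynthPendingDepth 3

universe u

section Localization

/-- The quotient by a maximal ideal becomes the residue field after localization. -/
theorem exists_localizedQuotEquiv {E : Type u} [CommRing E] (n : Ideal E) [n.IsPrime] :
    Nonempty (Localization.AtPrime n ⊗[E] (E ⧸ n) ≃ₗ[Localization.AtPrime n]
      Localization.AtPrime n ⧸ IsLocalRing.maximalIdeal (Localization.AtPrime n)) := by
  let L := Localization.AtPrime n
  have h : (n • (⊤ : Submodule E L)) = (IsLocalRing.maximalIdeal L).restrictScalars E := by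
    rw [Ideal.smul_top_eq_map, Localization.AtPrime.map_eq_maximalIdeal]
  let e : L ⊗[E] (E ⧸ n) ≃ₗ[E] L ⧸ IsLocalRing.maximalIdeal L :=
    TensorProduct.tensorQuotEquivQuotSMul L n ≪≫ₗ Submodule.quotEquivOfEq _ _ h ≪≫ₗ
      Submodule.Quotient.restrictScalarsEquiv E (IsLocalRing.maximalIdeal L)
  exact ⟨e.extendScalarsOfIsLocalization n.primeCompl L⟩

end Localization

variable {A B : Type u} [CommRing A] [CommRing B] [Algebra A B] [IsNoetherianRing A]
  [Algebra.FiniteType A B] [Module.Flat A B] [Algebra (B ⊗[A] B) B]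

theorem isScalarTower_of_hmul (hmul : ∀ x y : B, algebraMap (B ⊗[A] B) B (x ⊗ₜ[A] y) = x * y) :
    IsScalarTower B (B ⊗[A] B) B :=
  IsScalarTower.of_algebraMap_eq fun b => by
    rw [Algebra.TensorProduct.algebraMap_apply, hmul, mul_one]

/-- Regularity of a geometric fibre at a closed point. -/
theorem isRegularLocalRing_of_res_diag
    (hmul : ∀ x y : B, algebraMap (B ⊗[A] B) B (x ⊗ₜ[A] y) = x * y) {n : ℕ}
    (hres : Res (B ⊗[A] B) n B) (K : Type u) [Field K] [IsAlgClosed K] [Algebra A K]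
    (m : Ideal (K ⊗[A] B)) [m.IsMaximal] : IsRegularLocalRing (Localization.AtPrime m) := by
  haveI := isScalarTower_of_hmul hmul
  letI : Field ((K ⊗[A] B) ⧸ m) := Ideal.Quotient.field m
  haveI : Module.Finite K ((K ⊗[A] B) ⧸ m) :=
    finite_of_finite_type_of_isJacobsonRing K ((K ⊗[A] B) ⧸ m)
  let κe : K ≃ₐ[K] (K ⊗[A] B) ⧸ m :=
    AlgEquiv.ofBijective (Algebra.ofId K _)
      (IsAlgClosed.algebraMap_bijective_of_isIntegral (k := K) (K := (K ⊗[A] B) ⧸ m))
  let χT : K ⊗[A] B →ₐ[K] K := κe.symm.toAlgHom.comp (Ideal.Quotient.mkₐ K m)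
  have hχT : RingHom.ker χT = m := by
    ext x
    rw [RingHom.mem_ker, AlgHom.comp_apply, AlgEquiv.toAlgHom_apply, EmbeddingLike.map_eq_zero_iff,
      Ideal.Quotient.mkₐ_eq_mk, Ideal.Quotient.eq_zero_iff_mem]
  let χ : B →ₐ[A] K := (χT.restrictScalars A).comp Algebra.TensorProduct.includeRight
  letI : Algebra B K := χ.toRingHom.toAlgebra
  haveI : IsScalarTower A B K := IsScalarTower.of_algebraMap_eq fun a => (χ.commutes a).symm
  have hres' : Res ((B ⊗[A] B) ⊗[B] K) n (((B ⊗[A] B) ⊗[B] K) ⊗[B ⊗[A] B] B) :=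
    res_baseChange_base B K hres
  let e : (B ⊗[A] B) ⊗[B] K ≃+* K ⊗[A] B :=
    (Algebra.TensorProduct.comm B (B ⊗[A] B) K).toRingEquiv.trans
      (Algebra.TensorProduct.cancelBaseChange A B K K B).toRingEquiv
  have he : ∀ (b b' : B) (k : K), e ((b ⊗ₜ[A] b') ⊗ₜ[B] k) = (χ b * k) ⊗ₜ[A] b' := by
    intro b b' k
    show Algebra.TensorProduct.cancelBaseChange A B K K B (k ⊗ₜ[B] (b ⊗ₜ[A] b')) = _
    rw [Algebra.TensorProduct.cancelBaseChange_tmul]
    rfl
  let n' : Ideal ((B ⊗[A] B) ⊗[B] K) := m.comap e.toRingHom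
  haveI : n'.IsPrime := Ideal.IsPrime.comap _
  let θ : (B ⊗[A] B) ⊗[B] K →ₗ[(B ⊗[A] B) ⊗[B] K] ((B ⊗[A] B) ⊗[B] K) ⊗[B ⊗[A] B] B :=
    LinearMap.toSpanSingleton _ _ (1 ⊗ₜ 1)
  have hθ : ∀ x, θ x = x ⊗ₜ 1 := fun x => by
    rw [LinearMap.toSpanSingleton_apply, smul_tmul', smul_eq_mul, mul_one]
  let Ψ : ((B ⊗[A] B) ⊗[B] K) ⊗[B ⊗[A] B] B → K :=
    fun z => TensorProduct.lid B K (tensorEquiv B K B z)
  have hΨ : ∀ x, Ψ (θ x) = χT (e x) := by
    intro x
    rw [hθ]
    induction x using TensorProduct.induction_on with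
    | zero => simp [Ψ]
    | tmul c k =>
      simp only [Ψ, tensorEquiv_tmul, TensorProduct.lid_tmul]
      induction c using TensorProduct.induction_on with
      | zero => simp
      | tmul b b' =>
        have h0 : (b ⊗ₜ[A] b') • (1 : B) = b * b' := by rw [Algebra.smul_def, mul_one, hmul]
        rw [he, h0, Algebra.smul_def]
        have h1 : (χ b * k) ⊗ₜ[A] b' = algebraMap K (K ⊗[A] B) (χ b * k) * (1 : K) ⊗ₜ[A] b' := by
          rw [Algebra.TensorProduct.algebraMap_apply, Algebra.TensorProduct.tmul_mul_tmul, mul_one, one_mul]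
          rfl
        have h2 : χT ((χ b * k) ⊗ₜ[A] b') = χ b * k * χ b' := by
          rw [h1, map_mul, AlgHom.commutes]; rfl
        rw [h2]
        show χ (b * b') * k = χ b * k * χ b'
        rw [map_mul]
        ring
      | add a b ha hb => simp only [add_smul, add_tmul, map_add] at ha hb ⊢; rw [ha, hb]
    | add a b ha hb => simp only [Ψ, add_tmul, map_add] at ha hb ⊢; rw [ha, hb]
  have hker : LinearMap.ker θ = n' := by
    ext x
    have hi : θ x = 0 ↔ Ψ (θ x) = 0 :=
      ((TensorProduct.lid B K).map_eq_zero_iff.trans (tensorEquiv B K B).map_eq_zero_iff).symm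
    rw [LinearMap.mem_ker, hi, hΨ, ← RingHom.mem_ker, hχT]
    rfl
  have hsurj : Function.Surjective θ := by
    intro z
    induction z using TensorProduct.induction_on with
    | zero => exact ⟨0, map_zero _⟩
    | tmul c b =>
      have h0 : (b ⊗ₜ[A] (1 : B)) • (1 : B) = b := by rw [Algebra.smul_def, mul_one, hmul, mul_one]
      refine ⟨algebraMap (B ⊗[A] B) ((B ⊗[A] B) ⊗[B] K) (b ⊗ₜ[A] (1 : B)) * c, ?_⟩
      rw [← smul_eq_mul, map_smul, algebraMap_smul, hθ]
      refine Eq.trans ?_ (congrArg (fun w => c ⊗ₜ[B ⊗[A] B] w) h0)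
      exact ((TensorProduct.mk (B ⊗[A] B) ((B ⊗[A] B) ⊗[B] K) B c).map_smul (b ⊗ₜ[A] (1 : B)) (1 : B)).symm
    | add a b ha hb =>
      obtain ⟨x, rfl⟩ := ha
      obtain ⟨y, rfl⟩ := hb
      exact ⟨x + y, map_add _ _ _⟩
  let eθ := (Submodule.quotEquivOfEq _ _ hker.symm).trans (θ.quotKerEquivOfSurjective hsurj)
  have h1 : Res (Localization.AtPrime n') n
      (Localization.AtPrime n' ⊗[(B ⊗[A] B) ⊗[B] K] (((B ⊗[A] B) ⊗[B] K) ⧸ n')) :=
    res_baseChange_flat (res_of_equiv eθ.symm hres')
  obtain ⟨e2⟩ := exists_localizedQuotEquiv n'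
  haveI : IsNoetherianRing (K ⊗[A] B) := Algebra.FiniteType.isNoetherianRing K _
  haveI : IsNoetherianRing ((B ⊗[A] B) ⊗[B] K) := isNoetherianRing_of_ringEquiv _ e.symm
  haveI : IsNoetherianRing (Localization.AtPrime n') :=
    IsLocalization.isNoetherianRing n'.primeCompl _ inferInstance
  haveI : IsRegularLocalRing (Localization.AtPrime n') := isRegularLocalRing_of_res (res_of_equiv e2 h1)
  have hmap : n'.primeCompl.map e.toMonoidHom = m.primeCompl := by
    ext y
    constructor
    · rintro ⟨x, hx, rfl⟩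
      exact hx
    · intro hy
      refine ⟨e.symm y, ?_, e.apply_symm_apply y⟩
      intro h
      exact hy ((e.apply_symm_apply y) ▸ (h : e (e.symm y) ∈ m))
  exact IsRegularLocalRing.of_ringEquiv
    (IsLocalization.ringEquivOfRingEquiv (Localization.AtPrime n') (Localization.AtPrime m) e hmap)

/-- A flat algebra of finite type whose diagonal has a finite resolution is smooth. -/
theorem smooth_of_res_diag (hmul : ∀ x y : B, algebraMap (B ⊗[A] B) B (x ⊗ₜ[A] y) = x * y) {n : ℕ}
    (hres : Res (B ⊗[A] B) n B) : Algebra.Smooth A B := by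
  haveI : Algebra.FinitePresentation A B :=
    (Algebra.FinitePresentation.of_finiteType (R := A)).mp inferInstance
  refine Algebra.Smooth.of_formallySmooth_fiber fun p _ => ?_
  let κ := p.ResidueField
  let K := AlgebraicClosure κ
  rw [Groth.Agent.S9447.result κ (p.Fiber B) K]
  haveI hT : Algebra.FormallySmooth K (K ⊗[A] B) := by
    haveI : Algebra.FinitePresentation K (K ⊗[A] B) := inferInstance
    rw [← Algebra.smoothLocus_eq_univ_iff, Set.eq_univ_iff_forall]
    intro q
    obtain ⟨m, hm, hqm⟩ := Ideal.exists_le_maximal q.asIdeal q.2.ne_top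
    haveI := hm
    have hreg := isRegularLocalRing_of_res_diag hmul hres K m
    have hsm : (⟨m, hm.isPrime⟩ : PrimeSpectrum (K ⊗[A] B)) ∈ Algebra.smoothLocus K (K ⊗[A] B) :=
      (Groth.Agent.S2116.result m).mp hreg
    exact (Algebra.isOpen_smoothLocus (R := K) (A := K ⊗[A] B)).stableUnderGeneralization
      ((PrimeSpectrum.le_iff_specializes q ⟨m, hm.isPrime⟩).mp hqm) hsm
  exact Algebra.FormallySmooth.of_equiv (Algebra.TensorProduct.cancelBaseChange A κ K K B).symm

section LocalizedDiagonal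

variable {R C D : Type u} [CommRing R] [CommRing C] [CommRing D] [Algebra R C] [Algebra R D]
  [Algebra C D] [IsScalarTower R C D] (S : Submonoid C)

/-- The products of `s ⊗ t` with `s, t` in a submonoid. -/
noncomputable def pairMonoid (R : Type u) {C : Type u} [CommRing R] [CommRing C] [Algebra R C]
    (S : Submonoid C) : Submonoid (C ⊗[R] C) :=
  (S.prod S).map (N := C ⊗[R] C) (F := C × C →* C ⊗[R] C)
    { toFun := fun p => p.1 ⊗ₜ[R] p.2
      map_one' := rfl
      map_mul' := fun p q => (Algebra.TensorProduct.tmul_mul_tmul _ _ _ _).symm }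

theorem mem_pairMonoid {x : C ⊗[R] C} : x ∈ pairMonoid R S ↔ ∃ s ∈ S, ∃ t ∈ S, s ⊗ₜ[R] t = x := by
  constructor
  · rintro ⟨⟨s, t⟩, ⟨hs, ht⟩, rfl⟩
    exact ⟨s, hs, t, ht, rfl⟩
  · rintro ⟨s, hs, t, ht, rfl⟩
    exact ⟨⟨s, t⟩, ⟨hs, ht⟩, rfl⟩

variable [IsLocalization S D] [Algebra (C ⊗[R] C) (D ⊗[R] D)]

/-- The tensor square of a localization is a localization. -/
theorem isLocalization_pair
    (hmap : ∀ x y : C, algebraMap (C ⊗[R] C) (D ⊗[R] D) (x ⊗ₜ y) = algebraMap C D x ⊗ₜ algebraMap C D y) :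
    IsLocalization (pairMonoid R S) (D ⊗[R] D) := by
  let X := Localization (pairMonoid R S)
  have hu : ∀ t : pairMonoid R S, IsUnit (algebraMap (C ⊗[R] C) (D ⊗[R] D) t) := by
    rintro ⟨t, ht⟩
    obtain ⟨s, hs, t', ht', rfl⟩ := (mem_pairMonoid S).mp ht
    rw [hmap, show algebraMap C D s ⊗ₜ[R] algebraMap C D t' =
      (algebraMap C D s ⊗ₜ[R] (1 : D)) * ((1 : D) ⊗ₜ[R] algebraMap C D t') by
        rw [Algebra.TensorProduct.tmul_mul_tmul, mul_one, one_mul]]
    exact (((IsLocalization.map_units D ⟨s, hs⟩).map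
      (Algebra.TensorProduct.includeLeft : D →ₐ[R] D ⊗[R] D)).mul
      ((IsLocalization.map_units D ⟨t', ht'⟩).map
      (Algebra.TensorProduct.includeRight : D →ₐ[R] D ⊗[R] D)))
  let f : X →+* D ⊗[R] D := IsLocalization.lift (g := algebraMap (C ⊗[R] C) (D ⊗[R] D)) hu
  let j : C ⊗[R] C →ₐ[R] X := IsScalarTower.toAlgHom R (C ⊗[R] C) X
  have hul : ∀ s : S, IsUnit ((j.comp Algebra.TensorProduct.includeLeft) (s : C)) := fun s =>
    IsLocalization.map_units X ⟨_, (mem_pairMonoid (R := R) S).mpr ⟨s, s.2, 1, one_mem _, rfl⟩⟩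
  have hur : ∀ s : S, IsUnit ((j.comp Algebra.TensorProduct.includeRight) (s : C)) := fun s =>
    IsLocalization.map_units X ⟨_, (mem_pairMonoid (R := R) S).mpr ⟨1, one_mem _, s, s.2, rfl⟩⟩
  let gl : D →ₐ[R] X := IsLocalization.liftAlgHom (f := j.comp Algebra.TensorProduct.includeLeft) hul
  let gr : D →ₐ[R] X := IsLocalization.liftAlgHom (f := j.comp Algebra.TensorProduct.includeRight) hur
  let g : D ⊗[R] D →ₐ[R] X := Algebra.TensorProduct.productMap gl gr
  have hg : ∀ z, g (algebraMap (C ⊗[R] C) (D ⊗[R] D) z) = algebraMap (C ⊗[R] C) X z := by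
    intro z
    induction z using TensorProduct.induction_on with
    | zero => simp
    | tmul x y =>
      rw [hmap, Algebra.TensorProduct.productMap_apply_tmul]
      show IsLocalization.lift hul _ * IsLocalization.lift hur _ = _
      rw [IsLocalization.lift_eq, IsLocalization.lift_eq]
      show algebraMap (C ⊗[R] C) X (x ⊗ₜ 1) * algebraMap (C ⊗[R] C) X (1 ⊗ₜ y) = _
      rw [← map_mul, Algebra.TensorProduct.tmul_mul_tmul, mul_one, one_mul]
    | add a b ha hb => simp only [map_add, ha, hb]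
  have hgf : ∀ x, g (f x) = x := by
    intro x
    have h : g.toRingHom.comp f = RingHom.id X := IsLocalization.ringHom_ext (pairMonoid R S)
      (RingHom.ext fun z => by
        show g (f (algebraMap _ X z)) = _
        rw [IsLocalization.lift_eq, hg]; rfl)
    exact RingHom.congr_fun h x
  have hfl : f.comp (gl.toRingHom) = (Algebra.TensorProduct.includeLeft : D →ₐ[R] D ⊗[R] D).toRingHom :=
    IsLocalization.ringHom_ext S (RingHom.ext fun c => by
      show f (IsLocalization.lift hul (algebraMap C D c)) = algebraMap C D c ⊗ₜ 1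
      rw [IsLocalization.lift_eq]
      show f (algebraMap (C ⊗[R] C) X (c ⊗ₜ 1)) = _
      rw [IsLocalization.lift_eq, hmap, map_one])
  have hfr : f.comp (gr.toRingHom) = (Algebra.TensorProduct.includeRight : D →ₐ[R] D ⊗[R] D).toRingHom :=
    IsLocalization.ringHom_ext S (RingHom.ext fun c => by
      show f (IsLocalization.lift hur (algebraMap C D c)) = 1 ⊗ₜ algebraMap C D c
      rw [IsLocalization.lift_eq]
      show f (algebraMap (C ⊗[R] C) X (1 ⊗ₜ c)) = _
      rw [IsLocalization.lift_eq, hmap, map_one])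
  have hfg : ∀ y, f (g y) = y := by
    intro y
    induction y using TensorProduct.induction_on with
    | zero => simp
    | tmul a b =>
      rw [Algebra.TensorProduct.productMap_apply_tmul, map_mul]
      show (f.comp gl.toRingHom) a * (f.comp gr.toRingHom) b = _
      rw [hfl, hfr]
      show a ⊗ₜ[R] (1 : D) * (1 : D) ⊗ₜ[R] b = _
      rw [Algebra.TensorProduct.tmul_mul_tmul, mul_one, one_mul]
    | add a b ha hb => simp only [map_add, ha, hb]
  exact IsLocalization.isLocalization_of_algEquiv (pairMonoid R S) (S := X)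
    (AlgEquiv.ofRingEquiv (f := RingEquiv.ofBijective f
      ⟨Function.LeftInverse.injective hgf, Function.RightInverse.surjective hfg⟩)
      (fun z => IsLocalization.lift_eq hu z))

end LocalizedDiagonal

section DiagonalModule

variable {EC EB C D : Type u} [CommRing EC] [CommRing EB] [CommRing C] [CommRing D]
  [Algebra EC EB] [Algebra EC C] [Algebra EB D] [Algebra C D]

/-- The diagonal module of a localization is the extended diagonal module. -/
theorem exists_diagEquiv (S : Submonoid C) (U : Submonoid EC) [IsLocalization U EB] [IsLocalization S D]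
    (hcomm : ∀ z, algebraMap EB D (algebraMap EC EB z) = algebraMap C D (algebraMap EC C z))
    (hlift : ∀ s ∈ S, ∃ t ∈ U, algebraMap EC C t = s) :
    Nonempty (EB ⊗[EC] C ≃ₗ[EB] D) := by
  letI : Algebra EC D := ((algebraMap EB D).comp (algebraMap EC EB)).toAlgebra
  haveI : IsScalarTower EC EB D := IsScalarTower.of_algebraMap_eq fun _ => rfl
  haveI : IsScalarTower EC C D := IsScalarTower.of_algebraMap_eq hcomm
  let f : C →ₗ[EC] D := (IsScalarTower.toAlgHom EC C D).toLinearMap
  haveI : IsLocalizedModule U f := by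
    refine ⟨fun t => ?_, fun y => ?_, fun {x₁ x₂} h => ?_⟩
    · rw [Module.End.isUnit_iff]
      have hu : IsUnit (algebraMap EC D t) :=
        (IsLocalization.map_units EB t).map (algebraMap EB D)
      obtain ⟨v, hv⟩ := hu
      refine Function.bijective_iff_has_inverse.mpr ⟨fun y => ↑v⁻¹ * y, fun y => ?_, fun y => ?_⟩
      · simp only [Module.algebraMap_end_apply, Algebra.smul_def, ← hv, ← mul_assoc, Units.inv_mul, one_mul]
      · simp only [Module.algebraMap_end_apply, Algebra.smul_def, ← hv, ← mul_assoc, Units.mul_inv, one_mul]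
    · obtain ⟨⟨c, s⟩, hc⟩ := IsLocalization.surj S y
      obtain ⟨t, ht, hts⟩ := hlift s s.2
      refine ⟨⟨c, ⟨t, ht⟩⟩, ?_⟩
      show t • y = algebraMap C D c
      rw [Algebra.smul_def, IsScalarTower.algebraMap_apply EC C D, hts, mul_comm, hc]
    · obtain ⟨s, hs⟩ := (IsLocalization.eq_iff_exists S D).mp h
      obtain ⟨t, ht, hts⟩ := hlift s s.2
      refine ⟨⟨t, ht⟩, ?_⟩
      show t • x₁ = t • x₂
      rw [Algebra.smul_def, Algebra.smul_def, hts]
      exact hs
  exact ⟨(IsLocalizedModule.isBaseChange U EB f).equiv⟩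

end DiagonalModule

end Groth.L07.DiagSmooth
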