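import Groth.Agent.L07.DiagSmooth
import Groth.Agent.L20.FlatLocusOpen
import Mathlib.RingTheory.EssentialFiniteness
import Mathlib.RingTheory.Spectrum.Prime.FreeLocus
import Mathlib.RingTheory.Localization.LocalizationLocalization

/-! Spreading out smoothness of a local algebra with perfect diagonal. -/

namespace Groth.L07.DiagSpread

open TensorProduct IsLocalRing Groth.L07.DiagRes Groth.L07.DiagSmooth

set_option linter.style.haveILetI false
set_option maxSynthPendingDepth 3

universe u

section Away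

variable {C B : Type u} [CommRing C] [CommRing B] [IsLocalRing B] [Algebra C B]
  [IsLocalization.AtPrime B ((maximalIdeal B).comap (algebraMap C B))]
  {g : C} (Cg : Type u) [CommRing Cg] [Algebra C Cg] [IsLocalization.Away g Cg] [Algebra Cg B]
  [IsScalarTower C Cg B]

/-- A local localization remains one over a principal localization. -/
theorem atPrime_away (hg : IsUnit (algebraMap C B g)) :
    IsLocalization.AtPrime B ((maximalIdeal B).comap (algebraMap Cg B)) := by
  let q := (maximalIdeal B).comap (algebraMap C B)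
  have hle : Submonoid.powers g ≤ q.primeCompl := Submonoid.powers_le.mpr fun h =>
    h hg
  haveI := IsLocalization.isLocalization_of_submonoid_le Cg B (Submonoid.powers g) q.primeCompl hle
  refine IsLocalization.of_le (M := q.primeCompl.map (algebraMap C Cg)) _ ?_ ?_
  · rintro _ ⟨c, hc, rfl⟩ h
    apply hc
    show algebraMap C B c ∈ maximalIdeal B
    rw [IsScalarTower.algebraMap_apply C Cg B]
    exact h
  · exact fun r hr => notMem_maximalIdeal.mp hr

end Away

section Pair

variable (A : Type u) [CommRing A] {C D : Type u} [CommRing C] [CommRing D] [Algebra A C] [Algebra A D]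
  [Algebra C D] [IsScalarTower A C D]

/-- The map on tensor squares. -/
noncomputable def pairMap : C ⊗[A] C →+* D ⊗[A] D :=
  (Algebra.TensorProduct.map (IsScalarTower.toAlgHom A C D) (IsScalarTower.toAlgHom A C D)).toRingHom

theorem pairMap_tmul (x y : C) :
    pairMap A (D := D) (x ⊗ₜ[A] y) = algebraMap C D x ⊗ₜ[A] algebraMap C D y := rfl

theorem pairMap_comm [Algebra (C ⊗[A] C) C] [Algebra (D ⊗[A] D) D]
    (hC : ∀ x y : C, algebraMap (C ⊗[A] C) C (x ⊗ₜ[A] y) = x * y)
    (hD : ∀ x y : D, algebraMap (D ⊗[A] D) D (x ⊗ₜ[A] y) = x * y) (z : C ⊗[A] C) :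
    algebraMap (D ⊗[A] D) D (pairMap A z) = algebraMap C D (algebraMap (C ⊗[A] C) C z) := by
  induction z using TensorProduct.induction_on with
  | zero => simp
  | tmul x y => rw [pairMap_tmul, hD, hC, map_mul]
  | add a b ha hb => simp only [map_add, ha, hb]

end Pair

/-- Spreading out from a flat model. -/
theorem exists_smooth {A B : Type u} [CommRing A] [CommRing B] [Algebra A B] [IsNoetherianRing A]
    [IsLocalRing B] [Algebra (B ⊗[A] B) B]
    (hmul : ∀ x y : B, algebraMap (B ⊗[A] B) B (x ⊗ₜ[A] y) = x * y)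
    (h : DRing.HasFiniteTorDim (B ⊗[A] B) B)
    (C : Type u) [CommRing C] [Algebra A C] [Algebra C B] [IsScalarTower A C B]
    [Algebra.FiniteType A C] [Module.Flat A C]
    [hC : IsLocalization.AtPrime B ((maximalIdeal B).comap (algebraMap C B))] :
    ∃ (C : Type u) (_ : CommRing C) (_ : Algebra A C) (_ : Algebra C B) (_ : IsScalarTower A C B)
      (q : Ideal C) (_ : q.IsPrime), Algebra.Smooth A C ∧ IsLocalization.AtPrime B q := by
  let S := ((maximalIdeal B).comap (algebraMap C B)).primeCompl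
  haveI : IsLocalization S B := hC
  -- the diagonal of the model
  letI : Algebra (C ⊗[A] C) C := (Algebra.TensorProduct.lmul' A (S := C)).toRingHom.toAlgebra
  have hmulC : ∀ x y : C, algebraMap (C ⊗[A] C) C (x ⊗ₜ[A] y) = x * y :=
    fun x y => Algebra.TensorProduct.lmul'_apply_tmul x y
  letI : Algebra (C ⊗[A] C) (B ⊗[A] B) := (pairMap A).toAlgebra
  haveI hU : IsLocalization (pairMonoid A S) (B ⊗[A] B) := isLocalization_pair S (pairMap_tmul A)
  have hlift : ∀ s ∈ S, ∃ t ∈ pairMonoid A S, algebraMap (C ⊗[A] C) C t = s := fun s hs =>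
    ⟨_, (mem_pairMonoid S).mpr ⟨s, hs, 1, one_mem _, rfl⟩, by rw [hmulC, mul_one]⟩
  obtain ⟨e⟩ := exists_diagEquiv (EB := B ⊗[A] B) (D := B) S (pairMonoid A S)
    (pairMap_comm A hmulC hmul) hlift
  haveI : IsNoetherianRing C := Algebra.FiniteType.isNoetherianRing A C
  haveI : IsNoetherianRing (C ⊗[A] C) := Algebra.FiniteType.isNoetherianRing C _
  haveI : IsNoetherianRing (B ⊗[A] B) := IsLocalization.isNoetherianRing (pairMonoid A S) _ inferInstance
  haveI : Module.Finite (C ⊗[A] C) C := Module.Finite.of_surjective (Algebra.linearMap (C ⊗[A] C) C)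
    fun b => ⟨b ⊗ₜ 1, by rw [Algebra.linearMap_apply, hmulC, mul_one]⟩
  haveI : Module.Flat (C ⊗[A] C) (B ⊗[A] B) := IsLocalization.flat _ (pairMonoid A S)
  obtain ⟨n, hn⟩ := h
  haveI hflat := flat_of_hasTorDimLE (E := C ⊗[A] C) C (B ⊗[A] B) n (hasTorDimLE_congr e.symm hn)
  let Q := F (E := C ⊗[A] C) C n ⧸ Z (E := C ⊗[A] C) C n
  haveI : Module.FinitePresentation (C ⊗[A] C) Q := Module.finitePresentation_of_finite _ _
  -- find a principal neighbourhood
  obtain ⟨J, hJ⟩ := (PrimeSpectrum.isClosed_iff_zeroLocus_ideal _).mp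
    ((Module.isOpen_freeLocus (R := C ⊗[A] C) (M := Q)).isClosed_compl)
  obtain ⟨t, htJ, htU⟩ : ∃ t ∈ J, t ∈ pairMonoid A S := by
    by_contra hcon
    have hdisj : Disjoint (J : Set (C ⊗[A] C)) (pairMonoid A S) :=
      Set.disjoint_left.mpr fun x hx hx' => hcon ⟨x, hx, hx'⟩
    obtain ⟨P, hP, hJP, hPU⟩ := Ideal.exists_le_prime_disjoint _ _ hdisj
    have hmem : (⟨P, hP⟩ : PrimeSpectrum (C ⊗[A] C)) ∈ Module.freeLocus (C ⊗[A] C) Q := by
      rw [Module.mem_freeLocus_iff_tensor _ (Localization.AtPrime P)]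
      have hu : ∀ y : pairMonoid A S, IsUnit (algebraMap (C ⊗[A] C) (Localization.AtPrime P) y) :=
        fun y => IsLocalization.map_units (Localization.AtPrime P)
          (⟨y, fun hy => Set.disjoint_left.mp hPU hy y.2⟩ : P.primeCompl)
      letI : Algebra (B ⊗[A] B) (Localization.AtPrime P) := (IsLocalization.lift hu).toAlgebra
      haveI : IsScalarTower (C ⊗[A] C) (B ⊗[A] B) (Localization.AtPrime P) :=
        IsScalarTower.of_algebraMap_eq fun z => (IsLocalization.lift_eq hu z).symm
      haveI : Module.Flat (Localization.AtPrime P) (Localization.AtPrime P ⊗[C ⊗[A] C] Q) :=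
        Module.Flat.of_linearEquiv (AlgebraTensorModule.cancelBaseChange (C ⊗[A] C) (B ⊗[A] B)
          (Localization.AtPrime P) (Localization.AtPrime P) Q).symm
      exact Module.free_of_flat_of_isLocalRing
    have : (⟨P, hP⟩ : PrimeSpectrum (C ⊗[A] C)) ∈ (Module.freeLocus (C ⊗[A] C) Q)ᶜ := by
      rw [hJ]; exact hJP
    exact this hmem
  obtain ⟨s, hs, s', hs', rfl⟩ := (mem_pairMonoid S).mp htU
  -- the smooth model
  let g := s * s'
  have hg : IsUnit (algebraMap C B g) := by
    rw [map_mul]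
    exact (IsLocalization.map_units B (⟨s, hs⟩ : S)).mul (IsLocalization.map_units B (⟨s', hs'⟩ : S))
  obtain ⟨Cg, _, _, _, _, _⟩ : ∃ (Cg : Type u) (_ : CommRing Cg) (_ : Algebra C Cg) (_ : Algebra A Cg)
      (_ : IsScalarTower A C Cg), IsLocalization.Away g Cg :=
    ⟨Localization.Away g, inferInstance, inferInstance, inferInstance, inferInstance, inferInstance⟩
  letI : Algebra Cg B := (IsLocalization.Away.lift g hg).toAlgebra
  haveI : IsScalarTower C Cg B := IsScalarTower.of_algebraMap_eq fun z => (IsLocalization.Away.lift_eq g hg z).symm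
  haveI : IsScalarTower A Cg B := IsScalarTower.to₁₃₄ A C Cg B
  haveI : Algebra.FiniteType A Cg :=
    haveI : Algebra.FiniteType C Cg := IsLocalization.finiteType_of_monoid_fg (Submonoid.powers g) Cg
    Algebra.FiniteType.trans (S := C) inferInstance inferInstance
  haveI : Module.Flat C Cg := IsLocalization.flat _ (Submonoid.powers g)
  haveI : Module.Flat A Cg := Module.Flat.trans A C Cg
  haveI hq := atPrime_away Cg hg
  letI : Algebra (Cg ⊗[A] Cg) Cg := (Algebra.TensorProduct.lmul' A (S := Cg)).toRingHom.toAlgebra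
  have hmulg : ∀ x y : Cg, algebraMap (Cg ⊗[A] Cg) Cg (x ⊗ₜ[A] y) = x * y :=
    fun x y => Algebra.TensorProduct.lmul'_apply_tmul x y
  letI : Algebra (C ⊗[A] C) (Cg ⊗[A] Cg) := (pairMap A).toAlgebra
  haveI hUg : IsLocalization (pairMonoid A (Submonoid.powers g)) (Cg ⊗[A] Cg) :=
    isLocalization_pair (Submonoid.powers g) (pairMap_tmul A)
  obtain ⟨eg⟩ := exists_diagEquiv (EB := Cg ⊗[A] Cg) (D := Cg) (Submonoid.powers g)
    (pairMonoid A (Submonoid.powers g)) (pairMap_comm A hmulC hmulg)
    (fun x hx => ⟨_, (mem_pairMonoid _).mpr ⟨x, hx, 1, one_mem _, rfl⟩, by rw [hmulC, mul_one]⟩)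
  haveI : Module.Flat (C ⊗[A] C) (Cg ⊗[A] Cg) := IsLocalization.flat _ (pairMonoid A (Submonoid.powers g))
  have hproj : Module.Projective (Cg ⊗[A] Cg) ((Cg ⊗[A] Cg) ⊗[C ⊗[A] C] Q) := by
    rw [← Module.freeLocus_eq_univ_iff, Set.eq_univ_iff_forall]
    intro P
    apply Module.comap_freeLocus_le
    show PrimeSpectrum.comap (algebraMap (C ⊗[A] C) (Cg ⊗[A] Cg)) P ∈ Module.freeLocus (C ⊗[A] C) Q
    by_contra hP
    have hP' : PrimeSpectrum.comap (algebraMap (C ⊗[A] C) (Cg ⊗[A] Cg)) P ∈ PrimeSpectrum.zeroLocus (J : Set _) :=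
      hJ ▸ hP
    have hu : IsUnit (algebraMap C Cg s) ∧ IsUnit (algebraMap C Cg s') := by
      have h1 : IsUnit (algebraMap C Cg s * algebraMap C Cg s') := by
        rw [← map_mul]
        exact IsLocalization.Away.algebraMap_isUnit g
      exact IsUnit.mul_iff.mp h1
    have hut : IsUnit (algebraMap (C ⊗[A] C) (Cg ⊗[A] Cg) (s ⊗ₜ[A] s')) := by
      have h1 : algebraMap (C ⊗[A] C) (Cg ⊗[A] Cg) (s ⊗ₜ[A] s') =
          (algebraMap C Cg s ⊗ₜ[A] (1 : Cg)) * ((1 : Cg) ⊗ₜ[A] algebraMap C Cg s') := by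
        rw [Algebra.TensorProduct.tmul_mul_tmul, mul_one, one_mul]; rfl
      rw [h1]
      exact (hu.1.map (Algebra.TensorProduct.includeLeft : Cg →ₐ[A] Cg ⊗[A] Cg)).mul
        (hu.2.map (Algebra.TensorProduct.includeRight : Cg →ₐ[A] Cg ⊗[A] Cg))
    exact P.2.ne_top (Ideal.eq_top_of_isUnit_mem _ (hP' htJ) hut)
  have hres := res_of_equiv eg (res_of_projective (E := C ⊗[A] C) C (Cg ⊗[A] Cg) n hproj)
  exact ⟨Cg, inferInstance, inferInstance, inferInstance, inferInstance, _,
    inferInstance, smooth_of_res_diag hmulg hres, hq⟩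

/-- A flat model. -/
theorem exists_smooth_of_essFiniteType {A B : Type u} [CommRing A] [CommRing B] [Algebra A B]
    [IsNoetherianRing A] [IsLocalRing B] [Module.Flat A B] [Algebra.EssFiniteType A B]
    [Algebra (B ⊗[A] B) B]
    (hmul : ∀ x y : B, algebraMap (B ⊗[A] B) B (x ⊗ₜ[A] y) = x * y)
    (h : DRing.HasFiniteTorDim (B ⊗[A] B) B) :
    ∃ (C : Type u) (_ : CommRing C) (_ : Algebra A C) (_ : Algebra C B) (_ : IsScalarTower A C B)
      (q : Ideal C) (_ : q.IsPrime), Algebra.Smooth A C ∧ IsLocalization.AtPrime B q := by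
  let C₀ := Algebra.EssFiniteType.subalgebra A B
  let q := (maximalIdeal B).comap (algebraMap C₀ B)
  haveI : IsLocalization.AtPrime B q := by
    refine IsLocalization.of_le (M := Algebra.EssFiniteType.submonoid A B) _ ?_ ?_
    · exact fun c hc h' => h' hc
    · exact fun r hr => notMem_maximalIdeal.mp hr
  haveI : Algebra.FinitePresentation A C₀ :=
    (Algebra.FinitePresentation.of_finiteType (R := A)).mp inferInstance
  haveI : IsNoetherianRing C₀ := Algebra.FiniteType.isNoetherianRing A C₀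
  haveI : Module.FinitePresentation C₀ C₀ := Module.finitePresentation_of_finite _ _
  haveI : Module.Flat A (LocalizedModule q.primeCompl C₀) :=
    Module.Flat.of_linearEquiv ((IsLocalizedModule.iso q.primeCompl (Algebra.linearMap C₀ B)).restrictScalars A)
  obtain ⟨g, hg, hflat⟩ := Groth.L20.exists_flat_away (R := A) (M := C₀) q.primeCompl
  let Cg := Localization.Away g
  have hgu : IsUnit (algebraMap C₀ B g) := notMem_maximalIdeal.mp hg
  letI : Algebra Cg B := (IsLocalization.Away.lift g hgu).toAlgebra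
  haveI : IsScalarTower C₀ Cg B := IsScalarTower.of_algebraMap_eq fun z => (IsLocalization.Away.lift_eq g hgu z).symm
  haveI : IsScalarTower A Cg B := IsScalarTower.to₁₃₄ A C₀ Cg B
  haveI : Algebra.FiniteType A Cg :=
    haveI : Algebra.FiniteType C₀ Cg := IsLocalization.finiteType_of_monoid_fg (Submonoid.powers g) Cg
    Algebra.FiniteType.trans (S := C₀) inferInstance inferInstance
  haveI : Module.Flat A Cg := Module.Flat.of_linearEquiv
    ((IsLocalizedModule.iso (Submonoid.powers g) (Algebra.linearMap C₀ Cg)).symm.restrictScalars A)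
  haveI := atPrime_away Cg hgu
  exact exists_smooth hmul h Cg

end Groth.L07.DiagSpread
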