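import Groth.Agent.L19.OmegaSh.Smooth
import Groth.Agent.L20.SmoothLocal.Main
import Groth.Agent.L17.FinLocBases
import Mathlib.AlgebraicGeometry.Morphisms.Smooth
import Mathlib.AlgebraicGeometry.FunctionField

/-!
# The map of differentials along a morphism which is formally smooth on a dense open
-/

set_option autoImplicit false
set_option linter.style.haveILetI false
set_option backward.isDefEq.respectTransparency.types false
set_option backward.isDefEq.respectTransparency false

universe u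

open CategoryTheory CategoryTheory.Limits AlgebraicGeometry TopologicalSpace Opposite

noncomputable section

namespace Groth.L07.DiffMono

open Groth.L18.Frame (rs ro rs_rs ro_ro rs_smul ro_self rs_self)
open Groth.L19.OmegaSh
open _root_.OmegaSh (Der IsUniversal IsDiffCompat pullSect)

variable {X Y S : Scheme.{u}}

/-- Derivations extend on small affines inside an open where the morphism is formally smooth. -/
theorem exists_der_extension_of_open {f : X ⟶ Y} (V : X.Opens)
    (hf : MoreMor.IsFormallySmoothHom (V.ι ≫ f)) {g : Y ⟶ S} (U : X.affineOpens) (hUV : U.1 ≤ V)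
    (W : Y.affineOpens) (hW : Good g W) (e : U.1 ≤ f ⁻¹ᵁ W.1) {M : (U.1 : Scheme.{u}).Modules}
    (E : Der g ((Scheme.Modules.pushforward (U.1.ι ≫ f)).obj M)) :
    ∃ D : Der (U.1.ι ≫ f ≫ g) M,
      pushDerSq (U.1.ι ≫ f) (𝟙 S) (f := g) (f' := U.1.ι ≫ f ≫ g)
        (by rw [Category.comp_id, Category.assoc]) D = E := by
  haveI : IsAffine (U.1 : Scheme.{u}) := U.2
  let T : (U.1 : Scheme.{u}).affineOpens := ⟨⊤, isAffineOpen_top _⟩
  have hT : ∀ V' : (U.1 : Scheme.{u}).affineOpens, V'.1 ≤ (U.1.ι ≫ f) ⁻¹ᵁ W.1 := fun V' z _ => e z.2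
  obtain ⟨l₀, hl₁', hl₂'⟩ := exists_point_lift hf (T.2.fromSpec ≫ X.homOfLE hUV) (ePt E T W (hT T))
    (by rw [prL_ePt, Category.assoc, Scheme.homOfLE_ι_assoc])
  let l := l₀ ≫ V.ι
  have hl₁ : Spec.map (prL M T.1) ≫ l = T.2.fromSpec ≫ U.1.ι := by
    rw [← Category.assoc, hl₁', Category.assoc, Scheme.homOfLE_ι]
  have hl₂ : l ≫ f = ePt E T W (hT T) := by rw [Category.assoc, hl₂']
  have hr : Set.range l ⊆ Set.range U.1.ι := by
    rintro _ ⟨z, rfl⟩
    obtain ⟨z', rfl⟩ := (surjective_prL M T.1).surj z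
    rw [← Scheme.Hom.comp_apply, hl₁, Scheme.Hom.comp_apply]
    exact ⟨_, rfl⟩
  let m := IsOpenImmersion.lift U.1.ι l hr
  have hm₁ : Spec.map (prL M T.1) ≫ m = T.2.fromSpec := by
    rw [← cancel_mono U.1.ι, Category.assoc, IsOpenImmersion.lift_fac, hl₁]
  have hm₂ : m ≫ U.1.ι ≫ f = ePt E T W (hT T) := by rw [IsOpenImmersion.lift_fac_assoc, hl₂]
  let F : PointFam (U.1.ι ≫ f ≫ g) M :=
    { P := fun _ => True
      exists_P := fun x O hx => by
        obtain ⟨_, ⟨V, hV, rfl⟩, hxV, hVO⟩ :=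
          (U.1 : Scheme.{u}).isBasis_affineOpens.exists_subset_of_mem_open hx O.2
        exact ⟨⟨V, hV⟩, trivial, hxV, hVO⟩
      r := fun V _ => Spec.map (resL M (le_top : V.1 ≤ T.1)) ≫ m
      prL_r := fun V _ => by
        rw [← Spec.map_comp_assoc, resL_prL, Spec.map_comp_assoc, hm₁, IsAffineOpen.map_fromSpec]
      resL_r := fun V V' _ _ h => by
        rw [← Spec.map_comp_assoc]
        congr 2
        ext a
        refine ext M ?_ ?_
        · simp only [CommRingCat.hom_comp, RingHom.comp_apply, fst_resL]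
          exact ro_ro _ _ _
        · simp only [CommRingCat.hom_comp, RingHom.comp_apply, snd_resL]
          exact rs_rs M _ _ _
      r_base := fun V _ => by
        rw [Category.assoc, ← Category.assoc U.1.ι f g, ← Category.assoc m, hm₂, ← Category.assoc (Spec.map _),
          resL_ePt E (U := T) (U' := V) le_top W (hT T), ePt_base E V W _ hW] }
  refine ⟨F.der, pushDerSq_eq_of_points _ F.der E F.P F.exists_P fun V p => ⟨W, hT V, ?_⟩⟩
  rw [F.dPt_der V p]
  show (Spec.map (resL M _) ≫ m) ≫ U.1.ι ≫ f = _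
  rw [Category.assoc, hm₂, resL_ePt E (U := T) (U' := V) le_top W (hT T)]

/-- Sections of a finite locally free module on an integral scheme are determined on a nonempty open. -/
theorem eq_zero_of_res_open [IsIntegral X] {A : X.Modules} (hA : FlatMod.IsFinLocFree A) (V : X.Opens)
    (hV : (V : Set X).Nonempty) {Z : X.Opens} (s : Γ(A, Z)) (h : rs A (inf_le_left : Z ⊓ V ≤ Z) s = 0) :
    s = 0 := by
  refine eq_of_basis (G := A) (fun U => (U.1 : Set X).Nonempty ∧ ∃ (W : X.Opens) (n : ℕ),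
    Nonempty (A.restrict W.ι ≅ FlatMod.freeMod (W : Scheme.{u}) n) ∧ U.1 ≤ W) ?_ s 0 fun U hU hUZ => ?_
  · intro x O hx
    obtain ⟨W, n, hxW, he⟩ := hA x
    obtain ⟨_, ⟨U, hU, rfl⟩, hxU, hUle⟩ :=
      X.isBasis_affineOpens.exists_subset_of_mem_open (show x ∈ O ⊓ W from ⟨hx, hxW⟩) (O ⊓ W).2
    exact ⟨⟨U, hU⟩, ⟨⟨x, hxU⟩, W, n, he, fun z hz => (hUle hz).2⟩, hxU, fun z hz => (hUle hz).1⟩
  obtain ⟨⟨y, hy⟩, W, n, ⟨e⟩, hUW⟩ := hU
  haveI : Nonempty W := ⟨⟨y, hUW hy⟩⟩
  obtain ⟨a, b, -, hba⟩ := Groth.L17.FinLocBases.exists_split n e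
  let T : (W : Scheme.{u}).Opens := W.ι ⁻¹ᵁ U.1
  have hTU : W.ι ''ᵁ T ≤ U.1 := W.ι.image_preimage_le _
  have hUT : U.1 ≤ W.ι ''ᵁ T := fun z hz => ⟨⟨z, hUW hz⟩, hz, rfl⟩
  let t : Γ(A.restrict W.ι, T) := rs A (hTU.trans hUZ) s
  suffices ht : t = 0 by
    refine ((rs_rs A (hTU.trans hUZ) hUT s).symm.trans ((congrArg (rs A hUT) ht).trans ?_))
    exact (map_zero _).trans (map_zero _).symm
  let T' : (W : Scheme.{u}).Opens := T ⊓ W.ι ⁻¹ᵁ V
  obtain ⟨z, hzU, hzV⟩ := nonempty_preirreducible_inter U.1.2 V.2 ⟨y, hy⟩ hV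
  haveI : Nonempty T' := ⟨⟨⟨z, hUW hzU⟩, hzU, hzV⟩⟩
  have h0 : (A.restrict W.ι).presheaf.map (homOfLE (inf_le_left : T' ≤ T)).op t = 0 := by
    have h1 : W.ι ''ᵁ T' ≤ Z ⊓ V := by
      rintro _ ⟨w, hw, rfl⟩
      exact ⟨hUZ hw.1, hw.2⟩
    show rs A (W.ι.image_mono (inf_le_left : T' ≤ T)) (rs A (hTU.trans hUZ) s) = 0
    rw [rs_rs]
    refine ((rs_rs A (inf_le_left : Z ⊓ V ≤ Z) h1 s).symm.trans ((congrArg (rs A h1) h).trans ?_))
    exact map_zero _
  have hb : ∀ i, (b i).app T t = 0 := fun i => by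
    refine map_injective_of_isIntegral (W : Scheme.{u}) (homOfLE (inf_le_left : T' ≤ T)) ?_
    refine Eq.trans ?_ (map_zero _).symm
    exact (PresheafOfModules.naturality_apply (b i).val (homOfLE (inf_le_left : T' ≤ T)).op t).symm.trans
      ((congrArg ((b i).app T') h0).trans (map_zero _))
  have h2 : t = ∑ i, (b i ≫ a i).app T t := by
    rw [← Groth.L17.FinLocBases.app_sum, hba]
    rfl
  rw [h2]
  refine Finset.sum_eq_zero fun i _ => ?_
  show (a i).app T ((b i).app T t) = 0
  rw [hb i, map_zero]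

/-- The map of differentials is injective when the source is locally free and the morphism is formally
smooth on a nonempty open of an integral scheme. -/
theorem mono_diffCompat_of_open [IsIntegral X] {g : Y ⟶ S} {h : X ⟶ S} {f : X ⟶ Y} (w : f ≫ g = h)
    (V : X.Opens) (hV : (V : Set X).Nonempty) (hf : MoreMor.IsFormallySmoothHom (V.ι ≫ f))
    {ΩY : Y.Modules} {dY : Der g ΩY} (hY : IsUniversal dY)
    (hfree : FlatMod.IsFinLocFree ((Scheme.Modules.pullback f).obj ΩY))
    {ΩX : X.Modules} {dX : Der h ΩX} (hX : IsUniversal dX)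
    {c : (Scheme.Modules.pullback f).obj ΩY ⟶ ΩX} (hc : IsDiffCompat f dY dX c) : Mono c := by
  subst w
  let adj := Scheme.Modules.pullbackPushforwardAdjunction f
  let A := (Scheme.Modules.pullback f).obj ΩY
  have key : ∀ x ∈ V, ∃ U : X.affineOpens, x ∈ U.1 ∧
      ∃ α : ΩX ⟶ (Scheme.Modules.pushforward U.1.ι).obj (A.restrict U.1.ι),
        c ≫ α = (Scheme.Modules.restrictAdjunction U.1.ι).unit.app A := by
    intro x hxV
    obtain ⟨W, hW, hxW, -⟩ := exists_good (f := g) (f x) ⊤ trivial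
    obtain ⟨_, ⟨U, hU, rfl⟩, hxU, hUle⟩ :=
      X.isBasis_affineOpens.exists_subset_of_mem_open (show x ∈ V ⊓ f ⁻¹ᵁ W.1 from ⟨hxV, hxW⟩) (V ⊓ f ⁻¹ᵁ W.1).2
    let Ua : X.affineOpens := ⟨U, hU⟩
    refine ⟨Ua, hxU, ?_⟩
    let η := (Scheme.Modules.restrictAdjunction Ua.1.ι).unit.app A
    let E : Der g ((Scheme.Modules.pushforward (Ua.1.ι ≫ f)).obj (A.restrict Ua.1.ι)) :=
      dY.postcomp (adj.unit.app ΩY ≫ (Scheme.Modules.pushforward f).map η ≫
        (Scheme.Modules.pushforwardComp Ua.1.ι f).hom.app (A.restrict Ua.1.ι)).val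
    obtain ⟨D₀, hD₀⟩ := exists_der_extension_of_open V hf Ua (fun z hz => (hUle hz).1) W hW
      (fun z hz => (hUle hz).2) E
    obtain ⟨α, hα, -⟩ := hX _ (pushDer Ua.1.ι D₀)
    refine ⟨α, ?_⟩
    obtain ⟨c₀, -, huniq⟩ := existsUnique_diffCompat f (𝟙 S) (Category.comp_id _) hY (pushDer Ua.1.ι D₀)
    refine (huniq _ (hα ▸ isDiffCompat_postcomp f hc α)).trans (huniq η ?_).symm
    intro Z a
    have h2 : (pushDerSq (Ua.1.ι ≫ f) (𝟙 S) (f := g) (f' := Ua.1.ι ≫ f ≫ g)
        (by rw [Category.comp_id, Category.assoc]) D₀).app Z a = E.app Z a :=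
      congrArg (fun E' : Der g _ => E'.app Z a) hD₀
    refine Eq.trans ?_ (h2.symm.trans ?_)
    · rfl
    · show D₀.app _ ((Ua.1.ι ≫ f).app Z a) = D₀.app _ (Ua.1.ι.app (f ⁻¹ᵁ Z) (f.app Z a))
      rw [Scheme.Hom.comp_app]
      rfl
  refine ⟨fun {N} φ ψ hφ => ?_⟩
  ext Z s
  rw [← sub_eq_zero]
  refine eq_zero_of_res_open hfree V hV _ ?_
  refine app_eq_zero_of_comp_zero c (Z ⊓ V) _ (fun x hx => key x hx.2) ?_
  have h0 : c.app Z (φ.app Z s - ψ.app Z s) = 0 := by
    rw [map_sub, sub_eq_zero]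
    exact congr($(congrArg (fun β => Scheme.Modules.Hom.app β Z) hφ) s)
  exact (congr($(c.mapPresheaf.naturality (homOfLE (inf_le_left : Z ⊓ V ≤ Z)).op) _)).trans ((congrArg (rs ΩX inf_le_left) h0).trans (map_zero _))

/-- A dominant morphism of integral schemes with separable extension of function fields is smooth on a
nonempty open. -/
theorem exists_smooth_open_of_separable [IsIntegral X] [IsIntegral Y] (φ : X ⟶ Y)
    [LocallyOfFinitePresentation φ] (hdom : DenseRange φ.base)
    (hsep : letI := (φ.residueFieldMap (genericPoint X)).hom.toAlgebra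
      Algebra.IsSeparable (Y.residueField (φ.base (genericPoint X))) (X.residueField (genericPoint X))) :
    ∃ V : X.Opens, (V : Set X).Nonempty ∧ Smooth (V.ι ≫ φ) := by
  refine ⟨φ.smoothLocus, ⟨genericPoint X, ?_⟩, ?_⟩
  · have hgen : φ (genericPoint X) = genericPoint Y := by
      have h1 := (genericPoint_spec X).image φ.continuous
      rw [Set.image_univ, hdom.closure_range] at h1
      exact h1.eq (genericPoint_spec Y)
    show (φ.stalkMap (genericPoint X)).hom.FormallySmooth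
    have hY : IsField (Y.presheaf.stalk (φ (genericPoint X))) := by
      rw [hgen]; exact Field.toIsField Y.functionField
    have hX : IsField (X.presheaf.stalk (genericPoint X)) := Field.toIsField X.functionField
    have hiso : ∀ {Z : Scheme.{u}} (z : Z), IsField (Z.presheaf.stalk z) → IsIso (Z.residue z) := fun {Z} z hz =>
      (ConcreteCategory.isIso_iff_bijective _).2 ⟨(RingHom.injective_iff_ker_eq_bot _).2
        (IsLocalRing.ker_residue.trans (IsLocalRing.isField_iff_maximalIdeal_eq.1 hz)), Z.residue_surjective _⟩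
    haveI := hiso _ hY
    haveI := hiso _ hX
    letI := (φ.residueFieldMap (genericPoint X)).hom.toAlgebra
    haveI := hsep
    have h2 : (φ.residueFieldMap (genericPoint X)).hom.FormallySmooth := by
      haveI := Algebra.FormallyEtale.of_isSeparable (Y.residueField (φ (genericPoint X))) (X.residueField (genericPoint X))
      show Algebra.FormallySmooth _ _
      infer_instance
    have h3 : φ.stalkMap (genericPoint X) =
        Y.residue _ ≫ φ.residueFieldMap (genericPoint X) ≫ inv (X.residue (genericPoint X)) := by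
      rw [← Category.assoc, Scheme.residue_residueFieldMap, Category.assoc, IsIso.hom_inv_id, Category.comp_id]
    rw [h3]
    exact (RingHom.FormallySmooth.respectsIso.cancel_left_isIso _ _).2
      ((RingHom.FormallySmooth.respectsIso.cancel_right_isIso _ _).2 h2)
  · rw [← Scheme.Hom.smoothLocus_eq_top_iff, ← Scheme.Hom.preimage_smoothLocus_eq]
    exact φ.smoothLocus.ι_preimage_self

/-- A smooth morphism is formally smooth. -/
theorem isFormallySmoothHom_of_smooth (f : X ⟶ Y) [Smooth f] : MoreMor.IsFormallySmoothHom f :=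
  Groth.L20.SmoothLocal.isFormallySmoothHom_of_charts fun x => by
    obtain ⟨c, hc⟩ := Groth.L20.SmoothLocal.exists_chart f x
    refine ⟨c, hc, ?_⟩
    letI := (f.appLE c.V c.U c.e).hom.toAlgebra
    have := f.smooth_appLE c.hV c.hU c.e
    exact (this : Algebra.Smooth Γ(Y, c.V) Γ(X, c.U)).formallySmooth

end Groth.L07.DiffMono
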