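import Groth.Agent.L07.DiffMonoGeneric
import Groth.Agent.L05.ComplConnectedScheme.Main
import Groth.Agent.L06.FormSmoothField2
import Groth.Agent.L20.DescLocus.Main
import Groth.Agent.L21.Duality.Omega

/-!
Generic smoothness from a geometrically reduced generic fibre, and injectivity of the map of differentials.
-/

set_option autoImplicit false
set_option linter.style.haveILetI false
set_option maxSynthPendingDepth 3
set_option backward.isDefEq.respectTransparency.types false
set_option backward.isDefEq.respectTransparency false

universe u

open CategoryTheory CategoryTheory.Limits AlgebraicGeometry TopologicalSpace TensorProduct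

noncomputable section

namespace Groth.L07.DiffMono

variable {X Y : Scheme.{u}}

theorem geometricallyReduced_stalkMap_of_fibre (f : X ⟶ Y) (x : X) [IsIso (Y.residue (f x))]
    (hgr : GeometricallyReduced (pullback.snd f (Y.fromSpecResidueField (f x)))) :
    GeometricallyReduced (Spec.map (f.stalkMap x)) := by
  refine ⟨fun K _ y Z fst snd h => ?_⟩
  haveI : Flat (X.fromSpecStalk x) := Groth.L05.Point.flat_fromSpecStalk x
  let ι := Y.fromSpecStalk (f x)
  have h' : IsPullback fst snd (X.fromSpecStalk x ≫ f) (y ≫ ι) := by
    have h1 : IsPullback fst snd (Spec.map (f.stalkMap x) ≫ ι) (y ≫ ι) :=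
      IsPullback.of_isLimit (PullbackCone.isLimitOfCompMono _ _ ι h.cone h.isLimit)
    rwa [show Spec.map (f.stalkMap x) ≫ ι = X.fromSpecStalk x ≫ f from
      Scheme.SpecMap_stalkMap_fromSpecStalk f] at h1
  let y' := y ≫ Spec.map (inv (Y.residue (f x)))
  have hy : y ≫ ι = y' ≫ Y.fromSpecResidueField (f x) := by
    rw [Scheme.fromSpecResidueField, Category.assoc, ← Spec.map_comp_assoc, IsIso.hom_inv_id, Spec.map_id,
      Category.id_comp]
  haveI : AlgebraicGeometry.IsReduced (pullback f (y ≫ ι)) := by
    haveI : AlgebraicGeometry.IsReduced (pullback (pullback.snd f (Y.fromSpecResidueField (f x))) y') :=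
      hgr.geometrically_isReduced _ _ _ (IsPullback.of_hasPullback _ _)
    let e : pullback f (y ≫ ι) ≅ pullback (pullback.snd f (Y.fromSpecResidueField (f x))) y' :=
      pullback.congrHom rfl hy ≪≫ (pullbackLeftPullbackSndIso f (Y.fromSpecResidueField (f x)) y').symm
    exact isReduced_of_isOpenImmersion e.hom
  let u : Z ⟶ pullback f (y ≫ ι) := pullback.lift (fst ≫ X.fromSpecStalk x) snd
    (by rw [Category.assoc]; exact h'.w)
  have hu : IsPullback fst u (X.fromSpecStalk x) (pullback.fst f (y ≫ ι)) :=
    IsPullback.of_bot (by rwa [pullback.lift_snd]) (pullback.lift_fst _ _ _).symm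
      (IsPullback.of_hasPullback f (y ≫ ι))
  haveI : Flat u := MorphismProperty.of_isPullback hu ‹Flat (X.fromSpecStalk x)›
  haveI : IsPreimmersion u := MorphismProperty.of_isPullback hu (inferInstance : IsPreimmersion (X.fromSpecStalk x))
  exact Groth.L05.ComplConnectedScheme.isReduced_of_flat_preimmersion u

theorem formallySmooth_of_geometricallyReduced_specMap (A B : Type u) [Field A] [Field B] (φ : A →+* B)
    [GeometricallyReduced (Spec.map (CommRingCat.ofHom φ))] : φ.FormallySmooth := by
  letI := φ.toAlgebra
  have hred : _root_.IsReduced (AlgebraicClosure A ⊗[A] B) := by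
    let b : Spec (CommRingCat.of (AlgebraicClosure A)) ⟶ Spec (CommRingCat.of A) :=
      Spec.map (CommRingCat.ofHom (algebraMap A (AlgebraicClosure A)))
    haveI : GeometricallyReduced (Spec.map (CommRingCat.ofHom (algebraMap A B))) := ‹_›
    haveI : AlgebraicGeometry.IsReduced (pullback (Spec.map (CommRingCat.ofHom (algebraMap A B))) b) :=
      GeometricallyReduced.geometrically_isReduced _ _ _ (IsPullback.of_hasPullback _ b)
    haveI : AlgebraicGeometry.IsReduced (Spec (CommRingCat.of (B ⊗[A] AlgebraicClosure A))) :=
      isReduced_of_isOpenImmersion (pullbackSpecIso A B (AlgebraicClosure A)).inv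
    haveI : _root_.IsReduced (B ⊗[A] AlgebraicClosure A) := (affine_isReduced_iff (CommRingCat.of (B ⊗[A] AlgebraicClosure A))).1 inferInstance
    exact isReduced_of_injective (Algebra.TensorProduct.comm A (AlgebraicClosure A) B)
      (Algebra.TensorProduct.comm A (AlgebraicClosure A) B).injective
  haveI : Algebra.IsGeometricallyReduced A B := (Algebra.isGeometricallyReduced_field_iff A B).2 hred
  exact Groth.L06.FormSmooth.formallySmooth_of_geometricallyReduced A B

theorem isIso_residue (z : X) (hz : IsField (X.presheaf.stalk z)) : IsIso (X.residue z) :=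
  (ConcreteCategory.isIso_iff_bijective _).2 ⟨(RingHom.injective_iff_ker_eq_bot _).2
    (IsLocalRing.ker_residue.trans (IsLocalRing.isField_iff_maximalIdeal_eq.1 hz)), X.residue_surjective _⟩

/-- A dominant morphism of integral schemes with geometrically reduced generic fibre is smooth on a
nonempty open. -/
theorem exists_smooth_open_of_geomReduced [IsIntegral X] [IsIntegral Y] (φ : X ⟶ Y)
    [LocallyOfFinitePresentation φ] (hdom : DenseRange φ.base)
    (hsep : GeometricallyReduced (pullback.snd φ (Y.fromSpecResidueField (genericPoint Y)))) :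
    ∃ V : X.Opens, (V : Set X).Nonempty ∧ Smooth (V.ι ≫ φ) := by
  refine ⟨φ.smoothLocus, ⟨genericPoint X, ?_⟩, ?_⟩
  · have hgen : φ (genericPoint X) = genericPoint Y := by
      have h1 := (genericPoint_spec X).image φ.continuous
      rw [Set.image_univ, hdom.closure_range] at h1
      exact h1.eq (genericPoint_spec Y)
    show (φ.stalkMap (genericPoint X)).hom.FormallySmooth
    have hY : IsField (Y.presheaf.stalk (φ (genericPoint X))) := by
      rw [hgen]; exact Field.toIsField Y.functionField
    have hX : IsField (X.presheaf.stalk (genericPoint X)) := Field.toIsField X.functionField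
    haveI := isIso_residue _ hY
    rw [← hgen] at hsep
    haveI := geometricallyReduced_stalkMap_of_fibre φ (genericPoint X) hsep
    letI := hY.toField
    letI := hX.toField
    exact formallySmooth_of_geometricallyReduced_specMap _ _ (φ.stalkMap (genericPoint X)).hom
  · rw [← Scheme.Hom.smoothLocus_eq_top_iff, ← Scheme.Hom.preimage_smoothLocus_eq]
    exact φ.smoothLocus.ι_preimage_self

end Groth.L07.DiffMono
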