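import Groth.Prelude.Def_DiffOp
import Mathlib.RingTheory.Adjoin.Basic
import Mathlib.RingTheory.Kaehler.Basic
import Mathlib.RingTheory.Ideal.Quotient.Operations

/-! Basic calculus of differential operators between modules (in the sense of `Diff16.IsDiffOpLE`). -/

namespace Groth.L07.DiffOp

open Diff16 (IsDiffOpLE linearize)
open scoped TensorProduct

universe u v

section

variable {A B : Type u} [CommRing A] [CommRing B] [Algebra A B]
variable {M N P : Type v} [AddCommGroup M] [Module A M] [Module B M] [IsScalarTower A B M]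
  [AddCommGroup N] [Module A N] [Module B N] [IsScalarTower A B N]
  [AddCommGroup P] [Module A P] [Module B P] [IsScalarTower A B P]

theorem commutator_apply (D : M →ₗ[A] N) (b : B) (m : M) :
    Diff16.commutator A B M N D b m = D (b • m) - b • D m := by
  simp [Diff16.commutator]

theorem commutator_add (D E : M →ₗ[A] N) (b : B) :
    Diff16.commutator A B M N (D + E) b = Diff16.commutator A B M N D b + Diff16.commutator A B M N E b := by
  ext m; simp only [commutator_apply, LinearMap.add_apply, smul_add]; abel

theorem commutator_neg (D : M →ₗ[A] N) (b : B) :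
    Diff16.commutator A B M N (-D) b = -Diff16.commutator A B M N D b := by
  ext m; simp only [commutator_apply, LinearMap.neg_apply, smul_neg]; abel

theorem commutator_smul (c : B) (D : M →ₗ[A] N) (b : B) :
    Diff16.commutator A B M N (c • D) b = c • Diff16.commutator A B M N D b := by
  ext m; simp only [commutator_apply, LinearMap.smul_apply, smul_sub, smul_smul, mul_comm b c]

theorem commutator_zero (b : B) : Diff16.commutator A B M N 0 b = 0 := by
  ext m; simp [commutator_apply]

theorem commutator_eq_zero_of_order_zero {D : M →ₗ[A] N} (hD : IsDiffOpLE A B M N 0 D) (b : B) :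
    Diff16.commutator A B M N D b = 0 := by
  ext m; simp [commutator_apply, hD b m]

theorem isDiffOpLE_zero : ∀ n, IsDiffOpLE A B M N n 0 := by
  intro n
  induction n with
  | zero => intro b m; simp
  | succ n ih => intro b; rw [commutator_zero]; exact ih

theorem isDiffOpLE_succ : ∀ {n : ℕ} {D : M →ₗ[A] N}, IsDiffOpLE A B M N n D →
    IsDiffOpLE A B M N (n + 1) D := by
  intro n
  induction n with
  | zero => intro D hD b; rw [commutator_eq_zero_of_order_zero hD]; exact isDiffOpLE_zero 0
  | succ n ih => intro D hD b; exact ih (hD b)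

theorem isDiffOpLE_mono {n m : ℕ} (h : n ≤ m) {D : M →ₗ[A] N} (hD : IsDiffOpLE A B M N n D) :
    IsDiffOpLE A B M N m D := by
  induction h with
  | refl => exact hD
  | step _ ih => exact isDiffOpLE_succ ih

theorem isDiffOpLE_add : ∀ {n : ℕ} {D E : M →ₗ[A] N}, IsDiffOpLE A B M N n D →
    IsDiffOpLE A B M N n E → IsDiffOpLE A B M N n (D + E) := by
  intro n
  induction n with
  | zero => intro D E hD hE b m; simp [hD b m, hE b m, smul_add]
  | succ n ih => intro D E hD hE b; rw [commutator_add]; exact ih (hD b) (hE b)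

theorem isDiffOpLE_neg : ∀ {n : ℕ} {D : M →ₗ[A] N}, IsDiffOpLE A B M N n D →
    IsDiffOpLE A B M N n (-D) := by
  intro n
  induction n with
  | zero => intro D hD b m; simp [hD b m]
  | succ n ih => intro D hD b; rw [commutator_neg]; exact ih (hD b)

theorem isDiffOpLE_sub {n : ℕ} {D E : M →ₗ[A] N} (hD : IsDiffOpLE A B M N n D)
    (hE : IsDiffOpLE A B M N n E) : IsDiffOpLE A B M N n (D - E) := by
  rw [sub_eq_add_neg]; exact isDiffOpLE_add hD (isDiffOpLE_neg hE)

theorem isDiffOpLE_smul (c : B) : ∀ {n : ℕ} {D : M →ₗ[A] N}, IsDiffOpLE A B M N n D →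
    IsDiffOpLE A B M N n (c • D) := by
  intro n
  induction n with
  | zero => intro D hD b m; simp [hD b m, smul_smul, mul_comm c b]
  | succ n ih => intro D hD b; rw [commutator_smul]; exact ih (hD b)

theorem isDiffOpLE_restrictScalars (f : M →ₗ[B] N) :
    IsDiffOpLE A B M N 0 (f.restrictScalars A) := fun b m => f.map_smul b m

theorem commutator_comp (D : M →ₗ[A] N) (D' : N →ₗ[A] P) (b : B) :
    Diff16.commutator A B M P (D' ∘ₗ D) b =
      D' ∘ₗ Diff16.commutator A B M N D b + Diff16.commutator A B N P D' b ∘ₗ D := by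
  ext m; simp only [commutator_apply, LinearMap.comp_apply, LinearMap.add_apply, map_sub]; abel

theorem isDiffOpLE_comp {n n' : ℕ} {D : M →ₗ[A] N} {D' : N →ₗ[A] P}
    (hD : IsDiffOpLE A B M N n D) (hD' : IsDiffOpLE A B N P n' D') :
    IsDiffOpLE A B M P (n + n') (D' ∘ₗ D) := by
  suffices H : ∀ (m n n' : ℕ), n + n' = m → ∀ (D : M →ₗ[A] N) (D' : N →ₗ[A] P),
      IsDiffOpLE A B M N n D → IsDiffOpLE A B N P n' D' →
      IsDiffOpLE A B M P m (D' ∘ₗ D) from H _ n n' rfl D D' hD hD'
  intro m
  induction m with
  | zero =>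
    intro n n' h D D' hD hD' b x
    obtain ⟨rfl, rfl⟩ : n = 0 ∧ n' = 0 := by omega
    simp [hD b x, hD' b (D x)]
  | succ m ih =>
    intro n n' h D D' hD hD' b
    rw [commutator_comp]
    apply isDiffOpLE_add
    · cases n with
      | zero =>
        rw [commutator_eq_zero_of_order_zero hD, LinearMap.comp_zero]; exact isDiffOpLE_zero m
      | succ k => exact ih k n' (by omega) _ _ (hD b) hD'
    · cases n' with
      | zero =>
        rw [commutator_eq_zero_of_order_zero hD', LinearMap.zero_comp]; exact isDiffOpLE_zero m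
      | succ k => exact ih n k (by omega) _ _ hD (hD' b)

theorem commutator_mul (D : M →ₗ[A] N) (b c : B) :
    Diff16.commutator A B M N D (b * c) =
      Diff16.commutator A B M N D b ∘ₗ (LinearMap.lsmul B M c).restrictScalars A
        + b • Diff16.commutator A B M N D c := by
  ext m
  simp only [commutator_apply, LinearMap.add_apply, LinearMap.comp_apply, LinearMap.smul_apply,
    LinearMap.restrictScalars_apply, LinearMap.lsmul_apply, smul_sub, mul_smul]
  abel

theorem isDiffOpLE_succ_of_adjoin {s : Set B} (hs : Algebra.adjoin A s = ⊤) {n : ℕ}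
    {D : M →ₗ[A] N} (hD : ∀ g ∈ s, IsDiffOpLE A B M N n (Diff16.commutator A B M N D g)) :
    IsDiffOpLE A B M N (n + 1) D := by
  intro b
  have hb : b ∈ Algebra.adjoin A s := hs ▸ Algebra.mem_top
  induction hb using Algebra.adjoin_induction with
  | mem g hg => exact hD g hg
  | algebraMap a =>
    have : Diff16.commutator A B M N D (algebraMap A B a) = 0 := by
      ext m; simp [commutator_apply]
    rw [this]; exact isDiffOpLE_zero n
  | add x y _ _ hx hy =>
    have : Diff16.commutator A B M N D (x + y) = Diff16.commutator A B M N D x + Diff16.commutator A B M N D y := by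
      ext m; simp only [commutator_apply, LinearMap.add_apply, add_smul, map_add]; abel
    rw [this]; exact isDiffOpLE_add hx hy
  | mul x y _ _ hx hy =>
    rw [commutator_mul]
    exact isDiffOpLE_add
      (by simpa using isDiffOpLE_comp (isDiffOpLE_restrictScalars (LinearMap.lsmul B M y)) hx)
      (isDiffOpLE_smul x hy)

end

/-! ### The action of `B' ⊗[A] B` on `A`-linear maps from a `B`-module to a `B'`-module -/

section Act

variable {A B B' : Type u} [CommRing A] [CommRing B] [Algebra A B] [CommRing B'] [Algebra A B']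
  [Algebra B B'] [IsScalarTower A B B']
variable {M N : Type v} [AddCommGroup M] [Module A M] [Module B M] [IsScalarTower A B M]
  [AddCommGroup N] [Module A N] [Module B N] [IsScalarTower A B N]
  [Module B' N] [IsScalarTower A B' N] [IsScalarTower B B' N]

/-- `act D (c ⊗ b) = c • (D ∘ (b • ·))`. -/
noncomputable def act (D : M →ₗ[A] N) : B' ⊗[A] B →ₗ[A] (M →ₗ[A] N) :=
  TensorProduct.lift (LinearMap.mk₂ A (fun c b => c • (D ∘ₗ (LinearMap.lsmul B M b).restrictScalars A))
    (fun c c' b => add_smul _ _ _)
    (fun a c b => smul_assoc _ _ _)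
    (fun c b b' => by ext m; simp [add_smul, smul_add])
    (fun a c b => by
      ext m
      simp only [LinearMap.smul_apply, LinearMap.comp_apply, LinearMap.restrictScalars_apply,
        LinearMap.lsmul_apply, smul_assoc, map_smul]
      exact smul_comm _ _ _))

@[simp] theorem act_tmul (D : M →ₗ[A] N) (c : B') (b : B) (m : M) :
    act D (c ⊗ₜ b) m = c • D (b • m) := by
  simp [act]

theorem act_one (D : M →ₗ[A] N) : act (B' := B') D (1 : B' ⊗[A] B) = D := by
  ext m; rw [Algebra.TensorProduct.one_def, act_tmul, one_smul, one_smul]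

theorem act_tmul_one_mul (D : M →ₗ[A] N) (c : B') (z : B' ⊗[A] B) :
    act D ((c ⊗ₜ (1 : B)) * z) = c • act D z := by
  induction z using TensorProduct.induction_on with
  | zero => simp
  | tmul c' b => ext m; simp [Algebra.TensorProduct.tmul_mul_tmul, mul_smul]
  | add x y hx hy => simp only [mul_add, map_add, hx, hy, smul_add]

theorem act_one_tmul_mul (D : M →ₗ[A] N) (b : B) (z : B' ⊗[A] B) :
    act D (((1 : B') ⊗ₜ b) * z) =
      act (D ∘ₗ (LinearMap.lsmul B M b).restrictScalars A) z := by
  induction z using TensorProduct.induction_on with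
  | zero => simp
  | tmul c' b' => ext m; simp [Algebra.TensorProduct.tmul_mul_tmul, mul_smul, smul_comm b' b]
  | add x y hx hy => simp only [mul_add, map_add, hx, hy]

theorem act_apply_smul (D : M →ₗ[A] N) (b : B) (z : B' ⊗[A] B) (m : M) :
    act D z (b • m) = act D (((1 : B') ⊗ₜ b) * z) m := by
  induction z using TensorProduct.induction_on with
  | zero => simp
  | tmul c' b' =>
    rw [Algebra.TensorProduct.tmul_mul_tmul, act_tmul, act_tmul, one_mul, smul_smul, mul_comm]
  | add x y hx hy => simp only [mul_add, map_add, LinearMap.add_apply, hx, hy]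

variable (A B B') in
/-- The element `1 ⊗ b - b ⊗ 1` of `B' ⊗[A] B`. -/
noncomputable def dlt (b : B) : B' ⊗[A] B := (1 : B') ⊗ₜ b - algebraMap B B' b ⊗ₜ (1 : B)

variable (A B B') in
/-- The ideal generated by the `1 ⊗ b - b ⊗ 1`. -/
noncomputable def diagIdeal : Ideal (B' ⊗[A] B) := Ideal.span (Set.range (dlt A B B'))

theorem act_dlt_mul (D : M →ₗ[A] N) (b : B) (z : B' ⊗[A] B) :
    act D (dlt A B B' b * z) = act (Diff16.commutator A B M N D b) z := by
  rw [dlt, sub_mul, map_sub, act_one_tmul_mul, act_tmul_one_mul]
  induction z using TensorProduct.induction_on with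
  | zero => simp
  | tmul c b' =>
    ext m
    simp only [LinearMap.sub_apply, act_tmul, LinearMap.comp_apply, LinearMap.smul_apply,
      LinearMap.restrictScalars_apply, LinearMap.lsmul_apply, commutator_apply, smul_sub]
    rw [algebraMap_smul, smul_comm b c]
  | add x y hx hy => simp only [map_add, smul_add, ← hx, ← hy]; abel

theorem isDiffOpLE_iff_act_diagIdeal_pow : ∀ {n : ℕ} {D : M →ₗ[A] N},
    IsDiffOpLE A B M N n D ↔ ∀ z ∈ (diagIdeal A B B') ^ (n + 1), act D z = 0 := by
  intro n
  induction n with
  | zero =>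
    intro D
    constructor
    · intro hD z hz
      rw [zero_add, pow_one] at hz
      suffices ∀ r, act D (r * z) = 0 by simpa using this 1
      induction hz using Submodule.span_induction with
      | mem x hx =>
        obtain ⟨b, rfl⟩ := hx
        intro r
        rw [mul_comm, act_dlt_mul, commutator_eq_zero_of_order_zero hD]
        ext m
        induction r using TensorProduct.induction_on with
        | zero => simp
        | tmul c b' => simp
        | add p q hp hq => simp [hp, hq]
      | zero => simp
      | add x y _ _ hx hy => intro r; simp [mul_add, hx r, hy r]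
      | smul a x _ hx => intro r; rw [smul_eq_mul, ← mul_assoc]; exact hx _
    · intro h b m
      have := h (dlt A B B' b) (by rw [zero_add, pow_one]; exact Ideal.subset_span ⟨b, rfl⟩)
      rw [← mul_one (dlt A B B' b), act_dlt_mul, act_one] at this
      have := LinearMap.congr_fun this m
      rwa [commutator_apply, LinearMap.zero_apply, sub_eq_zero] at this
  | succ n ih =>
    intro D
    constructor
    · intro hD z hz
      rw [pow_succ'] at hz
      induction hz using Submodule.mul_induction_on' with
      | mem_mul_mem x hx y hy =>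
        suffices ∀ r, act D (r * x * y) = 0 by simpa using this 1
        induction hx using Submodule.span_induction with
        | mem g hg =>
          obtain ⟨b, rfl⟩ := hg
          intro r
          rw [mul_comm r, mul_assoc, act_dlt_mul]
          exact (ih.1 (hD b)) _ (Ideal.mul_mem_left _ _ hy)
        | zero => simp
        | add p q _ _ hp hq => intro r; simp [mul_add, add_mul, hp r, hq r]
        | smul a p _ hp => intro r; rw [smul_eq_mul, ← mul_assoc r a p]; exact hp _
      | add x _ y _ hx hy => simp [hx, hy]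
    · intro h b
      refine ih.2 fun z hz => ?_
      rw [← act_dlt_mul]
      refine h _ ?_
      rw [pow_succ' _ (n + 1)]
      exact Ideal.mul_mem_mul (Ideal.subset_span ⟨b, rfl⟩) hz

theorem isDiffOpLE_iff_act_prod : ∀ {n : ℕ} {D : M →ₗ[A] N},
    IsDiffOpLE A B M N n D ↔ ∀ b : Fin (n + 1) → B, act D (∏ i, dlt A B B' (b i)) = 0 := by
  intro n
  induction n with
  | zero =>
    intro D
    constructor
    · intro hD b
      rw [Fin.prod_univ_one, ← mul_one (dlt A B B' (b 0)), act_dlt_mul, act_one,
        commutator_eq_zero_of_order_zero hD]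
    · intro h b m
      have := h (fun _ => b)
      rw [Fin.prod_univ_one, ← mul_one (dlt A B B' b), act_dlt_mul, act_one] at this
      have := LinearMap.congr_fun this m
      rwa [commutator_apply, LinearMap.zero_apply, sub_eq_zero] at this
  | succ n ih =>
    intro D
    constructor
    · intro hD b
      rw [Fin.prod_univ_succ, act_dlt_mul]
      exact ih.1 (hD _) _
    · intro h b
      refine ih.2 fun c => ?_
      have := h (Fin.cons b c)
      rwa [Fin.prod_univ_succ, act_dlt_mul] at this

theorem act_prod_dlt {ι : Type*} [Fintype ι] [DecidableEq ι] (D : M →ₗ[A] N) (b : ι → B) (t : M) :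
    act D (∏ i, dlt A B B' (b i)) t =
      ∑ H : Finset ι, ((-1 : ℤ) ^ H.card) • ((∏ i ∈ H, b i) • D ((∏ i ∈ Hᶜ, b i) • t)) := by
  have key : ∀ (s : Finset ι) (f : ι → B), ∏ i ∈ s, ((1 : B') ⊗ₜ[A] f i) = 1 ⊗ₜ[A] ∏ i ∈ s, f i :=
    fun s f => (map_prod (Algebra.TensorProduct.includeRight : B →ₐ[A] B' ⊗[A] B) f s).symm
  have key' : ∀ (s : Finset ι) (f : ι → B),
      ∏ i ∈ s, (algebraMap B B' (f i) ⊗ₜ[A] (1 : B)) = algebraMap B B' (∏ i ∈ s, f i) ⊗ₜ[A] 1 := by
    intro s f
    rw [map_prod]
    exact (map_prod (Algebra.TensorProduct.includeLeft : B' →ₐ[A] B' ⊗[A] B) _ s).symm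
  have : ∏ i, dlt A B B' (b i) = ∑ H : Finset ι, ((-1 : ℤ) ^ H.card) •
      (algebraMap B B' (∏ i ∈ H, b i) ⊗ₜ[A] (∏ i ∈ Hᶜ, b i)) := by
    have h1 : ∀ i, dlt A B B' (b i) =
        -(algebraMap B B' (b i) ⊗ₜ[A] (1 : B)) + (1 : B') ⊗ₜ[A] b i := fun i => by
      rw [dlt]; abel
    simp only [h1, Fintype.prod_add, Finset.prod_neg, key, key']
    refine Finset.sum_congr rfl fun H _ => ?_
    rw [zsmul_eq_mul, mul_assoc, Algebra.TensorProduct.tmul_mul_tmul, mul_one, one_mul]
    norm_num
  rw [this, map_sum, LinearMap.sum_apply]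
  refine Finset.sum_congr rfl fun H _ => ?_
  rw [map_zsmul, LinearMap.smul_apply, act_tmul, algebraMap_smul]

end Act

end Groth.L07.DiffOp
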