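import Groth.Agent.L07.QuasiSmoothSection
import Groth.Agent.L19.SmoothLocus
import Groth.Agent.L05.LimitLocal

/-!
Differential smoothness along cofiltered limits.
-/

set_option autoImplicit false
set_option linter.style.haveILetI false
set_option maxSynthPendingDepth 3
set_option backward.isDefEq.respectTransparency false
set_option backward.isDefEq.respectTransparency.types false

universe u

open CategoryTheory CategoryTheory.Limits AlgebraicGeometry Groth.L19.Limit

namespace Groth.L07.DiffSmoothLimit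

variable {X Y X' Y' : Scheme.{u}} {f : X ⟶ Y} {f' : X' ⟶ Y'} {g : Y' ⟶ Y} {p : X' ⟶ X}

/-- The map induced on self products. -/
noncomputable def prodMap (h : p ≫ f = f' ≫ g) : pullback f' f' ⟶ pullback f f :=
  pullback.map f' f' f f p p g h.symm h.symm

/-- The second projection of the self product commutes with base change. -/
theorem isPullback_snd (h : IsPullback p f' f g) :
    IsPullback (prodMap h.w) (pullback.snd f' f') (pullback.snd f f) p := by
  refine IsPullback.of_right (h₁₂ := pullback.fst f f) (v₁₃ := f) (h₂₂ := f) ?_ (pullback.lift_snd _ _ _)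
    (IsPullback.of_hasPullback f f)
  rw [show prodMap h.w ≫ pullback.fst f f = pullback.fst f' f' ≫ p from pullback.lift_fst _ _ _, h.w]
  exact (IsPullback.of_hasPullback f' f').paste_horiz h

theorem diagonal_prodMap (h : p ≫ f = f' ≫ g) :
    pullback.diagonal f' ≫ prodMap h = p ≫ pullback.diagonal f := by
  apply pullback.hom_ext <;> simp [prodMap]

/-- The self product is smooth at the diagonal point over `x`. -/
def SmoothDiag (f : X ⟶ Y) (x : X) : Prop :=
  Groth.L05.Point.Nhd @Smooth (pullback.snd f f) (pullback.diagonal f x)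

theorem smoothDiag_of_isPullback (h : IsPullback p f' f g) (x : X') (hx : SmoothDiag f (p x)) :
    SmoothDiag f' x := by
  refine Groth.L05.Point.nhd_of_isPullback (P := @Smooth) (isPullback_snd h) _ ?_
  rw [← Scheme.Hom.comp_apply, diagonal_prodMap, Scheme.Hom.comp_apply]
  exact hx

/-- Differential smoothness, point by point. -/
theorem quasi_diagonal_iff (f : X ⟶ Y) [LocallyOfFinitePresentation f] :
    RegImm.IsRegularImmersion RegImm.Kind.quasi (pullback.diagonal f) ↔ ∀ x, SmoothDiag f x := by
  have h := Groth.L07.QuasiSmoothSection.quasi_iff (pullback.snd f f) (pullback.diagonal f) (pullback.diagonal_snd f)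
  refine h.trans (forall_congr' fun x => ?_)
  exact Groth.L19.SmoothLocus.mem_iff_nhd (pullback.snd f f) (pullback.diagonal f x)

/-- The points with smooth self product form an open set. -/
noncomputable def diagOpen (f : X ⟶ Y) [LocallyOfFinitePresentation f] : X.Opens :=
  pullback.diagonal f ⁻¹ᵁ (pullback.snd f f).smoothLocus

theorem mem_diagOpen (f : X ⟶ Y) [LocallyOfFinitePresentation f] (x : X) :
    x ∈ diagOpen f ↔ SmoothDiag f x := by
  rw [diagOpen, Scheme.Hom.mem_preimage]
  exact Groth.L19.SmoothLocus.mem_iff_nhd (pullback.snd f f) (pullback.diagonal f x)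

attribute [irreducible] diagOpen

section Limit

variable {I : Type u} [SmallCategory I] [IsCofiltered I] {D : I ⥤ Scheme.{u}} {c : Cone D}
  [∀ {i j} (f : i ⟶ j), IsAffineHom (D.map f)] {i₀ : I} {X₀ : Scheme.{u}} {f₀ : X₀ ⟶ D.obj i₀}
  [LocallyOfFinitePresentation f₀] {Z : Scheme.{u}} {q : Z ⟶ X₀} {h : Z ⟶ c.pt}

/-- Smoothness along the diagonal descends to a stage. -/
theorem exists_stage (hc : IsLimit c) (hZ : IsPullback q h f₀ (c.π.app i₀)) (x : Z) (hx : SmoothDiag h x) :
    ∃ j : Over i₀, SmoothDiag (pullback.fst (D.map j.hom) f₀) (toStage hZ j x) := by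
  haveI : LocallyOfFinitePresentation (pullback.snd f₀ f₀ ≫ f₀) := inferInstance
  obtain ⟨j, φ, Tj, Yj, fj, gj, pY, pX, rX, h1, h2, h3, h4, V, hV, hsm⟩ :=
    (Groth.L05.LimitLocal.exists_nhd_iff_exists_stage (P := @Smooth) (fun g _ => inferInstance)
      Groth.L19.Limit.descends_smooth hc (pullback.snd f₀ f₀) f₀ (pullback.snd h h) h q (prodMap hZ.w)
      hZ (isPullback_snd hZ) (pullback.diagonal h x)).mp hx
  refine ⟨Over.mk φ, ?_⟩
  let m : pullback (D.map φ) f₀ ⟶ Yj := h1.lift (pullback.snd (D.map φ) f₀) (pullback.fst (D.map φ) f₀)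
    pullback.condition.symm
  have hm : IsPullback m (pullback.fst (D.map φ) f₀) gj (𝟙 _) := by
    refine IsPullback.of_right (h₁₂ := pY) (v₁₃ := f₀) (h₂₂ := D.map φ) ?_ (by simp [m]) h1
    simpa [m] using (IsPullback.of_hasPullback (D.map φ) f₀).flip
  let rY : Z ⟶ Yj := toStage hZ (Over.mk φ) ≫ m
  have hrY1 : rY ≫ pY = q := by
    show (toStage hZ (Over.mk φ) ≫ m) ≫ pY = q
    rw [Category.assoc, h1.lift_fst]
    exact toStage_snd hZ (Over.mk φ)
  have hrY2 : rY ≫ gj = h ≫ c.π.app j := by
    show (toStage hZ (Over.mk φ) ≫ m) ≫ gj = _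
    rw [Category.assoc, h1.lift_snd]
    exact toStage_fst hZ (Over.mk φ)
  refine smoothDiag_of_isPullback hm _ ?_
  show SmoothDiag gj (rY x)
  -- the self product of the stage
  let k : pullback gj gj ⟶ Tj := h2.lift (prodMap h1.w) (pullback.snd gj gj) (isPullback_snd h1).w
  have hk : IsPullback k (pullback.snd gj gj) fj (𝟙 _) := by
    refine IsPullback.of_right (h₁₂ := pX) (v₁₃ := pullback.snd f₀ f₀) (h₂₂ := pY) ?_ (by simp [k]) h2
    simpa [k] using isPullback_snd h1
  refine Groth.L05.Point.nhd_of_isPullback (P := @Smooth) hk _ ⟨V, ?_, hsm⟩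
  have he : pullback.diagonal h ≫ rX = rY ≫ pullback.diagonal gj ≫ k := by
    refine h2.hom_ext ?_ ?_
    · simp only [Category.assoc, h3, k, IsPullback.lift_fst]
      rw [diagonal_prodMap, diagonal_prodMap, reassoc_of% hrY1]
    · simp only [Category.assoc, k, IsPullback.lift_snd]
      refine h1.hom_ext ?_ ?_
      · simp only [Category.assoc]
        rw [← h2.w, reassoc_of% h3, ← Category.assoc (pullback.diagonal gj), pullback.diagonal_snd, Category.id_comp,
          hrY1, (isPullback_snd hZ).w, ← Category.assoc (pullback.diagonal h), pullback.diagonal_snd, Category.id_comp]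
      · simp only [Category.assoc, h4, pullback.diagonal_snd_assoc, hrY2]
  rw [← Scheme.Hom.comp_apply, ← Scheme.Hom.comp_apply, ← he, Scheme.Hom.comp_apply]
  exact hV

/-- A transition between stages is a base change. -/
theorem isPullback_stage_map {j k : Over i₀} (φ : j ⟶ k) :
    IsPullback ((bcDiagram D f₀).map φ) (pullback.fst (D.map j.hom) f₀) (pullback.fst (D.map k.hom) f₀)
      (D.map φ.left) := by
  refine IsPullback.of_right (h₁₂ := pullback.snd (D.map k.hom) f₀) (v₁₃ := f₀) (h₂₂ := D.map k.hom) ?_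
    (by simp [bcDiagram]) (IsPullback.of_hasPullback (D.map k.hom) f₀).flip
  rw [← D.map_comp, Over.w φ]
  simpa [bcDiagram] using (IsPullback.of_hasPullback (D.map j.hom) f₀).flip

/-- Differential smoothness descends to a stage. -/
theorem exists_quasi_stage (hc : IsLimit c) [CompactSpace X₀] (hZ : IsPullback q h f₀ (c.π.app i₀))
    (hh : ∀ x, SmoothDiag h x) : ∃ j : Over i₀, ∀ y, SmoothDiag (pullback.fst (D.map j.hom) f₀) y := by
  classical
  haveI : ∀ j : Over i₀, LocallyOfFinitePresentation (pullback.fst (D.map j.hom) f₀) :=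
    fun j => MorphismProperty.pullback_fst _ _ inferInstance
  haveI : ∀ j : Over i₀, CompactSpace ((bcDiagram D f₀).obj j) := fun j =>
    QuasiCompact.compactSpace_of_compactSpace (pullback.snd (D.map j.hom) f₀)
  haveI := isAffineHom_π_app _ _ hc i₀
  haveI : IsAffineHom q := MorphismProperty.of_isPullback (P := @IsAffineHom) hZ.flip inferInstance
  haveI : CompactSpace Z := QuasiCompact.compactSpace_of_compactSpace q
  let W : Over i₀ → Z.Opens := fun j => toStage hZ j ⁻¹ᵁ diagOpen (pullback.fst (D.map j.hom) f₀)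
  obtain ⟨t, ht⟩ := isCompact_univ.elim_finite_subcover (fun j => ((W j : Z.Opens) : Set Z)) (fun j => (W j).2)
    fun x _ => by
      obtain ⟨j, hj⟩ := exists_stage hc hZ x (hh x)
      exact Set.mem_iUnion.mpr ⟨j, (mem_diagOpen _ _).mpr hj⟩
  obtain ⟨k, hk⟩ := IsCofiltered.inf_objs_exists t
  have hW : toStage hZ k ⁻¹ᵁ diagOpen (pullback.fst (D.map k.hom) f₀) = ⊤ := top_le_iff.mp fun x _ => by
    obtain ⟨j, hjt, hxj⟩ := Set.mem_iUnion₂.mp (ht (Set.mem_univ x))
    refine (mem_diagOpen _ _).mpr (smoothDiag_of_isPullback (isPullback_stage_map (hk hjt).some) _ ?_)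
    rw [← Scheme.Hom.comp_apply, show toStage hZ k ≫ (bcDiagram D f₀).map (hk hjt).some = toStage hZ j from
      (sqCone hZ).w _]
    exact (mem_diagOpen _ _).mp hxj
  obtain ⟨l, ψ, hl⟩ := exists_map_eq_top (bcDiagram D f₀) (sqCone hZ) (isLimitSqCone hc hZ) _ hW
  exact ⟨l, fun y => smoothDiag_of_isPullback (isPullback_stage_map ψ) y ((mem_diagOpen _ _).mp (hl.ge (Set.mem_univ y)))⟩

/-- Differential smoothness at the limit and at the stages. -/
theorem quasi_diagonal_iff_eventually (hc : IsLimit c) [CompactSpace X₀] (hZ : IsPullback q h f₀ (c.π.app i₀)) :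
    RegImm.IsRegularImmersion RegImm.Kind.quasi (pullback.diagonal h) ↔
      ∃ (j : I) (φ : j ⟶ i₀) (Xj : Scheme.{u}) (fj : Xj ⟶ D.obj j) (pX : Xj ⟶ X₀),
        IsPullback pX fj f₀ (D.map φ) ∧ RegImm.IsRegularImmersion RegImm.Kind.quasi (pullback.diagonal fj) := by
  haveI : LocallyOfFinitePresentation h := MorphismProperty.of_isPullback hZ inferInstance
  rw [quasi_diagonal_iff]
  constructor
  · intro hh
    obtain ⟨j, hj⟩ := exists_quasi_stage hc hZ hh
    haveI : LocallyOfFinitePresentation (pullback.fst (D.map j.hom) f₀) :=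
      MorphismProperty.pullback_fst _ _ inferInstance
    exact ⟨j.left, j.hom, _, _, _, (IsPullback.of_hasPullback (D.map j.hom) f₀).flip,
      (quasi_diagonal_iff _).mpr hj⟩
  · rintro ⟨j, φ, Xj, fj, pX, h1, h2⟩ x
    haveI : LocallyOfFinitePresentation fj := MorphismProperty.of_isPullback h1 inferInstance
    have hsq : IsPullback (h1.lift q (h ≫ c.π.app j) (by rw [Category.assoc, c.w]; exact hZ.w)) h fj (c.π.app j) :=
      IsPullback.of_right (by rw [h1.lift_fst, c.w]; exact hZ) (h1.lift_snd _ _ _) h1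
    exact smoothDiag_of_isPullback hsq x ((quasi_diagonal_iff fj).mp h2 _)

end Limit

end Groth.L07.DiffSmoothLimit
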