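import Groth.Agent.L07.ParafPrincipal
import Groth.Agent.L15.CDivNormal
import Groth.Prelude.Def_ParaF

/-! # Principality of codimension one cycles at points with parafactorial local rings -/

set_option autoImplicit false
set_option linter.style.haveILetI false
set_option maxSynthPendingDepth 3
set_option backward.isDefEq.respectTransparency false
set_option backward.isDefEq.respectTransparency.types false

universe u

open CategoryTheory AlgebraicGeometry TopologicalSpace IsLocalRing

namespace Groth.L07.DivPrincipal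

open Groth.L15.CDivLib

variable {X : Scheme.{u}} [IsIntegral X] [IsLocallyNoetherian X]

/-- The cycle `Z` is principal at `x`. -/
def PrincipalAt (Z : X → ℤ) (x : X) : Prop :=
  ∃ f : X.functionField, f ≠ 0 ∧ ∀ z : X, Order.coheight z = 1 → z ⤳ x → Z z = Scheme.ord f z

theorem ord_one (z : X) : Scheme.ord (1 : X.functionField) z = 0 := by
  rw [← map_one (am z)]; exact ord_eq_zero_of_isUnit isUnit_one

theorem ord_units_zpow (k : CDiv.KUnits X) (n : ℤ) (z : X) :
    Scheme.ord ((k ^ n : CDiv.KUnits X) : X.functionField) z = n * Scheme.ord (k : X.functionField) z := by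
  induction n using Int.induction_on with
  | zero => rw [zpow_zero, zero_mul, Units.val_one, ord_one]
  | succ n ih => rw [zpow_add_one, ord_units_mul, ih, add_mul, one_mul]
  | pred n ih => rw [zpow_sub_one, ← div_eq_mul_inv, ord_units_div, ih, sub_mul, one_mul]

theorem ord_am_nonneg {x z : X} (hz : z ⤳ x) (a : X.presheaf.stalk x) : 0 ≤ Scheme.ord (am x a) z := by
  rw [← am_specializes hz a]; exact ord_nonneg _

theorem am_ne_zero {x : X} {a : X.presheaf.stalk x} (ha : a ≠ 0) : am x a ≠ 0 :=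
  (map_ne_zero_iff _ (am_injective x)).2 ha

theorem ord_am_eq_zero_iff {x z : X} (hz : z ⤳ x) (hc : Order.coheight z = 1) {a : X.presheaf.stalk x}
    (ha : a ≠ 0) : Scheme.ord (am x a) z = 0 ↔ a ∉ RingHom.ker (Cyc.specMap x z hz) := by
  have h0 : X.presheaf.stalkSpecializes hz a ≠ 0 := fun h => by
    have := am_ne_zero ha
    rw [← am_specializes hz a, h, map_zero] at this
    exact this rfl
  rw [← am_specializes hz a, ord_eq_zero_iff_isUnit hc h0, RingHom.mem_ker]
  exact ⟨fun hu h => (IsLocalRing.residue_eq_zero_iff _).mp h hu,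
    fun h => by_contra fun hu => h ((IsLocalRing.residue_eq_zero_iff _).mpr hu)⟩

theorem one_le_ord {x z : X} (hz : z ⤳ x) (hc : Order.coheight z = 1) {a : X.presheaf.stalk x}
    (ha : a ≠ 0) (hk : a ∈ RingHom.ker (Cyc.specMap x z hz)) : 1 ≤ Scheme.ord (am x a) z := by
  have h1 := ord_am_nonneg hz a
  have h2 : Scheme.ord (am x a) z ≠ 0 := fun h => (ord_am_eq_zero_iff hz hc ha).1 h hk
  omega

theorem ker_ne_bot {x z : X} (hz : z ⤳ x) (hc : Order.coheight z = 1) :
    RingHom.ker (Cyc.specMap x z hz) ≠ ⊥ := fun h => by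
  have h1 := height_eq_one hz hc
  rw [h, Ideal.height_bot] at h1
  exact zero_ne_one h1

/-- Only finitely many generisations of codimension one lie on a given element. -/
theorem finite_ord_ne_zero {x : X} {a : X.presheaf.stalk x} (ha : a ≠ 0) :
    {z : X | z ⤳ x ∧ Order.coheight z = 1 ∧ Scheme.ord (am x a) z ≠ 0}.Finite := by
  classical
  let φ : X → Ideal (X.presheaf.stalk x) := fun z =>
    if h : z ⤳ x then RingHom.ker (Cyc.specMap x z h) else ⊥
  refine Set.Finite.of_finite_image (f := φ) (Set.Finite.subset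
    ((Ideal.span {a}).finite_minimalPrimes_of_isNoetherianRing) ?_) ?_
  · rintro _ ⟨z, ⟨hz, hc, ho⟩, rfl⟩
    simp only [φ, dif_pos hz]
    have hak : a ∈ RingHom.ker (Cyc.specMap x z hz) := by_contra fun h => ho ((ord_am_eq_zero_iff hz hc ha).2 h)
    haveI : (RingHom.ker (Cyc.specMap x z hz)).IsPrime := RingHom.ker_isPrime _
    refine ⟨⟨inferInstance, (Ideal.span_singleton_le_iff_mem _).2 hak⟩, fun q hq hle => ?_⟩
    haveI := hq.1
    by_contra hne
    have hlt : q < RingHom.ker (Cyc.specMap x z hz) := lt_of_le_not_ge hle hne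
    have hq0 : (⊥ : Ideal (X.presheaf.stalk x)) < q := bot_lt_iff_ne_bot.2 fun h => ha
      ((Submodule.mem_bot _).1 (h ▸ hq.2 (Ideal.mem_span_singleton_self a)))
    haveI : (⊥ : Ideal (X.presheaf.stalk x)).IsPrime := Ideal.isPrime_bot
    have h1 := Order.add_one_le_of_lt (Ideal.height_strict_mono_of_isPrime hq0)
    rw [Ideal.height_bot, zero_add] at h1
    exact absurd (h1.trans_lt ((Ideal.height_strict_mono_of_isPrime hlt).trans_eq (height_eq_one hz hc))) (lt_irrefl _)
  · rintro z ⟨hz, -, -⟩ w ⟨hw, -, -⟩ h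
    simp only [φ, dif_pos hz, dif_pos hw] at h
    exact ker_specMap_injective hz hw h

theorem ord_am_mul {x z : X} {a b : X.presheaf.stalk x} (ha : a ≠ 0) (hb : b ≠ 0) :
    Scheme.ord (am x (a * b)) z = Scheme.ord (am x a) z + Scheme.ord (am x b) z := by
  rw [map_mul, Scheme.ord_mul (am_ne_zero ha) (am_ne_zero hb)]

/-- An element with large orders at finitely many given points. -/
theorem exists_ord_ge {x : X} (T : Finset X) (hT : ∀ z ∈ T, z ⤳ x ∧ Order.coheight z = 1) (n : X → ℕ) :
    ∃ c : X.presheaf.stalk x, c ≠ 0 ∧ ∀ z ∈ T, (n z : ℤ) ≤ Scheme.ord (am x c) z := by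
  classical
  induction T using Finset.induction with
  | empty => exact ⟨1, one_ne_zero, by simp⟩
  | insert w T hw ih =>
    obtain ⟨c, hc0, hc⟩ := ih fun z hz => hT z (Finset.mem_insert_of_mem hz)
    obtain ⟨hwx, hw1⟩ := hT w (Finset.mem_insert_self w T)
    obtain ⟨p, hp, hp0⟩ := Submodule.exists_mem_ne_zero_of_ne_bot (ker_ne_bot hwx hw1)
    refine ⟨p ^ n w * c, mul_ne_zero (pow_ne_zero _ hp0) hc0, fun z hz => ?_⟩
    obtain ⟨hzx, -⟩ := hT z hz
    rw [ord_am_mul (pow_ne_zero _ hp0) hc0]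
    rcases Finset.mem_insert.1 hz with rfl | hzT
    · have h1 : ∀ m : ℕ, (m : ℤ) ≤ Scheme.ord (am x (p ^ m)) z := by
        intro m
        induction m with
        | zero => rw [pow_zero, map_one, ord_one]; rfl
        | succ m ih =>
          rw [pow_succ, ord_am_mul (pow_ne_zero _ hp0) hp0]
          have := one_le_ord hwx hw1 hp0 hp
          omega
      exact (h1 _).trans (le_add_of_nonneg_right (ord_am_nonneg hzx c))
    · exact (hc z hzT).trans (le_add_of_nonneg_left (ord_am_nonneg hzx _))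

theorem principalAt_of_coheight_le_one (hX : Pi1.IsNormalScheme X) (Z : X → ℤ) (x : X)
    (hx : ringKrullDim (X.presheaf.stalk x) ≤ 1) : PrincipalAt Z x := by
  have hsing : ∀ z : X, Order.coheight z = 1 → z ⤳ x → z = x := by
    intro z hc hz
    have h1 := height_eq_one hz hc
    haveI : (RingHom.ker (Cyc.specMap x z hz)).IsPrime := RingHom.ker_isPrime _
    haveI : Ring.KrullDimLE 1 (X.presheaf.stalk x) := Ring.krullDimLE_iff.2 hx
    have hmax := IsLocalRing.eq_maximalIdeal
      (Ring.krullDimLE_one_iff_of_noZeroDivisors.1 inferInstance _ (ker_ne_bot hz hc) inferInstance)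
    refine ker_specMap_injective hz specializes_rfl (hmax.trans (IsLocalRing.eq_maximalIdeal ?_).symm)
    refine Ring.krullDimLE_one_iff_of_noZeroDivisors.1 inferInstance _ (fun h => ker_ne_bot hz hc ?_) (RingHom.ker_isPrime _)
    rw [hmax, ← le_bot_iff, ← h]
    intro a ha
    rw [RingHom.mem_ker]
    refine (IsLocalRing.residue_eq_zero_iff _).mpr ?_
    rw [TopCat.Presheaf.stalkSpecializes_refl]
    exact ha
  by_cases hc : Order.coheight x = 1
  · haveI := isDVR_of_coheight hX hc
    obtain ⟨k, hk⟩ := exists_isEqn hX hc x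
    refine ⟨_, (k ^ Z x).ne_zero, fun z hz hzx => ?_⟩
    rw [hsing z hz hzx, ord_units_zpow, hk x specializes_rfl hc, if_pos rfl, mul_one]
  · exact ⟨1, one_ne_zero, fun z hz hzx => absurd (hsing z hz hzx ▸ hz) hc⟩

theorem principalAt_of_parafactorial (hX : Pi1.IsNormalScheme X) (Z : X → ℤ)
    (hZfin : ∀ x : X, ∃ W : X.Opens, x ∈ W ∧ {z : X | z ∈ W ∧ Z z ≠ 0}.Finite) (x : X)
    (hd : (2 : WithBot ℕ∞) ≤ ringKrullDim (X.presheaf.stalk x))
    (hpar : ParaF.IsParafactorialLocalRing (X.presheaf.stalk x))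
    (hgen : ∀ y : X, y ⤳ x → y ≠ x → PrincipalAt Z y) : PrincipalAt Z x := by
  classical
  obtain ⟨W, hxW, hW⟩ := hZfin x
  have hTZ : ∀ z, z ⤳ x → Order.coheight z = 1 → Z z ≠ 0 → z ∈ W := fun z hz _ _ => hz.mem_open W.2 hxW
  obtain ⟨T', hT', hT'mem⟩ : ∃ T' : Finset X, (∀ z ∈ T', z ⤳ x ∧ Order.coheight z = 1) ∧
      ∀ z, z ⤳ x → Order.coheight z = 1 → Z z ≠ 0 → z ∈ T' :=
    ⟨hW.toFinset.filter fun z => z ⤳ x ∧ Order.coheight z = 1, fun z hz => (Finset.mem_filter.1 hz).2,
      fun z hz hc h0 => Finset.mem_filter.2 ⟨hW.mem_toFinset.2 ⟨hTZ z hz hc h0, h0⟩, hz, hc⟩⟩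
  obtain ⟨c, hc0, hcT⟩ := exists_ord_ge T' hT' fun z => (Z z).natAbs
  let n : X → ℤ := fun z => Z z + Scheme.ord (am x c) z
  have hn : ∀ z, z ⤳ x → Order.coheight z = 1 → 0 ≤ n z := by
    intro z hz hc
    have h1 := ord_am_nonneg hz c
    by_cases h0 : Z z = 0
    · simp only [n, h0]; omega
    · have h2 := hcT z (hT'mem z hz hc h0)
      simp only [n]; omega
  let J : Ideal (X.presheaf.stalk x) :=
    { carrier := {a | a = 0 ∨ ∀ z, z ⤳ x → Order.coheight z = 1 → n z ≤ Scheme.ord (am x a) z}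
      zero_mem' := Or.inl rfl
      add_mem' := fun {a b} ha hb => by
        rcases ha with rfl | ha
        · rwa [zero_add]
        rcases hb with rfl | hb
        · rw [add_zero]; exact Or.inr ha
        by_cases hab : a + b = 0
        · exact Or.inl hab
        refine Or.inr fun z hz hc => ?_
        haveI := isDVR_of_coheight hX hc
        rw [map_add]
        have h1 := Scheme.ord_add (x := z) (f := am x a) (g := am x b) (by rw [← map_add]; exact am_ne_zero hab)
        exact (le_min (ha z hz hc) (hb z hz hc)).trans h1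
      smul_mem' := fun r a ha => by
        rcases ha with rfl | ha
        · exact Or.inl (mul_zero r)
        by_cases h0 : r • a = 0
        · exact Or.inl h0
        refine Or.inr fun z hz hc => ?_
        rw [smul_eq_mul] at h0 ⊢
        rw [ord_am_mul (left_ne_zero_of_mul h0) (right_ne_zero_of_mul h0)]
        exact (ha z hz hc).trans (le_add_of_nonneg_left (ord_am_nonneg hz r)) }
  obtain ⟨Sp, hSp, hSpmem⟩ : ∃ Sp : Finset X, (∀ z ∈ Sp, z ⤳ x ∧ Order.coheight z = 1) ∧
      ∀ z, z ⤳ x → Order.coheight z = 1 → n z ≠ 0 → z ∈ Sp := by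
    refine ⟨T' ∪ (finite_ord_ne_zero hc0).toFinset, fun z hz => ?_, fun z hz hc h0 => ?_⟩
    · rcases Finset.mem_union.1 hz with h | h
      · exact hT' z h
      · exact ⟨((finite_ord_ne_zero hc0).mem_toFinset.1 h).1, ((finite_ord_ne_zero hc0).mem_toFinset.1 h).2.1⟩
    · by_cases hZ0 : Z z = 0
      · refine Finset.mem_union_right _ ((finite_ord_ne_zero hc0).mem_toFinset.2 ⟨hz, hc, ?_⟩)
        simp only [n, hZ0, zero_add] at h0
        exact h0
      · exact Finset.mem_union_left _ (hT'mem z hz hc hZ0)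
  have hJne : J ≠ ⊥ := by
    obtain ⟨j, hj0, hj⟩ := exists_ord_ge Sp hSp fun z => (n z).natAbs
    have hjJ : j ∈ J := Or.inr fun z hz hc => by
      by_cases h0 : n z = 0
      · rw [h0]; exact ord_am_nonneg hz j
      · exact (Int.le_natAbs).trans (hj z (hSpmem z hz hc h0))
    exact fun hb => hj0 ((Submodule.mem_bot _).1 (hb ▸ hjJ))
  have hmemJ : ∀ {j}, j ∈ J → j ≠ 0 → ∀ z, z ⤳ x → Order.coheight z = 1 → n z ≤ Scheme.ord (am x j) z :=
    fun hj h0 => hj.resolve_left h0
  have hlocal : ∀ P : Ideal (X.presheaf.stalk x), P.IsPrime → P ≠ maximalIdeal _ →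
      ∃ a ∈ J, a ≠ 0 ∧ (∀ z : X, ∀ hz : z ⤳ x, Order.coheight z = 1 → RingHom.ker (Cyc.specMap x z hz) ≤ P →
        Scheme.ord (am x a) z = n z) ∧ ∀ j ∈ J, ∃ s ∉ P, s * j ∈ Ideal.span {a} := by
    intro P hP hne
    let q : Spec (X.presheaf.stalk x) := ⟨P, hP⟩
    let y := X.fromSpecStalk x q
    have hyx : y ⤳ x := by
      have h1 : y ∈ Set.range (X.fromSpecStalk x) := ⟨q, rfl⟩
      rwa [Scheme.range_fromSpecStalk] at h1
    have hkery : RingHom.ker (Cyc.specMap x y hyx) = P := ker_specMap_fromSpecStalk q hyx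
    have hyne : y ≠ x := by
      intro e
      have e1 : X.fromSpecStalk x q = X.fromSpecStalk x (IsLocalRing.closedPoint _) :=
        e.trans Scheme.fromSpecStalk_closedPoint.symm
      exact hne (congrArg PrimeSpectrum.asIdeal ((X.fromSpecStalk x).isEmbedding.injective e1))
    have hspec : ∀ z : X, ∀ hz : z ⤳ x, RingHom.ker (Cyc.specMap x z hz) ≤ P → z ⤳ y := by
      intro z hz hle
      obtain ⟨p, rfl⟩ : ∃ p, X.fromSpecStalk x p = z := Scheme.range_fromSpecStalk.ge hz
      rw [ker_specMap_fromSpecStalk] at hle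
      exact ((PrimeSpectrum.le_iff_specializes p q).1 hle).map (X.fromSpecStalk x).continuous
    letI := (X.presheaf.stalkSpecializes hyx).hom.toAlgebra
    haveI : (RingHom.ker (Cyc.specMap x y hyx)).IsPrime := RingHom.ker_isPrime _
    haveI := Groth.L22.Cyc.isLocalization_stalkSpecializes hyx
    have hsurj : ∀ b : X.presheaf.stalk y, ∃ (r s : X.presheaf.stalk x), s ∉ P ∧ am y b * am x s = am x r := by
      intro b
      obtain ⟨⟨r, s⟩, hrs⟩ := IsLocalization.surj (RingHom.ker (Cyc.specMap x y hyx)).primeCompl b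
      refine ⟨r, s, fun h => s.2 (hkery.ge h), ?_⟩
      have h1 := congrArg (am y) hrs
      rw [map_mul] at h1
      exact (congrArg (am y b * ·) (am_specializes hyx _).symm).trans (h1.trans (am_specializes hyx r))
    have hunit : ∀ s : X.presheaf.stalk x, s ∉ P → ∀ z, z ⤳ y → Order.coheight z = 1 →
        Scheme.ord (am x s) z = 0 := by
      intro s hs z hz hc
      have hu : IsUnit (X.presheaf.stalkSpecializes hyx s) :=
        IsLocalization.map_units (X.presheaf.stalk y) (⟨s, fun h => hs (hkery ▸ h)⟩ : (RingHom.ker (Cyc.specMap x y hyx)).primeCompl)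
      have hu' := hu.map (X.presheaf.stalkSpecializes hz).hom
      rw [← am_specializes hyx s, ← am_specializes hz (X.presheaf.stalkSpecializes hyx s)]
      exact ord_eq_zero_of_isUnit hu'
    obtain ⟨f, hf0, hf⟩ := hgen y hyx hyne
    let k : CDiv.KUnits X := Units.mk0 (G₀ := X.functionField) (f * am x c) (mul_ne_zero hf0 (am_ne_zero hc0))
    have hk : ∀ z, z ⤳ y → Order.coheight z = 1 → Scheme.ord (k : X.functionField) z = n z := by
      intro z hz hc
      show Scheme.ord (f * am x c) z = Z z + _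
      rw [Scheme.ord_mul hf0 (am_ne_zero hc0), hf z hc hz]
    obtain ⟨b, hb⟩ := exists_am_of_ord_nonneg hX y k fun z hz hc => by
      rw [hk z hz hc]; exact hn z (hz.trans hyx) hc
    obtain ⟨r, s, hs, hrs⟩ := hsurj b
    have hs0 : s ≠ 0 := fun h => hs (h ▸ zero_mem _)
    have hr0 : r ≠ 0 := fun h => by
      rw [h, map_zero, hb, mul_eq_zero] at hrs
      exact hrs.elim k.ne_zero (am_ne_zero hs0)
    have hr : ∀ z, z ⤳ y → Order.coheight z = 1 → Scheme.ord (am x r) z = n z := by
      intro z hz hc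
      rw [← hrs, hb, Scheme.ord_mul k.ne_zero (am_ne_zero hs0)]
      show Scheme.ord (k : X.functionField) z + Scheme.ord (am x s) z = n z
      rw [hk z hz hc, hunit s hs z hz hc, add_zero]
    obtain ⟨t, htP, ht0, ht⟩ : ∃ t, t ∉ P ∧ t ≠ 0 ∧ ∀ z ∈ Sp, ¬ z ⤳ y → (n z : ℤ) ≤ Scheme.ord (am x t) z := by
      have key : ∀ S : Finset X, S ⊆ Sp → ∃ t, t ∉ P ∧ t ≠ 0 ∧ ∀ z ∈ S, ¬ z ⤳ y → (n z : ℤ) ≤ Scheme.ord (am x t) z := by
        intro S
        induction S using Finset.induction with
        | empty =>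
          exact fun _ => ⟨1, fun h => hP.ne_top ((Ideal.eq_top_iff_one P).2 h), one_ne_zero,
            fun z hz => absurd hz (Finset.notMem_empty z)⟩
        | insert w S hw ih =>
          intro hsub
          obtain ⟨t, htP, ht0, ht⟩ := ih ((Finset.subset_insert w S).trans hsub)
          obtain ⟨hwx, hw1⟩ := hSp w (hsub (Finset.mem_insert_self w S))
          by_cases hwy : w ⤳ y
          · refine ⟨t, htP, ht0, fun z hz hzy => ?_⟩
            rcases Finset.mem_insert.1 hz with rfl | hzS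
            · exact absurd hwy hzy
            · exact ht z hzS hzy
          obtain ⟨p, hp, hpP⟩ : ∃ p ∈ RingHom.ker (Cyc.specMap x w hwx), p ∉ P := by
            by_contra hcon
            push Not at hcon
            exact hwy (hspec w hwx hcon)
          have hp0 : p ≠ 0 := fun h => hpP (h ▸ zero_mem _)
          refine ⟨p ^ (n w).natAbs * t, fun h => (hP.mem_or_mem h).elim
            (fun h1 => hpP (hP.mem_of_pow_mem _ h1)) htP, mul_ne_zero (pow_ne_zero _ hp0) ht0, fun z hz hzy => ?_⟩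
          obtain ⟨hzx, -⟩ := hSp z (hsub hz)
          rw [ord_am_mul (pow_ne_zero _ hp0) ht0]
          rcases Finset.mem_insert.1 hz with rfl | hzS
          · have h1 : ∀ m : ℕ, (m : ℤ) ≤ Scheme.ord (am x (p ^ m)) z := by
              intro m
              induction m with
              | zero => rw [pow_zero, map_one, ord_one]; rfl
              | succ m ih =>
                rw [pow_succ, ord_am_mul (pow_ne_zero _ hp0) hp0]
                have := one_le_ord hwx hw1 hp0 hp
                omega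
            exact (Int.le_natAbs).trans ((h1 _).trans (le_add_of_nonneg_right (ord_am_nonneg hzx t)))
          · exact (ht z hzS hzy).trans (le_add_of_nonneg_left (ord_am_nonneg hzx _))
      exact key Sp subset_rfl
    refine ⟨t * r, Or.inr fun z hz hc => ?_, mul_ne_zero ht0 hr0, fun z hz hc hle => ?_, fun j hj => ?_⟩
    · rw [ord_am_mul ht0 hr0]
      by_cases hzy : z ⤳ y
      · rw [hr z hzy hc]; exact le_add_of_nonneg_left (ord_am_nonneg hz t)
      by_cases h0 : n z = 0
      · rw [h0]; exact add_nonneg (ord_am_nonneg hz t) (ord_am_nonneg hz r)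
      · exact (ht z (hSpmem z hz hc h0) hzy).trans (le_add_of_nonneg_right (ord_am_nonneg hz r))
    · have hzy := hspec z hz hle
      rw [ord_am_mul ht0 hr0, hr z hzy hc, hunit t htP z hzy hc, zero_add]
    · by_cases hj0 : j = 0
      · exact ⟨1, fun h => hP.ne_top ((Ideal.eq_top_iff_one P).2 h), by rw [hj0, mul_zero]; exact zero_mem _⟩
      obtain ⟨b', hb'⟩ := exists_am_of_ord_nonneg hX y
        (Units.mk0 (G₀ := X.functionField) (am x j) (am_ne_zero hj0) /
          Units.mk0 (G₀ := X.functionField) (am x (t * r)) (am_ne_zero (mul_ne_zero ht0 hr0))) fun z hz hc => by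
        rw [ord_units_div]
        show 0 ≤ Scheme.ord (am x j) z - Scheme.ord (am x (t * r)) z
        rw [ord_am_mul ht0 hr0, hr z hz hc, hunit t htP z hz hc, zero_add]
        exact sub_nonneg.2 (hmemJ hj hj0 z (hz.trans hyx) hc)
      obtain ⟨r', s', hs', hrs'⟩ := hsurj b'
      refine ⟨s', hs', Ideal.mem_span_singleton'.2 ⟨r', am_injective x ?_⟩⟩
      rw [map_mul, map_mul, ← hrs', hb', Units.val_div_eq_div_val, Units.val_mk0, Units.val_mk0]
      rw [map_mul _ t r, map_mul _ s' j]
      field_simp [am_ne_zero ht0, am_ne_zero hr0]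
  haveI : IsDomain (X.presheaf.stalk x) := inferInstance
  obtain ⟨a₀, ha₀⟩ := Groth.L07.ParafPrincipal.exists_generator hpar J hJne fun P hP hne =>
    let ⟨a, haJ, _, _, ha⟩ := hlocal P hP hne
    ⟨a, haJ, ha⟩
  have hmaxne : ∀ z, ∀ hz : z ⤳ x, Order.coheight z = 1 → RingHom.ker (Cyc.specMap x z hz) ≠ maximalIdeal _ := by
    intro z hz hc he
    have h1 := height_eq_one hz hc
    rw [he] at h1
    rw [← IsLocalRing.maximalIdeal_height_eq_ringKrullDim, h1] at hd
    exact absurd hd (by decide)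
  have hord : ∀ z, z ⤳ x → Order.coheight z = 1 → a₀ ≠ 0 ∧ Scheme.ord (am x a₀) z = n z := by
    intro z hz hc
    haveI hPp : (RingHom.ker (Cyc.specMap x z hz)).IsPrime := RingHom.ker_isPrime _
    obtain ⟨⟨s, hs, hsJ⟩, hall⟩ := ha₀ _ hPp (hmaxne z hz hc)
    obtain ⟨a, haJ, ha0, hae, -⟩ := hlocal _ hPp (hmaxne z hz hc)
    obtain ⟨s', hs', hs'a⟩ := hall a haJ
    obtain ⟨w, hw⟩ := Ideal.mem_span_singleton'.1 hs'a
    have hs'0 : s' ≠ 0 := fun h => hs' (h ▸ zero_mem _)
    have hs0 : s ≠ 0 := fun h => hs (h ▸ zero_mem _)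
    have hwa : w * a₀ ≠ 0 := by rw [hw]; exact mul_ne_zero hs'0 ha0
    have h0 : a₀ ≠ 0 := right_ne_zero_of_mul hwa
    refine ⟨h0, le_antisymm ?_ ?_⟩
    · have h1 := congrArg (fun v => Scheme.ord (am x v) z) hw
      simp only [ord_am_mul (left_ne_zero_of_mul hwa) h0, ord_am_mul hs'0 ha0,
        (ord_am_eq_zero_iff hz hc hs'0).2 hs', hae z hz hc le_rfl, zero_add] at h1
      have := ord_am_nonneg hz w
      omega
    · have h1 := hmemJ hsJ (mul_ne_zero hs0 h0) z hz hc
      rwa [ord_am_mul hs0 h0, (ord_am_eq_zero_iff hz hc hs0).2 hs, zero_add] at h1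
  by_cases hex : a₀ = 0
  · exact ⟨1, one_ne_zero, fun z hc hz => absurd hex (hord z hz hc).1⟩
  refine ⟨am x a₀ / am x c, div_ne_zero (am_ne_zero hex) (am_ne_zero hc0), fun z hc hz => ?_⟩
  have h1 := Scheme.ord_mul (X := X) (x := z) (div_ne_zero (am_ne_zero hex) (am_ne_zero hc0)) (am_ne_zero hc0)
  rw [div_mul_cancel₀ _ (am_ne_zero hc0), (hord z hz hc).2] at h1
  change Z z + _ = _ + _ at h1
  omega

theorem principalAt_everywhere (hX : Pi1.IsNormalScheme X) (S : Set X)
    (hpar : ∀ x : X, closure {x} ∩ S = ∅ → (2 : WithBot ℕ∞) ≤ ringKrullDim (X.presheaf.stalk x) →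
      ParaF.IsParafactorialLocalRing (X.presheaf.stalk x))
    (Z : X → ℤ) (hZfin : ∀ x : X, ∃ W : X.Opens, x ∈ W ∧ {z : X | z ∈ W ∧ Z z ≠ 0}.Finite)
    (hS : ∀ s ∈ S, PrincipalAt Z s) (x : X) : PrincipalAt Z x := by
  suffices h : ∀ (k : ℕ) (x : X), (maximalIdeal (X.presheaf.stalk x)).height = k → PrincipalAt Z x by
    obtain ⟨k, hk⟩ := ENat.ne_top_iff_exists.mp (Ideal.height_ne_top_of_isPrime
      (I := maximalIdeal (X.presheaf.stalk x)))
    exact h k x hk.symm
  intro k
  induction k using Nat.strong_induction_on with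
  | _ k ih =>
    intro x hk
    by_cases hd : ringKrullDim (X.presheaf.stalk x) ≤ 1
    · exact principalAt_of_coheight_le_one hX Z x hd
    by_cases hmeet : (closure {x} ∩ S).Nonempty
    · obtain ⟨s, hxs, hsS⟩ := hmeet
      obtain ⟨f, hf0, hf⟩ := hS s hsS
      exact ⟨f, hf0, fun z hc hz => hf z hc (hz.trans (specializes_iff_mem_closure.2 hxs))⟩
    have hd2 : (2 : WithBot ℕ∞) ≤ ringKrullDim (X.presheaf.stalk x) := by
      rw [← IsLocalRing.maximalIdeal_height_eq_ringKrullDim, hk] at hd ⊢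
      have : 2 ≤ k := by
        by_contra h
        exact hd (WithBot.coe_le_coe.mpr (show (k : ℕ∞) ≤ (1 : ℕ) from Nat.cast_le.mpr (by omega)))
      exact WithBot.coe_le_coe.mpr (show (2 : ℕ∞) ≤ (k : ℕ∞) from Nat.cast_le.mpr this)
    refine principalAt_of_parafactorial hX Z hZfin x hd2 (hpar x (Set.not_nonempty_iff_eq_empty.1 hmeet) hd2)
      fun y hy hne => ?_
    obtain ⟨k', hk'⟩ := ENat.ne_top_iff_exists.mp (Ideal.height_ne_top_of_isPrime
      (I := maximalIdeal (X.presheaf.stalk y)))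
    refine ih k' ?_ y hk'.symm
    haveI : (RingHom.ker (Cyc.specMap x y hy)).IsPrime := RingHom.ker_isPrime _
    have h1 : (maximalIdeal (X.presheaf.stalk y)).height = (RingHom.ker (Cyc.specMap x y hy)).height := by
      letI := (X.presheaf.stalkSpecializes hy).hom.toAlgebra
      haveI := Groth.L22.Cyc.isLocalization_stalkSpecializes hy
      apply WithBot.coe_injective
      rw [IsLocalRing.maximalIdeal_height_eq_ringKrullDim,
        IsLocalization.AtPrime.ringKrullDim_eq_height (RingHom.ker (Cyc.specMap x y hy)) (X.presheaf.stalk y)]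
    have hlt : RingHom.ker (Cyc.specMap x y hy) < maximalIdeal (X.presheaf.stalk x) := by
      refine lt_of_le_of_ne (IsLocalRing.le_maximalIdeal (RingHom.ker_ne_top _)) fun e => hne ?_
      obtain ⟨p, rfl⟩ : ∃ p, X.fromSpecStalk x p = y := Scheme.range_fromSpecStalk.ge hy
      rw [ker_specMap_fromSpecStalk] at e
      rw [show p = IsLocalRing.closedPoint _ from PrimeSpectrum.ext e, Scheme.fromSpecStalk_closedPoint]
    have h2 := Ideal.height_strict_mono_of_isPrime hlt
    rw [← h1, ← hk', hk] at h2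
    exact_mod_cast h2

end Groth.L07.DivPrincipal
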