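import Groth.Agent.S0568
import Groth.Agent.L04.Canon.Chevalley
import Groth.Agent.L04.LC.Hmap
import Groth.Agent.L03.RegularFiniteExt
import Groth.Agent.L05.Hensel.IntegralDomain
import Mathlib.RingTheory.DiscreteValuationRing.TFAE
import Mathlib.RingTheory.Ideal.MinimalPrime.Noetherian
import Mathlib.RingTheory.Henselian
import Groth.Agent.L00.ArtinTate

/-!
Finite maps to discrete valuation rings separate a reduced complete local ring.
-/

universe u

open IsLocalRing

namespace Groth.L07.DvrSep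

set_option autoImplicit false
set_option linter.style.haveILetI false
set_option maxSynthPendingDepth 3

variable (A : Type u) [CommRing A] [IsLocalRing A] [IsNoetherianRing A]

/-- In a reduced local ring which is not a field the primes of coheight one meet in zero. -/
theorem exists_prime_dim_one_notMem [IsReduced A] (hA : ¬ IsField A) {x : A} (hx : x ≠ 0) :
    ∃ P : Ideal A, P.IsPrime ∧ ringKrullDim (A ⧸ P) = 1 ∧ x ∉ P := by
  classical
  obtain ⟨Q, hQ, hxQ⟩ : ∃ Q ∈ minimalPrimes A, x ∉ Q := by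
    by_contra! hall
    refine hx ?_
    have hmem : x ∈ sInf (minimalPrimes A) := Submodule.mem_sInf.mpr hall
    rw [minimalPrimes, Ideal.sInf_minimalPrimes] at hmem
    exact (show IsNilpotent x from hmem).eq_zero
  haveI hQp : Q.IsPrime := Ideal.minimalPrimes_isPrime hQ
  have hQm : Q ≠ maximalIdeal A := by
    intro h
    apply hA
    rw [IsLocalRing.isField_iff_maximalIdeal_eq, eq_bot_iff]
    intro y hy
    have hmem : y ∈ sInf (minimalPrimes A) := Submodule.mem_sInf.mpr fun P hP => by
      haveI := Ideal.minimalPrimes_isPrime hP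
      have hPQ : P ≤ Q := h ▸ IsLocalRing.le_maximalIdeal (Ideal.IsPrime.ne_top inferInstance)
      exact hQ.2 ⟨inferInstance, bot_le⟩ hPQ (h ▸ hy)
    rw [minimalPrimes, Ideal.sInf_minimalPrimes] at hmem
    exact Ideal.mem_bot.mpr (show IsNilpotent y from hmem).eq_zero
  let S : Set (Ideal A) := {P | P.IsPrime ∧ Q ≤ P ∧ P ≠ maximalIdeal A ∧ x ∉ P}
  obtain ⟨P, ⟨hP, hQP, hPm, hxP⟩, hmax⟩ := set_has_maximal_iff_noetherian.2 inferInstance S ⟨Q, hQp, le_rfl, hQm, hxQ⟩
  refine ⟨P, hP, ?_, hxP⟩
  refine le_antisymm ?_ ?_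
  · rw [ringKrullDim_quotient]
    refine iSup_le fun l => WithBot.coe_le_coe.2 (ENat.coe_le_coe.2 ?_)
    by_contra hl
    rw [not_le] at hl
    have h01 : (l ⟨0, by omega⟩).1.asIdeal < (l ⟨1, by omega⟩).1.asIdeal := l.strictMono (by simp [Fin.lt_def])
    have h12 : (l ⟨1, by omega⟩).1.asIdeal < (l ⟨2, by omega⟩).1.asIdeal := l.strictMono (by simp [Fin.lt_def])
    let r := (l ⟨1, by omega⟩).1.asIdeal
    have hPr : P < r := lt_of_le_of_lt (l ⟨0, by omega⟩).2 h01
    haveI : r.IsPrime := (l ⟨1, by omega⟩).1.2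
    have hrm : r < maximalIdeal A :=
      lt_of_lt_of_le h12 (IsLocalRing.le_maximalIdeal (l ⟨2, by omega⟩).1.2.ne_top)
    by_cases hxr : x ∈ r
    · refine hrm.ne (Groth.L00.ArtinTate.eq_of_le hxP (fun q hq hPq hne => ?_) hPr.le hPr.ne'
        (IsLocalRing.le_maximalIdeal (Ideal.IsPrime.ne_top ‹r.IsPrime›)))
      by_contra hxq
      exact hmax q ⟨hq, hQP.trans hPq, fun h => hxq (h ▸ hrm.le hxr), hxq⟩ (lt_of_le_of_ne hPq (Ne.symm hne))
    · exact hmax r ⟨inferInstance, hQP.trans hPr.le, hrm.ne, hxr⟩ hPr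
  · rw [ringKrullDim_quotient]
    refine Order.one_le_krullDim_iff.2 ⟨⟨⟨P, hP⟩, fun a ha => ha⟩,
      ⟨IsLocalRing.closedPoint A, le_maximalIdeal hP.ne_top⟩, ?_⟩
    exact lt_of_le_of_ne (le_maximalIdeal hP.ne_top) fun h => hPm (congrArg (fun q => q.1.asIdeal) h)

variable [IsAdicComplete (maximalIdeal A) A]

/-- A family of ideals of a complete local ring with zero intersection has finite subfamilies as small as desired. -/
theorem exists_finset_iInf_le {ι : Type u} (P : ι → Ideal A) (h : ⨅ i, P i = ⊥) (n : ℕ) :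
    ∃ s : Finset ι, s.inf P ≤ maximalIdeal A ^ n := by
  classical
  have hmin : ∀ j : ℕ, ∃ s : Finset ι, ∀ t : Finset ι, s ⊆ t → s.inf P ⊔ maximalIdeal A ^ j ≤ t.inf P ⊔ maximalIdeal A ^ j := by
    intro j
    haveI : IsArtinianRing (A ⧸ maximalIdeal A ^ j) := by
      rcases Nat.eq_zero_or_pos j with rfl | hj
      · haveI : Subsingleton (A ⧸ maximalIdeal A ^ 0) := Ideal.Quotient.subsingleton_iff.mpr (by simp)
        infer_instance
      haveI : IsNoetherianRing (A ⧸ maximalIdeal A ^ j) := inferInstance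
      rw [isArtinianRing_iff_krullDimLE_zero]
      refine Ring.krullDimLE_zero_iff.2 fun I hI => ?_
      haveI := hI
      have hle : maximalIdeal A ^ j ≤ I.comap (Ideal.Quotient.mk (maximalIdeal A ^ j)) := fun y hy => by
        rw [Ideal.mem_comap, Ideal.Quotient.eq_zero_iff_mem.2 hy]
        exact I.zero_mem
      have hc : I.comap (Ideal.Quotient.mk (maximalIdeal A ^ j)) = maximalIdeal A :=
        ((maximalIdeal.isMaximal A).eq_of_le (Ideal.comap_ne_top _ hI.ne_top)
          ((Ideal.IsPrime.comap (Ideal.Quotient.mk (maximalIdeal A ^ j))).le_of_pow_le hle)).symm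
      have hI' := (Ideal.map_comap_of_surjective _ Ideal.Quotient.mk_surjective I).symm
      rw [hc] at hI'
      rw [hI']
      exact (Ideal.map_eq_top_or_isMaximal_of_surjective _ Ideal.Quotient.mk_surjective
        (maximalIdeal.isMaximal A)).resolve_left (hI' ▸ hI.ne_top)
    let q := Ideal.Quotient.mk (maximalIdeal A ^ j)
    obtain ⟨_, ⟨s, rfl⟩, hs⟩ := (IsArtinian.set_has_minimal (Set.range fun s : Finset ι => (s.inf P).map q)
      (Set.range_nonempty _))
    refine ⟨s, fun t hst => ?_⟩
    have h1 : (t.inf P).map q ≤ (s.inf P).map q := Ideal.map_mono (Finset.inf_mono hst)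
    have h2 : (s.inf P).map q = (t.inf P).map q := by
      by_contra hne
      exact hs _ ⟨t, rfl⟩ (lt_of_le_of_ne h1 (Ne.symm hne))
    have h3 := congrArg (Ideal.comap q) h2
    rw [Ideal.comap_map_of_surjective' _ Ideal.Quotient.mk_surjective,
      Ideal.comap_map_of_surjective' _ Ideal.Quotient.mk_surjective, Ideal.mk_ker] at h3
    exact h3.le
  choose s hs using hmin
  let F : ℕ → Finset ι := fun j => (Finset.range (j + 1)).biUnion s
  let J : ℕ → Ideal A := fun j => (F j).inf P
  have hJ : Antitone J := fun a b hab => Finset.inf_mono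
    (Finset.biUnion_subset_biUnion_of_subset_left _ (Finset.range_mono (Nat.succ_le_succ hab)))
  obtain ⟨N, hN⟩ := Groth.L04.Canon.exists_le_iInf_sup_pow J hJ n
  refine ⟨F N, hN.trans (sup_le ?_ le_rfl)⟩
  refine le_trans ?_ (bot_le (a := maximalIdeal A ^ n))
  rw [← h]
  refine le_iInf fun i z hz => Groth.L04.Canon.mem_of_forall_mem_sup_pow _ fun j => ?_
  have h1 : z ∈ J j := (Submodule.mem_iInf _).mp hz j
  have h2 : (s j) ⊆ F j := Finset.subset_biUnion_of_mem s (Finset.self_mem_range_succ j)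
  have h3 : z ∈ (s j).inf P ⊔ maximalIdeal A ^ j := Ideal.mem_sup_left ((Finset.inf_mono (f := P) h2 : (F j).inf P ≤ (s j).inf P) h1)
  have h4 : (insert i (s j)).inf P ≤ P i := Finset.inf_le (Finset.mem_insert_self i _)
  exact sup_le_sup_right h4 _ (hs j _ (Finset.subset_insert i _) h3)

/-- The normalisation of a one-dimensional quotient is a discrete valuation ring, finite over the ring. -/
theorem exists_finite_dvr (P : Ideal A) [P.IsPrime] (hP : ringKrullDim (A ⧸ P) = 1) :
    ∃ (V : Type u) (_ : CommRing V) (_ : IsDomain V) (_ : IsDiscreteValuationRing V) (φ : A →+* V),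
      IsLocalHom φ ∧ φ.Finite ∧ RingHom.ker φ ≤ P := by
  let D := A ⧸ P
  haveI : IsLocalRing D := IsLocalRing.of_surjective' _ Ideal.Quotient.mk_surjective
  haveI : IsAdicComplete (maximalIdeal D) D := Groth.L01.NagataComplete.isAdicComplete_quotient P
  let K := FractionRing D
  let V := integralClosure D K
  haveI : Module.Finite D V :=
    (Groth.Agent.S0568.result A).2 P K inferInstance
  haveI : IsNoetherianRing V := IsNoetherianRing.of_finite D V
  haveI : IsFractionRing V K := integralClosure.isFractionRing_of_finite_extension K K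
  haveI : IsIntegrallyClosed V := integralClosure.isIntegrallyClosedOfFiniteExtension K
  haveI : HenselianLocalRing D := Groth.L05.henselianLocalRing_of_henselianRing
  haveI : IsLocalRing V := Groth.L05.isLocalRing_of_finite_domain (A := D) V
  have hinj : Function.Injective (algebraMap D V) := fun a b h =>
    IsFractionRing.injective D K (congrArg Subtype.val h)
  have hdim : ringKrullDim V = 1 :=
    (Groth.L03.RegularFiniteExt.ringKrullDim_eq_of_integral (A := D) (B := V) hinj).symm.trans hP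
  have hV : ¬ IsField V := fun hf => by
    letI := hf.toField
    exact zero_ne_one ((ringKrullDim_eq_zero_of_field V).symm.trans hdim)
  haveI : IsDiscreteValuationRing V := by
    have h30 : IsIntegrallyClosed V ∧ (∃! P : Ideal V, P ≠ ⊥ ∧ P.IsPrime) ↔ IsDiscreteValuationRing V :=
      (IsDiscreteValuationRing.TFAE V hV).out 3 0
    refine h30.mp ⟨inferInstance, maximalIdeal V,
      ⟨fun h => hV (IsLocalRing.isField_iff_maximalIdeal_eq.mpr h), inferInstance⟩, ?_⟩
    rintro Q ⟨hQ0, hQ⟩
    by_contra hne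
    let l : LTSeries (PrimeSpectrum V) :=
      { length := 2
        toFun := ![⟨⊥, Ideal.isPrime_bot⟩, ⟨Q, hQ⟩, IsLocalRing.closedPoint V]
        step := fun i => by
          fin_cases i
          · exact bot_lt_iff_ne_bot.mpr hQ0
          · exact lt_of_le_of_ne (IsLocalRing.le_maximalIdeal hQ.ne_top) hne }
    have h2 : ((2 : ℕ) : WithBot ℕ∞) ≤ ringKrullDim V := Order.LTSeries.length_le_krullDim l
    rw [hdim] at h2
    exact absurd (show (2 : ℕ) ≤ 1 by exact_mod_cast h2) (by omega)
  refine ⟨V, inferInstance, inferInstance, inferInstance, (algebraMap D V).comp (Ideal.Quotient.mk P), ?_, ?_, ?_⟩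
  · haveI : IsLocalHom (Ideal.Quotient.mk P) := IsLocalHom.of_surjective _ Ideal.Quotient.mk_surjective
    haveI : IsLocalHom (algebraMap D V) := RingHom.IsIntegral.isLocalHom
      (fun x => Algebra.IsIntegral.isIntegral x) hinj
    exact RingHom.isLocalHom_comp _ _
  · exact (RingHom.finite_algebraMap.mpr inferInstance).comp (RingHom.Finite.of_surjective _ Ideal.Quotient.mk_surjective)
  · intro a ha
    exact Ideal.Quotient.eq_zero_iff_mem.mp (hinj ((RingHom.mem_ker.mp ha).trans (map_zero _).symm))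

/-- The criterion. -/
theorem exists_dvr_family [IsReduced A] (hA : ¬ IsField A) (n : ℕ) :
    ∃ (k : ℕ) (V : Fin k → Type u) (_ : ∀ i, CommRing (V i)) (_ : ∀ i, IsDomain (V i))
      (_ : ∀ i, IsDiscreteValuationRing (V i)) (φ : ∀ i, A →+* V i),
      (∀ i, IsLocalHom (φ i) ∧ (φ i).Finite) ∧ ⨅ i, RingHom.ker (φ i) ≤ maximalIdeal A ^ n := by
  classical
  let ι := {P : Ideal A // P.IsPrime ∧ ringKrullDim (A ⧸ P) = 1}
  have hbot : ⨅ P : ι, P.1 = ⊥ := by
    rw [eq_bot_iff]
    intro x hx
    by_contra hne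
    obtain ⟨P, hP, hdim, hxP⟩ := exists_prime_dim_one_notMem A hA (fun h : x = 0 => hne (Ideal.mem_bot.mpr h))
    exact hxP ((Submodule.mem_iInf _).mp hx ⟨P, hP, hdim⟩)
  obtain ⟨s, hs⟩ := exists_finset_iInf_le A (fun P : ι => P.1) hbot n
  have hex : ∀ i : Fin s.card, ∃ (V : Type u) (_ : CommRing V) (_ : IsDomain V) (_ : IsDiscreteValuationRing V)
      (φ : A →+* V), IsLocalHom φ ∧ φ.Finite ∧ RingHom.ker φ ≤ (s.equivFin.symm i).1.1 := fun i => by
    haveI := (s.equivFin.symm i).1.2.1
    exact exists_finite_dvr A _ (s.equivFin.symm i).1.2.2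
  choose V iC iD iV φ hl hf hk using hex
  refine ⟨s.card, V, iC, iD, iV, φ, fun i => ⟨hl i, hf i⟩, le_trans ?_ hs⟩
  refine Finset.le_inf fun P hP => ?_
  refine (iInf_le _ (s.equivFin ⟨P, hP⟩)).trans ((hk _).trans ?_)
  rw [Equiv.symm_apply_apply]

end Groth.L07.DvrSep
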