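import Groth.Agent.L07.EquidimQF
import Groth.Prelude.Def_EGA43
import Mathlib.AlgebraicGeometry.Noetherian
import Mathlib.RingTheory.KrullDimension.Polynomial

/-!
Equidimensional morphisms and quasi-finite maps to affine space (EGA IV 13.3.1).
-/

universe u

open CategoryTheory CategoryTheory.Limits AlgebraicGeometry TopologicalSpace Topology

namespace Groth.L07.Equidim

open Groth.L22 Groth.L07.EquidimQF

set_option maxSynthPendingDepth 3
set_option linter.style.haveILetI false
set_option backward.isDefEq.respectTransparency.types false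
set_option backward.isDefEq.respectTransparency false

variable {X U P Y : Scheme.{u}}

/-- The dimension of the closure of a point in its fibre. -/
noncomputable def fdim (f : X ⟶ Y) (u : X) : WithBot ℕ∞ :=
  topologicalKrullDim ↥(closure ({u} : Set X) ∩ f.base ⁻¹' {f.base u})

theorem apply_fiberι (f : X ⟶ Y) (y : Y) (c : f.fiber y) : f (f.fiberι y c) = y := by
  have : f.fiberι y c ∈ Set.range (f.fiberι y) := ⟨c, rfl⟩
  rw [f.range_fiberι] at this
  exact this

theorem fdim_fiberι (f : X ⟶ Y) (y : Y) (c : f.fiber y) :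
    fdim f (f.fiberι y c) = topologicalKrullDim (closure ({c} : Set (f.fiber y))) := by
  have he := (f.fiberι y).isEmbedding
  refine SchemeDim.topologicalKrullDim_eq_of_isEmbedding (he.comp IsEmbedding.subtypeVal) ?_
  rw [Set.range_comp, Subtype.range_coe, he.isInducing.closure_eq_preimage_closure_image,
    Set.image_preimage_eq_inter_range, f.range_fiberι, Set.image_singleton]
  rw [show f.base (f.fiberι y c) = y from apply_fiberι f y c]

theorem exists_fiber_point (f : X ⟶ Y) (u : X) : ∃ c : f.fiber (f u), f.fiberι (f u) c = u :=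
  ⟨f.asFiber u, f.fiberι_asFiber u⟩

theorem fiberMap_fiberι (g : U ⟶ P) (pr : P ⟶ Y) (y : Y) (c : (g ≫ pr).fiber y) :
    pr.fiberι y (MoreMor.fiberMap g pr y c) = g ((g ≫ pr).fiberι y c) := by
  have e : MoreMor.fiberMap g pr y ≫ pr.fiberι y = (g ≫ pr).fiberι y ≫ g := pullback.lift_fst _ _ _
  rw [← Scheme.Hom.comp_apply, e, Scheme.Hom.comp_apply]

theorem fdim_comp (g : U ⟶ P) (pr : P ⟶ Y) [LocallyOfFiniteType g] [LocallyQuasiFinite g]
    [LocallyOfFiniteType pr] (f : U ⟶ Y) (hf : g ≫ pr = f) (u : U) : fdim f u = fdim pr (g u) := by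
  subst hf
  obtain ⟨c, hc⟩ := exists_fiber_point (g ≫ pr) u
  rw [← hc, fdim_fiberι, dim_closure_map_eq, ← fdim_fiberι, fiberMap_fiberι]

/-- Closures in fibres are bounded by the local fibre dimension. -/
theorem fdim_le_fibreDimAt (f : X ⟶ Y) [LocallyOfFiniteType f] (u : X) :
    fdim f u ≤ FlatMor.fibreDimAt f u := by
  let k : Type u := Y.residueField (f u)
  letI : (f.fiber (f u)).Over (Spec (CommRingCat.of k)) := ⟨f.fiberToSpecResidueField (f u)⟩
  haveI : LocallyOfFiniteType (f.fiber (f u) ↘ Spec (CommRingCat.of k)) :=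
    MorphismProperty.pullback_snd _ _ inferInstance
  letI : ∀ b, Algebra k ((f.fiber (f u)).residueField b) := fun b => Curv2.resAlgebra k _ b
  obtain ⟨a, b, ha, -, hloc⟩ := SchemeDim.exists_localDim k (f.fiber (f u)) (f.asFiber u)
  obtain ⟨n, hn, htr⟩ := SchemeDim.exists_dim_closure_eq_trdeg k (f.fiber (f u)) (f.asFiber u)
  have han : a = n := by exact_mod_cast ha.symm.trans htr
  have h1 : fdim f u = topologicalKrullDim (closure ({f.asFiber u} : Set (f.fiber (f u)))) := by
    rw [← fdim_fiberι, f.fiberι_asFiber]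
  rw [h1, hn, show FlatMor.fibreDimAt f u = _ from hloc]
  exact_mod_cast (show n ≤ a + b by omega)

/-- A neighbourhood all of whose maximal points specialise to the given point. -/
theorem exists_nhd_maximal [IsLocallyNoetherian X] (x : X) :
    ∃ V : X.Opens, x ∈ V ∧ ∀ q ∈ V, (∀ q', q' ⤳ q → q' = q) → q ⤳ x := by
  obtain ⟨V₀, hV₀, hxV₀, -⟩ := exists_isAffineOpen_mem_and_subset (TopologicalSpace.Opens.mem_top x)
  haveI : IsAffine (V₀ : Scheme.{u}) := hV₀
  haveI : IsNoetherian (V₀ : Scheme.{u}) := {}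
  let S : Set (Set (V₀ : Scheme.{u})) :=
    {Z | Z ∈ irreducibleComponents (V₀ : Scheme.{u}) ∧ (⟨x, hxV₀⟩ : (V₀ : Scheme.{u})) ∉ Z}
  have hS : S.Finite :=
    NoetherianSpace.finite_irreducibleComponents.subset fun Z hZ => hZ.1
  have hC : IsClosed (⋃₀ S) := by
    rw [Set.sUnion_eq_biUnion]
    exact hS.isClosed_biUnion fun Z hZ => isClosed_of_mem_irreducibleComponents Z hZ.1
  refine ⟨V₀.ι ''ᵁ ⟨(⋃₀ S)ᶜ, hC.isOpen_compl⟩, ⟨⟨x, hxV₀⟩, fun ⟨Z, hZ, hxZ⟩ => hZ.2 hxZ, rfl⟩, ?_⟩
  rintro _ ⟨q, hq, rfl⟩ hmax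
  have hmax' : ∀ q' : (V₀ : Scheme.{u}), q' ⤳ q → q' = q := fun q' h =>
    V₀.ι.isOpenEmbedding.injective (hmax _ (h.map V₀.ι.continuous))
  have hcomp := (closure_singleton_mem_irreducibleComponents_iff q).mpr hmax'
  have hx : (⟨x, hxV₀⟩ : (V₀ : Scheme.{u})) ∈ closure ({q} : Set (V₀ : Scheme.{u})) := by
    by_contra hx
    exact hq ⟨_, ⟨hcomp, hx⟩, subset_closure rfl⟩
  exact (specializes_iff_mem_closure.mpr hx).map V₀.ι.continuous

/-- Every point is a specialisation of a maximal point. -/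
theorem exists_maximal_generization (q : X) : ∃ p, p ⤳ q ∧ ∀ p', p' ⤳ p → p' = p := by
  obtain ⟨Z, hZ, hsub⟩ := exists_mem_irreducibleComponents_subset_of_isIrreducible _
    (isIrreducible_singleton (x := q)).closure
  obtain ⟨p, hp⟩ := QuasiSober.sober hZ.1 (isClosed_of_mem_irreducibleComponents Z hZ)
  refine ⟨p, hp.specializes (hsub (subset_closure rfl)),
    (closure_singleton_mem_irreducibleComponents_iff p).mp ?_⟩
  rw [hp.def]; exact hZ

/-- Maximal points of an open subscheme. -/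
theorem maximal_openImmersion_iff (j : U ⟶ X) [IsOpenImmersion j] (q : U) :
    (∀ q', q' ⤳ q → q' = q) ↔ ∀ q', q' ⤳ j q → q' = j q := by
  constructor
  · intro h q' hq'
    obtain ⟨r, rfl⟩ : q' ∈ Set.range j :=
      hq'.mem_open j.isOpenEmbedding.isOpen_range ⟨q, rfl⟩
    rw [h r (j.isOpenEmbedding.isInducing.specializes_iff.mp hq')]
  · intro h q' hq'
    exact j.isOpenEmbedding.injective (h _ (hq'.map j.continuous))

/-- Maximal points of a fibre component. -/
theorem exists_generic_of_component (f : X ⟶ Y) (y : Y) {C : Set (f.fiber y)}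
    (hC : C ∈ irreducibleComponents (f.fiber y)) :
    ∃ c, closure ({c} : Set (f.fiber y)) = C ∧ ∀ c', c' ⤳ c → c' = c := by
  obtain ⟨c, hc⟩ := QuasiSober.sober hC.1 (isClosed_of_mem_irreducibleComponents C hC)
  refine ⟨c, hc.def, (closure_singleton_mem_irreducibleComponents_iff c).mp ?_⟩
  rw [hc.def]; exact hC

/-- The fibre dimension at a maximal point of a fibre is at most that of its closure. -/
theorem fibreDimAt_le_closure (f : X ⟶ Y) [LocallyOfFiniteType f] (y : Y) (c : f.fiber y)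
    (hcmax : ∀ c', c' ⤳ c → c' = c) :
    FlatMor.fibreDimAt f (f.fiberι y c) ≤ topologicalKrullDim (closure ({c} : Set (f.fiber y))) := by
  suffices H : ∀ (u : X) (hy : f u = y), f.fiberι y c = u →
      FlatMor.fibreDimAt f u ≤ topologicalKrullDim (closure ({c} : Set (f.fiber y))) from
    H _ (apply_fiberι f y c) rfl
  rintro u rfl hcu
  haveI : LocallyOfFiniteType (f.fiberToSpecResidueField (f u)) :=
    MorphismProperty.pullback_snd _ _ inferInstance
  haveI : IsLocallyNoetherian (f.fiber (f u)) :=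
    LocallyOfFiniteType.isLocallyNoetherian (f.fiberToSpecResidueField (f u))
  have hc : f.asFiber u = c := (f.fiberι (f u)).isEmbedding.injective (by rw [f.fiberι_asFiber, hcu])
  show FlatMor.localDim (f.fiber (f u)) (f.asFiber u) ≤ _
  rw [hc]
  obtain ⟨N, hcN, hN⟩ := exists_nhd_maximal c
  refine (iInf_le _ ⟨N, hcN⟩).trans (SchemeDim.topologicalKrullDim_mono fun b hb => ?_)
  obtain ⟨p, hp, hpmax⟩ := exists_maximal_generization b
  have hpc : p ⤳ c := hN p (hp.mem_open N.2 hb) hpmax
  exact specializes_iff_mem_closure.mp (hcmax p hpc ▸ hp)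

variable (n : Type u)

/-- The fibres of affine space have dimension the number of variables. -/
theorem dim_fiber_affineSpace [Finite n] (Y : Scheme.{u}) (y : Y) :
    topologicalKrullDim ((𝔸(n; Y) ↘ Y).fiber y) = (Nat.card n : WithBot ℕ∞) := by
  let e₁ := (AffineSpace.isPullback_map (n := n) (Y.fromSpecResidueField y)).isoPullback
  let e := e₁.symm ≪≫ AffineSpace.SpecIso n (Y.residueField y)
  rw [show topologicalKrullDim ((𝔸(n; Y) ↘ Y).fiber y) =
      topologicalKrullDim (PrimeSpectrum (MvPolynomial n (Y.residueField y))) from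
      e.hom.homeomorph.isHomeomorph.topologicalKrullDim_eq,
    PrimeSpectrum.topologicalKrullDim_eq_ringKrullDim]
  cases nonempty_fintype n
  rw [MvPolynomial.ringKrullDim_of_isNoetherianRing, ringKrullDim_eq_zero_of_field, zero_add,
    Nat.card_eq_fintype_card]

/-- Maximal points of affine space: generic points of fibres over maximal points. -/
theorem affineSpace_maximal_iff {Y : Scheme.{u}} (p : ↥𝔸(n; Y)) :
    (∀ q, q ⤳ p → q = p) ↔
      (∀ η, η ⤳ (𝔸(n; Y) ↘ Y) p → η = (𝔸(n; Y) ↘ Y) p) ∧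
        ∀ q, (𝔸(n; Y) ↘ Y) q = (𝔸(n; Y) ↘ Y) p → p ⤳ q := by
  set pr := 𝔸(n; Y) ↘ Y
  have hgen : ∀ η : Y, ∀ q, pr q = η → pr.fiberι η (genericPoint (pr.fiber η)) ⤳ q := by
    intro η q hq
    obtain ⟨c, rfl⟩ : q ∈ Set.range (pr.fiberι η) := by rw [pr.range_fiberι]; exact hq
    exact ((genericPoint_spec _).specializes trivial).map (pr.fiberι η).continuous
  constructor
  · intro h
    have h0 := h _ (hgen _ p rfl)
    refine ⟨fun η hη => ?_, fun q hq => h0 ▸ hgen _ q hq⟩
    have hp : p ∈ closure (pr ⁻¹' {η}) := by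
      rw [← (AffineSpace.isOpenMap_over Y).preimage_closure_eq_closure_preimage pr.continuous]
      exact specializes_iff_mem_closure.mp hη
    have hp2 : p ∈ closure ({pr.fiberι η (genericPoint (pr.fiber η))} : Set ↥𝔸(n; Y)) := by
      refine closure_minimal ?_ isClosed_closure hp
      intro q hq
      exact specializes_iff_mem_closure.mp (hgen η q hq)
    have := h _ (specializes_iff_mem_closure.mpr hp2)
    rw [← this, apply_fiberι]
  · rintro ⟨h1, h2⟩ q hq
    exact (hq.antisymm (h2 q (h1 _ (hq.map pr.continuous)))).eq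

theorem fdim_affineSpace_of_maximal [Finite n] {Y : Scheme.{u}} (p : ↥𝔸(n; Y))
    (hp : ∀ q, q ⤳ p → q = p) : fdim (𝔸(n; Y) ↘ Y) p = (Nat.card n : WithBot ℕ∞) := by
  have h2 := ((affineSpace_maximal_iff n p).mp hp).2
  rw [← dim_fiber_affineSpace n Y ((𝔸(n; Y) ↘ Y) p)]
  refine SchemeDim.topologicalKrullDim_eq_of_isEmbedding
    (f := (𝔸(n; Y) ↘ Y).fiberι _) (Scheme.Hom.isEmbedding _) ?_
  rw [Scheme.Hom.range_fiberι, eq_comm, Set.inter_eq_right]
  exact fun q hq => specializes_iff_mem_closure.mp (h2 q hq)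

theorem genericPoint_of_fdim [Finite n] {Y : Scheme.{u}} (p : ↥𝔸(n; Y))
    (hp : (Nat.card n : WithBot ℕ∞) ≤ fdim (𝔸(n; Y) ↘ Y) p) :
    ∀ q, (𝔸(n; Y) ↘ Y) q = (𝔸(n; Y) ↘ Y) p → p ⤳ q := by
  set pr := 𝔸(n; Y) ↘ Y
  intro q hq
  obtain ⟨c, hc⟩ := exists_fiber_point pr p
  rw [← hc, fdim_fiberι] at hp
  have hcg := eq_genericPoint_of_dim_le (dim_fiber_affineSpace n Y (pr p)).le hp
  obtain ⟨d, rfl⟩ : q ∈ Set.range (pr.fiberι (pr p)) := by rw [pr.range_fiberι]; exact hq
  have hg := ((genericPoint_spec (pr.fiber (pr p))).specializes (y := d) trivial).map (pr.fiberι _).continuous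
  rw [← hcg, hc] at hg
  exact hg

/-- A quasi-finite map to affine space sending maximal points to maximal points makes the
morphism equidimensional: all fibre components have dimension the number of variables. -/
theorem fibre_components_dim [Finite n] {Y : Scheme.{u}} [IsLocallyNoetherian Y]
    (g : U ⟶ 𝔸(n; Y)) [LocallyOfFiniteType g] [LocallyQuasiFinite g] (f : U ⟶ Y)
    (hf : g ≫ (𝔸(n; Y) ↘ Y) = f)
    (hmax : ∀ ζ, (∀ q, q ⤳ ζ → q = ζ) → ∀ q, q ⤳ g ζ → q = g ζ)
    (y : Y) {C : Set (f.fiber y)} (hC : C ∈ irreducibleComponents (f.fiber y)) :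
    topologicalKrullDim C = (Nat.card n : WithBot ℕ∞) := by
  obtain ⟨c, rfl, hcmax⟩ := exists_generic_of_component f y hC
  haveI : LocallyOfFiniteType f := hf ▸ inferInstance
  refine le_antisymm ?_ ?_
  · rw [← fdim_fiberι, fdim_comp g _ f hf]
    set pr := 𝔸(n; Y) ↘ Y
    obtain ⟨d, hd⟩ := exists_fiber_point pr (g (f.fiberι y c))
    rw [← hd, fdim_fiberι]
    exact (topologicalKrullDim_subspace_le _ _).trans (dim_fiber_affineSpace n Y _).le
  · set u := f.fiberι y c with hu
    have hy : f u = y := apply_fiberι f y c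
    have hle := fibreDimAt_le_closure f y c hcmax
    refine le_trans ?_ hle
    obtain ⟨ζ, hζ, hζmax⟩ := exists_maximal_generization u
    obtain ⟨m, hm⟩ : ∃ m, Nat.card n = m := ⟨_, rfl⟩
    rw [hm]
    rcases m with _ | m
    · haveI : Nonempty ((⊤ : Opens (f.fiber (f u))) : Set (f.fiber (f u))) := ⟨⟨f.asFiber u, trivial⟩⟩
      exact (fdim_le_fibreDimAt f u).trans' (by
        haveI : Nonempty ↥(closure ({u} : Set U) ∩ f.base ⁻¹' {f.base u}) := ⟨⟨u, subset_closure rfl, rfl⟩⟩
        exact Groth.L06.Dim.nonneg)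
    · by_contra hlt
      have hu' : FlatMor.fibreDimAt f u ≤ (m : WithBot ℕ∞) := by
        revert hlt
        generalize FlatMor.fibreDimAt f u = d
        induction d with
        | bot => simp
        | coe m' =>
          induction m' with
          | top => exact fun h => absurd (WithBot.coe_le_coe.mpr le_top) h
          | coe k => norm_cast; omega
      have hζ' : FlatMor.fibreDimAt f ζ ≤ (m : WithBot ℕ∞) :=
        hζ.mem_open (Groth.L07.FibreDim.isOpen_fibreDimAt_le f m) hu'
      have h3 : fdim f ζ = ((m + 1 : ℕ) : WithBot ℕ∞) := by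
        rw [fdim_comp g _ f hf, fdim_affineSpace_of_maximal n _ (hmax ζ hζmax), hm]
      have h4 := (h3 ▸ fdim_le_fibreDimAt f ζ).trans hζ'
      have h5 : m + 1 ≤ m := by exact_mod_cast h4
      omega

end Groth.L07.Equidim
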