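import Groth.Agent.L07.QuasiSectionPrime
import Groth.Agent.L07.ChevalleyPoint
import Mathlib.Order.KrullDimension
import Mathlib.RingTheory.Ideal.Height
import Mathlib.RingTheory.Ideal.KrullsHeightTheorem

/-!
Dimensions of the components at a point through a quasi-finite map to affine space.
-/

universe u

open scoped TensorProduct
open TopologicalSpace

namespace Groth.L07.EquidimStalk

open Groth.L07.QuasiSection Groth.L07.Chevalley

set_option maxSynthPendingDepth 3
set_option linter.style.haveILetI false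
set_option backward.isDefEq.respectTransparency.types false
set_option backward.isDefEq.respectTransparency false

/-- Heights decrease along maps with the lifting property downwards. -/
theorem height_apply_le_of_lift {α β : Type*} [Preorder α] [Preorder β] (f : α → β) (a : α)
    (h : ∀ a : α, ∀ b < f a, ∃ a' < a, f a' = b) : Order.height (f a) ≤ Order.height a := by
  suffices ∀ (n : ℕ) (a : α), Order.height a ≤ n → Order.height (f a) ≤ n by
    cases ha : Order.height a with
    | top => exact le_top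
    | coe n => exact this n a ha.le
  intro n
  induction n using Nat.strong_induction_on with
  | _ n ih =>
    intro a ha
    refine Order.height_le_coe_iff.mpr fun b hb => ?_
    obtain ⟨a', ha', rfl⟩ := h a b hb
    have h1 := Order.height_le_coe_iff.mp ha a' ha'
    obtain ⟨k, hk⟩ := ENat.ne_top_iff_exists.mp (ne_top_of_lt h1)
    rw [← hk] at h1
    have hkn : k < n := by exact_mod_cast h1
    exact lt_of_le_of_lt (ih k hkn a' hk.symm.le) (by exact_mod_cast hkn)

/-- Coheights decrease along maps with the lifting property upwards. -/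
theorem coheight_apply_le_of_lift {α β : Type*} [Preorder α] [Preorder β] (f : α → β) (a : α)
    (h : ∀ a : α, ∀ b, f a < b → ∃ a', a < a' ∧ f a' = b) : Order.coheight (f a) ≤ Order.coheight a :=
  height_apply_le_of_lift (α := αᵒᵈ) (β := βᵒᵈ) f a h

/-- Heights of chains lifted through an integral extension by a normal domain. -/
theorem exists_height_le {A T S : Type u} [CommRing A] [CommRing T] [IsDomain T] [IsIntegrallyClosed T]
    [CommRing S] [Algebra A T] [Algebra.IsIntegral A T] [Algebra A S] [Algebra.FiniteType A S]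
    [Algebra.QuasiFinite A S] (q P0 : Ideal S) [hq : q.IsPrime] [hP0 : P0.IsPrime] (hle : P0 ≤ q)
    (hker : RingHom.ker (algebraMap A T) = P0.comap (algebraMap A S)) :
    ∃ p' : PrimeSpectrum T, p'.asIdeal.comap (algebraMap A T) = q.comap (algebraMap A S) ∧
      Order.height p' ≤ Order.coheight
        (⟨⟨P0, hP0⟩, hle⟩ : Set.Iic (⟨q, hq⟩ : PrimeSpectrum S)) := by
  let Ω := AlgebraicClosure P0.ResidueField
  let ρ0 : S →+* Ω := (algebraMap P0.ResidueField Ω).comp (algebraMap S P0.ResidueField)
  have hρ0 : RingHom.ker ρ0 = P0 := by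
    rw [RingHom.ker_comp_of_injective _ (RingHom.injective _), Ideal.ker_algebraMap_residueField]
  obtain ⟨ρT, hρT, hρTker⟩ := exists_hom_of_integral (C := T) (ρ0.comp (algebraMap A S)) ⊥ (by
    rw [← RingHom.comap_ker, hρ0, ← RingHom.ker_eq_comap_bot, hker])
  letI : Algebra A Ω := (ρ0.comp (algebraMap A S)).toAlgebra
  let Ψ : T ⊗[A] S →ₐ[A] Ω := Algebra.TensorProduct.lift
    ⟨ρT, fun r => congrArg (fun h : A →+* Ω => h r) hρT⟩ ⟨ρ0, fun r => rfl⟩ fun _ _ => Commute.all _ _
  let P' : Ideal (T ⊗[A] S) := RingHom.ker Ψ.toRingHom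
  haveI : P'.IsPrime := RingHom.ker_isPrime _
  let S'' := (T ⊗[A] S) ⧸ P'
  haveI : IsDomain S'' := Ideal.Quotient.isDomain P'
  have hinj : Function.Injective (algebraMap T S'') := by
    rw [injective_iff_map_eq_zero]
    intro t ht
    rw [IsScalarTower.algebraMap_apply T (T ⊗[A] S) S'', Ideal.Quotient.algebraMap_eq,
      Ideal.Quotient.eq_zero_iff_mem] at ht
    have ht' : Ψ (t ⊗ₜ[A] (1 : S)) = 0 := ht
    rw [Algebra.TensorProduct.lift_tmul, map_one, mul_one] at ht'
    rw [← Ideal.mem_bot, ← hρTker]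
    exact ht'
  haveI : Algebra.FiniteType T S'' :=
    Algebra.FiniteType.of_surjective (Ideal.Quotient.mkₐ T P') Ideal.Quotient.mk_surjective
  haveI : Algebra.QuasiFinite T S'' :=
    Algebra.QuasiFinite.of_surjective_algHom (Ideal.Quotient.mkₐ T P') Ideal.Quotient.mk_surjective
  let ι : S →+* S'' := (Ideal.Quotient.mk P').comp Algebra.TensorProduct.includeRight.toRingHom
  have hι : ι.IsIntegral := by
    refine RingHom.IsIntegral.trans _ _ ?_ (RingHom.isIntegral_of_surjective _ Ideal.Quotient.mk_surjective)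
    have h1 : (algebraMap S (S ⊗[A] T)).IsIntegral := fun z => Algebra.IsIntegral.isIntegral z
    have h2 := RingHom.IsIntegral.trans _ _ h1
      (RingHom.isIntegral_of_surjective (Algebra.TensorProduct.comm A S T).toRingHom
        (Algebra.TensorProduct.comm A S T).surjective)
    convert h2 using 1
    exact RingHom.ext fun s => rfl
  have hιker : RingHom.ker ι = P0 := by
    ext s
    rw [RingHom.mem_ker, RingHom.comp_apply, Ideal.Quotient.eq_zero_iff_mem]
    show Ψ ((1 : T) ⊗ₜ[A] s) = 0 ↔ s ∈ P0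
    rw [Algebra.TensorProduct.lift_tmul, map_one, one_mul]
    exact RingHom.mem_ker.symm.trans (SetLike.ext_iff.mp hρ0 s)
  letI : Algebra S S'' := ι.toAlgebra
  haveI : Algebra.IsIntegral S S'' := ⟨hι⟩
  obtain ⟨q', -, hq'p, hq'⟩ := Ideal.exists_ideal_over_prime_of_isIntegral (R := S) (S := S'') q ⊥
    (by rw [← RingHom.ker_eq_comap_bot]; exact hιker.le.trans hle)
  haveI := hq'p
  have hcomm : ∀ r : A, algebraMap T S'' (algebraMap A T r) = ι (algebraMap A S r) := fun r => by
    show Ideal.Quotient.mk P' (algebraMap A T r ⊗ₜ[A] (1 : S)) = Ideal.Quotient.mk P' ((1 : T) ⊗ₜ[A] algebraMap A S r)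
    rw [Algebra.algebraMap_eq_smul_one, Algebra.algebraMap_eq_smul_one, TensorProduct.smul_tmul]
  refine ⟨⟨q'.comap (algebraMap T S''), Ideal.IsPrime.comap _⟩, ?_, ?_⟩
  · ext r
    rw [Ideal.mem_comap, Ideal.mem_comap, hcomm, ← hq']
    rfl
  · let Qp : PrimeSpectrum S'' := ⟨q', inferInstance⟩
    refine (height_apply_le_of_lift (fun Q : PrimeSpectrum S'' => PrimeSpectrum.comap (algebraMap T S'') Q) Qp
      fun Q t htlt => ?_).trans ?_
    · obtain ⟨Q', hQ', hle', hQo⟩ := exists_prime_le hinj Q.asIdeal t.asIdeal htlt.le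
      refine ⟨⟨Q', hQ'⟩, lt_of_le_of_ne hle' fun h => htlt.ne (PrimeSpectrum.ext ?_), PrimeSpectrum.ext hQo⟩
      rw [← hQo, ← h]
      rfl
    · have hmem : ∀ Q : Set.Iic Qp, PrimeSpectrum.comap (algebraMap S S'') Q.1 ∈ Set.Iic (⟨q, hq⟩ : PrimeSpectrum S) :=
        fun Q => (Ideal.comap_mono Q.2).trans hq'.le
      let F : Set.Iic Qp → Set.Iic (⟨q, hq⟩ : PrimeSpectrum S) := fun Q => ⟨_, hmem Q⟩
      have hF : StrictMono F := fun Q1 Q2 h12 => Ideal.IsIntegral.comap_lt_comap h12
      have hbot : (⟨⊥, Ideal.isPrime_bot⟩ : PrimeSpectrum S'') ∈ Set.Iic Qp := bot_le (a := Qp.asIdeal)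
      letI : OrderBot (Set.Iic Qp) := { bot := ⟨_, hbot⟩, bot_le := fun Q => bot_le (a := Q.1.asIdeal) }
      have h1 : Order.height Qp ≤ Order.coheight (⊥ : Set.Iic Qp) := by
        have e1 := Order.height_eq_krullDim_Iic Qp
        rw [← Order.coheight_bot_eq_krullDim] at e1
        exact le_of_eq (WithBot.coe_inj.mp e1)
      refine (h1.trans (Order.coheight_le_coheight_apply_of_strictMono F hF _)).trans (Order.coheight_anti ?_)
      show P0 ≤ Ideal.comap ι (⊥ : Ideal S'')
      rw [← RingHom.ker_eq_comap_bot]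
      exact hιker.ge

variable {E : Type u} [Fintype E]

omit [Fintype E] in
/-- The nilradical of a polynomial ring over a ring with irreducible spectrum. -/
theorem eq_map_nilradical {A : Type u} [CommRing A] (hA : (nilradical A).IsPrime)
    {p : Ideal (MvPolynomial E A)} (hp : p ∈ minimalPrimes (MvPolynomial E A)) :
    p = (nilradical A).map MvPolynomial.C := by
  haveI := hp.1.1
  have hle : (nilradical A).map (MvPolynomial.C (σ := E)) ≤ p := Ideal.map_le_iff_le_comap.mpr fun a ha => by
    obtain ⟨n, hn⟩ := mem_nilradical.mp ha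
    exact hp.1.1.mem_of_pow_mem n (by rw [← map_pow, hn, map_zero]; exact p.zero_mem)
  have hprime : ((nilradical A).map (MvPolynomial.C (σ := E))).IsPrime := by
    have hk : (nilradical A).map (MvPolynomial.C (σ := E)) =
        RingHom.ker (MvPolynomial.map (σ := E) (Ideal.Quotient.mk (nilradical A))) := by
      rw [MvPolynomial.ker_map, Ideal.mk_ker]
    haveI := hA
    rw [hk]; exact RingHom.ker_isPrime _
  exact le_antisymm (hp.2 ⟨hprime, bot_le⟩ hle) hle

/-- The chain inequality over a geometrically unibranch local ring. -/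
theorem coheight_le_local {A S : Type u} [CommRing A] [IsLocalRing A] (hgu : CAlg2.IsGeomUnibranch A)
    [CommRing S] [Algebra (MvPolynomial E A) S] [Algebra.FiniteType (MvPolynomial E A) S]
    [Algebra.QuasiFinite (MvPolynomial E A) S] (q P0 : PrimeSpectrum S) (hle : P0 ≤ q)
    (g n : PrimeSpectrum (MvPolynomial E A)) (hg : P0.comap (algebraMap (MvPolynomial E A) S) = g)
    (hn : q.comap (algebraMap (MvPolynomial E A) S) = n) (hgn : g ≤ n)
    (hmin : g.asIdeal ∈ minimalPrimes (MvPolynomial E A))
    (hm : n.asIdeal.comap MvPolynomial.C = IsLocalRing.maximalIdeal A) :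
    Order.coheight (⟨g, hgn⟩ : Set.Iic n) ≤ Order.coheight (⟨P0, hle⟩ : Set.Iic q) := by
  classical
  obtain ⟨C, _, _, _, ψ, hψi, hψn, hψe⟩ := exists_normal_local hgu
  have hnilA : (nilradical A).IsPrime := (Ideal.Quotient.isDomain_iff_prime _).mp hgu.1.1
  have hψker : RingHom.ker ψ = nilradical A := le_antisymm (fun a ha => mem_nilradical.mpr (hψn a ha))
    (fun a ha => by
      obtain ⟨k, hk⟩ := mem_nilradical.mp ha
      exact eq_zero_of_pow_eq_zero (by rw [← map_pow, hk, map_zero] : ψ a ^ k = 0))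
  letI : Algebra A C := ψ.toAlgebra
  haveI : Algebra.IsIntegral A C := ⟨hψi⟩
  haveI : IsIntegrallyClosed (MvPolynomial E C) := by
    haveI := isIntegrallyClosed_mvPolynomial C (Fintype.card E)
    exact IsIntegrallyClosed.of_equiv (MvPolynomial.renameEquiv C (Fintype.equivFin E).symm).toRingEquiv
  letI : Algebra (MvPolynomial E A) (MvPolynomial E C) := (MvPolynomial.map ψ).toAlgebra
  haveI : Algebra.IsIntegral (MvPolynomial E A) (MvPolynomial E C) := ⟨fun p => by
    induction p using MvPolynomial.induction_on with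
    | C a =>
      obtain ⟨f, hf, hfe⟩ := Algebra.IsIntegral.isIntegral (R := A) a
      refine ⟨f.map MvPolynomial.C, hf.map _, ?_⟩
      rw [Polynomial.eval₂_map]
      have hc : (algebraMap (MvPolynomial E A) (MvPolynomial E C)).comp MvPolynomial.C =
          (MvPolynomial.C (σ := E)).comp ψ := RingHom.ext fun r => MvPolynomial.map_C ψ r
      rw [hc, ← Polynomial.hom_eval₂]
      exact (congrArg _ hfe).trans (map_zero _)
    | add p q hp hq => exact hp.add hq
    | mul_X p i hp =>
      refine hp.mul ?_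
      rw [show (MvPolynomial.X i : MvPolynomial E C) = algebraMap (MvPolynomial E A) (MvPolynomial E C) (MvPolynomial.X i)
        from (MvPolynomial.map_X ψ i).symm]
      exact isIntegral_algebraMap⟩
  have hker : RingHom.ker (algebraMap (MvPolynomial E A) (MvPolynomial E C)) = g.asIdeal := by
    rw [show RingHom.ker (algebraMap (MvPolynomial E A) (MvPolynomial E C)) = (RingHom.ker ψ).map MvPolynomial.C
      from MvPolynomial.ker_map ψ, hψker, eq_map_nilradical hnilA hmin]
  haveI := q.2
  haveI := P0.2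
  obtain ⟨p', hp', hht⟩ := exists_height_le (T := MvPolynomial E C) q.asIdeal P0.asIdeal hle
    (hker.trans (congrArg PrimeSpectrum.asIdeal hg).symm)
  refine le_trans ?_ hht
  -- the unique prime of the cover above `n`
  have huniq : ∀ Q1 : PrimeSpectrum (MvPolynomial E C),
      Q1.comap (algebraMap (MvPolynomial E A) (MvPolynomial E C)) = n → Q1 = p' := by
    intro Q1 hQ1
    haveI := n.2
    let Ω := AlgebraicClosure n.asIdeal.ResidueField
    let ρ : MvPolynomial E A →+* Ω :=
      (algebraMap n.asIdeal.ResidueField Ω).comp (algebraMap (MvPolynomial E A) n.asIdeal.ResidueField)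
    have hρ : RingHom.ker ρ = n.asIdeal := by
      rw [RingHom.ker_comp_of_injective _ (RingHom.injective _), Ideal.ker_algebraMap_residueField]
    haveI := Q1.2
    haveI := p'.2
    obtain ⟨r1, hr1, hr1k⟩ := exists_hom_of_integral ρ Q1.asIdeal ((congrArg PrimeSpectrum.asIdeal hQ1).trans hρ.symm)
    obtain ⟨r2, hr2, hr2k⟩ := exists_hom_of_integral ρ p'.asIdeal
      ((hp'.trans (congrArg PrimeSpectrum.asIdeal hn)).trans hρ.symm)
    have hC : (algebraMap (MvPolynomial E A) (MvPolynomial E C)).comp MvPolynomial.C =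
        (MvPolynomial.C (σ := E)).comp ψ := RingHom.ext fun r => MvPolynomial.map_C ψ r
    have e1 : (r1.comp MvPolynomial.C).comp ψ = (r2.comp MvPolynomial.C).comp ψ := by
      rw [RingHom.comp_assoc, RingHom.comp_assoc, ← hC, ← RingHom.comp_assoc, hr1, ← RingHom.comp_assoc, hr2]
    have e2 : RingHom.ker ((r1.comp MvPolynomial.C).comp ψ) = IsLocalRing.maximalIdeal A := by
      rw [RingHom.comp_assoc, ← hC, ← RingHom.comp_assoc, hr1, ← RingHom.comap_ker, hρ, hm]
    have e3 := hψe Ω _ _ e1 e2
    have e4 : r1 = r2 := MvPolynomial.ringHom_ext (fun c => RingHom.congr_fun e3 c) fun i => by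
      have h1 := RingHom.congr_fun hr1 (MvPolynomial.X i)
      have h2 := RingHom.congr_fun hr2 (MvPolynomial.X i)
      rw [RingHom.comp_apply, show algebraMap (MvPolynomial E A) (MvPolynomial E C) (MvPolynomial.X i) =
        MvPolynomial.X i from MvPolynomial.map_X ψ i] at h1 h2
      rw [h1, h2]
    exact PrimeSpectrum.ext (hr1k.symm.trans ((congrArg RingHom.ker e4).trans hr2k))
  let α := {t : PrimeSpectrum (MvPolynomial E C) // t.comap (algebraMap (MvPolynomial E A) (MvPolynomial E C)) ≤ n}
  let F : α → Set.Iic n := fun t => ⟨_, t.2⟩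
  have hlift : ∀ a : α, ∀ b, F a < b → ∃ a', a < a' ∧ F a' = b := by
    intro a b hab
    haveI := a.1.2
    haveI := b.1.2
    obtain ⟨Q, hQle, hQ, hQo⟩ := Ideal.exists_ideal_over_prime_of_isIntegral (R := MvPolynomial E A)
      (S := MvPolynomial E C) b.1.asIdeal a.1.asIdeal hab.le
    let a' : α := ⟨⟨Q, hQ⟩, (show Q.comap _ ≤ n.asIdeal from hQo.le.trans b.2)⟩
    have hF : F a' = b := Subtype.ext (PrimeSpectrum.ext hQo)
    exact ⟨a', lt_of_le_of_ne hQle fun h => hab.ne (by rw [h, hF]), hF⟩
  have hmem : (⟨⊥, Ideal.isPrime_bot⟩ : PrimeSpectrum (MvPolynomial E C)).comap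
      (algebraMap (MvPolynomial E A) (MvPolynomial E C)) ≤ n := by
    show Ideal.comap _ ⊥ ≤ n.asIdeal
    rw [← RingHom.ker_eq_comap_bot, hker]; exact hgn
  let a0 : α := ⟨_, hmem⟩
  have hFa : F a0 = ⟨g, hgn⟩ := Subtype.ext (PrimeSpectrum.ext (by
    show Ideal.comap _ ⊥ = g.asIdeal
    rw [← RingHom.ker_eq_comap_bot, hker]))
  rw [← hFa]
  refine (coheight_apply_le_of_lift F a0 hlift).trans ?_
  have hαp : ∀ t : α, t.1 ≤ p' := fun t => by
    haveI := t.1.2
    haveI := n.2
    obtain ⟨Q, hQle, hQ, hQo⟩ := Ideal.exists_ideal_over_prime_of_isIntegral (R := MvPolynomial E A)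
      (S := MvPolynomial E C) n.asIdeal t.1.asIdeal t.2
    rw [← huniq ⟨Q, hQ⟩ (PrimeSpectrum.ext hQo)]
    exact hQle
  let G : α → Set.Iic p' := fun t => ⟨t.1, hαp t⟩
  refine (Order.coheight_le_coheight_apply_of_strictMono G (fun a b h => h) a0).trans ?_
  exact_mod_cast (Order.coheight_le_krullDim (G a0)).trans (Order.height_eq_krullDim_Iic p').ge

/-- Components at a point and their images in affine space over a geometrically unibranch point. -/
theorem coheight_compare {R S : Type u} [CommRing R] [IsNoetherianRing R] [CommRing S] [Algebra R S]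
    [Algebra.FiniteType R S] (φ : MvPolynomial E R →+* S) (hφC : φ.comp MvPolynomial.C = algebraMap R S)
    (hφ : φ.QuasiFinite) (q : PrimeSpectrum S)
    (hy : CAlg2.IsGeomUnibranch (Localization.AtPrime (q.asIdeal.under R))) :
    ∃ M : ℕ, ∀ P : PrimeSpectrum S, ∀ hP : P ≤ q,
      ((P.comap φ).asIdeal ∈ minimalPrimes (MvPolynomial E R) → Order.coheight (⟨P, hP⟩ : Set.Iic q) = M) ∧
      ((P.comap φ).asIdeal ∉ minimalPrimes (MvPolynomial E R) → Order.coheight (⟨P, hP⟩ : Set.Iic q) < M) := by
  classical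
  let y := q.asIdeal.under R
  let A := Localization.AtPrime y
  let n := q.comap φ
  have hnC : n.asIdeal.comap MvPolynomial.C = y := by
    show (q.asIdeal.comap φ).comap MvPolynomial.C = q.asIdeal.comap (algebraMap R S)
    rw [Ideal.comap_comap, hφC]
  have hnilA : (nilradical A).IsPrime := (Ideal.Quotient.isDomain_iff_prime _).mp hy.1.1
  let μ := MvPolynomial.map (σ := E) (algebraMap R A)
  letI : Algebra (MvPolynomial E R) (MvPolynomial E A) := μ.toAlgebra
  haveI : IsLocalization ((y.primeCompl).map (MvPolynomial.C (σ := E))) (MvPolynomial E A) :=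
    MvPolynomial.isLocalization y.primeCompl A
  let MC := (y.primeCompl).map (MvPolynomial.C (σ := E))
  have hdisj : ∀ p : PrimeSpectrum (MvPolynomial E R), p ≤ n → Disjoint (MC : Set (MvPolynomial E R)) p.asIdeal := by
    intro p hp
    rw [Set.disjoint_left]
    rintro _ ⟨r, hr, rfl⟩ h
    exact hr (hnC.le (hp h))
  let up : ∀ p : PrimeSpectrum (MvPolynomial E R), p ≤ n → PrimeSpectrum (MvPolynomial E A) := fun p hp =>
    ⟨p.asIdeal.map μ, IsLocalization.isPrime_of_isPrime_disjoint MC _ p.asIdeal p.2 (hdisj p hp)⟩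
  have hup : ∀ p hp, (up p hp).asIdeal.comap μ = p.asIdeal := fun p hp =>
    IsLocalization.under_map_of_isPrime_disjoint MC (MvPolynomial E A) p.2 (hdisj p hp)
  have hupmin : ∀ p hp, p.asIdeal ∈ minimalPrimes (MvPolynomial E R) →
      (up p hp).asIdeal ∈ minimalPrimes (MvPolynomial E A) := fun p hp hmin => by
    refine ⟨⟨(up p hp).2, bot_le⟩, fun Q hQ hQle => ?_⟩
    haveI := hQ.1
    have h1 : p.asIdeal ≤ Q.comap μ :=
      hmin.2 ⟨Ideal.IsPrime.comap μ, bot_le⟩ ((Ideal.comap_mono hQle).trans (hup p hp).le)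
    exact (Ideal.map_mono h1).trans (IsLocalization.map_under MC (MvPolynomial E A) Q).le
  haveI := n.2
  obtain ⟨g0, hg0min, hg0n⟩ := Ideal.exists_minimalPrimes_le (I := (⊥ : Ideal (MvPolynomial E R))) (J := n.asIdeal) bot_le
  let g : PrimeSpectrum (MvPolynomial E R) := ⟨g0, hg0min.1.1⟩
  have hgn : g ≤ n := hg0n
  have hunique : ∀ p, p ≤ n → p.asIdeal ∈ minimalPrimes (MvPolynomial E R) → p = g := fun p hp hmin => by
    refine PrimeSpectrum.ext ?_
    rw [← hup p hp, ← hup g hgn, eq_map_nilradical hnilA (hupmin p hp hmin),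
      eq_map_nilradical hnilA (hupmin g hgn hg0min)]
  have hfin : Order.height n ≠ ⊤ := by
    haveI : n.asIdeal.FiniteHeight := inferInstance
    rw [← PrimeSpectrum.height_eq_orderHeight]
    exact Ideal.height_ne_top n.2.ne_top
  obtain ⟨M, hM⟩ := ENat.ne_top_iff_exists.mp hfin
  have hgM : Order.coheight (⟨g, hgn⟩ : Set.Iic n) = M := by
    have hgbot : ∀ a : Set.Iic n, (⟨g, hgn⟩ : Set.Iic n) ≤ a := fun a => by
      haveI := a.1.2
      obtain ⟨p, hpmin, hpa⟩ := Ideal.exists_minimalPrimes_le (I := (⊥ : Ideal (MvPolynomial E R))) (J := a.1.asIdeal) bot_le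
      have h1 : (⟨p, hpmin.1.1⟩ : PrimeSpectrum (MvPolynomial E R)) = g :=
        hunique ⟨p, hpmin.1.1⟩ (show p ≤ n.asIdeal from hpa.trans a.2) hpmin
      show g ≤ a.1
      rw [← h1]; exact hpa
    letI : OrderBot (Set.Iic n) := { bot := ⟨g, hgn⟩, bot_le := hgbot }
    have e1 := Order.height_eq_krullDim_Iic n
    rw [← Order.coheight_bot_eq_krullDim] at e1
    exact (WithBot.coe_inj.mp e1).symm.trans hM.symm
  let F : Set.Iic q → Set.Iic n := fun P => ⟨P.1.comap φ, Ideal.comap_mono P.2⟩
  have hF : StrictMono F := fun P1 P2 h12 => by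
    refine lt_of_le_of_ne (Ideal.comap_mono h12.le) fun h => h12.ne (Subtype.ext (PrimeSpectrum.ext ?_))
    letI := φ.toAlgebra
    haveI : Algebra.QuasiFinite (MvPolynomial E R) S := RingHom.quasiFinite_algebraMap.mp hφ
    haveI := P1.1.2
    haveI := P2.1.2
    exact Algebra.QuasiFinite.eq_of_le_of_under_eq (R := MvPolynomial E R) _ _ h12.le
      (congrArg (fun t : Set.Iic n => t.1.asIdeal) h)
  refine ⟨M, fun P hP => ⟨fun hmin => le_antisymm ?_ ?_, fun hmin => ?_⟩⟩
  · refine (Order.coheight_le_coheight_apply_of_strictMono F hF _).trans (le_of_eq ?_)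
    rw [show F ⟨P, hP⟩ = ⟨g, hgn⟩ from Subtype.ext (hunique _ (Ideal.comap_mono hP) hmin)]
    exact hgM
  · -- localise
    letI : Algebra (MvPolynomial E R) S := φ.toAlgebra
    haveI : IsScalarTower R (MvPolynomial E R) S :=
      IsScalarTower.of_algebraMap_eq fun r => (RingHom.congr_fun hφC r).symm
    haveI : Algebra.QuasiFinite (MvPolynomial E R) S := RingHom.quasiFinite_algebraMap.mp hφ
    haveI : Algebra.FiniteType (MvPolynomial E R) S :=
      Algebra.FiniteType.of_restrictScalars_finiteType R (MvPolynomial E R) S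
    let SA := MvPolynomial E A ⊗[MvPolynomial E R] S
    letI : Algebra S SA := Algebra.TensorProduct.rightAlgebra
    haveI : IsLocalization (Algebra.algebraMapSubmonoid S MC) SA :=
      IsLocalization.tensorRight (A := MvPolynomial E A) (S := S) MC
    have hdS : ∀ p : PrimeSpectrum S, p ≤ q → Disjoint (Algebra.algebraMapSubmonoid S MC : Set S) p.asIdeal := by
      intro p hp
      rw [Set.disjoint_left]
      rintro _ ⟨r, hr, rfl⟩ h
      exact Set.disjoint_left.mp (hdisj n le_rfl) hr (hp h)
    let upS : ∀ p : PrimeSpectrum S, p ≤ q → PrimeSpectrum SA := fun p hp =>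
      ⟨p.asIdeal.map (algebraMap S SA),
        IsLocalization.isPrime_of_isPrime_disjoint (Algebra.algebraMapSubmonoid S MC) _ p.asIdeal p.2 (hdS p hp)⟩
    have hupS : ∀ p hp, (upS p hp).asIdeal.comap (algebraMap S SA) = p.asIdeal := fun p hp =>
      IsLocalization.under_map_of_isPrime_disjoint (Algebra.algebraMapSubmonoid S MC) SA p.2 (hdS p hp)
    have hsq : ∀ p hp, (upS p hp).comap (algebraMap (MvPolynomial E A) SA) = up (p.comap φ) (Ideal.comap_mono hp) :=
      fun p hp => PrimeSpectrum.ext (by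
        have e : ((upS p hp).asIdeal.comap (algebraMap (MvPolynomial E A) SA)).comap μ = p.asIdeal.comap φ := by
          rw [Ideal.comap_comap, ← hupS p hp, Ideal.comap_comap]
          congr 1
          refine RingHom.ext fun r => ?_
          show μ r ⊗ₜ[MvPolynomial E R] (1 : S) = (1 : MvPolynomial E A) ⊗ₜ[MvPolynomial E R] φ r
          rw [show φ r = r • (1 : S) from Algebra.algebraMap_eq_smul_one r,
            show μ r = r • (1 : MvPolynomial E A) from Algebra.algebraMap_eq_smul_one r, TensorProduct.smul_tmul]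
        show _ = (p.asIdeal.comap φ).map μ
        rw [← e]
        exact (IsLocalization.map_under MC (MvPolynomial E A) _).symm)
    have hm : (up n le_rfl).asIdeal.comap MvPolynomial.C = IsLocalRing.maximalIdeal A := by
      have e : ((up n le_rfl).asIdeal.comap MvPolynomial.C).comap (algebraMap R A) = y := by
        refine Eq.trans ?_ ((congrArg (Ideal.comap MvPolynomial.C) (hup n le_rfl)).trans hnC)
        rw [Ideal.comap_comap, Ideal.comap_comap]
        congr 1
        exact RingHom.ext fun r => (MvPolynomial.map_C _ r).symm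
      haveI := (up n le_rfl).2
      refine (IsLocalization.map_under y.primeCompl A ((up n le_rfl).asIdeal.comap MvPolynomial.C)).symm.trans ?_
      exact (congrArg (Ideal.map (algebraMap R A)) e).trans Localization.AtPrime.map_eq_maximalIdeal
    have hPq : upS P hP ≤ upS q le_rfl := Ideal.map_mono hP
    have key := coheight_le_local hy (upS q le_rfl) (upS P hP) hPq (up (P.comap φ) (Ideal.comap_mono hP))
      (up n le_rfl) (hsq P hP) (hsq q le_rfl) (Ideal.map_mono (Ideal.comap_mono hP))
      (hupmin _ (Ideal.comap_mono hP) hmin) hm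
    let G : Set.Iic n → Set.Iic (up n le_rfl) := fun p => ⟨up p.1 p.2, Ideal.map_mono p.2⟩
    have hG : StrictMono G := fun a b hab => by
      refine lt_of_le_of_ne (Ideal.map_mono hab.le) fun h => hab.ne (Subtype.ext (PrimeSpectrum.ext ?_))
      rw [← hup a.1 a.2, ← hup b.1 b.2]
      exact congrArg (fun t : Set.Iic (up n le_rfl) => t.1.asIdeal.comap μ) h
    let H : Set.Iic (upS q le_rfl) → Set.Iic q := fun Q =>
      ⟨Q.1.comap (algebraMap S SA), (Ideal.comap_mono Q.2).trans (hupS q le_rfl).le⟩
    have hH : StrictMono H := fun a b hab => lt_of_le_of_ne (Ideal.comap_mono hab.le) fun h =>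
      hab.ne (Subtype.ext (PrimeSpectrum.localization_comap_injective SA (Algebra.algebraMapSubmonoid S MC)
        (congrArg Subtype.val h)))
    rw [← hgM, show (⟨g, hgn⟩ : Set.Iic n) = ⟨P.comap φ, Ideal.comap_mono hP⟩ from
      Subtype.ext (hunique _ (Ideal.comap_mono hP) hmin).symm]
    refine (Order.coheight_le_coheight_apply_of_strictMono G hG _).trans (key.trans ?_)
    refine (Order.coheight_le_coheight_apply_of_strictMono H hH _).trans (le_of_eq ?_)
    exact congrArg _ (Subtype.ext (PrimeSpectrum.ext (hupS P hP)))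
  · refine lt_of_le_of_lt (Order.coheight_le_coheight_apply_of_strictMono F hF _) ?_
    haveI := (P.comap φ).2
    obtain ⟨p, hpmin, hpa⟩ := Ideal.exists_minimalPrimes_le (I := (⊥ : Ideal (MvPolynomial E R)))
      (J := (P.comap φ).asIdeal) bot_le
    have h1 : (⟨p, hpmin.1.1⟩ : PrimeSpectrum (MvPolynomial E R)) = g :=
      hunique ⟨p, hpmin.1.1⟩ (show p ≤ n.asIdeal from hpa.trans (Ideal.comap_mono hP)) hpmin
    have hlt : (⟨g, hgn⟩ : Set.Iic n) < F ⟨P, hP⟩ := by
      refine lt_of_le_of_ne (show g ≤ P.comap φ by rw [← h1]; exact hpa) fun h => hmin ?_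
      rw [← show g = P.comap φ from congrArg Subtype.val h]
      exact hg0min
    rw [← hgM]
    refine Order.coheight_strictAnti hlt ?_
    exact lt_of_le_of_lt (Order.coheight_anti hlt.le) (by rw [hgM]; exact ENat.natCast_lt_top M)

end Groth.L07.EquidimStalk
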