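import Groth.Agent.L24.SmoothDivisor.Slice
import Mathlib.RingTheory.Smooth.Basic

/-!
An étale slice of a smooth algebra cut out inside an ideal onto whose quotient the base surjects.
-/

set_option autoImplicit false
set_option maxSynthPendingDepth 3
set_option linter.style.haveILetI false
universe v w

noncomputable section

namespace Groth.L07.EtaleSliceIdeal

open KaehlerDifferential IsLocalRing
open scoped TensorProduct

/-- Coordinates at a prime over an ideal, taken in the ideal. -/
theorem exists_coordinates_mem (A : Type v) (B R : Type w) [CommRing A] [CommRing B] [CommRing R] [IsLocalRing R]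
    [Algebra A B] [Algebra B R] [Algebra A R] [IsScalarTower A B R] [Algebra.EssFiniteType A B]
    (q : Ideal B) [q.IsPrime] [IsLocalization.AtPrime R q] [Algebra.FormallySmooth A R]
    (J : Ideal B) (hJ : ∀ b : B, ∃ a : A, b - algebraMap A B a ∈ J)
    [Algebra.FormallyUnramified A (ResidueField R)] :
    ∃ (m : ℕ) (c : Fin m → B), (∀ i, c i ∈ J) ∧
      LinearIndependent R (fun i => D A R (algebraMap B R (c i))) ∧
      Submodule.span R (Set.range fun i => D A R (algebraMap B R (c i))) = ⊤ := by
  classical
  haveI : Algebra.EssFiniteType B R := Algebra.EssFiniteType.of_isLocalization _ q.primeCompl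
  haveI : Algebra.EssFiniteType A R := Algebra.EssFiniteType.comp A B R
  let W := ResidueField R ⊗[R] Ω[R⁄A]
  let db : R → W := fun a => 1 ⊗ₜ D A R a
  have db_add : ∀ a b, db (a + b) = db a + db b := fun a b => by
    simp only [db, map_add, TensorProduct.tmul_add]
  have db_mul : ∀ a b, db (a * b) = residue R a • db b + residue R b • db a := fun a b => by
    simp only [db, Derivation.leibniz, TensorProduct.tmul_add, TensorProduct.tmul_smul]
    rw [← algebraMap_smul (ResidueField R) a, ← algebraMap_smul (ResidueField R) b]
    rfl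
  let v : J → W := fun b => db (algebraMap B R b.1)
  have hvB : ∀ b : B, db (algebraMap B R b) ∈ Submodule.span (ResidueField R) (Set.range v) := fun b => by
    obtain ⟨a, ha⟩ := hJ b
    have h : db (algebraMap B R b) = v ⟨_, ha⟩ + db (algebraMap B R (algebraMap A B a)) := by
      rw [← db_add, ← map_add, sub_add_cancel]
    rw [h, ← IsScalarTower.algebraMap_apply A B R]
    refine Submodule.add_mem _ (Submodule.subset_span ⟨_, rfl⟩) ?_
    simp [db, Derivation.map_algebraMap]
  have hvspan : Submodule.span (ResidueField R) (Set.range v) = ⊤ := by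
    refine eq_top_iff.mpr fun w _ => ?_
    obtain ⟨y, rfl⟩ := (exact_kerCotangentToTensor_mapBaseChange A R (ResidueField R) residue_surjective w).mp
      (Subsingleton.elim _ _)
    obtain ⟨⟨a, ha⟩, rfl⟩ := Ideal.toCotangent_surjective _ y
    rw [kerCotangentToTensor_toCotangent]
    have ham : a ∈ maximalIdeal R := (residue_eq_zero_iff a).mp ha
    suffices h : ∀ x ∈ Submodule.span R (algebraMap B R '' (q : Set B)),
        db x ∈ Submodule.span (ResidueField R) (Set.range v) by
      rw [← IsLocalization.AtPrime.map_eq_maximalIdeal q R] at ham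
      exact h a ham
    intro x hx
    induction hx using Submodule.span_induction with
    | mem x hx =>
      obtain ⟨b, hb, rfl⟩ := hx
      exact hvB b
    | zero => simp [db]
    | add x y _ _ hx hy => rw [db_add]; exact Submodule.add_mem _ hx hy
    | smul t x hmem hx =>
      have hxm : residue R x = 0 := by
        refine (residue_eq_zero_iff x).mpr ?_
        rw [← IsLocalization.AtPrime.map_eq_maximalIdeal q R]
        exact hmem
      rw [smul_eq_mul, db_mul, hxm, zero_smul, add_zero]
      exact Submodule.smul_mem _ _ hx
  obtain ⟨bs, hbs, -, hspan, hbli⟩ := exists_linearIndepOn_extension (linearIndepOn_empty (ResidueField R) (id : W → W))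
    (t := Set.range v) (Set.empty_subset _)
  rw [Set.image_id, Set.image_id] at hspan
  have htop : Submodule.span (ResidueField R) bs = ⊤ :=
    top_le_iff.mp (hvspan.ge.trans (Submodule.span_le.mpr hspan))
  haveI : Fintype bs := hbli.linearIndependent.setFinite.fintype
  let m := Fintype.card ↥bs
  let e : Fin m ≃ ↥bs := (Fintype.equivFin _).symm
  choose b' hb' using fun i : Fin m => hbs (e i).2
  have hve : v ∘ b' = Subtype.val ∘ e := funext hb'
  have hcli : LinearIndependent (ResidueField R) (v ∘ b') := by
    rw [hve]; exact hbli.linearIndependent.comp e e.injective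
  let w : Fin m → Ω[R⁄A] := fun i => D A R (algebraMap B R (b' i).1)
  let bas : Module.Basis (Fin m) (ResidueField R) W := Module.Basis.mk hcli (by
    rw [hve, Set.range_comp, e.range_eq_univ, Set.image_univ, Subtype.range_coe, htop])
  have hwspan : Submodule.span R (Set.range w) = ⊤ :=
    IsLocalRing.span_eq_top_of_tmul_eq_basis w bas fun i => by
      rw [Module.Basis.mk_apply]; rfl
  haveI : Module.Free R (Ω[R⁄A]) := Module.free_of_flat_of_isLocalRing
  have hwli : LinearIndependent R w := by
    refine linearIndependent_of_top_le_span_of_card_eq_finrank hwspan.ge ?_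
    rw [← Module.finrank_baseChange (R := ResidueField R) (S := R) (M' := Ω[R⁄A]),
      Module.finrank_eq_card_basis bas]
  exact ⟨m, fun i => (b' i).1, fun i => (b' i).2, hwli, hwspan⟩

/-- The étale slice through a prime, cut out inside the ideal. -/
theorem exists_etale_slice (A : Type v) (B : Type w) [CommRing A] [CommRing B] [Algebra A B] [Algebra.Smooth A B]
    (q : Ideal B) [q.IsPrime] (J : Ideal B) (hJq : J ≤ q) (hJ : ∀ b : B, ∃ a : A, b - algebraMap A B a ∈ J) :
    ∃ (f : B) (K : Ideal B), f ∉ q ∧ K ≤ J ∧
      ((Ideal.Quotient.mk (K.map (algebraMap B (Localization.Away f)))).comp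
        ((algebraMap B (Localization.Away f)).comp (algebraMap A B))).Etale := by
  let R := Localization.AtPrime q
  haveI : Algebra.FormallyUnramified A (ResidueField R) := by
    haveI : Algebra.FormallyUnramified A (B ⧸ q) := Algebra.FormallyUnramified.of_surjective
      (Algebra.ofId A (B ⧸ q)) fun x => by
        obtain ⟨b, rfl⟩ := Ideal.Quotient.mk_surjective x
        obtain ⟨a, ha⟩ := hJ b
        exact ⟨a, ((Ideal.Quotient.eq (I := q)).mpr (hJq ha)).symm⟩
    haveI : Algebra.FormallyUnramified (B ⧸ q) (ResidueField R) :=
      Algebra.FormallyUnramified.of_isLocalization (Rₘ := q.ResidueField) (nonZeroDivisors (B ⧸ q))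
    haveI : IsScalarTower A (B ⧸ q) (ResidueField R) := IsScalarTower.to₁₃₄ A B (B ⧸ q) _
    exact Algebra.FormallyUnramified.comp A (B ⧸ q) (ResidueField R)
  haveI : Algebra.FormallyEtale B R := Algebra.FormallyEtale.of_isLocalization q.primeCompl
  haveI : Algebra.FormallySmooth A R := Algebra.FormallySmooth.comp A B R
  obtain ⟨m, c, hcq, hli, hspan⟩ := exists_coordinates_mem A B R q J hJ
  let P := MvPolynomial (Fin m) A
  letI : Algebra P B := (MvPolynomial.aeval c).toRingHom.toAlgebra
  haveI : IsScalarTower A P B := IsScalarTower.of_algebraMap_eq fun a => ((MvPolynomial.aeval c).commutes a).symm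
  haveI : IsScalarTower A P R := IsScalarTower.of_algebraMap_eq fun a => by
    rw [IsScalarTower.algebraMap_apply P B R, ← IsScalarTower.algebraMap_apply A P B,
      ← IsScalarTower.algebraMap_apply A B R]
  have hX : (fun i => D A R (algebraMap P R (MvPolynomial.X i))) = fun i => D A R (algebraMap B R (c i)) :=
    funext fun i => by
      rw [IsScalarTower.algebraMap_apply P B R]
      exact congrArg (fun x => D A R (algebraMap B R x)) (MvPolynomial.aeval_X c i)
  haveI : Algebra.FormallyEtale P R := (Groth.L05.Kaehler.formallyEtale_mvPolynomial_iff (Fin m) A R).mpr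
    (by rw [hX]; exact ⟨hli, hspan⟩)
  haveI : Algebra.IsEtaleAt P q := this
  haveI : Algebra.FinitePresentation P B :=
    Algebra.FinitePresentation.of_restrict_scalars_finitePresentation A P B
  obtain ⟨f, hf, het⟩ := Algebra.exists_etale_of_isEtaleAt (R := P) q
  refine ⟨f, Ideal.span (Set.range c), hf, Ideal.span_le.mpr (Set.range_subset_iff.mpr hcq), ?_⟩
  let T := Localization.Away f
  let I : Ideal P := Ideal.span (Set.range MvPolynomial.X)
  have hJ' : (Ideal.span (Set.range c)).map (algebraMap B T) = I.map (algebraMap P T) := by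
    rw [Ideal.map_span, Ideal.map_span, ← Set.range_comp, ← Set.range_comp]
    refine congrArg (fun g => Ideal.span (Set.range g)) (funext fun i => ?_)
    show algebraMap B T (c i) = algebraMap P T (MvPolynomial.X i)
    rw [IsScalarTower.algebraMap_apply P B T]
    exact congrArg _ (MvPolynomial.aeval_X c i).symm
  haveI : Algebra.Etale A (P ⧸ I) := by
    have hsurj : Function.Surjective (MvPolynomial.aeval (fun _ : Fin m => (0 : A)) : P →ₐ[A] A) :=
      fun a => ⟨MvPolynomial.C a, MvPolynomial.aeval_C _ a⟩
    exact Algebra.Etale.of_equiv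
      ((Ideal.quotientKerAlgEquivOfSurjective hsurj).symm.trans
        (Ideal.quotientEquivAlgOfEq A (Groth.L24.SmoothDivisor.ker_aeval_zero A (Fin m))))
  haveI : Algebra.Etale (P ⧸ I) (T ⧸ I.map (algebraMap P T)) :=
    Algebra.Etale.of_equiv (Algebra.TensorProduct.quotIdealMapEquivQuotTensor T I).symm
  haveI : IsScalarTower A (P ⧸ I) (T ⧸ I.map (algebraMap P T)) := IsScalarTower.to₁₃₄ A P (P ⧸ I) _
  haveI : Algebra.Etale A (T ⧸ I.map (algebraMap P T)) := Algebra.Etale.comp A (P ⧸ I) _
  rw [hJ']
  have h : (algebraMap A (T ⧸ I.map (algebraMap P T))).Etale := RingHom.etale_algebraMap.mpr inferInstance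
  rw [IsScalarTower.algebraMap_eq A T (T ⧸ I.map (algebraMap P T)), IsScalarTower.algebraMap_eq A B T] at h
  exact h

end Groth.L07.EtaleSliceIdeal
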