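import Mathlib.Algebra.Category.ModuleCat.Ext.HasExt
import Mathlib.Algebra.Homology.DerivedCategory.Ext.ExactSequences
import Mathlib.Algebra.Homology.DerivedCategory.Ext.Linear
import Mathlib.Algebra.Homology.DerivedCategory.Ext.EnoughProjectives
import Mathlib.Algebra.Category.ModuleCat.Projective
import Mathlib.Algebra.Category.ModuleCat.Abelian
import Mathlib.LinearAlgebra.Isomorphisms
import Mathlib.Algebra.Homology.ShortComplex.ModuleCat
import Mathlib.LinearAlgebra.FreeModule.Basic
import Mathlib.LinearAlgebra.StdBasis
import Mathlib.Algebra.Module.Projective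
import Mathlib.RingTheory.Ideal.Quotient.Basic

/-! Ext of a module with one relation. -/

set_option autoImplicit false
set_option linter.style.haveILetI false
set_option maxSynthPendingDepth 3

namespace Groth.L07.ExtRel

open CategoryTheory CategoryTheory.Abelian

universe u

variable {R : Type u} [CommRing R] {n : ℕ}

theorem ext_of_relation (M : Type u) [AddCommGroup M] [Module R M] (c : Fin n → R)
    (hc : ∀ a : R, (∀ i, a * c i = 0) → a = 0) (l : (Fin n → R) →ₗ[R] M)
    (hl : Function.Surjective l) (hker : LinearMap.ker l = Submodule.span R {c}) :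
    Subsingleton (Ext (ModuleCat.of R M) (ModuleCat.of R R) 2) ∧
      Nonempty (Ext (ModuleCat.of R M) (ModuleCat.of R R) 1 ≃ₗ[R] R ⧸ Ideal.span (Set.range c)) := by
  classical
  let ι : R →ₗ[R] (Fin n → R) := LinearMap.toSpanSingleton R _ c
  have hzero : l ∘ₗ ι = 0 := by
    refine LinearMap.ext_ring ?_
    simp only [LinearMap.comp_apply, ι, LinearMap.toSpanSingleton_apply, one_smul, LinearMap.zero_apply]
    exact LinearMap.mem_ker.mp (hker.ge (Submodule.subset_span rfl))
  let S : ShortComplex (ModuleCat.{u} R) :=
    ShortComplex.mk (ModuleCat.ofHom ι) (ModuleCat.ofHom l) (by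
      rw [← ModuleCat.ofHom_comp, hzero]; rfl)
  have hinj : Function.Injective ι := by
    rw [injective_iff_map_eq_zero]
    intro a ha
    refine hc a fun i => ?_
    have := congrFun ha i
    simpa [ι] using this
  have hS : S.ShortExact :=
    { exact := by
        rw [ShortComplex.moduleCat_exact_iff]
        intro x hx
        have hx' : x ∈ Submodule.span R {c} := hker ▸ hx
        obtain ⟨a, rfl⟩ := Submodule.mem_span_singleton.mp hx'
        exact ⟨a, rfl⟩
      mono_f := (ModuleCat.mono_iff_injective _).mpr hinj
      epi_g := (ModuleCat.epi_iff_surjective _).mpr hl }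
  haveI hP1 : Projective S.X₁ := (IsProjective.iff_projective R).mp inferInstance
  haveI hP2 : Projective S.X₂ := (IsProjective.iff_projective (Fin n → R)).mp (Module.Projective.of_basis (Pi.basisFun R (Fin n)))
  refine ⟨⟨fun x y => ?_⟩, ?_⟩
  · suffices h : ∀ z : Ext S.X₃ (ModuleCat.of R R) 2, z = 0 from (h x).trans (h y).symm
    intro z
    obtain ⟨w, rfl⟩ := Ext.contravariant_sequence_exact₃ hS _ z (Ext.eq_zero_of_projective _)
      (n₀ := 1) rfl
    rw [Ext.eq_zero_of_projective w, Ext.comp_zero]
  · let e : R ≃ₗ[R] (S.X₁ ⟶ ModuleCat.of R R) :=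
      { toFun := fun a => ModuleCat.ofHom (LinearMap.toSpanSingleton R R a)
        invFun := fun g => g.hom (1 : R)
        map_add' := fun a b => ModuleCat.hom_ext (LinearMap.ext_ring (by simp))
        map_smul' := fun a b => ModuleCat.hom_ext (LinearMap.ext_ring (by simp))
        left_inv := fun a => one_smul R a
        right_inv := fun g => ModuleCat.hom_ext (LinearMap.ext_ring (by simp)) }
    have he : ∀ a, (e a).hom (1 : R) = a := fun a => one_smul R a
    let φ : R →ₗ[R] Ext S.X₃ (ModuleCat.of R R) 1 :=
      (Ext.precompOfLinear hS.extClass R (ModuleCat.of R R) (a := 0) (b := 1) rfl).comp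
        ((Ext.linearEquiv₀ (R := R)).symm.toLinearMap.comp e.toLinearMap)
    have hφ : ∀ a, φ a = hS.extClass.comp (Ext.mk₀ (e a)) rfl := fun a => rfl
    have hsurj : Function.Surjective φ := by
      intro z
      obtain ⟨w, rfl⟩ := Ext.contravariant_sequence_exact₃ hS _ z (Ext.eq_zero_of_projective _)
        (n₀ := 0) rfl
      refine ⟨e.symm (Ext.linearEquiv₀ (R := R) w), ?_⟩
      rw [hφ, LinearEquiv.apply_symm_apply, Ext.mk₀_linearEquiv₀_apply]
    have hker' : LinearMap.ker φ = Ideal.span (Set.range c) := by
      refine le_antisymm (fun a ha => ?_) (Submodule.span_le.mpr ?_)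
      · rw [LinearMap.mem_ker, hφ] at ha
        obtain ⟨w, hw⟩ := Ext.contravariant_sequence_exact₁ hS _ _ rfl ha
        obtain ⟨g, rfl⟩ := Ext.addEquiv₀.symm.surjective w
        have hg : S.f ≫ g = e a := by
          apply Ext.addEquiv₀.symm.injective
          simpa using hw
        have h1 : g.hom c = a := by
          have := congrArg (fun q => (ModuleCat.Hom.hom q) (1 : R)) hg
          rw [he] at this
          have hfc : S.f.hom (1 : R) = c := one_smul R c
          calc g.hom c = g.hom (S.f.hom (1 : R)) := by rw [hfc]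
            _ = a := this
        have h2 : g.hom c = ∑ i, c i • g.hom (fun j => if i = j then (1 : R) else 0) := by
          conv_lhs => rw [pi_eq_sum_univ c]
          simp only [map_sum, map_smul]
        rw [← h1, h2]
        exact Submodule.sum_mem _ fun i _ => Ideal.mul_mem_right _ _ (Ideal.subset_span ⟨i, rfl⟩)
      · rintro _ ⟨i, rfl⟩
        rw [SetLike.mem_coe, LinearMap.mem_ker, hφ]
        have : e (c i) = S.f ≫ ModuleCat.ofHom (LinearMap.proj i : (Fin n → R) →ₗ[R] R) := by
          refine ModuleCat.hom_ext (LinearMap.ext_ring ?_)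
          rw [he]
          exact (congrFun (one_smul R c) i).symm
        rw [this, ← Ext.mk₀_comp_mk₀]
        exact ShortComplex.ShortExact.extClass_comp_assoc hS _
    exact ⟨(φ.quotKerEquivOfSurjective hsurj).symm.trans (Submodule.quotEquivOfEq _ _ hker')⟩

end Groth.L07.ExtRel
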