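import Groth.Agent.L07.FibLD
import Mathlib.Topology.Sober
import Mathlib.AlgebraicGeometry.Properties

/-!
Constructibility of the points at which the fibre is equidimensional (EGA IV 9.8.5).
-/

universe u

open CategoryTheory AlgebraicGeometry Topology

namespace Groth.L07.FibLD

open L02.FibDepth

set_option autoImplicit false
set_option linter.style.haveILetI false
set_option maxSynthPendingDepth 3

/-- A set agreeing with a locally constructible set near each point is locally constructible. -/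
theorem isLocallyConstructible_of_local {T : Type*} [TopologicalSpace T] {E : Set T}
    (h : ∀ x, ∃ U : Set T, IsOpen U ∧ x ∈ U ∧ ∃ E' : Set T, IsLocallyConstructible E' ∧ ∀ z ∈ U, z ∈ E ↔ z ∈ E') :
    IsLocallyConstructible E := by
  intro x
  obtain ⟨U, hU, hxU, E', hE', heq⟩ := h x
  obtain ⟨V, hxV, hV, hc⟩ := hE' x
  refine ⟨U ∩ V, Filter.inter_mem (hU.mem_nhds hxU) hxV, hU.inter hV, ?_⟩
  have h2 := hc.preimage_of_isOpenEmbedding (IsOpenEmbedding.id.restrict
    (show Set.MapsTo id (U ∩ V) V from fun z hz => hz.2) (hU.inter hV))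
  convert h2 using 1
  ext ⟨z, hz⟩
  exact heq z hz.1

variable {X S : Scheme.{u}} (f : X ⟶ S) [LocallyOfFinitePresentation f]

/-- The numerical data of the fibres. -/
noncomputable abbrev rd : Pre (fun x : X => f x) := preData (hasCharts₀_ring f)

theorem mem_S (x : X) : x ∈ (rd f).S := (inferInstance : Nontrivial (FR f x))

theorem dim_closure (s : S) (w : ↥(f.fiber s)) :
    topologicalKrullDim ↥(closure ({w} : Set ↥(f.fiber s))) = ((rd f).δ (f.fiberι s w) : WithBot ℕ∞) := by
  have h := forall_fiber_iff (f := f) (P := fun s w =>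
    topologicalKrullDim ↥(closure ({w} : Set ↥(f.fiber s))) = ((rd f).δ (f.fiberι s w) : WithBot ℕ∞)) s
  exact h.2 (fun z _ => by
    rw [f.fiberι_asFiber]; exact dim_closure_asFiber_eq (hasCharts₀_ring f) z) w

/-- The points of the fibres with zero-dimensional local ring are the maximal ones. -/
theorem b_eq_zero_iff (z : X) : (rd f).b z = 0 ↔ ∀ w : X, f w = f z → w ⤳ z → w = z := by
  constructor
  · intro hb w hp hw
    by_contra hne
    have h1 := (rd f).strict _ _ hw hp hne
    have h2 := (rd f).δ_le_b_add (mem_S f w) hw hp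
    omega
  · intro h
    obtain ⟨w, -, hwz, hp, hb, -⟩ := (rd f).exists_min_gen (mem_S f z)
    rwa [h w hp hwz] at hb

theorem equidim_iff (x : X) :
    (∃ e : ℕ, ∀ Z ∈ irreducibleComponents (↥(f.fiber (f.base x)) : Type u), f.asFiber x ∈ Z →
      topologicalKrullDim (↥Z : Type u) = e) ↔
    ∃ e : ℕ, ∀ z, z ⤳ x → f z = f x → (rd f).b z = 0 → (rd f).δ z = e := by
  refine exists_congr fun e => ?_
  have hf : ∀ v : ↥(f.fiber (f x)), f (f.fiberι _ v) = f x := fun v => (f.range_fiberι _).subset ⟨v, rfl⟩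
  constructor
  · intro h z hzx hp hb
    obtain ⟨g, rfl⟩ := (f.range_fiberι (f x)).ge (show z ∈ f ⁻¹' {f x} from hp)
    have hg : ∀ v, v ⤳ g → v = g := fun v hv => (eq_iff_fiberι v g).2
      ((b_eq_zero_iff f _).1 hb _ ((hf v).trans (hf g).symm) (hv.map (f.fiberι _).continuous))
    have hcomp : closure {g} ∈ irreducibleComponents ↥(f.fiber (f x)) := by
      refine ⟨isIrreducible_singleton.closure, fun W hW hle => ?_⟩
      obtain ⟨g', hg'⟩ := QuasiSober.sober hW.closure isClosed_closure
      have hmem : g ∈ closure {g'} := hg'.def.symm ▸ subset_closure (hle (subset_closure rfl))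
      rw [← hg g' (specializes_iff_mem_closure.2 hmem), hg'.def]
      exact subset_closure
    have h2 := h _ hcomp (((asFiber_specializes_iff x g).2 hzx).mem_closure)
    rw [dim_closure] at h2
    exact_mod_cast h2
  · intro h Z hZ hxZ
    obtain ⟨g, hg⟩ := QuasiSober.sober hZ.1 (isClosed_of_mem_irreducibleComponents Z hZ)
    have hgx : g ⤳ f.asFiber x := specializes_iff_mem_closure.2 (hg.def.symm ▸ hxZ)
    have hb : (rd f).b (f.fiberι _ g) = 0 := (b_eq_zero_iff f _).2 fun w hp hw => by
      obtain ⟨v, rfl⟩ := (f.range_fiberι (f x)).ge (show w ∈ f ⁻¹' {f x} from hp.trans (hf g))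
      have hv : v ⤳ g := (f.fiberι _).isEmbedding.isInducing.specializes_iff.1 hw
      have hle : Z ⊆ closure {v} := by
        rw [← hg.def]
        exact closure_minimal (Set.singleton_subset_iff.2 hv.mem_closure) isClosed_closure
      have hge : closure {v} ⊆ Z := hZ.2 isIrreducible_singleton.closure hle
      rw [(hv.antisymm (specializes_iff_mem_closure.2 (hg.def.symm ▸ hge (subset_closure rfl)))).eq]
    rw [← hg.def, dim_closure, h _ ((asFiber_specializes_iff x g).1 hgx) (hf g) hb]

/-- The points with equidimensional fibre form a locally constructible set. -/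
theorem isLocallyConstructible_equidim :
    IsLocallyConstructible {x : X | ∃ e : ℕ,
      ∀ Z ∈ irreducibleComponents (↥(f.fiber (f.base x)) : Type u), f.asFiber x ∈ Z →
        topologicalKrullDim (↥Z : Type u) = e} := by
  refine isLocallyConstructible_of_local fun x => ?_
  obtain ⟨U, N, hU, hxU, hN⟩ := (rd f).bdd x
  let A : ℕ → Set X := fun e => LD (fun x : X => f x) (rd f).δ {z | z ∈ (rd f).S ∧ (rd f).b z + (rd f).δ z = e} e
  have hA : ∀ e, IsLocallyConstructible (A e) := fun e =>
    isLocallyConstructible_LD f _ (isLocallyConstructible_dim_eq (hasCharts₀_ring f) e) e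
  have hAiff : ∀ e z, z ∈ A e ↔ ∃ w, w ⤳ z ∧ f w = f z ∧ (rd f).b w = 0 ∧ (rd f).δ w = e := by
    intro e z
    constructor
    · rintro ⟨w, ⟨-, hw⟩, hwz, hp, hd⟩
      exact ⟨w, hwz, hp, by omega, by omega⟩
    · rintro ⟨w, hwz, hp, hb, hd⟩
      exact ⟨w, ⟨mem_S f w, by omega⟩, hwz, hp, hd.ge⟩
  refine ⟨U, hU, hxU, (⋃ e : Fin (N + 1), ⋃ e' : Fin (N + 1), if e = e' then ∅ else A e ∩ A e')ᶜ, ?_, fun z hz => ?_⟩
  · refine L02.Cons.isLocallyConstructible_compl (IsLocallyConstructible.iUnion fun e =>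
      IsLocallyConstructible.iUnion fun e' => ?_)
    split
    · exact IsLocallyConstructible.empty
    · exact (hA e).inter (hA e')
  · rw [Set.mem_ofPred_eq, equidim_iff f z]
    simp only [Set.mem_compl_iff, Set.mem_iUnion, not_exists]
    constructor
    · rintro ⟨e, he⟩ i j hij
      split at hij
      · exact hij
      · rename_i hne
        obtain ⟨w, h1, h2, h3, h4⟩ := (hAiff _ _).1 hij.1
        obtain ⟨w', h1', h2', h3', h4'⟩ := (hAiff _ _).1 hij.2
        exact hne (Fin.ext (h4.symm.trans ((he w h1 h2 h3).trans ((he w' h1' h2' h3').symm.trans h4'))))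
    · intro h
      obtain ⟨w₀, -, h1, h2, h3, -⟩ := (rd f).exists_min_gen (mem_S f z)
      refine ⟨(rd f).δ w₀, fun w hw hp hb => ?_⟩
      by_contra hne
      have hb0 : (rd f).δ w₀ < N + 1 := Nat.lt_succ_of_le (hN w₀ (h1.mem_open hU hz)).1
      have hb1 : (rd f).δ w < N + 1 := Nat.lt_succ_of_le (hN w (hw.mem_open hU hz)).1
      refine h ⟨_, hb1⟩ ⟨_, hb0⟩ ?_
      rw [if_neg fun e => hne (congrArg Fin.val e)]
      exact ⟨(hAiff _ _).2 ⟨w, hw, hp, hb, rfl⟩, (hAiff _ _).2 ⟨w₀, h1, h2, h3, rfl⟩⟩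

end Groth.L07.FibLD
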