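import Groth.Agent.L02.FibDepth.ConstrResults
import Groth.Agent.L28.Fib.Closure
import Groth.Agent.L06.Spectral
import Mathlib.Topology.Spectral.Prespectral

/-!
Constructibility of the points lying in a fibrewise closure of given dimension of a constructible set (EGA IV 9.5).
-/

universe u

open CategoryTheory Topology PrimeSpectrum

namespace Groth.L07.FibLD

open L02.FibDepth

set_option autoImplicit false
set_option linter.style.haveILetI false
set_option maxSynthPendingDepth 3

/-- Constructible sets are closed in the constructible topology. -/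
theorem isClopen_cons {T : Type*} [TopologicalSpace T] [SpectralSpace T] {s : Set T} (hs : IsConstructible s) :
    @IsClopen _ (constructibleTopology T) s := by
  induction hs using IsConstructible.empty_union_induction with
  | open_retrocompact U hU hc =>
    exact Groth.L06.Spectral.isClopen_cons hU (by simpa using hc isCompact_univ isOpen_univ)
  | union s _ t _ hs ht => exact @IsClopen.union _ (constructibleTopology T) _ _ hs ht
  | compl s _ hs => exact @IsClopen.compl _ (constructibleTopology T) _ hs

/-- The closure of a constructible set consists of the specializations of its points. -/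
theorem exists_specializes {T : Type*} [TopologicalSpace T] [SpectralSpace T] {s : Set T} (hs : IsConstructible s)
    {x : T} (hx : x ∈ closure s) : ∃ e ∈ s, e ⤳ x :=
  Groth.L06.Spectral.exists_specializes_of_mem_closure (isClopen_cons hs).1 hx

section Poly

variable {A : Type u} [CommRing A] {d : ℕ}

/-- The map to the base. -/
noncomputable abbrev πP (q : PrimeSpectrum (P A d)) : PrimeSpectrum A := comap (algebraMap A (P A d)) q

theorem isClosed_cons_fibre (s : PrimeSpectrum A) :
    IsClosed[constructibleTopology (PrimeSpectrum (P A d))] (πP ⁻¹' {s} : Set (PrimeSpectrum (P A d))) := by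
  have e : (πP ⁻¹' {s} : Set (PrimeSpectrum (P A d))) =
      zeroLocus (algebraMap A (P A d) '' s.asIdeal) ∩
        ⋂ r : {r : A // r ∉ s.asIdeal}, (basicOpen (algebraMap A (P A d) r.1) : Set (PrimeSpectrum (P A d))) := by
    ext q
    simp only [Set.mem_preimage, Set.mem_singleton_iff, Set.mem_inter_iff, Set.mem_iInter, mem_zeroLocus,
      Set.image_subset_iff]
    constructor
    · rintro rfl
      exact ⟨fun r hr => hr, fun r => r.2⟩
    · rintro ⟨h1, h2⟩
      refine PrimeSpectrum.ext (SetLike.ext fun r => ⟨fun hr => ?_, fun hr => h1 hr⟩)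
      by_contra h
      exact h2 ⟨r, h⟩ hr
  rw [e]
  exact @IsClosed.inter _ _ _ (constructibleTopology _)
    (Groth.L06.Spectral.isClosed_cons_of_isClosed (isClosed_zeroLocus _))
    (@isClosed_iInter _ _ (constructibleTopology _) _ fun r =>
      (Groth.L06.Spectral.isClopen_cons (basicOpen _).2 (isCompact_basicOpen _)).1)

theorem dP_le_of_gen {z q : PrimeSpectrum (P A d)} (h : z ⤳ q) (hp : πP z = πP q) : dP q ≤ dP z := by
  by_cases hne : z = q
  · rw [hne]
  · have h1 := delta_lt h hp hne
    rw [delta_eq_dP, delta_eq_dP] at h1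
    norm_cast at h1
    omega

/-- The fibrewise closure consists of the specializations in the fibres. -/
theorem fibClosure_eq_LD (Z : Set (PrimeSpectrum (P A d))) (hZ : IsConstructible Z) :
    Groth.L28.Fib.fibClosure A (P A d) Z = LD πP dP Z 0 := by
  ext q
  constructor
  · intro hq
    obtain ⟨e, ⟨he, hef⟩, heq⟩ := Groth.L06.Spectral.exists_specializes_of_mem_closure
      (@IsClosed.inter _ _ _ (constructibleTopology _) (isClopen_cons hZ).1 (isClosed_cons_fibre (πP q))) hq
    exact ⟨e, he, heq, hef, Nat.zero_le _⟩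
  · rintro ⟨z, hz, hzq, hp, -⟩
    show q ∈ closure _
    exact hzq.mem_closed isClosed_closure
      (subset_closure (s := Z ∩ comap (algebraMap A (P A d)) ⁻¹' {comap (algebraMap A (P A d)) q}) ⟨hz, hp⟩)

/-- The fibrewise closure of bounded below dimension is compatible with base change. -/
theorem LD_bc (A' : Type u) [CommRing A'] [Algebra A A'] (Z : Set (PrimeSpectrum (P A d))) (n : ℕ) :
    letI := polyAlg (A := A) (d := d) A'
    LD πP dP (comap (algebraMap (P A d) (P A' d)) ⁻¹' Z) n =
      comap (algebraMap (P A d) (P A' d)) ⁻¹' LD πP dP Z n := by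
  letI := polyAlg (A := A) (d := d) A'
  ext q'
  constructor
  · rintro ⟨z', hz', hzq, hp, hn⟩
    refine ⟨_, hz', hzq.map (continuous_comap _), ?_, hn.trans (dP_comap_le A' z')⟩
    show comap (algebraMap A (P A d)) _ = comap (algebraMap A (P A d)) _
    rw [comap_poly, comap_poly]
    exact congrArg (comap (algebraMap A A')) hp
  · rintro ⟨z, hz, hzq, hp, hn⟩
    obtain ⟨z', h1, h2, h3, h4⟩ := bc_lift q' z hzq hp
    rw [delta_eq_dP, delta_eq_dP] at h4
    have e : dP z' = dP z := by exact_mod_cast h4
    exact ⟨z', show comap _ z' ∈ Z from h3.symm ▸ hz, h1, h2, e.symm ▸ hn⟩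

theorem isConstructible_LD_noetherian [IsNoetherianRing A] (Z : Set (PrimeSpectrum (P A d))) (hZ : IsConstructible Z)
    (n : ℕ) : IsConstructible (LD πP dP Z n) := by
  suffices ∀ C : Set (PrimeSpectrum A), IsClosed C → IsConstructible (LD πP dP Z n ∩ πP ⁻¹' C) by
    simpa using this _ isClosed_univ
  intro C hC
  have hπ : Continuous (πP (A := A) (d := d)) := continuous_comap _
  refine Groth.L06.Constr.closed_induction (P := fun C => IsConstructible (LD πP dP Z n ∩ πP ⁻¹' C)) ?_ ?_ ?_ hC
  · simp
  · intro C hC hirr ih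
    obtain ⟨p, hp⟩ := QuasiSober.sober hirr hC
    have hCπ : IsClosed (πP ⁻¹' C : Set (PrimeSpectrum (P A d))) := hC.preimage hπ
    let Z' := Z ∩ πP ⁻¹' C
    have hZ' : IsConstructible Z' := hZ.inter (Groth.L06.Constr.isConstructible_of_isClosed hCπ)
    let K := LD πP dP Z' 0
    have hK : IsConstructible K := by
      rw [show K = _ from (fibClosure_eq_LD Z' hZ').symm]
      exact Groth.L28.Fib.isConstructible_fibClosure A (P A d) Z' hZ'
    let W := closure Z'
    have hWC : W ⊆ πP ⁻¹' C := hCπ.closure_subset_iff.2 Set.inter_subset_right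
    let E := πP '' (W \ K)
    have hE : IsConstructible E :=
      PrimeSpectrum.isConstructible_comap_image
        (RingHom.finitePresentation_algebraMap.2 (inferInstance : Algebra.FinitePresentation A (P A d)))
        ((Groth.L06.Constr.isConstructible_of_isClosed isClosed_closure).sdiff hK)
    have hgen : ∀ c ∈ C, p ⤳ c := fun c hc => specializes_iff_mem_closure.2 (hp.def.symm ▸ hc)
    have hpE : p ∉ closure E := fun h => by
      obtain ⟨_, ⟨w, ⟨hw, hwK⟩, rfl⟩, hep⟩ := exists_specializes hE h
      obtain ⟨z, hz, hzw⟩ := exists_specializes hZ' hw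
      have h1 : πP w = p := (hep.antisymm (hgen _ (hWC hw))).eq
      have h2 : πP z ⤳ p := h1 ▸ hzw.map hπ
      exact hwK ⟨z, hz, hzw, ((h2.antisymm (hgen _ hz.2)).eq).trans h1.symm, Nat.zero_le _⟩
    have hsub : C ∩ closure E ⊂ C := Set.inter_subset_left.ssubset_of_ne fun e =>
      hpE (Set.inter_eq_left.mp e hp.mem)
    have hgood : LD πP dP Z n ∩ πP ⁻¹' (C \ closure E) = LD πP dP W n ∩ πP ⁻¹' (C \ closure E) := by
      ext q
      constructor
      · rintro ⟨⟨z, hz, hzq, hpz, hn⟩, hq⟩
        exact ⟨⟨z, subset_closure (s := Z') ⟨hz, show πP z ∈ C from hpz ▸ hq.1⟩, hzq, hpz, hn⟩, hq⟩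
      · rintro ⟨⟨w, hw, hwq, hpw, hn⟩, hq⟩
        have hwK : w ∈ K := by
          by_contra hc
          exact hq.2 (subset_closure ⟨w, ⟨hw, hc⟩, hpw⟩)
        obtain ⟨z, hz, hzw, hpz, -⟩ := hwK
        exact ⟨⟨z, hz.1, hzw.trans hwq, hpz.trans hpw, hn.trans (dP_le_of_gen hzw hpz)⟩, hq⟩
    have hLDW : IsClosed (LD πP dP W n) := by
      have h := isClosed_LD (A := A) (d := d) (W := W) isClosed_closure n
      convert h using 1
      ext q
      simp only [LD, Set.mem_ofPred_eq, delta_eq_dP, Nat.cast_le]
    show IsConstructible (LD πP dP Z n ∩ πP ⁻¹' C)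
    rw [show C = (C \ closure E) ∪ (C ∩ closure E) from (Set.sdiff_union_inter C _).symm, Set.preimage_union,
      Set.inter_union_distrib_left, hgood]
    refine IsConstructible.union ?_ (ih _ (hC.inter isClosed_closure) hsub)
    rw [Set.preimage_sdiff]
    exact (Groth.L06.Constr.isConstructible_of_isClosed hLDW).inter
      ((Groth.L06.Constr.isConstructible_of_isClosed hCπ).sdiff
        (Groth.L06.Constr.isConstructible_of_isClosed (isClosed_closure.preimage hπ)))
  · intro C D _ _ hC hD
    rw [Set.preimage_union, Set.inter_union_distrib_left]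
    exact hC.union hD

/-- The fibrewise closure of bounded below dimension of a constructible set is constructible. -/
theorem isConstructible_LD (Z : Set (PrimeSpectrum (P A d))) (hZ : IsConstructible Z) (n : ℕ) :
    IsConstructible (LD πP dP Z n) := by
  classical
  obtain ⟨t, rfl⟩ := exists_constructibleSetData_iff.mpr hZ
  let E : Finset (P A d) := t.biUnion fun C => insert C.f (Finset.univ.image C.g)
  let s : Finset A := E.biUnion fun x => x.support.image fun m => x.coeff m
  let A₀ : Subalgebra ℤ A := Algebra.adjoin ℤ (s : Set A)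
  haveI : Algebra.FiniteType ℤ A₀ := (Subalgebra.fg_iff_finiteType _).mp ⟨s, rfl⟩
  haveI : IsNoetherianRing A₀ := Algebra.FiniteType.isNoetherianRing ℤ A₀
  letI := polyAlg (A := A₀) (d := d) A
  have hE : ∀ x ∈ E, x ∈ Set.range (algebraMap (P A₀ d) (P A d)) := fun x hx => by
    show x ∈ Set.range (MvPolynomial.map (σ := Fin d) (algebraMap A₀ A))
    rw [MvPolynomial.mem_range_map_iff_coeffs_subset]
    intro y hy
    rw [MvPolynomial.coeffs, Finset.mem_coe, Finset.mem_image] at hy
    obtain ⟨m, hm, rfl⟩ := hy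
    exact ⟨⟨_, Algebra.subset_adjoin (Finset.mem_coe.2 (Finset.mem_biUnion.2 ⟨x, hx,
      Finset.mem_image.2 ⟨m, hm, rfl⟩⟩))⟩, rfl⟩
  obtain ⟨t₀, ht₀⟩ := Groth.L28.Fib.exists_data_map_eq (algebraMap (P A₀ d) (P A d)) t fun C hC =>
    ⟨hE _ (Finset.mem_biUnion.2 ⟨C, hC, Finset.mem_insert_self _ _⟩),
      fun i => hE _ (Finset.mem_biUnion.2 ⟨C, hC, Finset.mem_insert_of_mem (by simp)⟩)⟩
  rw [← ht₀, ConstructibleSetData.toSet_map, LD_bc A t₀.toSet n]
  exact L02.Cons.isConstructible_comap_preimage _
    (isConstructible_LD_noetherian _ t₀.isConstructible_toSet n)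

end Poly

section Scheme

open AlgebraicGeometry

variable {X S : Scheme.{u}} (f : X ⟶ S) [LocallyOfFinitePresentation f]

/-- The points with a generization of fibre dimension at least `n` in a locally constructible set. -/
theorem isLocallyConstructible_LD (Z : Set X) (hZ : IsLocallyConstructible Z) (n : ℕ) :
    IsLocallyConstructible (LD (fun x : X => f x) (preData (hasCharts₀_ring f)).δ Z n) := by
  refine isLocallyConstructible_of_charts (hasCharts₀_ring f) fun x ch => ?_
  have hj := ch.closedEmbedding
  have hrange : Set.range ch.j = Module.support (P ch.A ch.d) ch.N := by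
    refine Set.Subset.antisymm ?_ ch.support_subset
    rintro _ ⟨z, rfl⟩
    exact (ch.nontrivial_iff z).1 (inferInstance : Nontrivial (FR f z.1))
  have hrc : IsConstructible (Set.range ch.j) := by
    have h := isConstructible_ZP ch.N ch.d 0 (A := ch.A) (d := ch.d)
    convert h using 1
    rw [hrange]
    ext q
    exact ⟨fun hq => ⟨hq, (point_values hq).2.2.1, Nat.zero_le _⟩, fun h => h.1⟩
  haveI : CompactSpace {y : X // y ∈ ch.U} := hj.compactSpace
  haveI : PrespectralSpace {y : X // y ∈ ch.U} := PrespectralSpace.of_isClosedEmbedding ch.j hj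
  have hbasis : TopologicalSpace.IsTopologicalBasis (Set.range fun r : P ch.A ch.d => ch.j ⁻¹' (basicOpen r : Set _)) := by
    have h := PrimeSpectrum.isTopologicalBasis_basic_opens (R := P ch.A ch.d) |>.isInducing hj.isInducing
    convert h using 1
    rw [← Set.range_comp]
    rfl
  haveI : QuasiSeparatedSpace {y : X // y ∈ ch.U} := QuasiSeparatedSpace.of_isTopologicalBasis hbasis fun r r' => by
    have : ch.j ⁻¹' (basicOpen r : Set _) ∩ ch.j ⁻¹' (basicOpen r' : Set _) = ch.j ⁻¹' ((basicOpen (r * r') : TopologicalSpace.Opens (PrimeSpectrum (P ch.A ch.d))) : Set (PrimeSpectrum (P ch.A ch.d))) := by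
      rw [PrimeSpectrum.basicOpen_mul]; rfl
    refine this.symm ▸ ?_
    exact hj.isCompact_preimage (isCompact_basicOpen _)
  have hU : IsConstructible (Subtype.val ⁻¹' Z : Set {y : X // y ∈ ch.U}) :=
    IsLocallyConstructible.isConstructible (X := {y : X // y ∈ ch.U})
      (hZ.preimage_of_isOpenEmbedding ch.U.2.isOpenEmbedding_subtypeVal)
  have hT : IsConstructible (ch.j '' (Subtype.val ⁻¹' Z)) :=
    hU.image_of_isClosedEmbedding hj (Groth.L06.Constr.isRetrocompact hrc.compl)
  refine ⟨LD πP dP (ch.j '' (Subtype.val ⁻¹' Z)) n, isConstructible_LD _ hT n, fun z => ?_⟩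
  have hd : ∀ w : ch.U, dP (ch.j w) = dl f w.1 := fun w => by
    have h := ch.dl_eq w
    rw [delta_eq_dP] at h
    exact_mod_cast h
  constructor
  · rintro ⟨w, hw, hwz, hp, hn⟩
    let wU : ch.U := ⟨w, hwz.mem_open ch.U.2 z.2⟩
    exact ⟨ch.j wU, ⟨wU, hw, rfl⟩, (IsInducing.subtypeVal.specializes_iff.1
      (show wU.1 ⤳ z.1 from hwz)).map ch.closedEmbedding.continuous, (ch.comap_eq_iff wU z).2 hp,
      (hd wU).symm ▸ hn⟩
  · rintro ⟨_, ⟨w, hw, rfl⟩, hvz, hp, hn⟩
    refine ⟨w.1, hw, (ch.closedEmbedding.isInducing.specializes_iff.1 hvz).map continuous_subtype_val,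
      (ch.comap_eq_iff w z).1 hp, ?_⟩
    rw [hd] at hn
    exact hn

end Scheme

end Groth.L07.FibLD
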