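import Groth.Agent.L07.OpenDim
import Groth.Agent.L06.FlatCodepth
import Groth.Prelude.Def_CInt
import Mathlib.AlgebraicGeometry.PullbackCarrier

/-!
Dimensions of local rings of fibres under base change and composition.
-/

set_option autoImplicit false
set_option linter.style.haveILetI false
set_option maxSynthPendingDepth 3
set_option backward.isDefEq.respectTransparency false
set_option backward.isDefEq.respectTransparency.types false

universe u

open CategoryTheory CategoryTheory.Limits AlgebraicGeometry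

namespace Groth.L07.FibreCodim

variable {X S : Scheme.{u}}

theorem isNoetherian_fiber_stalk [IsLocallyNoetherian X] (f : X ⟶ S) (s : S) (z : f.fiber s) :
    IsNoetherianRing ((f.fiber s).presheaf.stalk z) :=
  isNoetherianRing_of_surjective _ _ ((f.fiberι s).stalkMap z).hom ((f.fiberι s).stalkMap_surjective z)

theorem dim_fiber_stalk (f : X ⟶ S) (s : S) (z : f.fiber s) (y : X) (hz : f.fiberι s z = y) :
    ringKrullDim ((f.fiber s).presheaf.stalk z) = ringKrullDim (CInt.fiberStalk f y) := by
  obtain ⟨e⟩ := Groth.L07.CIScheme.exists_fiberStalkEquiv f s z y hz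
  obtain ⟨e'⟩ := Groth.L07.CIScheme.exists_fiberStalkEquiv f (f.base y) (f.asFiber y) y (f.fiberι_asFiber y)
  exact ringKrullDim_eq_of_ringEquiv (e.symm.trans e')

theorem exists_dim_stalk_zero (F : Scheme.{u}) (z₀ : F) :
    ∃ z : F, ringKrullDim (F.presheaf.stalk z) = 0 := by
  let Z := irreducibleComponent z₀
  have hZi : IsIrreducible Z := isIrreducible_irreducibleComponent
  refine ⟨hZi.genericPoint, ?_⟩
  rw [ringKrullDim_stalk_eq_coheight]
  have h : IsMax hZi.genericPoint := by
    intro q hq
    have hq' : q ⤳ hZi.genericPoint := hq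
    have hcl : Z ⊆ closure {q} := by
      rw [← hZi.closure_genericPoint isClosed_irreducibleComponent]
      exact closure_minimal (Set.singleton_subset_iff.mpr (specializes_iff_mem_closure.mp hq')) isClosed_closure
    have e : closure {q} = Z := (eq_irreducibleComponent isIrreducible_singleton.closure.isPreirreducible hcl)
    have hq2 : hZi.genericPoint ⤳ q := by
      rw [specializes_iff_mem_closure, hZi.closure_genericPoint isClosed_irreducibleComponent]
      exact e ▸ subset_closure (Set.mem_singleton q)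
    exact hq2
  rw [Order.coheight_eq_zero.mpr h]
  rfl

/-- In a non-empty fibre there is a point at which the dimension does not go up. -/
theorem exists_dim_le {A B : Scheme.{u}} (h : A ⟶ B) (hA : ∀ a : A, IsNoetherianRing (A.presheaf.stalk a))
    (hB : ∀ b : B, IsNoetherianRing (B.presheaf.stalk b)) (b : B) (hb : b ∈ Set.range h.base) :
    ∃ a : A, h a = b ∧ ringKrullDim (A.presheaf.stalk a) ≤ ringKrullDim (B.presheaf.stalk b) := by
  obtain ⟨a₀, rfl⟩ := hb
  obtain ⟨z, hz⟩ := exists_dim_stalk_zero (h.fiber (h.base a₀)) (h.asFiber a₀)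
  let a := h.fiberι (h.base a₀) z
  have ha : h a = h.base a₀ :=
    (Set.ext_iff.mp (h.range_fiberι (h.base a₀)) a).mp ⟨z, rfl⟩
  rw [dim_fiber_stalk h _ z a rfl, Groth.L07.OpenDim.fibre_ringKrullDim] at hz
  letI := (h.stalkMap a).hom.toAlgebra
  haveI : IsLocalHom (algebraMap (B.presheaf.stalk (h.base a)) (A.presheaf.stalk a)) :=
    inferInstanceAs (IsLocalHom (h.stalkMap a).hom)
  haveI := hA a
  haveI := hB (h.base a)
  have h2 := Groth.L07.OpenDim.dim_le_add_fibre (B.presheaf.stalk (h.base a)) (A.presheaf.stalk a)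
  refine ⟨a, ha, h2.trans (le_of_eq ?_)⟩
  rw [show ringKrullDim (A.presheaf.stalk a ⧸
    (IsLocalRing.maximalIdeal (B.presheaf.stalk (h.base a))).map (algebraMap _ (A.presheaf.stalk a))) = 0 from hz,
    add_zero, ← show h.base a = h.base a₀ from ha]

theorem dim_le_of_flat {A B : Scheme.{u}} (h : A ⟶ B) [Flat h] (a : A)
    (hA : IsNoetherianRing (A.presheaf.stalk a)) (hB : IsNoetherianRing (B.presheaf.stalk (h.base a))) :
    ringKrullDim (B.presheaf.stalk (h.base a)) ≤ ringKrullDim (A.presheaf.stalk a) := by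
  letI := (h.stalkMap a).hom.toAlgebra
  haveI : IsLocalHom (algebraMap (B.presheaf.stalk (h.base a)) (A.presheaf.stalk a)) :=
    inferInstanceAs (IsLocalHom (h.stalkMap a).hom)
  haveI : Module.Flat (B.presheaf.stalk (h.base a)) (A.presheaf.stalk a) := Flat.stalkMap h a
  haveI := hA
  haveI := hB
  rw [Groth.L06.FlatFibre.ringKrullDim_eq (B.presheaf.stalk (h.base a)) (A.presheaf.stalk a)]
  exact le_add_of_nonneg_right ringKrullDim_nonneg_of_nontrivial

/-- The fibre map of a composite. -/
theorem isPullback_fiberMap {X' : Scheme.{u}} (g : X' ⟶ X) (f : X ⟶ S) (s : S) :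
    IsPullback (CInt.fiberMap g f s) ((g ≫ f).fiberι s) (f.fiberι s) g := by
  refine IsPullback.of_right (h₁₂ := f.fiberToSpecResidueField s) (h₂₂ := f)
    (v₁₃ := S.fromSpecResidueField s) ?_ ?_ (IsPullback.of_hasPullback _ _).flip
  · rw [show CInt.fiberMap g f s ≫ f.fiberToSpecResidueField s = (g ≫ f).fiberToSpecResidueField s from
      (pullback.lift_snd _ _ _).trans (Category.comp_id _)]
    exact (IsPullback.of_hasPullback _ _).flip
  · exact pullback.lift_fst _ _ _

theorem fiberι_fiberMap {X' : Scheme.{u}} (g : X' ⟶ X) (f : X ⟶ S) (s : S) (z : (g ≫ f).fiber s) :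
    f.fiberι s (CInt.fiberMap g f s z) = g ((g ≫ f).fiberι s z) :=
  congrArg (fun m : (g ≫ f).fiber s ⟶ X => m z) (pullback.lift_fst _ _ _)

theorem dim_le_comp {X' : Scheme.{u}} [IsLocallyNoetherian X] [IsLocallyNoetherian X'] (g : X' ⟶ X)
    [Flat g] (f : X ⟶ S) (y' : X') :
    ringKrullDim (CInt.fiberStalk f (g y')) ≤ ringKrullDim (CInt.fiberStalk (g ≫ f) y') := by
  let s := (g ≫ f).base y'
  haveI : Flat (CInt.fiberMap g f s) :=
    MorphismProperty.of_isPullback (P := @Flat) (isPullback_fiberMap g f s).flip inferInstance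
  let z := (g ≫ f).asFiber y'
  have hz : f.fiberι s (CInt.fiberMap g f s z) = g y' := by
    rw [fiberι_fiberMap]; exact congrArg g ((g ≫ f).fiberι_asFiber y')
  rw [← dim_fiber_stalk f s _ (g y') hz]
  exact dim_le_of_flat (CInt.fiberMap g f s) z (isNoetherian_fiber_stalk _ _ _) (isNoetherian_fiber_stalk _ _ _)

theorem exists_dim_comp_le {X' : Scheme.{u}} [IsLocallyNoetherian X] [IsLocallyNoetherian X'] (g : X' ⟶ X)
    [Surjective g] (f : X ⟶ S) (y : X) :
    ∃ y' : X', g y' = y ∧ ringKrullDim (CInt.fiberStalk (g ≫ f) y') ≤ ringKrullDim (CInt.fiberStalk f y) := by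
  let s := f.base y
  haveI : Surjective (CInt.fiberMap g f s) :=
    MorphismProperty.of_isPullback (P := @Surjective) (isPullback_fiberMap g f s).flip inferInstance
  obtain ⟨a, ha, hd⟩ := exists_dim_le (CInt.fiberMap g f s) (isNoetherian_fiber_stalk _ _)
    (isNoetherian_fiber_stalk _ _) (f.asFiber y) ((CInt.fiberMap g f s).surjective _)
  refine ⟨(g ≫ f).fiberι s a, ?_, ?_⟩
  · rw [← fiberι_fiberMap, ha]; exact f.fiberι_asFiber y
  · rwa [dim_fiber_stalk (g ≫ f) s a _ rfl] at hd

theorem flat_to_field {K L : CommRingCat.{u}} (hK : IsField K) (φ : K ⟶ L) : Flat (Spec.map φ) := by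
  rw [HasRingHomProperty.Spec_iff (P := @Flat)]
  letI := hK.toField
  show RingHom.Flat φ.hom
  letI := φ.hom.toAlgebra
  exact (inferInstance : Module.Flat K L)

variable {S' : Scheme.{u}} (f : X ⟶ S) (g : S' ⟶ S)

/-- The map between the fibres of a base change and of the morphism. -/
theorem exists_fibre_baseChange (s' : S') :
    ∃ h : (pullback.snd f g).fiber s' ⟶ f.fiber (g.base s'), Flat h ∧
      ∀ z, f.fiberι (g.base s') (h z) = pullback.fst f g ((pullback.snd f g).fiberι s' z) := by
  have big : IsPullback ((pullback.snd f g).fiberι s' ≫ pullback.fst f g)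
      ((pullback.snd f g).fiberToSpecResidueField s') f
      (Spec.map (g.residueFieldMap s') ≫ S.fromSpecResidueField (g.base s')) := by
    rw [Scheme.Hom.SpecMap_residueFieldMap_fromSpecResidueField]
    exact (IsPullback.of_hasPullback _ _).paste_horiz (IsPullback.of_hasPullback f g)
  have t : IsPullback (f.fiberToSpecResidueField (g.base s')) (f.fiberι (g.base s'))
      (S.fromSpecResidueField (g.base s')) f := (IsPullback.of_hasPullback _ _).flip
  let h := t.lift ((pullback.snd f g).fiberToSpecResidueField s' ≫ Spec.map (g.residueFieldMap s'))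
    ((pullback.snd f g).fiberι s' ≫ pullback.fst f g) (by rw [Category.assoc]; exact big.w.symm)
  have h1 : h ≫ f.fiberι (g.base s') = (pullback.snd f g).fiberι s' ≫ pullback.fst f g :=
    t.lift_snd _ _ _
  refine ⟨h, ?_, fun z => congrArg (fun m : (pullback.snd f g).fiber s' ⟶ X => m z) h1⟩
  have sq : IsPullback h ((pullback.snd f g).fiberToSpecResidueField s')
      (f.fiberToSpecResidueField (g.base s')) (Spec.map (g.residueFieldMap s')) := by
    refine IsPullback.of_right (h₁₂ := f.fiberι (g.base s')) (v₁₃ := f)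
      (h₂₂ := S.fromSpecResidueField (g.base s')) ?_ (t.lift_fst _ _ _) t.flip
    rw [h1]; exact big
  exact MorphismProperty.of_isPullback (P := @Flat) sq.flip
    (flat_to_field (Field.toIsField (S.residueField (g.base s'))) _)

variable [IsLocallyNoetherian X] [IsLocallyNoetherian (pullback f g)]

theorem dim_le_baseChange (y' : ↥(pullback f g)) :
    ringKrullDim (CInt.fiberStalk f (pullback.fst f g y')) ≤
      ringKrullDim (CInt.fiberStalk (pullback.snd f g) y') := by
  obtain ⟨h, hfl, hh⟩ := exists_fibre_baseChange f g ((pullback.snd f g).base y')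
  have hz := (hh ((pullback.snd f g).asFiber y')).trans
    (congrArg (pullback.fst f g) ((pullback.snd f g).fiberι_asFiber y'))
  rw [← dim_fiber_stalk f _ _ _ hz]
  exact dim_le_of_flat h _ (isNoetherian_fiber_stalk _ _ _) (isNoetherian_fiber_stalk _ _ _)

theorem exists_dim_baseChange_le (x' : ↥(pullback f g)) :
    ∃ y' : ↥(pullback f g), pullback.fst f g y' = pullback.fst f g x' ∧
      ringKrullDim (CInt.fiberStalk (pullback.snd f g) y') ≤
        ringKrullDim (CInt.fiberStalk f (pullback.fst f g x')) := by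
  obtain ⟨h, -, hh⟩ := exists_fibre_baseChange f g ((pullback.snd f g).base x')
  let z := (pullback.snd f g).asFiber x'
  obtain ⟨a, ha, hd⟩ := exists_dim_le h (isNoetherian_fiber_stalk _ _)
    (isNoetherian_fiber_stalk _ _) (h z) ⟨z, rfl⟩
  have hz : f.fiberι _ (h z) = pullback.fst f g x' :=
    (hh z).trans (congrArg (pullback.fst f g) ((pullback.snd f g).fiberι_asFiber x'))
  refine ⟨(pullback.snd f g).fiberι _ a, (hh a).symm.trans ((congrArg (f.fiberι _) ha).trans hz), ?_⟩
  rw [← dim_fiber_stalk f _ _ _ hz, ← dim_fiber_stalk (pullback.snd f g) _ a _ rfl]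
  exact hd

/-- Depth is at least the dimension of the fibre, for Cohen–Macaulay fibres. -/
theorem dim_fibre_le_depth [IsLocallyNoetherian S] [Flat f] (y : X)
    (hCM : LocCoh.IsCohenMacaulayLocalRing (CInt.fiberStalk f y)) :
    ringKrullDim (CInt.fiberStalk f y) ≤
      ((LocCoh.depth (X.presheaf.stalk y) (X.presheaf.stalk y) : ℕ∞) : WithBot ℕ∞) := by
  obtain ⟨e⟩ := Groth.L07.CIScheme.exists_fiberStalkEquiv f (f.base y) (f.asFiber y) y (f.fiberι_asFiber y)
  letI := (f.stalkMap y).hom.toAlgebra
  haveI : IsLocalHom (algebraMap (S.presheaf.stalk (f.base y)) (X.presheaf.stalk y)) :=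
    inferInstanceAs (IsLocalHom (f.stalkMap y).hom)
  haveI : Module.Flat (S.presheaf.stalk (f.base y)) (X.presheaf.stalk y) := Flat.stalkMap f y
  rw [← Module.supportDim_self_eq_ringKrullDim, hCM.supportDim_eq_depth,
    Groth.L06.FlatFibre.depth_eq_of_ringEquiv e,
    Groth.L06.FlatCodepth.depth_eq_add (S.presheaf.stalk (f.base y)) (X.presheaf.stalk y)]
  exact WithBot.coe_le_coe.mpr le_add_self

end Groth.L07.FibreCodim
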