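import Groth.Agent.L07.SyzygyRes
import Groth.Agent.L07.FibreFlat
import Mathlib.RingTheory.LocalRing.Module

/-! Projective dimension is read on the fibres. -/

namespace Groth.L07.SyzygyRes

open CategoryTheory CategoryTheory.Limits TensorProduct

set_option linter.style.haveILetI false
set_option maxSynthPendingDepth 3

universe u

variable {A B : Type u} [CommRing A] [CommRing B] [Algebra A B]

/-- Base change to a ring `B ⊗ κ` preserves injectivity when the cokernel is flat over the base. -/
theorem baseChange_injective {X Y Z κ : Type u} [AddCommGroup X] [AddCommGroup Y] [AddCommGroup Z]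
    [Module B X] [Module B Y] [Module B Z] [Module A X] [Module A Y] [Module A Z] [IsScalarTower A B X]
    [IsScalarTower A B Y] [IsScalarTower A B Z] [CommRing κ] [Algebra A κ] [Module.Flat A Z]
    (f : X →ₗ[B] Y) (g : Y →ₗ[B] Z) (hf : Function.Injective f) (hfg : Function.Exact f g)
    (hg : Function.Surjective g) : Function.Injective (f.baseChange (B ⊗[A] κ)) := by
  let e : ∀ (W : Type u) [AddCommGroup W] [Module B W] [Module A W] [IsScalarTower A B W],
      (B ⊗[A] κ) ⊗[B] W ≃ₗ[B] W ⊗[A] κ := fun W _ _ _ _ =>
    TensorProduct.comm B (B ⊗[A] κ) W ≪≫ₗ (AlgebraTensorModule.assoc A B B W B κ).symm ≪≫ₗ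
      AlgebraTensorModule.congr (TensorProduct.rid B W) (LinearEquiv.refl A κ)
  have he : ∀ (W : Type u) [AddCommGroup W] [Module B W] [Module A W] [IsScalarTower A B W] b k (w : W),
      e W ((b ⊗ₜ[A] k) ⊗ₜ[B] w) = (b • w) ⊗ₜ[A] k := fun W _ _ _ _ b k w => by simp [e]
  have hnat : ∀ z, e Y (f.baseChange (B ⊗[A] κ) z) = (f.restrictScalars A).rTensor κ (e X z) := by
    intro z
    induction z using TensorProduct.induction_on with
    | zero => simp
    | tmul c x =>
      induction c using TensorProduct.induction_on with
      | zero => simp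
      | tmul b k => simp [he]
      | add a b ha hb =>
        simp only [LinearMap.baseChange_tmul, TensorProduct.add_tmul, map_add] at ha hb ⊢
        rw [ha, hb]
    | add a b ha hb => simp only [map_add, ha, hb]
  have h1 : Function.Injective ((f.restrictScalars A).rTensor κ) := by
    intro a b hab
    refine (TensorProduct.comm A X κ).injective ?_
    have hinj := LinearMap.lTensor_injective_of_exact_of_flat (P := Z) (g.restrictScalars A) hg
      (f.restrictScalars A) hf hfg κ
    refine hinj ?_
    have hc : ∀ v, (f.restrictScalars A).lTensor κ (TensorProduct.comm A X κ v) =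
        TensorProduct.comm A Y κ ((f.restrictScalars A).rTensor κ v) := fun v => by
      induction v using TensorProduct.induction_on with
      | zero => simp
      | tmul a b => simp
      | add a b ha hb => simp [ha, hb]
    rw [hc, hc, hab]
  intro a b hab
  exact (e X).injective (h1 (by rw [← hnat, ← hnat, hab]))

variable [Algebra.FinitePresentation A B] [Module.Flat A B]
  (M : Type u) [AddCommGroup M] [Module B M] [Module A M] [IsScalarTower A B M]
  [Module.FinitePresentation B M] [Module.Flat A M]

theorem pdLT_fibre_iff (p : Ideal A) [p.IsPrime] (j : ℕ) :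
    HasProjectiveDimensionLT
        (ModuleCat.of (B ⊗[A] p.ResidueField) ((B ⊗[A] p.ResidueField) ⊗[B] M)) (j + 1) ↔
      Module.Projective (B ⊗[A] p.ResidueField) ((B ⊗[A] p.ResidueField) ⊗[B] (syz A B M j).K) := by
  let B' := B ⊗[A] p.ResidueField
  have key : ∀ j t : ℕ, HasProjectiveDimensionLT (ModuleCat.of B' (B' ⊗[B] M)) (j + t + 1) ↔
      HasProjectiveDimensionLT (ModuleCat.of B' (B' ⊗[B] (syz A B M j).K)) (t + 1) := by
    intro j
    induction j with
    | zero => intro t; rw [Nat.zero_add]; rfl
    | succ j ih =>
      intro t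
      rw [show j + 1 + t + 1 = j + (t + 1) + 1 by omega, ih (t + 1)]
      let f := (incl A (B := B) M j).baseChange B'
      let g := (gen (syz A B M j)).baseChange B'
      have hex : Function.Exact f g := by
        simp only [f, g, LinearMap.baseChange_eq_ltensor]
        exact lTensor_exact B' (exact_incl j) (gen_surjective _)
      have hS : (ShortComplex.mk (ModuleCat.ofHom f) (ModuleCat.ofHom g)
          (ModuleCat.hom_ext (LinearMap.ext fun x => (hex _).mpr ⟨x, rfl⟩))).ShortExact :=
        { exact := (ShortComplex.moduleCat_exact_iff _).mpr fun x hx => (hex x).mp hx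
          mono_f := (ModuleCat.mono_iff_injective _).mpr
            (baseChange_injective (incl A (B := B) M j) (gen (syz A B M j)) (incl_injective j)
              (exact_incl j) (gen_surjective _))
          epi_g := (ModuleCat.epi_iff_surjective _).mpr (by
            show Function.Surjective g
            simp only [g, LinearMap.baseChange_eq_ltensor]
            exact LinearMap.lTensor_surjective B' (gen_surjective _)) }
      exact hS.hasProjectiveDimensionLT_X₃_iff t ((IsProjective.iff_projective _).mp
        (inferInstanceAs (Module.Projective B' (B' ⊗[B] (Fin (num (syz A B M j)) → B)))))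
  rw [show j + 1 = j + 0 + 1 from rfl, key j 0, ← projective_iff_hasProjectiveDimensionLT_one,
    ← IsProjective.iff_projective]

theorem subsingleton_iff_fibres : Subsingleton M ↔
    ∀ p : PrimeSpectrum A, Subsingleton ((B ⊗[A] p.asIdeal.ResidueField) ⊗[B] M) := by
  constructor
  · intro h p
    exact ⟨fun a b => by
      suffices ∀ v : (B ⊗[A] p.asIdeal.ResidueField) ⊗[B] M, v = 0 by rw [this a, this b]
      intro v
      induction v using TensorProduct.induction_on with
      | zero => rfl
      | tmul c x => rw [Subsingleton.elim x 0, TensorProduct.tmul_zero]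
      | add u w hu hw => rw [hu, hw, add_zero]⟩
  · intro h
    rw [← Module.support_eq_empty_iff (R := B)]
    refine Set.eq_empty_of_forall_notMem fun q hq => ?_
    rw [Module.mem_support_iff_nontrivial_residueField_tensorProduct] at hq
    let p : PrimeSpectrum A := ⟨q.asIdeal.comap (algebraMap A B), inferInstance⟩
    haveI hlies : q.asIdeal.LiesOver p.asIdeal := ⟨rfl⟩
    let χ : B ⊗[A] p.asIdeal.ResidueField →ₐ[A] q.asIdeal.ResidueField :=
      Algebra.TensorProduct.lift (IsScalarTower.toAlgHom A B _)
        (Ideal.ResidueField.mapₐ p.asIdeal q.asIdeal (Algebra.ofId A B) hlies.over)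
        fun _ _ => Commute.all _ _
    letI := χ.toRingHom.toAlgebra
    haveI : IsScalarTower B (B ⊗[A] p.asIdeal.ResidueField) q.asIdeal.ResidueField :=
      IsScalarTower.of_algebraMap_eq fun b => by
        show _ = χ (b ⊗ₜ[A] (1 : p.asIdeal.ResidueField))
        simp [χ]
    haveI := h p
    haveI : Subsingleton (q.asIdeal.ResidueField ⊗[B ⊗[A] p.asIdeal.ResidueField]
        ((B ⊗[A] p.asIdeal.ResidueField) ⊗[B] M)) := ⟨fun a b => by
      suffices ∀ v : q.asIdeal.ResidueField ⊗[B ⊗[A] p.asIdeal.ResidueField]
          ((B ⊗[A] p.asIdeal.ResidueField) ⊗[B] M), v = 0 by rw [this a, this b]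
      intro v
      induction v using TensorProduct.induction_on with
      | zero => rfl
      | tmul c x => rw [Subsingleton.elim x 0, TensorProduct.tmul_zero]
      | add u w hu hw => rw [hu, hw, add_zero]⟩
    haveI := (AlgebraTensorModule.cancelBaseChange B (B ⊗[A] p.asIdeal.ResidueField)
      q.asIdeal.ResidueField q.asIdeal.ResidueField M).symm.subsingleton
    exact not_nontrivial _ hq

theorem pdLT_iff_fibres (i : ℕ) :
    HasProjectiveDimensionLT (ModuleCat.of B M) i ↔ ∀ p : PrimeSpectrum A, HasProjectiveDimensionLT
      (ModuleCat.of (B ⊗[A] p.asIdeal.ResidueField) ((B ⊗[A] p.asIdeal.ResidueField) ⊗[B] M)) i := by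
  cases i with
  | zero =>
    simp only [hasProjectiveDimensionLT_zero_iff_isZero, ModuleCat.isZero_iff_subsingleton]
    exact subsingleton_iff_fibres M
  | succ j =>
    rw [pdLT_iff_flat (A := A)]
    simp only [pdLT_fibre_iff M]
    constructor
    · intro h p
      exact Module.Flat.projective_of_finitePresentation
    · intro h
      exact Groth.L07.FibreFlat.flat_of_fibres A B _ fun p _ => by
        haveI := h ⟨p, inferInstance⟩
        infer_instance

end Groth.L07.SyzygyRes
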