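import Groth.Agent.L07.DiagRes
import Groth.Agent.L07.FibrePd
import Groth.Agent.S0563
import Mathlib.RingTheory.LocalRing.Module
import Mathlib.RingTheory.TensorProduct.Quotient

/-! Finite resolutions of modules that are flat over the base. -/

namespace Groth.L07.FibreRes

open TensorProduct IsLocalRing CategoryTheory Groth.L07.DiagRes

set_option linter.style.haveILetI false
set_option maxSynthPendingDepth 3

universe u

variable {A C : Type u} [CommRing A] [CommRing C] [IsLocalRing C] [IsNoetherianRing C] [Algebra A C]

omit [IsNoetherianRing C] in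
theorem subsingleton_of_baseChange (C' : Type u) [CommRing C'] [Algebra C C'] (π : C' →ₗ[C] ResidueField C)
    (hπ : Function.Surjective π) (Q : Type u) [AddCommGroup Q] [Module C Q] [Module.Finite C Q]
    [Subsingleton (C' ⊗[C] Q)] : Subsingleton Q := by
  haveI : Subsingleton (ResidueField C ⊗[C] Q) := (LinearMap.rTensor_surjective Q hπ).subsingleton
  exact (IsLocalRing.subsingleton_tensorProduct (R := C)).mp inferInstance

/-- A module flat over the base, with fibre of finite projective dimension, has a finite resolution. -/
theorem res_of_fibre (I : Ideal A) (hI : I.map (algebraMap A C) ≤ maximalIdeal C) [Module.Flat A C]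
    [IsLocalRing (C ⊗[A] (A ⧸ I))] :
    ∀ (n : ℕ) (M : Type u) [AddCommGroup M] [Module C M] [Module A M] [IsScalarTower A C M]
      [Module.Finite C M] [Module.Flat A M],
      HasProjectiveDimensionLT (ModuleCat.of (C ⊗[A] (A ⧸ I)) ((C ⊗[A] (A ⧸ I)) ⊗[C] M)) (n + 1) →
        Res C n M := by
  let eq := Algebra.TensorProduct.quotIdealMapEquivTensorQuot C I
  have hsurj : Function.Surjective (algebraMap C (C ⊗[A] (A ⧸ I))) := fun y => by
    obtain ⟨x, rfl⟩ := eq.surjective y
    obtain ⟨c, rfl⟩ := Ideal.Quotient.mk_surjective x
    exact ⟨c, (eq.commutes c).symm⟩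
  let π : C ⊗[A] (A ⧸ I) →ₗ[C] ResidueField C := Submodule.factor hI ∘ₗ eq.symm.toLinearMap
  have hπ : Function.Surjective π := (Submodule.factor_surjective hI).comp eq.symm.surjective
  intro n
  induction n with
  | zero =>
    intro M _ _ _ _ _ _ hpd
    let Cb := C ⊗[A] (A ⧸ I)
    haveI : Module.Projective Cb (Cb ⊗[C] M) := (IsProjective.iff_projective _).mpr
      (projective_iff_hasProjectiveDimensionLT_one.mpr hpd)
    haveI : Module.Free Cb (Cb ⊗[C] M) := Module.free_of_flat_of_isLocalRing
    let b := Module.finBasis Cb (Cb ⊗[C] M)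
    have hmk : Function.Surjective (TensorProduct.mk C Cb M 1) := TensorProduct.mk_surjective C M Cb hsurj
    choose v hv using fun i => hmk (b i)
    let g := Fintype.linearCombination C v
    have hbc : ∀ z, g.baseChange Cb z = b.equivFun.symm (piScalarRight C Cb Cb _ z) := by
      intro z
      induction z using TensorProduct.induction_on with
      | zero => simp
      | tmul c w =>
        rw [Module.Basis.equivFun_symm_apply]
        simp only [LinearMap.baseChange_tmul, g, Fintype.linearCombination_apply, TensorProduct.tmul_sum,
          piScalarRight_apply, piScalarRightHom_tmul]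
        refine Finset.sum_congr rfl fun i _ => ?_
        rw [← hv, TensorProduct.mk_apply, TensorProduct.smul_tmul', smul_eq_mul, mul_one,
          TensorProduct.smul_tmul]
      | add a c ha hc => simp only [map_add, ha, hc]
    have hbij : Function.Bijective (g.baseChange Cb) := by
      have : ⇑(g.baseChange Cb) = b.equivFun.symm ∘ piScalarRight C Cb Cb _ := funext hbc
      rw [this]
      exact b.equivFun.symm.bijective.comp (LinearEquiv.bijective _)
    have hg : Function.Surjective g := by
      rw [← LinearMap.range_eq_top, ← Submodule.Quotient.subsingleton_iff]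
      haveI : Subsingleton (Cb ⊗[C] (M ⧸ LinearMap.range g)) := subsingleton_of_forall_eq 0 fun y => by
        obtain ⟨y, rfl⟩ := LinearMap.lTensor_surjective Cb (Submodule.mkQ_surjective _) y
        obtain ⟨x, rfl⟩ := hbij.2 y
        rw [LinearMap.baseChange_eq_ltensor, ← LinearMap.lTensor_comp_apply,
          LinearMap.range_mkQ_comp, LinearMap.lTensor_zero, LinearMap.zero_apply]
      exact subsingleton_of_baseChange Cb π hπ _
    haveI : Module.Flat A (Fin (Module.finrank Cb (Cb ⊗[C] M)) → C) := Module.Flat.trans A C _
    haveI : Module.Flat A (LinearMap.ker g) := Groth.L07.FlatDescent.flat_ker (g.restrictScalars A) hg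
    have hinj : Function.Injective ((LinearMap.ker g).subtype.baseChange Cb) :=
      Groth.L07.SyzygyRes.baseChange_injective _ g Subtype.val_injective (LinearMap.exact_subtype_ker_map g) hg
    haveI : Subsingleton (Cb ⊗[C] LinearMap.ker g) := subsingleton_of_forall_eq 0 fun x => hinj (hbij.1 (by
      rw [map_zero, map_zero, LinearMap.baseChange_eq_ltensor, LinearMap.baseChange_eq_ltensor,
        ← LinearMap.lTensor_comp_apply, LinearMap.comp_ker_subtype, LinearMap.lTensor_zero, LinearMap.zero_apply]))
    haveI := subsingleton_of_baseChange Cb π hπ (LinearMap.ker g)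
    let e := LinearEquiv.ofBijective g ⟨LinearMap.ker_eq_bot.mp (Submodule.subsingleton_iff_eq_bot.mp ‹_›), hg⟩
    exact ⟨Module.Projective.of_equiv e, Module.Finite.equiv e⟩
  | succ n ih =>
    intro M _ _ _ _ _ _ hpd
    obtain ⟨m, g, hg⟩ := Module.Finite.exists_fin' C M
    haveI : Module.Flat A (Fin m → C) := Module.Flat.trans A C _
    haveI : Module.Flat A (LinearMap.ker g) := Groth.L07.FlatDescent.flat_ker (g.restrictScalars A) hg
    refine ⟨m, g, hg, ih _ ?_⟩
    let Cb := C ⊗[A] (A ⧸ I)
    let f' := (LinearMap.ker g).subtype.baseChange Cb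
    let g' := g.baseChange Cb
    have hex : Function.Exact f' g' := by
      simp only [f', g', LinearMap.baseChange_eq_ltensor]
      exact lTensor_exact Cb (LinearMap.exact_subtype_ker_map g) hg
    have hS : (ShortComplex.mk (ModuleCat.ofHom f') (ModuleCat.ofHom g')
        (ModuleCat.hom_ext (LinearMap.ext fun x => (hex _).mpr ⟨x, rfl⟩))).ShortExact :=
      { exact := (ShortComplex.moduleCat_exact_iff _).mpr fun x hx => (hex x).mp hx
        mono_f := (ModuleCat.mono_iff_injective _).mpr
          (Groth.L07.SyzygyRes.baseChange_injective _ g Subtype.val_injective (LinearMap.exact_subtype_ker_map g) hg)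
        epi_g := (ModuleCat.epi_iff_surjective _).mpr (by
          show Function.Surjective g'
          simp only [g', LinearMap.baseChange_eq_ltensor]
          exact LinearMap.lTensor_surjective Cb hg) }
    exact (hS.hasProjectiveDimensionLT_X₃_iff n ((IsProjective.iff_projective _).mp
      (inferInstanceAs (Module.Projective Cb (Cb ⊗[C] (Fin m → C)))))).mp hpd

end Groth.L07.FibreRes
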