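import Groth.Agent.L07.FieldCharts
import Groth.Agent.L05.Point.UnramFlat
import Groth.Agent.L06.NormalTensorApps
import Groth.Prelude.Def_Curv2
import Mathlib.RingTheory.Localization.LocalizationLocalization

/-!
Local rings of a base change over a field, read off the base change of the local ring.
-/

universe u

open CategoryTheory CategoryTheory.Limits AlgebraicGeometry TensorProduct

namespace Groth.L07.FieldStalk

set_option autoImplicit false
set_option linter.style.haveILetI false
set_option maxSynthPendingDepth 3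
set_option synthInstance.maxHeartbeats 400000
set_option backward.isDefEq.respectTransparency.types false
set_option backward.isDefEq.respectTransparency false

attribute [local instance] Curv2.stalkAlgebra

variable (k : Type u) [Field k] (X : Scheme.{u}) [X.Over (Spec (CommRingCat.of k))] (x : X)

theorem SpecMap_stalkMap :
    Spec.map (CommRingCat.ofHom (Curv2.stalkMap k X x)) = X.fromSpecStalk x ≫ (X ↘ Spec (CommRingCat.of k)) := by
  have e : CommRingCat.ofHom (Curv2.stalkMap k X x) =
      (Scheme.ΓSpecIso (CommRingCat.of k)).inv ≫ (X ↘ Spec (CommRingCat.of k)).appTop ≫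
        X.presheaf.germ ⊤ x trivial := rfl
  rw [e]
  have hq : (X ↘ Spec (CommRingCat.of k)) = X.toSpecΓ ≫
      Spec.map ((Scheme.ΓSpecIso (CommRingCat.of k)).inv ≫ (X ↘ Spec (CommRingCat.of k)).appTop) := by
    rw [Spec.map_comp, ← Scheme.toSpecΓ_naturality_assoc, ← SpecMap_ΓSpecIso_hom, ← Spec.map_comp]
    simp
  conv_rhs => rw [hq]
  rw [Scheme.fromSpecStalk_toSpecΓ_assoc, ← Spec.map_comp, Category.assoc]

/-- `Spec (K ⊗ O_x) ⟶ X_K` is bijective on local rings and covers the points above `x`. -/
theorem exists_stalk_chart (K : Type u) [CommRing K] [Algebra k K] :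
    ∃ σ : Spec (CommRingCat.of (K ⊗[k] X.presheaf.stalk x)) ⟶ pullback (X ↘ Spec (CommRingCat.of k)) (Spec.map (CommRingCat.ofHom (algebraMap k K))),
      (∀ Q, IsIso (σ.stalkMap Q)) ∧
      σ ≫ (pullback.fst (X ↘ Spec (CommRingCat.of k)) (Spec.map (CommRingCat.ofHom (algebraMap k K)))) = Spec.map (CommRingCat.ofHom
        (Algebra.TensorProduct.includeRight :
          X.presheaf.stalk x →ₐ[k] K ⊗[k] X.presheaf.stalk x).toRingHom) ≫ X.fromSpecStalk x ∧
      ((pullback.fst (X ↘ Spec (CommRingCat.of k)) (Spec.map (CommRingCat.ofHom (algebraMap k K))))).base ⁻¹' Set.range (X.fromSpecStalk x) ⊆ Set.range σ.base := by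
  let ι := X.fromSpecStalk x
  let p := (pullback.fst (X ↘ Spec (CommRingCat.of k)) (Spec.map (CommRingCat.ofHom (algebraMap k K))))
  let O := X.presheaf.stalk x
  have hP := (isPullback_SpecMap_of_isPushout _ _ _ _ (CommRingCat.isPushout_tensorProduct k K O)).flip
  have hS : Spec.map (CommRingCat.ofHom (algebraMap k O)) = ι ≫ (X ↘ Spec (CommRingCat.of k)) :=
    SpecMap_stalkMap k X x
  let e : Spec (CommRingCat.of (K ⊗[k] O)) ≅ pullback ι p :=
    hP.isoPullback ≪≫ pullback.congrHom hS rfl ≪≫ (pullbackRightPullbackFstIso _ _ ι).symm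
  haveI : Flat ι := Groth.L05.Point.flat_fromSpecStalk x
  haveI : Flat (pullback.snd ι p) := inferInstance
  haveI : IsPreimmersion (pullback.snd ι p) := MorphismProperty.pullback_snd _ _ inferInstance
  have hiso : ∀ z, IsIso ((pullback.snd ι p).stalkMap z) := fun z => by
    refine (ConcreteCategory.isIso_iff_bijective _).mpr ⟨?_, (pullback.snd ι p).stalkMap_surjective _⟩
    have hσ := Flat.stalkMap (pullback.snd ι p) z
    algebraize [((pullback.snd ι p).stalkMap z).hom]
    haveI : IsLocalHom (algebraMap ((pullback (X ↘ Spec (CommRingCat.of k)) (Spec.map (CommRingCat.ofHom (algebraMap k K)))).presheaf.stalk ((pullback.snd ι p) z))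
        ((pullback ι p).presheaf.stalk z)) :=
      inferInstanceAs (IsLocalHom ((pullback.snd ι p).stalkMap z).hom)
    haveI : Module.FaithfullyFlat ((pullback (X ↘ Spec (CommRingCat.of k)) (Spec.map (CommRingCat.ofHom (algebraMap k K)))).presheaf.stalk ((pullback.snd ι p) z))
        ((pullback ι p).presheaf.stalk z) := Module.FaithfullyFlat.of_flat_of_isLocalHom
    exact FaithfulSMul.algebraMap_injective ((pullback (X ↘ Spec (CommRingCat.of k)) (Spec.map (CommRingCat.ofHom (algebraMap k K)))).presheaf.stalk ((pullback.snd ι p) z))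
      ((pullback ι p).presheaf.stalk z)
  refine ⟨e.hom ≫ pullback.snd ι p, fun Q => ?_, ?_, ?_⟩
  · haveI := hiso (e.hom Q)
    rw [Scheme.Hom.stalkMap_comp]
    infer_instance
  · rw [Category.assoc, ← pullback.condition]
    dsimp only [p]
    simp only [e, Iso.trans_hom, Iso.symm_hom, Category.assoc, pullbackRightPullbackFstIso_inv_fst_assoc,
      pullback.congrHom_hom, pullback.lift_fst_assoc, Category.comp_id, IsPullback.isoPullback_hom_fst_assoc]
    rfl
  · rintro z ⟨w, hw⟩
    obtain ⟨v, -, hv⟩ := Scheme.Pullback.exists_preimage_pullback w z hw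
    obtain ⟨Q, hQ⟩ := e.hom.homeomorph.surjective v
    exact ⟨Q, by rw [Scheme.Hom.comp_apply, show e.hom.base Q = v from hQ]; exact hv⟩

/-- The local ring at a point of the base change is a localization of `K ⊗ O_x`. -/
theorem exists_point_over (K : Type u) [CommRing K] [Algebra k K] (x' : ↥(pullback (X ↘ Spec (CommRingCat.of k)) (Spec.map (CommRingCat.ofHom (algebraMap k K)))))
    (hx' : ((pullback.fst (X ↘ Spec (CommRingCat.of k)) (Spec.map (CommRingCat.ofHom (algebraMap k K))))).base x' = x) :
    ∃ Q : PrimeSpectrum (K ⊗[k] X.presheaf.stalk x),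
      Q.asIdeal.comap (Algebra.TensorProduct.includeRight :
          X.presheaf.stalk x →ₐ[k] K ⊗[k] X.presheaf.stalk x).toRingHom =
        IsLocalRing.maximalIdeal (X.presheaf.stalk x) ∧
      Nonempty (Localization.AtPrime Q.asIdeal ≃+* (pullback (X ↘ Spec (CommRingCat.of k)) (Spec.map (CommRingCat.ofHom (algebraMap k K)))).presheaf.stalk x') := by
  obtain ⟨σ, hσ, hσ1, hσr⟩ := exists_stalk_chart k X x K
  obtain ⟨Q, rfl⟩ := hσr (show x' ∈ _ from ⟨IsLocalRing.closedPoint _, by rw [Scheme.fromSpecStalk_closedPoint, hx']⟩)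
  haveI := hσ Q
  refine ⟨Q, ?_, ⟨(Spec.stalkIso (CommRingCat.of (K ⊗[k] X.presheaf.stalk x)) Q).commRingCatIsoToRingEquiv.symm.trans
    (asIso (σ.stalkMap Q)).commRingCatIsoToRingEquiv.symm⟩⟩
  rw [← Scheme.Hom.comp_apply, hσ1, Scheme.Hom.comp_apply] at hx'
  exact congrArg PrimeSpectrum.asIdeal
    ((X.fromSpecStalk x).isEmbedding.injective (hx'.trans Scheme.fromSpecStalk_closedPoint.symm))

/-- Each prime of `K ⊗ O_x` above the closed point gives a point of the base change above `x`. -/
theorem exists_point_of_prime (K : Type u) [Field K] [Algebra k K] (Q : PrimeSpectrum (K ⊗[k] X.presheaf.stalk x))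
    (hQ : Q.asIdeal.comap (Algebra.TensorProduct.includeRight :
          X.presheaf.stalk x →ₐ[k] K ⊗[k] X.presheaf.stalk x).toRingHom =
        IsLocalRing.maximalIdeal (X.presheaf.stalk x)) :
    ∃ x' : ↥(Curv2.bc k X K), (Curv2.bcFst k X K).base x' = x ∧
      Nonempty (Localization.AtPrime Q.asIdeal ≃+* (Curv2.bc k X K).presheaf.stalk x') := by
  obtain ⟨σ, hσ, hσ1, -⟩ := exists_stalk_chart k X x K
  haveI := hσ Q
  refine ⟨σ.base Q, ?_, ⟨(Spec.stalkIso (CommRingCat.of (K ⊗[k] X.presheaf.stalk x)) Q).commRingCatIsoToRingEquiv.symm.trans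
    (asIso (σ.stalkMap Q)).commRingCatIsoToRingEquiv.symm⟩⟩
  rw [← Scheme.Hom.comp_apply, hσ1, Scheme.Hom.comp_apply]
  exact (congrArg (X.fromSpecStalk x).base (PrimeSpectrum.ext hQ)).trans Scheme.fromSpecStalk_closedPoint

/-- For an algebraic extension all maximal ideals lie above the closed point. -/
theorem comap_eq_of_isMaximal {O : Type u} [CommRing O] [IsLocalRing O] [Algebra k O] (K : Type u) [Field K]
    [Algebra k K] [Algebra.IsIntegral k K] (M : Ideal (K ⊗[k] O)) [M.IsMaximal] :
    M.comap (Algebra.TensorProduct.includeRight : O →ₐ[k] K ⊗[k] O).toRingHom = IsLocalRing.maximalIdeal O := by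
  have hint : (Algebra.TensorProduct.includeRight : O →ₐ[k] K ⊗[k] O).toRingHom.IsIntegral := by
    have hcomp : (Algebra.TensorProduct.includeRight : O →ₐ[k] K ⊗[k] O).toRingHom =
        (Algebra.TensorProduct.comm k O K).toRingEquiv.toRingHom.comp (algebraMap O (O ⊗[k] K)) :=
      RingHom.ext fun o => by simp
    rw [hcomp]
    exact RingHom.IsIntegral.trans _ _
      (algebraMap_isIntegral_iff.mpr (inferInstance : Algebra.IsIntegral O (O ⊗[k] K)))
      (RingHom.isIntegral_of_surjective _ (Algebra.TensorProduct.comm k O K).surjective)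
  letI := (Algebra.TensorProduct.includeRight : O →ₐ[k] K ⊗[k] O).toRingHom.toAlgebra
  haveI : Algebra.IsIntegral O (K ⊗[k] O) := ⟨hint⟩
  exact IsLocalRing.eq_maximalIdeal (Ideal.isMaximal_comap_of_isIntegral_of_isMaximal M)

/-- Normality can be tested at the maximal ideals. -/
theorem normalRing_of_maximal {A : Type u} [CommRing A]
    (h : ∀ (M : Ideal A) [M.IsMaximal],
      IsDomain (Localization.AtPrime M) ∧ IsIntegrallyClosed (Localization.AtPrime M)) :
    EGA4.IsNormalRing A := by
  intro P _
  obtain ⟨M, hM, hPM⟩ := Ideal.exists_le_maximal P (Ideal.IsPrime.ne_top ‹_›)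
  haveI := hM
  haveI := (h M).1
  haveI := (h M).2
  have hdisj : Disjoint (M.primeCompl : Set A) (P : Set A) :=
    Set.disjoint_left.mpr fun a ha haP => ha (hPM haP)
  let q := P.map (algebraMap A (Localization.AtPrime M))
  haveI : q.IsPrime := IsLocalization.isPrime_of_isPrime_disjoint M.primeCompl _ P ‹_› hdisj
  have hq : q.comap (algebraMap A (Localization.AtPrime M)) = P :=
    IsLocalization.under_map_of_isPrime_disjoint M.primeCompl _ ‹_› hdisj
  haveI := IsLocalization.isLocalization_isLocalization_atPrime_isLocalization M.primeCompl (Localization.AtPrime q) q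
  have transp : ∀ (I I' : Ideal A) [I.IsPrime] [I'.IsPrime], I = I' →
      IsDomain (Localization.AtPrime I) ∧ IsIntegrallyClosed (Localization.AtPrime I) →
      IsDomain (Localization.AtPrime I') ∧ IsIntegrallyClosed (Localization.AtPrime I') := by
    intro I I' _ _ h; subst h; exact id
  exact transp _ _ hq (Groth.L07.GeomRk.normal_congr (IsLocalization.algEquiv
        (q.comap (algebraMap A (Localization.AtPrime M))).primeCompl (Localization.AtPrime q)
        (Localization.AtPrime (q.comap (algebraMap A (Localization.AtPrime M))))).toRingEquiv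
      (Groth.L06.NormalTensor.normalRing_of_domain q))

set_option maxHeartbeats 800000 in
/-- The local ring of the base change at a point, with its map from the local ring below. -/
theorem exists_point_compat (K : Type u) [CommRing K] [Algebra k K]
    (x' : ↥(pullback (X ↘ Spec (CommRingCat.of k)) (Spec.map (CommRingCat.ofHom (algebraMap k K))))) :
    let pr := pullback.fst (X ↘ Spec (CommRingCat.of k)) (Spec.map (CommRingCat.ofHom (algebraMap k K)))
    ∃ (Q : PrimeSpectrum (K ⊗[k] X.presheaf.stalk (pr.base x')))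
      (e : (pullback (X ↘ Spec (CommRingCat.of k)) (Spec.map (CommRingCat.ofHom (algebraMap k K)))).presheaf.stalk x' ≃+*
        Localization.AtPrime Q.asIdeal),
      Q.asIdeal.comap (Algebra.TensorProduct.includeRight :
          X.presheaf.stalk (pr.base x') →ₐ[k] K ⊗[k] X.presheaf.stalk (pr.base x')).toRingHom =
        IsLocalRing.maximalIdeal (X.presheaf.stalk (pr.base x')) ∧
      ∀ o, e ((pr.stalkMap x').hom o) = algebraMap _ (Localization.AtPrime Q.asIdeal)
        ((Algebra.TensorProduct.includeRight :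
          X.presheaf.stalk (pr.base x') →ₐ[k] K ⊗[k] X.presheaf.stalk (pr.base x')) o) := by
  intro pr
  obtain ⟨σ, hσ, hσ1, hσr⟩ := exists_stalk_chart k X (pr.base x') K
  obtain ⟨Q, hQ⟩ := hσr (show x' ∈ _ from ⟨IsLocalRing.closedPoint _, by rw [Scheme.fromSpecStalk_closedPoint]⟩)
  haveI := hσ Q
  let P := pullback (X ↘ Spec (CommRingCat.of k)) (Spec.map (CommRingCat.ofHom (algebraMap k K)))
  let e₁ := P.presheaf.stalkCongr (.of_eq hQ.symm) ≪≫ asIso (σ.stalkMap Q) ≪≫
    Spec.stalkIso (CommRingCat.of (K ⊗[k] X.presheaf.stalk (pr.base x'))) Q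
  refine ⟨Q, e₁.commRingCatIsoToRingEquiv, ?_, ?_⟩
  · have h1 : (Spec.map (CommRingCat.ofHom (Algebra.TensorProduct.includeRight :
        X.presheaf.stalk (pr.base x') →ₐ[k] K ⊗[k] X.presheaf.stalk (pr.base x')).toRingHom) ≫
          X.fromSpecStalk _) Q = pr.base x' := by
      rw [← hσ1, Scheme.Hom.comp_apply, hQ]
    rw [Scheme.Hom.comp_apply] at h1
    exact congrArg PrimeSpectrum.asIdeal
      ((X.fromSpecStalk _).isEmbedding.injective (h1.trans Scheme.fromSpecStalk_closedPoint.symm))
  · have h2 : pr.stalkMap x' ≫ e₁.hom =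
        CommRingCat.ofHom (Algebra.TensorProduct.includeRight :
          X.presheaf.stalk (pr.base x') →ₐ[k] K ⊗[k] X.presheaf.stalk (pr.base x')).toRingHom ≫
          CommRingCat.ofHom (algebraMap _ (Localization.AtPrime Q.asIdeal)) := by
      dsimp only [e₁, Iso.trans_hom, asIso_hom]
      rw [← Category.assoc, ← Category.assoc, ← Iso.eq_comp_inv, Category.assoc, Category.assoc]
      refine Eq.trans ?_ (congrArg (CommRingCat.ofHom (Algebra.TensorProduct.includeRight :
          X.presheaf.stalk (pr.base x') →ₐ[k] K ⊗[k] X.presheaf.stalk (pr.base x')).toRingHom ≫ ·)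
        (Spec.algebraMap_stalkIso_inv (R := CommRingCat.of (K ⊗[k] X.presheaf.stalk (pr.base x'))) Q)).symm
      apply Spec.map_injective
      rw [← cancel_mono (X.fromSpecStalk (pr.base x'))]
      simp only [TopCat.Presheaf.stalkCongr_hom, Spec.map_comp, Category.assoc,
        Scheme.SpecMap_stalkMap_fromSpecStalk]
      have h0 : σ.base Q ⤳ x' := (Inseparable.of_eq hQ).specializes
      have hs : Spec.map (P.presheaf.stalkSpecializes h0) ≫ P.fromSpecStalk x' = P.fromSpecStalk (σ.base Q) :=
        Scheme.SpecMap_stalkSpecializes_fromSpecStalk h0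
      have hL : Spec.map (σ.stalkMap Q) ≫ Spec.map (P.presheaf.stalkSpecializes h0) ≫ P.fromSpecStalk x' ≫ pr =
          (Spec (CommRingCat.of (K ⊗[k] X.presheaf.stalk (pr.base x')))).fromSpecStalk Q ≫ σ ≫ pr := by
        rw [reassoc_of% hs, Scheme.SpecMap_stalkMap_fromSpecStalk_assoc]
      refine hL.trans ?_
      rw [Spec.fromSpecStalk_eq, Spec.map_comp, Category.assoc, ← hσ1]
    intro o
    exact congrArg (fun φ => (CommRingCat.Hom.hom φ) o) h2

end Groth.L07.FieldStalk
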