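import Groth.Agent.L07.ChevalleyOpen
import Mathlib.FieldTheory.IsAlgClosed.AlgebraicClosure
import Mathlib.RingTheory.Jacobson.Ring
import Mathlib.RingTheory.Polynomial.UniqueFactorization
import Groth.Agent.L07.Chevalley

/-!
Primes giving quasi-sections through a point closed in its fibre.
-/

universe u

open scoped TensorProduct
open TopologicalSpace

namespace Groth.L07.QuasiSection

open Groth.L07.Chevalley

set_option maxSynthPendingDepth 3
set_option linter.style.haveILetI false
set_option backward.isDefEq.respectTransparency.types false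
set_option backward.isDefEq.respectTransparency false

/-- A homomorphism to an algebraically closed field extends along an integral extension. -/
theorem exists_hom_of_integral {A C Ω : Type u} [CommRing A] [CommRing C] [Field Ω] [IsAlgClosed Ω]
    [Algebra A C] [Algebra.IsIntegral A C] (ρ : A →+* Ω) (P : Ideal C) [P.IsPrime]
    (hP : P.comap (algebraMap A C) = RingHom.ker ρ) :
    ∃ ρ' : C →+* Ω, ρ'.comp (algebraMap A C) = ρ ∧ RingHom.ker ρ' = P := by
  let k := RingHom.ker ρ
  haveI : k.IsPrime := RingHom.ker_isPrime ρ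
  letI : Algebra (A ⧸ k) (C ⧸ P) := Ideal.Quotient.algebraQuotientOfLEComap hP.ge
  haveI : IsScalarTower A (A ⧸ k) (C ⧸ P) := IsScalarTower.of_algebraMap_eq fun a => rfl
  haveI : Algebra.IsIntegral (A ⧸ k) (C ⧸ P) := Algebra.IsIntegral.tower_top A
  haveI : FaithfulSMul (A ⧸ k) (C ⧸ P) := (faithfulSMul_iff_algebraMap_injective _ _).mpr
    (Ideal.quotientMap_injective' (f := algebraMap A C) (H := hP.ge) hP.le)
  letI : Algebra (A ⧸ k) Ω := (RingHom.kerLift ρ).toAlgebra
  haveI : FaithfulSMul (A ⧸ k) Ω := (faithfulSMul_iff_algebraMap_injective _ _).mpr (RingHom.kerLift_injective ρ)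
  let l : (C ⧸ P) →ₐ[A ⧸ k] Ω := IsAlgClosed.lift
  refine ⟨l.toRingHom.comp (Ideal.Quotient.mk P), RingHom.ext fun a => l.commutes (Ideal.Quotient.mk k a), ?_⟩
  have hl : RingHom.ker l.toRingHom = ⊥ := by
    refine Ideal.eq_bot_of_comap_eq_bot (R := A ⧸ k) ?_
    rw [eq_bot_iff]
    intro a ha
    exact (injective_iff_map_eq_zero _).mp (RingHom.kerLift_injective ρ) a
      ((l.commutes a).symm.trans ha)
  rw [← RingHom.comap_ker, hl, ← RingHom.ker_eq_comap_bot, Ideal.mk_ker]

/-- Lifting along an integral extension by a normal domain dominating the image of a prime below. -/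
theorem exists_normal_lift {A T S : Type u} [CommRing A] [CommRing T] [IsDomain T] [IsIntegrallyClosed T]
    [CommRing S] [Algebra A T] [Algebra.IsIntegral A T] [Algebra A S] [Algebra.FiniteType A S]
    [Algebra.QuasiFinite A S] (q P0 : Ideal S) [q.IsPrime] [P0.IsPrime] (hle : P0 ≤ q)
    (hker : RingHom.ker (algebraMap A T) = P0.comap (algebraMap A S)) :
    ∃ p' : Ideal T, p'.IsPrime ∧ p'.comap (algebraMap A T) = q.comap (algebraMap A S) ∧
      ∀ t' : Ideal T, t'.IsPrime → t' ≤ p' →
        ∃ w : Ideal S, w.IsPrime ∧ w ≤ q ∧ P0 ≤ w ∧ w.comap (algebraMap A S) = t'.comap (algebraMap A T) := by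
  let Ω := AlgebraicClosure P0.ResidueField
  let ρ0 : S →+* Ω := (algebraMap P0.ResidueField Ω).comp (algebraMap S P0.ResidueField)
  have hρ0 : RingHom.ker ρ0 = P0 := by
    rw [RingHom.ker_comp_of_injective _ (RingHom.injective _), Ideal.ker_algebraMap_residueField]
  obtain ⟨ρT, hρT, hρTker⟩ := exists_hom_of_integral (C := T) (ρ0.comp (algebraMap A S)) ⊥ (by
    rw [← RingHom.comap_ker, hρ0, ← RingHom.ker_eq_comap_bot, hker])
  letI : Algebra A Ω := (ρ0.comp (algebraMap A S)).toAlgebra
  let Ψ : T ⊗[A] S →ₐ[A] Ω := Algebra.TensorProduct.lift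
    ⟨ρT, fun r => congrArg (fun h : A →+* Ω => h r) hρT⟩ ⟨ρ0, fun r => rfl⟩ fun _ _ => Commute.all _ _
  let P' : Ideal (T ⊗[A] S) := RingHom.ker Ψ.toRingHom
  haveI : P'.IsPrime := RingHom.ker_isPrime _
  let S'' := (T ⊗[A] S) ⧸ P'
  haveI : IsDomain S'' := Ideal.Quotient.isDomain P'
  have hinj : Function.Injective (algebraMap T S'') := by
    rw [injective_iff_map_eq_zero]
    intro t ht
    rw [IsScalarTower.algebraMap_apply T (T ⊗[A] S) S'', Ideal.Quotient.algebraMap_eq,
      Ideal.Quotient.eq_zero_iff_mem] at ht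
    have ht' : Ψ (t ⊗ₜ[A] (1 : S)) = 0 := ht
    rw [Algebra.TensorProduct.lift_tmul, map_one, mul_one] at ht'
    rw [← Ideal.mem_bot, ← hρTker]
    exact ht'
  haveI : Algebra.FiniteType T S'' :=
    Algebra.FiniteType.of_surjective (Ideal.Quotient.mkₐ T P') Ideal.Quotient.mk_surjective
  haveI : Algebra.QuasiFinite T S'' :=
    Algebra.QuasiFinite.of_surjective_algHom (Ideal.Quotient.mkₐ T P') Ideal.Quotient.mk_surjective
  let ι : S →+* S'' := (Ideal.Quotient.mk P').comp Algebra.TensorProduct.includeRight.toRingHom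
  have hι : ι.IsIntegral := by
    refine RingHom.IsIntegral.trans _ _ ?_ (RingHom.isIntegral_of_surjective _ Ideal.Quotient.mk_surjective)
    have h1 : (algebraMap S (S ⊗[A] T)).IsIntegral := fun z => Algebra.IsIntegral.isIntegral z
    have h2 := RingHom.IsIntegral.trans _ _ h1
      (RingHom.isIntegral_of_surjective (Algebra.TensorProduct.comm A S T).toRingHom
        (Algebra.TensorProduct.comm A S T).surjective)
    convert h2 using 1
    exact RingHom.ext fun s => rfl
  have hιker : RingHom.ker ι = P0 := by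
    ext s
    rw [RingHom.mem_ker, RingHom.comp_apply, Ideal.Quotient.eq_zero_iff_mem]
    show Ψ ((1 : T) ⊗ₜ[A] s) = 0 ↔ s ∈ P0
    rw [Algebra.TensorProduct.lift_tmul, map_one, one_mul]
    exact RingHom.mem_ker.symm.trans (SetLike.ext_iff.mp hρ0 s)
  letI : Algebra S S'' := ι.toAlgebra
  haveI : Algebra.IsIntegral S S'' := ⟨hι⟩
  obtain ⟨q', -, hq'p, hq'⟩ := Ideal.exists_ideal_over_prime_of_isIntegral (R := S) (S := S'') q ⊥
    (by rw [← RingHom.ker_eq_comap_bot]; exact hιker.le.trans hle)
  haveI := hq'p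
  have hcomm : ∀ r : A, algebraMap T S'' (algebraMap A T r) = ι (algebraMap A S r) := fun r => by
    show Ideal.Quotient.mk P' (algebraMap A T r ⊗ₜ[A] (1 : S)) = Ideal.Quotient.mk P' ((1 : T) ⊗ₜ[A] algebraMap A S r)
    rw [Algebra.algebraMap_eq_smul_one, Algebra.algebraMap_eq_smul_one, TensorProduct.smul_tmul]
  refine ⟨q'.comap (algebraMap T S''), Ideal.IsPrime.comap _, ?_, fun t' ht' ht'le => ?_⟩
  · ext r
    rw [Ideal.mem_comap, Ideal.mem_comap, hcomm, ← hq']
    rfl
  · obtain ⟨Q, hQ, hQle, hQo⟩ := exists_prime_le hinj q' t' ht'le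
    refine ⟨Q.comap (algebraMap S S''), Ideal.IsPrime.comap _, fun s hs => ?_,
      fun s hs => by rw [← hιker, RingHom.mem_ker] at hs; show ι s ∈ Q; rw [hs]; exact Q.zero_mem, ?_⟩
    · rw [← hq']; exact hQle hs
    · ext r
      rw [Ideal.mem_comap, Ideal.mem_comap, Ideal.mem_comap, ← hQo, Ideal.mem_comap, hcomm]
      rfl

variable {E : Type u}

/-- Below a prime containing monic polynomials in each variable there is one over zero containing them. -/
theorem exists_prime_of_roots {R C : Type u} [CommRing R] [CommRing C] [IsDomain C] (ψ : R →+* C)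
    (M : E → Polynomial R) (hM : ∀ i, (M i).Monic) (p' : Ideal (MvPolynomial E C)) [p'.IsPrime]
    (hp' : ∀ i, MvPolynomial.map ψ (Polynomial.aeval (MvPolynomial.X i) (M i)) ∈ p') :
    ∃ t' : Ideal (MvPolynomial E C), t'.IsPrime ∧ t' ≤ p' ∧ t'.comap MvPolynomial.C = ⊥ ∧
      ∀ i, MvPolynomial.map ψ (Polynomial.aeval (MvPolynomial.X i) (M i)) ∈ t' := by
  classical
  let Kb := AlgebraicClosure (FractionRing C)
  let Cb := integralClosure C Kb
  let Ω2 := AlgebraicClosure p'.ResidueField
  let χ : MvPolynomial E C →+* Ω2 :=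
    (algebraMap p'.ResidueField Ω2).comp (algebraMap (MvPolynomial E C) p'.ResidueField)
  have hχ : RingHom.ker χ = p' := by
    rw [RingHom.ker_comp_of_injective _ (RingHom.injective _), Ideal.ker_algebraMap_residueField]
  have hCinj : Function.Injective (algebraMap C Cb) := fun a b h => by
    have h' : algebraMap C Kb a = algebraMap C Kb b := congrArg Subtype.val h
    rw [IsScalarTower.algebraMap_apply C (FractionRing C) Kb, IsScalarTower.algebraMap_apply C (FractionRing C) Kb b] at h'
    exact IsFractionRing.injective C (FractionRing C) ((algebraMap (FractionRing C) Kb).injective h')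
  haveI : FaithfulSMul C Cb := (faithfulSMul_iff_algebraMap_injective _ _).mpr hCinj
  haveI : (RingHom.ker (χ.comp MvPolynomial.C)).IsPrime := RingHom.ker_isPrime _
  obtain ⟨Pb, -, hPbp, hPb⟩ := Ideal.exists_ideal_over_prime_of_isIntegral (R := C) (S := Cb)
    (RingHom.ker (χ.comp MvPolynomial.C)) ⊥
    (by rw [← RingHom.ker_eq_comap_bot, (RingHom.injective_iff_ker_eq_bot _).mp hCinj]; exact bot_le)
  haveI := hPbp
  obtain ⟨ρ, hρ, -⟩ := exists_hom_of_integral (χ.comp MvPolynomial.C) Pb hPb
  have hev : ∀ {Z : Type u} [CommRing Z] (h : MvPolynomial E C →+* Z) (i : E),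
      h (MvPolynomial.map ψ (Polynomial.aeval (MvPolynomial.X i) (M i))) =
        Polynomial.eval₂ ((h.comp MvPolynomial.C).comp ψ) (h (MvPolynomial.X i)) (M i) := fun h i => by
    rw [← RingHom.comp_apply, Polynomial.aeval_def, Polynomial.hom_eval₂, RingHom.comp_apply, MvPolynomial.map_X]
    refine congrArg (fun g => Polynomial.eval₂ g (h (MvPolynomial.X i)) (M i)) (RingHom.ext fun r => ?_)
    show h (MvPolynomial.map ψ (MvPolynomial.C r)) = h (MvPolynomial.C (ψ r))
    rw [MvPolynomial.map_C]
  have hroot : ∀ i, ∃ r : Cb, Polynomial.eval₂ ((algebraMap C Cb).comp ψ) r (M i) = 0 ∧ ρ r = χ (MvPolynomial.X i) := by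
    intro i
    let N : Polynomial Kb := (M i).map ((algebraMap C Kb).comp ψ)
    have hN : N.Monic := (hM i).map _
    have hroots : ∀ r ∈ N.roots, r ∈ Cb := fun r hr => by
      have h0 := (Polynomial.mem_roots hN.ne_zero).mp hr
      refine ⟨(M i).map ψ, (hM i).map _, ?_⟩
      rw [Polynomial.eval₂_map]
      rw [Polynomial.IsRoot.def, Polynomial.eval_map] at h0
      exact h0
    let rs : Multiset Cb := N.roots.attach.map fun r => ⟨r.1, hroots r.1 r.2⟩
    have heq : (M i).map ((algebraMap C Cb).comp ψ) = (rs.map fun r => Polynomial.X - Polynomial.C r).prod := by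
      refine Polynomial.map_injective (Cb.val.toRingHom) Subtype.val_injective ?_
      rw [Polynomial.map_map, Polynomial.map_multiset_prod, Multiset.map_map]
      refine Eq.trans ?_ ((IsAlgClosed.splits N).eq_prod_roots_of_monic hN |>.trans ?_)
      · rfl
      · rw [show rs = N.roots.attach.map fun r => (⟨r.1, hroots r.1 r.2⟩ : Cb) from rfl, Multiset.map_map]
        conv_lhs => rw [← Multiset.attach_map_val N.roots, Multiset.map_map]
        refine congrArg Multiset.prod (Multiset.map_congr rfl fun r _ => ?_)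
        simp
    have h0 : Polynomial.eval₂ ρ (χ (MvPolynomial.X i)) ((M i).map ((algebraMap C Cb).comp ψ)) = 0 := by
      rw [Polynomial.eval₂_map, ← RingHom.comp_assoc, hρ, ← hev χ i, ← RingHom.mem_ker, hχ]
      exact hp' i
    rw [heq, ← Polynomial.coe_eval₂RingHom, map_multiset_prod, Multiset.map_map] at h0
    obtain ⟨r, hr, hr0⟩ := Multiset.mem_map.mp (Multiset.prod_eq_zero_iff.mp h0)
    refine ⟨r, ?_, ?_⟩
    · rw [← Polynomial.eval_map, heq, Polynomial.eval_multiset_prod, Multiset.map_map]
      exact Multiset.prod_eq_zero_iff.mpr (Multiset.mem_map.mpr ⟨r, hr, by simp⟩)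
    · simp only [Function.comp_apply, Polynomial.coe_eval₂RingHom, Polynomial.eval₂_sub, Polynomial.eval₂_X,
        Polynomial.eval₂_C] at hr0
      exact (sub_eq_zero.mp hr0).symm
  choose r hr0 hrχ using hroot
  let ev : MvPolynomial E C →+* Cb := MvPolynomial.eval₂Hom (algebraMap C Cb) r
  have hevC : ev.comp MvPolynomial.C = algebraMap C Cb := RingHom.ext fun c => MvPolynomial.eval₂Hom_C _ _ _
  refine ⟨RingHom.ker ev, RingHom.ker_isPrime ev, fun a ha => ?_, ?_, fun i => ?_⟩
  · have hc : ρ.comp ev = χ := MvPolynomial.ringHom_ext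
      (fun c => by rw [RingHom.comp_apply, MvPolynomial.eval₂Hom_C, ← RingHom.comp_apply, hρ]; rfl)
      fun i => by rw [RingHom.comp_apply, MvPolynomial.eval₂Hom_X']; exact hrχ i
    rw [← hχ, RingHom.mem_ker, ← hc, RingHom.comp_apply, RingHom.mem_ker.mp ha, map_zero]
  · rw [RingHom.comap_ker, hevC]
    exact (RingHom.injective_iff_ker_eq_bot _).mp hCinj
  · rw [RingHom.mem_ker, hev, hevC, show ev (MvPolynomial.X i) = r i from MvPolynomial.eval₂Hom_X' _ _ _]
    exact hr0 i

variable [Fintype E]

/-- A prime below `q` over the image of `P0` containing the given monic polynomials in the coordinates. -/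
theorem exists_prime_monic {R S : Type u} [CommRing R] [CommRing S] [Algebra R S]
    [Algebra (MvPolynomial E R) S] [IsScalarTower R (MvPolynomial E R) S]
    [Algebra.FiniteType (MvPolynomial E R) S] [Algebra.QuasiFinite (MvPolynomial E R) S]
    (M : E → Polynomial R) (hM : ∀ i, (M i).Monic) (q P0 : Ideal S) [q.IsPrime] [P0.IsPrime] (hle : P0 ≤ q)
    (hgen : P0.comap (algebraMap (MvPolynomial E R) S) ≤ (P0.comap (algebraMap R S)).map MvPolynomial.C)
    (hq : ∀ i, Polynomial.aeval (algebraMap (MvPolynomial E R) S (MvPolynomial.X i)) (M i) ∈ q) :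
    ∃ w : Ideal S, w.IsPrime ∧ w ≤ q ∧ P0 ≤ w ∧ w.comap (algebraMap R S) = P0.comap (algebraMap R S) ∧
      ∀ i, Polynomial.aeval (algebraMap (MvPolynomial E R) S (MvPolynomial.X i)) (M i) ∈ w := by
  classical
  let q0 := P0.comap (algebraMap R S)
  let B0 := R ⧸ q0
  let K := FractionRing B0
  let C := integralClosure B0 K
  haveI : IsIntegrallyClosed C := integralClosure.isIntegrallyClosedOfFiniteExtension K
  have hBC : Function.Injective (algebraMap B0 C) := fun a b h =>
    IsFractionRing.injective B0 K (congrArg Subtype.val h)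
  let ψ : R →+* C := (algebraMap B0 C).comp (Ideal.Quotient.mk q0)
  have hψker : RingHom.ker ψ = q0 := by
    rw [show ψ = (algebraMap B0 C).comp (Ideal.Quotient.mk q0) from rfl, RingHom.ker_comp_of_injective _ hBC,
      Ideal.mk_ker]
  letI : Algebra R C := ψ.toAlgebra
  haveI : IsScalarTower R B0 C := IsScalarTower.of_algebraMap_eq fun r => rfl
  haveI : Algebra.IsIntegral R B0 :=
    Algebra.IsIntegral.of_surjective (Ideal.Quotient.mkₐ R q0) Ideal.Quotient.mk_surjective
  haveI : Algebra.IsIntegral R C := Algebra.IsIntegral.trans B0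
  haveI : IsIntegrallyClosed (MvPolynomial E C) := by
    haveI := isIntegrallyClosed_mvPolynomial C (Fintype.card E)
    exact IsIntegrallyClosed.of_equiv (MvPolynomial.renameEquiv C (Fintype.equivFin E).symm).toRingEquiv
  letI : Algebra (MvPolynomial E R) (MvPolynomial E C) := (MvPolynomial.map ψ).toAlgebra
  haveI : Algebra.IsIntegral (MvPolynomial E R) (MvPolynomial E C) := ⟨fun p => by
    induction p using MvPolynomial.induction_on with
    | C a =>
      obtain ⟨f, hf, hfe⟩ := Algebra.IsIntegral.isIntegral (R := R) a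
      refine ⟨f.map MvPolynomial.C, hf.map _, ?_⟩
      rw [Polynomial.eval₂_map]
      have hc : (algebraMap (MvPolynomial E R) (MvPolynomial E C)).comp MvPolynomial.C =
          (MvPolynomial.C (σ := E)).comp ψ := RingHom.ext fun r => MvPolynomial.map_C ψ r
      rw [hc, ← Polynomial.hom_eval₂]
      exact (congrArg _ hfe).trans (map_zero _)
    | add p q hp hq => exact hp.add hq
    | mul_X p i hp =>
      refine hp.mul ?_
      rw [show (MvPolynomial.X i : MvPolynomial E C) = algebraMap (MvPolynomial E R) (MvPolynomial E C) (MvPolynomial.X i)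
        from (MvPolynomial.map_X ψ i).symm]
      exact isIntegral_algebraMap⟩
  have hev : ∀ i, algebraMap (MvPolynomial E R) S (Polynomial.aeval (MvPolynomial.X i) (M i)) =
      Polynomial.aeval (algebraMap (MvPolynomial E R) S (MvPolynomial.X i)) (M i) := fun i =>
    (Polynomial.aeval_algebraMap_apply S (MvPolynomial.X i : MvPolynomial E R) (M i)).symm
  obtain ⟨p', hp'p, hp'o, hp'⟩ := exists_normal_lift (A := MvPolynomial E R) (T := MvPolynomial E C) q P0 hle (by
    rw [show RingHom.ker (algebraMap (MvPolynomial E R) (MvPolynomial E C)) = (RingHom.ker ψ).map MvPolynomial.C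
      from MvPolynomial.ker_map ψ, hψker]
    refine le_antisymm (Ideal.map_le_iff_le_comap.mpr fun r hr => ?_) hgen
    show algebraMap (MvPolynomial E R) S (MvPolynomial.C r) ∈ P0
    rw [← MvPolynomial.algebraMap_eq, ← IsScalarTower.algebraMap_apply]
    exact hr)
  obtain ⟨t', ht'p, ht'le, ht'0, ht'M⟩ := exists_prime_of_roots ψ M hM p' fun i => by
    show algebraMap (MvPolynomial E R) (MvPolynomial E C) _ ∈ p'
    rw [← Ideal.mem_comap, hp'o, Ideal.mem_comap, hev]
    exact hq i
  obtain ⟨w, hwp, hwle, hwP, hwo⟩ := hp' t' ht'p ht'le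
  refine ⟨w, hwp, hwle, hwP, ?_, fun i => ?_⟩
  · rw [IsScalarTower.algebraMap_eq R (MvPolynomial E R) S, ← Ideal.comap_comap, hwo, Ideal.comap_comap,
      show (algebraMap (MvPolynomial E R) (MvPolynomial E C)).comp (algebraMap R (MvPolynomial E R)) =
        (MvPolynomial.C (σ := E)).comp ψ from RingHom.ext fun r => MvPolynomial.map_C ψ r,
      ← Ideal.comap_comap, ht'0, ← RingHom.ker_eq_comap_bot, hψker,
      ← IsScalarTower.algebraMap_eq R (MvPolynomial E R) S]
  · rw [← hev, ← Ideal.mem_comap, hwo]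
    exact ht'M i

end Groth.L07.QuasiSection
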