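import Groth.Agent.L07.ChevalleyPoint
import Groth.Agent.L07.OpenEquiv
import Groth.Agent.L07.UnivOpenPointwise
import Groth.Agent.L07.QuasiSectionPrime

/-!
Universal openness at a maximal point of a fibre tested on finite algebras (EGA IV 14.4.8).
-/

universe u

open CategoryTheory CategoryTheory.Limits AlgebraicGeometry TopologicalSpace Topology
open scoped TensorProduct

namespace Groth.L07.FiniteTest

open Groth.L22 Groth.L07.Equidim Groth.L07.EquidimQF

set_option maxSynthPendingDepth 3
set_option linter.style.haveILetI false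
set_option backward.isDefEq.respectTransparency.types false
set_option backward.isDefEq.respectTransparency false

/-- Over a normal domain a quasi-finite algebra is universally open at points with a generization
over the generic point. -/
theorem isUnivOpenAt_normal {B S : Type u} [CommRing B] [IsDomain B] [IsIntegrallyClosed B] [CommRing S]
    [Algebra B S] [Algebra.FinitePresentation B S] [Algebra.QuasiFinite B S] (P q : PrimeSpectrum S) (hle : P ≤ q)
    (hP : P.asIdeal.comap (algebraMap B S) = ⊥) :
    EGA43.IsUnivOpenAt (Spec.map (CommRingCat.ofHom (algebraMap B S))) q := by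
  let g := Spec.map (CommRingCat.ofHom (algebraMap B S))
  haveI : LocallyOfFinitePresentation g :=
    (HasRingHomProperty.Spec_iff (P := @LocallyOfFinitePresentation)).mpr
      (RingHom.finitePresentation_algebraMap.mpr inferInstance)
  haveI : LocallyQuasiFinite g :=
    (HasRingHomProperty.Spec_iff (P := @LocallyQuasiFinite)).mpr (RingHom.quasiFinite_algebraMap.mpr inferInstance)
  refine Groth.L07.UnivOpenPointwise.of_affineSpace g q fun m p hp => ?_
  let N := ULift.{u} (Fin m)
  haveI := Groth.L07.Chevalley.isIntegrallyClosed_mvPolynomial B m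
  haveI : IsIntegrallyClosed (MvPolynomial N B) :=
    IsIntegrallyClosed.of_equiv (MvPolynomial.renameEquiv B Equiv.ulift.symm).toRingEquiv
  let μ := MvPolynomial.map (σ := N) (algebraMap B S)
  let gN := Spec.map (CommRingCat.ofHom μ)
  let eS := AffineSpace.SpecIso N (CommRingCat.of S)
  let eB := AffineSpace.SpecIso N (CommRingCat.of B)
  have hfac : AffineSpace.map N g = eS.hom ≫ gN ≫ eB.inv := AffineSpace.map_SpecMap _
  haveI : LocallyOfFinitePresentation (AffineSpace.map N g) :=
    MorphismProperty.of_isPullback (P := @LocallyOfFinitePresentation) (AffineSpace.isPullback_map (n := N) g).flip inferInstance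
  haveI : LocallyQuasiFinite (AffineSpace.map N g) :=
    MorphismProperty.of_isPullback (P := @LocallyQuasiFinite) (AffineSpace.isPullback_map (n := N) g).flip inferInstance
  have hgN : gN = eS.inv ≫ AffineSpace.map N g ≫ eB.hom := by
    rw [hfac]; simp
  haveI : LocallyOfFinitePresentation gN := hgN ▸ inferInstance
  haveI : LocallyQuasiFinite gN := hgN ▸ inferInstance
  haveI := P.2
  haveI : (P.asIdeal.map (MvPolynomial.C (σ := N))).IsPrime := by
    have e1 : P.asIdeal.map (MvPolynomial.C (σ := N)) = RingHom.ker (MvPolynomial.map (σ := N) (Ideal.Quotient.mk P.asIdeal)) := by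
      rw [MvPolynomial.ker_map, Ideal.mk_ker]
    rw [e1]; exact RingHom.ker_isPrime _
  let ζ : Spec (CommRingCat.of (MvPolynomial N S)) := (⟨P.asIdeal.map MvPolynomial.C, inferInstance⟩ : PrimeSpectrum _)
  let p₁ := eS.hom p
  have hζp : ζ ⤳ p₁ := by
    refine (PrimeSpectrum.le_iff_specializes (⟨P.asIdeal.map MvPolynomial.C, inferInstance⟩ : PrimeSpectrum _) p₁).mp
      (Ideal.map_le_iff_le_comap.mpr ?_)
    have h1 : (Spec.map (CommRingCat.ofHom (MvPolynomial.C (σ := N) (R := S)))) p₁ = q := by
      rw [show Spec.map (CommRingCat.ofHom (MvPolynomial.C (σ := N) (R := S))) = eS.inv ≫ (𝔸(N; Spec (CommRingCat.of S)) ↘ _) from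
        (AffineSpace.SpecIso_inv_over (n := N) (CommRingCat.of S)).symm, ← Scheme.Hom.comp_apply]
      exact (congrArg (fun h : 𝔸(N; Spec (CommRingCat.of S)) ⟶ _ => h p) (Iso.hom_inv_id_assoc _ _)).trans hp
    have h2 : p₁.asIdeal.comap MvPolynomial.C = q.asIdeal := congrArg PrimeSpectrum.asIdeal h1
    exact le_trans (show P.asIdeal ≤ q.asIdeal from hle) h2.ge
  have hζ0 : (gN ζ).asIdeal = ⊥ := by
    refine le_bot_iff.mp fun b hb => ?_
    refine MvPolynomial.ext _ _ fun d => ?_
    have h1 : μ b ∈ P.asIdeal.map MvPolynomial.C := hb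
    have h2 := MvPolynomial.mem_map_C_iff.mp h1 d
    rw [MvPolynomial.coeff_map, ← Ideal.mem_comap, hP, Ideal.mem_bot] at h2
    rw [h2, MvPolynomial.coeff_zero]
  have hopen : EGA43.IsOpenAt gN.base p₁ := Groth.L07.UnivOpenAt.isOpenAt_of_lfp gN p₁ fun U hU t ht => by
    obtain ⟨w, hw, hwt⟩ := Groth.L07.Chevalley.exists_lift_normal gN hζp hζ0 ht
    obtain ⟨U0, hU0, hU0o, hpU⟩ := mem_nhds_iff.mp hU
    exact ⟨w, hU0 (hw.mem_open hU0o hpU), hwt⟩
  rw [hfac]
  exact Groth.L07.UnivOpenAt.isOpenAt_comp (fun U hU => eS.hom.isOpenEmbedding.isOpenMap.image_mem_nhds hU)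
    (Groth.L07.UnivOpenAt.isOpenAt_comp hopen (fun U hU => eB.inv.isOpenEmbedding.isOpenMap.image_mem_nhds hU))

/-- The generic point of a fibre of affine space has fibre closure of full dimension. -/
theorem fdim_affineSpace_of_generic {n : Type u} [Finite n] {Y : Scheme.{u}} (p : ↥𝔸(n; Y))
    (h : ∀ q, (𝔸(n; Y) ↘ Y) q = (𝔸(n; Y) ↘ Y) p → p ⤳ q) :
    fdim (𝔸(n; Y) ↘ Y) p = (Nat.card n : WithBot ℕ∞) := by
  rw [← dim_fiber_affineSpace n Y ((𝔸(n; Y) ↘ Y) p)]
  refine SchemeDim.topologicalKrullDim_eq_of_isEmbedding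
    (f := (𝔸(n; Y) ↘ Y).fiberι _) (Scheme.Hom.isEmbedding _) ?_
  rw [Scheme.Hom.range_fiberι, eq_comm, Set.inter_eq_right]
  exact fun q hq => specializes_iff_mem_closure.mp (h q hq)

section

variable {R S : Type u} [CommRing R] [IsNoetherianRing R] [CommRing S] [Algebra R S] [Algebra.FiniteType R S]
variable {E : Type u} [Fintype E] (φ : MvPolynomial E R →ₐ[R] S)

/-- The base change of a chart. -/
noncomputable def chart (C : Type u) [CommRing C] [Algebra R C] : MvPolynomial E C →ₐ[C] C ⊗[R] S :=
  MvPolynomial.aeval fun i => (1 : C) ⊗ₜ[R] φ (MvPolynomial.X i)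

omit [IsNoetherianRing R] [Algebra.FiniteType R S] [Fintype E] in
theorem chart_map (C : Type u) [CommRing C] [Algebra R C] (p : MvPolynomial E R) :
    chart φ C (MvPolynomial.map (algebraMap R C) p) = (1 : C) ⊗ₜ[R] φ p := by
  induction p using MvPolynomial.induction_on with
  | C a =>
    rw [MvPolynomial.map_C, chart, MvPolynomial.aeval_C, show φ (MvPolynomial.C a) = algebraMap R S a from φ.commutes a,
      Algebra.algebraMap_eq_smul_one a, Algebra.algebraMap_eq_smul_one a, ← TensorProduct.smul_tmul]
    rfl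
  | add p q hp hq => rw [map_add, map_add, map_add, TensorProduct.tmul_add, hp, hq]
  | mul_X p i hp =>
    rw [map_mul, map_mul, map_mul, hp, MvPolynomial.map_X, chart, MvPolynomial.aeval_X,
      Algebra.TensorProduct.tmul_mul_tmul, one_mul]

theorem chart_quasiFinite (hφ : φ.toRingHom.QuasiFinite) (C : Type u) [CommRing C] [Algebra R C] :
    (chart φ C).toRingHom.QuasiFinite ∧ (chart φ C).toRingHom.FinitePresentation := by
  letI : Algebra (MvPolynomial E R) S := φ.toRingHom.toAlgebra
  haveI : Algebra.QuasiFinite (MvPolynomial E R) S := RingHom.quasiFinite_algebraMap.mp hφ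
  letI : Algebra (MvPolynomial E R) (MvPolynomial E C) := (MvPolynomial.map (algebraMap R C)).toAlgebra
  letI : Algebra (MvPolynomial E C) (C ⊗[R] S) := (chart φ C).toRingHom.toAlgebra
  letI : Algebra (MvPolynomial E R) (C ⊗[R] S) :=
    ((chart φ C).toRingHom.comp (MvPolynomial.map (algebraMap R C))).toAlgebra
  haveI : IsScalarTower (MvPolynomial E R) (MvPolynomial E C) (C ⊗[R] S) :=
    IsScalarTower.of_algebraMap_eq fun p => rfl
  let ι : S →ₐ[MvPolynomial E R] C ⊗[R] S :=
    ⟨(Algebra.TensorProduct.includeRight : S →ₐ[R] C ⊗[R] S).toRingHom, fun p => (chart_map φ C p).symm⟩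
  let Ψ : MvPolynomial E C ⊗[MvPolynomial E R] S →ₐ[MvPolynomial E C] C ⊗[R] S :=
    Algebra.TensorProduct.lift (Algebra.ofId (MvPolynomial E C) (C ⊗[R] S)) ι fun _ _ => Commute.all _ _
  have hΨ : Function.Surjective Ψ := fun z => by
    induction z using TensorProduct.induction_on with
    | zero => exact ⟨0, map_zero _⟩
    | add a b ha hb =>
      obtain ⟨a', rfl⟩ := ha
      obtain ⟨b', rfl⟩ := hb
      exact ⟨a' + b', map_add _ _ _⟩
    | tmul c s =>
      refine ⟨MvPolynomial.C c ⊗ₜ s, ?_⟩
      rw [Algebra.TensorProduct.lift_tmul]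
      show chart φ C (MvPolynomial.C c) * ((1 : C) ⊗ₜ[R] s) = c ⊗ₜ s
      rw [chart, MvPolynomial.aeval_C, Algebra.TensorProduct.algebraMap_apply, Algebra.TensorProduct.tmul_mul_tmul]
      simp
  refine ⟨RingHom.quasiFinite_algebraMap.mpr (Algebra.QuasiFinite.of_surjective_algHom Ψ hΨ), ?_⟩
  haveI : Algebra.FinitePresentation R S := Algebra.FinitePresentation.of_finiteType.mp inferInstance
  haveI : IsScalarTower C (MvPolynomial E C) (C ⊗[R] S) :=
    IsScalarTower.of_algebraMap_eq fun c => ((chart φ C).commutes c).symm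
  exact RingHom.finitePresentation_algebraMap.mpr
    (Algebra.FinitePresentation.of_restrict_scalars_finitePresentation C (MvPolynomial E C) (C ⊗[R] S))

/-- At a finite stage there is a generization over the generic point of affine space. -/
theorem exists_prime_stage (e : ℕ) (hcard : Nat.card E = e) (hφ : φ.toRingHom.QuasiFinite) (q : PrimeSpectrum S)
    (hn : q.asIdeal.comap φ.toRingHom ≤ (q.asIdeal.comap (algebraMap R S)).map MvPolynomial.C)
    (hqmax : ∀ q' : PrimeSpectrum S, q' ≤ q → q'.asIdeal.comap (algebraMap R S) = q.asIdeal.comap (algebraMap R S) → q' = q)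
    (C : Type u) [CommRing C] [IsDomain C] [Algebra R C] [Module.Finite R C]
    (q'' : PrimeSpectrum (C ⊗[R] S)) (hq'' : q''.comap (Algebra.TensorProduct.includeRight (R := R) (A := C)).toRingHom = q)
    (hopen : EGA43.IsOpenAt (Spec.map (CommRingCat.ofHom (algebraMap C (C ⊗[R] S)))).base q'') :
    ∃ P : PrimeSpectrum (C ⊗[R] S), P ≤ q'' ∧ P.asIdeal.comap (chart φ C).toRingHom = ⊥ := by
  classical
  haveI : IsNoetherianRing C := IsNoetherianRing.of_finite R C
  haveI : Algebra.FiniteType C (C ⊗[R] S) := inferInstance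
  let f := Spec.map (CommRingCat.ofHom (algebraMap C (C ⊗[R] S)))
  haveI : IsLocallyNoetherian (Spec (CommRingCat.of C)) := inferInstance
  haveI : LocallyOfFiniteType f :=
    (HasRingHomProperty.Spec_iff (P := @LocallyOfFiniteType)).mpr (RingHom.finiteType_algebraMap.mpr inferInstance)
  let g := Spec.map (CommRingCat.ofHom (chart φ C).toRingHom) ≫ (AffineSpace.SpecIso E (CommRingCat.of C)).inv
  let pr := 𝔸(E; Spec (CommRingCat.of C)) ↘ Spec (CommRingCat.of C)
  have hgpr : g ≫ pr = f := by
    rw [Category.assoc, AffineSpace.SpecIso_inv_over, ← Spec.map_comp]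
    congr 1
    exact CommRingCat.hom_ext (RingHom.ext fun c => (chart φ C).commutes c)
  obtain ⟨hqf, hfp⟩ := chart_quasiFinite φ hφ C
  haveI : LocallyQuasiFinite (Spec.map (CommRingCat.ofHom (chart φ C).toRingHom)) :=
    (HasRingHomProperty.Spec_iff (P := @LocallyQuasiFinite)).mpr hqf
  haveI : LocallyQuasiFinite g := inferInstance
  haveI : LocallyOfFiniteType (g ≫ pr) := hgpr ▸ inferInstance
  haveI : LocallyOfFiniteType g := locallyOfFiniteType_of_comp g pr
  let ι := (Algebra.TensorProduct.includeRight (R := R) (A := C) : S →ₐ[R] C ⊗[R] S).toRingHom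
  letI : Algebra S (C ⊗[R] S) := ι.toAlgebra
  haveI : Algebra.IsIntegral S (C ⊗[R] S) := ⟨fun z => by
    have h1 : (algebraMap S (S ⊗[R] C)).IsIntegral := fun w => Algebra.IsIntegral.isIntegral w
    have h2 := RingHom.IsIntegral.trans _ _ h1
      (RingHom.isIntegral_of_surjective (Algebra.TensorProduct.comm R S C).toRingHom
        (Algebra.TensorProduct.comm R S C).surjective)
    have h3 : ι.IsIntegral := by
      intro z
      rw [show ι = (Algebra.TensorProduct.comm R S C).toRingHom.comp (algebraMap S (S ⊗[R] C)) from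
        RingHom.ext fun s => rfl]
      exact h2 z
    exact h3 z⟩
  -- maximality in the fibre
  have hmax : ∀ z : Spec (CommRingCat.of (C ⊗[R] S)), f z = f q'' → z ⤳ q'' → z = q'' := by
    intro z hz hsp
    let z' : PrimeSpectrum (C ⊗[R] S) := z
    have hle : z' ≤ q'' := (PrimeSpectrum.le_iff_specializes z' q'').mpr hsp
    have h1 : z'.comap ι = q := by
      rw [← hq'']
      have hA : ∀ r, ι (algebraMap R S r) = algebraMap C (C ⊗[R] S) (algebraMap R C r) := fun r => by
        show (1 : C) ⊗ₜ[R] algebraMap R S r = algebraMap R C r ⊗ₜ[R] (1 : S)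
        rw [Algebra.algebraMap_eq_smul_one, Algebra.algebraMap_eq_smul_one, TensorProduct.smul_tmul]
      refine hq''.symm ▸ hqmax (z'.comap ι) (hq'' ▸ Ideal.comap_mono hle) ?_
      have h0 : z'.asIdeal.comap (algebraMap C (C ⊗[R] S)) = q''.asIdeal.comap (algebraMap C (C ⊗[R] S)) :=
        congrArg PrimeSpectrum.asIdeal hz
      rw [← hq'']
      ext r
      show ι (algebraMap R S r) ∈ z'.asIdeal ↔ ι (algebraMap R S r) ∈ q''.asIdeal
      rw [hA, ← Ideal.mem_comap, h0, Ideal.mem_comap]
    haveI := z'.2
    haveI := q''.2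
    refine PrimeSpectrum.ext ?_
    by_contra hne
    have hlt : z'.asIdeal < q''.asIdeal := lt_of_le_of_ne hle hne
    exact (Ideal.IsIntegral.comap_lt_comap (R := S) hlt).ne (congrArg PrimeSpectrum.asIdeal (h1.trans hq''.symm))
  -- the image is generic in its fibre
  have hgq : fdim pr (g q'') = (e : WithBot ℕ∞) := by
    rw [← hcard]
    refine fdim_affineSpace_of_generic _ fun w hw => ?_
    let n'' : PrimeSpectrum (MvPolynomial E C) := q''.comap (chart φ C).toRingHom
    let y'' := q''.asIdeal.comap (algebraMap C (C ⊗[R] S))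
    haveI := q''.2
    let N := y''.map (MvPolynomial.C (σ := E))
    have hN : N.IsPrime := by
      have e1 : N = RingHom.ker (MvPolynomial.map (σ := E) (Ideal.Quotient.mk y'')) := by
        rw [MvPolynomial.ker_map, Ideal.mk_ker]
      haveI : y''.IsPrime := Ideal.IsPrime.comap _
      rw [e1]; exact RingHom.ker_isPrime _
    have hNn : N ≤ n''.asIdeal := Ideal.map_le_iff_le_comap.mpr fun c hc => by
      show chart φ C (MvPolynomial.C c) ∈ q''.asIdeal
      rw [← MvPolynomial.algebraMap_eq, AlgHom.commutes]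
      exact hc
    letI : Algebra (MvPolynomial E R) (MvPolynomial E C) := (MvPolynomial.map (algebraMap R C)).toAlgebra
    haveI : Algebra.IsIntegral (MvPolynomial E R) (MvPolynomial E C) := ⟨fun p => by
      induction p using MvPolynomial.induction_on with
      | C a =>
        obtain ⟨F, hF, hFe⟩ := Algebra.IsIntegral.isIntegral (R := R) a
        refine ⟨F.map MvPolynomial.C, hF.map _, ?_⟩
        rw [Polynomial.eval₂_map]
        have hc : (algebraMap (MvPolynomial E R) (MvPolynomial E C)).comp MvPolynomial.C =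
            (MvPolynomial.C (σ := E)).comp (algebraMap R C) := RingHom.ext fun r => MvPolynomial.map_C _ r
        rw [hc, ← Polynomial.hom_eval₂]
        exact (congrArg _ hFe).trans (map_zero _)
      | add p q hp hq => exact hp.add hq
      | mul_X p i hp =>
        refine hp.mul ?_
        rw [show (MvPolynomial.X i : MvPolynomial E C) = algebraMap (MvPolynomial E R) (MvPolynomial E C) (MvPolynomial.X i)
          from (MvPolynomial.map_X _ i).symm]
        exact isIntegral_algebraMap⟩
    have hNeq : N = n''.asIdeal := by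
      by_contra hne
      haveI := hN
      refine (Ideal.IsIntegral.comap_lt_comap (R := MvPolynomial E R) (lt_of_le_of_ne hNn hne)).ne
        (le_antisymm (Ideal.comap_mono hNn) fun p hp => ?_)
      have h1 : p ∈ q.asIdeal.comap φ.toRingHom := by
        rw [← hq'']
        show ι (φ p) ∈ q''.asIdeal
        rw [show ι (φ p) = chart φ C (MvPolynomial.map (algebraMap R C) p) from (chart_map φ C p).symm]
        exact hp
      have h2 := hn h1
      refine MvPolynomial.mem_map_C_iff.mpr fun d => ?_
      have h3 := MvPolynomial.mem_map_C_iff.mp h2 d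
      rw [show (algebraMap (MvPolynomial E R) (MvPolynomial E C)) p = MvPolynomial.map (algebraMap R C) p from rfl,
        MvPolynomial.coeff_map]
      rw [← hq''] at h3
      show algebraMap C (C ⊗[R] S) (algebraMap R C (MvPolynomial.coeff d p)) ∈ q''.asIdeal
      have h4 : ι (algebraMap R S (MvPolynomial.coeff d p)) ∈ q''.asIdeal := h3
      convert h4 using 1
      show algebraMap R C (MvPolynomial.coeff d p) ⊗ₜ[R] (1 : S) = (1 : C) ⊗ₜ[R] algebraMap R S (MvPolynomial.coeff d p)
      rw [Algebra.algebraMap_eq_smul_one, Algebra.algebraMap_eq_smul_one, TensorProduct.smul_tmul]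
    let k := (AffineSpace.SpecIso E (CommRingCat.of C)).inv
    obtain ⟨w', rfl⟩ := k.surjective w
    refine Specializes.map ((PrimeSpectrum.le_iff_specializes n'' (w' : PrimeSpectrum (MvPolynomial E C))).mp ?_) k.continuous
    show n''.asIdeal ≤ _
    rw [← hNeq]
    refine Ideal.map_le_iff_le_comap.mpr ?_
    have h1 : Spec.map (CommRingCat.ofHom (MvPolynomial.C (σ := E) (R := C))) w' = f q'' := by
      rw [show Spec.map (CommRingCat.ofHom (MvPolynomial.C (σ := E) (R := C))) = k ≫ pr from
        (AffineSpace.SpecIso_inv_over (n := E) (CommRingCat.of C)).symm, Scheme.Hom.comp_apply, ← hgpr,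
        Scheme.Hom.comp_apply]
      exact hw
    exact (congrArg PrimeSpectrum.asIdeal h1).ge
  have hq''d : fdim f q'' = (e : WithBot ℕ∞) := (fdim_comp g pr f hgpr q'').trans hgq
  let η : Spec (CommRingCat.of C) := (⟨⊥, Ideal.isPrime_bot⟩ : PrimeSpectrum C)
  have hη : ∀ y, η ⤳ y := fun y => (PrimeSpectrum.le_iff_specializes (⟨⊥, Ideal.isPrime_bot⟩ : PrimeSpectrum C) y).mp bot_le
  have hηmax : ∀ η', η' ⤳ η → η' = η := fun η' h => (h.antisymm (hη η')).eq
  obtain ⟨ζ, hζq, -, hfζ, hζd⟩ := Groth.L07.OpenEquiv.exists_component f q'' hmax (η := η)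
    (fun U hU => Groth.L07.OpenFibreDim.le_dim_fibre_of_isOpenAt f q'' hmax hopen U hU (hη _)) hηmax
  rw [← Groth.L07.OpenFibreDim.fdim_eq_fibreDimAt f q'' hmax, hq''d, fdim_comp g pr f hgpr ζ] at hζd
  refine ⟨ζ, (PrimeSpectrum.le_iff_specializes (ζ : PrimeSpectrum (C ⊗[R] S)) q'').mpr hζq, ?_⟩
  have hmaxg : ∀ p, p ⤳ g ζ → p = g ζ := by
    refine (affineSpace_maximal_iff E _).mpr ⟨fun w hw => ?_, genericPoint_of_fdim E _ (by rw [hζd, hcard])⟩
    have hpr : pr (g ζ) = η := by rw [← Scheme.Hom.comp_apply, hgpr, hfζ]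
    change w ⤳ pr (g ζ) at hw
    show w = pr (g ζ)
    rw [hpr] at hw ⊢
    exact hηmax w hw
  have h2 := (maximal_openImmersion_iff (AffineSpace.SpecIso E (CommRingCat.of C)).inv
    (Spec.map (CommRingCat.ofHom (chart φ C).toRingHom) ζ)).mpr hmaxg
  let b : PrimeSpectrum (MvPolynomial E C) := ⟨⊥, Ideal.isPrime_bot⟩
  exact congrArg PrimeSpectrum.asIdeal (h2 b ((PrimeSpectrum.le_iff_specializes b _).mp bot_le)).symm

/-- Over an integral domain extension which is normal, universal openness follows from the finite stages. -/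
theorem isUnivOpenAt_normal_extension (e : ℕ) (hcard : Nat.card E = e) (hφ : φ.toRingHom.QuasiFinite)
    (q : PrimeSpectrum S)
    (hn : q.asIdeal.comap φ.toRingHom ≤ (q.asIdeal.comap (algebraMap R S)).map MvPolynomial.C)
    (hqmax : ∀ q' : PrimeSpectrum S, q' ≤ q → q'.asIdeal.comap (algebraMap R S) = q.asIdeal.comap (algebraMap R S) → q' = q)
    (H : ∀ (C : Type u) [CommRing C] [Algebra R C] [Module.Finite R C] (q'' : PrimeSpectrum (C ⊗[R] S)),
      q''.comap (Algebra.TensorProduct.includeRight (R := R) (A := C)).toRingHom = q →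
      EGA43.IsOpenAt (Spec.map (CommRingCat.ofHom (algebraMap C (C ⊗[R] S)))).base q'')
    (C : Type u) [CommRing C] [IsDomain C] [IsIntegrallyClosed C] [Algebra R C] [Algebra.IsIntegral R C]
    (q' : PrimeSpectrum (C ⊗[R] S))
    (hq' : q'.comap (Algebra.TensorProduct.includeRight (R := R) (A := C)).toRingHom = q) :
    EGA43.IsUnivOpenAt (Spec.map (CommRingCat.ofHom (algebraMap C (C ⊗[R] S)))) q' := by
  classical
  obtain ⟨hqf, hfp⟩ := chart_quasiFinite φ hφ C
  letI : Algebra (MvPolynomial E C) (C ⊗[R] S) := (chart φ C).toRingHom.toAlgebra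
  haveI : Algebra.QuasiFinite (MvPolynomial E C) (C ⊗[R] S) := RingHom.quasiFinite_algebraMap.mp hqf
  haveI : Algebra.FinitePresentation (MvPolynomial E C) (C ⊗[R] S) := RingHom.finitePresentation_algebraMap.mp hfp
  obtain ⟨P, hPq, hP⟩ : ∃ P : PrimeSpectrum (C ⊗[R] S), P ≤ q' ∧ P.asIdeal.comap (chart φ C).toRingHom = ⊥ := by
    by_contra hno
    push Not at hno
    let G := PrimeSpectrum.comap (algebraMap (MvPolynomial E C) (C ⊗[R] S)) ⁻¹'
      {(⟨⊥, Ideal.isPrime_bot⟩ : PrimeSpectrum (MvPolynomial E C))}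
    haveI : Finite G := (Algebra.QuasiFinite.finite_comap_preimage_singleton _).to_subtype
    haveI := Fintype.ofFinite G
    have hsel : ∀ P : G, ∃ a ∈ P.1.asIdeal, a ∉ q'.asIdeal := fun P =>
      SetLike.not_le_iff_exists.mp fun h => hno P.1 h (congrArg PrimeSpectrum.asIdeal P.2)
    choose a ha haq using hsel
    have hrep : ∀ z : C ⊗[R] S, ∃ s : Finset C, ∀ C' : Subalgebra R C, (s : Set C) ⊆ C' →
        z ∈ Set.range (Algebra.TensorProduct.map C'.val (AlgHom.id R S)) := fun z => by
      induction z using TensorProduct.induction_on with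
      | zero => exact ⟨∅, fun C' _ => ⟨0, map_zero _⟩⟩
      | tmul c t => exact ⟨{c}, fun C' h => ⟨⟨c, h (by simp)⟩ ⊗ₜ t, rfl⟩⟩
      | add x y hx hy =>
        obtain ⟨sx, hx⟩ := hx
        obtain ⟨sy, hy⟩ := hy
        refine ⟨sx ∪ sy, fun C' h => ?_⟩
        obtain ⟨x', rfl⟩ := hx C' (Set.Subset.trans (by simp) h)
        obtain ⟨y', rfl⟩ := hy C' (Set.Subset.trans (by simp) h)
        exact ⟨x' + y', map_add _ _ _⟩
    choose sz hsz using hrep
    let s0 : Finset C := Finset.univ.biUnion fun P : G => sz (a P)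
    let C' : Subalgebra R C := Algebra.adjoin R (s0 : Set C)
    haveI : Module.Finite R C' :=
      Algebra.finite_adjoin_of_finite_of_isIntegral s0.finite_toSet fun c _ => Algebra.IsIntegral.isIntegral c
    let ι := Algebra.TensorProduct.map C'.val (AlgHom.id R S)
    let q'' : PrimeSpectrum (C' ⊗[R] S) := q'.comap ι.toRingHom
    have hq'' : q''.comap (Algebra.TensorProduct.includeRight (R := R) (A := C')).toRingHom = q := by
      rw [← hq']
      ext t
      show ι ((1 : C') ⊗ₜ[R] t) ∈ q'.asIdeal ↔ (1 : C) ⊗ₜ[R] t ∈ q'.asIdeal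
      rw [Algebra.TensorProduct.map_tmul]
      simp
    obtain ⟨P', hP'q, hP'⟩ := exists_prime_stage φ e hcard hφ q hn hqmax C' q'' hq'' (H C' q'' hq'')
    haveI := P'.2
    let Ω := AlgebraicClosure P'.asIdeal.ResidueField
    let ρ : C' ⊗[R] S →+* Ω :=
      (algebraMap P'.asIdeal.ResidueField Ω).comp (algebraMap (C' ⊗[R] S) P'.asIdeal.ResidueField)
    have hρ : RingHom.ker ρ = P'.asIdeal := by
      rw [RingHom.ker_comp_of_injective _ (RingHom.injective _), Ideal.ker_algebraMap_residueField]
    have hk : RingHom.ker (ρ.comp (algebraMap C' (C' ⊗[R] S))) = ⊥ := by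
      rw [← RingHom.comap_ker, hρ, eq_bot_iff]
      intro c hc
      have h1 : MvPolynomial.C c ∈ P'.asIdeal.comap (chart φ C').toRingHom := by
        show chart φ C' (MvPolynomial.C c) ∈ P'.asIdeal
        rw [← MvPolynomial.algebraMap_eq, AlgHom.commutes]
        exact hc
      rw [hP', Ideal.mem_bot] at h1
      exact MvPolynomial.C_injective E C' (h1.trans (map_zero _).symm)
    haveI : Algebra.IsIntegral C' C := Algebra.IsIntegral.tower_top R
    have hinj : Function.Injective (algebraMap C' C) := fun _ _ h => Subtype.ext h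
    obtain ⟨ρC, hρC, hρCk⟩ := Groth.L07.QuasiSection.exists_hom_of_integral (C := C)
      (ρ.comp (algebraMap C' (C' ⊗[R] S))) ⊥
      (by rw [← RingHom.ker_eq_comap_bot, (RingHom.injective_iff_ker_eq_bot _).mp hinj, hk])
    letI : Algebra R Ω := (ρ.comp (algebraMap R (C' ⊗[R] S))).toAlgebra
    let ρS : S →ₐ[R] Ω := ⟨ρ.comp (Algebra.TensorProduct.includeRight (R := R) (A := C')).toRingHom, fun r => by
      show ρ ((Algebra.TensorProduct.includeRight (R := R) (A := C')) (algebraMap R S r)) = _
      rw [AlgHom.commutes]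
      rfl⟩
    let ρC' : C →ₐ[R] Ω := ⟨ρC, fun r => by
      show ρC (algebraMap R C r) = ρ (algebraMap R (C' ⊗[R] S) r)
      rw [IsScalarTower.algebraMap_apply R C' C, ← RingHom.comp_apply, hρC, RingHom.comp_apply,
        ← IsScalarTower.algebraMap_apply]⟩
    let Ψ : C ⊗[R] S →ₐ[R] Ω := Algebra.TensorProduct.lift ρC' ρS fun _ _ => Commute.all _ _
    have hΨ : ∀ z, Ψ (ι z) = ρ z := fun z => by
      induction z using TensorProduct.induction_on with
      | zero => rw [map_zero, map_zero, map_zero]
      | add x y hx hy => rw [map_add, map_add, map_add, hx, hy]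
      | tmul c t =>
        rw [Algebra.TensorProduct.map_tmul, Algebra.TensorProduct.lift_tmul]
        show ρC (algebraMap C' C c) * ρ ((1 : C') ⊗ₜ[R] t) = _
        rw [← RingHom.comp_apply ρC, hρC, RingHom.comp_apply, ← map_mul,
          Algebra.TensorProduct.algebraMap_apply, Algebra.TensorProduct.tmul_mul_tmul]
        simp
    let P : PrimeSpectrum (C ⊗[R] S) := ⟨RingHom.ker Ψ.toRingHom, RingHom.ker_isPrime _⟩
    let m : MvPolynomial E C' →+* MvPolynomial E C := MvPolynomial.map (algebraMap C' C)
    have hchart : (chart φ C).toRingHom.comp m = ι.toRingHom.comp (chart φ C').toRingHom :=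
      MvPolynomial.ringHom_ext (fun c => by
        show chart φ C (MvPolynomial.map (algebraMap C' C) (MvPolynomial.C c)) = ι (chart φ C' (MvPolynomial.C c))
        rw [MvPolynomial.map_C, chart, chart, MvPolynomial.aeval_C, MvPolynomial.aeval_C,
          Algebra.TensorProduct.algebraMap_apply, Algebra.TensorProduct.algebraMap_apply, Algebra.TensorProduct.map_tmul]
        rfl) fun i => by
        show chart φ C (MvPolynomial.map (algebraMap C' C) (MvPolynomial.X i)) = ι (chart φ C' (MvPolynomial.X i))
        rw [MvPolynomial.map_X, chart, chart, MvPolynomial.aeval_X, MvPolynomial.aeval_X,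
          Algebra.TensorProduct.map_tmul]
        simp
    letI : Algebra (MvPolynomial E C') (MvPolynomial E C) := m.toAlgebra
    haveI : Algebra.IsIntegral (MvPolynomial E C') (MvPolynomial E C) := ⟨fun p => by
      induction p using MvPolynomial.induction_on with
      | C a =>
        obtain ⟨F, hF, hFe⟩ := Algebra.IsIntegral.isIntegral (R := C') a
        refine ⟨F.map MvPolynomial.C, hF.map _, ?_⟩
        rw [Polynomial.eval₂_map]
        have hc : (algebraMap (MvPolynomial E C') (MvPolynomial E C)).comp MvPolynomial.C =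
            (MvPolynomial.C (σ := E)).comp (algebraMap C' C) := RingHom.ext fun r => MvPolynomial.map_C _ r
        rw [hc, ← Polynomial.hom_eval₂]
        exact (congrArg _ hFe).trans (map_zero _)
      | add p q hp hq => exact hp.add hq
      | mul_X p i hp =>
        refine hp.mul ?_
        rw [show (MvPolynomial.X i : MvPolynomial E C) = algebraMap (MvPolynomial E C') (MvPolynomial E C) (MvPolynomial.X i)
          from (MvPolynomial.map_X _ i).symm]
        exact isIntegral_algebraMap⟩
    haveI := P.2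
    have hPG : P.asIdeal.comap (chart φ C).toRingHom = ⊥ := by
      refine Ideal.eq_bot_of_comap_eq_bot (R := MvPolynomial E C') ?_
      rw [Ideal.comap_comap, show (chart φ C).toRingHom.comp (algebraMap (MvPolynomial E C') (MvPolynomial E C)) =
        ι.toRingHom.comp (chart φ C').toRingHom from hchart, ← Ideal.comap_comap,
        show P.asIdeal.comap ι.toRingHom = P'.asIdeal from by
          ext z
          show Ψ (ι z) = 0 ↔ z ∈ P'.asIdeal
          rw [hΨ]
          exact RingHom.mem_ker.symm.trans (SetLike.ext_iff.mp hρ z)]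
      exact hP'
    let PG : G := ⟨P, PrimeSpectrum.ext hPG⟩
    obtain ⟨z, hz⟩ := hsz (a PG) C' (Set.Subset.trans
      (Finset.coe_subset.mpr (Finset.subset_biUnion_of_mem (fun P : G => sz (a P)) (Finset.mem_univ PG)))
      Algebra.subset_adjoin)
    refine haq PG ?_
    rw [← hz]
    refine hP'q (show z ∈ P'.asIdeal from ?_)
    refine (SetLike.ext_iff.mp hρ z).mp ?_
    rw [RingHom.mem_ker, ← hΨ]
    have h3 : ι z ∈ P.asIdeal := by
      show ι z ∈ P.asIdeal
      rw [show ι z = a PG from hz]
      exact ha PG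
    exact h3
  haveI : IsIntegrallyClosed (MvPolynomial E C) := by
    haveI := Groth.L07.Chevalley.isIntegrallyClosed_mvPolynomial C (Fintype.card E)
    exact IsIntegrallyClosed.of_equiv (MvPolynomial.renameEquiv C (Fintype.equivFin E).symm).toRingEquiv
  have h1 := isUnivOpenAt_normal (B := MvPolynomial E C) P q' hPq hP
  let pr := Spec.map (CommRingCat.ofHom (MvPolynomial.C (σ := E) (R := C)))
  haveI : Flat pr := (HasRingHomProperty.Spec_iff (P := @Flat)).mpr
    (RingHom.flat_algebraMap_iff.mpr (inferInstance : Module.Flat C (MvPolynomial E C)))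
  haveI : LocallyOfFinitePresentation pr := (HasRingHomProperty.Spec_iff (P := @LocallyOfFinitePresentation)).mpr
    (RingHom.finitePresentation_algebraMap.mpr (inferInstance : Algebra.FinitePresentation C (MvPolynomial E C)))
  have h2 := Groth.L07.UnivOpenAt.comp h1 (g := pr) (fun Y' g x' _ U hU =>
    (Scheme.Hom.isOpenMap (pullback.snd pr g)).image_mem_nhds hU)
  rw [show algebraMap C (C ⊗[R] S) = (chart φ C).toRingHom.comp MvPolynomial.C from
    RingHom.ext fun c => ((chart φ C).commutes c).symm, CommRingCat.ofHom_comp, Spec.map_comp]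
  exact h2

/-- Universal openness at a maximal point of a fibre from openness on finite algebras. -/
theorem isUnivOpenAt_affine (e : ℕ) (hcard : Nat.card E = e) (hφ : φ.toRingHom.QuasiFinite)
    (q : PrimeSpectrum S)
    (hn : q.asIdeal.comap φ.toRingHom ≤ (q.asIdeal.comap (algebraMap R S)).map MvPolynomial.C)
    (hqmax : ∀ q' : PrimeSpectrum S, q' ≤ q → q'.asIdeal.comap (algebraMap R S) = q.asIdeal.comap (algebraMap R S) → q' = q)
    (H : ∀ (C : Type u) [CommRing C] [Algebra R C] [Module.Finite R C] (q'' : PrimeSpectrum (C ⊗[R] S)),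
      q''.comap (Algebra.TensorProduct.includeRight (R := R) (A := C)).toRingHom = q →
      EGA43.IsOpenAt (Spec.map (CommRingCat.ofHom (algebraMap C (C ⊗[R] S)))).base q'') :
    EGA43.IsUnivOpenAt (Spec.map (CommRingCat.ofHom (algebraMap R S))) q := by
  classical
  let f := Spec.map (CommRingCat.ofHom (algebraMap R S))
  haveI : Finite (minimalPrimes R) := (minimalPrimes.finite_of_isNoetherianRing R).to_subtype
  let T : minimalPrimes R → Scheme.{u} := fun p => Spec (CommRingCat.of (R ⧸ p.1))
  let g : ∀ p, T p ⟶ Spec (CommRingCat.of R) := fun p => Spec.map (CommRingCat.ofHom (Ideal.Quotient.mk p.1))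
  haveI : ∀ p, IsClosedImmersion (g p) := fun p => IsClosedImmersion.spec_of_surjective _ Ideal.Quotient.mk_surjective
  refine Groth.L07.UnivOpenAt.of_finite_closed_cover f q T g (Set.eq_univ_of_forall fun y => ?_) fun p x' hx' => ?_
  · let y' : PrimeSpectrum R := y
    haveI := y'.2
    obtain ⟨p, hp, hpy⟩ := Ideal.exists_minimalPrimes_le (I := (⊥ : Ideal R)) (J := y'.asIdeal) bot_le
    refine Set.mem_iUnion.mpr ⟨⟨p, hp⟩, (⟨y'.asIdeal.map (Ideal.Quotient.mk p),
      Ideal.map_isPrime_of_surjective Ideal.Quotient.mk_surjective (Ideal.mk_ker.le.trans hpy)⟩ : PrimeSpectrum _), ?_⟩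
    refine PrimeSpectrum.ext ?_
    show Ideal.comap (Ideal.Quotient.mk p) (y'.asIdeal.map (Ideal.Quotient.mk p)) = y'.asIdeal
    rw [Ideal.comap_map_of_surjective _ Ideal.Quotient.mk_surjective, ← RingHom.ker_eq_comap_bot, Ideal.mk_ker,
      sup_eq_left.mpr hpy]
  haveI : p.1.IsPrime := p.2.1.1
  let B := R ⧸ p.1
  let C := integralClosure B (FractionRing B)
  haveI : IsIntegrallyClosed C := integralClosure.isIntegrallyClosedOfFiniteExtension (FractionRing B)
  haveI : Algebra.IsIntegral R B :=
    Algebra.IsIntegral.of_surjective (Ideal.Quotient.mkₐ R p.1) Ideal.Quotient.mk_surjective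
  letI : Algebra R C := ((algebraMap B C).comp (Ideal.Quotient.mk p.1)).toAlgebra
  haveI : IsScalarTower R B C := IsScalarTower.of_algebraMap_eq fun r => rfl
  haveI : Algebra.IsIntegral R C := Algebra.IsIntegral.trans B
  let v : Spec (CommRingCat.of C) ⟶ T p := Spec.map (CommRingCat.ofHom (algebraMap B C))
  haveI : IsIntegralHom v := IsIntegralHom.SpecMap_iff.mpr fun c => Algebra.IsIntegral.isIntegral c
  haveI : Surjective v := ⟨fun y => by
    let y' : PrimeSpectrum B := y
    haveI := y'.2
    have hinj : Function.Injective (algebraMap B C) := fun a b h =>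
      IsFractionRing.injective B (FractionRing B) (congrArg Subtype.val h)
    obtain ⟨Q, -, hQ, hQy⟩ := Ideal.exists_ideal_over_prime_of_isIntegral (R := B) (S := C) y'.asIdeal ⊥
      (by rw [← RingHom.ker_eq_comap_bot, (RingHom.injective_iff_ker_eq_bot _).mp hinj]; exact bot_le)
    exact ⟨(⟨Q, hQ⟩ : PrimeSpectrum C), PrimeSpectrum.ext hQy⟩⟩
  refine Groth.L07.UnivOpenAt.of_universallyClosed v (pullback.snd f (g p)) x' fun x₁ hx₁ => ?_
  have big := (IsPullback.of_hasPullback (pullback.snd f (g p)) v).paste_horiz (IsPullback.of_hasPullback f (g p))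
  have hvg : v ≫ g p = Spec.map (CommRingCat.ofHom (algebraMap R C)) := by
    rw [← Spec.map_comp]; rfl
  rw [hvg] at big
  have can := (isPullback_SpecMap_of_isPushout _ _ _ _ (CommRingCat.isPushout_tensorProduct R C S)).flip
  let ε := big.isoPullback ≪≫ can.isoPullback.symm
  have h1 : ε.hom ≫ Spec.map (CommRingCat.ofHom (algebraMap C (C ⊗[R] S))) = pullback.snd (pullback.snd f (g p)) v := by
    simp only [ε, Iso.trans_hom, Iso.symm_hom, Category.assoc]
    erw [can.isoPullback_inv_snd, big.isoPullback_hom_snd]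
  have h2 : ε.hom ≫ Spec.map (CommRingCat.ofHom (Algebra.TensorProduct.includeRight (R := R) (A := C)).toRingHom) =
      pullback.fst (pullback.snd f (g p)) v ≫ pullback.fst f (g p) := by
    simp only [ε, Iso.trans_hom, Iso.symm_hom, Category.assoc]
    erw [can.isoPullback_inv_fst, big.isoPullback_hom_fst]
  rw [← h1]
  refine Groth.L07.UnivOpenAt.comp (fun Y' g x' _ U hU => (Scheme.Hom.isOpenMap (pullback.snd ε.hom g)).image_mem_nhds hU)
    (isUnivOpenAt_normal_extension φ e hcard hφ q hn hqmax H C _ ?_)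
  show Spec.map (CommRingCat.ofHom (Algebra.TensorProduct.includeRight (R := R) (A := C)).toRingHom) (ε.hom x₁) = q
  rw [← Scheme.Hom.comp_apply, h2, Scheme.Hom.comp_apply]
  exact (congrArg _ hx₁).trans hx'

end

end Groth.L07.FiniteTest
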