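import Groth.Agent.L07.FiniteTest
import Groth.Agent.L19.Approx.Zmt
import Groth.Agent.L07.UnivOpenFibre

/-!
Universal openness tested on finite morphisms to a Noetherian base.
-/

universe u

open CategoryTheory CategoryTheory.Limits AlgebraicGeometry TopologicalSpace Topology
open scoped TensorProduct

namespace Groth.L07.FiniteTest

open Groth.L22 Groth.L07.Equidim Groth.L07.EquidimQF

set_option maxSynthPendingDepth 3
set_option linter.style.haveILetI false
set_option backward.isDefEq.respectTransparency.types false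
set_option backward.isDefEq.respectTransparency false

variable {X Y : Scheme.{u}}

/-- Universal openness at a maximal point of a fibre from openness after finite base changes. -/
theorem isUnivOpenAt_of_finite_tests [IsNoetherian Y] (f : X ⟶ Y) [LocallyOfFiniteType f] (x : X)
    (hmax : ∀ x' : X, f x' = f x → x' ⤳ x → x' = x)
    (H : ∀ (Y' : Scheme.{u}) (g : Y' ⟶ Y) [IsFinite g], ∀ x' : ↥(pullback f g), (pullback.fst f g).base x' = x →
      EGA43.IsOpenAt (pullback.snd f g).base x') :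
    EGA43.IsUnivOpenAt f x := by
  classical
  obtain ⟨e, he⟩ := Groth.L07.OpenFibreDim.exists_nat_fdim f x
  obtain ⟨U1, hxU1, hU1⟩ := (Groth.L07.FibreDim.fibreDimAt_le_iff f x (e : WithBot ℕ∞)).mp
    (by rw [← Groth.L07.OpenFibreDim.fdim_eq_fibreDimAt f x hmax, he])
  obtain ⟨D, g₀, hxD, -, hg, hqf⟩ := exists_qf_affineSpace f U1 x hxU1 e hU1
  haveI := hqf
  let E := ULift.{u} (Fin e)
  let pr := 𝔸(E; Y) ↘ Y
  haveI : LocallyOfFiniteType (g₀ ≫ pr) := hg ▸ inferInstance
  haveI : LocallyOfFiniteType g₀ := locallyOfFiniteType_of_comp g₀ pr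
  obtain ⟨V, hV, hyV, -⟩ := exists_isAffineOpen_mem_and_subset (TopologicalSpace.Opens.mem_top (f x))
  obtain ⟨W, hW, hxW, hWD⟩ := exists_isAffineOpen_mem_and_subset (show x ∈ D ⊓ f ⁻¹ᵁ V from ⟨hxD, hyV⟩)
  have hWV : W ≤ f ⁻¹ᵁ V := fun w hw => (hWD hw).2
  have hWD' : W ≤ D := fun w hw => (hWD hw).1
  haveI : IsNoetherianRing Γ(Y, V) := IsLocallyNoetherian.component_noetherian ⟨V, hV⟩
  letI : Algebra Γ(Y, V) Γ(X, W) := (f.appLE V W hWV).hom.toAlgebra
  haveI : Algebra.FiniteType Γ(Y, V) Γ(X, W) := f.finiteType_appLE hV hW hWV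
  have hsq : Spec.map (f.appLE V W hWV) ≫ hV.fromSpec = hW.fromSpec ≫ f := hV.SpecMap_appLE_fromSpec f hW hWV
  have bot := AffineSpace.isPullback_map (n := E) hV.fromSpec
  let gW : Spec Γ(X, W) ⟶ 𝔸(E; Y) := (hW.isoSpec.inv ≫ X.homOfLE hWD') ≫ g₀
  have hgW : gW ≫ pr = hW.fromSpec ≫ f := by
    rw [Category.assoc, hg, Category.assoc, Scheme.homOfLE_ι_assoc, IsAffineOpen.isoSpec_inv_ι_assoc]
  let h := bot.lift gW (Spec.map (f.appLE V W hWV)) (by rw [hgW, hsq])
  obtain ⟨φ', hφ'⟩ := Spec.map_surjective (h ≫ (AffineSpace.SpecIso E Γ(Y, V)).hom)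
  have hinv : (h ≫ (AffineSpace.SpecIso E Γ(Y, V)).hom) ≫ (AffineSpace.SpecIso E Γ(Y, V)).inv = h := by
    rw [Category.assoc, Iso.hom_inv_id, Category.comp_id]
  have hφC : φ'.hom.comp MvPolynomial.C = algebraMap Γ(Y, V) Γ(X, W) := by
    have h1 : Spec.map (CommRingCat.ofHom MvPolynomial.C ≫ φ') = Spec.map (f.appLE V W hWV) := by
      rw [Spec.map_comp, hφ', ← AffineSpace.SpecIso_inv_over, ← Category.assoc, hinv]
      exact bot.lift_snd _ _ _
    exact congrArg CommRingCat.Hom.hom (Spec.map_injective h1)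
  let φ : MvPolynomial E Γ(Y, V) →ₐ[Γ(Y, V)] Γ(X, W) := ⟨φ'.hom, fun r => RingHom.congr_fun hφC r⟩
  let m := AffineSpace.map E hV.fromSpec
  haveI : IsOpenImmersion m := MorphismProperty.of_isPullback (P := @IsOpenImmersion) bot.flip inferInstance
  have hhm : h ≫ m = gW := bot.lift_fst _ _ _
  haveI : LocallyQuasiFinite (X.homOfLE hWD') := inferInstance
  haveI : LocallyQuasiFinite gW := inferInstance
  haveI : LocallyQuasiFinite (h ≫ m) := hhm ▸ inferInstance
  haveI : LocallyQuasiFinite h := LocallyQuasiFinite.of_comp h m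
  have hφqf : φ.toRingHom.QuasiFinite := by
    haveI : LocallyQuasiFinite (Spec.map φ') := hφ' ▸ inferInstance
    exact (HasRingHomProperty.Spec_iff (P := @LocallyQuasiFinite)).mp inferInstance
  let q := hW.primeIdealOf ⟨x, hxW⟩
  have hq : hW.fromSpec q = x := hW.fromSpec_primeIdealOf ⟨x, hxW⟩
  haveI := q.2
  have hbase : ∀ (a : Spec Γ(X, W)), f (hW.fromSpec a) = hV.fromSpec (Spec.map (f.appLE V W hWV) a) := fun a => by
    rw [← Scheme.Hom.comp_apply, ← hsq, Scheme.Hom.comp_apply]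
  have hn : q.asIdeal.comap φ.toRingHom ≤ (q.asIdeal.comap (algebraMap Γ(Y, V) Γ(X, W))).map MvPolynomial.C := by
    let N := (q.asIdeal.comap (algebraMap Γ(Y, V) Γ(X, W))).map (MvPolynomial.C (σ := E))
    haveI : (q.asIdeal.comap (algebraMap Γ(Y, V) Γ(X, W))).IsPrime := Ideal.IsPrime.comap _
    have hN : N.IsPrime := by
      have e1 : N = RingHom.ker (MvPolynomial.map (σ := E)
          (Ideal.Quotient.mk (q.asIdeal.comap (algebraMap Γ(Y, V) Γ(X, W))))) := by
        rw [MvPolynomial.ker_map, Ideal.mk_ker]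
      rw [e1]; exact RingHom.ker_isPrime _
    let Np : Spec (CommRingCat.of (MvPolynomial E Γ(Y, V))) := (⟨N, hN⟩ : PrimeSpectrum _)
    let k := (AffineSpace.SpecIso E Γ(Y, V)).inv ≫ m
    have hk : Spec.map φ' ≫ k = gW := by rw [hφ', ← Category.assoc, hinv, hhm]
    let wx : (D : Scheme.{u}) := ⟨x, hxD⟩
    have hgx : gW q = g₀ wx := by
      show ((hW.isoSpec.inv ≫ X.homOfLE hWD') ≫ g₀) q = g₀ wx
      rw [Scheme.Hom.comp_apply]
      refine congrArg g₀ (D.ι.isOpenEmbedding.injective ?_)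
      rw [← Scheme.Hom.comp_apply, Category.assoc, Scheme.homOfLE_ι, IsAffineOpen.isoSpec_inv_ι]
      exact hq
    have hgen := genericPoint_of_fdim E (g₀ wx) (by
      rw [← fdim_comp g₀ pr (D.ι ≫ f) hg wx, fdim_comp D.ι f (D.ι ≫ f) rfl wx]
      refine le_of_eq (Eq.trans ?_ he.symm)
      simp [E])
    have hsp : k (Spec.map φ' q) ⤳ k Np := by
      rw [← Scheme.Hom.comp_apply, hk, hgx]
      refine hgen _ ?_
      have e1 : k ≫ pr = Spec.map (CommRingCat.ofHom (MvPolynomial.C (σ := E) (R := Γ(Y, V)))) ≫ hV.fromSpec := by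
        rw [Category.assoc, bot.w, AffineSpace.SpecIso_inv_over_assoc]
      have e2 : pr (g₀ wx) = f x := by rw [← Scheme.Hom.comp_apply, hg]; rfl
      rw [← Scheme.Hom.comp_apply, e1, Scheme.Hom.comp_apply]
      refine Eq.trans ?_ e2.symm
      rw [← hq, hbase]
      refine congrArg hV.fromSpec (PrimeSpectrum.ext ?_)
      show N.comap MvPolynomial.C = q.asIdeal.comap (algebraMap Γ(Y, V) Γ(X, W))
      refine le_antisymm (fun r hr => ?_) Ideal.le_comap_map
      have := MvPolynomial.mem_map_C_iff.mp hr 0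
      rwa [MvPolynomial.coeff_zero_C] at this
    exact (PrimeSpectrum.le_iff_specializes (PrimeSpectrum.comap φ.toRingHom q) (⟨N, hN⟩ : PrimeSpectrum _)).mpr
      (k.isOpenEmbedding.isInducing.specializes_iff.mp hsp)
  have hqmax : ∀ q' : PrimeSpectrum Γ(X, W), q' ≤ q →
      q'.asIdeal.comap (algebraMap Γ(Y, V) Γ(X, W)) = q.asIdeal.comap (algebraMap Γ(Y, V) Γ(X, W)) → q' = q := by
    intro q' hle ho
    refine hW.fromSpec.isOpenEmbedding.injective ?_
    rw [hq]
    refine hmax _ ?_ ?_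
    · rw [← hq, hbase, hbase]
      exact congrArg hV.fromSpec (PrimeSpectrum.ext ho)
    · rw [← hq]
      exact ((PrimeSpectrum.le_iff_specializes q' q).mp hle).map hW.fromSpec.continuous
  let fS := Spec.map (CommRingCat.ofHom (algebraMap Γ(Y, V) Γ(X, W)))
  have key : EGA43.IsUnivOpenAt fS q := isUnivOpenAt_affine φ e (by simp [E]) hφqf q hn hqmax fun C _ _ _ q'' hq'' => by
    let ν := Spec.map (CommRingCat.ofHom (algebraMap Γ(Y, V) C))
    haveI : IsFinite ν := (AlgebraicGeometry.IsFinite.SpecMap_iff _).mpr (RingHom.finite_algebraMap.mpr inferInstance)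
    let c := ν ≫ hV.fromSpec
    haveI : QuasiSeparatedSpace Y := inferInstance
    haveI : CompactSpace Y := inferInstance
    haveI : CompactSpace ↥(Spec (CommRingCat.of C)) := inferInstanceAs (CompactSpace (PrimeSpectrum C))
    haveI : QuasiCompact c := @quasiCompact_of_compactSpace _ _ c ‹_› ‹_›
    haveI : LocallyQuasiFinite c := inferInstance
    haveI : IsSeparated c := inferInstance
    obtain ⟨T, j, π, hj, -, hπ, hjπ⟩ := Groth.L19.Approx.exists_openImmersion_finite c
    haveI := hj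
    haveI := hπ
    have can := (isPullback_SpecMap_of_isPushout _ _ _ _ (CommRingCat.isPushout_tensorProduct Γ(Y, V) C Γ(X, W))).flip
    let l := can.isoPullback.hom ≫ pullback.map fS ν f π hW.fromSpec j hV.fromSpec hsq hjπ.symm
    have hl2 : l ≫ pullback.snd f π = Spec.map (CommRingCat.ofHom (algebraMap C (C ⊗[Γ(Y, V)] Γ(X, W)))) ≫ j := by
      rw [Category.assoc, pullback.map, pullback.lift_snd]
      erw [can.isoPullback_hom_snd_assoc]
      rfl
    have hl1 : l ≫ pullback.fst f π = Spec.map (CommRingCat.ofHom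
        (Algebra.TensorProduct.includeRight (R := Γ(Y, V)) (A := C)).toRingHom) ≫ hW.fromSpec := by
      rw [Category.assoc, pullback.map, pullback.lift_fst]
      erw [can.isoPullback_hom_fst_assoc]
    haveI : IsOpenImmersion l := inferInstance
    have h1 : EGA43.IsOpenAt (l ≫ pullback.snd f π).base q'' := by
      refine Groth.L07.UnivOpenAt.isOpenAt_comp (fun U hU => l.isOpenEmbedding.isOpenMap.image_mem_nhds hU)
        (H T π _ ?_)
      rw [← Scheme.Hom.comp_apply, hl1, Scheme.Hom.comp_apply, ← hq]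
      exact congrArg hW.fromSpec hq''
    rw [hl2] at h1
    intro U hU
    have h2 := h1 U hU
    rw [Scheme.Hom.comp_apply] at h2
    have h3 := j.continuous.continuousAt.preimage_mem_nhds h2
    refine Filter.mem_of_superset h3 ?_
    rintro w ⟨a, ha, hae⟩
    exact ⟨a, ha, j.isOpenEmbedding.injective ((Scheme.Hom.comp_apply _ _ _).symm.trans hae)⟩
  have h2 := Groth.L07.UnivOpenAt.comp key (g := hV.fromSpec) (fun Y' g x' _ U hU =>
    (Scheme.Hom.isOpenMap (pullback.snd hV.fromSpec g)).image_mem_nhds hU)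
  rw [show fS ≫ hV.fromSpec = hW.fromSpec ≫ f from hsq] at h2
  rw [← hq]
  exact Groth.L07.UnivOpenAt.right_of_comp h2

/-- Universal openness everywhere from openness after finite base changes. -/
theorem universallyOpen_of_finite_tests [IsNoetherian Y] (f : X ⟶ Y) [LocallyOfFiniteType f]
    (H : ∀ (Y' : Scheme.{u}) (g : Y' ⟶ Y) [IsFinite g], IsOpenMap (pullback.snd f g).base) :
    UniversallyOpen f := by
  refine ⟨fun A B i₁ i₂ f' hP => ?_⟩
  show IsOpenMap f'
  intro S hS
  rw [isOpen_iff_mem_nhds]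
  rintro _ ⟨a, ha, rfl⟩
  obtain ⟨z, hz, hfz, hzmax⟩ := Groth.L07.OpenEquiv.exists_maximal_in_fibre f (i₁ a)
  exact Groth.L07.UnivOpenAt.of_isPullback hP.flip
    (Groth.L07.OpenEquiv.isUnivOpenAt_of_specializes f hz hfz
      (isUnivOpenAt_of_finite_tests f z hzmax fun Y' g _ x' _ U hU => (H Y' g).image_mem_nhds hU)) a rfl S (hS.mem_nhds ha)

end Groth.L07.FiniteTest
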