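import Groth.Agent.L05.ModelFG
import Groth.Agent.L19.LimMod.Descend
import Groth.Agent.L19.Limit.BaseChange
import Groth.Agent.L02.InjFlat.LimitFlatGlobal

/-!
Noetherian models of a finitely presented module flat at a point.
-/

set_option autoImplicit false
set_option linter.style.haveILetI false
set_option maxSynthPendingDepth 3
set_option backward.isDefEq.respectTransparency false
set_option backward.isDefEq.respectTransparency.types false

universe u

open CategoryTheory CategoryTheory.Limits AlgebraicGeometry Opposite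

namespace Groth.L07.FlatAtModel

open Groth.L05.ModelFG Groth.L19.Limit

variable {A : Type u} [CommRing A] {X : Scheme.{u}}

/-- A model of a scheme with a module. -/
theorem exists_module_model (f : X ⟶ Spec (CommRingCat.of A)) [LocallyOfFinitePresentation f] [QuasiCompact f]
    [QuasiSeparated f] (F : X.Modules) [Coh.IsQCoh F] (hF : CohB1.IsFP F) :
    ∃ (i : (FG A)ᵒᵖ) (X₁ : Scheme.{u}) (f₁ : X₁ ⟶ (specDiagram A).obj i) (_ : LocallyOfFinitePresentation f₁)
      (_ : QuasiCompact f₁) (F₁ : X₁.Modules) (_ : Coh.IsQCoh F₁) (_ : CohB1.IsFP F₁) (q : X ⟶ X₁),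
      IsPullback q f f₁ ((specCone A).π.app i) ∧ Nonempty ((Scheme.Modules.pullback q).obj F₁ ≅ F) := by
  obtain ⟨A₀, hA₀, X₀, f₀, g, -, h1, h2, sq⟩ := Groth.L05.ModelFG.exists_model (A := A)
    (P := (⊤ : MorphismProperty Scheme.{u})) (by intro I _ _ D c _ hc i _ X a _ _; exact ⟨i, 𝟙 i, trivial⟩) f trivial
  let D := specDiagram A
  let c := specCone A
  let i : (FG A)ᵒᵖ := op ⟨A₀, hA₀⟩
  let f₀' : X₀ ⟶ D.obj i := f₀
  haveI : LocallyOfFinitePresentation f₀' := h1
  haveI : QuasiCompact f₀' := h2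
  haveI : Algebra.FiniteType ℤ A₀ := A₀.fg_iff_finiteType.mp hA₀
  haveI : IsNoetherianRing A₀ := Algebra.FiniteType.isNoetherianRing ℤ A₀
  haveI : IsLocallyNoetherian X₀ := LocallyOfFiniteType.isLocallyNoetherian f₀
  haveI : CompactSpace (Spec (CommRingCat.of ↥A₀)) := inferInstance
  haveI : CompactSpace X₀ := QuasiCompact.compactSpace_of_compactSpace f₀
  haveI : QuasiSeparatedSpace X₀ := inferInstance
  let e : X ≅ (bcCone D c f₀').pt := (show IsPullback f g (c.π.app i) f₀' from sq.flip).isoPullback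
  let j₀ : Over i := Over.mk (𝟙 i)
  haveI : CompactSpace ((bcDiagram D f₀').obj j₀) :=
    QuasiCompact.compactSpace_of_compactSpace (pullback.snd (D.map j₀.hom) f₀')
  haveI : QuasiSeparatedSpace ((bcDiagram D f₀').obj j₀) :=
    quasiSeparatedSpace_of_quasiSeparated (pullback.snd (D.map j₀.hom) f₀')
  haveI : ∀ (j l : Over i) (m : j ⟶ l), IsAffineHom ((bcDiagram D f₀').map m) := fun j l m => inferInstance
  let F' := (Scheme.Modules.pullback e.inv).obj F
  haveI : Coh.IsQCoh F' := Groth.L16.AffineBC.isQCoh_pullback e.inv F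
  obtain ⟨j, -, Fj, hq, hfp, ⟨φ⟩⟩ := Groth.L19.LimMod.exists_module (bcDiagram D f₀') (bcCone D c f₀')
    (isLimitBcCone f₀' (isLimitSpecCone A)) (i := j₀) F' (Groth.L19.LimMod.isFP_pullback' e.inv F hF)
  let π' := (bcCone D c f₀').π.app j
  refine ⟨j.left, (bcDiagram D f₀').obj j, pullback.fst (D.map j.hom) f₀',
    MorphismProperty.pullback_fst _ _ ‹_›, MorphismProperty.pullback_fst _ _ ‹_›, Fj, hq, hfp, e.hom ≫ π', ?_, ⟨?_⟩⟩
  · refine IsPullback.of_right (h₁₂ := pullback.snd (D.map j.hom) f₀') (h₂₂ := D.map j.hom) (v₁₃ := f₀') ?_ ?_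
      (IsPullback.of_hasPullback (D.map j.hom) f₀').flip
    · rw [c.w]
      have h : (e.hom ≫ π') ≫ pullback.snd (D.map j.hom) f₀' = g := by
        simp [π', bcCone, e]
      rw [h]
      exact sq
    · simp [π', bcCone, e]
      rfl
  · exact ((Scheme.Modules.pullbackComp e.hom π').app Fj).symm ≪≫
      (Scheme.Modules.pullback e.hom).mapIso φ ≪≫
      ((Scheme.Modules.pullbackComp e.hom e.inv).app F) ≪≫
      (Scheme.Modules.pullbackCongr e.hom_inv_id).app F ≪≫ (Scheme.Modules.pullbackId X).app F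

variable {i : (FG A)ᵒᵖ} {X₁ : Scheme.{u}} (f₁ : X₁ ⟶ (specDiagram A).obj i)

/-- Transport of flatness from a stage with a formal pullback base. -/
theorem flat_transport (F₁ : X₁.Modules) [Coh.IsQCoh F₁] (l : Over i) {W : Scheme.{u}} (a : W ⟶ X₁)
    (b : W ⟶ pullback ((specDiagram A).map l.hom) (𝟙 ((specDiagram A).obj i)))
    (sq : IsPullback a b f₁ (pullback.snd ((specDiagram A).map l.hom) (𝟙 ((specDiagram A).obj i)))) :
    ∃ v : pullback f₁ ((specDiagram A).map l.hom) ⟶ W,
      v ≫ a = pullback.fst _ _ ∧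
      v ≫ b = pullback.snd f₁ ((specDiagram A).map l.hom) ≫
        pullback.lift (𝟙 _) ((specDiagram A).map l.hom) (by simp) ∧
      ∀ z, FlatMod.IsFlatOverAt b ((Scheme.Modules.pullback a).obj F₁) (v z) →
        FlatMod.IsFlatOverAt (pullback.snd f₁ ((specDiagram A).map l.hom))
          ((Scheme.Modules.pullback (pullback.fst f₁ ((specDiagram A).map l.hom))).obj F₁) z := by
  let σ : (specDiagram A).obj l.left ⟶ pullback ((specDiagram A).map l.hom) (𝟙 ((specDiagram A).obj i)) :=
    pullback.lift (𝟙 _) ((specDiagram A).map l.hom) (by simp)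
  have hσ : σ ≫ pullback.snd ((specDiagram A).map l.hom) (𝟙 ((specDiagram A).obj i)) = (specDiagram A).map l.hom :=
    pullback.lift_snd _ _ _
  let v : pullback f₁ ((specDiagram A).map l.hom) ⟶ W :=
    sq.lift (pullback.fst _ _) (pullback.snd f₁ ((specDiagram A).map l.hom) ≫ σ)
      (by rw [Category.assoc, hσ]; exact pullback.condition)
  have hva : v ≫ a = pullback.fst _ _ := sq.lift_fst _ _ _
  have hvb : v ≫ b = pullback.snd f₁ ((specDiagram A).map l.hom) ≫ σ := sq.lift_snd _ _ _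
  have sq' : IsPullback v (pullback.snd f₁ ((specDiagram A).map l.hom)) b σ := by
    refine IsPullback.of_right ?_ hvb sq
    rw [hva, hσ]
    exact IsPullback.of_hasPullback _ _
  haveI : Coh.IsQCoh ((Scheme.Modules.pullback a).obj F₁) := Groth.L16.AffineBC.isQCoh_pullback a F₁
  exact ⟨v, hva, hvb, fun z hz => Groth.L02.InjFlat.flatAt_pullback_comp v a _ hva _ F₁ z
    (Groth.L02.InjFlat.flatAt_baseChange sq' _ z hz)⟩

variable [LocallyOfFinitePresentation f₁] [QuasiCompact f₁]

/-- The conclusion for the stage `l`. -/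
theorem package (F₁ : X₁.Modules) [Coh.IsQCoh F₁] (hF₁ : CohB1.IsFP F₁) {f : X ⟶ Spec (CommRingCat.of A)} {F : X.Modules}
    {q : X ⟶ X₁} (sq : IsPullback q f f₁ ((specCone A).π.app i)) (φ : (Scheme.Modules.pullback q).obj F₁ ≅ F)
    (l : Over i) :
    ∃ q₂ : X ⟶ pullback f₁ ((specDiagram A).map l.hom),
      q₂ ≫ pullback.fst _ _ = q ∧ q₂ ≫ pullback.snd _ _ = f ≫ (specCone A).π.app l.left ∧
      LocallyOfFiniteType (pullback.snd f₁ ((specDiagram A).map l.hom)) ∧
      QuasiCompact (pullback.snd f₁ ((specDiagram A).map l.hom)) ∧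
      Coh.IsCoh ((Scheme.Modules.pullback (pullback.fst f₁ ((specDiagram A).map l.hom))).obj F₁) ∧
      IsPullback q₂ f (pullback.snd f₁ ((specDiagram A).map l.hom)) ((specCone A).π.app l.left) ∧
      Nonempty ((Scheme.Modules.pullback q₂).obj
        ((Scheme.Modules.pullback (pullback.fst f₁ ((specDiagram A).map l.hom))).obj F₁) ≅ F) := by
  let q₂ : X ⟶ pullback f₁ ((specDiagram A).map l.hom) :=
    pullback.lift q (f ≫ (specCone A).π.app l.left) (by rw [Category.assoc, (specCone A).w]; exact sq.w)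
  haveI : LocallyOfFinitePresentation (pullback.snd f₁ ((specDiagram A).map l.hom)) :=
    MorphismProperty.pullback_snd _ _ ‹_›
  refine ⟨q₂, pullback.lift_fst _ _ _, pullback.lift_snd _ _ _, inferInstance,
    MorphismProperty.pullback_snd _ _ ‹_›,
    ⟨Groth.L16.AffineBC.isQCoh_pullback _ F₁,
      Groth.L19.LimMod.isFT_of_isFP (Groth.L19.LimMod.isFP_pullback' _ F₁ hF₁)⟩,
    IsPullback.of_right (by rw [pullback.lift_fst, (specCone A).w]; exact sq) (pullback.lift_snd _ _ _)
      (IsPullback.of_hasPullback _ _),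
    ⟨(Scheme.Modules.pullbackComp q₂ (pullback.fst f₁ ((specDiagram A).map l.hom))).app F₁ ≪≫
      (Scheme.Modules.pullbackCongr (pullback.lift_fst _ _ _)).app F₁ ≪≫ φ⟩⟩

theorem exists_flatAt (F₁ : X₁.Modules) [Coh.IsQCoh F₁] (hF₁ : CohB1.IsFP F₁) {f : X ⟶ Spec (CommRingCat.of A)} {F : X.Modules}
    {q : X ⟶ X₁} (sq : IsPullback q f f₁ ((specCone A).π.app i)) (φ : (Scheme.Modules.pullback q).obj F₁ ≅ F)
    (x : X) (h : FlatMod.IsFlatOverAt f F x) :
    ∃ l : Over i, ∀ q₂ : X ⟶ pullback f₁ ((specDiagram A).map l.hom),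
      q₂ ≫ pullback.fst _ _ = q → q₂ ≫ pullback.snd _ _ = f ≫ (specCone A).π.app l.left →
      FlatMod.IsFlatOverAt (pullback.snd f₁ ((specDiagram A).map l.hom))
        ((Scheme.Modules.pullback (pullback.fst f₁ ((specDiagram A).map l.hom))).obj F₁) (q₂ x) := by
  have hY : IsPullback ((specCone A).π.app i) (𝟙 (specCone A).pt) (𝟙 ((specDiagram A).obj i)) ((specCone A).π.app i) :=
    IsPullback.of_id_fst.flip
  let f' : X ⟶ (specCone A).pt := f
  have h' : FlatMod.IsFlatOverAt f' ((Scheme.Modules.pullback q).obj F₁) x :=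
    Groth.L20.FibreModule.isFlatOverAt_congr f φ.symm h
  obtain ⟨l, hl⟩ := Groth.L02.InjFlat.exists_stage_flatAt (specDiagram A) (specCone A) (isLimitSpecCone A)
    f₁ (𝟙 _) hF₁ hY (f := f') sq x h'
  obtain ⟨v, hva, hvb, hv⟩ := flat_transport f₁ F₁ l (pullback.fst f₁ (pullback.snd _ _))
    (pullback.snd f₁ (pullback.snd _ _)) (IsPullback.of_hasPullback _ _)
  refine ⟨l, fun q₂ h1 h2 => hv (q₂ x) ?_⟩
  convert hl using 1
  rw [← Scheme.Hom.comp_apply]
  refine congrArg (fun m : X ⟶ _ => m x) ?_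
  apply pullback.hom_ext
  · rw [Category.assoc, hva, h1, pullback.lift_fst]
  · rw [Category.assoc, hvb, ← Category.assoc, h2, pullback.lift_snd, Category.assoc]
    congr 1
    apply pullback.hom_ext
    · rw [Category.assoc, pullback.lift_fst, Category.comp_id, Groth.L02.InjFlat.stageMor_fst]
      exact (Category.id_comp _).symm
    · rw [Category.assoc, pullback.lift_snd, (specCone A).w, Groth.L02.InjFlat.stageMor_snd]

theorem exists_flat (F₁ : X₁.Modules) [Coh.IsQCoh F₁] (hF₁ : CohB1.IsFP F₁) {f : X ⟶ Spec (CommRingCat.of A)} {F : X.Modules}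
    {q : X ⟶ X₁} (sq : IsPullback q f f₁ ((specCone A).π.app i)) (φ : (Scheme.Modules.pullback q).obj F₁ ≅ F)
    (h : FlatMod.IsFlatOver f F) :
    ∃ l : Over i, FlatMod.IsFlatOver (pullback.snd f₁ ((specDiagram A).map l.hom))
        ((Scheme.Modules.pullback (pullback.fst f₁ ((specDiagram A).map l.hom))).obj F₁) := by
  have hY : IsPullback ((specCone A).π.app i) (𝟙 (specCone A).pt) (𝟙 ((specDiagram A).obj i)) ((specCone A).π.app i) :=
    IsPullback.of_id_fst.flip
  let f' : X ⟶ (specCone A).pt := f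
  haveI : CompactSpace ((specDiagram A).obj i) := inferInstance
  haveI : QuasiCompact (f₁ ≫ 𝟙 ((specDiagram A).obj i)) := by rw [Category.comp_id]; infer_instance
  have h' : FlatMod.IsFlatOver f' ((Scheme.Modules.pullback q).obj F₁) := fun x =>
    Groth.L20.FibreModule.isFlatOverAt_congr f φ.symm (h x)
  obtain ⟨l, hl⟩ := Groth.L02.InjFlat.exists_stage_flat (D := specDiagram A) (c := specCone A) (isLimitSpecCone A)
    f₁ (𝟙 _) hF₁ hY (f := f') sq h'
  obtain ⟨v, -, -, hv⟩ := flat_transport f₁ F₁ l _ _ (Groth.L19.Limit.isPullback_stageHom f₁ (𝟙 _) l)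
  exact ⟨l, fun z => hv z (hl (v z))⟩

end Groth.L07.FlatAtModel
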