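import Groth.Agent.L07.GenericFree
import Mathlib.RingTheory.Flat.Basic
import Mathlib.RingTheory.Flat.Stability
import Mathlib.RingTheory.Flat.Tensor
import Mathlib.RingTheory.MvPolynomial.Basic
import Mathlib.RingTheory.Adjoin.FG
import Mathlib.RingTheory.Ideal.MinimalPrime.Noetherian

/-! Flatness of a finitely presented module over a polynomial algebra descends to a finitely
generated stage. -/

namespace Groth.L07.FlatDescent

open MvPolynomial

set_option linter.style.haveILetI false

universe u

variable {d n : ℕ}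

/-- The free module `C[X]^n`. -/
abbrev F (d n : ℕ) (C : Type u) [CommRing C] : Type u := Fin n → MvPolynomial (Fin d) C

section Free

variable {C : Type u} [CommRing C]

/-- A monomial vector. -/
noncomputable def em (e : Fin n × (Fin d →₀ ℕ)) : F d n C :=
  Pi.single e.1 (monomial e.2 1)

/-- The coefficient of a vector. -/
noncomputable def co (y : F d n C) (e : Fin n × (Fin d →₀ ℕ)) : C := (y e.1).coeff e.2

/-- The support of a vector. -/
noncomputable def supp (y : F d n C) : Finset (Fin n × (Fin d →₀ ℕ)) :=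
  (Finset.univ : Finset (Fin n)).biUnion fun i => (y i).support.map ⟨Prod.mk i, Prod.mk_right_injective i⟩

theorem co_eq_zero {y : F d n C} {e} (h : e ∉ supp y) : co y e = 0 := by
  by_contra h0
  exact h (Finset.mem_biUnion.mpr ⟨e.1, Finset.mem_univ _, Finset.mem_map.mpr
    ⟨e.2, mem_support_iff.mpr h0, rfl⟩⟩)

theorem sum_em {E : Finset (Fin n × (Fin d →₀ ℕ))} {y : F d n C} (hE : supp y ⊆ E) :
    ∑ e ∈ E, co y e • em e = y := by
  classical
  funext i
  refine MvPolynomial.ext _ _ fun m => ?_
  simp only [Finset.sum_apply, Pi.smul_apply, coeff_sum, coeff_smul, em, smul_eq_mul]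
  rw [Finset.sum_eq_single (i, m)]
  · simp [co, Pi.single_eq_same, coeff_monomial]
  · rintro ⟨j, k⟩ _ hne
    by_cases hj : i = j
    · subst hj
      have : k ≠ m := fun h => hne (by rw [h])
      simp [Pi.single_eq_same, coeff_monomial, this]
    · simp [Pi.single_eq_of_ne hj]
  · intro h
    simp [co_eq_zero (fun hh => h (hE hh))]

theorem mem_smul_top_iff (J : Ideal C) (y : F d n C) :
    y ∈ J • (⊤ : Submodule C (F d n C)) ↔ ∀ e, co y e ∈ J := by
  constructor
  · intro hy e
    refine Submodule.smul_induction_on hy (fun a ha m _ => ?_) (fun a b ha hb => ?_)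
    · simp only [co, Pi.smul_apply, coeff_smul, smul_eq_mul]
      exact J.mul_mem_right _ ha
    · simp only [co, Pi.add_apply, coeff_add]
      exact add_mem ha hb
  · intro h
    rw [← sum_em (Finset.Subset.refl (supp y))]
    exact Submodule.sum_mem _ fun e _ => Submodule.smul_mem_smul (h e) trivial

theorem co_smul (c : C) (y : F d n C) (e) : co (c • y) e = c * co y e := by
  simp [co, coeff_smul]

theorem co_sum {α : Type*} (s : Finset α) (g : α → F d n C) (e) :
    co (∑ a ∈ s, g a) e = ∑ a ∈ s, co (g a) e := by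
  simp [co, coeff_sum]

end Free

variable {R : Type u} [CommRing R]

/-- Coefficientwise extension of scalars. -/
noncomputable def ψ (C : Type u) [CommRing C] [Algebra R C] : F d n R →ₗ[R] F d n C :=
  LinearMap.pi fun i => (MvPolynomial.mapAlgHom (Algebra.ofId R C)).toLinearMap ∘ₗ LinearMap.proj i

variable {C : Type u} [CommRing C] [Algebra R C]

theorem ψ_apply (y : F d n R) (i : Fin n) : ψ C y i = MvPolynomial.map (algebraMap R C) (y i) := rfl

theorem co_ψ (y : F d n R) (e) : co (ψ C y) e = algebraMap R C (co y e) := by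
  simp [co, ψ_apply, coeff_map]

theorem ψ_poly_smul (p : MvPolynomial (Fin d) R) (y : F d n R) :
    ψ C (p • y) = MvPolynomial.map (algebraMap R C) p • ψ C y := by
  funext i; simp [ψ_apply]

variable (C) in
/-- The relations after extension of scalars. -/
noncomputable def KC (K : Submodule (MvPolynomial (Fin d) R) (F d n R)) : Submodule C (F d n C) :=
  Submodule.span C (ψ C '' (K : Set (F d n R)))

variable (K : Submodule (MvPolynomial (Fin d) R) (F d n R))

theorem ψ_mem {y : F d n R} (hy : y ∈ K) : ψ C y ∈ KC C K := Submodule.subset_span ⟨y, hy, rfl⟩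

theorem poly_smul_mem (p : MvPolynomial (Fin d) C) {x : F d n C} (hx : x ∈ KC C K) :
    p • x ∈ KC C K := by
  induction p using MvPolynomial.induction_on generalizing x with
  | C a => rw [← MvPolynomial.algebraMap_eq, algebraMap_smul]; exact Submodule.smul_mem _ a hx
  | add p q hp hq => rw [add_smul]; exact add_mem (hp hx) (hq hx)
  | mul_X p i hp =>
    rw [mul_smul]
    refine hp ?_
    refine Submodule.span_induction (p := fun x _ => (X i : MvPolynomial (Fin d) C) • x ∈ KC C K)
      ?_ (by simp) ?_ ?_ hx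
    · rintro _ ⟨y, hy, rfl⟩
      have := ψ_mem (C := C) K (K.smul_mem (X i) hy)
      rwa [ψ_poly_smul, map_X] at this
    · intro a b _ _ ha hb; rw [smul_add]; exact add_mem ha hb
    · intro c a _ ha; rw [smul_comm]; exact Submodule.smul_mem _ c ha

/-- The relations as a module over the polynomial ring. -/
noncomputable def KP : Submodule (MvPolynomial (Fin d) C) (F d n C) :=
  { (KC C K).toAddSubmonoid with smul_mem' := fun p _ hx => poly_smul_mem K p hx }

/-- A stratum: an ideal `P` and an element `f` of the base such that, after inverting `f`, the relations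
modulo `P` are a direct summand. -/
def IsStratum (P : Ideal R) (f : R) : Prop :=
  ∀ E : Finset (Fin n × (Fin d →₀ ℕ)), ∃ (N : ℕ) (k : Fin n × (Fin d →₀ ℕ) → F d n R),
    (∀ e, k e ∈ K) ∧ ∀ y ∈ K, supp y ⊆ E →
      f ^ N • y - ∑ e ∈ E, co y e • k e ∈ P • (⊤ : Submodule R (F d n R))

/-- The key lemma on a stratum. -/
theorem pow_smul_mem_of_stratum {P : Ideal R} {f : R} (h : IsStratum K P f) (J : Ideal C)
    (hz : ∀ z ∈ K, z ∈ P • (⊤ : Submodule R (F d n R)) → ψ C z ∈ J • KC C K)
    {x : F d n C} (hx : x ∈ KC C K) (hxJ : x ∈ J • (⊤ : Submodule C (F d n C))) :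
    ∃ N : ℕ, algebraMap R C f ^ N • x ∈ J • KC C K := by
  classical
  obtain ⟨t, c, ht, hcx⟩ : ∃ (t : Finset (F d n R)) (c : F d n R → C),
      (∀ y ∈ t, y ∈ K) ∧ ∑ y ∈ t, c y • ψ C y = x := by
    obtain ⟨l, hl, hlx⟩ := (Finsupp.mem_span_image_iff_linearCombination C).mp hx
    exact ⟨l.support, l, fun y hy => (Finsupp.mem_supported C l).mp hl hy,
      by rw [← hlx, Finsupp.linearCombination_apply]; rfl⟩
  obtain ⟨N, k, hk, hkE⟩ := h (t.biUnion supp)
  set E := t.biUnion supp
  refine ⟨N, ?_⟩
  have hy : ∀ y ∈ t, ψ C (f ^ N • y - ∑ e ∈ E, co y e • k e) ∈ J • KC C K := fun y hy => by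
    refine hz _ (sub_mem ?_ (Submodule.sum_mem _ fun e _ => ?_)) (hkE y (ht y hy) ?_)
    · exact K.smul_of_tower_mem _ (ht y hy)
    · exact K.smul_of_tower_mem _ (hk e)
    · exact Finset.subset_biUnion_of_mem supp hy
  have hsplit : algebraMap R C f ^ N • x =
      (∑ y ∈ t, c y • ψ C (f ^ N • y - ∑ e ∈ E, co y e • k e)) +
        ∑ e ∈ E, co x e • ψ C (k e) := by
    have hco : ∀ e, co x e = ∑ y ∈ t, c y * algebraMap R C (co y e) := fun e => by
      rw [← hcx, co_sum]
      simp [co_smul, co_ψ]
    simp only [map_sub, map_smul, map_sum, smul_sub, Finset.smul_sum, Finset.sum_sub_distrib, hco,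
      Finset.sum_smul]
    rw [Finset.sum_comm (s := E) (t := t)]
    simp only [← algebraMap_smul C (co _ _), smul_smul, sub_add_cancel]
    rw [← hcx, Finset.smul_sum]
    exact Finset.sum_congr rfl fun y _ => by
      rw [smul_smul, ← algebraMap_smul C (f ^ N), map_pow, smul_smul, mul_comm]
  rw [hsplit]
  exact add_mem (Submodule.sum_mem _ fun y hy' => Submodule.smul_mem _ _ (hy y hy'))
    (Submodule.sum_mem _ fun e _ =>
      Submodule.smul_mem_smul ((mem_smul_top_iff J x).mp hxJ e) (ψ_mem K (hk e)))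

/-- The quotient. -/
abbrev MC (C : Type u) [CommRing C] [Algebra R C]
    (K : Submodule (MvPolynomial (Fin d) R) (F d n R)) : Type u := F d n C ⧸ KC C K

theorem flat_of_forall (h : ∀ J : Ideal C, J.FG → ∀ x ∈ KC C K,
    x ∈ J • (⊤ : Submodule C (F d n C)) → x ∈ J • KC C K) : Module.Flat C (MC C K) := by
  rw [Module.Flat.iff_lTensor_injective]
  intro J hJ
  rw [injective_iff_map_eq_zero]
  intro z hz
  have hsurj := LinearMap.rTensor_surjective (↥J) (Submodule.mkQ_surjective (KC C K))
  obtain ⟨z', rfl⟩ := hsurj z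
  let μ : ∀ (X : Type u) [AddCommGroup X] [Module C X], TensorProduct C X ↥J →ₗ[C] X :=
    fun X _ _ => (TensorProduct.rid C X).toLinearMap ∘ₗ J.subtype.lTensor X
  have hμ : ∀ (X : Type u) [AddCommGroup X] [Module C X] (x : X) (j : J),
      μ X (x ⊗ₜ[C] j) = (j : C) • x := fun X _ _ x j => by simp [μ]
  have hnat : ∀ w : TensorProduct C (F d n C) ↥J,
      μ _ ((KC C K).mkQ.rTensor J w) = (KC C K).mkQ (μ _ w) := by
    intro w
    induction w using TensorProduct.induction_on with
    | zero => simp
    | tmul a b => rw [LinearMap.rTensor_tmul, hμ, hμ, map_smul]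
    | add a b ha hb => simp [ha, hb]
  have hzK : μ _ z' ∈ KC C K := by
    have : μ _ ((KC C K).mkQ.rTensor J z') = 0 := by
      simp only [μ, LinearMap.comp_apply, hz, map_zero]
    rw [hnat] at this
    exact (Submodule.Quotient.mk_eq_zero _).mp this
  have hrange : ∀ w, μ (F d n C) w ∈ J • (⊤ : Submodule C (F d n C)) := by
    intro w
    induction w using TensorProduct.induction_on with
    | zero => simp
    | tmul a b => rw [hμ]; exact Submodule.smul_mem_smul b.2 trivial
    | add a b ha hb => rw [map_add]; exact add_mem ha hb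
  have hK : ∀ y ∈ J • KC C K, ∃ w : TensorProduct C (KC C K) ↥J,
      μ _ ((KC C K).subtype.rTensor J w) = y := by
    intro y hy
    refine Submodule.smul_induction_on hy (fun a ha m hm => ⟨⟨m, hm⟩ ⊗ₜ[C] ⟨a, ha⟩, ?_⟩) ?_
    · rw [LinearMap.rTensor_tmul, hμ]; rfl
    · rintro _ _ ⟨w, rfl⟩ ⟨w', rfl⟩
      exact ⟨w + w', by simp⟩
  obtain ⟨w, hw⟩ := hK _ (h J hJ _ hzK (hrange z'))
  have hinj : Function.Injective (μ (F d n C)) :=
    (TensorProduct.rid C (F d n C)).injective.comp
      (Module.Flat.lTensor_preserves_injective_linearMap _ J.injective_subtype)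
  rw [← hinj hw, ← LinearMap.comp_apply, ← LinearMap.rTensor_comp,
    show (KC C K).mkQ ∘ₗ (KC C K).subtype = 0 from LinearMap.ext fun y => by
      simpa [Submodule.Quotient.mk_eq_zero] using y.2,
    LinearMap.rTensor_zero, LinearMap.zero_apply]

theorem mem_of_flat [Module.Flat C (MC C K)] (J : Ideal C) {x : F d n C} (hx : x ∈ KC C K)
    (hxJ : x ∈ J • (⊤ : Submodule C (F d n C))) : x ∈ J • KC C K := by
  let μ : ∀ (X : Type u) [AddCommGroup X] [Module C X], TensorProduct C X ↥J →ₗ[C] X :=
    fun X _ _ => (TensorProduct.rid C X).toLinearMap ∘ₗ J.subtype.lTensor X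
  have hμ : ∀ (X : Type u) [AddCommGroup X] [Module C X] (x : X) (j : J),
      μ X (x ⊗ₜ[C] j) = (j : C) • x := fun X _ _ x j => by simp [μ]
  obtain ⟨z, hz⟩ : ∃ z, μ _ z = x := by
    refine Submodule.smul_induction_on hxJ (fun a ha m _ => ⟨m ⊗ₜ[C] ⟨a, ha⟩, hμ _ _ _⟩) ?_
    rintro _ _ ⟨w, rfl⟩ ⟨w', rfl⟩
    exact ⟨w + w', map_add _ _ _⟩
  have hnat : ∀ w : TensorProduct C (F d n C) ↥J,
      μ _ ((KC C K).mkQ.rTensor J w) = (KC C K).mkQ (μ _ w) := by
    intro w
    induction w using TensorProduct.induction_on with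
    | zero => simp
    | tmul a b => rw [LinearMap.rTensor_tmul, hμ, hμ, map_smul]
    | add a b ha hb => simp [ha, hb]
  have hinj : Function.Injective (μ (MC C K)) :=
    (TensorProduct.rid C (MC C K)).injective.comp
      (Module.Flat.lTensor_preserves_injective_linearMap _ J.injective_subtype)
  have h0 : (KC C K).mkQ.rTensor J z = 0 := hinj (by
    rw [hnat, hz, map_zero]; exact (Submodule.Quotient.mk_eq_zero _).mpr hx)
  obtain ⟨w, rfl⟩ := (rTensor_exact (↥J) (LinearMap.exact_subtype_mkQ (KC C K))
    (Submodule.mkQ_surjective _) z).mp h0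
  rw [← hz]
  clear hz h0 hxJ hx
  induction w using TensorProduct.induction_on with
  | zero => simp
  | tmul a b => rw [LinearMap.rTensor_tmul, hμ]; exact Submodule.smul_mem_smul b.2 a.2
  | add a b ha hb => rw [map_add, map_add]; exact add_mem ha hb

/-- Flatness from a stratification. -/
theorem flat_of_strata [IsNoetherianRing C] (S : Finset (Ideal R × R))
    (hS : ∀ s ∈ S, IsStratum K s.1 s.2)
    (hcov : ∀ p : Ideal C, p.IsPrime → ∃ s ∈ S, s.1.map (algebraMap R C) ≤ p ∧ algebraMap R C s.2 ∉ p)
    (hz : ∀ s ∈ S, ∀ z ∈ K, z ∈ s.1 • (⊤ : Submodule R (F d n R)) →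
      ψ C z ∈ s.1.map (algebraMap R C) • KC C K) : Module.Flat C (MC C K) := by
  classical
  refine flat_of_forall K fun J _ => ?_
  induction J using IsNoetherian.induction with
  | hgt J ih =>
    replace ih : ∀ J' : Ideal C, J < J' → ∀ x ∈ KC C K,
        x ∈ J' • (⊤ : Submodule C (F d n C)) → x ∈ J' • KC C K := fun J' h => ih J' h (IsNoetherian.noetherian _)
    intro x hx hxJ
    by_cases htop : J = ⊤
    · rwa [htop, Submodule.top_smul]
    by_cases hp : Ideal.IsPrime J
    · obtain ⟨s, hs, hsJ, hfJ⟩ := hcov J hp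
      set g := algebraMap R C s.2
      have hlt : J < J ⊔ Ideal.span {g} := left_lt_sup.mpr fun h => hfJ (h (Ideal.mem_span_singleton_self g))
      have hmul : ∀ k : F d n C, g • k ∈ J • (⊤ : Submodule C (F d n C)) →
          k ∈ J • (⊤ : Submodule C (F d n C)) := fun k hk => by
        rw [mem_smul_top_iff] at hk ⊢
        intro e
        exact (hp.mem_or_mem (by rw [← co_smul]; exact hk e)).resolve_left hfJ
      have hstep : ∀ y ∈ KC C K, y ∈ J • (⊤ : Submodule C (F d n C)) →
          ∃ a ∈ J • KC C K, ∃ k ∈ KC C K, k ∈ J • (⊤ : Submodule C (F d n C)) ∧ y = a + g • k := by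
        intro y hy hyJ
        have h1 := ih _ hlt y hy (Submodule.smul_mono_left le_sup_left hyJ)
        rw [Submodule.sup_smul, Submodule.ideal_span_singleton_smul, Submodule.mem_sup] at h1
        obtain ⟨a, ha, b, hb, rfl⟩ := h1
        obtain ⟨k, hk, rfl⟩ := (Submodule.mem_smul_pointwise_iff_exists _ _ _).mp hb
        refine ⟨a, ha, k, hk, hmul k ?_, rfl⟩
        exact (Submodule.add_mem_iff_right _ (Submodule.smul_mono le_rfl le_top ha)).mp hyJ
      -- the submodule over the polynomial ring
      let T : Submodule (MvPolynomial (Fin d) C) (F d n C) :=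
        KP K ⊓ Ideal.map (algebraMap C (MvPolynomial (Fin d) C)) J • ⊤
      have hT : ∀ y, y ∈ T ↔ y ∈ KC C K ∧ y ∈ J • (⊤ : Submodule C (F d n C)) := fun y => by
        refine and_congr Iff.rfl ?_
        have e : (J • ⊤ : Submodule C (F d n C)) =
            (Ideal.map (algebraMap C (MvPolynomial (Fin d) C)) J • ⊤ :
              Submodule (MvPolynomial (Fin d) C) (F d n C)).restrictScalars C := by
          rw [Ideal.smul_restrictScalars, Submodule.restrictScalars_top]
        rw [e]; rfl
      obtain ⟨G, hG⟩ := (IsNoetherian.noetherian T : T.FG)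
      have hloc : ∀ y ∈ T, ∃ N : ℕ, g ^ N • y ∈ J • KC C K := fun y hy =>
        pow_smul_mem_of_stratum K (hS s hs) J
          (fun z hz1 hz2 => Submodule.smul_mono_left hsJ (hz s hs z hz1 hz2))
          ((hT y).mp hy).1 ((hT y).mp hy).2
      choose! N hN using hloc
      have hJK : ∀ (p : MvPolynomial (Fin d) C) (y : F d n C), y ∈ J • KC C K → p • y ∈ J • KC C K := by
        intro p y hy
        refine Submodule.smul_induction_on hy (fun a ha m hm => ?_) (fun a b ha hb => ?_)
        · rw [smul_comm]; exact Submodule.smul_mem_smul ha (poly_smul_mem K p hm)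
        · rw [smul_add]; exact add_mem ha hb
      have hall : ∀ y ∈ T, g ^ (G.sup N) • y ∈ J • KC C K := by
        intro y hy
        rw [← hG] at hy
        refine Submodule.span_induction (p := fun y _ => g ^ (G.sup N) • y ∈ J • KC C K)
          ?_ (by simp) (fun a b _ _ ha hb => by rw [smul_add]; exact add_mem ha hb)
          (fun p a _ ha => by rw [smul_comm]; exact hJK p _ ha) hy
        intro y hy'
        obtain ⟨m, hm⟩ := Nat.exists_eq_add_of_le (Finset.le_sup (f := N) hy')
        rw [hm, add_comm, pow_add, mul_smul]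
        exact Submodule.smul_mem _ _ (hN y (hG ▸ Submodule.subset_span hy'))
      have hiter : ∀ m : ℕ, ∀ y ∈ KC C K, y ∈ J • (⊤ : Submodule C (F d n C)) →
          ∃ a ∈ J • KC C K, ∃ k ∈ KC C K, k ∈ J • (⊤ : Submodule C (F d n C)) ∧ y = a + g ^ m • k := by
        intro m
        induction m with
        | zero => exact fun y hy hyJ => ⟨0, zero_mem _, y, hy, hyJ, by simp⟩
        | succ m ihm =>
          intro y hy hyJ
          obtain ⟨a, ha, k, hk, hkJ, rfl⟩ := ihm y hy hyJ
          obtain ⟨b, hb, k', hk', hk'J, rfl⟩ := hstep k hk hkJ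
          exact ⟨a + g ^ m • b, add_mem ha (Submodule.smul_mem _ _ hb), k', hk', hk'J,
            by rw [smul_add, smul_smul, ← pow_succ, add_assoc]⟩
      obtain ⟨a, ha, k, hk, hkJ, rfl⟩ := hiter (G.sup N) x hx hxJ
      exact add_mem ha (hall k ((hT k).mpr ⟨hk, hkJ⟩))
    · rw [Ideal.isPrime_iff] at hp
      push Not at hp
      obtain ⟨a, b, hab, ha, hb⟩ := hp htop
      let J₂ : Ideal C := Submodule.comap (LinearMap.mulLeft C a) J
      have hJ₂ : J < J₂ := lt_of_le_of_ne (fun y hy => Ideal.mul_mem_left J a hy)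
        fun h => hb (h ▸ hab : b ∈ J)
      have h1 := ih (J ⊔ Ideal.span {a})
        (left_lt_sup.mpr fun h => ha (h (Ideal.mem_span_singleton_self a))) x hx
        (Submodule.smul_mono_left le_sup_left hxJ)
      rw [Submodule.sup_smul, Submodule.ideal_span_singleton_smul, Submodule.mem_sup] at h1
      obtain ⟨y, hy, z, hz', rfl⟩ := h1
      obtain ⟨k, hk, rfl⟩ := (Submodule.mem_smul_pointwise_iff_exists _ _ _).mp hz'
      refine add_mem hy ?_
      have hak : a • k ∈ J • (⊤ : Submodule C (F d n C)) :=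
        (Submodule.add_mem_iff_right _ (Submodule.smul_mono le_rfl le_top hy)).mp hxJ
      have hk2 : k ∈ J₂ • (⊤ : Submodule C (F d n C)) := by
        rw [mem_smul_top_iff] at hak ⊢
        intro e
        show a * co k e ∈ J
        rw [← co_smul]; exact hak e
      refine Submodule.smul_induction_on (ih J₂ hJ₂ k hk hk2) (fun c hc m hm => ?_) (fun u v hu hv => ?_)
      · rw [smul_smul]; exact Submodule.smul_mem_smul hc hm
      · rw [smul_add]; exact add_mem hu hv

/-- Existence of stratifications. -/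
theorem exists_strata [IsNoetherianRing R] : ∃ S : Finset (Ideal R × R),
    (∀ s ∈ S, IsStratum K s.1 s.2) ∧ ∀ p : Ideal R, p.IsPrime → ∃ s ∈ S, s.1 ≤ p ∧ s.2 ∉ p := by
  classical
  suffices H : ∀ I : Ideal R, ∃ S : Finset (Ideal R × R), (∀ s ∈ S, IsStratum K s.1 s.2) ∧
      ∀ p : Ideal R, p.IsPrime → I ≤ p → ∃ s ∈ S, s.1 ≤ p ∧ s.2 ∉ p by
    obtain ⟨S, hS, hcov⟩ := H ⊥
    exact ⟨S, hS, fun p hp => hcov p hp bot_le⟩
  intro I
  induction I using IsNoetherian.induction with
  | hgt I ih =>
    by_cases htop : I = ⊤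
    · exact ⟨∅, by simp, fun p hp hIp => absurd (eq_top_iff.mpr (htop ▸ hIp)) hp.ne_top⟩
    by_cases hI : Ideal.IsPrime I
    · haveI := hI
      let R' := R ⧸ I
      haveI : IsNoetherianRing R' :=
        isNoetherianRing_of_surjective R _ (Ideal.Quotient.mk I) Ideal.Quotient.mk_surjective
      let K' : Submodule (MvPolynomial (Fin d) R') (F d n R') := KP (C := R') K
      obtain ⟨f', hf', hfree⟩ := GenFree.exists_freeAt (R := R') (S := MvPolynomial (Fin d) R')
        (F d n R' ⧸ K')
      obtain ⟨f, rfl⟩ := Ideal.Quotient.mk_surjective f'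
      have hf : f ∉ I := fun h => hf' (Ideal.Quotient.eq_zero_iff_mem.mpr h)
      have hstr : IsStratum K I f := by
        obtain ⟨s, hs, hgen⟩ := hfree
        intro E
        let q : F d n R →ₗ[R] F d n R' ⧸ K' :=
          (Submodule.mkQ K').restrictScalars R ∘ₗ ψ R'
        have hψs : Function.Surjective (ψ (d := d) (n := n) (R := R) R') := fun y => by
          choose p hp using fun i => MvPolynomial.map_surjective (algebraMap R R')
            Ideal.Quotient.mk_surjective (y i)
          exact ⟨p, funext hp⟩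
        have hqs : ∀ a : s, ∃ y', q y' = (a : F d n R' ⧸ K') := fun a => by
          obtain ⟨y, hy⟩ := Submodule.mkQ_surjective K' (a : F d n R' ⧸ K')
          obtain ⟨y', rfl⟩ := hψs y
          exact ⟨y', hy⟩
        choose w hw using hqs
        have hψI : ∀ y, ψ R' y = 0 ↔ y ∈ I • (⊤ : Submodule R (F d n R)) := fun y => by
          rw [mem_smul_top_iff]
          constructor
          · intro h e
            have := co_ψ (C := R') y e
            rw [h] at this
            exact Ideal.Quotient.eq_zero_iff_mem.mp (this.symm.trans (by simp [co]))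
          · intro h
            funext i
            refine MvPolynomial.ext _ _ fun m => ?_
            rw [ψ_apply, coeff_map, Pi.zero_apply, coeff_zero]
            exact Ideal.Quotient.eq_zero_iff_mem.mpr (h (i, m))
        have hK' : ∀ y ∈ KC R' K, ∃ k ∈ K, ψ R' k = y := by
          intro y hy
          refine Submodule.span_induction (p := fun y _ => ∃ k ∈ K, ψ R' k = y) ?_
            ⟨0, zero_mem _, map_zero _⟩ ?_ ?_ hy
          · rintro _ ⟨k, hk, rfl⟩; exact ⟨k, hk, rfl⟩
          · rintro _ _ _ _ ⟨a, ha, rfl⟩ ⟨b, hb, rfl⟩; exact ⟨a + b, add_mem ha hb, map_add _ _ _⟩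
          · rintro c _ _ ⟨a, ha, rfl⟩
            obtain ⟨c, rfl⟩ := Ideal.Quotient.mk_surjective c
            exact ⟨c • a, K.smul_of_tower_mem _ ha, map_smul _ _ _⟩
        choose N hN using fun e : Fin n × (Fin d →₀ ℕ) => hgen (q (em e))
        let N₀ := E.sup N
        have hlift : ∀ x ∈ Submodule.span R' s, ∃ u ∈ Submodule.span R (Set.range w), q u = x := by
          intro x hx
          refine Submodule.span_induction (p := fun x _ => ∃ u ∈ Submodule.span R (Set.range w), q u = x)
            (fun x hx => ⟨w ⟨x, hx⟩, Submodule.subset_span ⟨_, rfl⟩, hw ⟨x, hx⟩⟩)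
            ⟨0, zero_mem _, map_zero _⟩ ?_ ?_ hx
          · rintro _ _ _ _ ⟨a, ha, rfl⟩ ⟨b, hb, rfl⟩
            exact ⟨a + b, add_mem ha hb, map_add _ _ _⟩
          · rintro c _ _ ⟨a, ha, rfl⟩
            obtain ⟨c, rfl⟩ := Ideal.Quotient.mk_surjective c
            exact ⟨c • a, Submodule.smul_mem _ _ ha, map_smul _ _ _⟩
        have hqmem : ∀ y, q y = 0 → ∃ k ∈ K, y - k ∈ I • (⊤ : Submodule R (F d n R)) := fun y hy => by
          obtain ⟨k, hk, hke⟩ := hK' _ ((Submodule.Quotient.mk_eq_zero K').mp hy)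
          exact ⟨k, hk, (hψI _).mp (by rw [map_sub, hke, sub_self])⟩
        have hdec : ∀ e, ∃ u ∈ Submodule.span R (Set.range w), ∃ k ∈ K, e ∈ E →
            f ^ N₀ • em e - u - k ∈ I • (⊤ : Submodule R (F d n R)) := by
          intro e
          by_cases he : e ∈ E
          swap
          · exact ⟨0, zero_mem _, 0, zero_mem _, fun h => absurd h he⟩
          obtain ⟨m, hm⟩ := Nat.exists_eq_add_of_le (Finset.le_sup (f := N) he)
          have h1 : f ^ N₀ • q (em e) ∈ Submodule.span R' s := by
            rw [show N₀ = m + N e by omega, pow_add, mul_smul, ← algebraMap_smul R' (f ^ m),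
              ← algebraMap_smul R' (f ^ N e), map_pow, map_pow]
            exact Submodule.smul_mem _ _ (hN e)
          obtain ⟨u, hu, hqu⟩ := hlift _ h1
          obtain ⟨k, hk, hke⟩ := hqmem (f ^ N₀ • em e - u) (by rw [map_sub, map_smul, hqu, sub_self])
          exact ⟨u, hu, k, hk, fun _ => hke⟩
        choose u hu k hk hke using hdec
        refine ⟨N₀, k, hk, fun y hy hyE => ?_⟩
        set U := ∑ e ∈ E, co y e • u e
        have hdiff : f ^ N₀ • y - U - ∑ e ∈ E, co y e • k e ∈ I • (⊤ : Submodule R (F d n R)) := by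
          have : f ^ N₀ • y - U - ∑ e ∈ E, co y e • k e =
              ∑ e ∈ E, co y e • (f ^ N₀ • em e - u e - k e) := by
            simp only [U, smul_sub, Finset.sum_sub_distrib, smul_comm (co y _) (f ^ N₀),
              ← Finset.smul_sum, sum_em hyE]
          rw [this]
          exact Submodule.sum_mem _ fun e he => Submodule.smul_mem _ _ (hke e he)
        have hU : U ∈ Submodule.span R (Set.range w) :=
          Submodule.sum_mem _ fun e _ => Submodule.smul_mem _ _ (hu e)
        have hqI : ∀ y, y ∈ I • (⊤ : Submodule R (F d n R)) → q y = 0 := fun y hy => by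
          simp only [q, LinearMap.comp_apply, (hψI y).mpr hy, map_zero]
        have hqK : ∀ y ∈ K, q y = 0 := fun y hy =>
          (Submodule.Quotient.mk_eq_zero K').mpr (ψ_mem K hy)
        have hqU : q U = 0 := by
          have h1 := hqI _ hdiff
          have hk0 : q (∑ e ∈ E, co y e • k e) = 0 := by
            rw [map_sum]
            exact Finset.sum_eq_zero fun e _ => by rw [map_smul, hqK _ (hk e), smul_zero]
          rw [map_sub, map_sub, map_smul, hqK y hy, hk0, smul_zero, zero_sub, sub_zero, neg_eq_zero] at h1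
          exact h1
        obtain ⟨l, hl⟩ := (Finsupp.mem_span_range_iff_exists_finsupp).mp hU
        have hlI : ∀ a, l a ∈ I := by
          intro a
          have h1 : ∑ b ∈ l.support, (Ideal.Quotient.mk I (l b)) • (b : F d n R' ⧸ K') = 0 := by
            rw [← hqU, ← hl, Finsupp.sum, map_sum]
            exact Finset.sum_congr rfl fun b _ => by
              rw [map_smul, hw, ← algebraMap_smul R' (l b)]; rfl
          have h2 := linearIndependent_iff'.mp hs l.support _ h1
          by_cases ha : a ∈ l.support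
          · exact Ideal.Quotient.eq_zero_iff_mem.mp (h2 a ha)
          · rw [Finsupp.notMem_support_iff.mp ha]; exact zero_mem _
        have hUI : U ∈ I • (⊤ : Submodule R (F d n R)) := by
          rw [← hl]
          exact Submodule.sum_mem _ fun b _ => Submodule.smul_mem_smul (hlI b) trivial
        have := add_mem hdiff hUI
        rwa [sub_right_comm, sub_add_cancel] at this
      obtain ⟨S, hS, hcov⟩ := ih (I ⊔ Ideal.span {f})
        (left_lt_sup.mpr fun h => hf (h (Ideal.mem_span_singleton_self f)))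
      refine ⟨insert (I, f) S, fun s hs => ?_, fun p hp hIp => ?_⟩
      · rcases Finset.mem_insert.mp hs with rfl | hs
        exacts [hstr, hS s hs]
      · by_cases hfp : f ∈ p
        · obtain ⟨s, hs, h⟩ := hcov p hp (sup_le hIp ((Ideal.span_singleton_le_iff_mem p).mpr hfp))
          exact ⟨s, Finset.mem_insert_of_mem hs, h⟩
        · exact ⟨(I, f), Finset.mem_insert_self _ _, hIp, hfp⟩
    · have hfin := Ideal.finite_minimalPrimes_of_isNoetherianRing R I
      have hlt : ∀ P ∈ hfin.toFinset, I < P := fun P hP =>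
        lt_of_le_of_ne ((hfin.mem_toFinset.mp hP).1.2) (fun h => hI (h ▸ (hfin.mem_toFinset.mp hP).1.1))
      choose! S hS hcov using fun P hP => ih P (hlt P hP)
      refine ⟨hfin.toFinset.biUnion S, fun s hs => ?_, fun p hp hIp => ?_⟩
      · obtain ⟨P, hP, hs⟩ := Finset.mem_biUnion.mp hs
        exact hS P hP s hs
      · haveI := hp
        obtain ⟨P, hP, hPp⟩ := Ideal.exists_minimalPrimes_le hIp
        obtain ⟨s, hs, h⟩ := hcov P (hfin.mem_toFinset.mpr hP) p hp hPp
        exact ⟨s, Finset.mem_biUnion.mpr ⟨P, hfin.mem_toFinset.mpr hP, hs⟩, h⟩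

/-- A finite subset of scalars of which the generated stage is flat. -/
theorem exists_fg_stage [IsNoetherianRing R] (A : Type u) [CommRing A] [Algebra R A]
    [Module.Flat A (MC A K)] : ∃ B : Subalgebra R A, B.FG ∧ Module.Flat B (MC B K) := by
  classical
  obtain ⟨S, hS, hcov⟩ := exists_strata K
  -- generators of `K ∩ P F`
  let T : Ideal R → Submodule (MvPolynomial (Fin d) R) (F d n R) := fun P =>
    K ⊓ Ideal.map (algebraMap R (MvPolynomial (Fin d) R)) P • ⊤
  have hT : ∀ P y, y ∈ T P ↔ y ∈ K ∧ y ∈ P • (⊤ : Submodule R (F d n R)) := fun P y => by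
    refine and_congr Iff.rfl ?_
    have e : (P • ⊤ : Submodule R (F d n R)) =
        (Ideal.map (algebraMap R (MvPolynomial (Fin d) R)) P • ⊤ :
          Submodule (MvPolynomial (Fin d) R) (F d n R)).restrictScalars R := by
      rw [Ideal.smul_restrictScalars, Submodule.restrictScalars_top]
    rw [e]; rfl
  choose G hG using fun P => (IsNoetherian.noetherian (T P) : (T P).FG)
  -- scalars needed for each generator
  have hcoef : ∀ (P : Ideal R) (z : F d n R), ∃ U : Finset A, z ∈ T P → ∀ (B : Subalgebra R A),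
      (U : Set A) ⊆ B → ψ B z ∈ P.map (algebraMap R B) • KC B K := by
    intro P z
    by_cases hz : z ∈ T P
    swap
    · exact ⟨∅, fun h => absurd h hz⟩
    have h1 : ψ A z ∈ P.map (algebraMap R A) • KC A K := mem_of_flat K _ (ψ_mem K ((hT P z).mp hz).1)
      ((mem_smul_top_iff _ _).mpr fun e => by
        rw [co_ψ]; exact Ideal.mem_map_of_mem _ ((mem_smul_top_iff _ _).mp ((hT P z).mp hz).2 e))
    suffices H : ∃ U : Finset A, ∀ (B : Subalgebra R A), (U : Set A) ⊆ B →
        ∃ y ∈ P.map (algebraMap R B) • KC B K,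
          (fun i => MvPolynomial.map B.val.toRingHom (y i)) = ψ A z by
      obtain ⟨U, hU⟩ := H
      refine ⟨U, fun _ B hB => ?_⟩
      obtain ⟨y, hy, hye⟩ := hU B hB
      suffices ψ B z = y by rw [this]; exact hy
      funext i
      refine MvPolynomial.map_injective B.val.toRingHom Subtype.val_injective ?_
      rw [congrFun hye i, ψ_apply, ψ_apply, MvPolynomial.map_map]
      rfl
    let SA : Set (F d n A) := {w | ∃ (r : R) (k : F d n R) (a : A), r ∈ P ∧ k ∈ K ∧
      w = (algebraMap R A r * a) • ψ A k}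
    have hSA : ψ A z ∈ AddSubmonoid.closure SA := by
      refine Submodule.smul_induction_on h1 (fun c hc m hm => ?_) (fun _ _ => add_mem)
      refine Submodule.span_induction (p := fun m _ => ∀ c ∈ P.map (algebraMap R A), c • m ∈ AddSubmonoid.closure SA)
        ?_ (fun c _ => by rw [smul_zero]; exact zero_mem _)
        (fun a b _ _ ha hb c hc => by rw [smul_add]; exact add_mem (ha c hc) (hb c hc))
        (fun a m _ hm c hc => by rw [smul_smul]; exact hm _ (Ideal.mul_mem_right _ _ hc)) hm c hc
      rintro _ ⟨k, hk, rfl⟩ c hc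
      suffices ∀ a : A, (a * c) • ψ A k ∈ AddSubmonoid.closure SA by simpa using this 1
      refine Submodule.span_induction (p := fun c _ => ∀ a : A, (a * c) • ψ A k ∈ AddSubmonoid.closure SA)
        ?_ (fun a => by rw [mul_zero, zero_smul]; exact zero_mem _)
        (fun x y _ _ hx hy a => by rw [mul_add, add_smul]; exact add_mem (hx a) (hy a))
        (fun b x _ hx a => by rw [smul_eq_mul, ← mul_assoc]; exact hx _) hc
      rintro _ ⟨r, hr, rfl⟩ a
      exact AddSubmonoid.subset_closure ⟨r, k, a, hr, hk, by rw [mul_comm]⟩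
    refine AddSubmonoid.closure_induction (motive := fun v _ => ∃ U : Finset A, ∀ (B : Subalgebra R A),
      (U : Set A) ⊆ B → ∃ y ∈ P.map (algebraMap R B) • KC B K,
        (fun i => MvPolynomial.map B.val.toRingHom (y i)) = v) ?_ ?_ ?_ hSA
    · rintro _ ⟨r, k, a, hr, hk, rfl⟩
      refine ⟨{a}, fun B hB => ⟨(algebraMap R B r * ⟨a, hB (Finset.mem_singleton_self a)⟩) • ψ B k,
        ?_, ?_⟩⟩
      · rw [mul_smul]
        exact Submodule.smul_mem_smul (Ideal.mem_map_of_mem _ hr) (Submodule.smul_mem _ _ (ψ_mem K hk))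
      · funext i
        simp only [Pi.smul_apply, ψ_apply, MvPolynomial.smul_eq_C_mul, map_mul, MvPolynomial.map_C,
          MvPolynomial.map_map]
        rfl
    · exact ⟨∅, fun B _ => ⟨0, zero_mem _, by funext i; simp⟩⟩
    · rintro v v' _ _ ⟨U, hU⟩ ⟨U', hU'⟩
      refine ⟨U ∪ U', fun B hB => ?_⟩
      rw [Finset.coe_union] at hB
      obtain ⟨y, hy, rfl⟩ := hU B (Set.subset_union_left.trans hB)
      obtain ⟨y', hy', rfl⟩ := hU' B (Set.subset_union_right.trans hB)
      exact ⟨y + y', add_mem hy hy', by funext i; simp⟩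
  choose U hU using hcoef
  let W : Finset A := S.biUnion fun s => (G s.1).biUnion (U s.1)
  let B := Algebra.adjoin R (W : Set A)
  have hB : B.FG := ⟨W, rfl⟩
  haveI : Algebra.FiniteType R B := B.fg_iff_finiteType.mp hB
  haveI : IsNoetherianRing B := Algebra.FiniteType.isNoetherianRing R B
  refine ⟨B, hB, flat_of_strata K S hS (fun p hp => ?_) (fun s hs z hz1 hz2 => ?_)⟩
  · obtain ⟨s, hs, h1, h2⟩ := hcov (p.comap (algebraMap R B)) (hp.comap _)
    exact ⟨s, hs, Ideal.map_le_iff_le_comap.mpr h1, h2⟩
  · have hgen : ∀ y ∈ (G s.1 : Set (F d n R)), ψ B y ∈ s.1.map (algebraMap R B) • KC B K := fun y hy =>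
      hU s.1 y (hG s.1 ▸ Submodule.subset_span hy) B fun a ha => Algebra.subset_adjoin
        (Finset.mem_biUnion.mpr ⟨s, hs, Finset.mem_biUnion.mpr ⟨y, hy, ha⟩⟩)
    have hzT : z ∈ T s.1 := (hT _ z).mpr ⟨hz1, hz2⟩
    rw [← hG] at hzT
    refine Submodule.span_induction (p := fun z _ => ψ B z ∈ s.1.map (algebraMap R B) • KC B K)
      hgen (by simp) (fun a b _ _ ha hb => by rw [map_add]; exact add_mem ha hb)
      (fun c a _ ha => ?_) hzT
    rw [ψ_poly_smul]
    refine Submodule.smul_induction_on ha (fun r hr m hm => ?_) (fun u v hu hv => ?_)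
    · rw [smul_comm]; exact Submodule.smul_mem_smul hr (poly_smul_mem K _ hm)
    · rw [smul_add]; exact add_mem hu hv

end Groth.L07.FlatDescent
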