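import Groth.Agent.S0390
import Mathlib.RingTheory.Flat.EquationalCriterion
import Mathlib.RingTheory.Filtration
import Mathlib.RingTheory.TensorProduct.Quotient
import Mathlib.LinearAlgebra.Dual.Lemmas

/-!
Descent of flatness along families of local homomorphisms (EGA IV 11.5), the linear algebra part.
-/

universe u

open TensorProduct

namespace Groth.L07.FlatFamily

set_option autoImplicit false
set_option linter.style.haveILetI false

/-- The images in `N` of vectors which are independent modulo `m_A` are independent modulo `m_R`. -/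
def Detects (A : Type u) [CommRing A] [IsLocalRing A] (M : Type u) [AddCommGroup M] [Module A M]
    (R : Type u) [CommRing R] [IsLocalRing R] {J : Type u} (N : J → Type u) [∀ j, AddCommGroup (N j)]
    [∀ j, Module R (N j)] [∀ j, Module A (N j)] (ρ : ∀ j, M →ₗ[A] N j) : Prop :=
  ∀ (n : ℕ) (v : Fin n → M),
    (∀ a : Fin n → A, ∑ l, a l • v l ∈ IsLocalRing.maximalIdeal A • (⊤ : Submodule A M) →
      ∀ l, a l ∈ IsLocalRing.maximalIdeal A) →
    ∀ d : Fin n → R, (∀ j, ∑ l, d l • ρ j (v l) ∈ IsLocalRing.maximalIdeal R • (⊤ : Submodule R (N j))) →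
      ∀ l, d l ∈ IsLocalRing.maximalIdeal R

/-- Elements of an extended submodule as explicit sums. -/
theorem exists_sum_of_mem_smul_top {R M : Type u} [CommRing R] [AddCommGroup M] [Module R M] (I : Ideal R) {x : M}
    (hx : x ∈ I • (⊤ : Submodule R M)) :
    ∃ (k : ℕ) (w : Fin k → I) (z : Fin k → M), x = ∑ p, (w p : R) • z p := by
  refine Submodule.smul_induction_on hx (fun r hr y _ => ⟨1, fun _ => ⟨r, hr⟩, fun _ => y, by simp⟩) ?_
  rintro _ _ ⟨k, w, z, rfl⟩ ⟨k', w', z', rfl⟩
  refine ⟨k + k', Fin.append w w', Fin.append z z', ?_⟩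
  simp [Fin.sum_univ_add]

/-- Coefficients of relations among independent elements of flat modules. -/
theorem coeff_mem {R : Type u} [CommRing R] [IsLocalRing R] {J : Type u} (N : J → Type u) [∀ j, AddCommGroup (N j)]
    [∀ j, Module R (N j)] [∀ j, Module.Flat R (N j)] {n : ℕ} (c : Fin n → R) (I : Ideal R) (e : ∀ j, Fin n → N j)
    (h0 : ∀ j, ∑ l, c l • e j l ∈ I • (⊤ : Submodule R (N j)))
    (hdet : ∀ d : Fin n → R, (∀ j, ∑ l, d l • e j l ∈ IsLocalRing.maximalIdeal R • (⊤ : Submodule R (N j))) →
      ∀ l, d l ∈ IsLocalRing.maximalIdeal R) :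
    ∀ l, c l ∈ I := by
  classical
  let dot : (Fin n → R) →ₗ[R] R ⧸ I := I.mkQ ∘ₗ Fintype.linearCombination R c
  have hdot : ∀ x, dot x = I.mkQ (∑ l, x l * c l) := fun x => by
    simp [dot, Fintype.linearCombination_apply]
  let O := LinearMap.ker dot
  suffices hO : O = ⊤ by
    intro l
    have h1 : Pi.single l (1 : R) ∈ O := hO ▸ Submodule.mem_top
    rw [LinearMap.mem_ker, hdot, Submodule.mkQ_apply, Submodule.Quotient.mk_eq_zero] at h1
    simpa [Pi.single_apply] using h1
  by_contra hO
  obtain ⟨N', hN', hle⟩ := (eq_top_or_exists_le_coatom O).resolve_left hO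
  haveI : IsSimpleModule R ((Fin n → R) ⧸ N') := isSimpleModule_iff_isCoatom.mpr hN'
  obtain ⟨I', hI', ⟨e'⟩⟩ := isSimpleModule_iff_quot_maximal.mp ‹IsSimpleModule R ((Fin n → R) ⧸ N')›
  have hIm : I' = IsLocalRing.maximalIdeal R := IsLocalRing.eq_maximalIdeal hI'
  subst hIm
  let π : R →+* R ⧸ IsLocalRing.maximalIdeal R := Ideal.Quotient.mk _
  let φ : (Fin n → R) →ₗ[R] R ⧸ IsLocalRing.maximalIdeal R := e'.toLinearMap ∘ₗ N'.mkQ
  choose d hd using fun l => Ideal.Quotient.mk_surjective (φ (Pi.single l 1))
  have hφd : ∀ x : Fin n → R, φ x = π (∑ l, x l * d l) := fun x => by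
    conv_lhs => rw [pi_eq_sum_univ' x]
    rw [map_sum, map_sum]
    refine Finset.sum_congr rfl fun l _ => ?_
    rw [map_smul, map_mul, ← hd l]
    rfl
  have hφO : ∀ x ∈ O, φ x = 0 := fun x hx => by
    show e' (N'.mkQ x) = 0
    rw [Submodule.mkQ_apply, (Submodule.Quotient.mk_eq_zero _).mpr (hle hx), map_zero]
  have hker : ∀ j, ∑ l, d l • e j l ∈ IsLocalRing.maximalIdeal R • (⊤ : Submodule R (N j)) := fun j => by
    obtain ⟨k, w, hw, hsum⟩ := exists_sum_of_mem_smul_top I (h0 j)
    have hrel : ∑ i : Fin n ⊕ Fin k, (Sum.elim c fun p => -(w p : R)) i • (Sum.elim (e j) hw) i = 0 := by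
      rw [Fintype.sum_sum_type]
      simp only [Sum.elim_inl, Sum.elim_inr, neg_smul, Finset.sum_neg_distrib, hsum, add_neg_cancel]
    obtain ⟨p, a, y, hy, ha⟩ := Module.Flat.isTrivialRelation_of_sum_smul_eq_zero hrel
    have hrow : ∀ r, (fun l => a (Sum.inl l) r) ∈ O := fun r => by
      rw [LinearMap.mem_ker, hdot, Submodule.mkQ_apply, Submodule.Quotient.mk_eq_zero]
      have := ha r
      rw [Fintype.sum_sum_type] at this
      simp only [Sum.elim_inl, Sum.elim_inr] at this
      rw [show ∑ l, a (Sum.inl l) r * c l = -∑ s, -(w s : R) * a (Sum.inr s) r from by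
        rw [eq_neg_iff_add_eq_zero, ← this]; congr 1; exact Finset.sum_congr rfl fun l _ => mul_comm _ _]
      refine neg_mem (sum_mem fun s _ => I.mul_mem_right _ (neg_mem (w s).2))
    have hexp : ∑ l, d l • e j l = ∑ r, (∑ l, a (Sum.inl l) r * d l) • y r := by
      simp only [Finset.sum_smul]
      rw [Finset.sum_comm]
      refine Finset.sum_congr rfl fun l _ => ?_
      rw [show e j l = ∑ r, a (Sum.inl l) r • y r from hy (Sum.inl l), Finset.smul_sum]
      exact Finset.sum_congr rfl fun r _ => by rw [smul_smul, mul_comm]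
    rw [hexp]
    refine Submodule.sum_mem _ fun r _ => Submodule.smul_mem_smul ?_ Submodule.mem_top
    rw [← Ideal.Quotient.eq_zero_iff_mem]
    show π _ = 0
    rw [← hφd]
    exact hφO _ (hrow r)
  obtain ⟨x, hx⟩ := (e'.surjective.comp (Submodule.mkQ_surjective N')) (π 1)
  have h1 : φ x = 0 := by
    rw [hφd, Ideal.Quotient.eq_zero_iff_mem]
    exact Ideal.sum_mem _ fun l _ => Ideal.mul_mem_left _ _ (hdet d hker l)
  exact (IsLocalRing.maximalIdeal.isMaximal R).ne_top ((Ideal.eq_top_iff_one _).mpr
    (Ideal.Quotient.eq_zero_iff_mem.mp (hx.symm.trans h1)))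

variable {A B M : Type u} [CommRing A] [IsNoetherianRing A] [IsLocalRing A] [CommRing B] [IsNoetherianRing B]
  [IsLocalRing B] [Algebra A B] [IsLocalHom (algebraMap A B)] [AddCommGroup M] [Module A M] [Module B M]
  [IsScalarTower A B M] [Module.Finite B M]

include B in
/-- Flatness descends along a family defining the adic topology, if the family detects independence. -/
theorem flat_of_detects {ι : Type u} (R : ι → Type u) [∀ i, CommRing (R i)] [∀ i, IsLocalRing (R i)]
    [∀ i, Algebra A (R i)] {J : ι → Type u} (N : ∀ i, J i → Type u) [∀ i j, AddCommGroup (N i j)]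
    [∀ i j, Module (R i) (N i j)] [∀ i j, Module A (N i j)] [∀ i j, IsScalarTower A (R i) (N i j)]
    [∀ i j, Module.Flat (R i) (N i j)] (ρ : ∀ i j, M →ₗ[A] N i j)
    (hdet : ∀ i, Detects A M (R i) (N i) (ρ i))
    (htop : ∀ k : ℕ, ∃ I : ∀ i, Ideal (R i),
      (∀ a : A, (∀ i, algebraMap A (R i) a ∈ I i) → a ∈ IsLocalRing.maximalIdeal A ^ k) ∧
      ∃ K : ℕ, ∀ i, (IsLocalRing.maximalIdeal A ^ K).map (algebraMap A (R i)) ≤ I i) :
    Module.Flat A M := by
  classical
  let m := IsLocalRing.maximalIdeal A
  let k₀ := A ⧸ m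
  letI : Field k₀ := Ideal.Quotient.field m
  let b := Module.Basis.ofVectorSpace k₀ (k₀ ⊗[A] M)
  choose v hv using fun l => TensorProduct.mk_surjective A M k₀ Ideal.Quotient.mk_surjective (b l)
  let P := Finsupp.linearCombination A v
  have hkerm : ∀ x : M, (1 : k₀) ⊗ₜ[A] x = 0 → x ∈ m • (⊤ : Submodule A M) := fun x hx => by
    have h := congrArg (TensorProduct.quotTensorEquivQuotSMul M m) hx
    rw [show (1 : k₀) = Ideal.Quotient.mk m 1 from rfl, TensorProduct.quotTensorEquivQuotSMul_mk_tmul, one_smul,
      map_zero] at h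
    exact (Submodule.Quotient.mk_eq_zero _).mp h
  have hmem0 : ∀ x ∈ m • (⊤ : Submodule A M), (1 : k₀) ⊗ₜ[A] x = 0 := fun x hx => by
    refine Submodule.smul_induction_on hx (fun r hr y _ => ?_) fun y z hy hz => by rw [TensorProduct.tmul_add, hy, hz, add_zero]
    rw [← TensorProduct.smul_tmul, Algebra.smul_def, mul_one]
    show (Ideal.Quotient.mk m r) ⊗ₜ[A] y = 0
    rw [Ideal.Quotient.eq_zero_iff_mem.mpr hr, TensorProduct.zero_tmul]
  have hP : ∀ c, (1 : k₀) ⊗ₜ[A] P c = c.sum fun l a => Ideal.Quotient.mk m a • b l := fun c => by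
    show TensorProduct.mk A k₀ M 1 (P c) = _
    rw [Finsupp.linearCombination_apply, map_finsuppSum]
    refine Finsupp.sum_congr fun l _ => ?_
    rw [map_smul, ← hv l]
    exact (IsScalarTower.algebraMap_smul k₀ (c l) _).symm
  have hindep : ∀ c, P c ∈ m • (⊤ : Submodule A M) → ∀ l, c l ∈ m := fun c hc l => by
    have h := congrArg b.repr ((hP c).symm.trans (hmem0 _ hc))
    rw [map_zero] at h
    by_cases hl : l ∈ c.support
    · have h2 := DFunLike.congr_fun h l
      rw [map_finsuppSum, Finsupp.sum, Finsupp.finsetSum_apply, Finsupp.zero_apply,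
        Finset.sum_eq_single l (fun l' _ hne => by simp [hne]) (fun hn => absurd hl hn)] at h2
      refine Ideal.Quotient.eq_zero_iff_mem.mp ?_
      simpa using h2
    · rw [Finsupp.notMem_support_iff.mp hl]; exact zero_mem m
  let S := LinearMap.range P
  have hS : ∀ K, S ⊔ m ^ K • (⊤ : Submodule A M) = ⊤ := by
    have h1 : S ⊔ m • (⊤ : Submodule A M) = ⊤ := eq_top_iff.mpr fun x _ => by
      obtain ⟨c, hc⟩ : ∃ c, (1 : k₀) ⊗ₜ[A] P c = (1 : k₀) ⊗ₜ[A] x := by
        let r := b.repr ((1 : k₀) ⊗ₜ[A] x)
        refine ⟨r.mapRange (fun a => if a = 0 then 0 else (Ideal.Quotient.mk_surjective a).choose) (if_pos rfl), ?_⟩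
        rw [hP, Finsupp.sum_mapRange_index (fun l => by rw [map_zero, zero_smul])]
        refine Eq.trans (Finsupp.sum_congr fun l hl => ?_) (b.linearCombination_repr _)
        rw [if_neg (Finsupp.mem_support_iff.mp hl), (Ideal.Quotient.mk_surjective _).choose_spec]
        rfl
      rw [← add_sub_cancel (P c) x]
      refine Submodule.add_mem _ (Submodule.mem_sup_left ⟨c, rfl⟩) (Submodule.mem_sup_right (hkerm _ ?_))
      rw [TensorProduct.tmul_sub, hc, sub_self]
    intro K
    induction K with
    | zero => rw [pow_zero, Ideal.one_eq_top, Submodule.top_smul, sup_top_eq]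
    | succ K ih =>
      refine eq_top_iff.mpr (ih.ge.trans (sup_le le_sup_left ?_))
      conv_lhs => rw [← h1, Submodule.smul_sup, ← Submodule.mul_smul, ← pow_succ]
      exact sup_le_sup_right Submodule.smul_le_right _
  have hcoef : ∀ K c, P c ∈ m ^ K • (⊤ : Submodule A M) → ∀ l, c l ∈ m ^ K := by
    intro K c hc
    obtain ⟨I, hI, K', hK'⟩ := htop K
    have h2 : m ^ K • (⊤ : Submodule A M) ≤ m ^ K • S ⊔ m ^ K' • ⊤ := by
      conv_lhs => rw [← hS K', Submodule.smul_sup]
      exact sup_le_sup_left (Submodule.smul_le_right) _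
    obtain ⟨s, hs, z, hz, hsz⟩ := Submodule.mem_sup.mp (h2 hc)
    have hS' : S = Submodule.span A (Set.range v) := Finsupp.range_linearCombination _
    rw [hS', Submodule.mem_ideal_smul_span_iff_exists_sum] at hs
    obtain ⟨a, ha, has⟩ := hs
    suffices ∀ l, (c - a) l ∈ m ^ K by
      intro l
      have := add_mem (this l) (ha l)
      rwa [Finsupp.sub_apply, sub_add_cancel] at this
    let T := (c - a).support
    let e : Fin T.card → _ := fun p => ((T.equivFin.symm p).1)
    have hsum : ∑ p, (c - a) (e p) • v (e p) = z := by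
      have h3 : P (c - a) = z := by
        rw [map_sub, sub_eq_iff_eq_add, add_comm z, ← hsz, ← has]
        simp [P, Finsupp.linearCombination_apply]
      rw [← h3, Finsupp.linearCombination_apply, Finsupp.sum]
      exact (T.equivFin.symm.sum_comp fun x : ↥T => (c - a) x.1 • v x.1).trans
        (Finset.sum_coe_sort T fun x => (c - a) x • v x)
    have hsel : ∀ i p, algebraMap A (R i) ((c - a) (e p)) ∈ I i := fun i => by
      refine coeff_mem (N i) (fun p => algebraMap A (R i) ((c - a) (e p))) (I i) (fun j p => ρ i j (v (e p))) (fun j => ?_) ?_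
      · simp only [algebraMap_smul, ← map_smul, ← map_sum, hsum]
        refine Submodule.smul_induction_on hz (fun r hr y _ => ?_) fun y y' hy hy' => by rw [map_add]; exact add_mem hy hy'
        rw [map_smul, ← algebraMap_smul (R i) r]
        exact Submodule.smul_mem_smul (hK' i (Ideal.mem_map_of_mem _ hr)) Submodule.mem_top
      · refine hdet i _ _ fun a' ha' p => ?_
        let cf : _ →₀ A := ∑ q, Finsupp.single (e q) (a' q)
        have h4 : P cf = ∑ q, a' q • v (e q) := by simp [cf, P]
        have h5 := hindep cf (h4 ▸ ha') (e p)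
        have h6 : cf (e p) = a' p := by
          rw [Finsupp.finsetSum_apply, Finset.sum_eq_single p
            (fun q _ hne => Finsupp.single_eq_of_ne fun h => hne (T.equivFin.symm.injective (Subtype.ext h.symm)))
            (fun h => absurd (Finset.mem_univ p) h), Finsupp.single_eq_same]
        rwa [h6] at h5
    intro l
    by_cases hl : l ∈ T
    · refine hI _ fun i => ?_
      have := hsel i (T.equivFin ⟨l, hl⟩)
      simpa [e] using this
    · rw [Finsupp.notMem_support_iff.mp hl]; exact zero_mem _
  refine Groth.Agent.S0390.result (R := A) (S := B) (M := M) ?_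
  rw [injective_iff_map_eq_zero]
  intro x hx
  let y := TensorProduct.comm A m M x
  let g : M ⊗[A] m →ₗ[A] M := TensorProduct.rid A M ∘ₗ (Submodule.subtype m).lTensor M
  have hgy : g y = 0 := by
    have h : ∀ x, g (TensorProduct.comm A m M x) =
        TensorProduct.lid A M ((Submodule.subtype m).rTensor M x) := fun x => by
      induction x using TensorProduct.induction_on with
      | zero => simp
      | add p q hp hq => simp only [map_add, hp, hq]
      | tmul p q => simp [g]
    rw [show y = TensorProduct.comm A m M x from rfl, h, hx, map_zero]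
  suffices hy : y = 0 from (TensorProduct.comm A m M).map_eq_zero_iff.mp hy
  have hall : ∀ K, y ∈ m ^ K • (⊤ : Submodule A (M ⊗[A] m)) := by
    intro K
    let T : Submodule A (M ⊗[A] m) := m ^ K • ⊤
    let Φ : (_ →₀ m) →ₗ[A] M ⊗[A] m := Finsupp.lsum A fun l => TensorProduct.mk A M m (v l)
    have hdec : ∀ z, z ∈ LinearMap.range Φ ⊔ T := fun z => by
      induction z using TensorProduct.induction_on with
      | zero => exact zero_mem _
      | add p q hp hq => exact add_mem hp hq
      | tmul p q =>
        obtain ⟨_, ⟨c, rfl⟩, z, hz, rfl⟩ := Submodule.mem_sup.mp (hS K ▸ Submodule.mem_top : p ∈ _)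
        rw [TensorProduct.add_tmul]
        refine add_mem (Submodule.mem_sup_left ?_) (Submodule.mem_sup_right ?_)
        · rw [Finsupp.linearCombination_apply, Finsupp.sum, TensorProduct.sum_tmul]
          refine Submodule.sum_mem _ fun l _ => ⟨Finsupp.single l (c l • q), ?_⟩
          simp [Φ, TensorProduct.smul_tmul]
        · refine Submodule.smul_induction_on hz (fun r hr w _ => ?_) fun w w' hw hw' => by
            rw [TensorProduct.add_tmul]; exact add_mem hw hw'
          rw [← TensorProduct.smul_tmul']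
          exact Submodule.smul_mem_smul hr Submodule.mem_top
    obtain ⟨_, ⟨c, rfl⟩, z, hz, hyz⟩ := Submodule.mem_sup.mp (hdec y)
    have hgz : g z ∈ m ^ (K + 1) • (⊤ : Submodule A M) := by
      refine Submodule.smul_induction_on hz (fun r hr w _ => ?_) fun w w' hw hw' => by rw [map_add]; exact add_mem hw hw'
      rw [map_smul, pow_succ, Submodule.mul_smul]
      refine Submodule.smul_mem_smul hr ?_
      induction w using TensorProduct.induction_on with
      | zero => simp
      | add p q hp hq => rw [map_add]; exact add_mem (hp Submodule.mem_top) (hq Submodule.mem_top)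
      | tmul p q =>
        show (q : A) • p ∈ _
        exact Submodule.smul_mem_smul q.2 Submodule.mem_top
    let c' : _ →₀ A := c.mapRange Subtype.val rfl
    have hΦ : g (Φ c) = P c' := by
      show g (Φ c) = Finsupp.linearCombination A v (c.mapRange Subtype.val rfl)
      rw [Finsupp.linearCombination_apply, Finsupp.sum_mapRange_index (h := fun i a => a • v i) (fun l => zero_smul A _),
        Finsupp.lsum_apply, map_finsuppSum]
      exact Finsupp.sum_congr fun l _ => rfl
    have hc : ∀ l, (c l : A) ∈ m ^ (K + 1) := by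
      refine hcoef (K + 1) c' ?_
      rw [← hΦ, show g (Φ c) = -g z from eq_neg_of_add_eq_zero_left (by rw [← map_add, hyz, hgy])]
      exact neg_mem hgz
    rw [← hyz]
    refine add_mem ?_ hz
    rw [Finsupp.lsum_apply]
    refine Submodule.sum_mem _ fun l _ => ?_
    have hcl : c l ∈ m ^ K • (⊤ : Submodule A m) := by
      rw [← Submodule.comap_map_eq_of_injective (f := m.subtype) Subtype.val_injective (m ^ K • ⊤), Submodule.mem_comap,
        Submodule.map_smul'', Submodule.map_subtype_top]
      have := hc l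
      rwa [pow_succ] at this
    show (TensorProduct.mk A M m (v l)) (c l) ∈ _
    refine Submodule.smul_induction_on hcl (fun r hr w _ => ?_) fun w w' hw hw' => by rw [map_add]; exact add_mem hw hw'
    rw [map_smul]
    exact Submodule.smul_mem_smul hr Submodule.mem_top
  let mB := m.map (algebraMap A B)
  have hne : mB ≠ ⊤ := fun h => (IsLocalRing.maximalIdeal.isMaximal B).ne_top (top_le_iff.mp (h.ge.trans
    (((IsLocalRing.local_hom_TFAE (algebraMap A B)).out 0 2).mp ‹_›)))
  have hfin : Module.Finite B (M ⊗[A] m) := by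
    haveI : Module.Finite A m := Module.Finite.iff_fg.mpr (IsNoetherian.noetherian m)
    obtain ⟨n, f, hf⟩ := Module.Finite.exists_fin' A m
    haveI : Module.Finite B (M ⊗[A] (Fin n → A)) :=
      Module.Finite.equiv (TensorProduct.piScalarRight A B M (Fin n)).symm
    exact Module.Finite.of_surjective (AlgebraTensorModule.lTensor B M f) (LinearMap.lTensor_surjective M hf)
  have hinf := Ideal.iInf_pow_smul_eq_bot_of_isLocalRing (M := M ⊗[A] m) mB hne
  refine (Submodule.mem_bot B).mp (hinf.le (Submodule.mem_iInf _ |>.mpr fun K => ?_))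
  refine Submodule.smul_induction_on (hall K) (fun r hr w _ => ?_) fun w w' hw hw' => add_mem hw hw'
  rw [← algebraMap_smul B r w]
  refine Submodule.smul_mem_smul ?_ Submodule.mem_top
  exact (Ideal.map_pow (algebraMap A B) m K) ▸ Ideal.mem_map_of_mem _ hr

end Groth.L07.FlatFamily
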