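import Groth.Agent.L07.FlatFamily
import Groth.Agent.L02.GeomIrredField
import Groth.Agent.L25.GeomIrred
import Mathlib.RingTheory.LocalRing.Module
import Mathlib.Algebra.Module.LocalizedModule.Int
import Mathlib.RingTheory.IsTensorProduct
import Mathlib.RingTheory.Ideal.GoingUp

/-!
Descent of flatness along families of local homomorphisms (EGA IV 11.5), the detection of independence.
-/

universe u

open TensorProduct

namespace Groth.L07.FlatFamily

set_option autoImplicit false
set_option linter.style.haveILetI false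
set_option maxSynthPendingDepth 3

variable {A D R : Type u} [CommRing A] [IsLocalRing A] [CommRing D] [Algebra A D]
  [CommRing R] [IsLocalRing R] [Algebra A R]
  {Kb L : Type u} [Field Kb] [IsAlgClosed Kb] [Algebra A Kb] [Field L] [Algebra A L] [Algebra R L] [Algebra Kb L]
  [IsScalarTower A R L] [IsScalarTower A Kb L]

/-- The base change to the common field. -/
noncomputable def toBig (A D R Kb L : Type u) [CommRing A] [CommRing D] [Algebra A D] [CommRing R] [Algebra A R]
    [Field Kb] [Algebra A Kb] [Field L] [Algebra A L] [Algebra R L] [Algebra Kb L] [IsScalarTower A R L]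
    [IsScalarTower A Kb L] : D ⊗[A] R →ₐ[A] (Kb ⊗[A] D) ⊗[Kb] L :=
  Algebra.TensorProduct.lift
    (((Algebra.TensorProduct.includeLeft : Kb ⊗[A] D →ₐ[Kb] (Kb ⊗[A] D) ⊗[Kb] L).restrictScalars A).comp
      Algebra.TensorProduct.includeRight)
    (((Algebra.TensorProduct.includeRight : L →ₐ[Kb] (Kb ⊗[A] D) ⊗[Kb] L).restrictScalars A).comp
      (IsScalarTower.toAlgHom A R L))
    fun _ _ => Commute.all _ _

/-- The map to the common field of a geometric point over `q̄`. -/
noncomputable def toRes (qb : Ideal (Kb ⊗[A] D)) [qb.IsPrime] :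
    (Kb ⊗[A] D) ⊗[Kb] L →ₐ[Kb] qb.ResidueField ⊗[Kb] L :=
  Algebra.TensorProduct.map (IsScalarTower.toAlgHom Kb (Kb ⊗[A] D) qb.ResidueField) (AlgHom.id Kb L)

attribute [local instance] Algebra.TensorProduct.rightAlgebra

variable {Mm : Type u} [AddCommGroup Mm] [Module D Mm]
  {M : Type u} [AddCommGroup M] [Module D M] [Module A M] [IsScalarTower A D M]
  {J : Type u} {Q : J → Ideal (D ⊗[A] R)} [∀ j, (Q j).IsPrime]
  {T : J → Type u} [∀ j, CommRing (T j)] [∀ j, Algebra (D ⊗[A] R) (T j)]
  [∀ j, IsLocalization.AtPrime (T j) (Q j)] [∀ j, Algebra D (T j)]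
  {N : J → Type u} [∀ j, AddCommGroup (N j)] [∀ j, Module (T j) (N j)] [∀ j, Module D (N j)]
  [∀ j, IsScalarTower D (T j) (N j)] [∀ j, Module R (N j)] [∀ j, Module A (N j)] [∀ j, IsScalarTower A D (N j)]

set_option maxHeartbeats 1000000 in
/-- Independent vectors stay independent at enough geometric points. -/
theorem detects_core [Algebra.IsIntegral A Kb] (q : Ideal D) [q.IsPrime]
    (hRL : ∀ r ∈ IsLocalRing.maximalIdeal R, algebraMap R L r = 0)
    (f : Mm →ₗ[D] M) [IsLocalizedModule q.primeCompl f]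
    (hT : ∀ j c, algebraMap D (T j) c = algebraMap (D ⊗[A] R) (T j) (c ⊗ₜ 1))
    (g : ∀ j, Mm →ₗ[D] N j) (hg : ∀ j, IsBaseChange (T j) (g j)) (ρ : ∀ j, M →ₗ[D] N j)
    (hρ : ∀ j m, ρ j (f m) = g j m)
    (hR : ∀ j (r : R) (x : N j), r • x = algebraMap (D ⊗[A] R) (T j) ((1 : D) ⊗ₜ r) • x)
    (hQ : ∀ (qb : Ideal (Kb ⊗[A] D)) [qb.IsPrime],
      qb.comap (Algebra.TensorProduct.includeRight : D →ₐ[A] Kb ⊗[A] D).toRingHom = q →
        ∃ j, ∀ t, toRes (L := L) qb (toBig A D R Kb L t) = 0 → t ∈ Q j) :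
    Detects A M R N fun j => (ρ j).restrictScalars A := by
  classical
  intro n v hv d hd
  let Db := Kb ⊗[A] D
  let Mb := Db ⊗[D] Mm
  obtain ⟨s₀, hs₀⟩ := IsLocalizedModule.exist_integer_multiples_of_finite q.primeCompl f v
  choose m hm using hs₀
  let e := Module.Basis.ofVectorSpace Kb L
  let γ := fun l => e.repr (algebraMap R L (d l))
  let B := Finset.univ.biUnion fun l => (γ l).support
  let nb : _ → Mb := fun b => ∑ l, (γ l b) • ((1 : Db) ⊗ₜ[D] m l)
  let W : Submodule Db Mb := Submodule.span Db (nb '' (B : Set _))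
  haveI : Module.Finite Db W := Module.Finite.iff_fg.mpr (Submodule.fg_span (B.finite_toSet.image nb))
  have hloc : ∀ (qb : Ideal Db) [qb.IsPrime],
      qb.comap (Algebra.TensorProduct.includeRight : D →ₐ[A] Kb ⊗[A] D).toRingHom = q →
        ¬ W.annihilator ≤ qb := by
    intro qb _ hqb
    obtain ⟨j, hj⟩ := hQ qb hqb
    let κ := qb.ResidueField
    haveI : IsDomain (κ ⊗[Kb] L) := Groth.L25.GeomIrred.isDomain_tensorProduct
    let F := FractionRing (κ ⊗[Kb] L)
    let D'' := Db ⊗[Kb] L
    let πF : D'' →+* F := (algebraMap (κ ⊗[Kb] L) F).comp (toRes qb).toRingHom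
    let P := RingHom.ker πF
    haveI : P.IsPrime := RingHom.ker_isPrime πF
    let T'' := Localization.AtPrime P
    haveI : Module.Flat D'' T'' := IsLocalization.flat T'' P.primeCompl
    haveI : Module.Flat Db T'' := Module.Flat.trans Db D'' T''
    have hu : ∀ t : (Q j).primeCompl, IsUnit (((algebraMap D'' T'').comp (toBig A D R Kb L).toRingHom) t) := fun t =>
      IsLocalization.map_units (M := P.primeCompl) T''
        (⟨toBig A D R Kb L t, fun h => t.2 (hj t ((map_eq_zero_iff _ (IsFractionRing.injective (κ ⊗[Kb] L) F)).mp h))⟩ :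
          P.primeCompl)
    let τ : T j →+* T'' := IsLocalization.lift hu
    have hτD : ∀ c : D, τ (algebraMap D (T j) c) = algebraMap Db T'' ((1 : Kb) ⊗ₜ c) := fun c => by
      rw [hT, IsLocalization.lift_eq, RingHom.comp_apply, IsScalarTower.algebraMap_apply Db D'' T'']
      congr 1
      simp [toBig, Algebra.TensorProduct.one_def]
      try rfl
    let Y := T'' ⊗[Db] Mb
    letI : Module (T j) Y := Module.compHom Y τ
    haveI : IsScalarTower D (T j) Y := IsScalarTower.of_algebraMap_smul fun c y => by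
      show τ (algebraMap D (T j) c) • y = c • y
      rw [hτD, show ((1 : Kb) ⊗ₜ[A] c) = algebraMap D Db c from rfl, ← IsScalarTower.algebraMap_apply D Db T'']
      exact algebraMap_smul T'' c y
    let g'' : Mm →ₗ[D] Y :=
      ((TensorProduct.mk Db T'' Mb 1).restrictScalars D) ∘ₗ (TensorProduct.mk D Db Mm 1)
    let lift := (hg j).lift g''
    have hlift : ∀ x, lift (g j x) = g'' x := fun x => (hg j).lift_eq g'' x
    have hrel : ∑ l, d l • g j (m l) ∈ IsLocalRing.maximalIdeal R • (⊤ : Submodule R (N j)) := by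
      have h2 : ∀ x ∈ IsLocalRing.maximalIdeal R • (⊤ : Submodule R (N j)),
          algebraMap D (T j) (s₀ : D) • x ∈ IsLocalRing.maximalIdeal R • (⊤ : Submodule R (N j)) := fun x hx => by
        refine Submodule.smul_induction_on hx (fun r hr y _ => ?_) fun y y' hy hy' => by rw [smul_add]; exact add_mem hy hy'
        rw [hR, smul_comm, ← hR]
        exact Submodule.smul_mem_smul hr Submodule.mem_top
      convert h2 _ (hd j) using 1
      rw [Finset.smul_sum]
      refine Finset.sum_congr rfl fun l _ => ?_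
      rw [hR, hR, smul_comm (algebraMap D (T j) (s₀ : D))]
      congr 1
      rw [algebraMap_smul, LinearMap.restrictScalars_apply, ← map_smul, ← hρ, hm l]
    have hτR : ∀ r : R, τ (algebraMap (D ⊗[A] R) (T j) ((1 : D) ⊗ₜ r)) =
        algebraMap D'' T'' ((1 : Db) ⊗ₜ algebraMap R L r) := fun r => by
      rw [IsLocalization.lift_eq, RingHom.comp_apply]
      congr 1
      simp [toBig, Algebra.TensorProduct.one_def]
      try rfl
    have hzero : ∀ x ∈ IsLocalRing.maximalIdeal R • (⊤ : Submodule R (N j)), lift x = 0 := fun x hx => by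
      refine Submodule.smul_induction_on hx (fun r hr y _ => ?_) fun y y' hy hy' => by rw [map_add, hy, hy', add_zero]
      rw [hR, map_smul]
      show τ _ • lift y = 0
      rw [hτR, hRL r hr, TensorProduct.tmul_zero, map_zero, zero_smul]
    let ι : T'' ⊗[Db] W →ₗ[T''] Y := (W.subtype).baseChange T''
    let w : T'' ⊗[Db] W := ∑ b ∈ B.attach, (algebraMap D'' T'' ((1 : Db) ⊗ₜ e b.1)) ⊗ₜ[Db]
      (⟨nb b.1, Submodule.subset_span ⟨b.1, b.2, rfl⟩⟩ : W)
    have hw : w = 0 := by
      refine (injective_iff_map_eq_zero ι).mp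
        (Module.Flat.lTensor_preserves_injective_linearMap W.subtype Subtype.val_injective) _ ?_
      rw [← hzero _ hrel, map_sum, map_sum]
      show ∑ b ∈ B.attach, ι _ = _
      simp only [ι]
      refine (Finset.sum_attach B (fun b => (algebraMap D'' T'' ((1 : Db) ⊗ₜ e b)) ⊗ₜ[Db] nb b)).trans ?_
      calc ∑ b ∈ B, (algebraMap D'' T'' ((1 : Db) ⊗ₜ e b)) ⊗ₜ[Db] nb b
          = ∑ b ∈ B, ∑ l, (algebraMap D'' T'' ((1 : Db) ⊗ₜ (γ l b • e b))) ⊗ₜ[Db] ((1 : Db) ⊗ₜ[D] m l) := by
            refine Finset.sum_congr rfl fun b _ => ?_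
            rw [TensorProduct.tmul_sum]
            refine Finset.sum_congr rfl fun l _ => ?_
            rw [← algebraMap_smul Db (γ l b) ((1 : Db) ⊗ₜ[D] m l), ← TensorProduct.smul_tmul]
            congr 1
            rw [algebraMap_smul, TensorProduct.tmul_smul]
            exact ((IsScalarTower.toAlgHom Kb D'' T'').toLinearMap.map_smul _ _).symm
        _ = ∑ l, (algebraMap D'' T'' ((1 : Db) ⊗ₜ algebraMap R L (d l))) ⊗ₜ[Db] ((1 : Db) ⊗ₜ[D] m l) := by
            rw [Finset.sum_comm]
            refine Finset.sum_congr rfl fun l _ => ?_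
            rw [← TensorProduct.sum_tmul, ← map_sum, ← TensorProduct.tmul_sum]
            congr 3
            conv_rhs => rw [← e.linearCombination_repr (algebraMap R L (d l)), Finsupp.linearCombination_apply]
            exact (Finsupp.sum_of_support_subset (γ l)
              (Finset.subset_biUnion_of_mem (fun l => (γ l).support) (Finset.mem_univ l)) (fun b c => c • e b) (fun b _ => zero_smul Kb (e b))).symm
        _ = ∑ l, lift (d l • g j (m l)) := by
            refine Finset.sum_congr rfl fun l _ => ?_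
            rw [hR, map_smul, hlift]
            show _ = τ _ • g'' (m l)
            rw [hτR]
            exact (TensorProduct.smul_tmul' _ _ _).trans (by rw [smul_eq_mul, mul_one]; rfl) |>.symm
    have hψ : ∀ (ψ : W →ₗ[Db] κ), ∀ b : B, ψ ⟨nb b.1, Submodule.subset_span ⟨b.1, b.2, rfl⟩⟩ = 0 := by
      intro ψ
      have hPu : ∀ t : P.primeCompl, IsUnit (πF t) := fun t => Ne.isUnit t.2
      let χ : T'' →+* F := IsLocalization.lift hPu
      let i : κ →+* F := (algebraMap (κ ⊗[Kb] L) F).comp Algebra.TensorProduct.includeLeftRingHom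
      have hi : ∀ c : Db, χ (algebraMap Db T'' c) = i (algebraMap Db κ c) := fun c => by
        rw [IsScalarTower.algebraMap_apply Db D'' T'', IsLocalization.lift_eq]
        simp [πF, i, toRes, κ, D'']
        rfl
      let Ψ : T'' ⊗[Db] W →+ F := TensorProduct.liftAddHom
        { toFun := fun t => (AddMonoidHom.mulLeft (χ t)).comp (i.toAddMonoidHom.comp ψ.toAddMonoidHom)
          map_zero' := by ext x; simp
          map_add' := fun t t' => by ext x; simp [add_mul] }
        (fun c t x => by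
          show χ (c • t) * i (ψ x) = χ t * i (ψ (c • x))
          rw [ψ.map_smul, Algebra.smul_def c t, Algebra.smul_def c (ψ x), map_mul, map_mul, hi]
          ring)
      have h0 := congrArg Ψ hw
      rw [map_zero, map_sum] at h0
      have h1 : ∑ b ∈ B.attach, (ψ ⟨nb b.1, Submodule.subset_span ⟨b.1, b.2, rfl⟩⟩) ⊗ₜ[Kb] e b.1 = 0 := by
        refine IsFractionRing.injective (κ ⊗[Kb] L) F ?_
        rw [map_zero, ← h0, map_sum]
        refine Finset.sum_congr rfl fun b _ => ?_
        show _ = χ (algebraMap D'' T'' ((1 : Db) ⊗ₜ e b.1)) *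
          i (ψ ⟨nb b.1, Submodule.subset_span ⟨b.1, b.2, rfl⟩⟩)
        rw [IsLocalization.lift_eq]
        show _ = algebraMap (κ ⊗[Kb] L) F (toRes qb ((1 : Db) ⊗ₜ e b.1)) *
          algebraMap (κ ⊗[Kb] L) F (ψ ⟨nb b.1, Submodule.subset_span ⟨b.1, b.2, rfl⟩⟩ ⊗ₜ[Kb] (1 : L))
        rw [← map_mul]
        congr 1
        simp [toRes]
      intro b
      let c : _ →₀ κ := ∑ b' ∈ B.attach, Finsupp.single b'.1 (ψ ⟨nb b'.1, Submodule.subset_span ⟨b'.1, b'.2, rfl⟩⟩)
      have h2 : c = 0 := by
        apply (Algebra.TensorProduct.basis κ e).repr.symm.injective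
        rw [map_zero, map_sum, ← h1]
        refine Finset.sum_congr rfl fun b' _ => ?_
        rw [Module.Basis.repr_symm_single, Algebra.TensorProduct.basis_apply, TensorProduct.smul_tmul', smul_eq_mul, mul_one]
      have h3 : c b.1 = ψ ⟨nb b.1, Submodule.subset_span ⟨b.1, b.2, rfl⟩⟩ := by
        rw [Finsupp.finsetSum_apply, Finset.sum_eq_single b
          (fun b' _ hne => Finsupp.single_eq_of_ne fun h => hne (Subtype.ext h.symm))
          (fun h => absurd (Finset.mem_attach B b) h), Finsupp.single_eq_same]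
      rw [← h3, h2, Finsupp.zero_apply]
    have hψ0 : ∀ ψ : W →ₗ[Db] κ, ψ = 0 := fun ψ => by
      refine LinearMap.ext fun x => ?_
      obtain ⟨x, hx⟩ := x
      induction hx using Submodule.span_induction with
      | mem y hy => obtain ⟨b, hb, rfl⟩ := hy; exact hψ ψ ⟨b, hb⟩
      | zero => exact map_zero ψ
      | add y z hy hz h1 h2 =>
        rw [LinearMap.zero_apply] at h1 h2
        refine (map_add ψ ⟨y, hy⟩ ⟨z, hz⟩).trans ?_
        rw [h1, h2, add_zero]
        rfl
      | smul a y hy h1 =>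
        rw [LinearMap.zero_apply] at h1
        refine (map_smul ψ a ⟨y, hy⟩).trans ?_
        rw [h1, smul_zero]
        rfl
    intro hle
    have hsupp : (⟨qb, ‹qb.IsPrime›⟩ : PrimeSpectrum Db) ∈ Module.support Db W := by
      rw [Module.support_eq_zeroLocus]
      exact hle
    rw [Module.mem_support_iff_nontrivial_residueField_tensorProduct] at hsupp
    refine not_subsingleton (κ ⊗[Db] W) ⟨fun x y => ?_⟩
    rw [← sub_eq_zero, ← Module.forall_dual_apply_eq_zero_iff κ]
    intro φ
    have hφ : φ = 0 := TensorProduct.AlgebraTensorModule.ext fun a x => by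
      have := LinearMap.congr_fun (hψ0 ((φ.restrictScalars Db) ∘ₗ TensorProduct.mk Db κ W 1)) x
      rw [show a ⊗ₜ[Db] x = a • ((1 : κ) ⊗ₜ[Db] x) by rw [TensorProduct.smul_tmul', smul_eq_mul, mul_one], map_smul]
      simp only [LinearMap.comp_apply, TensorProduct.mk_apply, LinearMap.restrictScalars_apply, LinearMap.zero_apply] at this
      rw [this, smul_zero, LinearMap.zero_apply]
    rw [hφ, LinearMap.zero_apply]
  haveI : Algebra.IsIntegral D Db := ⟨fun x => by
    induction x using TensorProduct.induction_on with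
    | zero => exact isIntegral_zero
    | add a b ha hb => exact ha.add hb
    | tmul c y =>
      have h1 : IsIntegral D (c ⊗ₜ[A] (1 : D) : Db) :=
        (IsIntegral.map (Algebra.TensorProduct.includeLeft : Kb →ₐ[A] Db) (Algebra.IsIntegral.isIntegral (R := A) c)).tower_top
      have h2 : c ⊗ₜ[A] y = c ⊗ₜ[A] (1 : D) * algebraMap D Db y := by
        show _ = c ⊗ₜ[A] (1 : D) * ((1 : Kb) ⊗ₜ[A] y)
        rw [Algebra.TensorProduct.tmul_mul_tmul, mul_one, one_mul]
      rw [h2]
      exact h1.mul isIntegral_algebraMap⟩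
  obtain ⟨s, hs, hsW⟩ : ∃ s, algebraMap D Db s ∈ W.annihilator ∧ s ∉ q := by
    by_contra! hle
    obtain ⟨qb, hge, hqbp, hqb⟩ := Ideal.exists_ideal_over_prime_of_isIntegral q W.annihilator hle
    haveI := hqbp
    exact hloc qb hqb hge
  have hnb : ∀ b, algebraMap D Db s • nb b = 0 := fun b => by
    by_cases hb : b ∈ B
    · exact Submodule.mem_annihilator.mp hs _ (Submodule.subset_span ⟨b, hb, rfl⟩)
    · have : ∀ l, γ l b = 0 := fun l => Finsupp.notMem_support_iff.mp fun h =>
        hb (Finset.mem_biUnion.mpr ⟨l, Finset.mem_univ l, h⟩)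
      simp [nb, this]
  let k₀ := A ⧸ IsLocalRing.maximalIdeal A
  letI : Field k₀ := Ideal.Quotient.field _
  have hli : LinearIndependent k₀ fun l => (1 : k₀) ⊗ₜ[A] v l := by
    rw [Fintype.linearIndependent_iff]
    intro a ha l
    choose a' ha' using fun l => Ideal.Quotient.mk_surjective (a l)
    rw [← ha' l, Ideal.Quotient.eq_zero_iff_mem]
    refine hv a' ?_ l
    have h : (1 : k₀) ⊗ₜ[A] (∑ l, a' l • v l) = 0 := by
      rw [TensorProduct.tmul_sum, ← ha]
      refine Finset.sum_congr rfl fun l _ => ?_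
      rw [TensorProduct.tmul_smul, ← ha' l]
      exact (algebraMap_smul k₀ (a' l) _).symm
    have h' := congrArg (TensorProduct.quotTensorEquivQuotSMul M (IsLocalRing.maximalIdeal A)) h
    rw [show (1 : k₀) = Ideal.Quotient.mk _ 1 from rfl, TensorProduct.quotTensorEquivQuotSMul_mk_tmul, one_smul,
      map_zero] at h'
    exact (Submodule.Quotient.mk_eq_zero _).mp h'
  obtain ⟨Φ, hΦ⟩ : ∃ Φ : (k₀ ⊗[A] M) →ₗ[k₀] (Fin n → k₀), ∀ l, Φ ((1 : k₀) ⊗ₜ v l) = Pi.single l 1 := by
    obtain ⟨Φ, hΦ⟩ := (Fintype.linearCombination k₀ fun l => (1 : k₀) ⊗ₜ[A] v l).exists_leftInverse_of_injective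
      (LinearMap.ker_eq_bot.mpr (linearIndependent_iff_injective_fintypeLinearCombination.mp hli))
    exact ⟨Φ, fun l => by
      have := LinearMap.congr_fun hΦ (Pi.single l 1)
      simpa using this⟩
  have hu : IsUnit (algebraMap D (Module.End D M) ((s * s₀ : D))) :=
    IsLocalizedModule.map_units f (⟨s * s₀, q.primeCompl.mul_mem hsW s₀.2⟩ : q.primeCompl)
  let φ : Mm →+ (Fin n → k₀) := Φ.toAddMonoidHom.comp
    ((TensorProduct.mk A k₀ M 1).toAddMonoidHom.comp ((hu.unit⁻¹).1.toAddMonoidHom.comp f.toAddMonoidHom))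
  letI : Module A Mm := Module.compHom Mm (algebraMap A D)
  haveI : IsScalarTower A D Mm := IsScalarTower.of_algebraMap_smul fun _ _ => rfl
  let φA : Mm →ₗ[A] (Fin n → k₀) :=
    { toFun := φ, map_add' := φ.map_add, map_smul' := fun a x => by
        show Φ ((1 : k₀) ⊗ₜ[A] (hu.unit⁻¹).1 (f (algebraMap A D a • x))) = a • Φ ((1 : k₀) ⊗ₜ[A] (hu.unit⁻¹).1 (f x))
        rw [map_smul, map_smul, algebraMap_smul, TensorProduct.tmul_smul, LinearMap.map_smul_of_tower] }
  have hkA : ∀ a ∈ IsLocalRing.maximalIdeal A, algebraMap A Kb a = 0 := fun a ha => by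
    have hmax : (RingHom.ker (algebraMap A Kb)).IsMaximal := by
      exact Ideal.isMaximal_comap_of_isIntegral_of_isMaximal (R := A) (⊥ : Ideal Kb)
    exact RingHom.mem_ker.mp ((IsLocalRing.eq_maximalIdeal hmax) ▸ ha)
  let ν : k₀ →ₐ[A] Kb := Ideal.Quotient.liftₐ _ (Algebra.ofId A Kb)
    (fun a ha => hkA a ha)
  haveI : Algebra.IsPushout A Kb D Db := inferInstance
  let Θ := Algebra.IsPushout.cancelBaseChange A Kb D Db Mm
  have key : ∀ l b, γ l b = 0 := by
    intro l b
    let prl : Mm →ₗ[A] Kb := ν.toLinearMap ∘ₗ LinearMap.proj l ∘ₗ φA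
    let Ξ : Mb →ₗ[Kb] Kb := LinearMap.liftBaseChange Kb prl ∘ₗ Θ.toLinearMap
    have h := congrArg Ξ (hnb b)
    rw [map_zero, Finset.smul_sum, map_sum] at h
    have hterm : ∀ l', Ξ (algebraMap D Db s • (γ l' b • ((1 : Db) ⊗ₜ[D] m l'))) =
        γ l' b * ν ((Pi.single l' (1 : k₀) : Fin n → k₀) l) := fun l' => by
      rw [smul_comm (algebraMap D Db s), map_smul, smul_eq_mul]
      congr 1
      have e1 : algebraMap D Db s • ((1 : Db) ⊗ₜ[D] m l') = (1 : Db) ⊗ₜ[D] (s • m l') := by
        rw [algebraMap_smul, TensorProduct.tmul_smul]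
      rw [e1, LinearMap.comp_apply, LinearEquiv.coe_coe, Algebra.IsPushout.cancelBaseChange_tmul,
        LinearMap.liftBaseChange_tmul, one_smul]
      show ν (Φ ((1 : k₀) ⊗ₜ[A] (hu.unit⁻¹).1 (f (s • m l'))) l) = _
      rw [← hΦ l']
      congr 4
      rw [map_smul, hm l']
      refine congrArg (fun y => Φ ((1 : k₀) ⊗ₜ[A] y) l) ?_
      rw [smul_smul]
      exact LinearMap.congr_fun hu.val_inv_mul (v l')
    simp only [hterm] at h
    rw [Finset.sum_eq_single l (fun l' _ hne => by rw [Pi.single_eq_of_ne hne.symm, map_zero, mul_zero])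
      (fun hn => absurd (Finset.mem_univ l) hn), Pi.single_eq_same, map_one, mul_one] at h
    exact h
  intro l
  have hd0 : algebraMap R L (d l) = 0 := e.repr.map_eq_zero_iff.mp (Finsupp.ext (key l))
  exact IsLocalRing.le_maximalIdeal (RingHom.ker_ne_top (algebraMap R L)) hd0

/-- The condition holds when all the primes over `q` and the closed point are present. -/
theorem hQ_of_all (hRL : ∀ r ∈ IsLocalRing.maximalIdeal R, algebraMap R L r = 0) (q : Ideal D) [q.IsPrime]
    (hall : ∀ (P : Ideal (D ⊗[A] R)) [P.IsPrime], P.comap (Algebra.TensorProduct.includeLeftRingHom : D →+* D ⊗[A] R) = q →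
      (∀ r ∈ IsLocalRing.maximalIdeal R, (1 : D) ⊗ₜ r ∈ P) → ∃ j, Q j = P)
    (qb : Ideal (Kb ⊗[A] D)) [qb.IsPrime]
    (hqb : qb.comap (Algebra.TensorProduct.includeRight : D →ₐ[A] Kb ⊗[A] D).toRingHom = q) :
    ∃ j, ∀ t, toRes (L := L) qb (toBig A D R Kb L t) = 0 → t ∈ Q j := by
  haveI : IsDomain (qb.ResidueField ⊗[Kb] L) := Groth.L25.GeomIrred.isDomain_tensorProduct
  let π := (toRes (L := L) qb).toRingHom.comp (toBig A D R Kb L).toRingHom
  haveI : (RingHom.ker π).IsPrime := RingHom.ker_isPrime π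
  have h1 : (RingHom.ker π).comap (Algebra.TensorProduct.includeLeftRingHom : D →+* D ⊗[A] R) = q := by
    rw [← hqb]
    ext c
    show toRes (L := L) qb (toBig A D R Kb L (c ⊗ₜ 1)) = 0 ↔ (1 : Kb) ⊗ₜ[A] c ∈ qb
    have e : toRes (L := L) qb (toBig A D R Kb L (c ⊗ₜ 1)) =
        algebraMap (Kb ⊗[A] D) qb.ResidueField ((1 : Kb) ⊗ₜ[A] c) ⊗ₜ[Kb] (1 : L) := by
      simp [toRes, toBig]
    rw [e, ← Ideal.algebraMap_residueField_eq_zero]
    exact map_eq_zero_iff (Algebra.TensorProduct.includeLeft : qb.ResidueField →ₐ[Kb] qb.ResidueField ⊗[Kb] L)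
      (Algebra.TensorProduct.includeLeft_injective (S := Kb) (algebraMap Kb L).injective)
  obtain ⟨j, hj⟩ := hall (RingHom.ker π) h1 fun r hr => by
    show toRes (L := L) qb (toBig A D R Kb L ((1 : D) ⊗ₜ r)) = 0
    simp [toRes, toBig, hRL r hr]
  exact ⟨j, fun t ht => hj.symm ▸ ht⟩

/-- The condition holds for one prime when the point above `q` is unique. -/
theorem hQ_of_one (j : J) (q : Ideal D) [q.IsPrime]
    (hjq : (Q j).comap (Algebra.TensorProduct.includeLeftRingHom : D →+* D ⊗[A] R) = q)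
    (hjR : ∀ r ∈ IsLocalRing.maximalIdeal R, (1 : D) ⊗ₜ r ∈ Q j)
    [Algebra (IsLocalRing.ResidueField R) L] [IsScalarTower R (IsLocalRing.ResidueField R) L]
    [Algebra.IsAlgebraic (IsLocalRing.ResidueField R) L]
    (huniq : ∀ (P P' : Ideal (Kb ⊗[A] D)) [P.IsPrime] [P'.IsPrime],
      P.comap (Algebra.TensorProduct.includeRight : D →ₐ[A] Kb ⊗[A] D).toRingHom = q →
      P'.comap (Algebra.TensorProduct.includeRight : D →ₐ[A] Kb ⊗[A] D).toRingHom = q → P = P')
    (qb : Ideal (Kb ⊗[A] D)) [qb.IsPrime]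
    (hqb : qb.comap (Algebra.TensorProduct.includeRight : D →ₐ[A] Kb ⊗[A] D).toRingHom = q) :
    ∀ t, toRes (L := L) qb (toBig A D R Kb L t) = 0 → t ∈ Q j := by
  let E := AlgebraicClosure (Q j).ResidueField
  let ev : D ⊗[A] R →+* E := (algebraMap (Q j).ResidueField E).comp (algebraMap (D ⊗[A] R) (Q j).ResidueField)
  have hev : ∀ z, ev z = 0 ↔ z ∈ Q j := fun z =>
    ((algebraMap (Q j).ResidueField E).injective.eq_iff' (map_zero _)).trans Ideal.algebraMap_residueField_eq_zero
  let er : IsLocalRing.ResidueField R →+* E := Ideal.Quotient.lift _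
    (ev.comp (Algebra.TensorProduct.includeRight : R →ₐ[A] D ⊗[A] R).toRingHom) fun r hr => (hev _).mpr (hjR r hr)
  letI : Algebra (IsLocalRing.ResidueField R) E := er.toAlgebra
  let ψ : L →ₐ[IsLocalRing.ResidueField R] E := IsAlgClosed.lift
  have hψ : ∀ r, ψ (algebraMap R L r) = ev ((1 : D) ⊗ₜ r) := fun r => by
    rw [IsScalarTower.algebraMap_apply R (IsLocalRing.ResidueField R) L, ψ.commutes]
    rfl
  letI : Algebra A E := (ev.comp (algebraMap A (D ⊗[A] R))).toAlgebra
  let ψA : L →ₐ[A] E :=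
    { ψ.toRingHom with
      commutes' := fun a => by
        show ψ (algebraMap A L a) = ev (algebraMap A (D ⊗[A] R) a)
        rw [IsScalarTower.algebraMap_apply A R L, hψ, Algebra.TensorProduct.algebraMap_apply'] }
  let evD : D →ₐ[A] E :=
    { ev.comp (Algebra.TensorProduct.includeLeftRingHom : D →+* D ⊗[A] R) with
      commutes' := fun a => by
        show ev (algebraMap A D a ⊗ₜ 1) = ev (algebraMap A (D ⊗[A] R) a)
        rw [Algebra.TensorProduct.algebraMap_apply] }
  let χ : Kb ⊗[A] D →ₐ[A] E :=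
    Algebra.TensorProduct.lift (ψA.comp (IsScalarTower.toAlgHom A Kb L)) evD fun _ _ => Commute.all _ _
  have hqb0 : RingHom.ker χ.toRingHom = qb := by
    haveI : (RingHom.ker χ.toRingHom).IsPrime := RingHom.ker_isPrime _
    refine huniq _ _ ?_ hqb
    rw [← hjq]
    ext c
    show χ ((1 : Kb) ⊗ₜ c) = 0 ↔ c ⊗ₜ[A] (1 : R) ∈ Q j
    rw [← hev]
    simp [χ, evD]
  letI : Algebra Kb E := (ψA.toRingHom.comp (algebraMap Kb L)).toAlgebra
  let χK : Kb ⊗[A] D →ₐ[Kb] E :=
    { χ.toRingHom with
      commutes' := fun c => by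
        show χ (c ⊗ₜ (1 : D)) = ψA (algebraMap Kb L c)
        simp [χ] }
  have hχ1 : qb ≤ RingHom.ker χK := fun z hz => by rw [← hqb0] at hz; exact hz
  have hχ2 : qb.primeCompl ≤ (IsUnit.submonoid E).comap χK := fun z hz => Ne.isUnit fun h => hz (by
    rw [← hqb0]; exact h)
  let χres : qb.ResidueField →ₐ[Kb] E := Ideal.ResidueField.liftₐ qb χK hχ1 hχ2
  let ψK : L →ₐ[Kb] E := { ψA.toRingHom with commutes' := fun _ => rfl }
  let Λ : qb.ResidueField ⊗[Kb] L →ₐ[Kb] E := Algebra.TensorProduct.lift χres ψK fun _ _ => Commute.all _ _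
  have hfac : ∀ z, Λ (toRes (L := L) qb (toBig A D R Kb L z)) = ev z := fun z => by
    induction z using TensorProduct.induction_on with
    | zero => simp
    | add a b ha hb => simp only [map_add, ha, hb]
    | tmul c r =>
      have e : toRes (L := L) qb (toBig A D R Kb L (c ⊗ₜ r)) =
          algebraMap (Kb ⊗[A] D) qb.ResidueField ((1 : Kb) ⊗ₜ[A] c) ⊗ₜ[Kb] algebraMap R L r := by
        simp [toRes, toBig]
      rw [e, Algebra.TensorProduct.lift_tmul, show χres = Ideal.ResidueField.liftₐ qb χK _ _ from rfl,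
        Ideal.ResidueField.liftₐ_algebraMap]
      show χ ((1 : Kb) ⊗ₜ[A] c) * ψ (algebraMap R L r) = ev (c ⊗ₜ r)
      rw [hψ, show c ⊗ₜ[A] r = c ⊗ₜ[A] (1 : R) * ((1 : D) ⊗ₜ[A] r) by simp, map_mul]
      congr 1
      simp [χ, evD]
  intro t ht
  rw [← hev, ← hfac, ht, map_zero]

set_option maxHeartbeats 800000 in
/-- Over a separably closed residue extension the point above `q` is unique. -/
theorem unique_over (q : Ideal D) [q.IsPrime]
    [Algebra.IsIntegral A Kb] [Algebra (IsLocalRing.ResidueField A) q.ResidueField]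
    [IsScalarTower A (IsLocalRing.ResidueField A) q.ResidueField]
    (hsep : ∀ α : q.ResidueField, IsSeparable (IsLocalRing.ResidueField A) α →
      α ∈ Set.range (algebraMap (IsLocalRing.ResidueField A) q.ResidueField))
    (P P' : Ideal (Kb ⊗[A] D)) [P.IsPrime] [P'.IsPrime]
    (hP : P.comap (Algebra.TensorProduct.includeRight : D →ₐ[A] Kb ⊗[A] D).toRingHom = q)
    (hP' : P'.comap (Algebra.TensorProduct.includeRight : D →ₐ[A] Kb ⊗[A] D).toRingHom = q) : P = P' := by
  let k := IsLocalRing.ResidueField A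
  have hkA : ∀ a ∈ IsLocalRing.maximalIdeal A, algebraMap A Kb a = 0 := fun a ha => by
    have hmax : (RingHom.ker (algebraMap A Kb)).IsMaximal := by
      exact Ideal.isMaximal_comap_of_isIntegral_of_isMaximal (R := A) (⊥ : Ideal Kb)
    exact RingHom.mem_ker.mp ((IsLocalRing.eq_maximalIdeal hmax) ▸ ha)
  letI : Algebra k Kb := (Ideal.Quotient.lift (IsLocalRing.maximalIdeal A) (algebraMap A Kb) hkA :
    A ⧸ IsLocalRing.maximalIdeal A →+* Kb).toAlgebra
  haveI : IsScalarTower A k Kb := IsScalarTower.of_algebraMap_eq fun _ => rfl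
  haveI : Algebra.IsIntegral k Kb := ⟨fun c => (Algebra.IsIntegral.isIntegral (R := A) c).tower_top⟩
  haveI := Groth.L02.GeomIrredField.irreducible_of_separable_elements (k := k) (K := q.ResidueField) hsep Kb
  let T := q.ResidueField ⊗[k] Kb
  haveI : IrreducibleSpace (PrimeSpectrum T) :=
    (PrimeSpectrum.homeomorphOfRingEquiv (Algebra.TensorProduct.comm k Kb q.ResidueField).toRingEquiv).surjective.irreducibleSpace
      (Homeomorph.continuous _)
  have hnil := PrimeSpectrum.irreducibleSpace_iff_isPrime_nilradical.mp ‹IrreducibleSpace (PrimeSpectrum T)›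
  have huniq : ∀ I : Ideal T, I.IsPrime → I = nilradical T := fun I hI => by
    haveI := hnil
    haveI : (nilradical T).IsMaximal := by
      refine Ideal.isMaximal_of_isIntegral_of_isMaximal_comap (R := q.ResidueField) _ ?_
      rw [(Ideal.eq_bot_or_top ((nilradical T).comap (algebraMap q.ResidueField T))).resolve_right
        (Ideal.IsPrime.comap _).ne_top]
      exact Ideal.bot_isMaximal
    exact (Ideal.IsMaximal.eq_of_le inferInstance hI.ne_top (nilradical_le_prime I)).symm
  let Φ : Kb ⊗[A] D →ₐ[A] T := Algebra.TensorProduct.lift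
    ((Algebra.TensorProduct.includeRight : Kb →ₐ[k] T).restrictScalars A)
    (((Algebra.TensorProduct.includeLeft : q.ResidueField →ₐ[k] T).restrictScalars A).comp
      (IsScalarTower.toAlgHom A D q.ResidueField)) fun _ _ => Commute.all _ _
  have hall : ∀ (I : Ideal (Kb ⊗[A] D)) [I.IsPrime],
      I.comap (Algebra.TensorProduct.includeRight : D →ₐ[A] Kb ⊗[A] D).toRingHom = q →
        I = (nilradical T).comap Φ.toRingHom := by
    intro I _ hI
    let a₀ : D →ₐ[A] I.ResidueField :=
      (IsScalarTower.toAlgHom A (Kb ⊗[A] D) I.ResidueField).comp Algebra.TensorProduct.includeRight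
    have ha₁ : q ≤ RingHom.ker a₀ := fun z hz => by
      rw [← hI] at hz
      exact Ideal.algebraMap_residueField_eq_zero.mpr hz
    have ha₂ : q.primeCompl ≤ (IsUnit.submonoid I.ResidueField).comap a₀ := fun z hz => Ne.isUnit fun h => hz (by
      rw [← hI]
      change algebraMap (Kb ⊗[A] D) I.ResidueField ((1 : Kb) ⊗ₜ[A] z) = 0 at h
      exact Ideal.mem_comap.mpr (Ideal.algebraMap_residueField_eq_zero.mp h))
    let a : q.ResidueField →ₐ[A] I.ResidueField := Ideal.ResidueField.liftₐ q a₀ ha₁ ha₂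
    let cK : Kb →ₐ[A] I.ResidueField :=
      (IsScalarTower.toAlgHom A (Kb ⊗[A] D) I.ResidueField).comp Algebra.TensorProduct.includeLeft
    letI : Algebra k I.ResidueField := (cK.toRingHom.comp (algebraMap k Kb)).toAlgebra
    haveI : IsScalarTower A k I.ResidueField := IsScalarTower.of_algebraMap_eq fun x => (cK.commutes x).symm
    let ak : q.ResidueField →ₐ[k] I.ResidueField :=
      { a.toRingHom with
        commutes' := fun x => by
          obtain ⟨x, rfl⟩ := Ideal.Quotient.mk_surjective x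
          show a (algebraMap k q.ResidueField (algebraMap A k x)) = algebraMap k I.ResidueField (algebraMap A k x)
          rw [← IsScalarTower.algebraMap_apply A k q.ResidueField, a.commutes]
          exact IsScalarTower.algebraMap_apply A k I.ResidueField x }
    let ck : Kb →ₐ[k] I.ResidueField := { cK.toRingHom with commutes' := fun _ => rfl }
    let Λ : T →ₐ[k] I.ResidueField := Algebra.TensorProduct.productMap ak ck
    have hfac : ∀ z, Λ (Φ z) = algebraMap (Kb ⊗[A] D) I.ResidueField z := fun z => by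
      induction z using TensorProduct.induction_on with
      | zero => simp
      | add x y hx hy => simp only [map_add, hx, hy]
      | tmul c d =>
        have e1 : ak (algebraMap D q.ResidueField d) = algebraMap (Kb ⊗[A] D) I.ResidueField ((1 : Kb) ⊗ₜ d) :=
          Ideal.ResidueField.liftₐ_algebraMap q a₀ ha₁ ha₂ d
        have e2 : c ⊗ₜ[A] d = (c ⊗ₜ[A] (1 : D)) * ((1 : Kb) ⊗ₜ[A] d) := by simp
        conv_rhs => rw [e2, map_mul, ← e1]
        show Λ (Φ (c ⊗ₜ[A] d)) = ck c * ak (algebraMap D q.ResidueField d)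
        rw [Algebra.TensorProduct.lift_tmul]
        show Λ (((1 : q.ResidueField) ⊗ₜ[k] c) * (algebraMap D q.ResidueField d ⊗ₜ[k] (1 : Kb))) = _
        rw [Algebra.TensorProduct.tmul_mul_tmul, one_mul, mul_one, Algebra.TensorProduct.productMap_apply_tmul, mul_comm]
    haveI : (RingHom.ker Λ.toRingHom).IsPrime := RingHom.ker_isPrime _
    rw [← huniq (RingHom.ker Λ.toRingHom) inferInstance]
    ext z
    rw [Ideal.mem_comap, RingHom.mem_ker]
    show z ∈ I ↔ Λ (Φ z) = 0
    rw [hfac, Ideal.algebraMap_residueField_eq_zero]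
  rw [hall P hP, hall P' hP']

end Groth.L07.FlatFamily
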