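import Groth.Agent.L07.FlatFamilyDetect
import Groth.Agent.L20.ModPullback
import Groth.Agent.L23.FlatLift
import Groth.Agent.L19.SupportPullback
import Groth.Agent.L16.AffineBC.Pullback
import Groth.Agent.S9350
import Groth.Prelude.Def_FlatMod2
import Groth.Prelude.Def_Coh

/-!
Descent of flatness along families of local homomorphisms (EGA IV 11.5) for schemes.
-/

universe u

open CategoryTheory CategoryTheory.Limits AlgebraicGeometry TensorProduct

namespace Groth.L07.FlatFamily

set_option autoImplicit false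
set_option linter.style.haveILetI false
set_option maxSynthPendingDepth 3
set_option backward.isDefEq.respectTransparency.types false
set_option backward.isDefEq.respectTransparency false

noncomputable section

/-- The map to a stalk of a spectrum. -/
abbrev tst (S : CommRingCat.{u}) (p : Spec S) : S ⟶ (Spec S).presheaf.stalk p := StructureSheaf.toStalk S p

theorem tst_eq (S : CommRingCat.{u}) (p : Spec S) : (Spec S).fromSpecStalk p = Spec.map (tst S p) :=
  Spec.fromSpecStalk_eq' _ _

/-- Stalks of pullbacks are base changes, with the homomorphism of local rings given by its spectrum. -/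
theorem exists_isBaseChange_stalk {Z X : Scheme.{u}} (h : Z ⟶ X) (G : X.Modules) (z : Z) {x : X} (hx : h z = x)
    (σ : X.presheaf.stalk x ⟶ Z.presheaf.stalk z)
    (hσ : Spec.map σ ≫ X.fromSpecStalk x = Z.fromSpecStalk z ≫ h) :
    letI : Algebra (X.presheaf.stalk x) (Z.presheaf.stalk z) := σ.hom.toAlgebra
    letI : Module (X.presheaf.stalk x) (((Scheme.Modules.pullback h).obj G).presheaf.stalk z) :=
      Module.compHom _ σ.hom
    haveI : IsScalarTower (X.presheaf.stalk x) (Z.presheaf.stalk z)
        (((Scheme.Modules.pullback h).obj G).presheaf.stalk z) := IsScalarTower.of_algebraMap_smul fun _ _ => rfl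
    ∃ g : G.presheaf.stalk x →ₗ[X.presheaf.stalk x] ((Scheme.Modules.pullback h).obj G).presheaf.stalk z,
      IsBaseChange (Z.presheaf.stalk z) g := by
  subst hx
  obtain rfl : σ = h.stalkMap z := Spec.map_injective
    ((cancel_mono (X.fromSpecStalk (h z))).mp (hσ.trans (Scheme.SpecMap_stalkMap_fromSpecStalk h).symm))
  letI : Algebra (X.presheaf.stalk (h z)) (Z.presheaf.stalk z) := (h.stalkMap z).hom.toAlgebra
  letI : Module (X.presheaf.stalk (h z)) (((Scheme.Modules.pullback h).obj G).presheaf.stalk z) :=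
    Module.compHom _ (h.stalkMap z).hom
  haveI : IsScalarTower (X.presheaf.stalk (h z)) (Z.presheaf.stalk z)
      (((Scheme.Modules.pullback h).obj G).presheaf.stalk z) := IsScalarTower.of_algebraMap_smul fun _ _ => rfl
  let e : ((Scheme.Modules.pullback h).obj G).presheaf.stalk z ≃ₗ[Z.presheaf.stalk z]
      Z.presheaf.stalk z ⊗[X.presheaf.stalk (h z)] G.presheaf.stalk (h z) :=
    ((Groth.L00.PullStalk.stalkIso h z).app G).toLinearEquiv
  exact ⟨(e.symm.toLinearMap.restrictScalars (X.presheaf.stalk (h z))) ∘ₗ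
      TensorProduct.mk (X.presheaf.stalk (h z)) (Z.presheaf.stalk z) (G.presheaf.stalk (h z)) 1,
    IsBaseChange.of_equiv e.symm fun m => rfl⟩

/-- Flatness over an affine base at a point of an affine scheme, on the ring of the base. -/
theorem flat_compHom_of_isFlatOverAt {R S : CommRingCat.{u}} (ψ : R ⟶ S) (N : (Spec S).Modules) (p : Spec S)
    (h : FlatMod.IsFlatOverAt (Spec.map ψ) N p) :
    @Module.Flat R (N.presheaf.stalk p) _ _
      (Module.compHom _ (ψ ≫ tst S p).hom) := by
  let b := Spec.map ψ p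
  letI : Module R (N.presheaf.stalk p) := Module.compHom _ (ψ ≫ tst S p).hom
  letI : Algebra R ((Spec R).presheaf.stalk b) := (tst R b).hom.toAlgebra
  haveI : IsLocalization.AtPrime ((Spec R).presheaf.stalk b) b.asIdeal := StructureSheaf.IsLocalization.to_stalk R b
  letI := FlatMod.moduleStalkOver (Spec.map ψ) N p
  have heq : tst R b ≫ (Spec.map ψ).stalkMap p = ψ ≫ tst S p := by
    apply Spec.map_injective
    rw [Spec.map_comp, Spec.map_comp, ← tst_eq, ← tst_eq]
    exact Scheme.SpecMap_stalkMap_fromSpecStalk (Spec.map ψ)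
  haveI : IsScalarTower R ((Spec R).presheaf.stalk b) (N.presheaf.stalk p) :=
    IsScalarTower.of_algebraMap_smul fun r m => by
      show ((Spec.map ψ).stalkMap p).hom ((tst R b).hom r) • m =
        (ψ ≫ tst S p).hom r • m
      rw [← heq]
      rfl
  exact (Module.flat_iff_of_isLocalization ((Spec R).presheaf.stalk b) b.asIdeal.primeCompl (N.presheaf.stalk p)).mp h

variable {X Y : Scheme.{u}} (f : X ⟶ Y) (x : X) (R : Type u) [CommRing R]
  [Algebra (Y.presheaf.stalk (f x)) R]

/-- The fibre product of `Spec O_x` with the local scheme. -/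
abbrev FibTensor : Type u :=
  letI : Algebra (Y.presheaf.stalk (f x)) (X.presheaf.stalk x) := (f.stalkMap x).hom.toAlgebra
  X.presheaf.stalk x ⊗[Y.presheaf.stalk (f x)] R

/-- The morphism to the local scheme. -/
abbrev famMap : Spec (CommRingCat.of R) ⟶ Y :=
  Spec.map (CommRingCat.ofHom (algebraMap (Y.presheaf.stalk (f x)) R)) ≫ Y.fromSpecStalk (f x)

/-- The inclusion of the local ring. -/
abbrev inl : X.presheaf.stalk x ⟶ CommRingCat.of (FibTensor f x R) :=
  letI : Algebra (Y.presheaf.stalk (f x)) (X.presheaf.stalk x) := (f.stalkMap x).hom.toAlgebra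
  CommRingCat.ofHom (Algebra.TensorProduct.includeLeftRingHom : X.presheaf.stalk x →+* FibTensor f x R)

/-- The inclusion of the parameter ring. -/
abbrev inr : CommRingCat.of R ⟶ CommRingCat.of (FibTensor f x R) :=
  letI : Algebra (Y.presheaf.stalk (f x)) (X.presheaf.stalk x) := (f.stalkMap x).hom.toAlgebra
  CommRingCat.ofHom (Algebra.TensorProduct.includeRight : R →ₐ[Y.presheaf.stalk (f x)] FibTensor f x R).toRingHom

theorem isPullback_tensor :
    IsPullback (Spec.map (inl f x R)) (Spec.map (inr f x R)) (X.fromSpecStalk x ≫ f) (famMap f x R) := by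
  letI : Algebra (Y.presheaf.stalk (f x)) (X.presheaf.stalk x) := (f.stalkMap x).hom.toAlgebra
  have h := isPullback_SpecMap_of_isPushout _ _ _ _
    (CommRingCat.isPushout_tensorProduct (Y.presheaf.stalk (f x)) (X.presheaf.stalk x) R)
  rw [← Scheme.SpecMap_stalkMap_fromSpecStalk]
  exact IsPullback.of_isLimit' ⟨by simp only [← Category.assoc]; exact congrArg (· ≫ Y.fromSpecStalk (f x)) h.w⟩
    (PullbackCone.isLimitOfCompMono _ _ (Y.fromSpecStalk (f x)) _ h.isLimit)

/-- The map to the fibre product. -/
def toFib : Spec (CommRingCat.of (FibTensor f x R)) ⟶ pullback f (famMap f x R) :=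
  pullback.lift (Spec.map (inl f x R) ≫ X.fromSpecStalk x) (Spec.map (inr f x R))
    (by rw [Category.assoc]; exact (isPullback_tensor f x R).w)

@[reassoc]
theorem toFib_fst : toFib f x R ≫ pullback.fst f _ = Spec.map (inl f x R) ≫ X.fromSpecStalk x :=
  pullback.lift_fst _ _ _

@[reassoc]
theorem toFib_snd : toFib f x R ≫ pullback.snd f _ = Spec.map (inr f x R) := pullback.lift_snd _ _ _

theorem isPullback_toFib :
    IsPullback (toFib f x R) (Spec.map (inl f x R)) (pullback.fst f (famMap f x R)) (X.fromSpecStalk x) := by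
  refine IsPullback.of_right ?_ (toFib_fst f x R) (IsPullback.of_hasPullback f (famMap f x R)).flip
  rw [toFib_snd]
  exact (isPullback_tensor f x R).flip

instance flat_toFib : Flat (toFib f x R) :=
  MorphismProperty.of_isPullback (isPullback_toFib f x R).flip (Groth.L23.flat_fromSpecStalk x)

theorem toFib_fst_apply (P : Spec (CommRingCat.of (FibTensor f x R)))
    (hP : P.asIdeal.comap (inl f x R).hom = IsLocalRing.maximalIdeal (X.presheaf.stalk x)) :
    pullback.fst f (famMap f x R) (toFib f x R P) = x := by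
  rw [← Scheme.Hom.comp_apply, toFib_fst, Scheme.Hom.comp_apply]
  conv_rhs => rw [← Scheme.fromSpecStalk_closedPoint (x := x)]
  congr 1
  exact PrimeSpectrum.ext hP

theorem toFib_snd_apply [IsLocalRing R] (P : Spec (CommRingCat.of (FibTensor f x R)))
    (hP : IsLocalRing.maximalIdeal R ≤ P.asIdeal.comap (inr f x R).hom) :
    pullback.snd f (famMap f x R) (toFib f x R P) = IsLocalRing.closedPoint R := by
  rw [← Scheme.Hom.comp_apply, toFib_snd]
  exact PrimeSpectrum.ext ((IsLocalRing.maximalIdeal.isMaximal R).eq_of_le (Ideal.IsPrime.ne_top inferInstance) hP).symm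

theorem exists_prime_of_point [IsLocalRing R] (x' : ↥(pullback f (famMap f x R)))
    (h1 : pullback.fst f (famMap f x R) x' = x) (h2 : pullback.snd f (famMap f x R) x' = IsLocalRing.closedPoint R) :
    ∃ P : Spec (CommRingCat.of (FibTensor f x R)), toFib f x R P = x' ∧
      P.asIdeal.comap (inl f x R).hom = IsLocalRing.maximalIdeal (X.presheaf.stalk x) ∧
      IsLocalRing.maximalIdeal R ≤ P.asIdeal.comap (inr f x R).hom := by
  obtain ⟨P, hP1, hP2⟩ := Scheme.exists_preimage_of_isPullback (isPullback_toFib f x R) x'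
    (IsLocalRing.closedPoint (X.presheaf.stalk x)) (by rw [h1]; exact Scheme.fromSpecStalk_closedPoint.symm)
  refine ⟨P, hP1, congrArg PrimeSpectrum.asIdeal hP2, ?_⟩
  have h3 : Spec.map (inr f x R) P = IsLocalRing.closedPoint R := by
    rw [← toFib_snd, Scheme.Hom.comp_apply]
    exact (congrArg (pullback.snd f (famMap f x R)) hP1).trans h2
  exact (congrArg PrimeSpectrum.asIdeal h3).ge

/-- The point data used in the detection: a flat module with its map from the stalk. -/
theorem exists_map (F : X.Modules) [Coh.IsQCoh F] [Coh.IsQCoh ((Scheme.Modules.pullback (pullback.fst f (famMap f x R))).obj F)]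
    (P : Spec (CommRingCat.of (FibTensor f x R)))
    (hP : P.asIdeal.comap (inl f x R).hom = IsLocalRing.maximalIdeal (X.presheaf.stalk x))
    (hflat : FlatMod.IsFlatOverAt (pullback.snd f (famMap f x R))
      ((Scheme.Modules.pullback (pullback.fst f (famMap f x R))).obj F) (toFib f x R P)) :
    let N := ((Scheme.Modules.pullback (toFib f x R)).obj
      ((Scheme.Modules.pullback (pullback.fst f (famMap f x R))).obj F)).presheaf.stalk P
    letI : Algebra (X.presheaf.stalk x) ((Spec (CommRingCat.of (FibTensor f x R))).presheaf.stalk P) :=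
      (inl f x R ≫ tst _ P).hom.toAlgebra
    letI : Module (X.presheaf.stalk x) N := Module.compHom _ (inl f x R ≫ tst _ P).hom
    haveI : IsScalarTower (X.presheaf.stalk x) ((Spec (CommRingCat.of (FibTensor f x R))).presheaf.stalk P) N :=
      IsScalarTower.of_algebraMap_smul fun _ _ => rfl
    (∃ g : F.presheaf.stalk x →ₗ[X.presheaf.stalk x] N,
      IsBaseChange ((Spec (CommRingCat.of (FibTensor f x R))).presheaf.stalk P) g) ∧
      @Module.Flat R N _ _ (Module.compHom _ (inr f x R ≫ tst _ P).hom) := by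
  intro N
  let c := toFib f x R
  let h := pullback.fst f (famMap f x R)
  have hx := toFib_fst_apply f x R P hP
  refine ⟨?_, ?_⟩
  · let σ : X.presheaf.stalk x ⟶ (pullback f (famMap f x R)).presheaf.stalk (c P) :=
      X.presheaf.stalkSpecializes (specializes_of_eq hx) ≫ h.stalkMap (c P)
    have hσ : Spec.map σ ≫ X.fromSpecStalk x = (pullback f (famMap f x R)).fromSpecStalk (c P) ≫ h := by
      rw [Spec.map_comp, Category.assoc, Scheme.SpecMap_stalkSpecializes_fromSpecStalk,
        Scheme.SpecMap_stalkMap_fromSpecStalk]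
    have htot : σ ≫ c.stalkMap P = inl f x R ≫ tst _ P := by
      apply Spec.map_injective
      rw [← cancel_mono (X.fromSpecStalk x), Spec.map_comp, Category.assoc, hσ,
        Scheme.SpecMap_stalkMap_fromSpecStalk_assoc, Spec.map_comp, Category.assoc, ← tst_eq]
      exact congrArg _ (toFib_fst f x R)
    obtain ⟨g₁, hg₁⟩ := exists_isBaseChange_stalk h F (c P) hx σ hσ
    obtain ⟨g₂, hg₂⟩ := exists_isBaseChange_stalk c ((Scheme.Modules.pullback h).obj F) P rfl (c.stalkMap P)
      (Scheme.SpecMap_stalkMap_fromSpecStalk c)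
    letI : Algebra (X.presheaf.stalk x) ((pullback f (famMap f x R)).presheaf.stalk (c P)) := σ.hom.toAlgebra
    letI : Algebra ((pullback f (famMap f x R)).presheaf.stalk (c P))
        ((Spec (CommRingCat.of (FibTensor f x R))).presheaf.stalk P) := (c.stalkMap P).hom.toAlgebra
    letI : Algebra (X.presheaf.stalk x) ((Spec (CommRingCat.of (FibTensor f x R))).presheaf.stalk P) :=
      (inl f x R ≫ tst _ P).hom.toAlgebra
    haveI : IsScalarTower (X.presheaf.stalk x) ((pullback f (famMap f x R)).presheaf.stalk (c P))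
        ((Spec (CommRingCat.of (FibTensor f x R))).presheaf.stalk P) :=
      IsScalarTower.of_algebraMap_eq' (congrArg CommRingCat.Hom.hom htot).symm
    letI : Module (X.presheaf.stalk x) (((Scheme.Modules.pullback h).obj F).presheaf.stalk (c P)) :=
      Module.compHom _ σ.hom
    haveI : IsScalarTower (X.presheaf.stalk x) ((pullback f (famMap f x R)).presheaf.stalk (c P))
        (((Scheme.Modules.pullback h).obj F).presheaf.stalk (c P)) :=
      IsScalarTower.of_algebraMap_smul fun _ _ => rfl
    letI : Module ((pullback f (famMap f x R)).presheaf.stalk (c P)) N := Module.compHom _ (c.stalkMap P).hom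
    haveI : IsScalarTower ((pullback f (famMap f x R)).presheaf.stalk (c P))
        ((Spec (CommRingCat.of (FibTensor f x R))).presheaf.stalk P) N :=
      IsScalarTower.of_algebraMap_smul fun _ _ => rfl
    letI : Module (X.presheaf.stalk x) N := Module.compHom _ (inl f x R ≫ tst _ P).hom
    haveI : IsScalarTower (X.presheaf.stalk x) ((Spec (CommRingCat.of (FibTensor f x R))).presheaf.stalk P) N :=
      IsScalarTower.of_algebraMap_smul fun _ _ => rfl
    haveI : IsScalarTower (X.presheaf.stalk x) ((pullback f (famMap f x R)).presheaf.stalk (c P)) N :=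
      IsScalarTower.of_algebraMap_smul fun a m => by
        show (c.stalkMap P).hom (σ.hom a) • m = (inl f x R ≫ tst _ P).hom a • m
        rw [← htot]
        rfl
    exact ⟨_, hg₁.comp hg₂⟩
  · have h1 := (Groth.Agent.S9350.result c (pullback.snd f (famMap f x R))
      ((Scheme.Modules.pullback h).obj F) inferInstance P (Flat.stalkMap c P)).mp hflat
    rw [toFib_snd] at h1
    exact flat_compHom_of_isFlatOverAt _ _ _ h1

/-- Flat modules over `R` detecting independence in `M`. -/
structure Datum (A : Type u) [CommRing A] [IsLocalRing A] (M : Type u) [AddCommGroup M] [Module A M]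
    (R : Type u) [CommRing R] [IsLocalRing R] [Algebra A R] where
  J : Type u
  N : J → Type u
  acg : ∀ j, AddCommGroup (N j)
  modR : ∀ j, Module R (N j)
  modA : ∀ j, Module A (N j)
  tower : ∀ j, IsScalarTower A R (N j)
  flat : ∀ j, Module.Flat R (N j)
  ρ : ∀ j, M →ₗ[A] N j
  det : Detects A M R N ρ

set_option maxHeartbeats 1000000 in
/-- Points with flat pullback, meeting every geometric point over `x`, detect independence. -/
theorem datum_of_points [IsLocalRing R] (F : X.Modules) [Coh.IsQCoh F]
    (Kb L : Type u) [Field Kb] [IsAlgClosed Kb] [Algebra (Y.presheaf.stalk (f x)) Kb] [Field L]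
    [Algebra (Y.presheaf.stalk (f x)) L] [Algebra R L] [Algebra Kb L]
    [IsScalarTower (Y.presheaf.stalk (f x)) R L] [IsScalarTower (Y.presheaf.stalk (f x)) Kb L]
    [Algebra.IsIntegral (Y.presheaf.stalk (f x)) Kb]
    (hRL : ∀ r ∈ IsLocalRing.maximalIdeal R, algebraMap R L r = 0)
    {J : Type u} (P : J → Spec (CommRingCat.of (FibTensor f x R)))
    (hP : ∀ j, (P j).asIdeal.comap (inl f x R).hom = IsLocalRing.maximalIdeal (X.presheaf.stalk x))
    (hflat : ∀ j, FlatMod.IsFlatOverAt (pullback.snd f (famMap f x R))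
      ((Scheme.Modules.pullback (pullback.fst f (famMap f x R))).obj F) (toFib f x R (P j)))
    (hQ : letI : Algebra (Y.presheaf.stalk (f x)) (X.presheaf.stalk x) := (f.stalkMap x).hom.toAlgebra
      ∀ (qb : Ideal (Kb ⊗[Y.presheaf.stalk (f x)] X.presheaf.stalk x)) [qb.IsPrime],
        qb.comap (Algebra.TensorProduct.includeRight :
          X.presheaf.stalk x →ₐ[Y.presheaf.stalk (f x)] Kb ⊗[Y.presheaf.stalk (f x)] X.presheaf.stalk x).toRingHom =
          IsLocalRing.maximalIdeal (X.presheaf.stalk x) →
        ∃ j, ∀ t, toRes (L := L) qb (toBig (Y.presheaf.stalk (f x)) (X.presheaf.stalk x) R Kb L t) = 0 →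
          t ∈ (P j).asIdeal) :
    letI := FlatMod.moduleStalkOver f F x
    Nonempty (Datum (Y.presheaf.stalk (f x)) (F.presheaf.stalk x) R) := by
  let A := Y.presheaf.stalk (f x)
  let D := X.presheaf.stalk x
  let M := F.presheaf.stalk x
  let S : CommRingCat.{u} := CommRingCat.of (FibTensor f x R)
  haveI := Groth.L16.AffineBC.isQCoh_pullback (pullback.fst f (famMap f x R)) F
  let N := fun j => ((Scheme.Modules.pullback (toFib f x R)).obj
    ((Scheme.Modules.pullback (pullback.fst f (famMap f x R))).obj F)).presheaf.stalk (P j)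
  letI : Algebra A D := (f.stalkMap x).hom.toAlgebra
  letI := FlatMod.moduleStalkOver f F x
  haveI : IsScalarTower A D M := IsScalarTower.of_algebraMap_smul fun _ _ => rfl
  letI algS : ∀ j, Algebra (D ⊗[A] R) ((Spec S).presheaf.stalk (P j)) := fun j => (tst S (P j)).hom.toAlgebra
  haveI : ∀ j, IsLocalization.AtPrime ((Spec S).presheaf.stalk (P j)) (P j).asIdeal :=
    fun j => StructureSheaf.IsLocalization.to_stalk S (P j)
  letI algD : ∀ j, Algebra D ((Spec S).presheaf.stalk (P j)) :=
    fun j => (inl f x R ≫ tst S (P j)).hom.toAlgebra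
  letI modD : ∀ j, Module D (N j) := fun j => Module.compHom _ (inl f x R ≫ tst S (P j)).hom
  haveI : ∀ j, IsScalarTower D ((Spec S).presheaf.stalk (P j)) (N j) :=
    fun j => IsScalarTower.of_algebraMap_smul fun _ _ => rfl
  letI modR : ∀ j, Module R (N j) := fun j => Module.compHom _ (inr f x R ≫ tst S (P j)).hom
  letI modA : ∀ j, Module A (N j) := fun j => Module.compHom _ (algebraMap A D)
  haveI : ∀ j, IsScalarTower A D (N j) := fun j => IsScalarTower.of_algebraMap_smul fun _ _ => rfl
  have tower : ∀ j, IsScalarTower A R (N j) := fun j => IsScalarTower.of_algebraMap_smul fun a m => by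
    show (tst S (P j)).hom ((1 : D) ⊗ₜ[A] algebraMap A R a) • m =
      (tst S (P j)).hom ((algebraMap A D a) ⊗ₜ[A] (1 : R)) • m
    rw [Algebra.algebraMap_eq_smul_one, Algebra.algebraMap_eq_smul_one, TensorProduct.smul_tmul]
  choose g hg using fun j => (exists_map f x R F (P j) (hP j) (hflat j)).1
  haveI : IsLocalizedModule (IsLocalRing.maximalIdeal D).primeCompl (LinearMap.id : M →ₗ[D] M) :=
    (isLocalizedModule_iff _ _).mpr ⟨fun t => (not_not.mp fun h => t.2 ((IsLocalRing.mem_maximalIdeal (t : D)).mpr h) :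
      IsUnit (t : D)).map (algebraMap D (Module.End D M)), fun y => ⟨⟨y, 1⟩, by simp⟩, fun h => ⟨1, by simpa using h⟩⟩
  refine ⟨⟨J, fun j => N j, inferInstance, modR, modA, tower,
    fun j => (exists_map f x R F (P j) (hP j) (hflat j)).2, fun j => (g j).restrictScalars A, ?_⟩⟩
  exact detects_core (Q := fun j => (P j).asIdeal) (T := fun j => (Spec S).presheaf.stalk (P j))
    (Kb := Kb) (L := L) (IsLocalRing.maximalIdeal D) hRL LinearMap.id (fun j c => rfl) g hg g (fun j m => rfl)
    (fun j r y => rfl) hQ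

variable [LocallyOfFiniteType f] [IsLocallyNoetherian Y]

/-- Flatness from data over a family defining the adic topology. -/
theorem flat_of_data (F : X.Modules) (hF : Coh.IsCoh F) {ι : Type u} (R : ι → Type u) [∀ i, CommRing (R i)]
    [∀ i, IsLocalRing (R i)] [∀ i, Algebra (Y.presheaf.stalk (f x)) (R i)]
    (htop : ∀ k : ℕ, ∃ I : ∀ i, Ideal (R i),
      (∀ a : Y.presheaf.stalk (f x), (∀ i, algebraMap _ (R i) a ∈ I i) → a ∈ IsLocalRing.maximalIdeal _ ^ k) ∧
      ∃ K : ℕ, ∀ i, (IsLocalRing.maximalIdeal (Y.presheaf.stalk (f x)) ^ K).map (algebraMap _ (R i)) ≤ I i)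
    (hd : letI := FlatMod.moduleStalkOver f F x
      ∀ i, Nonempty (Datum (Y.presheaf.stalk (f x)) (F.presheaf.stalk x) (R i))) :
    FlatMod.IsFlatOverAt f F x := by
  haveI : IsLocallyNoetherian X := LocallyOfFiniteType.isLocallyNoetherian f
  letI : Algebra (Y.presheaf.stalk (f x)) (X.presheaf.stalk x) := (f.stalkMap x).hom.toAlgebra
  letI := FlatMod.moduleStalkOver f F x
  haveI : IsScalarTower (Y.presheaf.stalk (f x)) (X.presheaf.stalk x) (F.presheaf.stalk x) :=
    IsScalarTower.of_algebraMap_smul fun _ _ => rfl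
  haveI : IsLocalHom (algebraMap (Y.presheaf.stalk (f x)) (X.presheaf.stalk x)) :=
    inferInstanceAs (IsLocalHom (f.stalkMap x).hom)
  haveI := Groth.L19.SupportPullback.finite_stalk F hF x
  let d := fun i => (hd i).some
  letI : ∀ i j, AddCommGroup ((d i).N j) := fun i => (d i).acg
  letI : ∀ i j, Module (R i) ((d i).N j) := fun i => (d i).modR
  letI : ∀ i j, Module (Y.presheaf.stalk (f x)) ((d i).N j) := fun i => (d i).modA
  haveI : ∀ i j, IsScalarTower (Y.presheaf.stalk (f x)) (R i) ((d i).N j) := fun i => (d i).tower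
  haveI : ∀ i j, Module.Flat (R i) ((d i).N j) := fun i => (d i).flat
  exact flat_of_detects (B := X.presheaf.stalk x) R (fun i => (d i).N) (fun i => (d i).ρ) (fun i => (d i).det) htop

omit [LocallyOfFiniteType f] [IsLocallyNoetherian Y] in
/-- The geometric fields of a local homomorphism. -/
theorem exists_fields [IsLocalRing R] [IsLocalHom (algebraMap (Y.presheaf.stalk (f x)) R)] :
    ∃ (_ : Algebra (AlgebraicClosure (IsLocalRing.ResidueField (Y.presheaf.stalk (f x))))
        (AlgebraicClosure (IsLocalRing.ResidueField R))),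
      IsScalarTower (Y.presheaf.stalk (f x)) (AlgebraicClosure (IsLocalRing.ResidueField (Y.presheaf.stalk (f x))))
        (AlgebraicClosure (IsLocalRing.ResidueField R)) := by
  letI ak : Algebra (IsLocalRing.ResidueField (Y.presheaf.stalk (f x))) (AlgebraicClosure (IsLocalRing.ResidueField R)) :=
    ((algebraMap (IsLocalRing.ResidueField R) (AlgebraicClosure (IsLocalRing.ResidueField R))).comp
      (IsLocalRing.ResidueField.map (algebraMap (Y.presheaf.stalk (f x)) R))).toAlgebra
  let j : AlgebraicClosure (IsLocalRing.ResidueField (Y.presheaf.stalk (f x))) →ₐ[IsLocalRing.ResidueField (Y.presheaf.stalk (f x))]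
      AlgebraicClosure (IsLocalRing.ResidueField R) := IsAlgClosed.lift
  letI aKL : Algebra (AlgebraicClosure (IsLocalRing.ResidueField (Y.presheaf.stalk (f x))))
      (AlgebraicClosure (IsLocalRing.ResidueField R)) := j.toRingHom.toAlgebra
  refine ⟨aKL, IsScalarTower.of_algebraMap_eq fun a => ?_⟩
  show _ = j (algebraMap (Y.presheaf.stalk (f x)) _ a)
  rw [IsScalarTower.algebraMap_apply (Y.presheaf.stalk (f x)) (IsLocalRing.ResidueField (Y.presheaf.stalk (f x))) (AlgebraicClosure (IsLocalRing.ResidueField (Y.presheaf.stalk (f x)))), j.commutes,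
    IsScalarTower.algebraMap_apply (Y.presheaf.stalk (f x)) (IsLocalRing.ResidueField R) (AlgebraicClosure (IsLocalRing.ResidueField R))]
  rfl

/-- EGA IV 11.5: flatness descends along a family defining the adic topology. -/
theorem flat_of_forall (F : X.Modules) (hF : Coh.IsCoh F) {ι : Type u} (R : ι → Type u) [∀ i, CommRing (R i)]
    [∀ i, IsLocalRing (R i)] [∀ i, Algebra (Y.presheaf.stalk (f x)) (R i)]
    [∀ i, IsLocalHom (algebraMap (Y.presheaf.stalk (f x)) (R i))]
    (htop : ∀ k : ℕ, ∃ I : ∀ i, Ideal (R i),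
      (∀ a : Y.presheaf.stalk (f x), (∀ i, algebraMap _ (R i) a ∈ I i) → a ∈ IsLocalRing.maximalIdeal _ ^ k) ∧
      ∃ K : ℕ, ∀ i, (IsLocalRing.maximalIdeal (Y.presheaf.stalk (f x)) ^ K).map (algebraMap _ (R i)) ≤ I i)
    (g : ∀ i, Spec (CommRingCat.of (R i)) ⟶ Y) (hg : ∀ i, g i = famMap f x (R i))
    (hflat : ∀ (i : ι) (x' : ↥(pullback f (g i))), pullback.fst f (g i) x' = x →
      pullback.snd f (g i) x' = IsLocalRing.closedPoint (R i) →
      FlatMod.IsFlatOverAt (pullback.snd f (g i)) ((Scheme.Modules.pullback (pullback.fst f (g i))).obj F) x') :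
    FlatMod.IsFlatOverAt f F x := by
  obtain rfl : g = fun i => famMap f x (R i) := funext hg
  haveI : Coh.IsQCoh F := hF.1
  refine flat_of_data f x F hF R htop fun i => ?_
  obtain ⟨_, _⟩ := exists_fields f x (R i)
  letI : Algebra (Y.presheaf.stalk (f x)) (X.presheaf.stalk x) := (f.stalkMap x).hom.toAlgebra
  haveI : Algebra.IsIntegral (Y.presheaf.stalk (f x)) (AlgebraicClosure (IsLocalRing.ResidueField (Y.presheaf.stalk (f x)))) :=
    Algebra.IsIntegral.trans (IsLocalRing.ResidueField (Y.presheaf.stalk (f x)))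
  let S := { P : Spec (CommRingCat.of (FibTensor f x (R i))) //
    P.asIdeal.comap (inl f x (R i)).hom = IsLocalRing.maximalIdeal (X.presheaf.stalk x) ∧
      IsLocalRing.maximalIdeal (R i) ≤ P.asIdeal.comap (inr f x (R i)).hom }
  have hRL : ∀ r ∈ IsLocalRing.maximalIdeal (R i),
      algebraMap (R i) (AlgebraicClosure (IsLocalRing.ResidueField (R i))) r = 0 := fun r hr => by
    rw [IsScalarTower.algebraMap_apply (R i) (IsLocalRing.ResidueField (R i)), IsLocalRing.ResidueField.algebraMap_eq,
      (IsLocalRing.residue_eq_zero_iff r).mpr hr, map_zero]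
  refine datum_of_points f x (R i) F (AlgebraicClosure (IsLocalRing.ResidueField (Y.presheaf.stalk (f x)))) (AlgebraicClosure (IsLocalRing.ResidueField (R i))) hRL
    (fun P : S => P.1) (fun P => P.2.1)
    (fun P => hflat i _ (toFib_fst_apply f x (R i) P.1 P.2.1) (toFib_snd_apply f x (R i) P.1 P.2.2)) ?_
  intro qb _ hqb
  exact hQ_of_all (Q := fun P : S => P.1.asIdeal) hRL (IsLocalRing.maximalIdeal (X.presheaf.stalk x))
    (fun P _ h1 h2 => ⟨⟨⟨P, inferInstance⟩, h1, fun r hr => h2 r hr⟩, rfl⟩) qb hqb

set_option maxHeartbeats 1000000 in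
/-- EGA IV 11.5: for a primary residue extension one flat point over each member of the family suffices. -/
theorem flat_of_exists (F : X.Modules) (hF : Coh.IsCoh F)
    (hprim : letI := (f.residueFieldMap x).hom.toAlgebra
      ∀ a : ↑(X.residueField x), IsSeparable ↑(Y.residueField (f x)) a → a ∈ (f.residueFieldMap x).hom.range)
    {ι : Type u} (R : ι → Type u) [∀ i, CommRing (R i)]
    [∀ i, IsLocalRing (R i)] [∀ i, Algebra (Y.presheaf.stalk (f x)) (R i)]
    [∀ i, IsLocalHom (algebraMap (Y.presheaf.stalk (f x)) (R i))]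
    (htop : ∀ k : ℕ, ∃ I : ∀ i, Ideal (R i),
      (∀ a : Y.presheaf.stalk (f x), (∀ i, algebraMap _ (R i) a ∈ I i) → a ∈ IsLocalRing.maximalIdeal _ ^ k) ∧
      ∃ K : ℕ, ∀ i, (IsLocalRing.maximalIdeal (Y.presheaf.stalk (f x)) ^ K).map (algebraMap _ (R i)) ≤ I i)
    (g : ∀ i, Spec (CommRingCat.of (R i)) ⟶ Y) (hg : ∀ i, g i = famMap f x (R i))
    (hflat : ∀ i : ι, ∃ x' : ↥(pullback f (g i)), pullback.fst f (g i) x' = x ∧
      pullback.snd f (g i) x' = IsLocalRing.closedPoint (R i) ∧
      FlatMod.IsFlatOverAt (pullback.snd f (g i)) ((Scheme.Modules.pullback (pullback.fst f (g i))).obj F) x') :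
    FlatMod.IsFlatOverAt f F x := by
  obtain rfl : g = fun i => famMap f x (R i) := funext hg
  haveI : Coh.IsQCoh F := hF.1
  refine flat_of_data f x F hF R htop fun i => ?_
  obtain ⟨x', h1, h2, h3⟩ := hflat i
  obtain ⟨P, rfl, hP1, hP2⟩ := exists_prime_of_point f x (R i) x' h1 h2
  obtain ⟨_, _⟩ := exists_fields f x (R i)
  letI : Algebra (Y.presheaf.stalk (f x)) (X.presheaf.stalk x) := (f.stalkMap x).hom.toAlgebra
  haveI : Algebra.IsIntegral (Y.presheaf.stalk (f x)) (AlgebraicClosure (IsLocalRing.ResidueField (Y.presheaf.stalk (f x)))) :=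
    Algebra.IsIntegral.trans (IsLocalRing.ResidueField (Y.presheaf.stalk (f x)))
  haveI : IsLocalHom (algebraMap (Y.presheaf.stalk (f x)) (X.presheaf.stalk x)) :=
    inferInstanceAs (IsLocalHom (f.stalkMap x).hom)
  let q := IsLocalRing.maximalIdeal (X.presheaf.stalk x)
  let φ : IsLocalRing.ResidueField (Y.presheaf.stalk (f x)) →+* q.ResidueField :=
    (algebraMap (X.presheaf.stalk x ⧸ q) q.ResidueField).comp (f.residueFieldMap x).hom
  letI : Algebra (IsLocalRing.ResidueField (Y.presheaf.stalk (f x))) q.ResidueField := φ.toAlgebra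
  haveI : IsScalarTower (Y.presheaf.stalk (f x)) (IsLocalRing.ResidueField (Y.presheaf.stalk (f x))) q.ResidueField :=
    IsScalarTower.of_algebraMap_eq fun a => rfl
  let e : X.residueField x ≃+* q.ResidueField :=
    RingEquiv.ofBijective (algebraMap (X.presheaf.stalk x ⧸ q) q.ResidueField) q.bijective_algebraMap_quotient_residueField
  have hsep : ∀ α : q.ResidueField, IsSeparable (IsLocalRing.ResidueField (Y.presheaf.stalk (f x))) α →
      α ∈ Set.range (algebraMap (IsLocalRing.ResidueField (Y.presheaf.stalk (f x))) q.ResidueField) := by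
    intro α hα
    obtain ⟨β, rfl⟩ := e.surjective α
    letI : Algebra (Y.residueField (f x)) (X.residueField x) := (f.residueFieldMap x).hom.toAlgebra
    letI : Algebra (Y.residueField (f x)) q.ResidueField := φ.toAlgebra
    let ea : X.residueField x →ₐ[Y.residueField (f x)] q.ResidueField :=
      { e.toRingHom with
        commutes' := fun _ => rfl }
    obtain ⟨c, hc⟩ := hprim β (IsSeparable.of_algHom ea hα)
    exact ⟨c, congrArg e hc⟩
  have hRL : ∀ r ∈ IsLocalRing.maximalIdeal (R i),
      algebraMap (R i) (AlgebraicClosure (IsLocalRing.ResidueField (R i))) r = 0 := fun r hr => by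
    rw [IsScalarTower.algebraMap_apply (R i) (IsLocalRing.ResidueField (R i)), IsLocalRing.ResidueField.algebraMap_eq,
      (IsLocalRing.residue_eq_zero_iff r).mpr hr, map_zero]
  refine datum_of_points f x (R i) F (AlgebraicClosure (IsLocalRing.ResidueField (Y.presheaf.stalk (f x)))) (AlgebraicClosure (IsLocalRing.ResidueField (R i))) hRL
    (fun _ : PUnit.{u+1} => P) (fun _ => hP1) (fun _ => h3) ?_
  intro qb _ hqb
  exact ⟨⟨⟩, hQ_of_one (Q := fun _ : PUnit.{u+1} => P.asIdeal) ⟨⟩ q hP1 (fun r hr => hP2 hr)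
    (fun P' P'' _ _ h h' => unique_over q hsep P' P'' h h') qb hqb⟩

end

end Groth.L07.FlatFamily
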