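import Mathlib.RingTheory.Flat.Basic
import Mathlib.RingTheory.Flat.Stability
import Mathlib.RingTheory.Flat.Localization
import Mathlib.Algebra.Module.Torsion.Basic
import Mathlib.RingTheory.TensorProduct.Finite
import Mathlib.RingTheory.LocalRing.RingHom.Basic
import Mathlib.RingTheory.Filtration
import Mathlib.RingTheory.Ideal.MinimalPrime.Localization
import Mathlib.LinearAlgebra.Dimension.Free
import Mathlib.LinearAlgebra.TensorProduct.RightExactness
import Mathlib.LinearAlgebra.DirectSum.Finsupp
import Mathlib.LinearAlgebra.Basis.VectorSpace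
import Mathlib.RingTheory.Ideal.Quotient.Basic
import Mathlib.RingTheory.Flat.Tensor
import Mathlib.LinearAlgebra.TensorProduct.Quotient

/-!
Flatness propagates from the generic points of a closed fibre without embedded points.
-/

universe u

open TensorProduct

namespace Groth.L07.FlatPropagate

set_option linter.style.haveILetI false

variable {A S : Type u} [CommRing A] [IsLocalRing A] [CommRing S] [Algebra A S]
  {ι : Type u} (T : ι → Type u) [∀ i, CommRing (T i)] [∀ i, Algebra A (T i)] (ψ : ∀ i, S →ₐ[A] T i)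

/-- The joint map on a residue field vector space. -/
theorem joint_injective_of_killed
    (h0 : ∀ x : (A ⧸ IsLocalRing.maximalIdeal A) ⊗[A] S,
      (∀ i, (ψ i).toLinearMap.lTensor _ x = 0) → x = 0)
    (V : Type u) [AddCommGroup V] [Module A V] (hV : ∀ a ∈ IsLocalRing.maximalIdeal A, ∀ v : V, a • v = 0)
    (x : V ⊗[A] S) (hx : ∀ i, (ψ i).toLinearMap.lTensor V x = 0) : x = 0 := by
  classical
  let k := A ⧸ IsLocalRing.maximalIdeal A
  have hVt : Module.IsTorsionBySet A V (IsLocalRing.maximalIdeal A) := fun v a => hV a a.2 v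
  letI : Module k V := hVt.module
  haveI : IsScalarTower A k V := hVt.isScalarTower
  letI : Field k := Ideal.Quotient.field _
  let b := Module.Free.chooseBasis k V
  let e : V ≃ₗ[A] (Module.Free.ChooseBasisIndex k V →₀ k) := b.repr.restrictScalars A
  let Φ := (TensorProduct.congr e (LinearEquiv.refl A S)) ≪≫ₗ
    TensorProduct.finsuppLeft A A k S (Module.Free.ChooseBasisIndex k V)
  suffices Φ x = 0 from Φ.injective (this.trans (map_zero Φ).symm)
  ext j
  refine (h0 _ fun i => ?_).trans (Finsupp.zero_apply).symm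
  let Φi := (TensorProduct.congr e (LinearEquiv.refl A (T i))) ≪≫ₗ
    TensorProduct.finsuppLeft A A k (T i) (Module.Free.ChooseBasisIndex k V)
  have hcomm : ∀ y : V ⊗[A] S, Φi ((ψ i).toLinearMap.lTensor V y) j =
      (ψ i).toLinearMap.lTensor k (Φ y j) := by
    intro y
    induction y using TensorProduct.induction_on with
    | zero => simp
    | tmul v s => simp [Φ, Φi, TensorProduct.finsuppLeft_apply_tmul_apply]
    | add p q hp hq => simp only [map_add, Finsupp.add_apply, hp, hq]
  rw [← hcomm, hx i, map_zero, Finsupp.zero_apply]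

/-- The joint map on a module killed by a power of the maximal ideal. -/
theorem joint_injective
    (h0 : ∀ x : (A ⧸ IsLocalRing.maximalIdeal A) ⊗[A] S,
      (∀ i, (ψ i).toLinearMap.lTensor _ x = 0) → x = 0)
    [∀ i, Module.Flat A (T i)] : ∀ (n : ℕ) (V : Type u) [AddCommGroup V] [Module A V],
    (∀ a ∈ IsLocalRing.maximalIdeal A ^ n, ∀ v : V, a • v = 0) →
    ∀ x : V ⊗[A] S, (∀ i, (ψ i).toLinearMap.lTensor V x = 0) → x = 0 := by
  intro n
  induction n with
  | zero =>
    intro V _ _ hV x _
    haveI : Subsingleton V := ⟨fun v w => by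
      rw [← one_smul A v, ← one_smul A w, hV 1 (by simp) v, hV 1 (by simp) w]⟩
    exact Subsingleton.elim _ _
  | succ n ih =>
    intro V _ _ hV x hx
    let V' : Submodule A V := IsLocalRing.maximalIdeal A • ⊤
    have hV' : ∀ a ∈ IsLocalRing.maximalIdeal A ^ n, ∀ v : ↥V', a • v = 0 := by
      rintro a ha ⟨v, hv⟩
      refine Subtype.ext ?_
      show a • v = 0
      refine Submodule.smul_induction_on hv (fun r hr w _ => ?_) (fun p q hp hq => by rw [smul_add, hp, hq, add_zero])
      rw [smul_smul]
      exact hV _ (pow_succ (IsLocalRing.maximalIdeal A) n ▸ Ideal.mul_mem_mul ha hr) w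
    have hVq : ∀ a ∈ IsLocalRing.maximalIdeal A, ∀ v : V ⧸ V', a • v = 0 := by
      intro a ha v
      obtain ⟨v, rfl⟩ := V'.mkQ_surjective v
      rw [← map_smul, Submodule.mkQ_apply, Submodule.Quotient.mk_eq_zero]
      exact Submodule.smul_mem_smul ha trivial
    have hq : V'.mkQ.rTensor S x = 0 := by
      refine joint_injective_of_killed T ψ h0 _ hVq _ fun i => ?_
      rw [← LinearMap.comp_apply, LinearMap.lTensor_comp_rTensor, ← LinearMap.rTensor_comp_lTensor,
        LinearMap.comp_apply, hx i, map_zero]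
    obtain ⟨y, rfl⟩ := (rTensor_exact S (LinearMap.exact_subtype_mkQ V') V'.mkQ_surjective x).mp hq
    rw [ih V' hV' y fun i => ?_, map_zero]
    refine Module.Flat.rTensor_preserves_injective_linearMap (M := T i) V'.subtype V'.injective_subtype ?_
    rw [map_zero, ← LinearMap.comp_apply, LinearMap.rTensor_comp_lTensor, ← LinearMap.lTensor_comp_rTensor,
      LinearMap.comp_apply, hx i]

/-- Flatness from a family of flat algebras detecting the closed fibre. -/
theorem flat_of_detect [IsNoetherianRing A] [IsLocalRing S] [IsNoetherianRing S] [IsLocalHom (algebraMap A S)]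
    (h0 : ∀ x : (A ⧸ IsLocalRing.maximalIdeal A) ⊗[A] S,
      (∀ i, (ψ i).toLinearMap.lTensor _ x = 0) → x = 0)
    [∀ i, Module.Flat A (T i)] : Module.Flat A S := by
  rw [Module.Flat.iff_rTensor_injective']
  intro a
  rw [injective_iff_map_eq_zero]
  intro z hz
  let m := IsLocalRing.maximalIdeal A
  let J : Ideal S := m.map (algebraMap A S)
  -- the element is divisible by all powers of the maximal ideal
  have hmem : ∀ n, z ∈ m ^ n • (⊤ : Submodule A (↥a ⊗[A] S)) := by
    intro n
    obtain ⟨k, hk⟩ := m.exists_pow_inf_eq_pow_smul a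
    let P : Submodule A ↥a := Submodule.comap a.subtype (m ^ (n + k))
    let q : (↥a ⧸ P) →ₗ[A] A ⧸ m ^ (n + k) := Submodule.mapQ P _ a.subtype le_rfl
    have hq : Function.Injective q := by
      rw [← LinearMap.ker_eq_bot, Submodule.ker_mapQ, Submodule.mkQ_map_self]
    have hkill : ∀ c ∈ m ^ (n + k), ∀ v : ↥a ⧸ P, c • v = 0 := by
      intro c hc v
      obtain ⟨v, rfl⟩ := P.mkQ_surjective v
      rw [← map_smul, Submodule.mkQ_apply, Submodule.Quotient.mk_eq_zero]
      exact (m ^ (n + k)).mul_mem_right _ hc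
    have h1 : P.mkQ.rTensor S z = 0 := by
      refine joint_injective T ψ h0 (n + k) _ hkill _ fun i => ?_
      refine Module.Flat.rTensor_preserves_injective_linearMap (M := T i) q hq ?_
      rw [map_zero, ← LinearMap.comp_apply, LinearMap.rTensor_comp_lTensor, ← LinearMap.lTensor_comp_rTensor,
        LinearMap.comp_apply, ← LinearMap.comp_apply (q.rTensor S), ← LinearMap.rTensor_comp,
        show q ∘ₗ P.mkQ = (m ^ (n + k)).mkQ ∘ₗ a.subtype from Submodule.mapQ_mkQ P _ a.subtype,
        LinearMap.rTensor_comp, LinearMap.comp_apply, hz, map_zero, map_zero]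
    obtain ⟨w, rfl⟩ := (rTensor_exact S (LinearMap.exact_subtype_mkQ P) P.mkQ_surjective z).mp h1
    clear hz h1
    induction w using TensorProduct.induction_on with
    | zero => simp
    | add x y hx hy => rw [map_add]; exact add_mem hx hy
    | tmul x s =>
      rw [LinearMap.rTensor_tmul, Submodule.subtype_apply]
      have hx : ((x : ↥a) : A) ∈ m ^ n • a := by
        have h2 : ((x : ↥a) : A) ∈ m ^ (n + k) • (⊤ : Submodule A A) ⊓ a :=
          ⟨by rw [smul_eq_mul, Ideal.mul_top]; exact x.2, (x : ↥a).2⟩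
        rw [hk (n + k) (Nat.le_add_left _ _), Nat.add_sub_cancel] at h2
        exact Submodule.smul_mono le_rfl inf_le_right h2
      obtain ⟨y, hy, hyx⟩ : ∃ y ∈ m ^ n • (⊤ : Submodule A ↥a), a.subtype y = ((x : ↥a) : A) := by
        rw [← Submodule.mem_map, Submodule.map_smul'', Submodule.map_subtype_top]; exact hx
      obtain rfl : y = (x : ↥a) := Subtype.ext hyx
      have := Submodule.mem_map_of_mem (f := (TensorProduct.mk A (↥a) S).flip s) hy
      rw [Submodule.map_smul''] at this
      exact Submodule.smul_mono le_rfl le_top this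
  -- separatedness
  let c := TensorProduct.comm A ↥a S
  refine c.injective ((?_ : c z = 0).trans (map_zero c).symm)
  have hJ : J ≤ Ideal.jacobson (⊥ : Ideal S) := by
    rw [IsLocalRing.jacobson_eq_maximalIdeal ⊥ bot_ne_top]
    exact Ideal.map_le_iff_le_comap.mpr fun r hr => map_nonunit (algebraMap A S) r hr
  haveI : Module.Finite S (S ⊗[A] ↥a) := Module.Finite.base_change A S ↥a
  rw [← Submodule.mem_bot S, ← Ideal.iInf_pow_smul_eq_bot_of_le_jacobson J hJ, Submodule.mem_iInf]
  intro n
  have h2 := Submodule.mem_map_of_mem (f := c.toLinearMap) (hmem n)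
  rw [Submodule.map_smul''] at h2
  refine Submodule.smul_induction_on h2 (fun r hr w _ => ?_) (fun p q hp hq => add_mem hp hq)
  rw [← algebraMap_smul S r]
  refine Submodule.smul_mem_smul ?_ trivial
  rw [← Ideal.map_pow]
  exact Ideal.mem_map_of_mem _ hr

omit [IsLocalRing A] in
/-- Membership in the extended ideal through the quotient. -/
theorem one_tmul_eq_zero_iff {B : Type u} [CommRing B] [Algebra A B] (I : Ideal A) (b : B) :
    (1 : A ⧸ I) ⊗ₜ[A] b = 0 ↔ b ∈ I.map (algebraMap A B) := by
  have h : TensorProduct.quotTensorEquivQuotSMul B I ((1 : A ⧸ I) ⊗ₜ[A] b) =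
      Submodule.Quotient.mk b := by
    rw [← map_one (Ideal.Quotient.mk I), TensorProduct.quotTensorEquivQuotSMul_mk_tmul, one_smul]
  rw [← (TensorProduct.quotTensorEquivQuotSMul B I).map_eq_zero_iff, h, Submodule.Quotient.mk_eq_zero,
    Ideal.smul_top_eq_map]
  rfl

/-- Flatness at the generic points of a reduced closed fibre gives flatness. -/
theorem flat_of_flat_minimal [IsNoetherianRing A] [IsLocalRing S] [IsNoetherianRing S]
    [IsLocalHom (algebraMap A S)]
    (hrad : ((IsLocalRing.maximalIdeal A).map (algebraMap A S)).IsRadical)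
    (hflat : ∀ (P : Ideal S) [P.IsPrime],
      P ∈ ((IsLocalRing.maximalIdeal A).map (algebraMap A S)).minimalPrimes →
        Module.Flat A (Localization.AtPrime P)) : Module.Flat A S := by
  classical
  let J := (IsLocalRing.maximalIdeal A).map (algebraMap A S)
  let ι : Type u := {P : Ideal S // P ∈ J.minimalPrimes}
  haveI hP : ∀ j : ι, j.1.IsPrime := fun j => j.2.1.1
  let T : ι → Type u := fun j => Localization.AtPrime j.1
  haveI : ∀ j, Module.Flat A (T j) := fun j => hflat j.1 j.2
  let ψ : ∀ j, S →ₐ[A] T j := fun j => IsScalarTower.toAlgHom A S (T j)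
  refine flat_of_detect T ψ fun x hx => ?_
  obtain ⟨s, rfl⟩ : ∃ s : S, (1 : A ⧸ IsLocalRing.maximalIdeal A) ⊗ₜ[A] s = x := by
    clear hx
    induction x using TensorProduct.induction_on with
    | zero => exact ⟨0, tmul_zero _ _⟩
    | add p q hp hq =>
      obtain ⟨a, rfl⟩ := hp
      obtain ⟨b, rfl⟩ := hq
      exact ⟨a + b, tmul_add _ _ _⟩
    | tmul a b =>
      obtain ⟨a, rfl⟩ := Ideal.Quotient.mk_surjective a
      refine ⟨a • b, ?_⟩
      rw [← smul_tmul]
      congr 1
      rw [Algebra.smul_def, mul_one]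
      rfl
  rw [one_tmul_eq_zero_iff, ← hrad.radical, ← Ideal.sInf_minimalPrimes, Ideal.mem_sInf]
  intro P hPJ
  haveI := hPJ.1.1
  have h : algebraMap S (T ⟨P, hPJ⟩) s ∈
      (IsLocalRing.maximalIdeal A).map (algebraMap A (T ⟨P, hPJ⟩)) := by
    rw [← one_tmul_eq_zero_iff]
    exact hx ⟨P, hPJ⟩
  rw [IsScalarTower.algebraMap_eq A S, ← Ideal.map_map] at h
  obtain ⟨u, hu, hus⟩ := (IsLocalization.algebraMap_mem_map_algebraMap_iff P.primeCompl _ _ _).mp h
  exact (hPJ.1.1.mem_or_mem (hPJ.1.2 hus)).resolve_left hu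

end Groth.L07.FlatPropagate
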