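import Groth.Agent.L07.FlatKernel
import Groth.Agent.L07.FlatPropagate
import Groth.Agent.L07.SyntRel
import Groth.Agent.L01.Regular
import Mathlib.Algebra.Module.SpanRank

/-!
Flatness at the generic point of a fibre from flatness after base change to discrete valuation rings.
-/

universe u

open TensorProduct PrimeSpectrum RingTheory.Sequence

namespace Groth.L07.FlatGeneric

open Groth.L07.CILocus

set_option linter.style.haveILetI false
set_option maxSynthPendingDepth 3

/-- Zero in the base change of a local ring. -/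
theorem exists_clear {R C B : Type u} [CommRing R] [CommRing C] [Algebra R C] [CommRing B] [Algebra R B]
    (𝔮 : Ideal C) [𝔮.IsPrime] (z : Localization.AtPrime 𝔮 ⊗[R] B) :
    ∃ c ∉ 𝔮, ∃ w : C ⊗[R] B,
      Algebra.TensorProduct.map (IsScalarTower.toAlgHom R C (Localization.AtPrime 𝔮)) (AlgHom.id R B) w =
        ((algebraMap C (Localization.AtPrime 𝔮) c) ⊗ₜ[R] (1 : B)) * z := by
  induction z using TensorProduct.induction_on with
  | zero => exact ⟨1, fun h => (‹𝔮.IsPrime›).ne_top ((Ideal.eq_top_iff_one _).mpr h), 0, by simp⟩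
  | tmul a b =>
    obtain ⟨a, c, rfl⟩ := IsLocalization.exists_mk'_eq 𝔮.primeCompl a
    refine ⟨c, c.2, a ⊗ₜ[R] b, ?_⟩
    rw [Algebra.TensorProduct.map_tmul, Algebra.TensorProduct.tmul_mul_tmul, one_mul]
    congr 1
    exact (IsLocalization.mk'_spec' _ a c).symm
  | add x y hx hy =>
    obtain ⟨c, hc, w, hw⟩ := hx
    obtain ⟨d, hd, v, hv⟩ := hy
    refine ⟨c * d, Ideal.IsPrime.mul_notMem ‹_› hc hd, (d ⊗ₜ[R] (1 : B)) * w + (c ⊗ₜ[R] (1 : B)) * v, ?_⟩
    simp only [map_add, map_mul, Algebra.TensorProduct.map_tmul, IsScalarTower.coe_toAlgHom', map_one, hw, hv,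
      mul_add, ← mul_assoc, Algebra.TensorProduct.tmul_mul_tmul, mul_one]
    rw [mul_comm (algebraMap C _ d)]

/-- A flat local algebra over the base with the same closed fibre. -/
theorem exists_flat_cover {R : Type u} [CommRing R] [IsNoetherianRing R] {n : ℕ}
    {I : Ideal (MvPolynomial (Fin n) R)} (P : PrimeSpectrum (MvPolynomial (Fin n) R ⧸ I))
    (hmax : ((comap (algebraMap R _) P).asIdeal).map (algebraMap R (Localization.AtPrime P.asIdeal)) =
      IsLocalRing.maximalIdeal _) :
    ∃ (E : Type u) (_ : CommRing E) (_ : Algebra R E) (_ : IsLocalRing E) (_ : IsNoetherianRing E)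
      (_ : Module.Flat R E) (π : E →ₐ[R] Localization.AtPrime P.asIdeal), Function.Surjective π ∧
        ((comap (algebraMap R _) P).asIdeal).map (algebraMap R E) = IsLocalRing.maximalIdeal E := by
  classical
  set p := comap (algebraMap R (MvPolynomial (Fin n) R ⧸ I)) P
  let Q := polPrime I P
  let q' := P.asIdeal.comap (Ideal.Quotient.mk I)
  haveI : q'.IsPrime := Ideal.IsPrime.comap _
  let L := Localization.AtPrime q'
  let Lk := Localization.AtPrime Q
  have hQ : Q.comap (θ p) = q' := comap_polPrime I P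
  have hle : I ≤ q' := fun a ha => by
    show Ideal.Quotient.mk I a ∈ P.asIdeal
    rw [Ideal.Quotient.eq_zero_iff_mem.mpr ha]; exact zero_mem _
  -- the map to the local ring of the quotient
  let π₀ : L →+* Localization.AtPrime P.asIdeal :=
    Localization.localRingHom q' P.asIdeal (Ideal.Quotient.mk I) rfl
  have hπ₀ : ∀ a, π₀ (algebraMap _ L a) = algebraMap _ _ (Ideal.Quotient.mk I a) := fun a =>
    Localization.localRingHom_to_map _ _ _ _ a
  have hπsurj : Function.Surjective π₀ := fun z => by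
    obtain ⟨a, s, rfl⟩ := IsLocalization.exists_mk'_eq P.asIdeal.primeCompl z
    obtain ⟨a, rfl⟩ := Ideal.Quotient.mk_surjective a
    obtain ⟨s', hs'⟩ := Ideal.Quotient.mk_surjective (s : MvPolynomial (Fin n) R ⧸ I)
    have hs'q : s' ∈ q'.primeCompl := fun h => s.2 (by
      rw [← hs']; exact h)
    refine ⟨IsLocalization.mk' L a ⟨s', hs'q⟩, ?_⟩
    rw [Localization.localRingHom_mk']
    congr 1
    exact Subtype.ext hs'
  -- the maximal ideal of the fibre comes from the relations
  have hIQ : (I.map (θ p)).map (algebraMap _ Lk) = IsLocalRing.maximalIdeal Lk := by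
    refine le_antisymm ?_ ?_
    · rw [← Localization.AtPrime.map_eq_maximalIdeal]
      exact Ideal.map_mono (map_le_polPrime I P)
    · rw [← Localization.AtPrime.map_eq_maximalIdeal, Ideal.map_le_iff_le_comap]
      intro x hx
      obtain ⟨r, hr, y, hy⟩ := exists_lift p x
      have hyq : y ∈ q' := by
        rw [← hQ, Ideal.mem_comap, hy]
        exact Q.mul_mem_left _ hx
      have h1 : π₀ (algebraMap _ L y) ∈ IsLocalRing.maximalIdeal (Localization.AtPrime P.asIdeal) := by
        rw [hπ₀]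
        exact (IsLocalization.AtPrime.to_map_mem_maximal_iff _ P.asIdeal _).mpr hyq
      rw [← hmax, IsScalarTower.algebraMap_eq R (MvPolynomial (Fin n) R ⧸ I), ← Ideal.map_map, hπ₀] at h1
      obtain ⟨c, hc, hcy⟩ := (IsLocalization.algebraMap_mem_map_algebraMap_iff P.asIdeal.primeCompl _ _ _).mp h1
      obtain ⟨c, rfl⟩ := Ideal.Quotient.mk_surjective c
      rw [IsScalarTower.algebraMap_eq R (MvPolynomial (Fin n) R), ← Ideal.map_map, Ideal.Quotient.algebraMap_eq,
        ← map_mul, Ideal.mem_map_iff_of_surjective _ Ideal.Quotient.mk_surjective] at hcy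
      obtain ⟨w, hw, hwy⟩ := hcy
      have hwI : c * y - w ∈ I := Ideal.Quotient.eq.mp hwy.symm
      have hθw : θ p w = 0 := by
        have : (p.asIdeal.map (algebraMap R (MvPolynomial (Fin n) R))).map (θ p) = ⊥ := by
          rw [Ideal.map_map, Ideal.map_eq_bot_iff_le_ker]
          intro a ha
          rw [RingHom.mem_ker, RingHom.comp_apply]
          simp [θ, Ideal.algebraMap_residueField_eq_zero.mpr ha]
        rw [← Ideal.mem_bot, ← this]
        exact Ideal.mem_map_of_mem _ hw
      have hu : IsUnit (algebraMap _ Lk (θ p c * MvPolynomial.C (algebraMap R _ r))) := by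
        refine IsLocalization.map_units Lk (⟨_, ?_⟩ : Q.primeCompl)
        refine Ideal.IsPrime.mul_notMem inferInstance (fun h => hc ?_) (C_ne hr Q)
        show c ∈ q'
        rw [← hQ]; exact h
      rw [Ideal.mem_comap, ← Ideal.unit_mul_mem_iff_mem _ hu, ← map_mul]
      refine Ideal.mem_map_of_mem _ ?_
      have h3 := Ideal.mem_map_of_mem (θ p) hwI
      rwa [map_sub, map_mul, hθw, sub_zero, hy, ← mul_assoc] at h3
  haveI : IsRegularLocalRing Lk := IsRegularRing.isRegularLocalRing_localization _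
  obtain ⟨l, hl, hlen⟩ : ∃ l : List Lk, Ideal.ofList l = IsLocalRing.maximalIdeal Lk ∧
      ringKrullDim Lk = l.length := by
    obtain ⟨t, htc, ht⟩ := Submodule.FG.exists_span_finset_card_eq_spanFinrank
      (IsNoetherian.noetherian (IsLocalRing.maximalIdeal Lk))
    refine ⟨t.toList, ?_, ?_⟩
    · rw [← ht]
      show Ideal.span {r | r ∈ t.toList} = _
      simp only [Finset.mem_toList]
      rfl
    · rw [← IsRegularLocalRing.spanFinrank_maximalIdeal, ← htc, Finset.length_toList]
  have hci : CIAt R P := (ciAt_iff I P).mpr (hIQ.symm ▸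
    ⟨l, Groth.L01.isRegular_of_ofList_eq_maximalIdeal l hl hlen, hl⟩)
  obtain ⟨c, f, hfI, hreg, hgen⟩ := exists_generators I P hci
  have hw := SyntRel.isWeaklyRegular_localized_fibre p q' Q hQ (List.ofFn f)
    (by
      have h := hreg.toIsWeaklyRegular
      simp only [List.map_ofFn, Function.comp_def] at h ⊢
      exact h)
  have hfQ : ∀ b ∈ List.ofFn f, b ∈ q' := fun b hb => by
    obtain ⟨i, rfl⟩ := List.mem_ofFn.mp hb
    exact hle (hfI i)
  haveI : Module.Flat R (LocalizedModule q'.primeCompl (MvPolynomial (Fin n) R)) :=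
    Localization.flat (R := R) (MvPolynomial (Fin n) R) q'.primeCompl
  obtain ⟨-, h2⟩ := Groth.L07.FibreRegular.isWeaklyRegular_and_flat (A := R) q' (List.ofFn f) hfQ
    (MvPolynomial (Fin n) R) inferInstance hw
  have hfl := h2 c (by simp)
  rw [List.take_of_length_le (by simp)] at hfl
  have hflat := SyntRel.flat_quot q' (List.ofFn f) hfl
  let K : Ideal L := Ideal.ofList ((List.ofFn f).map (algebraMap _ L))
  have hKm : K ≤ IsLocalRing.maximalIdeal L := by
    show Ideal.ofList _ ≤ _
    rw [← Ideal.map_ofList, Ideal.map_le_iff_le_comap, Ideal.ofList, Ideal.span_le]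
    exact fun b hb => (IsLocalization.AtPrime.to_map_mem_maximal_iff L q' b).mpr (hfQ b hb)
  have hK0 : ∀ a ∈ K, π₀ a = 0 := by
    intro a ha
    have : K ≤ RingHom.ker π₀ := by
      show Ideal.ofList _ ≤ _
      rw [← Ideal.map_ofList, Ideal.map_le_iff_le_comap, Ideal.ofList, Ideal.span_le]
      intro b hb
      obtain ⟨i, rfl⟩ := List.mem_ofFn.mp hb
      show π₀ _ = 0
      rw [hπ₀, Ideal.Quotient.eq_zero_iff_mem.mpr (hfI i), map_zero]
    exact this ha
  haveI : Nontrivial (L ⧸ K) := Ideal.Quotient.nontrivial_iff.mpr fun h =>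
    (IsLocalRing.maximalIdeal.isMaximal L).ne_top (top_le_iff.mp (h ▸ hKm))
  haveI : IsLocalRing (L ⧸ K) := IsLocalRing.of_surjective' (Ideal.Quotient.mk K) Ideal.Quotient.mk_surjective
  haveI : IsNoetherianRing L := IsLocalization.isNoetherianRing q'.primeCompl _ inferInstance
  let π : L ⧸ K →ₐ[R] Localization.AtPrime P.asIdeal :=
    { Ideal.Quotient.lift K π₀ hK0 with
      commutes' := fun r => by
        show π₀ (algebraMap R L r) = _
        rw [IsScalarTower.algebraMap_apply R (MvPolynomial (Fin n) R) L, hπ₀,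
          IsScalarTower.algebraMap_apply R (MvPolynomial (Fin n) R ⧸ I) (Localization.AtPrime P.asIdeal)]
        rfl }
  refine ⟨L ⧸ K, inferInstance, inferInstance, inferInstance, inferInstance, hflat, π, fun z => ?_, ?_⟩
  · obtain ⟨a, rfl⟩ := hπsurj z
    exact ⟨Ideal.Quotient.mk K a, rfl⟩
  · refine le_antisymm (Ideal.map_le_iff_le_comap.mpr fun r hr => ?_) fun z hz => ?_
    · show Ideal.Quotient.mk K (algebraMap R L r) ∈ IsLocalRing.maximalIdeal (L ⧸ K)
      haveI : IsLocalHom (Ideal.Quotient.mk K) := IsLocalHom.of_surjective _ Ideal.Quotient.mk_surjective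
      refine map_nonunit (Ideal.Quotient.mk K) _ ?_
      rw [IsScalarTower.algebraMap_apply R (MvPolynomial (Fin n) R) L]
      exact (IsLocalization.AtPrime.to_map_mem_maximal_iff L q' _).mpr hr
    obtain ⟨z, rfl⟩ := Ideal.Quotient.mk_surjective z
    have hzm : z ∈ IsLocalRing.maximalIdeal L := fun hu => hz (hu.map (Ideal.Quotient.mk K))
    obtain ⟨a, s, rfl⟩ := IsLocalization.exists_mk'_eq q'.primeCompl z
    have ha : a ∈ q' := (IsLocalization.AtPrime.mk'_mem_maximal_iff L q' a s).mp hzm
    have h1 : algebraMap _ Lk (θ p a) ∈ (Ideal.span (Set.range (θ p ∘ f))).map (algebraMap _ Lk) := by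
      rw [hgen, hIQ]
      exact (IsLocalization.AtPrime.to_map_mem_maximal_iff Lk Q _).mpr (by rw [← hQ] at ha; exact ha)
    obtain ⟨t, htQ, hta⟩ := (IsLocalization.algebraMap_mem_map_algebraMap_iff Q.primeCompl _ _ _).mp h1
    rw [Set.range_comp, ← Ideal.map_span] at hta
    obtain ⟨r, hr, y, hy, hyx⟩ := exists_lift_mem p _ hta
    obtain ⟨r', hr', t', ht'⟩ := exists_lift p t
    have hd : MvPolynomial.C r' * y - t' * MvPolynomial.C r * a ∈ RingHom.ker (θ (d := n) p) := by
      rw [RingHom.mem_ker, map_sub, map_mul, map_mul, map_mul, hyx, ht']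
      simp only [θ, MvPolynomial.map_C]
      ring
    rw [θ, MvPolynomial.ker_map, Ideal.ker_algebraMap_residueField] at hd
    have hu : t' * MvPolynomial.C r * (s : MvPolynomial (Fin n) R) ∈ q'.primeCompl := by
      refine q'.primeCompl.mul_mem ?_ s.2
      intro h
      rw [SetLike.mem_coe, ← hQ, Ideal.mem_comap, map_mul, ht'] at h
      rcases Ideal.IsPrime.mem_or_mem inferInstance h with h' | h'
      · exact (Ideal.IsPrime.mem_or_mem inferInstance h').elim (C_ne hr' Q) htQ
      · rw [show θ (d := n) p (MvPolynomial.C r) = MvPolynomial.C (algebraMap R _ r) by simp [θ]] at h'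
        exact C_ne hr Q h'
    have key : IsLocalization.mk' L a s * algebraMap _ L (t' * MvPolynomial.C r * (s : MvPolynomial (Fin n) R)) =
        algebraMap _ L (MvPolynomial.C r' * y) -
          algebraMap _ L (MvPolynomial.C r' * y - t' * MvPolynomial.C r * a) := by
      rw [← map_sub, sub_sub_cancel, map_mul _ (t' * MvPolynomial.C r), map_mul _ (t' * MvPolynomial.C r) a,
        mul_comm, mul_assoc, IsLocalization.mk'_spec'_mk]
    refine ((Ideal.mul_unit_mem_iff_mem _ ((IsLocalization.map_units L ⟨_, hu⟩).map (Ideal.Quotient.mk K))).mp ?_)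
    rw [← map_mul, key, map_sub]
    refine Ideal.sub_mem _ ?_ ?_
    · rw [Ideal.Quotient.eq_zero_iff_mem.mpr (?_ : algebraMap _ L (MvPolynomial.C r' * y) ∈ K)]
      · exact Ideal.zero_mem _
      show _ ∈ Ideal.ofList _
      rw [← Ideal.map_ofList]
      refine Ideal.mem_map_of_mem _ (Ideal.mul_mem_left _ _ ?_)
      have he : Ideal.ofList (List.ofFn f) = Ideal.span (Set.range f) := Groth.L07.QReg.ofList_ofFn f
      rw [he]; exact hy
    · have h4 := Ideal.mem_map_of_mem ((Ideal.Quotient.mk K).comp (algebraMap (MvPolynomial (Fin n) R) L)) hd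
      rw [Ideal.map_map, RingHom.comp_assoc,
        show (algebraMap (MvPolynomial (Fin n) R) L).comp MvPolynomial.C = algebraMap R L from
          (IsScalarTower.algebraMap_eq R (MvPolynomial (Fin n) R) L).symm] at h4
      exact h4

/-- Flatness at a generic point of a fibre. -/
theorem flat_generic {R C : Type u} [CommRing R] [IsNoetherianRing R] [CommRing C] [Algebra R C]
    [Algebra.FiniteType R C] (𝔮 : Ideal C) [𝔮.IsPrime] [IsReduced (Localization.AtPrime (𝔮.comap (algebraMap R C)))]
    (hgen : ∀ q' : Ideal C, q'.IsPrime → q' ≤ 𝔮 → q'.comap (algebraMap R C) = 𝔮.comap (algebraMap R C) → q' = 𝔮)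
    (hrad : ((𝔮.comap (algebraMap R C)).map (algebraMap R (Localization.AtPrime 𝔮))).IsRadical)
    (hdvr : ∀ (B : Type u) [CommRing B] [IsDomain B] [IsDiscreteValuationRing B] [Algebra R B],
      (IsLocalRing.maximalIdeal B).comap (algebraMap R B) = 𝔮.comap (algebraMap R C) →
      ∀ (q : Ideal (C ⊗[R] B)) [q.IsPrime],
        q.comap Algebra.TensorProduct.includeLeftRingHom = 𝔮 →
        q.comap (Algebra.TensorProduct.includeRight : B →ₐ[R] C ⊗[R] B).toRingHom = IsLocalRing.maximalIdeal B →
        ∀ t : B, t ≠ 0 → IsSMulRegular (Localization.AtPrime q)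
          (algebraMap (C ⊗[R] B) (Localization.AtPrime q) ((1 : C) ⊗ₜ[R] t))) :
    Module.Flat R (Localization.AtPrime 𝔮) := by
  obtain ⟨n, φ, hφ⟩ := Algebra.FiniteType.iff_quotient_mvPolynomial''.mp ‹Algebra.FiniteType R C›
  let e := Ideal.quotientKerAlgEquivOfSurjective hφ
  let A := MvPolynomial (Fin n) R ⧸ RingHom.ker φ
  let Pi : Ideal A := 𝔮.comap e.toRingEquiv.toRingHom
  haveI : Pi.IsPrime := Ideal.IsPrime.comap _
  let P : PrimeSpectrum A := ⟨Pi, inferInstance⟩
  let S := Localization.AtPrime 𝔮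
  let ℓ : Localization.AtPrime P.asIdeal →+* S := Localization.localRingHom P.asIdeal 𝔮 e.toRingEquiv.toRingHom rfl
  have hℓ : Function.Surjective ℓ := fun z => by
    obtain ⟨a, s, rfl⟩ := IsLocalization.exists_mk'_eq 𝔮.primeCompl z
    obtain ⟨a, rfl⟩ := e.surjective a
    obtain ⟨s', hs'⟩ := e.surjective (s : C)
    have hs'P : s' ∈ P.asIdeal.primeCompl := fun h => s.2 (by rw [← hs']; exact h)
    refine ⟨IsLocalization.mk' _ a ⟨s', hs'P⟩, ?_⟩
    rw [Localization.localRingHom_mk']
    congr 1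
    exact Subtype.ext hs'
  have hℓc : ∀ r : R, ℓ (algebraMap R _ r) = algebraMap R S r := fun r => by
    rw [IsScalarTower.algebraMap_apply R A (Localization.AtPrime P.asIdeal),
      Localization.localRingHom_to_map, IsScalarTower.algebraMap_apply R C S]
    exact congrArg _ (e.commutes r)
  have hℓinj : Function.Injective ℓ := by
    rw [injective_iff_map_eq_zero]
    intro z hz
    obtain ⟨a, s, rfl⟩ := IsLocalization.exists_mk'_eq P.asIdeal.primeCompl z
    rw [Localization.localRingHom_mk', IsLocalization.mk'_eq_zero_iff] at hz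
    obtain ⟨u, hu⟩ := hz
    obtain ⟨u', hu'⟩ := e.surjective (u : C)
    rw [IsLocalization.mk'_eq_zero_iff]
    refine ⟨⟨u', fun h => u.2 (by rw [← hu']; exact h)⟩, e.injective ?_⟩
    rw [map_mul, map_zero, hu']; exact hu
  have hp : (comap (algebraMap R A) P).asIdeal = 𝔮.comap (algebraMap R C) := by
    ext r
    show e (algebraMap R A r) ∈ 𝔮 ↔ algebraMap R C r ∈ 𝔮
    rw [e.commutes]
  -- the closed fibre at the point is a field
  have hmaxS : (𝔮.comap (algebraMap R C)).map (algebraMap R S) = IsLocalRing.maximalIdeal S := by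
    rw [← hrad.radical, Ideal.radical_eq_sInf]
    refine le_antisymm (sInf_le ⟨?_, (IsLocalRing.maximalIdeal.isMaximal S).isPrime⟩) (le_sInf fun J hJ => ?_)
    · rw [Ideal.map_le_iff_le_comap]
      intro r hr
      rw [Ideal.mem_comap, IsScalarTower.algebraMap_apply R C S]
      exact (IsLocalization.AtPrime.to_map_mem_maximal_iff S 𝔮 _).mpr hr
    · haveI := hJ.2
      have hJ𝔮 : J.comap (algebraMap C S) ≤ 𝔮 := fun c hc => by
        have := IsLocalRing.le_maximalIdeal hJ.2.ne_top hc
        exact (IsLocalization.AtPrime.to_map_mem_maximal_iff S 𝔮 c).mp this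
      have heq := hgen _ (Ideal.IsPrime.comap _) hJ𝔮 (le_antisymm (Ideal.comap_mono hJ𝔮) (fun r hr => by
        rw [Ideal.mem_comap, Ideal.mem_comap, ← IsScalarTower.algebraMap_apply R C S]
        exact hJ.1 (Ideal.mem_map_of_mem _ hr)))
      refine le_of_eq ?_
      rw [← IsLocalization.map_under 𝔮.primeCompl S J, Ideal.under_def, heq, Localization.AtPrime.map_eq_maximalIdeal]
  obtain ⟨E, _, _, _, _, _, π, hπ, hmE⟩ := exists_flat_cover P (by
    refine SetLike.ext fun z => ⟨fun hz => ?_, fun hz => ?_⟩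
    · refine Ideal.map_le_iff_le_comap.mpr (fun r hr => ?_) hz
      rw [Ideal.mem_comap, IsScalarTower.algebraMap_apply R A (Localization.AtPrime P.asIdeal)]
      exact (IsLocalization.AtPrime.to_map_mem_maximal_iff _ P.asIdeal _).mpr hr
    · have h1 : ℓ z ∈ IsLocalRing.maximalIdeal S := fun hu => by
        obtain ⟨v, hv⟩ := hu.exists_right_inv
        obtain ⟨v, rfl⟩ := hℓ v
        rw [← map_mul, ← map_one ℓ] at hv
        exact hz (IsUnit.of_mul_eq_one v (hℓinj hv))
      rw [← hmaxS, ← hp, show algebraMap R S = ℓ.comp (algebraMap R _) from RingHom.ext fun r => (hℓc r).symm,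
        ← Ideal.map_map, Ideal.mem_map_iff_of_surjective _ hℓ] at h1
      obtain ⟨w, hw, hwz⟩ := h1
      exact hℓinj hwz ▸ hw)
  let ℓ' : Localization.AtPrime P.asIdeal →ₐ[R] S := { ℓ with commutes' := hℓc }
  let φE : E →ₐ[R] S := ℓ'.comp π
  have hφE : Function.Surjective φE := hℓ.comp hπ
  let J := RingHom.ker φE
  have hJm : J ≤ IsLocalRing.maximalIdeal E := IsLocalRing.le_maximalIdeal (RingHom.ker_ne_top φE)
  suffices hJ : J = ⊥ by
    exact Module.Flat.of_linearEquiv
      (AlgEquiv.ofBijective φE ⟨(RingHom.injective_iff_ker_eq_bot _).mpr hJ, hφE⟩).toLinearEquiv.symm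
  rw [hp] at hmE
  have hpE : (IsLocalRing.maximalIdeal E).comap (algebraMap R E) = 𝔮.comap (algebraMap R C) := by
    haveI : IsLocalHom φE.toRingHom := IsLocalHom.of_surjective _ hφE
    ext r
    have h1 : algebraMap R E r ∈ IsLocalRing.maximalIdeal E ↔
        φE (algebraMap R E r) ∈ IsLocalRing.maximalIdeal S :=
      ⟨fun h => map_nonunit φE.toRingHom _ h, fun h hu => h (hu.map φE)⟩
    rw [Ideal.mem_comap, h1, φE.commutes, IsScalarTower.algebraMap_apply R C S]
    exact IsLocalization.AtPrime.to_map_mem_maximal_iff S 𝔮 _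
  refine FlatKernel.kernel_eq_bot (𝔮.comap (algebraMap R C)) hpE hmE J hJm ?_
  intro B _ _ _ _ hB q _ hqE hqB t ht y hy
  let Ψ := Algebra.TensorProduct.map φE (AlgHom.id R B)
  have hker : RingHom.ker Ψ = J.map (Algebra.TensorProduct.includeLeftRingHom : E →+* E ⊗[R] B) :=
    Algebra.TensorProduct.rTensor_ker φE hφE
  have hΨ : Function.Surjective Ψ := TensorProduct.map_surjective hφE Function.surjective_id
  haveI : (q.map Ψ.toRingHom).IsPrime := Ideal.map_isPrime_of_surjective hΨ (by
    refine hker.le.trans (Ideal.map_le_iff_le_comap.mpr ?_)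
    rw [hqE]; exact hJm)
  have hcomap : (q.map Ψ.toRingHom).comap Ψ.toRingHom = q := by
    rw [Ideal.comap_map_of_surjective Ψ.toRingHom hΨ, sup_eq_left, ← RingHom.ker_eq_comap_bot]
    refine hker.le.trans (Ideal.map_le_iff_le_comap.mpr ?_)
    rw [hqE]; exact hJm
  let toS := Algebra.TensorProduct.map (IsScalarTower.toAlgHom R C S) (AlgHom.id R B)
  let qC : Ideal (C ⊗[R] B) := (q.map Ψ.toRingHom).comap toS.toRingHom
  haveI : qC.IsPrime := Ideal.IsPrime.comap _
  have hqmem : ∀ x, x ∈ q ↔ Ψ x ∈ q.map Ψ.toRingHom := fun x => by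
    conv_lhs => rw [← hcomap]
    rfl
  have hqS : ∀ a : S, a ⊗ₜ[R] (1 : B) ∈ q.map Ψ.toRingHom ↔ a ∈ IsLocalRing.maximalIdeal S := fun a => by
    obtain ⟨a, rfl⟩ := hφE a
    have h1 : Ψ (a ⊗ₜ[R] (1 : B)) = φE a ⊗ₜ[R] (1 : B) := by simp [Ψ]
    rw [← h1, ← hqmem]
    show a ∈ q.comap Algebra.TensorProduct.includeLeftRingHom ↔ _
    rw [hqE]
    haveI : IsLocalHom φE.toRingHom := IsLocalHom.of_surjective _ hφE
    exact ⟨fun h => map_nonunit φE.toRingHom a h, fun h hu => h (hu.map φE)⟩
  have hqC1 : qC.comap Algebra.TensorProduct.includeLeftRingHom = 𝔮 := by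
    ext c
    show toS (c ⊗ₜ[R] (1 : B)) ∈ q.map Ψ.toRingHom ↔ _
    simp only [toS, Algebra.TensorProduct.map_tmul, map_one, IsScalarTower.coe_toAlgHom']
    rw [hqS]
    exact IsLocalization.AtPrime.to_map_mem_maximal_iff S 𝔮 c
  have hqC2 : qC.comap (Algebra.TensorProduct.includeRight : B →ₐ[R] C ⊗[R] B).toRingHom =
      IsLocalRing.maximalIdeal B := by
    rw [← hqB]
    ext b
    show toS ((1 : C) ⊗ₜ[R] b) ∈ q.map Ψ.toRingHom ↔ (1 : E) ⊗ₜ[R] b ∈ q
    rw [hqmem]
    simp [toS, Ψ]
  -- the element killed by t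
  have hy0 : ((1 : S) ⊗ₜ[R] t) * Ψ y = 0 := by
    have := hker.symm.le hy
    simpa [RingHom.mem_ker, Ψ] using this
  obtain ⟨c, hc, w, hw⟩ := exists_clear 𝔮 (Ψ y)
  have h0 : algebraMap (C ⊗[R] B) (Localization.AtPrime qC) w = 0 := by
    let toL : S ⊗[R] B →ₐ[R] Localization.AtPrime qC := Algebra.TensorProduct.lift
      { IsLocalization.lift (M := 𝔮.primeCompl) (S := S)
          (g := (algebraMap (C ⊗[R] B) (Localization.AtPrime qC)).comp Algebra.TensorProduct.includeLeftRingHom)
          (fun c => IsLocalization.map_units _ (⟨_, fun h => c.2 ((SetLike.ext_iff.mp hqC1 (c : C)).mp h)⟩ : qC.primeCompl)) with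
        commutes' := fun r => by
          show IsLocalization.lift _ (algebraMap R S r) = _
          rw [IsScalarTower.algebraMap_apply R C S, IsLocalization.lift_eq,
            IsScalarTower.algebraMap_apply R (C ⊗[R] B) (Localization.AtPrime qC)]
          rfl }
      ((IsScalarTower.toAlgHom R (C ⊗[R] B) (Localization.AtPrime qC)).comp Algebra.TensorProduct.includeRight)
      (fun a b => Commute.all _ _)
    have hcompat : ∀ x, toL (toS x) = algebraMap (C ⊗[R] B) (Localization.AtPrime qC) x := by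
      intro x
      induction x using TensorProduct.induction_on with
      | zero => simp
      | add a b ha hb => simp only [map_add, ha, hb]
      | tmul a b => simp [toL, toS, IsLocalization.lift_eq, ← map_mul]
    refine hdvr B hB qC hqC1 hqC2 t ht ?_
    simp only [smul_eq_mul, mul_zero]
    rw [← hcompat w, ← hcompat ((1 : C) ⊗ₜ[R] t), ← map_mul, ← map_mul]
    rw [show toS ((1 : C) ⊗ₜ[R] t * w) = toS (c ⊗ₜ[R] (1:B)) * (((1 : S) ⊗ₜ[R] t) * Ψ y) by
      rw [map_mul, hw]; simp [toS]; ring]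
    rw [hy0, mul_zero, map_zero]
  obtain ⟨u, hu⟩ := (IsLocalization.map_eq_zero_iff qC.primeCompl _ w).mp h0
  obtain ⟨s, hs⟩ := hΨ (toS u * (algebraMap C S c ⊗ₜ[R] (1 : B)))
  refine ⟨s, fun hsq => ?_, hker.le ?_⟩
  · rw [hqmem, hs] at hsq
    rcases Ideal.IsPrime.mem_or_mem inferInstance hsq with h | h
    · exact u.2 h
    · exact hc ((IsLocalization.AtPrime.to_map_mem_maximal_iff S 𝔮 c).mp ((hqS _).mp h))
  · rw [RingHom.mem_ker, map_mul, hs, mul_assoc, ← hw, ← map_mul, hu, map_zero]

end Groth.L07.FlatGeneric
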