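import Groth.Agent.L20.FlatStrata
import Groth.Agent.L20.Nilpotent

/-! # The flattening ideal at a generic point, for rings -/

set_option autoImplicit false
set_option linter.style.haveILetI false

universe u

open TensorProduct

namespace Groth.L07.FlatIdeal

variable {S : Type u} [CommRing S]

/-- A module which is free modulo a nilpotent ideal has a flattening ideal, made of the coefficients of the
relations in a lifted basis. -/
theorem exists_ideal_of_free_mod_nilpotent [IsNoetherianRing S] (N : Ideal S) (hN : IsNilpotent N)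
    (M : Type u) [AddCommGroup M] [Module S M] [Module.Free (S ⧸ N) ((S ⧸ N) ⊗[S] M)] :
    ∃ J : Ideal S, J ≤ N ∧
      ∀ (C : Type u) [CommRing C] [Algebra S C], Module.Flat C (C ⊗[S] M) ↔ J.map (algebraMap S C) = ⊥ := by
  classical
  let b := Module.Free.chooseBasis (S ⧸ N) ((S ⧸ N) ⊗[S] M)
  let ι := Module.Free.ChooseBasisIndex (S ⧸ N) ((S ⧸ N) ⊗[S] M)
  choose v hv using fun i => TensorProduct.mk_surjective S M (S ⧸ N) Ideal.Quotient.mk_surjective (b i)
  let φ : (ι →₀ S) →ₗ[S] M := Finsupp.linearCombination S v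
  have hφ : ∀ c : ι →₀ S, TensorProduct.mk S (S ⧸ N) M 1 (φ c) =
      Finsupp.linearCombination (S ⧸ N) b (c.mapRange (algebraMap S (S ⧸ N)) (map_zero _)) := by
    intro c
    rw [Finsupp.apply_linearCombination, Finsupp.linearCombination_apply, Finsupp.linearCombination_apply,
      Finsupp.sum_mapRange_index (by simp)]
    refine Finsupp.sum_congr fun i _ => ?_
    rw [Function.comp_apply, hv, algebraMap_smul]
  have key : ∀ x : M, TensorProduct.mk S (S ⧸ N) M 1 x = 0 ↔ x ∈ N • (⊤ : Submodule S M) := by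
    intro x
    rw [← LinearMap.mem_ker]
    exact SetLike.ext_iff.mp (LinearMap.ker_tensorProductMk M) x
  have hsurj : Function.Surjective φ := by
    have hle : (⊤ : Submodule S M) ≤ LinearMap.range φ ⊔ N • ⊤ := by
      intro x _
      obtain ⟨c, hc⟩ := Finsupp.mapRange_surjective _ (map_zero _) Ideal.Quotient.mk_surjective
        (b.repr (TensorProduct.mk S (S ⧸ N) M 1 x))
      have : x - φ c ∈ N • (⊤ : Submodule S M) := by
        rw [← key, map_sub, sub_eq_zero, hφ]
        exact (by rw [show (c.mapRange (algebraMap S (S ⧸ N)) (map_zero _)) = _ from hc,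
          b.linearCombination_repr])
      exact Submodule.mem_sup.mpr ⟨φ c, ⟨c, rfl⟩, x - φ c, this, by abel⟩
    rw [← LinearMap.range_eq_top, ← Submodule.Quotient.subsingleton_iff, ← Submodule.subsingleton_iff S,
      ← subsingleton_iff_bot_eq_top, eq_comm]
    refine Groth.L20.eq_bot_of_le_smul N hN ⊤ ?_
    intro x _
    obtain ⟨y, rfl⟩ := (LinearMap.range φ).mkQ_surjective x
    obtain ⟨a, ha, b', hb', rfl⟩ := Submodule.mem_sup.mp (hle (Submodule.mem_top (x := y)))
    rw [map_add, Submodule.mkQ_apply, (Submodule.Quotient.mk_eq_zero _).mpr ha, zero_add]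
    have := Submodule.mem_map_of_mem (f := (LinearMap.range φ).mkQ) hb'
    rw [Submodule.map_smul'', Submodule.map_top] at this
    exact Submodule.smul_mono le_rfl le_top this
  have hcoef : ∀ c, φ c = 0 → ∀ i, c i ∈ N := by
    intro c hc i
    have h0 : c.mapRange (algebraMap S (S ⧸ N)) (map_zero _) = 0 :=
      linearIndependent_iff.mp b.linearIndependent _ (by rw [← hφ, hc, map_zero])
    rw [← Ideal.Quotient.eq_zero_iff_mem]
    exact (Finsupp.mapRange_apply (f := algebraMap S (S ⧸ N)) (hf := map_zero _) (g := c) (a := i)).symm.trans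
      (DFunLike.congr_fun h0 i)
  have hker : ∀ c, φ c = 0 → c ∈ N • (⊤ : Submodule S (ι →₀ S)) := by
    intro c hc
    rw [← Finsupp.sum_single c]
    refine sum_mem fun i _ => ?_
    rw [show Finsupp.single i (c i) = c i • Finsupp.single i (1 : S) by simp]
    exact Submodule.smul_mem_smul (hcoef c hc i) trivial
  refine ⟨Ideal.span {x | ∃ c, φ c = 0 ∧ ∃ i, c i = x}, Ideal.span_le.mpr ?_, fun C _ _ => ⟨fun hfl => ?_, fun h => ?_⟩⟩
  · rintro _ ⟨c, hc, i, rfl⟩; exact hcoef c hc i
  · rw [Ideal.map_eq_bot_iff_le_ker, Ideal.span_le]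
    rintro _ ⟨c, hc, i, rfl⟩
    have h0 := Groth.L20.baseChange_relations_eq_zero (A := C) N hN φ hsurj hker c hc
    have h1 := congrArg (fun f => f i) (congrArg (finsuppScalarRight S C C ι) h0)
    simpa [Algebra.smul_def] using h1
  · have hc : ∀ c : LinearMap.ker φ, (1 : C) ⊗ₜ[S] (c : ι →₀ S) = 0 := by
      intro c
      apply (finsuppScalarRight S C C ι).injective
      ext i
      rw [finsuppScalarRight_apply_tmul_apply, map_zero, Finsupp.zero_apply, Algebra.smul_def,
        mul_one, ← Ideal.mem_bot, ← h]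
      exact Ideal.mem_map_of_mem _ (Ideal.subset_span ⟨c.1, c.2, i, rfl⟩)
    have hinj : Function.Injective (φ.baseChange C) := by
      rw [injective_iff_map_eq_zero]
      intro y hy
      obtain ⟨w, rfl⟩ := Groth.L20.mem_range_lTensor_of_exact (A := LinearMap.ker φ)
        (f := (LinearMap.ker φ).subtype) (LinearMap.exact_subtype_ker_map φ) hsurj hy
      clear hy
      induction w using TensorProduct.induction_on with
      | zero => simp
      | add a b ha hb => rw [map_add, ha, hb, add_zero]
      | tmul a c =>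
        rw [LinearMap.lTensor_tmul, Submodule.subtype_apply,
          show a ⊗ₜ[S] (c : ι →₀ S) = a • ((1 : C) ⊗ₜ[S] (c : ι →₀ S)) by simp [smul_tmul'],
          hc, smul_zero]
    exact Module.Flat.of_linearEquiv
      (LinearEquiv.ofBijective (φ.baseChange C) ⟨hinj, LinearMap.lTensor_surjective C hsurj⟩).symm

/-- Generic freeness on the image of a base change to a quotient domain. -/
theorem exists_free_of_isBaseChange {R R' A' M N : Type u} [CommRing R] [CommRing R'] [IsReduced R'] [Nontrivial R']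
    [Algebra R R'] (hR' : Function.Surjective (algebraMap R R'))
    [CommRing A'] [Algebra R' A'] [Algebra.FiniteType R' A'] [AddCommGroup M] [Module R M]
    [AddCommGroup N] [Module A' N] [Module R' N] [IsScalarTower R' A' N] [Module.Finite A' N]
    [Module R N] [IsScalarTower R R' N] (b : M →ₗ[R] N) (hb : IsBaseChange R' b) :
    ∃ g, algebraMap R R' g ≠ 0 ∧ ∀ (C : Type u) [CommRing C] [Algebra R C], IsUnit (algebraMap R C g) →
      (RingHom.ker (algebraMap R R')).map (algebraMap R C) = ⊥ → Module.Free C (C ⊗[R] M) := by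
  obtain ⟨c, hc, hfree, -⟩ := Groth.L20.GFR.exists_free_and_nearlyFP (R := R') (S := A') N (1 : R') one_ne_zero
  rw [one_mul] at hc hfree
  obtain ⟨g, rfl⟩ := hR' c
  refine ⟨g, hc, fun C _ _ hu hz => ?_⟩
  let Rg := Localization.Away (algebraMap R R' g)
  let φ : R' →+* C := (algebraMap R R').liftOfSurjective hR'
    ⟨algebraMap R C, fun a ha => by
      rw [RingHom.mem_ker, ← Submodule.mem_bot C, ← hz]; exact Ideal.mem_map_of_mem _ ha⟩
  have hφ : ∀ r, φ (algebraMap R R' r) = algebraMap R C r := fun r =>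
    RingHom.liftOfRightInverse_comp_apply _ _ (Function.rightInverse_surjInv hR') _ r
  let φ' : Rg →+* C := IsLocalization.Away.lift (algebraMap R R' g) (g := φ) (by rw [hφ]; exact hu)
  algebraize [φ']
  haveI : IsScalarTower R Rg C := IsScalarTower.of_algebraMap_eq fun r => by
    rw [RingHom.algebraMap_toAlgebra, IsScalarTower.algebraMap_apply R R' Rg, IsLocalization.Away.lift_eq, hφ]
  haveI : Module.Free Rg (Rg ⊗[R] M) :=
    Module.Free.of_equiv ((TensorProduct.AlgebraTensorModule.congr (LinearEquiv.refl Rg Rg) hb.equiv.symm).trans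
      (TensorProduct.AlgebraTensorModule.cancelBaseChange R R' Rg Rg M))
  exact Groth.L07.FreeStrat.free_of_tower (R := R) M Rg C

attribute [local instance] Algebra.TensorProduct.rightAlgebra

theorem exists_free_of_isPushout {R R' A A' M : Type u} [CommRing R] [CommRing R'] [IsReduced R'] [Nontrivial R']
    [Algebra R R'] (hR' : Function.Surjective (algebraMap R R'))
    [CommRing A] [Algebra R A] [CommRing A'] [Algebra R' A'] [Algebra A A'] [Algebra R A']
    [IsScalarTower R R' A'] [IsScalarTower R A A'] [Algebra.IsPushout R A R' A'] [Algebra.FiniteType R' A']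
    [AddCommGroup M] [Module R M] [Module A M] [IsScalarTower R A M] [Module.Finite A M] :
    ∃ g, algebraMap R R' g ≠ 0 ∧ ∀ (C : Type u) [CommRing C] [Algebra R C], IsUnit (algebraMap R C g) →
      (RingHom.ker (algebraMap R R')).map (algebraMap R C) = ⊥ → Module.Free C (C ⊗[R] M) :=
  exists_free_of_isBaseChange (M := M) (R' := R') (A' := A') (N := A' ⊗[A] M) hR'
    ((TensorProduct.mk A A' M 1).restrictScalars R)
    (Groth.L20.isBaseChange_restrictScalars (R := R) (S := A) (R' := R') (S' := A')
      (TensorProduct.isBaseChange A M A'))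

/-- Generic freeness modulo a prime, for a module of finite type over an algebra of finite type. -/
theorem exists_free_modPrime {R : Type u} [CommRing R] (P : Ideal R) [P.IsPrime] {A : Type u} [CommRing A]
    [Algebra R A] [Algebra.FiniteType R A] (M : Type u) [AddCommGroup M] [Module R M] [Module A M]
    [IsScalarTower R A M] [Module.Finite A M] :
    ∃ g, g ∉ P ∧ ∀ (C : Type u) [CommRing C] [Algebra R C], IsUnit (algebraMap R C g) →
      P.map (algebraMap R C) = ⊥ → Module.Free C (C ⊗[R] M) := by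
  haveI : IsScalarTower R A ((R ⧸ P) ⊗[R] A) := Algebra.TensorProduct.right_isScalarTower
  obtain ⟨g, hg, hfree⟩ := exists_free_of_isPushout (M := M) (R' := R ⧸ P) (A := A) (A' := (R ⧸ P) ⊗[R] A)
    Ideal.Quotient.mk_surjective
  rw [Ideal.Quotient.algebraMap_eq, Ideal.mk_ker] at hfree
  exact ⟨g, fun h => hg (Ideal.Quotient.eq_zero_iff_mem.mpr h), hfree⟩

/-- Generic freeness modulo a radical ideal, for a module of finite type over an algebra of finite type. -/
theorem exists_free_radical {R : Type u} [CommRing R] {P : Ideal R} (hP : P.IsRadical) (hne : P ≠ ⊤) {A : Type u}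
    [CommRing A] [Algebra R A] [Algebra.FiniteType R A] (M : Type u) [AddCommGroup M] [Module R M] [Module A M]
    [IsScalarTower R A M] [Module.Finite A M] :
    ∃ g, g ∉ P ∧ ∀ (C : Type u) [CommRing C] [Algebra R C], IsUnit (algebraMap R C g) →
      P.map (algebraMap R C) = ⊥ → Module.Free C (C ⊗[R] M) := by
  haveI : IsReduced (R ⧸ P) := (Ideal.isRadical_iff_quotient_reduced P).mp hP
  haveI : Nontrivial (R ⧸ P) := Ideal.Quotient.nontrivial_iff.mpr hne
  haveI : IsScalarTower R A ((R ⧸ P) ⊗[R] A) := Algebra.TensorProduct.right_isScalarTower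
  obtain ⟨g, hg, hfree⟩ := exists_free_of_isPushout (M := M) (R' := R ⧸ P) (A := A) (A' := (R ⧸ P) ⊗[R] A)
    Ideal.Quotient.mk_surjective
  rw [Ideal.Quotient.algebraMap_eq, Ideal.mk_ker] at hfree
  exact ⟨g, fun h => hg (Ideal.Quotient.eq_zero_iff_mem.mpr h), hfree⟩

/-- The flattening ideal at a generic point of a Noetherian base with irreducible spectrum. -/
theorem exists_noetherian {R : Type u} [CommRing R] [IsNoetherianRing R] (P : Ideal R) [P.IsPrime]
    (hP : IsNilpotent P) (M : Type u) [AddCommGroup M] [Module R M] {g : R} (hg : g ∉ P)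
    (hfree : ∀ (C : Type u) [CommRing C] [Algebra R C], IsUnit (algebraMap R C g) →
      P.map (algebraMap R C) = ⊥ → Module.Free C (C ⊗[R] M)) :
    ∃ J : Ideal R, J ≤ P ∧ ∀ (C : Type u) [CommRing C] [Algebra R C], IsUnit (algebraMap R C g) →
      (Module.Flat C (C ⊗[R] M) ↔ J.map (algebraMap R C) = ⊥) := by
  let S := Localization.Away g
  haveI : IsNoetherianRing S := IsLocalization.isNoetherianRing (Submonoid.powers g) S inferInstance
  let N : Ideal S := P.map (algebraMap R S)
  have hN : IsNilpotent N := by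
    obtain ⟨m, hm⟩ := hP
    exact ⟨m, by rw [← Ideal.map_pow, hm]; simp⟩
  haveI : IsScalarTower R S (S ⧸ N) := inferInstance
  haveI : Module.Free (S ⧸ N) ((S ⧸ N) ⊗[R] M) := by
    refine hfree (S ⧸ N) ?_ ?_
    · rw [IsScalarTower.algebraMap_apply R S (S ⧸ N)]
      exact (IsLocalization.Away.algebraMap_isUnit g).map _
    · rw [Ideal.map_eq_bot_iff_le_ker]
      intro x hx
      rw [RingHom.mem_ker, IsScalarTower.algebraMap_apply R S (S ⧸ N), Ideal.Quotient.algebraMap_eq,
        Ideal.Quotient.eq_zero_iff_mem]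
      exact Ideal.mem_map_of_mem _ hx
  haveI : Module.Free (S ⧸ N) ((S ⧸ N) ⊗[S] (S ⊗[R] M)) :=
    Module.Free.of_equiv (AlgebraTensorModule.cancelBaseChange R S (S ⧸ N) (S ⧸ N) M).symm
  obtain ⟨JS, hJN, hJS⟩ := exists_ideal_of_free_mod_nilpotent N hN (S ⊗[R] M)
  refine ⟨JS.comap (algebraMap R S), fun a ha => ?_, fun C _ _ hu => ?_⟩
  · obtain ⟨⟨⟨p, hp⟩, s, t, ht⟩, hps⟩ := (IsLocalization.mem_map_algebraMap_iff (Submonoid.powers g) S).mp
      (hJN ha)
    rw [← map_mul] at hps
    obtain ⟨⟨c, r, rfl⟩, hc⟩ := (IsLocalization.eq_iff_exists (Submonoid.powers g) S).mp hps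
    have h1 : g ^ r * (a * s) ∈ P := by
      rw [show g ^ r * (a * s) = g ^ r * p from hc]
      exact Ideal.mul_mem_left _ _ hp
    rcases Ideal.IsPrime.mem_or_mem inferInstance h1 with h | h
    · exact absurd (Ideal.IsPrime.mem_of_pow_mem inferInstance _ h) hg
    rcases Ideal.IsPrime.mem_or_mem inferInstance h with h | h
    · exact h
    · refine absurd (Ideal.IsPrime.mem_of_pow_mem inferInstance t ?_) hg
      have ht' : g ^ t = s := ht
      rw [ht']; exact h
  · letI : Algebra S C := (IsLocalization.Away.lift g (g := algebraMap R C) hu).toAlgebra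
    haveI : IsScalarTower R S C := IsScalarTower.of_algebraMap_eq fun r => (IsLocalization.Away.lift_eq g hu r).symm
    rw [← Module.Flat.equiv_iff (AlgebraTensorModule.cancelBaseChange R S C C M), hJS]
    conv_lhs => rw [← IsLocalization.map_under (Submonoid.powers g) S JS, Ideal.map_map,
      ← IsScalarTower.algebraMap_eq]

open Groth.L07.FlatDescent in
/-- The flattening ideal at the generic point of an irreducible affine base, for one module. -/
theorem exists_flatteningIdeal {R : Type u} [CommRing R] (hR : (nilradical R).IsPrime) {B : Type u} [CommRing B]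
    [Algebra R B] [Algebra.FinitePresentation R B] (M : Type u) [AddCommGroup M] [Module R M] [Module B M]
    [IsScalarTower R B M] [Module.FinitePresentation B M] :
    ∃ (h : R) (J : Ideal R), ¬ IsNilpotent h ∧ J.FG ∧ J ≤ nilradical R ∧
      ∀ (C : Type u) [CommRing C] [Algebra R C], IsUnit (algebraMap R C h) →
        (Module.Flat C (C ⊗[R] M) ↔ J.map (algebraMap R C) = ⊥) := by
  classical
  obtain ⟨d, n, R₀, hnoeth, K, ⟨e⟩⟩ := exists_model R (B₀ := B) M
  haveI := hnoeth
  let P : Ideal R₀ := (nilradical R).comap (algebraMap R₀ R)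
  haveI : P.IsPrime := hR.comap _
  have hPnil : IsNilpotent P := by
    obtain ⟨m, hm⟩ := IsNoetherianRing.isNilpotent_nilradical R₀
    refine ⟨m, le_bot_iff.mp ((Ideal.pow_right_mono (fun x hx => ?_) m).trans hm.le)⟩
    obtain ⟨j, hj⟩ := mem_nilradical.mp (Ideal.mem_comap.mp hx)
    exact mem_nilradical.mpr ⟨j, Subtype.ext (by simpa using hj)⟩
  obtain ⟨g, hg, hfree⟩ := exists_free_modPrime P (A := MvPolynomial (Fin d) R₀) (F d n R₀ ⧸ K)
  obtain ⟨J₀, hJ₀, hiff⟩ := exists_noetherian P hPnil (F d n R₀ ⧸ K) hg hfree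
  refine ⟨algebraMap R₀ R g, J₀.map (algebraMap R₀ R), fun hnil => hg (mem_nilradical.mpr hnil),
    Ideal.FG.map (IsNoetherian.noetherian J₀) _, Ideal.map_le_iff_le_comap.mpr hJ₀, fun C _ _ hu => ?_⟩
  haveI : IsScalarTower R₀ R C := inferInstance
  obtain ⟨e₁⟩ := exists_modelEquiv K e C
  obtain ⟨e₂⟩ := exists_baseChangeEquiv K C
  rw [Module.Flat.equiv_iff (e₁.trans e₂.symm), hiff C (by rwa [IsScalarTower.algebraMap_apply R₀ R C]),
    Ideal.map_map, ← IsScalarTower.algebraMap_eq]

/-- The flattening ideal at the generic point, for finitely many modules. -/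
theorem exists_flatteningIdeal_forall {R : Type u} [CommRing R] (hR : (nilradical R).IsPrime) {ι : Type*} [Finite ι]
    (M : ι → Type u) [∀ k, AddCommGroup (M k)] [∀ k, Module R (M k)]
    (H : ∀ k, ∃ (h : R) (J : Ideal R), ¬ IsNilpotent h ∧ J.FG ∧ J ≤ nilradical R ∧
      ∀ (C : Type u) [CommRing C] [Algebra R C], IsUnit (algebraMap R C h) →
        (Module.Flat C (C ⊗[R] M k) ↔ J.map (algebraMap R C) = ⊥)) :
    ∃ (h : R) (J : Ideal R), ¬ IsNilpotent h ∧ J.FG ∧ J ≤ nilradical R ∧
      ∀ (C : Type u) [CommRing C] [Algebra R C], IsUnit (algebraMap R C h) →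
        ((∀ k, Module.Flat C (C ⊗[R] M k)) ↔ J.map (algebraMap R C) = ⊥) := by
  classical
  haveI := Fintype.ofFinite ι
  choose h J hh hfg hle hiff using H
  refine ⟨∏ k, h k, ⨆ k, J k, fun hnil => ?_, Submodule.fg_iSup _ hfg, iSup_le hle, fun C _ _ hu => ?_⟩
  · obtain ⟨k, -, hk⟩ := (Ideal.IsPrime.prod_mem_iff (hp := hR)).mp (mem_nilradical.mpr hnil)
    exact hh k (mem_nilradical.mp hk)
  · rw [Ideal.map_iSup, iSup_eq_bot]
    refine forall_congr' fun k => hiff k C ?_
    rw [map_prod] at hu
    exact isUnit_of_dvd_unit (Finset.dvd_prod_of_mem (fun x => algebraMap R C (h x)) (Finset.mem_univ k)) hu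

end Groth.L07.FlatIdeal
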