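import Groth.Agent.L07.FlatIdeal
import Groth.Agent.L06.FlatLimitPreserving

/-! # The flattening ideal at a generic point, for schemes -/

set_option autoImplicit false
set_option maxSynthPendingDepth 3
set_option linter.style.haveILetI false
set_option backward.isDefEq.respectTransparency.types false
set_option backward.isDefEq.respectTransparency false

universe u

open CategoryTheory CategoryTheory.Limits AlgebraicGeometry TopologicalSpace TensorProduct

namespace Groth.L07.FlatIdeal

theorem exists_flatteningIdeal_scheme {X S : Scheme.{u}} [IsAffine S] (hS : (nilradical Γ(S, ⊤)).IsPrime)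
    (f : X ⟶ S) [LocallyOfFinitePresentation f] [QuasiCompact f] (F : X.Modules) [Coh.IsQCoh F]
    (hF : CohB1.IsFP F) :
    ∃ (h : Γ(S, ⊤)) (J : Ideal Γ(S, ⊤)), ¬ IsNilpotent h ∧ J.FG ∧ J ≤ nilradical Γ(S, ⊤) ∧
      ∀ (S' : Scheme.{u}) [IsAffine S'] (g : S' ⟶ S), IsUnit (g.appTop h) →
        (FlatMod.IsFlatOver (pullback.snd f g) ((Scheme.Modules.pullback (pullback.fst f g)).obj F) ↔
          J.map g.appTop.hom = ⊥) := by
  haveI : CompactSpace X := QuasiCompact.compactSpace_of_compactSpace f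
  obtain ⟨n, V, hV, hcov⟩ := Groth.L19.LimMod.exists_affine_cover X
  letI : ∀ k, Module Γ(S, ⊤) Γ(F, V k) := fun k => Module.compHom _ (f.appLE ⊤ (V k) le_top).hom
  have key : ∀ k, ∃ (h : Γ(S, ⊤)) (J : Ideal Γ(S, ⊤)), ¬ IsNilpotent h ∧ J.FG ∧ J ≤ nilradical Γ(S, ⊤) ∧
      ∀ (C : Type u) [CommRing C] [Algebra Γ(S, ⊤) C], IsUnit (algebraMap Γ(S, ⊤) C h) →
        (Module.Flat C (C ⊗[Γ(S, ⊤)] Γ(F, V k)) ↔ J.map (algebraMap Γ(S, ⊤) C) = ⊥) := by
    intro k
    letI := (f.appLE ⊤ (V k) le_top).hom.toAlgebra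
    haveI : IsScalarTower Γ(S, ⊤) Γ(X, V k) Γ(F, V k) := IsScalarTower.of_algebraMap_smul fun _ _ => rfl
    haveI : Algebra.FinitePresentation Γ(S, ⊤) Γ(X, V k) :=
      f.finitePresentation_appLE (isAffineOpen_top S) (hV k) le_top
    haveI := Groth.L20.ModStalk.finitePresentation_sections F hF (hV k)
    exact exists_flatteningIdeal hS (B := Γ(X, V k)) Γ(F, V k)
  obtain ⟨h, J, hh, hfg, hle, hiff⟩ := exists_flatteningIdeal_forall hS (fun k => Γ(F, V k)) key
  refine ⟨h, J, hh, hfg, hle, fun S' _ g hu => ?_⟩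
  letI := g.appTop.hom.toAlgebra
  refine Iff.trans ⟨fun H k => ?_, fun H x => ?_⟩ (hiff Γ(S', ⊤) hu)
  · exact (Groth.L06.FlatLimitPreserving.flat_piece_iff (IsPullback.of_hasPullback f g) F (hV k)).2 fun x _ => H x
  · obtain ⟨k, hk⟩ := hcov (pullback.fst f g x)
    exact (Groth.L06.FlatLimitPreserving.flat_piece_iff (IsPullback.of_hasPullback f g) F (hV k)).1 (H k) x hk

theorem exists_flatteningIdeal_spec {A : Type u} [CommRing A] [IrreducibleSpace (PrimeSpectrum A)]
    {X : Scheme.{u}} (f : X ⟶ Spec (CommRingCat.of A))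
    [LocallyOfFinitePresentation f] [QuasiCompact f] (F : X.Modules) [Coh.IsQCoh F] (hF : CohB1.IsFP F) :
    ∃ (h : A) (_ : ¬ IsNilpotent h) (J : Ideal (Localization.Away h)) (_ : J.FG)
      (_ : J ≤ nilradical (Localization.Away h)),
      ∀ (A' : Type u) [CommRing A'] [Algebra (Localization.Away h) A'],
        letI g : Spec (CommRingCat.of A') ⟶ Spec (CommRingCat.of A) :=
          Spec.map (CommRingCat.ofHom ((algebraMap (Localization.Away h) A').comp (algebraMap A (Localization.Away h))))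
        (FlatMod.IsFlatOver (pullback.snd f g) ((Scheme.Modules.pullback (pullback.fst f g)).obj F) ↔
          Ideal.map (algebraMap (Localization.Away h) A') J = ⊥) := by
  let σ : Γ(Spec (CommRingCat.of A), ⊤) ≃+* A := (Scheme.ΓSpecIso (CommRingCat.of A)).commRingCatIsoToRingEquiv
  have hA : (nilradical A).IsPrime := (PrimeSpectrum.irreducibleSpace_iff_isPrime_nilradical (R := A)).mp inferInstance
  have hσ : nilradical Γ(Spec (CommRingCat.of A), ⊤) = (nilradical A).comap σ := by
    ext x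
    rw [Ideal.mem_comap, mem_nilradical, mem_nilradical]
    exact (IsNilpotent.map_iff σ.injective).symm
  obtain ⟨h, J, hh, hfg, hle, hiff⟩ :=
    exists_flatteningIdeal_scheme (S := Spec (CommRingCat.of A)) (hσ ▸ hA.comap σ) f F hF
  refine ⟨σ h, fun hn => hh ((IsNilpotent.map_iff σ.injective).mp hn),
    J.map ((algebraMap A (Localization.Away (σ h))).comp σ.toRingHom), Ideal.FG.map hfg _,
    Ideal.map_le_iff_le_comap.mpr fun x hx => (mem_nilradical.mp (hle hx)).map _, fun A' _ _ => ?_⟩
  set φ := (algebraMap (Localization.Away (σ h)) A').comp (algebraMap A (Localization.Away (σ h))) with hφ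
  let g := Spec.map (CommRingCat.ofHom φ)
  let τ : Γ(Spec (CommRingCat.of A'), ⊤) ≃+* A' := (Scheme.ΓSpecIso (CommRingCat.of A')).commRingCatIsoToRingEquiv
  have hnat : τ.toRingHom.comp g.appTop.hom = φ.comp σ.toRingHom :=
    congrArg CommRingCat.Hom.hom (Scheme.ΓSpecIso_naturality (CommRingCat.ofHom φ))
  have hu : IsUnit (g.appTop h) := by
    rw [← isUnit_map_iff τ]
    rw [show τ (g.appTop h) = φ (σ h) from congr($hnat h)]
    exact ((IsLocalization.Away.algebraMap_isUnit (S := Localization.Away (σ h)) (σ h)).map (algebraMap (Localization.Away (σ h)) A'))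
  refine (hiff (Spec (CommRingCat.of A')) g hu).trans ?_
  rw [Ideal.map_map, ← RingHom.comp_assoc, ← hφ, ← hnat, ← Ideal.map_map]
  exact (Ideal.map_eq_bot_iff_of_injective τ.injective).symm

end Groth.L07.FlatIdeal
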