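import Groth.Agent.L18.DominatingDVR
import Mathlib.RingTheory.Flat.EquationalCriterion
import Mathlib.RingTheory.Flat.Stability
import Mathlib.RingTheory.Flat.FaithfullyFlat.Algebra
import Mathlib.RingTheory.Ideal.AssociatedPrime.Basic
import Mathlib.RingTheory.Nakayama

/-!
An ideal in the closed fibre of a flat algebra over a reduced base vanishes if the quotient is
flat after base change to discrete valuation rings.
-/

universe u

open TensorProduct

namespace Groth.L07.FlatKernel

set_option linter.style.haveILetI false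
set_option maxSynthPendingDepth 3

/-- The test at a prime over a minimal prime of the base. -/
theorem exists_mul_eq_zero {R E : Type u} [CommRing R] [CommRing E] [Algebra R E]
    (ε : Ideal E) [ε.IsPrime] (hF : IsField (Localization.AtPrime (ε.comap (algebraMap R E))))
    {B : Type u} [CommRing B] [IsDomain B] [Algebra R B] (ψ : E →ₐ[R] B) (hψ : RingHom.ker ψ = ε)
    (j : E) (s : E ⊗[R] B) (hs : Algebra.TensorProduct.lift ψ (AlgHom.id R B) (fun a b => Commute.all _ _) s ≠ 0)
    (hsj : s * (j ⊗ₜ[R] 1) = 0) : ∃ t ∉ ε, t * j = 0 := by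
  let p := ε.comap (algebraMap R E)
  let F := Localization.AtPrime p
  letI : Field F := hF.toField
  let E' := Localization.AtPrime ε
  let K := FractionRing B
  letI : Algebra F E' := (IsLocalization.lift (M := p.primeCompl) (S := F) (g := algebraMap R E')
    (fun r => by
      rw [IsScalarTower.algebraMap_apply R E E']
      exact IsLocalization.map_units E' (⟨algebraMap R E r, r.2⟩ : ε.primeCompl))).toAlgebra
  haveI : IsScalarTower R F E' := IsScalarTower.of_algebraMap_eq fun r => (IsLocalization.lift_eq _ r).symm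
  have hRK : ∀ r : p.primeCompl, IsUnit (algebraMap R K r) := fun r => by
    refine isUnit_iff_ne_zero.mpr fun h0 => r.2 ?_
    rw [IsScalarTower.algebraMap_apply R B K] at h0
    have h1 : algebraMap R B r = 0 := IsFractionRing.injective B K (h0.trans (map_zero _).symm)
    rw [← ψ.commutes r, ← RingHom.mem_ker (f := ψ), hψ] at h1
    exact h1
  letI : Algebra F K := (IsLocalization.lift (M := p.primeCompl) (S := F) hRK).toAlgebra
  haveI : IsScalarTower R F K := IsScalarTower.of_algebraMap_eq fun r => (IsLocalization.lift_eq _ r).symm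
  -- the composite to the fraction field
  have hEK : ∀ e : ε.primeCompl, IsUnit (((IsScalarTower.toAlgHom R B K).comp ψ).toRingHom e) := fun e => by
    refine isUnit_iff_ne_zero.mpr fun h0 => e.2 ?_
    exact (SetLike.ext_iff.mp hψ (e : E)).mp (IsFractionRing.injective B K (h0.trans (map_zero _).symm))
  let ψ'₀ : E' →+* K := IsLocalization.lift (M := ε.primeCompl) (S := E') hEK
  have hψ' : ∀ e : E, ψ'₀ (algebraMap E E' e) = algebraMap B K (ψ e) := fun e => IsLocalization.lift_eq _ e
  let ψ' : E' →ₐ[F] K :=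
    { ψ'₀ with
      commutes' := fun x => by
        have : ψ'₀.comp (algebraMap F E') = algebraMap F K := IsLocalization.ringHom_ext p.primeCompl <| by
          ext r
          simp only [RingHom.comp_apply]
          rw [← IsScalarTower.algebraMap_apply R F E', ← IsScalarTower.algebraMap_apply R F K,
            IsScalarTower.algebraMap_apply R E E', hψ', ψ.commutes, ← IsScalarTower.algebraMap_apply R B K]
        exact congrArg (fun φ : F →+* K => φ x) this }
  have hψ'' : ∀ x, ψ' x = ψ'₀ x := fun _ => rfl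
  let G := E' ⊗[F] K
  let Θ : G →ₐ[F] K := Algebra.TensorProduct.lift ψ' (AlgHom.id F K) (fun a b => Commute.all _ _)
  have hΘ : ∀ a b, Θ (a ⊗ₜ[F] b) = ψ'₀ a * b := fun a b =>
    Algebra.TensorProduct.lift_tmul ψ' (AlgHom.id F K) (fun a b => Commute.all _ _) a b
  let Φ : E ⊗[R] B →ₐ[R] G := Algebra.TensorProduct.lift
    (((Algebra.TensorProduct.includeLeft : E' →ₐ[F] G).restrictScalars R).comp (IsScalarTower.toAlgHom R E E'))
    (((Algebra.TensorProduct.includeRight : K →ₐ[F] G).restrictScalars R).comp (IsScalarTower.toAlgHom R B K))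
    (fun a b => Commute.all _ _)
  have hΘΦ : ∀ x, Θ (Φ x) = algebraMap B K
      (Algebra.TensorProduct.lift ψ (AlgHom.id R B) (fun a b => Commute.all _ _) x) := by
    intro x
    induction x using TensorProduct.induction_on with
    | zero => simp
    | tmul a b => simp [Φ, hΘ, hψ']
    | add a b ha hb => simp only [map_add, ha, hb]
  let ε₂ : Ideal G := RingHom.ker Θ
  haveI : ε₂.IsPrime := RingHom.ker_isPrime _
  haveI : Module.Free E' G := inferInstance
  haveI : ε₂.LiesOver (IsLocalRing.maximalIdeal E') := ⟨by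
    ext e
    show e ∈ IsLocalRing.maximalIdeal E' ↔ Θ (e ⊗ₜ[F] (1 : K)) = 0
    obtain ⟨a, c, rfl⟩ := IsLocalization.exists_mk'_eq ε.primeCompl e
    have h1 : Θ ((IsLocalization.mk' E' a c) ⊗ₜ[F] (1 : K)) = ψ'₀ (IsLocalization.mk' E' a c) := by
      rw [hΘ, mul_one]
    have h2 : ψ'₀ (IsLocalization.mk' E' a c) * algebraMap B K (ψ c) = algebraMap B K (ψ a) := by
      rw [← hψ', ← map_mul, IsLocalization.mk'_spec, hψ']
    have hc : algebraMap B K (ψ c) ≠ 0 := (hEK c).ne_zero
    rw [h1, IsLocalization.AtPrime.mk'_mem_maximal_iff E' ε]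
    refine (SetLike.ext_iff.mp hψ a).symm.trans ⟨fun h => ?_, fun h => ?_⟩
    · have h' : ψ a = 0 := h
      rw [h', map_zero] at h2
      exact (mul_eq_zero.mp h2).resolve_right hc
    · rw [h, zero_mul] at h2
      exact IsFractionRing.injective B K (h2.symm.trans (map_zero _).symm)⟩
  let G₂ := Localization.AtPrime ε₂
  haveI : Module.Flat E' G₂ := Module.Flat.trans E' G G₂
  haveI : IsLocalHom (algebraMap E' G₂) := ⟨fun e he => by
    by_contra hne
    have h1 : e ∈ IsLocalRing.maximalIdeal E' := hne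
    rw [(inferInstance : ε₂.LiesOver (IsLocalRing.maximalIdeal E')).over, Ideal.mem_comap] at h1
    rw [IsScalarTower.algebraMap_apply E' G G₂] at he
    exact (IsLocalization.AtPrime.isUnit_to_map_iff G₂ ε₂ _).mp he h1⟩
  haveI : Module.FaithfullyFlat E' G₂ := Module.FaithfullyFlat.of_flat_of_isLocalHom
  have hzero : algebraMap E' G₂ (algebraMap E E' j) = 0 := by
    have h1 : IsUnit (algebraMap G G₂ (Φ s)) := (IsLocalization.AtPrime.isUnit_to_map_iff G₂ ε₂ _).mpr
      fun h => hs (IsFractionRing.injective B K ((hΘΦ s).symm.trans (h.trans (map_zero _).symm)))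
    have h2 := congrArg (fun x => algebraMap G G₂ (Φ x)) hsj
    simp only [map_mul, map_zero] at h2
    rw [h1.mul_right_eq_zero] at h2
    rw [IsScalarTower.algebraMap_apply E' G G₂]
    refine Eq.trans ?_ h2
    congr 1
    simp [Φ, ← Algebra.TensorProduct.one_def]
    rfl
  have hj0 : algebraMap E E' j = 0 :=
    FaithfulSMul.algebraMap_injective E' G₂ (hzero.trans (map_zero _).symm)
  obtain ⟨t, ht⟩ := (IsLocalization.map_eq_zero_iff ε.primeCompl E' j).mp hj0
  exact ⟨t, t.2, ht⟩

/-- A multiple of the maximal ideal of a local quotient vanishes after localisation. -/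
theorem exists_kill {C : Type u} [CommRing C] (q : Ideal C) [q.IsPrime] (M : Ideal C) (hM : M.FG) (π : C)
    (hπ : π ∈ q) (hle : M ≤ Ideal.span {π}) (h : ∀ y, π * y ∈ M → ∃ s ∉ q, s * y ∈ M) :
    ∀ x ∈ M, ∃ s ∉ q, s * x = 0 := by
  let L := Localization.AtPrime q
  have hN : M.map (algebraMap C L) = ⊥ := by
    refine Submodule.eq_bot_of_le_smul_of_le_jacobson_bot (Ideal.span {algebraMap C L π}) _
      (Ideal.FG.map hM (algebraMap C L)) ?_ ?_
    · rw [Ideal.map, Ideal.span_le]
      rintro _ ⟨x, hx, rfl⟩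
      obtain ⟨y, rfl⟩ := Ideal.mem_span_singleton'.mp (hle hx)
      obtain ⟨s, hs, hsy⟩ := h y (by rw [mul_comm]; exact hx)
      obtain ⟨v, hv⟩ := (IsLocalization.map_units L (⟨s, hs⟩ : q.primeCompl)).exists_left_inv
      have e : algebraMap C L (y * π) = algebraMap C L π • (v * algebraMap C L (s * y)) := by
        rw [smul_eq_mul, map_mul, map_mul, ← mul_assoc v, hv, one_mul, mul_comm]
      rw [SetLike.mem_coe, e]
      exact Submodule.smul_mem_smul (Ideal.mem_span_singleton_self _)
        (Ideal.mul_mem_left _ _ (Ideal.mem_map_of_mem _ hsy))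
    · rw [IsLocalRing.jacobson_eq_maximalIdeal ⊥ bot_ne_top, Ideal.span_le, Set.singleton_subset_iff]
      exact (IsLocalization.AtPrime.to_map_mem_maximal_iff L q π).mpr hπ
  intro x hx
  have h1 : algebraMap C L x = 0 := by
    rw [← Ideal.mem_bot, ← hN]; exact Ideal.mem_map_of_mem _ hx
  obtain ⟨s, hs⟩ := (IsLocalization.map_eq_zero_iff q.primeCompl L x).mp h1
  exact ⟨s, s.2, hs⟩

/-- The kernel vanishes. -/
theorem kernel_eq_bot {R E : Type u} [CommRing R] [IsNoetherianRing R] (p : Ideal R) [p.IsPrime]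
    [IsReduced (Localization.AtPrime p)] [CommRing E] [IsLocalRing E] [IsNoetherianRing E] [Algebra R E]
    [Module.Flat R E] (hp : (IsLocalRing.maximalIdeal E).comap (algebraMap R E) = p)
    (hm : p.map (algebraMap R E) = IsLocalRing.maximalIdeal E)
    (J : Ideal E) (hJ : J ≤ IsLocalRing.maximalIdeal E)
    (hyp : ∀ (B : Type u) [CommRing B] [IsDomain B] [IsDiscreteValuationRing B] [Algebra R B],
      (IsLocalRing.maximalIdeal B).comap (algebraMap R B) = p →
      ∀ (q : Ideal (E ⊗[R] B)) [q.IsPrime],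
        q.comap Algebra.TensorProduct.includeLeftRingHom = IsLocalRing.maximalIdeal E →
        q.comap (Algebra.TensorProduct.includeRight : B →ₐ[R] E ⊗[R] B).toRingHom = IsLocalRing.maximalIdeal B →
        ∀ t : B, t ≠ 0 → ∀ y : E ⊗[R] B, ((1 : E) ⊗ₜ[R] t) * y ∈ J.map Algebra.TensorProduct.includeLeftRingHom →
          ∃ s ∉ q, s * y ∈ J.map Algebra.TensorProduct.includeLeftRingHom) :
    J = ⊥ := by
  classical
  rw [Submodule.eq_bot_iff]
  intro j hj
  by_contra hj0
  obtain ⟨ε, hε, hle⟩ := exists_le_isAssociatedPrime_of_isNoetherianRing E j hj0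
  haveI := hε.isPrime
  have hkey : ∀ t ∉ ε, t * j ≠ 0 := fun t ht h0 => ht (hle (by
    rw [Submodule.mem_colon_singleton]
    simpa using h0))
  obtain ⟨e₀, he₀⟩ := hε.2
  have hεp : ε.comap (algebraMap R E) ≤ p := hp ▸ Ideal.comap_mono (IsLocalRing.le_maximalIdeal hε.isPrime.ne_top)
  have hkillp : ∀ r : R, algebraMap R (Localization.AtPrime p) r = 0 → algebraMap R E r = 0 := fun r hr => by
    obtain ⟨u, hu⟩ := (IsLocalization.map_eq_zero_iff p.primeCompl (Localization.AtPrime p) r).mp hr
    have hunit : IsUnit (algebraMap R E u) := not_not.mp fun h => u.2 (by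
      exact (SetLike.ext_iff.mp hp _).mp h)
    refine hunit.mul_right_eq_zero.mp ?_
    rw [← map_mul, hu, map_zero]
  -- the prime of the base is minimal
  have hmin : ε.comap (algebraMap R E) ∈ minimalPrimes R := by
    let S := {Q ∈ minimalPrimes R | Q ≤ p}
    have hS : S.Finite := (minimalPrimes.finite_of_isNoetherianRing R).subset fun Q hQ => hQ.1
    have hsub : (ε.comap (algebraMap R E) : Set R) ⊆ ⋃ Q ∈ S, (Q : Set R) := by
      intro r hr
      by_contra hcon
      simp only [Set.mem_iUnion₂, not_exists] at hcon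
      have hr' : algebraMap R E r ∈ ((⊥ : Submodule E E).colon {e₀}).radical := he₀ ▸ hr
      obtain ⟨n, hn⟩ := hr'
      rw [Submodule.mem_colon_singleton, Submodule.mem_bot, smul_eq_mul, ← map_pow] at hn
      have hne : e₀ ≠ 0 := fun h0 => hε.isPrime.ne_top (by
        rw [he₀, Ideal.radical_eq_top, Ideal.eq_top_iff_one, Submodule.mem_colon_singleton, h0]
        simp)
      have hrel : ∑ _i : Unit, r ^ n • e₀ = 0 := by simpa [Algebra.smul_def] using hn
      obtain ⟨k, a, y, hy, ha⟩ := Module.Flat.isTrivialRelation_of_sum_smul_eq_zero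
        (f := fun _ : Unit => r ^ n) (x := fun _ => e₀) hrel
      refine hne ?_
      rw [show e₀ = ∑ j, a () j • y j from hy ()]
      refine Finset.sum_eq_zero fun i _ => ?_
      have hai : r ^ n * a () i = 0 := by simpa using ha i
      rw [Algebra.smul_def, hkillp _ ?_, zero_mul]
      rw [← isNilpotent_iff_eq_zero, nilpotent_iff_mem_prime]
      intro P hP
      haveI := hP
      obtain ⟨Q, hQ, hQP⟩ := Ideal.exists_minimalPrimes_le
        (bot_le : (⊥ : Ideal R) ≤ P.comap (algebraMap R (Localization.AtPrime p)))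
      have hQp : Q ≤ p := hQP.trans fun c hc => by
        by_contra hcp
        exact hP.ne_top (Ideal.eq_top_of_isUnit_mem _ hc
          (IsLocalization.map_units (Localization.AtPrime p) (⟨c, hcp⟩ : p.primeCompl)))
      exact hQP ((hQ.1.1.mem_or_mem (hai ▸ Q.zero_mem : r ^ n * a () i ∈ Q)).resolve_left
        fun h => hcon Q ⟨hQ, hQp⟩ (hQ.1.1.mem_of_pow_mem n h))
    obtain ⟨Q, hQ, hQle⟩ := (Ideal.subset_union_prime_finite hS (⊥ : Ideal R) ⊥
      fun Q hQ _ _ => hQ.1.1.1).mp hsub
    haveI := hQ.1.1.1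
    have hεQ : Q ≤ ε.comap (algebraMap R E) := hQ.1.2 ⟨Ideal.IsPrime.comap _, bot_le⟩ hQle
    rw [le_antisymm hQle hεQ]; exact hQ.1
  have hF : IsField (Localization.AtPrime (ε.comap (algebraMap R E))) := by
    refine IsLocalRing.isField_iff_maximalIdeal_eq.mpr ((Submodule.eq_bot_iff _).mpr fun x hx => ?_)
    have hnil : IsNilpotent x := by
      rw [nilpotent_iff_mem_prime]
      intro P hP
      haveI := hP
      have h1 : P.comap (algebraMap R _) ≤ ε.comap (algebraMap R E) := fun c hc => by
        by_contra hcp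
        exact hP.ne_top (Ideal.eq_top_of_isUnit_mem _ hc
          (IsLocalization.map_units (Localization.AtPrime (ε.comap (algebraMap R E)))
            (⟨c, hcp⟩ : (ε.comap (algebraMap R E)).primeCompl)))
      have h2 : ε.comap (algebraMap R E) ≤ P.comap (algebraMap R _) :=
        hmin.2 ⟨Ideal.IsPrime.comap _, bot_le⟩ h1
      rw [← Localization.AtPrime.map_eq_maximalIdeal] at hx
      exact Ideal.map_le_iff_le_comap.mpr h2 hx
    obtain ⟨n, hn⟩ := hnil
    obtain ⟨r, u, rfl⟩ := IsLocalization.exists_mk'_eq (ε.comap (algebraMap R E)).primeCompl x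
    rw [← IsLocalization.mk'_pow, IsLocalization.mk'_eq_zero_iff] at hn
    obtain ⟨v, hv⟩ := hn
    have h0 : algebraMap R (Localization.AtPrime p) ((v : R) * r) = 0 := by
      refine IsNilpotent.eq_zero ⟨n + 1, ?_⟩
      rw [← map_pow, mul_pow, pow_succ (v : R), pow_succ r]
      rw [show (v : R) ^ n * v * (r ^ n * r) = (v : R) ^ n * r * (v * r ^ n) by ring, hv, mul_zero, map_zero]
    obtain ⟨w, hw⟩ := (IsLocalization.map_eq_zero_iff p.primeCompl (Localization.AtPrime p) _).mp h0
    rw [IsLocalization.mk'_eq_zero_iff]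
    refine ⟨⟨w * v, (ε.comap (algebraMap R E)).primeCompl.mul_mem (fun h => w.2 (hεp h)) v.2⟩, ?_⟩
    show (w : R) * v * r = 0
    rw [mul_assoc, hw]
  by_cases hεm : ε = IsLocalRing.maximalIdeal E
  · refine hj0 ?_
    have hzero : p.map (algebraMap R E) = ⊥ := by
      rw [Ideal.map_eq_bot_iff_le_ker]
      intro r hr
      rw [RingHom.mem_ker]
      refine hkillp r ?_
      have hpe : ε.comap (algebraMap R E) = p := (congrArg (Ideal.comap (algebraMap R E)) hεm).trans hp
      have hF' : IsField (Localization.AtPrime p) :=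
        (show ∀ (Q : Ideal R) [Q.IsPrime], Q = p → IsField (Localization.AtPrime Q) →
          IsField (Localization.AtPrime p) by intro Q _ e h; subst e; exact h) _ hpe hF
      have := IsLocalRing.isField_iff_maximalIdeal_eq.mp hF'
      rw [← Ideal.mem_bot, ← this]
      exact (IsLocalization.AtPrime.to_map_mem_maximal_iff (Localization.AtPrime p) p r).mpr hr
    rw [← Ideal.mem_bot, ← hzero, hm]
    exact hJ hj
  let A := E ⧸ ε
  let K := FractionRing A
  letI : Algebra E K := ((algebraMap A K).comp (Ideal.Quotient.mk ε)).toAlgebra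
  have hgen : Subfield.closure (Set.range (algebraMap E K) ∪ ∅) = ⊤ := by
    refine eq_top_iff.mpr fun z _ => ?_
    obtain ⟨a, b, -, rfl⟩ := IsFractionRing.div_surjective (A := A) z
    obtain ⟨a, rfl⟩ := Ideal.Quotient.mk_surjective a
    obtain ⟨b, rfl⟩ := Ideal.Quotient.mk_surjective b
    exact div_mem (Subfield.subset_closure (Or.inl ⟨a, rfl⟩)) (Subfield.subset_closure (Or.inl ⟨b, rfl⟩))
  have hker : RingHom.ker (algebraMap E K) = ε := by
    rw [RingHom.algebraMap_toAlgebra, ← RingHom.comap_ker, (RingHom.injective_iff_ker_eq_bot _).mp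
      (IsFractionRing.injective A K), ← RingHom.ker_eq_comap_bot, Ideal.mk_ker]
  obtain ⟨W, hW, hmem, hval⟩ :=
    Groth.L18.exists_isDiscreteValuationRing_dominating Set.finite_empty hgen (hker.trans_ne hεm)
  haveI := hW
  let φ : E →+* W := (algebraMap E K).codRestrict W.toSubring hmem
  letI : Algebra R W := (φ.comp (algebraMap R E)).toAlgebra
  let ψ : E →ₐ[R] W := { φ with commutes' := fun r => rfl }
  have hψ : RingHom.ker ψ = ε := by
    ext a
    refine Iff.trans ⟨fun h => ?_, fun h => ?_⟩ (SetLike.ext_iff.mp hker a)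
    · exact congrArg Subtype.val h
    · exact Subtype.ext h
  have hmax : (IsLocalRing.maximalIdeal W).comap φ = IsLocalRing.maximalIdeal E := by
    refine ((IsLocalRing.maximalIdeal.isMaximal E).eq_of_le (Ideal.IsPrime.comap φ).ne_top fun a ha => ?_).symm
    rw [Ideal.mem_comap, IsLocalRing.mem_maximalIdeal, mem_nonunits_iff]
    intro hu
    exact (W.valuation_lt_one_iff (φ a)).mpr (hval a ha) hu
  let Ψ := Algebra.TensorProduct.lift ψ (AlgHom.id R W) (fun a b => Commute.all _ _)
  let q : Ideal (E ⊗[R] W) := (IsLocalRing.maximalIdeal W).comap Ψ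
  haveI : q.IsPrime := Ideal.IsPrime.comap _
  have hq1 : q.comap Algebra.TensorProduct.includeLeftRingHom = IsLocalRing.maximalIdeal E := by
    rw [← hmax]
    ext a
    show Ψ (a ⊗ₜ[R] (1 : W)) ∈ IsLocalRing.maximalIdeal W ↔ φ a ∈ IsLocalRing.maximalIdeal W
    simp [Ψ]
    rfl
  have hq2 : q.comap (Algebra.TensorProduct.includeRight : W →ₐ[R] E ⊗[R] W).toRingHom =
      IsLocalRing.maximalIdeal W := by
    ext b
    show Ψ ((1 : E) ⊗ₜ[R] b) ∈ IsLocalRing.maximalIdeal W ↔ b ∈ IsLocalRing.maximalIdeal W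
    simp [Ψ]
  obtain ⟨π, hπ⟩ := IsDiscreteValuationRing.exists_irreducible W
  have hπm := hπ.maximalIdeal_eq
  let M := J.map (Algebra.TensorProduct.includeLeftRingHom : E →+* E ⊗[R] W)
  have hRW : (IsLocalRing.maximalIdeal W).comap (algebraMap R W) = p := by
    rw [RingHom.algebraMap_toAlgebra, ← Ideal.comap_comap, hmax, hp]
  obtain ⟨s, hs, hsj⟩ := exists_kill q M (Ideal.FG.map (IsNoetherian.noetherian J) _) ((1 : E) ⊗ₜ[R] π)
    (by
      show Ψ ((1 : E) ⊗ₜ[R] π) ∈ IsLocalRing.maximalIdeal W
      simp [Ψ, hπm])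
    (by
      refine (Ideal.map_mono hJ).trans ?_
      rw [← hm, Ideal.map_map, Ideal.map_le_iff_le_comap]
      intro r hr
      rw [← hRW, Ideal.mem_comap, hπm, Ideal.mem_span_singleton'] at hr
      obtain ⟨c, hc⟩ := hr
      rw [Ideal.mem_comap, Ideal.mem_span_singleton']
      refine ⟨(1 : E) ⊗ₜ[R] c, ?_⟩
      rw [Algebra.TensorProduct.tmul_mul_tmul, mul_one, hc]
      show (1 : E) ⊗ₜ[R] (algebraMap R W r) = (algebraMap R E r) ⊗ₜ[R] (1 : W)
      rw [Algebra.algebraMap_eq_smul_one, tmul_smul, smul_tmul', ← Algebra.algebraMap_eq_smul_one])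
    (hyp W hRW q hq1 hq2 π hπ.ne_zero) (j ⊗ₜ[R] 1) (Ideal.mem_map_of_mem _ hj)
  obtain ⟨t, ht, htj⟩ := exists_mul_eq_zero ε hF ψ hψ j s
    (fun h0 => hs (by show Ψ s ∈ IsLocalRing.maximalIdeal W; rw [show Ψ s = 0 from h0]; exact zero_mem _)) hsj
  exact hkey t ht htj

end Groth.L07.FlatKernel
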