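import Groth.Agent.L07.FlatGeomReduced
import Mathlib.RingTheory.Algebraic.Integral

/-!
A flat algebra with geometrically reduced closed fibre has geometrically reduced fibres nearby and is
reduced over a reduced base.
-/

universe u

open TensorProduct PrimeSpectrum

namespace Groth.L07.FlatGeomReduced

set_option autoImplicit false
set_option linter.style.haveILetI false
set_option maxSynthPendingDepth 3
set_option synthInstance.maxHeartbeats 400000

variable {R C : Type u} [CommRing R] [CommRing C] [Algebra R C]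

theorem isField_loc_bot {A : Type u} [CommRing A] [IsDomain A] {p : Ideal A} [p.IsPrime] (h : p = ⊥) :
    IsField (Localization.AtPrime p) := by
  subst h
  rw [IsLocalRing.isField_iff_maximalIdeal_eq, ← Localization.AtPrime.map_eq_maximalIdeal, Ideal.map_bot]

/-- The closed fibre of a base change to a local ring is reduced. -/
theorem isRadical_closed_fibre (𝔷 : Ideal C) [𝔷.IsPrime] (hred : GeomRedAt R 𝔷)
    (B : Type u) [CommRing B] [IsLocalRing B] [Algebra R B]
    (hB : (IsLocalRing.maximalIdeal B).comap (algebraMap R B) = 𝔷.comap (algebraMap R C))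
    (q : Ideal (C ⊗[R] B)) [q.IsPrime]
    (hq1 : q.comap Algebra.TensorProduct.includeLeftRingHom = 𝔷)
    (hq2 : q.comap (Algebra.TensorProduct.includeRight : B →ₐ[R] C ⊗[R] B).toRingHom = IsLocalRing.maximalIdeal B) :
    ((IsLocalRing.maximalIdeal B).map ((algebraMap (C ⊗[R] B) (Localization.AtPrime q)).comp
      (Algebra.TensorProduct.includeRight : B →ₐ[R] C ⊗[R] B).toRingHom)).IsRadical := by
  let T := C ⊗[R] B
  let ι : B →+* T := (Algebra.TensorProduct.includeRight : B →ₐ[R] T).toRingHom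
  let Lq := Localization.AtPrime q
  let m := IsLocalRing.maximalIdeal B
  let L := B ⧸ m
  letI : Field L := Ideal.Quotient.field m
  have hL : RingHom.ker (algebraMap R L) = 𝔷.comap (algebraMap R C) := by
    rw [← hB]; ext r
    exact Ideal.Quotient.eq_zero_iff_mem
  let Φ : T →ₐ[R] C ⊗[R] L := Algebra.TensorProduct.map (AlgHom.id R C) (Ideal.Quotient.mkₐ R m)
  have hΦ : Function.Surjective Φ := TensorProduct.map_surjective Function.surjective_id Ideal.Quotient.mk_surjective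
  have hker : RingHom.ker Φ = m.map ι := by
    refine (Algebra.TensorProduct.lTensor_ker (A := C) (Ideal.Quotient.mkₐ R m) Ideal.Quotient.mk_surjective).trans ?_
    congr 1
    exact Ideal.mk_ker
  have hkq : RingHom.ker Φ ≤ q := by
    rw [hker, Ideal.map_le_iff_le_comap, hq2]
  let Q := q.map Φ.toRingHom
  haveI : Q.IsPrime := Ideal.map_isPrime_of_surjective hΦ hkq
  have hQc : Q.comap Φ.toRingHom = q := by
    rw [Ideal.comap_map_of_surjective Φ.toRingHom hΦ, sup_eq_left, ← RingHom.ker_eq_comap_bot]; exact hkq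
  have hQ : Q.comap Algebra.TensorProduct.includeLeftRingHom = 𝔷 := by
    rw [← hq1]
    ext c
    show c ⊗ₜ[R] (1 : L) ∈ Q ↔ c ⊗ₜ[R] (1 : B) ∈ q
    rw [SetLike.ext_iff.mp hQc.symm]
    show _ ↔ Φ (c ⊗ₜ[R] (1 : B)) ∈ Q
    rw [show Φ (c ⊗ₜ[R] (1 : B)) = c ⊗ₜ[R] (1 : L) from rfl]
  haveI := hred L hL Q hQ
  let g : Lq →+* Localization.AtPrime Q := Localization.localRingHom q Q Φ.toRingHom hQc.symm
  intro x hx
  obtain ⟨n, hn⟩ := hx
  have hle : m.map ((algebraMap T Lq).comp ι) ≤ RingHom.ker g := by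
    rw [Ideal.map_le_iff_le_comap]
    intro b hb
    show g (algebraMap T Lq (ι b)) = 0
    rw [Localization.localRingHom_to_map]
    show algebraMap _ _ (Φ (ι b)) = 0
    rw [show Φ (ι b) = 0 from hker.ge (Ideal.mem_map_of_mem _ hb), map_zero]
  have hg0 : g x = 0 := IsNilpotent.eq_zero ⟨n, by rw [← map_pow]; exact hle hn⟩
  obtain ⟨a, s, rfl⟩ := IsLocalization.exists_mk'_eq q.primeCompl x
  rw [Localization.localRingHom_mk', IsLocalization.mk'_eq_zero_iff] at hg0
  obtain ⟨u, hu⟩ := hg0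
  obtain ⟨u', hu'⟩ := hΦ u
  have hu'q : u' ∉ q := fun h => u.2 (hu' ▸ Ideal.mem_map_of_mem _ h)
  have hm : u' * a ∈ m.map ι := by
    rw [← hker, RingHom.mem_ker, map_mul, hu']; exact hu
  have hm2 := Ideal.mem_map_of_mem (algebraMap T Lq) hm
  rw [Ideal.map_map, map_mul,
    Ideal.unit_mul_mem_iff_mem _ (IsLocalization.map_units Lq (⟨u', hu'q⟩ : q.primeCompl))] at hm2
  rw [IsLocalization.mk'_eq_mul_mk'_one]
  exact Ideal.mul_mem_right _ _ hm2

/-- Nonzero elements of a domain stay regular after a flat base change and localisation. -/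
theorem isSMulRegular_of_flat (𝔮 : Ideal C) [𝔮.IsPrime] [Module.Flat R (Localization.AtPrime 𝔮)]
    (B : Type u) [CommRing B] [IsDomain B] [Algebra R B] (q : Ideal (C ⊗[R] B)) [q.IsPrime]
    (hq : q.comap Algebra.TensorProduct.includeLeftRingHom ≤ 𝔮) (t : B) (ht : t ≠ 0) :
    IsSMulRegular (Localization.AtPrime q)
      (algebraMap (C ⊗[R] B) (Localization.AtPrime q) ((1 : C) ⊗ₜ[R] t)) := by
  let S := Localization.AtPrime 𝔮
  obtain ⟨toL, htoL⟩ := exists_toLoc 𝔮 q hq
  have hinj : ∀ z : S ⊗[R] B, ((1 : S) ⊗ₜ[R] t) * z = 0 → z = 0 := by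
    intro z hz
    refine Module.Flat.lTensor_preserves_injective_linearMap (M := S) (LinearMap.mulLeft R t)
      (mul_right_injective₀ ht) ?_
    rw [map_zero]
    refine Eq.trans ?_ hz
    clear hz
    induction z using TensorProduct.induction_on with
    | zero => simp
    | tmul a b => simp
    | add a b ha hb => simp only [map_add, mul_add, ha, hb]
  rw [isSMulRegular_iff_right_eq_zero_of_smul]
  intro x hx
  obtain ⟨a, s, rfl⟩ := IsLocalization.exists_mk'_eq q.primeCompl x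
  rw [smul_eq_mul, ← IsLocalization.mk'_one (M := q.primeCompl), ← IsLocalization.mk'_mul,
    IsLocalization.mk'_eq_zero_iff] at hx
  obtain ⟨u, hu⟩ := hx
  have h1 : toS 𝔮 B ((u : C ⊗[R] B) * a) = 0 := hinj _ (by
    rw [show ((1 : S) ⊗ₜ[R] t) = toS 𝔮 B ((1 : C) ⊗ₜ[R] t) by simp [toS, S], ← map_mul,
      show ((1 : C) ⊗ₜ[R] t) * ((u : C ⊗[R] B) * a) = (u : C ⊗[R] B) * (((1 : C) ⊗ₜ[R] t) * a) by ring,
      hu, map_zero])
  have h2 := congrArg toL h1
  rw [htoL, map_zero] at h2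
  obtain ⟨v, hv⟩ := (IsLocalization.map_eq_zero_iff q.primeCompl (Localization.AtPrime q) _).mp h2
  rw [IsLocalization.mk'_eq_zero_iff]
  exact ⟨v * u, by rw [Submonoid.coe_mul, mul_assoc]; exact hv⟩

/-- A Noetherian local ring with a regular element generating a radical ideal is reduced. -/
theorem isReduced_of_regular_radical {T : Type u} [CommRing T] [IsLocalRing T] [IsNoetherianRing T] (π : T)
    (hπ : IsSMulRegular T π) (hm : π ∈ IsLocalRing.maximalIdeal T) (hrad : (Ideal.span {π}).IsRadical) :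
    IsReduced T := by
  refine ⟨fun x hx => ?_⟩
  have h : nilradical T ≤ ⊥ := by
    refine (Submodule.eq_bot_of_le_smul_of_le_jacobson_bot (Ideal.span {π}) _ (IsNoetherian.noetherian _) ?_ ?_).le
    · intro y hy
      obtain ⟨n, hn⟩ := mem_nilradical.mp hy
      obtain ⟨z, rfl⟩ := Ideal.mem_span_singleton.mp (hrad ⟨n, by rw [hn]; exact Ideal.zero_mem _⟩)
      refine Submodule.smul_mem_smul (Ideal.mem_span_singleton_self π) (mem_nilradical.mpr ⟨n, (hπ.pow n) ?_⟩)
      show π ^ n • z ^ n = π ^ n • (0 : T)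
      rw [smul_zero, smul_eq_mul, ← mul_pow, hn]
    · rw [IsLocalRing.jacobson_eq_maximalIdeal ⊥ bot_ne_top, Ideal.span_le, Set.singleton_subset_iff]
      exact hm
  exact (Submodule.mem_bot T).mp (h (mem_nilradical.mpr hx))

/-- The case of a point over the generic point of the domain. -/
theorem isReduced_of_over_generic (𝔮 : Ideal C) [𝔮.IsPrime]
    [Module.Flat R (Localization.AtPrime 𝔮)] (hred : GeomRedAt R 𝔮)
    (A : Type u) [CommRing A] [IsDomain A] [Algebra R A]
    (Q : Ideal (C ⊗[R] A)) [Q.IsPrime] (hQ : Q.comap Algebra.TensorProduct.includeLeftRingHom = 𝔮)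
    (hQ0 : Q.comap (Algebra.TensorProduct.includeRight : A →ₐ[R] C ⊗[R] A).toRingHom = ⊥)
    (hQp : (Q.comap (Algebra.TensorProduct.includeRight : A →ₐ[R] C ⊗[R] A).toRingHom).comap (algebraMap R A) =
      𝔮.comap (algebraMap R C)) :
    IsReduced (Localization.AtPrime Q) := by
  let p := 𝔮.comap (algebraMap R C)
  let T := C ⊗[R] A
  let E := Localization.AtPrime Q
  refine ⟨fun x hx => by_contra fun hx0 => ?_⟩
  let L := FractionRing A
  haveI : IsScalarTower R A L := inferInstance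
  have hL : RingHom.ker (algebraMap R L) = 𝔮.comap (algebraMap R C) := by
    rw [IsScalarTower.algebraMap_eq R A L, RingHom.ker_comp_of_injective _ (IsFractionRing.injective A L),
      ← hQp, hQ0]
    rfl
  let χ : T →ₐ[R] C ⊗[R] L := Algebra.TensorProduct.map (AlgHom.id R C) (IsScalarTower.toAlgHom R A L)
  have hclear : ∀ z : C ⊗[R] L, ∃ d : A, d ≠ 0 ∧ ∃ w : T,
      χ w = ((1 : C) ⊗ₜ[R] algebraMap A L d) * z := by
    intro z
    induction z using TensorProduct.induction_on with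
    | zero => exact ⟨1, one_ne_zero, 0, by simp⟩
    | tmul c l =>
      obtain ⟨a, d, hd, rfl⟩ := IsFractionRing.div_surjective (A := A) l
      refine ⟨d, nonZeroDivisors.ne_zero hd, c ⊗ₜ[R] a, ?_⟩
      show c ⊗ₜ[R] algebraMap A L a =
        ((1 : C) ⊗ₜ[R] algebraMap A L d) * (c ⊗ₜ[R] (algebraMap A L a / algebraMap A L d))
      rw [Algebra.TensorProduct.tmul_mul_tmul, one_mul]
      rw [mul_div_cancel₀ _ ((map_ne_zero_iff _ (IsFractionRing.injective A L)).mpr (nonZeroDivisors.ne_zero hd))]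
    | add y z hy hz =>
      obtain ⟨d, hd, w, hw⟩ := hy
      obtain ⟨d', hd', w', hw'⟩ := hz
      refine ⟨d * d', mul_ne_zero hd hd', ((1 : C) ⊗ₜ[R] d') * w + ((1 : C) ⊗ₜ[R] d) * w', ?_⟩
      have h1 : ∀ e : A, χ ((1 : C) ⊗ₜ[R] e) = (1 : C) ⊗ₜ[R] algebraMap A L e := fun e => rfl
      rw [map_add, map_mul, map_mul, hw, hw', h1, h1, map_mul,
        show (1 : C) ⊗ₜ[R] (algebraMap A L d * algebraMap A L d') =
          ((1 : C) ⊗ₜ[R] algebraMap A L d) * ((1 : C) ⊗ₜ[R] algebraMap A L d') by simp]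
      ring
  let Ψ : C ⊗[R] L → Prop := fun z => ∀ d : A, d ≠ 0 → ∀ w : T,
    χ w = ((1 : C) ⊗ₜ[R] algebraMap A L d) * z → w ∈ Q
  have hinj : ∀ w : T, χ w = 0 → algebraMap T E w = 0 := fun w hw => by
    obtain ⟨toL, htoL⟩ := exists_toLoc 𝔮 Q hQ.le
    rw [← htoL]
    have h1 : toS 𝔮 A w = 0 := by
      refine Module.Flat.lTensor_preserves_injective_linearMap (M := Localization.AtPrime 𝔮)
        (IsScalarTower.toAlgHom R A L).toLinearMap (IsFractionRing.injective A L) ?_
      rw [map_zero]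
      have h2 : ∀ v : T, (IsScalarTower.toAlgHom R A L).toLinearMap.lTensor (Localization.AtPrime 𝔮) (toS 𝔮 A v) =
          toS 𝔮 L (χ v) := fun v => by
        induction v using TensorProduct.induction_on with
        | zero => simp
        | tmul c a => rfl
        | add a b ha hb => simp only [map_add, ha, hb]
      rw [h2, hw, map_zero]
    rw [h1, map_zero]
  have hnot : ∀ d : A, d ≠ 0 → ((1 : C) ⊗ₜ[R] d : T) ∉ Q := fun d hd h =>
    hd ((SetLike.ext_iff.mp hQ0 d).mp h)
  have hΨadd : ∀ y z, Ψ y → Ψ z → Ψ (y + z) := by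
    intro y z hy hz d hd w hw
    obtain ⟨e, he, v, hv⟩ := hclear y
    have hvQ := hy e he v hv
    have h1 : χ (((1 : C) ⊗ₜ[R] e) * w - ((1 : C) ⊗ₜ[R] d) * v) =
        ((1 : C) ⊗ₜ[R] algebraMap A L (e * d)) * z := by
      have h1 : ∀ e : A, χ ((1 : C) ⊗ₜ[R] e) = (1 : C) ⊗ₜ[R] algebraMap A L e := fun e => rfl
      rw [map_sub, map_mul, map_mul, hw, hv, h1, h1, map_mul,
        show (1 : C) ⊗ₜ[R] (algebraMap A L e * algebraMap A L d) =
          ((1 : C) ⊗ₜ[R] algebraMap A L e) * ((1 : C) ⊗ₜ[R] algebraMap A L d) by simp]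
      ring
    have h2 := Q.add_mem (hz _ (mul_ne_zero he hd) _ h1) (Q.mul_mem_left ((1 : C) ⊗ₜ[R] d) hvQ)
    rw [sub_add_cancel] at h2
    exact ((‹Q.IsPrime›).mem_or_mem h2).resolve_left (hnot e he)
  have hΨmul : ∀ c z, Ψ z → Ψ (c * z) := by
    intro c z hz d hd w hw
    obtain ⟨e, he, v, hv⟩ := hclear c
    obtain ⟨e', he', v', hv'⟩ := hclear z
    have hv'Q := hz e' he' v' hv'
    have h1 : ∀ e : A, χ ((1 : C) ⊗ₜ[R] e) = (1 : C) ⊗ₜ[R] algebraMap A L e := fun e => rfl
    have h2 : χ (((1 : C) ⊗ₜ[R] (e * e')) * w - ((1 : C) ⊗ₜ[R] d) * (v * v')) = 0 := by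
      rw [map_sub, map_mul, map_mul, map_mul, hw, hv, hv', h1, h1, map_mul,
        show (1 : C) ⊗ₜ[R] (algebraMap A L e * algebraMap A L e') =
          ((1 : C) ⊗ₜ[R] algebraMap A L e) * ((1 : C) ⊗ₜ[R] algebraMap A L e') by simp]
      ring
    obtain ⟨v₀, hv₀⟩ := (IsLocalization.map_eq_zero_iff Q.primeCompl E _).mp (hinj _ h2)
    have h3 := ((‹Q.IsPrime›).mem_or_mem (hv₀ ▸ Q.zero_mem :
      (v₀ : T) * (((1 : C) ⊗ₜ[R] (e * e')) * w - ((1 : C) ⊗ₜ[R] d) * (v * v')) ∈ Q)).resolve_left v₀.2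
    have h4 := Q.add_mem h3 (Q.mul_mem_left ((1 : C) ⊗ₜ[R] d) (Q.mul_mem_left v hv'Q))
    rw [sub_add_cancel] at h4
    exact ((‹Q.IsPrime›).mem_or_mem h4).resolve_left (hnot _ (mul_ne_zero he he'))
  let Q' : Ideal (C ⊗[R] L) :=
    { carrier := {z | Ψ z}
      add_mem' := fun ha hb => hΨadd _ _ ha hb
      zero_mem' := fun d hd w hw => by
        rw [mul_zero] at hw
        obtain ⟨v, hv⟩ := (IsLocalization.map_eq_zero_iff Q.primeCompl E w).mp (hinj w hw)
        exact ((‹Q.IsPrime›).mem_or_mem (hv ▸ Q.zero_mem : (v : T) * w ∈ Q)).resolve_left v.2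
      smul_mem' := fun c z hz => hΨmul c z hz }
  have hQ'χ : ∀ w : T, χ w ∈ Q' ↔ w ∈ Q := fun w => by
    refine ⟨fun h => h 1 one_ne_zero w (by rw [map_one]; exact (one_mul _).symm), fun hw d hd v hv => ?_⟩
    have h2 : χ (v - ((1 : C) ⊗ₜ[R] d) * w) = 0 := by
      rw [map_sub, map_mul, hv, sub_eq_zero]; rfl
    obtain ⟨v₀, hv₀⟩ := (IsLocalization.map_eq_zero_iff Q.primeCompl E _).mp (hinj _ h2)
    have h3 := ((‹Q.IsPrime›).mem_or_mem (hv₀ ▸ Q.zero_mem :
      (v₀ : T) * (v - ((1 : C) ⊗ₜ[R] d) * w) ∈ Q)).resolve_left v₀.2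
    have h4 := Q.add_mem h3 (Q.mul_mem_left ((1 : C) ⊗ₜ[R] d) hw)
    rwa [sub_add_cancel] at h4
  haveI : Q'.IsPrime := by
    refine ⟨fun htop => ?_, fun {y z} hyz => ?_⟩
    · have h1 : χ 1 ∈ Q' := by rw [htop]; trivial
      exact (‹Q.IsPrime›).ne_top ((Ideal.eq_top_iff_one _).mpr ((hQ'χ 1).mp h1))
    · by_contra hcon
      simp only [not_or] at hcon
      obtain ⟨hy, hz⟩ := hcon
      change ¬ Ψ y at hy
      change ¬ Ψ z at hz
      simp only [Ψ, not_forall] at hy hz
      obtain ⟨d, hd, w, hw, hwQ⟩ := hy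
      obtain ⟨d', hd', w', hw', hw'Q⟩ := hz
      have := hyz (d * d') (mul_ne_zero hd hd') (w * w') (by
        rw [map_mul, hw, hw', map_mul,
          show (1 : C) ⊗ₜ[R] (algebraMap A L d * algebraMap A L d') =
            ((1 : C) ⊗ₜ[R] algebraMap A L d) * ((1 : C) ⊗ₜ[R] algebraMap A L d') by simp]
        ring)
      exact ((‹Q.IsPrime›).mem_or_mem this).elim hwQ hw'Q
  haveI := hred L hL Q' (by
    rw [← hQ]
    exact SetLike.ext fun c => by
      show c ⊗ₜ[R] (1 : L) ∈ Q' ↔ c ⊗ₜ[R] (1 : A) ∈ Q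
      rw [← hQ'χ, show χ (c ⊗ₜ[R] (1 : A)) = c ⊗ₜ[R] algebraMap A L 1 from rfl, map_one])
  let g : E →+* Localization.AtPrime Q' := Localization.localRingHom Q Q' χ.toRingHom
    (SetLike.ext fun w => (hQ'χ w).symm)
  have hg : g x = 0 := (hx.map g).eq_zero
  obtain ⟨a, s, rfl⟩ := IsLocalization.exists_mk'_eq Q.primeCompl x
  rw [Localization.localRingHom_mk', IsLocalization.mk'_eq_zero_iff] at hg
  obtain ⟨u, hu⟩ := hg
  obtain ⟨d, hd, w, hw⟩ := hclear u
  have hwQ : w ∉ Q := fun h => u.2 (by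
    have h1 : ((1 : C) ⊗ₜ[R] algebraMap A L d) * (u : C ⊗[R] L) ∈ Q' := hw ▸ (hQ'χ w).mpr h
    refine ((‹Q'.IsPrime›).mem_or_mem h1).resolve_left fun h2 => hnot d hd ((hQ'χ _).mp h2))
  have h5 : χ (w * a) = 0 := by
    rw [map_mul, hw, mul_assoc]
    show _ * ((u : C ⊗[R] L) * χ.toRingHom a) = 0
    rw [hu, mul_zero]
  have h6 := hinj _ h5
  rw [map_mul] at h6
  have h7 := (IsLocalization.map_units E (⟨w, hwQ⟩ : Q.primeCompl)).mul_right_eq_zero.mp h6
  exact hx0 (by rw [IsLocalization.mk'_eq_mul_mk'_one, h7, zero_mul])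


/-- The comparison map between the two base changes. -/
theorem exists_chi {A : Type u} [CommRing A] [Algebra R A] (E : Type u) [CommRing E] [Algebra (C ⊗[R] A) E]
    [Algebra A E] [Algebra R E] [IsScalarTower R A E] (W : Type u) [CommRing W] [Algebra R W] [Algebra A W]
    [IsScalarTower R A W]
    (hAE : algebraMap A E = (algebraMap (C ⊗[R] A) E).comp
      (Algebra.TensorProduct.includeRight : A →ₐ[R] C ⊗[R] A).toRingHom) :
    ∃ χ : C ⊗[R] W →ₐ[R] E ⊗[A] W,
      (∀ z : C ⊗[R] A, χ (Algebra.TensorProduct.map (AlgHom.id R C) (IsScalarTower.toAlgHom R A W) z) =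
        algebraMap (C ⊗[R] A) E z ⊗ₜ[A] (1 : W)) ∧
      ∀ b : W, χ ((1 : C) ⊗ₜ[R] b) = (1 : E) ⊗ₜ[A] b := by
  let iC : C →+* E := (algebraMap (C ⊗[R] A) E).comp Algebra.TensorProduct.includeLeftRingHom
  have hiC : ∀ r : R, iC (algebraMap R C r) = algebraMap R E r := fun r => by
    rw [IsScalarTower.algebraMap_apply R A E, hAE]
    show algebraMap _ E ((Algebra.TensorProduct.includeLeft : C →ₐ[R] C ⊗[R] A) (algebraMap R C r)) =
      algebraMap _ E ((Algebra.TensorProduct.includeRight : A →ₐ[R] C ⊗[R] A) (algebraMap R A r))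
    rw [AlgHom.commutes, AlgHom.commutes]
  let cE : C →ₐ[R] E ⊗[A] W :=
    ((Algebra.TensorProduct.includeLeft : E →ₐ[A] E ⊗[A] W).restrictScalars R).comp
      { iC with commutes' := hiC }
  let χ : C ⊗[R] W →ₐ[R] E ⊗[A] W := Algebra.TensorProduct.lift cE
    ((Algebra.TensorProduct.includeRight : W →ₐ[A] E ⊗[A] W).restrictScalars R) (fun _ _ => Commute.all _ _)
  refine ⟨χ, fun z => ?_, fun b => ?_⟩
  · induction z using TensorProduct.induction_on with
    | zero => simp
    | add a b ha hb => simp only [map_add, ha, hb, add_tmul]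
    | tmul c a =>
      show (iC c ⊗ₜ[A] (1 : W)) * ((1 : E) ⊗ₜ[A] algebraMap A W a) = _
      rw [Algebra.algebraMap_eq_smul_one, ← smul_tmul, ← Algebra.algebraMap_eq_smul_one,
        Algebra.TensorProduct.tmul_mul_tmul, hAE, RingHom.comp_apply, mul_one]
      show (algebraMap _ E (c ⊗ₜ[R] (1 : A)) * algebraMap _ E ((1 : C) ⊗ₜ[R] a)) ⊗ₜ[A] (1 : W) = _
      rw [← map_mul, Algebra.TensorProduct.tmul_mul_tmul, mul_one, one_mul]
  · show (iC 1 ⊗ₜ[A] (1 : W)) * ((1 : E) ⊗ₜ[A] b) = _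
    rw [map_one, ← Algebra.TensorProduct.one_def, one_mul]

set_option maxHeartbeats 3000000 in
/-- Flat with geometrically reduced closed fibre: reduced after base change to a Noetherian domain. -/
theorem isReduced_baseChange_domain [IsNoetherianRing R] [Algebra.FiniteType R C] (𝔮 : Ideal C) [𝔮.IsPrime]
    [Module.Flat R (Localization.AtPrime 𝔮)] (hred : GeomRedAt R 𝔮)
    (A : Type u) [CommRing A] [IsDomain A] [IsNoetherianRing A] [Algebra R A]
    (Q : Ideal (C ⊗[R] A)) [Q.IsPrime] (hQ : Q.comap Algebra.TensorProduct.includeLeftRingHom = 𝔮) :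
    IsReduced (Localization.AtPrime Q) := by
  classical
  let p := 𝔮.comap (algebraMap R C)
  let T := C ⊗[R] A
  let E := Localization.AtPrime Q
  let iA : A →+* T := (Algebra.TensorProduct.includeRight : A →ₐ[R] T).toRingHom
  have hcomm : (Algebra.TensorProduct.includeLeftRingHom : C →+* T).comp (algebraMap R C) = iA.comp (algebraMap R A) :=
    RingHom.ext fun r => by
      show algebraMap R C r ⊗ₜ[R] (1 : A) = (1 : C) ⊗ₜ[R] algebraMap R A r
      rw [Algebra.algebraMap_eq_smul_one, Algebra.algebraMap_eq_smul_one, smul_tmul]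
  have hQp : (Q.comap iA).comap (algebraMap R A) = p := by
    rw [Ideal.comap_comap, ← hcomm, ← Ideal.comap_comap, hQ]
  haveI : IsNoetherianRing (A ⊗[R] C) := Algebra.FiniteType.isNoetherianRing A (A ⊗[R] C)
  haveI : IsNoetherianRing T := isNoetherianRing_of_ringEquiv _ (Algebra.TensorProduct.comm R A C).toRingEquiv
  haveI : IsNoetherianRing E := IsLocalization.isNoetherianRing Q.primeCompl _ inferInstance
  letI : Algebra A E := ((algebraMap T E).comp iA).toAlgebra
  haveI : IsScalarTower R A E := .of_algebraMap_eq fun r => by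
    rw [IsScalarTower.algebraMap_apply R T E]
    exact congrArg (algebraMap T E) (congrArg (fun φ => φ r) hcomm)
  refine ⟨fun x hx => by_contra fun hx0 => ?_⟩
  obtain ⟨ε, hε, hle⟩ := exists_le_isAssociatedPrime_of_isNoetherianRing E x hx0
  haveI := hε.isPrime
  have hkey : ∀ t ∉ ε, t * x ≠ 0 := fun t ht h0 => ht (hle (by
    rw [Submodule.mem_colon_singleton]
    simpa using h0))
  obtain ⟨e₀, he₀⟩ := hε.2
  have hεA : ε.comap (algebraMap A E) = ⊥ := by
    rw [eq_bot_iff]
    intro r hr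
    by_contra hr0
    have hr' : algebraMap A E r ∈ ((⊥ : Submodule E E).colon {e₀}).radical := he₀ ▸ hr
    obtain ⟨n, hn⟩ := hr'
    rw [Submodule.mem_colon_singleton, Submodule.mem_bot, ← map_pow] at hn
    have he0 : e₀ = 0 := (isSMulRegular_iff_right_eq_zero_of_smul.mp
      (isSMulRegular_of_flat 𝔮 A Q hQ.le (r ^ n) (pow_ne_zero n hr0))) e₀ hn
    exact hε.isPrime.ne_top (by
      rw [he₀, Ideal.radical_eq_top, Ideal.eq_top_iff_one, Submodule.mem_colon_singleton, he0]
      simp)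
  by_cases hεm : ε = IsLocalRing.maximalIdeal E
  · refine hx0 ((isReduced_of_over_generic 𝔮 hred A Q hQ ?_ hQp).eq_zero x hx)
    rw [← hεA, hεm]
    exact SetLike.ext fun a => (IsLocalization.AtPrime.to_map_mem_maximal_iff E Q (iA a)).symm
  -- a dominating discrete valuation ring
  let K := FractionRing (E ⧸ ε)
  letI : Algebra E K := ((algebraMap (E ⧸ ε) K).comp (Ideal.Quotient.mk ε)).toAlgebra
  have hgen : Subfield.closure (Set.range (algebraMap E K) ∪ ∅) = ⊤ := by
    refine eq_top_iff.mpr fun z _ => ?_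
    obtain ⟨a, b, -, rfl⟩ := IsFractionRing.div_surjective (A := E ⧸ ε) z
    obtain ⟨a, rfl⟩ := Ideal.Quotient.mk_surjective a
    obtain ⟨b, rfl⟩ := Ideal.Quotient.mk_surjective b
    exact div_mem (Subfield.subset_closure (Or.inl ⟨a, rfl⟩)) (Subfield.subset_closure (Or.inl ⟨b, rfl⟩))
  have hker : RingHom.ker (algebraMap E K) = ε := by
    rw [RingHom.algebraMap_toAlgebra, ← RingHom.comap_ker, (RingHom.injective_iff_ker_eq_bot _).mp
      (IsFractionRing.injective (E ⧸ ε) K), ← RingHom.ker_eq_comap_bot, Ideal.mk_ker]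
  obtain ⟨W, hW, hmem, hval⟩ :=
    Groth.L18.exists_isDiscreteValuationRing_dominating Set.finite_empty hgen (hker.trans_ne hεm)
  haveI := hW
  let φ : E →+* W := (algebraMap E K).codRestrict W.toSubring hmem
  have hmax : (IsLocalRing.maximalIdeal W).comap φ = IsLocalRing.maximalIdeal E := by
    refine ((IsLocalRing.maximalIdeal.isMaximal E).eq_of_le (Ideal.IsPrime.comap φ).ne_top fun a ha => ?_).symm
    rw [Ideal.mem_comap, IsLocalRing.mem_maximalIdeal, mem_nonunits_iff]
    intro hu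
    exact (W.valuation_lt_one_iff (φ a)).mpr (hval a ha) hu
  letI : Algebra A W := (φ.comp (algebraMap A E)).toAlgebra
  letI : Algebra R W := ((algebraMap A W).comp (algebraMap R A)).toAlgebra
  haveI : IsScalarTower R A W := .of_algebraMap_eq fun r => rfl
  let ψ : E →ₐ[A] W := { φ with commutes' := fun r => rfl }
  have hψ : RingHom.ker ψ = ε := by
    ext a
    refine Iff.trans ⟨fun h => ?_, fun h => ?_⟩ (SetLike.ext_iff.mp hker a)
    · exact congrArg Subtype.val h
    · exact Subtype.ext h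
  let T' := C ⊗[R] W
  let iota : T →ₐ[R] T' := Algebra.TensorProduct.map (AlgHom.id R C) (IsScalarTower.toAlgHom R A W)
  obtain ⟨χ, hχι, hχ1⟩ := exists_chi (R := R) (C := C) (A := A) E W (RingHom.ext fun a => rfl)
  let Ψ := Algebra.TensorProduct.lift ψ (AlgHom.id A W) (fun a b => Commute.all _ _)
  let q : Ideal T' := (IsLocalRing.maximalIdeal W).comap (Ψ.toRingHom.comp χ.toRingHom)
  haveI : q.IsPrime := Ideal.IsPrime.comap _
  have hmemq : ∀ z : T', z ∈ q ↔ Ψ (χ z) ∈ IsLocalRing.maximalIdeal W := fun z => Iff.rfl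
  have hιq : ∀ z : T, iota z ∈ q ↔ z ∈ Q := fun z => by
    rw [hmemq, hχι, Algebra.TensorProduct.lift_tmul, map_one, mul_one]
    exact (SetLike.ext_iff.mp hmax (algebraMap T E z)).trans
      (IsLocalization.AtPrime.to_map_mem_maximal_iff E Q z)
  have hq1 : q.comap Algebra.TensorProduct.includeLeftRingHom = 𝔮 := by
    rw [← hQ]
    ext c
    show c ⊗ₜ[R] (1 : W) ∈ q ↔ c ⊗ₜ[R] (1 : A) ∈ Q
    rw [← hιq, show iota (c ⊗ₜ[R] (1 : A)) = c ⊗ₜ[R] algebraMap A W 1 from rfl, map_one]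
  have hq2 : q.comap (Algebra.TensorProduct.includeRight : W →ₐ[R] T').toRingHom = IsLocalRing.maximalIdeal W := by
    ext b
    show Ψ (χ ((1 : C) ⊗ₜ[R] b)) ∈ IsLocalRing.maximalIdeal W ↔ b ∈ IsLocalRing.maximalIdeal W
    rw [hχ1, Algebra.TensorProduct.lift_tmul, map_one, one_mul]
    rfl
  have hWp : (IsLocalRing.maximalIdeal W).comap (algebraMap R W) = p := by
    rw [← hQp, RingHom.algebraMap_toAlgebra, ← Ideal.comap_comap]
    congr 1
    rw [RingHom.algebraMap_toAlgebra, ← Ideal.comap_comap, hmax]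
    exact SetLike.ext fun a => IsLocalization.AtPrime.to_map_mem_maximal_iff E Q (iA a)
  haveI : IsNoetherianRing (W ⊗[R] C) := Algebra.FiniteType.isNoetherianRing W (W ⊗[R] C)
  haveI : IsNoetherianRing T' := isNoetherianRing_of_ringEquiv _ (Algebra.TensorProduct.comm R W C).toRingEquiv
  haveI : IsNoetherianRing (Localization.AtPrime q) := IsLocalization.isNoetherianRing q.primeCompl _ inferInstance
  obtain ⟨π, hπ⟩ := IsDiscreteValuationRing.exists_irreducible W
  let iW : W →+* T' := (Algebra.TensorProduct.includeRight : W →ₐ[R] T').toRingHom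
  haveI : IsReduced (Localization.AtPrime q) := by
    refine isReduced_of_regular_radical (algebraMap T' _ ((1 : C) ⊗ₜ[R] π))
      (isSMulRegular_of_flat 𝔮 W q hq1.le π hπ.ne_zero) ?_ ?_
    · refine (IsLocalization.AtPrime.to_map_mem_maximal_iff _ q _).mpr ?_
      exact (SetLike.ext_iff.mp hq2 π).mpr hπ.not_isUnit
    · have h := isRadical_closed_fibre 𝔮 hred W hWp q hq1 hq2
      rw [hπ.maximalIdeal_eq, Ideal.map_span, Set.image_singleton] at h
      exact h
  obtain ⟨j, σ, rfl⟩ := IsLocalization.exists_mk'_eq Q.primeCompl x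
  have hnil : IsNilpotent (algebraMap T' (Localization.AtPrime q) (iota j)) := by
    obtain ⟨n, hn⟩ := hx
    rw [← IsLocalization.mk'_pow, IsLocalization.mk'_eq_zero_iff] at hn
    obtain ⟨u, hu⟩ := hn
    refine ⟨n, (IsLocalization.map_units (Localization.AtPrime q)
      (⟨iota u, fun h => u.2 ((hιq u).mp h)⟩ : q.primeCompl)).mul_right_eq_zero.mp ?_⟩
    show algebraMap T' _ (iota u) * _ = 0
    rw [← map_pow, ← map_mul, ← map_pow, ← map_mul, hu, map_zero, map_zero]
  obtain ⟨s, hs⟩ := (IsLocalization.map_eq_zero_iff q.primeCompl _ _).mp hnil.eq_zero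
  obtain ⟨t, ht, htj⟩ := Groth.L07.FlatKernel.exists_mul_eq_zero ε (isField_loc_bot hεA) ψ hψ
    (algebraMap T E j) (χ s) (fun h0 => s.2 ((hmemq s).mpr (by
      show Ψ (χ s) ∈ IsLocalRing.maximalIdeal W
      rw [show Ψ (χ s) = 0 from h0]; exact zero_mem _)))
    (by rw [← hχι, ← map_mul, hs, map_zero])
  refine hkey t ht ?_
  rw [IsLocalization.mk'_eq_mul_mk'_one, ← mul_assoc, htj, zero_mul]

end Groth.L07.FlatGeomReduced
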