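import Groth.Agent.L07.FlatReduced
import Mathlib.RingTheory.Algebraic.Integral

/-!
Geometric reducedness of the fibres near a point of flatness.
-/

universe u

open TensorProduct PrimeSpectrum

namespace Groth.L07.FlatGeomReduced

set_option autoImplicit false
set_option linter.style.haveILetI false
set_option maxSynthPendingDepth 3
set_option synthInstance.maxHeartbeats 400000

variable {R C : Type u} [CommRing R] [CommRing C] [Algebra R C]

/-- Localisations of the base change of a reduced base change of the local ring are reduced. -/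
theorem isReduced_loc_of_localTensor (𝔮 : Ideal C) [𝔮.IsPrime] (L : Type u) [CommRing L] [Algebra R L]
    [IsReduced (Localization.AtPrime 𝔮 ⊗[R] L)] (Q : Ideal (C ⊗[R] L)) [Q.IsPrime]
    (hQ : Q.comap Algebra.TensorProduct.includeLeftRingHom ≤ 𝔮) : IsReduced (Localization.AtPrime Q) := by
  obtain ⟨toL, htoL⟩ := exists_toLoc 𝔮 Q hQ
  refine ⟨fun x hx => ?_⟩
  obtain ⟨a, s, rfl⟩ := IsLocalization.exists_mk'_eq Q.primeCompl x
  obtain ⟨n, hn⟩ := hx
  rw [← IsLocalization.mk'_pow, IsLocalization.mk'_eq_zero_iff] at hn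
  obtain ⟨u, hu⟩ := hn
  have h1 : toS 𝔮 L ((u : C ⊗[R] L) * a) = 0 := IsNilpotent.eq_zero ⟨n + 1, by
    rw [← map_pow, mul_pow, pow_succ (u : C ⊗[R] L), pow_succ a,
      show ((u : C ⊗[R] L) ^ n * u) * (a ^ n * a) = (u ^ n * a) * (u * a ^ n) by ring, hu, mul_zero, map_zero]⟩
  have h2 := congrArg toL h1
  rw [htoL, map_zero, map_mul] at h2
  rw [IsLocalization.mk'_eq_zero_iff]
  obtain ⟨v, hv⟩ := (IsLocalization.map_eq_zero_iff Q.primeCompl (Localization.AtPrime Q) _).mp
    ((IsLocalization.map_units (Localization.AtPrime Q) u).mul_right_eq_zero.mp h2)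
  exact ⟨v, hv⟩

/-- Reducedness of the base change of the local ring to an integral algebra is tested above the point. -/
theorem isReduced_tensor_of_integral (𝔮 : Ideal C) [𝔮.IsPrime] (B : Type u) [CommRing B] [Algebra R B]
    (hint : (Algebra.TensorProduct.includeLeftRingHom :
      Localization.AtPrime 𝔮 →+* Localization.AtPrime 𝔮 ⊗[R] B).IsIntegral)
    (h : ∀ (Q : Ideal (C ⊗[R] B)) [Q.IsPrime], Q.comap Algebra.TensorProduct.includeLeftRingHom = 𝔮 →
      IsReduced (Localization.AtPrime Q)) :
    IsReduced (Localization.AtPrime 𝔮 ⊗[R] B) := by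
  let S := Localization.AtPrime 𝔮
  refine ⟨fun z hz => ?_⟩
  refine Submodule.span_singleton_eq_bot.mp (le_bot_iff.mp ?_ : (Ideal.span {z}) = ⊥)
  by_contra hne
  rw [Ideal.span_le, Set.singleton_subset_iff] at hne
  let ann : Ideal (S ⊗[R] B) :=
    { carrier := {u | u * z = 0}
      add_mem' := fun {a b} ha hb => by simp_all [add_mul]
      zero_mem' := zero_mul z
      smul_mem' := fun c a ha => by simp_all [smul_eq_mul, mul_assoc] }
  obtain ⟨M, hM, hannM⟩ := Ideal.exists_le_maximal ann (fun h => hne (by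
    have := (Ideal.eq_top_iff_one _).mp h
    simpa [ann] using this))
  have hMS : M.comap Algebra.TensorProduct.includeLeftRingHom = IsLocalRing.maximalIdeal S :=
    IsLocalRing.eq_maximalIdeal (Ideal.isMaximal_comap_of_isIntegral_of_isMaximal' _ hint M)
  let Q : Ideal (C ⊗[R] B) := M.comap (toS (R := R) 𝔮 B).toRingHom
  have hQ : Q.comap Algebra.TensorProduct.includeLeftRingHom = 𝔮 := by
    ext c
    show toS (R := R) 𝔮 B (c ⊗ₜ[R] (1 : B)) ∈ M ↔ _
    simp only [toS, Algebra.TensorProduct.map_tmul, map_one, IsScalarTower.coe_toAlgHom']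
    show algebraMap C S c ∈ M.comap Algebra.TensorProduct.includeLeftRingHom ↔ _
    rw [hMS]
    exact IsLocalization.AtPrime.to_map_mem_maximal_iff S 𝔮 c
  haveI := h Q hQ
  obtain ⟨c, hc, w, hw⟩ := Groth.L07.FlatGeneric.exists_clear 𝔮 z
  obtain ⟨toL, htoL⟩ := exists_toLoc 𝔮 Q hQ.le
  have h0 : algebraMap (C ⊗[R] B) (Localization.AtPrime Q) w = 0 := by
    rw [← htoL]
    show toL (Algebra.TensorProduct.map _ _ w) = 0
    rw [hw, map_mul, (hz.map toL).eq_zero, mul_zero]
  obtain ⟨v, hv⟩ := (IsLocalization.map_eq_zero_iff Q.primeCompl _ w).mp h0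
  have hmem : toS 𝔮 B v * (algebraMap C S c ⊗ₜ[R] (1 : B)) ∈ ann := by
    show _ * z = 0
    rw [mul_assoc, ← hw]
    show toS 𝔮 B v * toS 𝔮 B w = 0
    rw [← map_mul, hv, map_zero]
  rcases hM.isPrime.mem_or_mem (hannM hmem) with h | h
  · exact v.2 h
  · exact hc ((IsLocalization.AtPrime.to_map_mem_maximal_iff S 𝔮 c).mp
      ((SetLike.ext_iff.mp hMS (algebraMap C S c)).mp h))

/-- Inclusions of subalgebras after tensoring. -/
theorem map_inclusion (S : Type u) [CommRing S] [Algebra R S] {K : Type u} [CommRing K] [Algebra R K]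
    {A A' : Subalgebra R K} (h : A ≤ A') (v : S ⊗[R] A) :
    Algebra.TensorProduct.map (AlgHom.id R S) A'.val
        (Algebra.TensorProduct.map (AlgHom.id R S) (Subalgebra.inclusion h) v) =
      Algebra.TensorProduct.map (AlgHom.id R S) A.val v := by
  induction v using TensorProduct.induction_on with
  | zero => simp
  | tmul a b => simp
  | add a b ha hb => simp only [map_add, ha, hb]

/-- The base change of the local ring to an algebraic extension of a residue field is reduced. -/
theorem isReduced_tensor_algebraic [IsNoetherianRing R] [Algebra.FiniteType R C] (𝔮 : Ideal C) [𝔮.IsPrime]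
    [Module.Flat R (Localization.AtPrime 𝔮)] (hred : GeomRedAt R 𝔮) (p : Ideal R) [p.IsPrime]
    (K : Type u) [Field K] [Algebra p.ResidueField K] [Algebra R K] [IsScalarTower R p.ResidueField K]
    [Algebra.IsAlgebraic p.ResidueField K] : IsReduced (Localization.AtPrime 𝔮 ⊗[R] K) := by
  classical
  let S := Localization.AtPrime 𝔮
  refine ⟨fun z hz => ?_⟩
  obtain ⟨r, hr, F, hF, w, hw⟩ : ∃ r : R, r ∉ p ∧ ∃ F : Finset K, (∀ y ∈ F, IsIntegral R y) ∧
      ∃ w : S ⊗[R] ↥(Algebra.adjoin R (F : Set K)),
        Algebra.TensorProduct.map (AlgHom.id R S) (Algebra.adjoin R (F : Set K)).val w = r • z := by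
    clear hz
    induction z using TensorProduct.induction_on with
    | zero => exact ⟨1, fun h => (‹p.IsPrime›).ne_top ((Ideal.eq_top_iff_one _).mpr h), ∅, by simp, 0, by simp⟩
    | tmul a y =>
      obtain ⟨r, hr, hint⟩ : ∃ r : R, r ∉ p ∧ IsIntegral R (r • y) := by
        let Rp := R ⧸ p
        letI : Algebra Rp K := ((algebraMap p.ResidueField K).comp (algebraMap Rp p.ResidueField)).toAlgebra
        haveI : IsScalarTower R Rp K := .of_algebraMap_eq fun r => by
          rw [IsScalarTower.algebraMap_apply R p.ResidueField K]; rfl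
        haveI : IsScalarTower Rp p.ResidueField K := .of_algebraMap_eq fun r => rfl
        haveI : Algebra.IsAlgebraic Rp p.ResidueField := IsLocalization.isAlgebraic p.ResidueField (nonZeroDivisors Rp)
        haveI : Algebra.IsAlgebraic Rp K := Algebra.IsAlgebraic.trans Rp p.ResidueField K
        obtain ⟨r', hr', hint'⟩ := (Algebra.IsAlgebraic.isAlgebraic (R := Rp) y).exists_integral_multiple
        obtain ⟨r, rfl⟩ := Ideal.Quotient.mk_surjective r'
        refine ⟨r, fun h => hr' (Ideal.Quotient.eq_zero_iff_mem.mpr h), ?_⟩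
        rw [show r • y = Ideal.Quotient.mk p r • y from (algebraMap_smul Rp r y).symm]
        exact isIntegral_trans _ hint'
      refine ⟨r, hr, {r • y}, by simpa using hint,
        a ⊗ₜ[R] ⟨r • y, Algebra.subset_adjoin (by simp)⟩, ?_⟩
      simp [tmul_smul]
    | add y z hy hz =>
      obtain ⟨r, hr, F, hF, v, hv⟩ := hy
      obtain ⟨r', hr', F', hF', v', hv'⟩ := hz
      have h1 : Algebra.adjoin R (F : Set K) ≤ Algebra.adjoin R ((F ∪ F' : Finset K) : Set K) :=
        Algebra.adjoin_mono (by simp)
      have h2 : Algebra.adjoin R (F' : Set K) ≤ Algebra.adjoin R ((F ∪ F' : Finset K) : Set K) :=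
        Algebra.adjoin_mono (by simp)
      refine ⟨r * r', Ideal.IsPrime.mul_notMem ‹_› hr hr', F ∪ F',
        fun y hy => (Finset.mem_union.mp hy).elim (hF y) (hF' y),
        r' • Algebra.TensorProduct.map (AlgHom.id R S) (Subalgebra.inclusion h1) v +
          r • Algebra.TensorProduct.map (AlgHom.id R S) (Subalgebra.inclusion h2) v', ?_⟩
      rw [map_add, map_smul, map_smul, map_inclusion, map_inclusion, hv, hv', smul_add, smul_smul, smul_smul, mul_comm r r']
  let A := Algebra.adjoin R (F : Set K)
  haveI : Module.Finite R A := Module.Finite.iff_fg.mpr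
    (fg_adjoin_of_finite F.finite_toSet hF)
  haveI : IsNoetherianRing A := IsNoetherianRing.of_finite R A
  haveI : Algebra.IsIntegral R A := Algebra.IsIntegral.of_finite R A
  haveI : IsReduced (S ⊗[R] A) := isReduced_tensor_of_integral 𝔮 A
    (fun x => Algebra.IsIntegral.isIntegral (R := S) x) fun Q _ hQ => isReduced_baseChange_domain 𝔮 hred A Q hQ
  have hinj : Function.Injective (Algebra.TensorProduct.map (AlgHom.id R S) A.val) :=
    Module.Flat.lTensor_preserves_injective_linearMap (M := S) A.val.toLinearMap Subtype.val_injective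
  have hw0 : w = 0 := by
    refine IsNilpotent.eq_zero ((IsNilpotent.map_iff hinj).mp ?_)
    rw [hw]
    exact hz.smul r
  rw [hw0, map_zero] at hw
  have hu : IsUnit (algebraMap R K r) := isUnit_iff_ne_zero.mpr fun h => hr (by
    rw [IsScalarTower.algebraMap_apply R p.ResidueField K, map_eq_zero, Ideal.algebraMap_residueField_eq_zero] at h
    exact h)
  have h4 : r • z = ((1 : S) ⊗ₜ[R] algebraMap R K r) * z := by
    rw [Algebra.smul_def]; congr 1
    exact ((Algebra.TensorProduct.includeRight : K →ₐ[R] S ⊗[R] K).commutes r).symm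
  rw [h4] at hw
  exact ((hu.map (Algebra.TensorProduct.includeRight : K →ₐ[R] S ⊗[R] K)).mul_right_eq_zero.mp hw.symm)

/-- The base change of the local ring to every field is reduced. -/
theorem isReduced_localTensor_of_flat [IsNoetherianRing R] [Algebra.FiniteType R C] (𝔮 : Ideal C) [𝔮.IsPrime]
    [Module.Flat R (Localization.AtPrime 𝔮)] (hred : GeomRedAt R 𝔮) (L : Type u) [Field L] [Algebra R L] :
    IsReduced (Localization.AtPrime 𝔮 ⊗[R] L) := by
  classical
  let p := RingHom.ker (algebraMap R L)
  haveI : p.IsPrime := RingHom.ker_isPrime _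
  let k := p.ResidueField
  let S := Localization.AtPrime 𝔮
  let K := AlgebraicClosure k
  -- finite domains between the base and the algebraic closure
  haveI hSK : IsReduced (S ⊗[R] K) := isReduced_tensor_algebraic 𝔮 hred p K
  let f : k →+* L := Ideal.ResidueField.lift p (algebraMap R L) le_rfl
    (fun r hr => isUnit_iff_ne_zero.mpr fun h => hr (RingHom.mem_ker.mpr h))
  letI : Algebra k L := f.toAlgebra
  haveI : IsScalarTower R k L := .of_algebraMap_eq fun r => (Ideal.ResidueField.lift_algebraMap p _ _ _ r).symm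
  haveI : IsReduced (K ⊗[R] S) := isReduced_of_injective (Algebra.TensorProduct.comm R K S).toAlgHom
    (Algebra.TensorProduct.comm R K S).injective
  haveI : Algebra.IsGeometricallyReduced k (k ⊗[R] S) := by
    rw [Algebra.isGeometricallyReduced_field_iff]
    exact isReduced_of_injective (Algebra.TensorProduct.cancelBaseChange R k K K S).toAlgHom
      (Algebra.TensorProduct.cancelBaseChange R k K K S).injective
  haveI : IsReduced (L ⊗[k] (k ⊗[R] S)) := Groth.L03.GeomReduced2.isReduced_of_isGeometricallyReduced L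
  haveI : IsReduced (L ⊗[R] S) :=
    isReduced_of_injective (Algebra.TensorProduct.cancelBaseChange R k L L S).symm.toAlgHom
      (Algebra.TensorProduct.cancelBaseChange R k L L S).symm.injective
  exact isReduced_of_injective (Algebra.TensorProduct.comm R S L).toAlgHom
    (Algebra.TensorProduct.comm R S L).injective

/-- Geometric reducedness passes to generizations at points of flatness. -/
theorem geomRedAt_of_flat [IsNoetherianRing R] [Algebra.FiniteType R C] (𝔮 : Ideal C) [𝔮.IsPrime]
    [Module.Flat R (Localization.AtPrime 𝔮)] (hred : GeomRedAt R 𝔮) (𝔷 : Ideal C) [𝔷.IsPrime] (hle : 𝔷 ≤ 𝔮) :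
    GeomRedAt R 𝔷 := fun L _ _ _ Q _ hQ => by
  haveI := isReduced_localTensor_of_flat 𝔮 hred L
  exact isReduced_loc_of_localTensor 𝔮 L Q (hQ.le.trans hle)

end Groth.L07.FlatGeomReduced
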