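import Mathlib.Algebra.Category.ModuleCat.ProjectiveDimension
import Mathlib.CategoryTheory.Abelian.Projective.Dimension
import Mathlib.RingTheory.Ideal.AssociatedPrime.Finiteness
import Mathlib.RingTheory.Ideal.AssociatedPrime.Localization
import Mathlib.RingTheory.LocalRing.Module
import Mathlib.Algebra.Module.LocalizedModule.Exact
import Mathlib.LinearAlgebra.TensorProduct.Quotient
import Mathlib.LinearAlgebra.Dimension.Constructions
import Mathlib.RingTheory.Localization.Finiteness
import Mathlib.RingTheory.LocalProperties.Projective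

/-! Modules of finite projective dimension at associated primes, and ideals of finite projective
dimension. -/

namespace Groth.L07.FinitePd

open CategoryTheory IsLocalRing TensorProduct

set_option linter.style.haveILetI false

universe u

variable {R : Type u} [CommRing R] [IsNoetherianRing R]

/-- Over a local ring of depth zero a cokernel of an injection of free modules is free. -/
theorem free_of_injective_of_maximalIdeal_mem_ass [IsLocalRing R]
    (h0 : maximalIdeal R ∈ associatedPrimes R R) {K F M : Type u} [AddCommGroup K] [Module R K]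
    [AddCommGroup F] [Module R F] [AddCommGroup M] [Module R M] [Module.Finite R K] [Module.Free R K]
    [Module.Finite R F] [Module.Free R F] (i : K →ₗ[R] F) (p : F →ₗ[R] M)
    (hi : Function.Injective i) (hp : Function.Surjective p) (hex : Function.Exact i p) :
    Module.Free R M := by
  obtain ⟨-, φ, hφ⟩ := (isAssociatedPrime_iff_exists_injective_linearMap _ _).mp h0
  set z := φ (Ideal.Quotient.mk _ 1) with hz
  have hz0 : z ≠ 0 := fun h => by
    have h1 := (injective_iff_map_eq_zero φ).mp hφ _ h
    rw [Ideal.Quotient.eq_zero_iff_mem] at h1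
    exact (maximalIdeal.isMaximal R).ne_top (Ideal.eq_top_of_isUnit_mem _ h1 isUnit_one)
  have hzm : ∀ a ∈ maximalIdeal R, a * z = 0 := fun a ha => by
    have h1 : (Ideal.Quotient.mk (maximalIdeal R)) a = 0 := Ideal.Quotient.eq_zero_iff_mem.mpr ha
    rw [hz, ← smul_eq_mul, ← map_smul, Algebra.smul_def, Ideal.Quotient.algebraMap_eq, map_one,
      mul_one, h1, map_zero]
  refine Module.free_of_lTensor_residueField_injective i p hp hex ?_
  rw [injective_iff_map_eq_zero]
  intro t ht
  obtain ⟨v, rfl⟩ := TensorProduct.mk_surjective R K (ResidueField R) Ideal.Quotient.mk_surjective t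
  have hiv : i v ∈ maximalIdeal R • (⊤ : Submodule R F) := by
    have h1 : TensorProduct.quotTensorEquivQuotSMul F (maximalIdeal R)
        (Ideal.Quotient.mk (maximalIdeal R) 1 ⊗ₜ[R] i v) = 0 :=
      (congrArg (TensorProduct.quotTensorEquivQuotSMul F (maximalIdeal R)) ht).trans (map_zero _)
    rw [TensorProduct.quotTensorEquivQuotSMul_mk_tmul, one_smul] at h1
    exact (Submodule.Quotient.mk_eq_zero _).mp h1
  have hzv : z • v = 0 := by
    apply hi
    rw [map_smul, map_zero]
    refine Submodule.smul_induction_on hiv (fun a ha x _ => ?_) (fun x y hx hy => ?_)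
    · rw [smul_smul, mul_comm, hzm a ha, zero_smul]
    · rw [smul_add, hx, hy, add_zero]
  let b := Module.Free.chooseBasis R K
  have hv : v ∈ maximalIdeal R • (⊤ : Submodule R K) := by
    rw [← b.linearCombination_repr v, Finsupp.linearCombination_apply]
    refine Submodule.sum_mem _ fun k _ => Submodule.smul_mem_smul ?_ trivial
    rw [mem_maximalIdeal, mem_nonunits_iff]
    intro hu
    have := congrArg (fun y => b.repr y k) hzv
    simp only [map_smul, Finsupp.smul_apply, map_zero, Finsupp.coe_zero, Pi.zero_apply,
      smul_eq_mul] at this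
    exact hz0 (hu.mul_left_eq_zero.mp this)
  apply (TensorProduct.quotTensorEquivQuotSMul K (maximalIdeal R)).injective
  refine Eq.trans ?_ (map_zero _).symm
  change TensorProduct.quotTensorEquivQuotSMul K (maximalIdeal R)
    (Ideal.Quotient.mk (maximalIdeal R) 1 ⊗ₜ[R] v) = 0
  rw [TensorProduct.quotTensorEquivQuotSMul_mk_tmul, one_smul]
  exact (Submodule.Quotient.mk_eq_zero _).mpr hv

/-- Constancy of the rank of a module of finite projective dimension at the associated primes. -/
theorem exists_rank_const [IsLocalRing R] : ∀ (n : ℕ) (M : Type u) [AddCommGroup M] [Module R M]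
    [Module.Finite R M], HasProjectiveDimensionLT (ModuleCat.of R M) n →
    ∃ χ : ℤ, ∀ q ∈ associatedPrimes R R, ∀ [q.IsPrime],
      Module.Free (Localization.AtPrime q) (LocalizedModule q.primeCompl M) ∧
        (Module.finrank (Localization.AtPrime q) (LocalizedModule q.primeCompl M) : ℤ) = χ := by
  intro n
  induction n with
  | zero =>
    intro M _ _ _ h
    haveI : Subsingleton M := ModuleCat.isZero_iff_subsingleton.mp
      ((hasProjectiveDimensionLT_zero_iff_isZero _).mp h)
    refine ⟨0, fun q _ _ => ⟨Module.Free.of_subsingleton _ _, ?_⟩⟩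
    simp [Module.finrank_zero_of_subsingleton]
  | succ n ih =>
    intro M _ _ _ h
    match n, ih, h with
    | 0, _, h =>
      haveI : Module.Projective R M :=
        (IsProjective.iff_projective M).mpr (projective_iff_hasProjectiveDimensionLT_one.mpr h)
      haveI : Module.Free R M := Module.free_of_flat_of_isLocalRing
      refine ⟨Module.finrank R M, fun q _ _ => ?_⟩
      haveI := Module.free_of_isLocalizedModule (Rₛ := Localization.AtPrime q) q.primeCompl
        (LocalizedModule.mkLinearMap q.primeCompl M)
      exact ⟨this, by rw [Module.finrank_of_isLocalizedModule_of_free (Localization.AtPrime q)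
        q.primeCompl (LocalizedModule.mkLinearMap q.primeCompl M)]⟩
    | n + 1, ih, h =>
      obtain ⟨m, f, hf⟩ := Module.Finite.exists_fin' R M
      have hS := LinearMap.shortExact_shortComplexKer hf
      haveI : Projective f.shortComplexKer.X₂ :=
        (IsProjective.iff_projective (Fin m → R)).mp inferInstance
      obtain ⟨χ, hχ⟩ := ih (LinearMap.ker f) ((hS.hasProjectiveDimensionLT_X₃_iff n inferInstance).mp h)
      refine ⟨(m : ℤ) - χ, fun q hq hqp => ?_⟩
      obtain ⟨hfree, hrank⟩ := hχ q hq
      let Rq := Localization.AtPrime q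
      let i' : LocalizedModule q.primeCompl (LinearMap.ker f) →ₗ[Rq]
          LocalizedModule q.primeCompl (Fin m → R) := IsLocalizedModule.mapExtendScalars q.primeCompl
        (LocalizedModule.mkLinearMap q.primeCompl (LinearMap.ker f))
        (LocalizedModule.mkLinearMap q.primeCompl (Fin m → R)) Rq (LinearMap.ker f).subtype
      let p' := IsLocalizedModule.mapExtendScalars q.primeCompl
        (LocalizedModule.mkLinearMap q.primeCompl (Fin m → R))
        (LocalizedModule.mkLinearMap q.primeCompl M) Rq f
      have hi' : Function.Injective i' := IsLocalizedModule.map_injective q.primeCompl _ _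
        _ (Submodule.injective_subtype _)
      have hp' : Function.Surjective p' := IsLocalizedModule.map_surjective q.primeCompl _ _ _ hf
      have hex' : Function.Exact i' p' := IsLocalizedModule.map_exact q.primeCompl _ _ _
        _ _ (LinearMap.exact_subtype_ker_map f)
      haveI := Module.free_of_isLocalizedModule (Rₛ := Rq) q.primeCompl
        (LocalizedModule.mkLinearMap q.primeCompl (Fin m → R))
      haveI := hfree
      haveI : Module.Finite Rq (LocalizedModule q.primeCompl (LinearMap.ker f)) :=
        Module.Finite.of_isLocalizedModule q.primeCompl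
          (LocalizedModule.mkLinearMap q.primeCompl (LinearMap.ker f))
      haveI : Module.Finite Rq (LocalizedModule q.primeCompl (Fin m → R)) :=
        Module.Finite.of_isLocalizedModule q.primeCompl
          (LocalizedModule.mkLinearMap q.primeCompl (Fin m → R))
      have h0 : maximalIdeal Rq ∈ associatedPrimes Rq Rq := by
        have := Module.associatedPrimes.mem_associatedPrimes_atPrime_of_mem_associatedPrimes hq
        exact this
      haveI : Module.Free Rq (LocalizedModule q.primeCompl M) :=
        free_of_injective_of_maximalIdeal_mem_ass (R := Rq)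
          (K := LocalizedModule q.primeCompl (LinearMap.ker f)) h0 i' p' hi' hp' hex'
      refine ⟨inferInstance, ?_⟩
      obtain ⟨l, hl⟩ := Module.projective_lifting_property p' LinearMap.id hp'
      obtain ⟨e, -⟩ := Function.Exact.splitSurjectiveEquiv (R := Rq)
        (M := LocalizedModule q.primeCompl (LinearMap.ker f)) (f := i') (g := p') hex' hi' ⟨l, hl⟩
      have h1 := e.finrank_eq
      rw [Module.finrank_of_isLocalizedModule_of_free Rq q.primeCompl
        (LocalizedModule.mkLinearMap q.primeCompl (Fin m → R)), Module.finrank_prod,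
        Module.finrank_fin_fun] at h1
      rw [← hrank, eq_sub_iff_add_eq]
      exact_mod_cast ((add_comm _ _).trans h1.symm)

/-- A nonzero ideal of finite projective dimension in a local ring contains a nonzerodivisor:
no associated prime contains it. -/
theorem not_le_associatedPrime [IsLocalRing R] {I : Ideal R} (hI : I ≠ ⊥) (n : ℕ)
    (hpd : HasProjectiveDimensionLT (ModuleCat.of R I) n) :
    ∀ q ∈ associatedPrimes R R, ¬ I ≤ q := by
  intro q₀ hq₀ hle
  have hS := LinearMap.shortExact_shortComplexKer (Submodule.mkQ_surjective I)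
  obtain ⟨χI, hχI⟩ := exists_rank_const n I hpd
  have hker : HasProjectiveDimensionLT (ModuleCat.of R (R ⧸ I)) (n + 2) := by
    haveI : Projective (I.mkQ).shortComplexKer.X₂ :=
      (IsProjective.iff_projective R).mp inferInstance
    refine (hS.hasProjectiveDimensionLT_X₃_iff n inferInstance).mpr ?_
    have e : ModuleCat.of R (LinearMap.ker I.mkQ) ≅ ModuleCat.of R I :=
      (LinearEquiv.ofEq _ _ (Submodule.ker_mkQ I)).toModuleIso
    haveI := hpd
    haveI : HasProjectiveDimensionLT (ModuleCat.of R I) (n + 1) :=
      hasProjectiveDimensionLT_of_ge _ n (n + 1) n.le_succ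
    exact hasProjectiveDimensionLT_of_iso e.symm (n + 1)
  obtain ⟨χQ, hχQ⟩ := exists_rank_const (n + 2) (R ⧸ I) hker
  have key : ∀ q ∈ associatedPrimes R R, ∀ [q.IsPrime], χI + χQ = 1 ∧
      (I ≤ q → χQ ≠ 0) ∧ (χI = 0 → ∀ x ∈ I, ∃ s ∉ q, s * x = 0) := by
    intro q hq _
    let Rq := Localization.AtPrime q
    obtain ⟨hfI, hrI⟩ := hχI q hq
    obtain ⟨hfQ, hrQ⟩ := hχQ q hq
    let i' := IsLocalizedModule.mapExtendScalars q.primeCompl
      (LocalizedModule.mkLinearMap q.primeCompl I) (Algebra.linearMap R Rq) Rq I.subtype
    let p' := IsLocalizedModule.mapExtendScalars q.primeCompl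
      (Algebra.linearMap R Rq) (LocalizedModule.mkLinearMap q.primeCompl (R ⧸ I)) Rq I.mkQ
    have hi' : Function.Injective i' := IsLocalizedModule.map_injective q.primeCompl _ _
      _ (Submodule.injective_subtype _)
    have hp' : Function.Surjective p' :=
      IsLocalizedModule.map_surjective q.primeCompl _ _ _ (Submodule.mkQ_surjective I)
    have hex' : Function.Exact i' p' := IsLocalizedModule.map_exact q.primeCompl _ _ _
      _ _ (LinearMap.exact_subtype_mkQ I)
    obtain ⟨l, hl⟩ := Module.projective_lifting_property p' LinearMap.id hp'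
    obtain ⟨e, -⟩ := Function.Exact.splitSurjectiveEquiv (R := Rq) (f := i') (g := p') hex' hi' ⟨l, hl⟩
    have h1 := e.finrank_eq
    rw [Module.finrank_prod, Module.finrank_self] at h1
    haveI : Module.Finite Rq (LocalizedModule q.primeCompl I) :=
      Module.Finite.of_isLocalizedModule q.primeCompl (LocalizedModule.mkLinearMap q.primeCompl I)
    haveI : Module.Finite Rq (LocalizedModule q.primeCompl (R ⧸ I)) :=
      Module.Finite.of_isLocalizedModule q.primeCompl (LocalizedModule.mkLinearMap q.primeCompl (R ⧸ I))
    refine ⟨by rw [← hrI, ← hrQ]; exact_mod_cast h1.symm, fun hIq hQ => ?_, fun h0 x hx => ?_⟩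
    · have hz : Module.finrank Rq (LocalizedModule q.primeCompl (R ⧸ I)) = 0 :=
        Int.ofNat_eq_zero.mp (hrQ.trans hQ)
      haveI : Subsingleton (LocalizedModule q.primeCompl (R ⧸ I)) :=
        (Module.finrank_eq_zero_iff_of_free _ _).mp hz
      obtain ⟨s, hs⟩ := (IsLocalizedModule.eq_zero_iff q.primeCompl
        (LocalizedModule.mkLinearMap q.primeCompl (R ⧸ I))).mp
        (Subsingleton.elim (LocalizedModule.mkLinearMap q.primeCompl (R ⧸ I) (I.mkQ 1)) 0)
      rw [Submonoid.smul_def, ← map_smul, Submodule.mkQ_apply, Submodule.Quotient.mk_eq_zero,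
        smul_eq_mul, mul_one] at hs
      exact s.2 (hIq hs)
    · have hz : Module.finrank Rq (LocalizedModule q.primeCompl I) = 0 :=
        Int.ofNat_eq_zero.mp (hrI.trans h0)
      haveI : Subsingleton (LocalizedModule q.primeCompl I) :=
        (Module.finrank_eq_zero_iff_of_free _ _).mp hz
      obtain ⟨s, hs⟩ := (IsLocalizedModule.eq_zero_iff q.primeCompl
        (LocalizedModule.mkLinearMap q.primeCompl I)).mp
        (Subsingleton.elim (LocalizedModule.mkLinearMap q.primeCompl I ⟨x, hx⟩) 0)
      exact ⟨s, s.2, congrArg Subtype.val hs⟩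
  haveI := IsAssociatedPrime.isPrime hq₀
  obtain ⟨hsum, hQ, -⟩ := key q₀ hq₀
  have hQ0 := hQ hle
  have hI0 : χI = 0 := by
    have h1 : (0 : ℤ) ≤ χI := (hχI q₀ hq₀).2 ▸ Int.natCast_nonneg _
    have h2 : (0 : ℤ) ≤ χQ := (hχQ q₀ hq₀).2 ▸ Int.natCast_nonneg _
    omega
  refine hI (eq_bot_iff.mpr fun x hx => ?_)
  rw [Submodule.mem_bot]
  by_contra hx0
  obtain ⟨q, hq, hle'⟩ := exists_le_isAssociatedPrime_of_isNoetherianRing R x hx0
  haveI := IsAssociatedPrime.isPrime hq
  obtain ⟨s, hs, hsx⟩ := (key q hq).2.2 hI0 x hx
  exact hs (hle' (by simpa [Submodule.mem_colon_singleton] using hsx))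

end Groth.L07.FinitePd
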