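import Groth.Agent.L20.Nilpotent
import Mathlib.LinearAlgebra.DirectSum.Finsupp
import Mathlib.LinearAlgebra.TensorProduct.Quotient

/-! Modules free modulo a nilpotent ideal. -/

namespace Groth.L07.FreeNil

open TensorProduct

universe u

variable {A : Type u} [CommRing A] (M : Type u) [AddCommGroup M] [Module A M]

/-- The least ideal modulo which the module is flat, equivalently free. -/
theorem exists_ideal (J : Ideal A) (hJ : IsNilpotent J) [Module.Free (A ⧸ J) ((A ⧸ J) ⊗[A] M)] :
    ∃ R₀ : Ideal A, ∀ (A' : Type u) [CommRing A'] [Algebra A A'],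
      (R₀.map (algebraMap A A') = ⊥ → Module.Free A' (A' ⊗[A] M)) ∧
      (Module.Flat A' (A' ⊗[A] M) → R₀.map (algebraMap A A') = ⊥) := by
  classical
  let b := Module.Free.chooseBasis (A ⧸ J) ((A ⧸ J) ⊗[A] M)
  let ι := Module.Free.ChooseBasisIndex (A ⧸ J) ((A ⧸ J) ⊗[A] M)
  choose v hv using fun i => TensorProduct.mk_surjective A M (A ⧸ J) Ideal.Quotient.mk_surjective (b i)
  let φ : (ι →₀ A) →ₗ[A] M := Finsupp.linearCombination A v
  have hφ : ∀ c : ι →₀ A, TensorProduct.mk A (A ⧸ J) M 1 (φ c) =
      Finsupp.linearCombination (A ⧸ J) b (c.mapRange (algebraMap A (A ⧸ J)) (map_zero _)) := by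
    intro c
    rw [Finsupp.apply_linearCombination, Finsupp.linearCombination_apply,
      Finsupp.linearCombination_apply, Finsupp.sum_mapRange_index (by simp)]
    refine Finsupp.sum_congr fun i _ => ?_
    rw [Function.comp_apply, hv, algebraMap_smul]
  have key : ∀ x : M, TensorProduct.mk A (A ⧸ J) M 1 x = 0 ↔ x ∈ J • (⊤ : Submodule A M) := by
    intro x
    rw [← LinearMap.mem_ker]
    exact (SetLike.ext_iff.mp (LinearMap.ker_tensorProductMk M) x)
  have hsurj : Function.Surjective φ := by
    have hle : (⊤ : Submodule A M) ≤ LinearMap.range φ ⊔ J • ⊤ := by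
      intro x _
      obtain ⟨c, hc⟩ := Finsupp.mapRange_surjective _ (map_zero _) Ideal.Quotient.mk_surjective
        (b.repr (TensorProduct.mk A (A ⧸ J) M 1 x))
      have : x - φ c ∈ J • (⊤ : Submodule A M) := by
        rw [← key, map_sub, sub_eq_zero, hφ]
        exact (by rw [show (c.mapRange (algebraMap A (A ⧸ J)) (map_zero _)) = _ from hc,
          b.linearCombination_repr])
      exact Submodule.mem_sup.mpr ⟨φ c, ⟨c, rfl⟩, x - φ c, this, by abel⟩
    rw [← LinearMap.range_eq_top, ← Submodule.Quotient.subsingleton_iff, ← Submodule.subsingleton_iff A,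
      ← subsingleton_iff_bot_eq_top, eq_comm]
    refine Groth.L20.eq_bot_of_le_smul J hJ ⊤ ?_
    intro x _
    obtain ⟨y, rfl⟩ := (LinearMap.range φ).mkQ_surjective x
    obtain ⟨a, ha, b', hb', rfl⟩ := Submodule.mem_sup.mp (hle (Submodule.mem_top (x := y)))
    rw [map_add, Submodule.mkQ_apply, (Submodule.Quotient.mk_eq_zero _).mpr ha, zero_add]
    have := Submodule.mem_map_of_mem (f := (LinearMap.range φ).mkQ) hb'
    rw [Submodule.map_smul'', Submodule.map_top] at this
    exact Submodule.smul_mono le_rfl le_top this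
  have hker : ∀ c, φ c = 0 → c ∈ J • (⊤ : Submodule A (ι →₀ A)) := by
    intro c hc
    have hc' : Finsupp.linearCombination (A ⧸ J) b
        (c.mapRange (algebraMap A (A ⧸ J)) (map_zero _)) = 0 := by rw [← hφ, hc, map_zero]
    have h0 := linearIndependent_iff.mp b.linearIndependent _ hc'
    rw [← Finsupp.sum_single c]
    refine sum_mem fun i _ => ?_
    have hi : c i ∈ J := by
      rw [← Ideal.Quotient.eq_zero_iff_mem]
      exact (Finsupp.mapRange_apply (f := algebraMap A (A ⧸ J)) (hf := map_zero _)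
        (g := c) (a := i)).symm.trans (DFunLike.congr_fun h0 i)
    rw [show Finsupp.single i (c i) = c i • Finsupp.single i (1 : A) by simp]
    exact Submodule.smul_mem_smul hi trivial
  refine ⟨Ideal.span {a | ∃ (c : ι →₀ A) (i : ι), φ c = 0 ∧ a = c i}, fun A' _ _ => ⟨fun h => ?_, fun h => ?_⟩⟩
  · have hz : ∀ c : ι →₀ A, φ c = 0 → (1 : A') ⊗ₜ[A] c = 0 := by
      intro c hc
      conv_lhs => rw [← Finsupp.sum_single c]
      rw [Finsupp.sum, TensorProduct.tmul_sum]
      refine Finset.sum_eq_zero fun i _ => ?_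
      have h0 : algebraMap A A' (c i) = 0 := by
        rw [← Submodule.mem_bot A', ← h]
        exact Ideal.mem_map_of_mem _ (Ideal.subset_span ⟨c, i, hc, rfl⟩)
      rw [show Finsupp.single i (c i) = c i • Finsupp.single i (1 : A) by simp, TensorProduct.tmul_smul,
        ← algebraMap_smul A', h0, zero_smul]
    have hinj : Function.Injective (φ.baseChange A') := by
      rw [injective_iff_map_eq_zero]
      intro z hz'
      rw [LinearMap.baseChange_eq_ltensor] at hz'
      have hex := lTensor_exact A' (M := ↥(LinearMap.ker φ)) (LinearMap.exact_subtype_ker_map φ) hsurj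
      obtain ⟨w, rfl⟩ := (hex z).mp hz'
      clear hz'
      induction w using TensorProduct.induction_on with
      | zero => simp
      | add a b ha hb => rw [map_add, ha, hb, add_zero]
      | tmul a k =>
        rw [LinearMap.lTensor_tmul, Submodule.subtype_apply,
          show a ⊗ₜ[A] (k : ι →₀ A) = a • ((1 : A') ⊗ₜ[A] (k : ι →₀ A)) by simp [TensorProduct.smul_tmul'],
          hz k k.2, smul_zero]
    have hs : Function.Surjective (φ.baseChange A') := by
      rw [LinearMap.baseChange_eq_ltensor]; exact LinearMap.lTensor_surjective A' hsurj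
    exact Module.Free.of_equiv (LinearEquiv.ofBijective _ ⟨hinj, hs⟩)
  · rw [Ideal.map_span, Ideal.span_eq_bot]
    rintro _ ⟨_, ⟨c, i, hc, rfl⟩, rfl⟩
    have h1 := Groth.L20.baseChange_relations_eq_zero (A := A') J hJ φ hsurj hker c hc
    have h2 := congrArg (fun z => (TensorProduct.finsuppScalarRight A A' A' ι z) i) h1
    simpa [Algebra.algebraMap_eq_smul_one] using h2

theorem le_iff (R₀ R : Ideal A) : R₀.map (algebraMap A (A ⧸ R)) = ⊥ ↔ R₀ ≤ R := by
  rw [Ideal.map_eq_bot_iff_le_ker, Ideal.Quotient.algebraMap_eq, Ideal.mk_ker]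

end Groth.L07.FreeNil
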