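import Groth.Agent.L07.FlatStage
import Groth.Agent.L07.FreeNil
import Mathlib.RingTheory.Noetherian.Nilpotent
import Mathlib.RingTheory.Localization.BaseChange

/-! Stratifications on which a flat module of finite presentation is free. -/

namespace Groth.L07.FreeStrat

open TensorProduct MvPolynomial
open Groth.L07.FlatDescent Groth.L07.GenFree

set_option linter.style.haveILetI false

universe u

variable {R : Type u} [CommRing R]

/-- The module is free over every algebra in which `f` is a unit and `I` vanishes. -/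
def FreeOn (M : Type u) [AddCommGroup M] [Module R M] (f : R) (I : Ideal R) : Prop :=
  ∀ (C : Type u) [CommRing C] [Algebra R C], IsUnit (algebraMap R C f) →
    I.map (algebraMap R C) = ⊥ → Module.Free C (C ⊗[R] M)

variable (M : Type u) [AddCommGroup M] [Module R M]

theorem free_of_tower (C' C : Type u) [CommRing C'] [CommRing C] [Algebra R C'] [Algebra R C]
    [Algebra C' C] [IsScalarTower R C' C] [Module.Free C' (C' ⊗[R] M)] :
    Module.Free C (C ⊗[R] M) := by
  haveI : Module.Free C (C ⊗[C'] (C' ⊗[R] M)) := inferInstance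
  exact Module.Free.of_equiv (AlgebraTensorModule.cancelBaseChange R C' C C M)

theorem flat_of_tower (C' C : Type u) [CommRing C'] [CommRing C] [Algebra R C'] [Algebra R C]
    [Algebra C' C] [IsScalarTower R C' C] [Module.Flat C' (C' ⊗[R] M)] :
    Module.Flat C (C ⊗[R] M) := by
  haveI : Module.Flat C (C ⊗[C'] (C' ⊗[R] M)) := inferInstance
  exact Module.Flat.of_linearEquiv (AlgebraTensorModule.cancelBaseChange R C' C C M).symm

/-- Modulo a prime, the model is free after inverting an element outside the prime. -/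
theorem freeOn_prime [IsNoetherianRing R] {d n : ℕ}
    (K : Submodule (MvPolynomial (Fin d) R) (F d n R)) (P : Ideal R) [P.IsPrime] :
    ∃ f, f ∉ P ∧ FreeOn (F d n R ⧸ K) f P := by
  obtain ⟨f₀, hf₀, hfree⟩ := exists_freeAt (R := R ⧸ P) (S := MvPolynomial (Fin d) (R ⧸ P))
    (F d n (R ⧸ P) ⧸ KP (C := R ⧸ P) K)
  obtain ⟨e₀⟩ := exists_baseChangeEquiv K (R ⧸ P)
  have hfree' : FreeAt f₀ ((R ⧸ P) ⊗[R] (F d n R ⧸ K)) :=
    hfree.of_equiv ((Submodule.Quotient.restrictScalarsEquiv (R ⧸ P) (KP (C := R ⧸ P) K)).symm ≪≫ₗ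
      Submodule.quotEquivOfEq _ _ rfl ≪≫ₗ e₀.symm)
  obtain ⟨f, rfl⟩ := Ideal.Quotient.mk_surjective f₀
  refine ⟨f, fun h => hf₀ (Ideal.Quotient.eq_zero_iff_mem.mpr h), fun C _ _ hu hP => ?_⟩
  let Rf := Localization.Away (Ideal.Quotient.mk P f)
  haveI : IsLocalizedModule (Submonoid.powers (Ideal.Quotient.mk P f))
      (TensorProduct.mk (R ⧸ P) Rf ((R ⧸ P) ⊗[R] (F d n R ⧸ K)) 1) :=
    (isLocalizedModule_iff_isBaseChange (Submonoid.powers (Ideal.Quotient.mk P f)) Rf _).mpr
      (TensorProduct.isBaseChange _ _ _)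
  haveI : Module.Free Rf (Rf ⊗[R ⧸ P] ((R ⧸ P) ⊗[R] (F d n R ⧸ K))) :=
    hfree'.free hf₀ Rf _ (TensorProduct.mk (R ⧸ P) Rf ((R ⧸ P) ⊗[R] (F d n R ⧸ K)) 1)
  haveI : Module.Free Rf (Rf ⊗[R] (F d n R ⧸ K)) :=
    Module.Free.of_equiv (AlgebraTensorModule.cancelBaseChange R (R ⧸ P) Rf Rf (F d n R ⧸ K))
  let g : R ⧸ P →+* C := Ideal.Quotient.lift P (algebraMap R C) fun a ha => by
    rw [← Submodule.mem_bot C, ← hP]; exact Ideal.mem_map_of_mem _ ha
  let g' : Rf →+* C := IsLocalization.Away.lift (Ideal.Quotient.mk P f) (g := g) (by simpa [g] using hu)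
  letI := g'.toAlgebra
  haveI : IsScalarTower R Rf C := IsScalarTower.of_algebraMap_eq fun r => by
    show _ = g' (algebraMap R Rf r)
    rw [IsScalarTower.algebraMap_apply R (R ⧸ P) Rf, IsLocalization.Away.lift_eq]
    rfl
  exact free_of_tower (F d n R ⧸ K) Rf C

/-- Over an algebra in which the stratum is nilpotent, freeness is cut out by an ideal. -/
theorem exists_ideal_of_freeOn {f : R} {P : Ideal R} (h : FreeOn M f P) (C' : Type u) [CommRing C']
    [Algebra R C'] (hu : IsUnit (algebraMap R C' f)) (hnil : IsNilpotent (P.map (algebraMap R C'))) :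
    ∃ R₀ : Ideal C', ∀ (C : Type u) [CommRing C] [Algebra R C] [Algebra C' C] [IsScalarTower R C' C],
      (R₀.map (algebraMap C' C) = ⊥ → Module.Free C (C ⊗[R] M)) ∧
      (Module.Flat C (C ⊗[R] M) → R₀.map (algebraMap C' C) = ⊥) := by
  set J := P.map (algebraMap R C') with hJ
  haveI : Module.Free (C' ⧸ J) ((C' ⧸ J) ⊗[R] M) := h _
    (by rw [IsScalarTower.algebraMap_apply R C' (C' ⧸ J)]; exact hu.map _)
    (by rw [IsScalarTower.algebraMap_eq R C' (C' ⧸ J), ← Ideal.map_map, ← hJ,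
      Ideal.Quotient.algebraMap_eq, Ideal.map_quotient_self])
  haveI : Module.Free (C' ⧸ J) ((C' ⧸ J) ⊗[C'] (C' ⊗[R] M)) :=
    Module.Free.of_equiv (AlgebraTensorModule.cancelBaseChange R C' (C' ⧸ J) (C' ⧸ J) M).symm
  obtain ⟨R₀, h₀⟩ := Groth.L07.FreeNil.exists_ideal (C' ⊗[R] M) J hnil
  refine ⟨R₀, fun C _ _ _ _ => ⟨fun hC => ?_, fun hC => ?_⟩⟩
  · haveI := (h₀ C).1 hC
    exact Module.Free.of_equiv (AlgebraTensorModule.cancelBaseChange R C' C C M)
  · exact (h₀ C).2 (Module.Flat.of_linearEquiv (AlgebraTensorModule.cancelBaseChange R C' C C M))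

theorem exists_step [IsNoetherianRing R] [Module.Flat R M]
    (hgen : ∀ P : Ideal R, P.IsPrime → ∃ f, f ∉ P ∧ FreeOn M f P) {I : Ideal R} (hI : I ≠ ⊤) :
    ∃ f, f ∉ I ∧ FreeOn M f I := by
  classical
  have hfin := Ideal.finite_minimalPrimes_of_isNoetherianRing R I
  obtain ⟨P, hP⟩ := Ideal.nonempty_minimalPrimes hI
  haveI hPprime : P.IsPrime := hP.1.1
  have hsep : ∀ Q ∈ hfin.toFinset.erase P, ∃ s ∈ Q, s ∉ P := by
    intro Q hQ
    obtain ⟨hne, hQm⟩ := Finset.mem_erase.mp hQ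
    rw [Set.Finite.mem_toFinset] at hQm
    exact SetLike.not_le_iff_exists.mp fun hle => hne (le_antisymm hle (hP.2 hQm.1 hle))
  choose! s hs hsP using hsep
  obtain ⟨f₀, hf₀, hfree⟩ := hgen P hPprime
  refine ⟨(∏ Q ∈ hfin.toFinset.erase P, s Q) * f₀, ?_, fun C _ _ hu hC => ?_⟩
  · intro h
    rcases hPprime.mem_or_mem (hP.1.2 h) with h | h
    · obtain ⟨Q, hQ, hQP⟩ := Ideal.IsPrime.prod_mem_iff.mp h
      exact hsP Q hQ hQP
    · exact hf₀ h
  set f := (∏ Q ∈ hfin.toFinset.erase P, s Q) * f₀ with hf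
  let C₁ := Localization.Away f
  let C₀ := C₁ ⧸ I.map (algebraMap R C₁)
  have hu₀ : IsUnit (algebraMap R C₀ f) := by
    rw [IsScalarTower.algebraMap_apply R C₁ C₀]
    exact (IsLocalization.Away.algebraMap_isUnit f).map _
  have hu₀' : IsUnit (algebraMap R C₀ (∏ Q ∈ hfin.toFinset.erase P, s Q)) :=
    isUnit_of_mul_isUnit_left (by rw [← map_mul]; exact hu₀)
  have hnil : IsNilpotent (P.map (algebraMap R C₀)) := by
    refine (Ideal.FG.isNilpotent_iff_le_nilradical (Ideal.FG.map (IsNoetherian.noetherian P) _)).mpr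
      (Ideal.map_le_iff_le_comap.mpr fun x hx => ?_)
    have hrad : (∏ Q ∈ hfin.toFinset.erase P, s Q) * x ∈ I.radical := by
      rw [← Ideal.sInf_minimalPrimes, Submodule.mem_sInf]
      intro Q hQ
      by_cases hQP : Q = P
      · rw [hQP]; exact P.mul_mem_left _ hx
      · have hQm : Q ∈ hfin.toFinset.erase P :=
          Finset.mem_erase.mpr ⟨hQP, hfin.mem_toFinset.mpr hQ⟩
        haveI := hQ.1.1
        exact Ideal.mul_mem_right _ _ (Ideal.IsPrime.prod_mem_iff.mpr ⟨Q, hQm, hs Q hQm⟩)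
    obtain ⟨k, hk⟩ := hrad
    have h0 : algebraMap R C₀ ((∏ Q ∈ hfin.toFinset.erase P, s Q) * x) ^ k = 0 := by
      rw [← map_pow, IsScalarTower.algebraMap_apply R C₁ C₀, Ideal.Quotient.algebraMap_eq,
        Ideal.Quotient.eq_zero_iff_mem]
      exact Ideal.mem_map_of_mem _ hk
    rw [map_mul, mul_pow] at h0
    exact ⟨k, (hu₀'.pow k).mul_right_eq_zero.mp h0⟩
  obtain ⟨R₀, h₀⟩ := exists_ideal_of_freeOn M hfree C₀
    (isUnit_of_mul_isUnit_right (by rw [← map_mul]; exact hu₀)) hnil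
  have hR₀ : R₀ = ⊥ := by
    have h1 := (h₀ C₀).2 inferInstance
    rwa [Algebra.algebraMap_self, Ideal.map_id] at h1
  haveI : Module.Free C₀ (C₀ ⊗[R] M) := (h₀ C₀).1 (by rw [hR₀, Ideal.map_bot])
  let g : C₁ →+* C := IsLocalization.Away.lift f (g := algebraMap R C) hu
  have hg : g.comp (algebraMap R C₁) = algebraMap R C := IsLocalization.Away.lift_comp f hu
  let g₀ : C₀ →+* C := Ideal.Quotient.lift _ g fun a ha => by
    have h1 := Ideal.mem_map_of_mem g ha
    rw [Ideal.map_map, hg, hC] at h1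
    exact Submodule.mem_bot C |>.mp h1
  letI := g₀.toAlgebra
  haveI : IsScalarTower R C₀ C := IsScalarTower.of_algebraMap_eq fun r => by
    show _ = g₀ (algebraMap R C₀ r)
    rw [IsScalarTower.algebraMap_apply R C₁ C₀, Ideal.Quotient.algebraMap_eq, Ideal.Quotient.lift_mk]
    exact (RingHom.congr_fun hg r).symm
  exact free_of_tower M C₀ C

/-- A principal stratification on whose pieces the flat module is free. -/
theorem exists_list [IsNoetherianRing R] [Module.Flat R M]
    (hgen : ∀ P : Ideal R, P.IsPrime → ∃ f, f ∉ P ∧ FreeOn M f P) :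
    ∃ l : List R, Ideal.span {a | a ∈ l} = ⊤ ∧
      ∀ (i : ℕ) (hi : i < l.length), FreeOn M l[i] (Ideal.span {a | a ∈ l.take i}) := by
  suffices H : ∀ I : Ideal R, ∃ l : List R, I ⊔ Ideal.span {a | a ∈ l} = ⊤ ∧
      ∀ (i : ℕ) (hi : i < l.length), FreeOn M l[i] (I ⊔ Ideal.span {a | a ∈ l.take i}) by
    simpa using H ⊥
  intro I
  induction I using IsNoetherian.induction with
  | hgt I ih =>
    by_cases hI : I = ⊤
    · exact ⟨[], by simp [hI], fun i hi => by simp at hi⟩
    obtain ⟨f, hfI, hf⟩ := exists_step M hgen hI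
    obtain ⟨l, hl, hl'⟩ := ih (I ⊔ Ideal.span {f})
      (lt_of_le_of_ne le_sup_left fun h => hfI (h ▸ Submodule.mem_sup_right (Ideal.mem_span_singleton_self f)))
    have hset : ∀ m : List R, Ideal.span {a | a ∈ f :: m} = Ideal.span {f} ⊔ Ideal.span {a | a ∈ m} := by
      intro m
      rw [← Ideal.span_union]
      congr 1
      ext a
      simp
    refine ⟨f :: l, by rw [hset, ← sup_assoc]; exact hl, fun i hi => ?_⟩
    cases i with
    | zero => simpa using hf
    | succ i =>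
      rw [List.take_succ_cons, hset, ← sup_assoc]
      exact hl' i (by simpa using hi)

end Groth.L07.FreeStrat
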