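import Groth.Agent.L07.ComponentDim
import Groth.Agent.L07.FlatReducedScheme
import Groth.Agent.L05.Henselization.SmoothUnibranch
import Groth.Agent.L07.EquidimQF
import Mathlib.RingTheory.Smooth.StandardSmoothCotangent

/-!
Points with geometrically pointwise integral fibre over geometrically unibranch points lie on one component.
-/

universe u

open CategoryTheory CategoryTheory.Limits AlgebraicGeometry Topology TensorProduct

namespace Groth.L07.FlatGeomReduced

set_option autoImplicit false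
set_option linter.style.haveILetI false
set_option maxSynthPendingDepth 3
set_option backward.isDefEq.respectTransparency.types false
set_option backward.isDefEq.respectTransparency false

section Algebra

attribute [local instance] Algebra.TensorProduct.rightAlgebra in
/-- A smooth chart over a geometrically unibranch local domain gives local domains. -/
theorem isDomain_localization_of_smooth_geomUnibranch {R C : Type u} [CommRing R] [CommRing C] [Algebra R C]
    (p : Ideal R) [p.IsPrime] (hdom : IsDomain (Localization.AtPrime p))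
    (hu : CAlg2.IsGeomUnibranch (Localization.AtPrime p))
    (𝔷 : Ideal C) [𝔷.IsPrime] (hp : 𝔷.comap (algebraMap R C) = p)
    (g : C) (hg : g ∉ 𝔷) [Algebra.IsStandardSmooth R (Localization.Away g)] :
    IsDomain (Localization.AtPrime 𝔷) := by
  let D := Localization.Away g
  let Rp := Localization.AtPrime p
  let R' := Rp ⊗[R] D
  have hdisj := (Ideal.disjoint_powers_iff_notMem_of_isPrime (I := 𝔷) g).mpr hg
  let 𝔷D : Ideal D := 𝔷.map (algebraMap C D)
  haveI : 𝔷D.IsPrime := IsLocalization.isPrime_of_isPrime_disjoint (Submonoid.powers g) D 𝔷 inferInstance hdisj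
  have hD : 𝔷D.comap (algebraMap C D) = 𝔷 :=
    IsLocalization.under_map_of_isPrime_disjoint (Submonoid.powers g) D inferInstance hdisj
  let S := Algebra.algebraMapSubmonoid D p.primeCompl
  haveI hloc : IsLocalization S R' := IsLocalization.tensorRight (S := D) Rp p.primeCompl
  have hpD : 𝔷D.comap (algebraMap R D) = p := by
    rw [IsScalarTower.algebraMap_eq R C D, ← Ideal.comap_comap, hD, hp]
  have hS : Disjoint (S : Set D) (𝔷D : Set D) := by
    rw [Set.disjoint_left]
    rintro _ ⟨r, hr, rfl⟩ hmem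
    exact hr (hpD.le hmem)
  let P : Ideal R' := 𝔷D.map (algebraMap D R')
  haveI : P.IsPrime := IsLocalization.isPrime_of_isPrime_disjoint S R' 𝔷D inferInstance hS
  have hPD : P.comap (algebraMap D R') = 𝔷D :=
    IsLocalization.under_map_of_isPrime_disjoint S R' inferInstance hS
  have hm : (IsLocalRing.maximalIdeal Rp).map (algebraMap Rp R') ≤ P := by
    rw [← Localization.AtPrime.map_eq_maximalIdeal (I := p), Ideal.map_map, Ideal.map_le_iff_le_comap]
    intro r hr
    have h1 : algebraMap D R' (algebraMap R D r) = algebraMap Rp R' (algebraMap R Rp r) := by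
      show (1 : Rp) ⊗ₜ[R] algebraMap R D r = algebraMap R Rp r ⊗ₜ[R] (1 : D)
      exact (Algebra.TensorProduct.tmul_one_eq_one_tmul r).symm
    show algebraMap Rp R' (algebraMap R Rp r) ∈ P
    rw [← h1]
    exact Ideal.mem_map_of_mem _ (hpD.ge hr)
  haveI : IsDomain Rp := hdom
  have hA : IsDomain (Localization.AtPrime P) :=
    (Groth.L05.Henselization.Branches.geomUnibranch_localization_of_smooth hu R' P hm).1
  have hloc1 : IsLocalization.AtPrime (Localization.AtPrime P) 𝔷D := by
    have := IsLocalization.isLocalization_isLocalization_atPrime_isLocalization S (Localization.AtPrime P) P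
    refine (congrArg (fun M => IsLocalization M (Localization.AtPrime P))
      (?_ : (P.comap (algebraMap D R')).primeCompl = 𝔷D.primeCompl)).mp this
    ext a
    exact not_congr (SetLike.ext_iff.mp hPD a)
  haveI := hloc1
  letI : Algebra C (Localization.AtPrime P) :=
    ((algebraMap D (Localization.AtPrime P)).comp (algebraMap C D)).toAlgebra
  haveI : IsScalarTower C D (Localization.AtPrime P) := IsScalarTower.of_algebraMap_eq' rfl
  have hloc2 : IsLocalization.AtPrime (Localization.AtPrime P) 𝔷 := by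
    have := IsLocalization.isLocalization_isLocalization_atPrime_isLocalization (Submonoid.powers g)
      (Localization.AtPrime P) 𝔷D
    refine (congrArg (fun M => IsLocalization M (Localization.AtPrime P))
      (?_ : (𝔷D.comap (algebraMap C D)).primeCompl = 𝔷.primeCompl)).mp this
    ext a
    exact not_congr (SetLike.ext_iff.mp hD a)
  haveI := hloc2
  haveI := hA
  exact (IsLocalization.algEquiv 𝔷.primeCompl (Localization.AtPrime 𝔷)
    (Localization.AtPrime P)).toRingEquiv.toMulEquiv.isDomain (Localization.AtPrime P)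

/-- The quotient by the nilradical at a geometrically unibranch point. -/
theorem geomUnibranch_quot_nilradical {R : Type u} [CommRing R] (p : Ideal R) [p.IsPrime]
    (h : CAlg2.IsGeomUnibranch (Localization.AtPrime p)) (p₁ : Ideal (R ⧸ nilradical R)) [p₁.IsPrime]
    (hp : p₁.comap (Ideal.Quotient.mk (nilradical R)) = p) :
    IsDomain (Localization.AtPrime p₁) ∧ CAlg2.IsGeomUnibranch (Localization.AtPrime p₁) := by
  let R₁ := R ⧸ nilradical R
  let π := Localization.localRingHom p p₁ (Ideal.Quotient.mk (nilradical R)) hp.symm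
  have hπ : Function.Surjective π := fun z => by
    obtain ⟨a, s, rfl⟩ := IsLocalization.exists_mk'_eq p₁.primeCompl z
    obtain ⟨a, rfl⟩ := Ideal.Quotient.mk_surjective a
    obtain ⟨t, ht⟩ := Ideal.Quotient.mk_surjective s.1
    have htp : t ∈ p.primeCompl := fun htp => s.2 (by rw [← ht]; exact hp.ge htp)
    refine ⟨IsLocalization.mk' _ a ⟨t, htp⟩, ?_⟩
    rw [Localization.localRingHom_mk']
    congr 1
    exact Subtype.ext ht
  have hker : RingHom.ker π ≤ nilradical (Localization.AtPrime p) := fun z hz => by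
    obtain ⟨a, s, rfl⟩ := IsLocalization.exists_mk'_eq p.primeCompl z
    rw [RingHom.mem_ker, Localization.localRingHom_mk', IsLocalization.mk'_eq_zero_iff] at hz
    obtain ⟨⟨t, ht⟩, hta⟩ := hz
    obtain ⟨t, rfl⟩ := Ideal.Quotient.mk_surjective t
    rw [← map_mul, Ideal.Quotient.eq_zero_iff_mem] at hta
    obtain ⟨n, hn⟩ := mem_nilradical.mp hta
    have htp : t ∈ p.primeCompl := fun htp => ht (hp.ge htp)
    refine mem_nilradical.mpr ⟨n, ?_⟩
    rw [← IsLocalization.mk'_pow, IsLocalization.mk'_eq_zero_iff]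
    exact ⟨⟨t ^ n, pow_mem htp n⟩, by rw [← mul_pow]; exact hn⟩
  have hu : CAlg2.IsGeomUnibranch (Localization.AtPrime p₁) :=
    Groth.L07.Chevalley.isGeomUnibranch_of_surjective π hπ hker h
  haveI : _root_.IsReduced R₁ := (Ideal.isRadical_iff_quotient_reduced _).mp (Ideal.radical_isRadical _)
  haveI : _root_.IsReduced (Localization.AtPrime p₁) :=
    isReduced_localizationPreserves p₁.primeCompl (Localization.AtPrime p₁) inferInstance
  haveI : IsDomain (CAlg2.red (Localization.AtPrime p₁)) := hu.1.1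
  have hbot : nilradical (Localization.AtPrime p₁) = ⊥ := nilradical_eq_zero _
  exact ⟨((Ideal.quotEquivOfEq hbot).trans (RingEquiv.quotientBot _)).symm.toMulEquiv.isDomain
    (CAlg2.red (Localization.AtPrime p₁)), hu⟩

end Algebra

variable {X Y : Scheme.{u}}

/-- A geometrically pointwise integral point is a point with integral local ring. -/
theorem isDomain_stalk_of_geomPtIntegral {k : Type u} [Field k] {F : Scheme.{u}} (g : F ⟶ Spec (CommRingCat.of k))
    (a : F) (h : FBase.IsGeomPtIntegralAt g a) : IsDomain (F.presheaf.stalk a) := by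
  haveI : IsIso (Spec.map (CommRingCat.ofHom (algebraMap k k))) := by
    rw [show CommRingCat.ofHom (algebraMap k k) = 𝟙 (CommRingCat.of k) from rfl, Spec.map_id]
    infer_instance
  haveI : IsIso (FBase.bcπ g k) := by unfold FBase.bcπ; infer_instance
  let b := (inv (FBase.bcπ g k)).base a
  have hb : (FBase.bcπ g k).base b = a := by
    rw [← Scheme.Hom.comp_apply, IsIso.inv_hom_id]; rfl
  haveI := h k b hb
  have : IsDomain (F.presheaf.stalk ((FBase.bcπ g k).base b)) :=
    (asIso ((FBase.bcπ g k).stalkMap b)).commRingCatIsoToRingEquiv.toMulEquiv.isDomain _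
  rwa [hb] at this

/-- A point with integral local ring has a unique maximal generization. -/
theorem eq_of_maximal_of_isDomain_stalk {F : Scheme.{u}} (a : F) [IsDomain (F.presheaf.stalk a)] (z₁ z₂ : F)
    (h₁ : z₁ ⤳ a) (h₂ : z₂ ⤳ a) (hm₁ : ∀ q, q ⤳ z₁ → q = z₁) (hm₂ : ∀ q, q ⤳ z₂ → q = z₂) : z₁ = z₂ := by
  let g₀ : Spec (F.presheaf.stalk a) := (⟨⊥, Ideal.isPrime_bot⟩ : PrimeSpectrum (F.presheaf.stalk a))
  have key : ∀ z, z ⤳ a → F.fromSpecStalk a g₀ ⤳ z := fun z hz => by
    obtain ⟨w, rfl⟩ := (Scheme.range_fromSpecStalk (X := F) (x := a)).ge hz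
    exact ((PrimeSpectrum.le_iff_specializes g₀ w).mp bot_le).map (F.fromSpecStalk a).continuous
  exact (hm₁ _ (key z₁ h₁)).symm.trans (hm₂ _ (key z₂ h₂))

/-- A point with geometrically pointwise integral fibre lies on one component of its fibre. -/
theorem eq_of_generic_of_geomPtIntegral (f : X ⟶ Y) (x : X)
    (hint : FBase.IsGeomPtIntegralAt (f.fiberToSpecResidueField (f.base x)) (f.asFiber x)) (z₁ z₂ : X)
    (h₁ : z₁ ⤳ x) (h₂ : z₂ ⤳ x) (e₁ : f z₁ = f x) (e₂ : f z₂ = f x)
    (hm₁ : ∀ z', f z' = f z₁ → z' ⤳ z₁ → z' = z₁) (hm₂ : ∀ z', f z' = f z₂ → z' ⤳ z₂ → z' = z₂) : z₁ = z₂ := by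
  haveI := isDomain_stalk_of_geomPtIntegral _ _ hint
  have hι := (f.fiberι (f.base x)).isEmbedding
  have hmem : ∀ z, f z = f x → z ∈ Set.range (f.fiberι (f.base x)).base := fun z hz => by
    rw [f.range_fiberι]; exact hz
  have hval : ∀ b : f.fiber (f.base x), f ((f.fiberι (f.base x)).base b) = f x := fun b =>
    (f.range_fiberι (f.base x)).subset ⟨b, rfl⟩
  obtain ⟨b₁, rfl⟩ := hmem z₁ e₁
  obtain ⟨b₂, rfl⟩ := hmem z₂ e₂
  have hx : (f.fiberι (f.base x)).base (f.asFiber x) = x := f.fiberι_asFiber x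
  refine congrArg _ (eq_of_maximal_of_isDomain_stalk (f.asFiber x) b₁ b₂ ?_ ?_ ?_ ?_)
  · exact hι.isInducing.specializes_iff.mp (by rw [hx]; exact h₁)
  · exact hι.isInducing.specializes_iff.mp (by rw [hx]; exact h₂)
  · exact fun q hq => hι.injective (hm₁ _ ((hval q).trans (hval b₁).symm) (hq.map (f.fiberι _).continuous))
  · exact fun q hq => hι.injective (hm₂ _ ((hval q).trans (hval b₂).symm) (hq.map (f.fiberι _).continuous))

/-- Geometrically pointwise integral points are geometrically reduced. -/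
theorem isGeomReducedAt_of_geomPtIntegral {k : Type u} [Field k] {F : Scheme.{u}} (g : F ⟶ Spec (CommRingCat.of k))
    (a : F) (h : FBase.IsGeomPtIntegralAt g a) : FBase.IsGeomReducedAt g a := fun K _ _ x' hx' => by
  haveI := h K x' hx'
  infer_instance

/-- Over a geometrically unibranch point, a point with geometrically pointwise integral fibre at whose
fibre's generic point the morphism is universally open lies on one component. -/
theorem eq_of_maximal_of_geomPtIntegral [IsLocallyNoetherian Y] (f : X ⟶ Y) [LocallyOfFiniteType f] (x : X)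
    (hopen : ∀ z : ↥(f.fiber (f.base x)), f.asFiber x ∈ closure {z} →
      (∀ z' : ↥(f.fiber (f.base x)), z ∈ closure {z'} → z' = z) →
      EGA43.IsUnivOpenAt f ((f.fiberι (f.base x)).base z))
    (hint : FBase.IsGeomPtIntegralAt (f.fiberToSpecResidueField (f.base x)) (f.asFiber x))
    (hY : CAlg2.IsGeomUnibranch (Y.presheaf.stalk (f.base x)))
    (ξ ξ' : X) (hξ : ξ ⤳ x) (hξ' : ξ' ⤳ x) (hm : ∀ q, q ⤳ ξ → q = ξ) (hm' : ∀ q, q ⤳ ξ' → q = ξ') :
    ξ = ξ' := by
  have hred := isGeomReducedAt_of_geomPtIntegral _ _ hint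
  obtain ⟨-, z, hξz, hzx, hfz, hzgen, -⟩ := component_data f x hopen hred ξ hξ hm
  obtain ⟨-, z', hξz', hzx', hfz', hzgen', -⟩ := component_data f x hopen hred ξ' hξ' hm'
  obtain rfl := eq_of_generic_of_geomPtIntegral f x hint z z' hzx hzx' hfz hfz' hzgen hzgen'
  obtain ⟨V, hV, hyV, -⟩ := exists_isAffineOpen_mem_and_subset (X := Y) (x := f x) (U := ⊤) trivial
  obtain ⟨W, hW, hxW, e⟩ := exists_isAffineOpen_mem_and_subset (X := X) (x := x) (U := f ⁻¹ᵁ V) hyV
  replace e : W ≤ f ⁻¹ᵁ V := e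
  haveI : IsNoetherianRing Γ(Y, V) := IsLocallyNoetherian.component_noetherian ⟨V, hV⟩
  letI := (f.appLE V W e).hom.toAlgebra
  have halg : algebraMap Γ(Y, V) Γ(X, W) = (f.appLE V W e).hom := rfl
  haveI : Algebra.FiniteType Γ(Y, V) Γ(X, W) := RingHom.finiteType_algebraMap.mp (f.finiteType_appLE hV hW e)
  let R := Γ(Y, V)
  let C := Γ(X, W)
  let 𝔮 := (hW.primeIdealOf ⟨x, hxW⟩).asIdeal
  let R₁ := R ⧸ nilradical R
  let C₁ := TensorProduct R R₁ C
  let j : C →+* C₁ := (Algebra.TensorProduct.includeRight : C →ₐ[R] C₁).toRingHom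
  have hj : Function.Surjective j := includeRight_quot_surjective _
  have hnil : ∀ (𝔓 : Ideal C) [𝔓.IsPrime], nilradical R ≤ 𝔓.comap (algebraMap R C) := fun 𝔓 _ r hr =>
    nilradical_le_prime 𝔓 (mem_nilradical.mpr ((mem_nilradical.mp hr).map (algebraMap R C)))
  obtain ⟨𝔮', _, h𝔮'⟩ := exists_over_quot (nilradical R) 𝔮 (hnil 𝔮)
  obtain ⟨hflat, hred'⟩ := flat_quot_nilradical 𝔮 (geomRedAt f x hV hW e hxW halg hred)
    (fun 𝔷 _ hle h𝔷 hgen B _ _ _ _ P hP _ => isOpenAt_chart f x hV hW e hxW halg hopen 𝔷 hle h𝔷 hgen B P hP) 𝔮' h𝔮'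
  have hzW : z ∈ W := hzx.mem_open W.2 hxW
  obtain ⟨𝔷, _, h𝔷⟩ := exists_over_quot (nilradical R) (hW.primeIdealOf ⟨z, hzW⟩).asIdeal (hnil _)
  let jX : Spec (CommRingCat.of C₁) ⟶ X := Spec.map (CommRingCat.ofHom j) ≫ hW.fromSpec
  haveI : IsClosedImmersion (Spec.map (CommRingCat.ofHom j)) := IsClosedImmersion.spec_of_surjective _ hj
  have hpt : ∀ (u : X) (hu : u ∈ W) (Q : PrimeSpectrum C₁), Q.asIdeal.comap j = (hW.primeIdealOf ⟨u, hu⟩).asIdeal →
      jX.base Q = u := fun u hu Q hQ =>
    (congrArg hW.fromSpec.base (PrimeSpectrum.ext hQ : _ = hW.primeIdealOf ⟨u, hu⟩)).trans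
      (hW.fromSpec_primeIdealOf ⟨u, hu⟩)
  have hjz : jX.base ⟨𝔷, inferInstance⟩ = z := hpt z hzW _ h𝔷
  have hjx : jX.base ⟨𝔮', inferInstance⟩ = x := hpt x hxW _ h𝔮'
  have hspec : ∀ a b : PrimeSpectrum C₁, jX.base a ⤳ jX.base b ↔ a.asIdeal ≤ b.asIdeal := fun a b =>
    jX.isEmbedding.isInducing.specializes_iff.trans (PrimeSpectrum.le_iff_specializes a b).symm
  let iR : Spec (CommRingCat.of R₁) ⟶ Y := Spec.map (CommRingCat.ofHom (algebraMap R R₁)) ≫ hV.fromSpec
  haveI : IsClosedImmersion (Spec.map (CommRingCat.ofHom (algebraMap R R₁))) :=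
    IsClosedImmersion.spec_of_surjective _ Ideal.Quotient.mk_surjective
  have hsq : jX ≫ f = Spec.map (CommRingCat.ofHom (algebraMap R₁ C₁)) ≫ iR := by
    have keyφ : Spec.map (CommRingCat.ofHom (algebraMap R C)) ≫ hV.fromSpec = hW.fromSpec ≫ f := by
      rw [← IsAffineOpen.SpecMap_appLE_fromSpec f hV hW e, halg]; rfl
    simp only [jX, iR, Category.assoc]
    rw [← keyφ, ← Spec.map_comp_assoc, ← Spec.map_comp_assoc]
    congr 2
    refine CommRingCat.hom_ext (RingHom.ext fun r => ?_)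
    show j (algebraMap R C r) = algebraMap R₁ C₁ (algebraMap R R₁ r)
    rw [← IsScalarTower.algebraMap_apply R R₁ C₁]
    exact (Algebra.TensorProduct.includeRight : C →ₐ[R] C₁).commutes r
  have hbase : ∀ w : PrimeSpectrum C₁, f (jX.base w) = iR.base (PrimeSpectrum.comap (algebraMap R₁ C₁) w) := fun w => by
    rw [← Scheme.Hom.comp_apply, hsq, Scheme.Hom.comp_apply]; rfl
  have h𝔷le : 𝔷 ≤ 𝔮' := (hspec ⟨𝔷, inferInstance⟩ ⟨𝔮', inferInstance⟩).mp (by rw [hjz, hjx]; exact hzx)
  have h𝔷p : 𝔷.comap (algebraMap R₁ C₁) = 𝔮'.comap (algebraMap R₁ C₁) := by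
    have h := hfz
    rw [← hjz, ← hjx, hbase, hbase] at h
    exact congrArg PrimeSpectrum.asIdeal (iR.isEmbedding.injective h)
  have hmin : ∀ Q : Ideal C₁, Q.IsPrime → Q ≤ 𝔷 → Q.comap (algebraMap R₁ C₁) = 𝔷.comap (algebraMap R₁ C₁) →
      Q = 𝔷 := fun Q hQ hle hp => by
    have h1 : jX.base ⟨Q, hQ⟩ = z := hzgen _ (by
        rw [← hjz, hbase, hbase]; exact congrArg iR.base (PrimeSpectrum.ext hp))
      (by rw [← hjz]; exact (hspec ⟨Q, hQ⟩ ⟨𝔷, inferInstance⟩).mpr hle)
    exact congrArg PrimeSpectrum.asIdeal (jX.isEmbedding.injective (h1.trans hjz.symm))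
  haveI : Algebra.FinitePresentation R₁ C₁ := Algebra.FinitePresentation.of_finiteType.mp inferInstance
  haveI : Module.Flat R₁ (Localization.AtPrime 𝔷) :=
    (flat_localization_iff (R := R₁) 𝔷.primeCompl (Localization.AtPrime 𝔷)).mpr (Groth.L20.flat_localizedModule_of_le
      (show 𝔮'.primeCompl ≤ 𝔷.primeCompl from fun c hc hcP => hc (h𝔷le hcP))
      ((flat_localization_iff 𝔮'.primeCompl (Localization.AtPrime 𝔮')).mp hflat))
  haveI := isSmoothAt_of_geomRedAt_generic 𝔷 (geomRedAt_of_le 𝔮' hred' 𝔷 h𝔷le h𝔷p) hmin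
  obtain ⟨g, hg, hgs⟩ := Algebra.IsSmoothAt.exists_notMem_isStandardSmooth R₁ 𝔷
  haveI := hgs
  -- the base
  let p := (hV.primeIdealOf ⟨f x, e hxW⟩).asIdeal
  let p₁ := 𝔷.comap (algebraMap R₁ C₁)
  have hp₁ : p₁.comap (Ideal.Quotient.mk (nilradical R)) = p := by
    have hpq : p = 𝔮.comap (algebraMap R C) :=
      congr($(IsAffineOpen.comap_primeIdealOf_appLE V hV W hW e hxW).1).symm
    rw [hpq, show p₁ = 𝔮'.comap (algebraMap R₁ C₁) from h𝔷p, ← h𝔮', Ideal.comap_comap, Ideal.comap_comap]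
    congr 1
    refine RingHom.ext fun r => ?_
    show algebraMap R₁ C₁ (algebraMap R R₁ r) = j (algebraMap R C r)
    rw [← IsScalarTower.algebraMap_apply R R₁ C₁]
    exact ((Algebra.TensorProduct.includeRight : C →ₐ[R] C₁).commutes r).symm
  have hup : CAlg2.IsGeomUnibranch (Localization.AtPrime p) := by
    letI := Y.presheaf.algebra_section_stalk ⟨f x, e hxW⟩
    haveI : IsLocalization.AtPrime (Y.presheaf.stalk (f x)) p := hV.isLocalization_stalk ⟨f x, e hxW⟩
    let ε := (IsLocalization.algEquiv p.primeCompl (Y.presheaf.stalk (f x)) (Localization.AtPrime p)).toRingEquiv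
    refine Groth.L07.Chevalley.isGeomUnibranch_of_surjective ε.toRingHom ε.surjective ?_ hY
    intro a ha
    rw [ε.injective ((RingHom.mem_ker.mp ha).trans (map_zero ε).symm)]
    exact zero_mem _
  obtain ⟨hd, hu⟩ := geomUnibranch_quot_nilradical p hup p₁ hp₁
  haveI := isDomain_localization_of_smooth_geomUnibranch p₁ hd hu 𝔷 rfl g hg
  let P₀ : PrimeSpectrum C₁ := ⟨RingHom.ker (algebraMap C₁ (Localization.AtPrime 𝔷)), RingHom.ker_isPrime _⟩
  have key : ∀ η : X, η ⤳ z → (∀ q, q ⤳ η → q = η) → jX.base P₀ = η := fun η hη hηm => by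
    have hηW : η ∈ W := hη.mem_open W.2 hzW
    obtain ⟨Q, _, hQ⟩ := exists_over_quot (nilradical R) (hW.primeIdealOf ⟨η, hηW⟩).asIdeal (hnil _)
    have hjQ : jX.base ⟨Q, inferInstance⟩ = η := hpt η hηW _ hQ
    have hQle : Q ≤ 𝔷 := (hspec ⟨Q, inferInstance⟩ ⟨𝔷, inferInstance⟩).mp (by rw [hjQ, hjz]; exact hη)
    refine hηm _ ?_
    rw [← hjQ]
    refine (hspec P₀ ⟨Q, inferInstance⟩).mpr fun a (ha : algebraMap C₁ (Localization.AtPrime 𝔷) a = 0) => ?_
    obtain ⟨s, hs⟩ := (IsLocalization.map_eq_zero_iff 𝔷.primeCompl _ _).mp ha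
    exact ((inferInstance : Q.IsPrime).mem_or_mem (hs ▸ Q.zero_mem)).resolve_left fun h => s.2 (hQle h)
  exact (key ξ hξz hm).symm.trans (key ξ' hξz' hm')

end Groth.L07.FlatGeomReduced
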