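import Groth.Agent.L07.GISpread
import Groth.Agent.L07.GeomRedPerfect
import Groth.Agent.L07.GeomPtIntegral
import Mathlib.AlgebraicGeometry.Geometrically.Reduced

/-!
Geometric pointwise integrality in terms of the numbers of components (EGA IV 4.6.?).
-/

universe u

open CategoryTheory CategoryTheory.Limits AlgebraicGeometry Topology

namespace Groth.L07.GISpread

set_option autoImplicit false
set_option linter.style.haveILetI false
set_option maxSynthPendingDepth 3
set_option backward.isDefEq.respectTransparency.types false
set_option backward.isDefEq.respectTransparency false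

/-- A Noetherian space has as many irreducible as connected components iff no point is on two components. -/
theorem card_eq_iff_forall_not_multi {T : Type*} [TopologicalSpace T] [TopologicalSpace.NoetherianSpace T] :
    Nat.card ↥(irreducibleComponents T) = Nat.card (ConnectedComponents T) ↔ ∀ z : T, ¬ Multi z := by
  haveI : Finite (irreducibleComponents T) := TopologicalSpace.NoetherianSpace.finite_irreducibleComponents.to_subtype
  let φ : irreducibleComponents T → ConnectedComponents T := fun C => ConnectedComponents.mk C.2.1.nonempty.some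
  have hφ : ∀ (C : irreducibleComponents T) (z : T), z ∈ (C : Set T) → φ C = ConnectedComponents.mk z := fun C z hz =>
    ConnectedComponents.coe_eq_coe'.mpr
      (C.2.1.isConnected.isPreconnected.subset_connectedComponent hz C.2.1.nonempty.some_mem)
  have hsurj : Function.Surjective φ := by
    intro c
    obtain ⟨z, rfl⟩ := ConnectedComponents.surjective_coe c
    exact ⟨⟨_, irreducibleComponent_mem_irreducibleComponents z⟩, hφ _ z mem_irreducibleComponent⟩
  haveI : Finite (ConnectedComponents T) := Finite.of_surjective φ hsurj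
  constructor
  · intro hcard z hz
    obtain ⟨i, hi, j, hj, hne, hzi, hzj⟩ := hz
    have hinj : Function.Injective φ := ((Nat.bijective_iff_surjective_and_card φ).mpr ⟨hsurj, hcard⟩).injective
    exact hne (congrArg Subtype.val (@hinj ⟨i, hi⟩ ⟨j, hj⟩ ((hφ ⟨i, hi⟩ z hzi).trans (hφ ⟨j, hj⟩ z hzj).symm)))
  · intro hone
    refine Nat.card_congr (Equiv.ofBijective φ ⟨fun C C' h => ?_, hsurj⟩)
    have hcl : IsClopen (C : Set T) := by
      refine ⟨isClosed_of_mem_irreducibleComponents _ C.2, ?_⟩
      rw [← isClosed_compl_iff]
      have hcompl : ((C : Set T))ᶜ = ⋃ W ∈ {W : irreducibleComponents T | W ≠ C}, (W : Set T) := by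
        ext y
        simp only [Set.mem_compl_iff, Set.mem_iUnion, Set.mem_setOf_eq, exists_prop]
        constructor
        · intro hy
          exact ⟨⟨_, irreducibleComponent_mem_irreducibleComponents y⟩,
            fun e => hy (e ▸ mem_irreducibleComponent), mem_irreducibleComponent⟩
        · rintro ⟨W, hne, hyW⟩ hyC
          exact hone y ⟨W, W.2, C, C.2, fun e => hne (Subtype.ext e), hyW, hyC⟩
      rw [hcompl]
      exact (Set.toFinite _).isClosed_biUnion fun W _ => isClosed_of_mem_irreducibleComponents _ W.2
    have hz' : C'.2.1.nonempty.some ∈ (C : Set T) := by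
      refine hcl.connectedComponent_subset C.2.1.nonempty.some_mem ?_
      exact ConnectedComponents.coe_eq_coe'.mp h.symm
    by_contra hne
    exact hone _ ⟨C, C.2, C', C'.2, fun e => hne (Subtype.ext e), hz', C'.2.1.nonempty.some_mem⟩

/-- Geometric pointwise integrality, and the numbers of geometric components. -/
theorem forall_gi_iff_card {k Ω : Type u} [Field k] [Field Ω] [Algebra k Ω] [IsAlgClosed Ω]
    {X : Scheme.{u}} (f : X ⟶ Spec (CommRingCat.of k)) [LocallyOfFiniteType f] [QuasiCompact f] :
    (∀ x : X, FBase.IsGeomPtIntegralAt f x) ↔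
      (GeometricallyReduced f ∧
        Nat.card ↥(irreducibleComponents ↥(FBase.bc f Ω)) = Nat.card (ConnectedComponents ↥(FBase.bc f Ω))) := by
  haveI : LocallyOfFiniteType (FBase.bcStr f Ω) := MorphismProperty.pullback_snd _ _ inferInstance
  haveI : QuasiCompact (FBase.bcStr f Ω) := MorphismProperty.pullback_snd _ _ inferInstance
  haveI : IsLocallyNoetherian (FBase.bc f Ω) := LocallyOfFiniteType.isLocallyNoetherian (FBase.bcStr f Ω)
  haveI : CompactSpace (FBase.bc f Ω) := QuasiCompact.compactSpace_of_compactSpace (FBase.bcStr f Ω)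
  haveI : IsNoetherian (FBase.bc f Ω) := {}
  rw [card_eq_iff_forall_not_multi]
  have hdom : (∀ x : X, FBase.IsGeomPtIntegralAt f x) ↔ ∀ z : ↥(FBase.bc f Ω), IsDomain ((FBase.bc f Ω).presheaf.stalk z) :=
    ⟨fun h z => h _ Ω z rfl, fun h x => (Groth.L07.GeomPtIntegral.isGeomPtIntegralAt_iff_algClosed f Ω x).mpr
      fun z _ => h z⟩
  rw [hdom]
  constructor
  · intro h
    haveI : ∀ z : ↥(FBase.bc f Ω), _root_.IsReduced ((FBase.bc f Ω).presheaf.stalk z) := fun z =>
      ((isDomain_stalk_iff z).mp (h z)).1
    haveI := isReduced_of_isReduced_stalk (FBase.bc f Ω)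
    exact ⟨Groth.L07.GeomRedPerfect.geometricallyReduced_of_bc_perfect (Ω := Ω) f,
      fun z => ((isDomain_stalk_iff z).mp (h z)).2⟩
  · rintro ⟨hred, hone⟩ z
    haveI : AlgebraicGeometry.IsReduced (FBase.bc f Ω) :=
      hred.geometrically_isReduced _ _ _ (IsPullback.of_hasPullback f (Spec.map (CommRingCat.ofHom (algebraMap k Ω))))
    exact (isDomain_stalk_iff z).mpr ⟨inferInstance, hone z⟩

end Groth.L07.GISpread
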