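import Groth.Agent.L07.GISpread
import Groth.Agent.L02.Cons.CMFibre
import Groth.Agent.L20.GenericFreeness

/-!
Constructibility of the points with geometrically pointwise integral fibre (EGA IV 9.7.7).
-/

universe u

open CategoryTheory CategoryTheory.Limits AlgebraicGeometry Topology Groth.L07.Spread Groth.L07.AtGeom

namespace Groth.L07.GISpread

set_option autoImplicit false
set_option linter.style.haveILetI false
set_option maxSynthPendingDepth 3
set_option backward.isDefEq.respectTransparency.types false
set_option backward.isDefEq.respectTransparency false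

/-- Geometric pointwise integrality as a fibrewise property of points. -/
def giSet : L02.Cons.PtProp.{u} := fun R A _ _ _ =>
  {q | AtGeom (fun R _ => IsDomain R) (Spec.map (CommRingCat.ofHom (algebraMap R A))) q}

theorem giSet_bc : L02.Cons.PtProp.BC.{u} giSet := by
  intro R A R' A' _ _ _ _ _ _ _ _ _ _ _ _ _
  ext q
  exact atGeom_baseChange admissible_isDomain
    (isPullback_SpecMap_of_isPushout _ _ _ _ (CommRingCat.isPushout_of_isPushout R R' A A')).flip q

theorem giSet_generic : L02.Cons.PtProp.Generic.{u} giSet := by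
  intro R A _ _ _ _ _ _
  obtain ⟨f₁, hf₁, hfree, -⟩ := Groth.L20.GF.exists_free_and_nearlyFP (R := R) (S := A) A
  let Rf := Localization.Away f₁
  let B := TensorProduct R Rf A
  let π : Spec (CommRingCat.of A) ⟶ Spec (CommRingCat.of R) := Spec.map (CommRingCat.ofHom (algebraMap R A))
  haveI : LocallyOfFiniteType π := HasRingHomProperty.Spec_iff.mpr (RingHom.finiteType_algebraMap.mpr inferInstance)
  obtain ⟨a, ha, D, hD, hmulti⟩ := exists_forall_multi π
  refine ⟨f₁ * a, mul_ne_zero hf₁ ha, ?_⟩
  haveI : LocallyOfFinitePresentation π := HasRingHomProperty.Spec_iff.mpr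
    (RingHom.finitePresentation_algebraMap.mpr (Algebra.FinitePresentation.of_finiteType.1 inferInstance))
  let g : Spec (CommRingCat.of B) ⟶ Spec (CommRingCat.of Rf) := Spec.map (CommRingCat.ofHom (algebraMap Rf B))
  letI : Algebra A B := Algebra.TensorProduct.rightAlgebra
  let p : Spec (CommRingCat.of B) ⟶ Spec (CommRingCat.of A) := Spec.map (CommRingCat.ofHom (algebraMap A B))
  have sq : IsPullback p g π (Spec.map (CommRingCat.ofHom (algebraMap R Rf))) :=
    (isPullback_SpecMap_of_isPushout _ _ _ _ (CommRingCat.isPushout_of_isPushout R Rf A B)).flip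
  haveI : Flat g := Flat.SpecMap_iff.mpr (RingHom.flat_algebraMap_iff.mpr inferInstance)
  haveI : LocallyOfFinitePresentation g := MorphismProperty.of_isPullback sq inferInstance
  haveI : IsOpenImmersion (Spec.map (CommRingCat.ofHom (algebraMap R Rf))) := IsOpenImmersion.of_isLocalization f₁
  haveI : IsOpenImmersion p := MorphismProperty.of_isPullback sq.flip inferInstance
  let W : Set (Spec (CommRingCat.of B)) :=
    {b | (g.stalkMap b).hom.Flat ∧ FBase.IsGeomReducedAt (g.fiberToSpecResidueField (g.base b)) (g.asFiber b)}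
  have hW : IsOpen (p '' W) := p.isOpenEmbedding.isOpenMap _ (Groth.L07.FlatGeomReduced.isOpen_flat_geomReduced g)
  have hred : ∀ q : Spec (CommRingCat.of A), π q ∈ PrimeSpectrum.basicOpen f₁ →
      (AtGeom (fun R _ => _root_.IsReduced R) π q ↔ q ∈ p '' W) := by
    intro q hq
    have h1 : π q ∈ Set.range (Spec.map (CommRingCat.ofHom (algebraMap R Rf))) := by
      show PrimeSpectrum.comap (algebraMap R A) q ∈ Set.range (PrimeSpectrum.comap (algebraMap R Rf))
      rw [PrimeSpectrum.localization_away_comap_range Rf f₁]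
      exact hq
    obtain ⟨z, hz⟩ := h1
    obtain ⟨b, rfl, -⟩ := Scheme.exists_preimage_of_isPullback sq q z hz.symm
    rw [p.isOpenEmbedding.injective.mem_set_image, ← atGeom_baseChange admissible_isReduced sq b,
      atGeom_isReduced_iff]
    exact ⟨fun h => ⟨Flat.stalkMap g b, h⟩, fun h => h.2⟩
  have heq : giSet R A ∩ PrimeSpectrum.comap (algebraMap R A) ⁻¹' (PrimeSpectrum.basicOpen (f₁ * a) : Set (PrimeSpectrum R)) =
      (p '' W \ D) ∩ PrimeSpectrum.comap (algebraMap R A) ⁻¹' (PrimeSpectrum.basicOpen (f₁ * a) : Set (PrimeSpectrum R)) := by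
    ext q
    refine and_congr_left fun hq => ?_
    have hqf : π q ∈ PrimeSpectrum.basicOpen f₁ := fun h => hq (Ideal.mul_mem_right _ _ h)
    have hqa : a ∉ (π q).asIdeal := fun h => hq (Ideal.mul_mem_left _ _ h)
    have hne : ∀ (L : Type u) [Field L] (φ : CommRingCat.of R ⟶ CommRingCat.of L) (z : ↥(pullback π (Spec.map φ))),
        pullback.fst π (Spec.map φ) z = q → φ.hom a ≠ 0 := fun L _ φ z hz h0 => by
      refine hqa ?_
      rw [← hz, ← Scheme.Hom.comp_apply, pullback.condition, Scheme.Hom.comp_apply]
      show φ.hom a ∈ (pullback.snd π (Spec.map φ) z).asIdeal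
      rw [h0]
      exact zero_mem _
    show AtGeom (fun R _ => IsDomain R) π q ↔ q ∈ p '' W ∧ q ∉ D
    rw [← hred q hqf]
    constructor
    · intro h
      refine ⟨fun L _ _ g z hz => ((isDomain_stalk_iff z).mp (h L g z hz)).1, fun hqD => ?_⟩
      let L := AlgebraicClosure ((Spec (CommRingCat.of A)).residueField q)
      let v : Spec (CommRingCat.of L) ⟶ Spec (CommRingCat.of A) :=
        Spec.map (CommRingCat.ofHom (algebraMap ((Spec (CommRingCat.of A)).residueField q) L)) ≫
          (Spec (CommRingCat.of A)).fromSpecResidueField q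
      obtain ⟨φ, hφ⟩ := Spec.map_surjective (v ≫ π)
      let s : Spec (CommRingCat.of L) ⟶ pullback π (Spec.map φ) :=
        pullback.lift v (𝟙 _) (by rw [Category.id_comp, hφ])
      have hs : pullback.fst π (Spec.map φ) (s (IsLocalRing.closedPoint L)) = q := by
        rw [← Scheme.Hom.comp_apply, pullback.lift_fst, Scheme.Hom.comp_apply]
        exact Scheme.fromSpecResidueField_apply _ _
      letI : Algebra R L := φ.hom.toAlgebra
      have h2 := ((isDomain_stalk_iff _).mp (h L (Spec.map φ) (s (IsLocalRing.closedPoint L)) hs)).2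
      exact h2 ((hmulti L (hne L φ _ hs) (s (IsLocalRing.closedPoint L))).mpr (show pullback.fst π (Spec.map φ) _ ∈ D from
        hs.symm ▸ hqD))
    · rintro ⟨hr, hqD⟩ L _ _ gL z hz
      obtain ⟨φ, rfl⟩ := Spec.map_surjective gL
      letI : Algebra R L := φ.hom.toAlgebra
      refine (isDomain_stalk_iff z).mpr ⟨hr L _ z hz, fun hm => hqD ?_⟩
      have h2 : pullback.fst π (Spec.map φ) z ∈ D := (hmulti L (hne L φ z hz) z).mp hm
      rwa [hz] at h2
  rw [heq]
  haveI : IsNoetherianRing A := Algebra.FiniteType.isNoetherianRing R A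
  exact ((Groth.L06.Constr.isConstructible_of_isOpen (X := PrimeSpectrum A) hW).sdiff hD).inter
    (Groth.L06.Constr.isConstructible_of_isOpen ((PrimeSpectrum.basicOpen (f₁ * a)).2.preimage
      (PrimeSpectrum.continuous_comap _)))

/-- The points with geometrically pointwise integral fibre form a locally constructible set. -/
theorem isLocallyConstructible_gi {X Y : Scheme.{u}} (f : X ⟶ Y) [LocallyOfFinitePresentation f] :
    IsLocallyConstructible {x : X | FBase.IsGeomPtIntegralAt (f.fiberToSpecResidueField (f.base x)) (f.asFiber x)} := by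
  refine L02.Cons.isLocallyConstructible_source f _ fun V hV U hU hUV => ?_
  algebraize [(f.appLE V U hUV).hom]
  haveI : Algebra.FinitePresentation Γ(Y, V) Γ(X, U) := f.finitePresentation_appLE hV hU hUV
  have h := L02.Cons.isConstructible giSet_bc giSet_generic Γ(Y, V) Γ(X, U)
  refine (?_ : hU.fromSpec ⁻¹' _ = giSet Γ(Y, V) Γ(X, U)) ▸ h
  ext q
  show FBase.IsGeomPtIntegralAt _ _ ↔ AtGeom (fun R _ => IsDomain R) (Spec.map (f.appLE V U hUV)) q
  rw [← atGeom_isDomain_iff, ← atGeom_openImmersion_comp admissible_isDomain hU.fromSpec f q,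
    ← IsAffineOpen.SpecMap_appLE_fromSpec f hV hU hUV, ← atGeom_comp_openImmersion admissible_isDomain]

end Groth.L07.GISpread
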