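import Groth.Agent.L07.GIConstr
import Groth.Agent.L07.DVRProper
import Groth.Agent.L07.GeomReducedDescent
import Groth.Agent.L18.DominatingDVR
import Groth.Agent.L06.Constr
import Groth.Agent.L12.CotTSmooth

/-!
Openness of the points with geometrically pointwise integral fibre of a flat morphism (EGA IV 12.1.1).
-/

universe u

open CategoryTheory CategoryTheory.Limits AlgebraicGeometry Topology Groth.L07.AtGeom TensorProduct

namespace Groth.L07.GISpread

set_option autoImplicit false
set_option linter.style.haveILetI false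
set_option maxSynthPendingDepth 3
set_option backward.isDefEq.respectTransparency.types false
set_option backward.isDefEq.respectTransparency false

/-- The localization at a prime is a domain, elementwise. -/
def DomAt {S : Type*} [CommRing S] (Q : Ideal S) : Prop :=
  ∀ a b s : S, s ∉ Q → s * (a * b) = 0 → (∃ t ∉ Q, t * a = 0) ∨ ∃ t ∉ Q, t * b = 0

theorem domAt_iff {S : Type*} [CommRing S] (Q : Ideal S) [Q.IsPrime] :
    IsDomain (Localization.AtPrime Q) ↔ DomAt Q := by
  have hz : ∀ a : S, algebraMap S (Localization.AtPrime Q) a = 0 ↔ ∃ t ∉ Q, t * a = 0 := fun a => by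
    rw [IsLocalization.map_eq_zero_iff Q.primeCompl]
    exact ⟨fun ⟨t, ht⟩ => ⟨t, t.2, ht⟩, fun ⟨t, h1, h2⟩ => ⟨⟨t, h1⟩, h2⟩⟩
  refine ⟨fun h a b s hs he => ?_, fun h => @NoZeroDivisors.to_isDomain _ _ _ ⟨fun {x y} hxy => ?_⟩⟩
  · rw [← hz, ← hz, ← mul_eq_zero, ← map_mul]
    exact (hz _).mpr ⟨s, hs, he⟩
  · obtain ⟨a, s, rfl⟩ := IsLocalization.exists_mk'_eq Q.primeCompl x
    obtain ⟨b, t, rfl⟩ := IsLocalization.exists_mk'_eq Q.primeCompl y
    rw [← IsLocalization.mk'_mul, IsLocalization.mk'_eq_zero_iff] at hxy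
    obtain ⟨⟨v, hv⟩, he⟩ := hxy
    exact (h a b v hv he).imp
      (fun ⟨t', h1, h2⟩ => (IsLocalization.mk'_eq_zero_iff _ _).mpr ⟨⟨t', h1⟩, h2⟩)
      (fun ⟨t', h1, h2⟩ => (IsLocalization.mk'_eq_zero_iff _ _).mpr ⟨⟨t', h1⟩, h2⟩)

theorem domAt_of_le {S : Type*} [CommRing S] {P Q : Ideal S} [P.IsPrime] [Q.IsPrime] (hle : P ≤ Q) (h : DomAt Q) :
    DomAt P := fun a b s hs he => by
  rcases h (s * a) b 1 ((Q.ne_top_iff_one).mp Ideal.IsPrime.ne_top') (by rw [one_mul, mul_assoc, he]) with
    ⟨t, ht, h0⟩ | ⟨t, ht, h0⟩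
  · exact Or.inl ⟨t * s, fun hm => (‹P.IsPrime›.mem_or_mem hm).elim (fun h' => ht (hle h')) hs,
      by rw [mul_assoc, h0]⟩
  · exact Or.inr ⟨t, fun hm => ht (hle hm), h0⟩

/-- The elementwise property is tested on sufficiently many subrings. -/
theorem domAt_of_models {S : Type u} [CommRing S] (Q : Ideal S) [Q.IsPrime]
    (h : ∀ a b s : S, ∃ (S₀ : Type u) (_ : CommRing S₀) (ι : S₀ →+* S), Function.Injective ι ∧ DomAt (Q.comap ι) ∧
      ∀ w ∈ ({a, b, s} : Set S), ∃ d ∉ Q, d * w ∈ Set.range ι) : DomAt Q := by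
  intro a b s hs he
  obtain ⟨S₀, _, ι, hι, hdom, hmem⟩ := h a b s
  obtain ⟨da, hda, a', ha⟩ := hmem a (by simp)
  obtain ⟨db, hdb, b', hb⟩ := hmem b (by simp)
  obtain ⟨ds, hds, s', hs'⟩ := hmem s (by simp)
  have h1 : s' ∉ Q.comap ι := fun hm => (‹Q.IsPrime›.mem_or_mem (hs' ▸ hm : ds * s ∈ Q)).elim hds hs
  have h2 : s' * (a' * b') = 0 := hι (by
    rw [map_mul, map_mul, ha, hb, hs', map_zero]
    linear_combination (ds * da * db) * he)
  rcases hdom a' b' s' h1 h2 with ⟨t, ht, h0⟩ | ⟨t, ht, h0⟩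
  · exact Or.inl ⟨ι t * da, fun hm => (‹Q.IsPrime›.mem_or_mem hm).elim ht hda,
      by rw [mul_assoc, ← ha, ← map_mul, h0, map_zero]⟩
  · exact Or.inr ⟨ι t * db, fun hm => (‹Q.IsPrime›.mem_or_mem hm).elim ht hdb,
      by rw [mul_assoc, ← hb, ← map_mul, h0, map_zero]⟩

/-- A Noetherian local ring is a domain if its quotient by a regular element of the maximal ideal is. -/
theorem isDomain_of_quotient {B : Type u} [CommRing B] [IsNoetherianRing B] [IsLocalRing B] (π : B)
    (hπ : π ∈ IsLocalRing.maximalIdeal B) (hreg : π ∈ nonZeroDivisors B) [(Ideal.span {π}).IsPrime] :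
    IsDomain B := by
  obtain ⟨Q, hQ, hle⟩ := Ideal.exists_minimalPrimes_le (J := Ideal.span {π}) (bot_le : (⊥ : Ideal B) ≤ _)
  haveI : Q.IsPrime := hQ.1.1
  have hbot : Q = ⊥ := by
    refine Submodule.eq_bot_of_le_smul_of_le_jacobson_bot (Ideal.span {π}) Q (IsNoetherian.noetherian _) ?_ ?_
    · intro q hq
      obtain ⟨r, rfl⟩ := Ideal.mem_span_singleton'.mp (hle hq)
      have hπQ : π ∉ Q := fun h => notMem_nonZeroDivisors_of_mem_mem_minimalPrimes h hQ hreg
      rw [mul_comm]
      exact Submodule.smul_mem_smul (Ideal.mem_span_singleton_self π) ((‹Q.IsPrime›.mem_or_mem hq).resolve_right hπQ)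
    · rw [IsLocalRing.jacobson_eq_maximalIdeal ⊥ bot_ne_top, Ideal.span_singleton_le_iff_mem]
      exact hπ
  subst hbot
  exact IsDomain.of_bot_isPrime B

/-- Over a field, geometric integrality at a point implies integrality. -/
theorem isDomain_of_giSet {k A : Type u} [Field k] [CommRing A] [Algebra k A] (q : PrimeSpectrum A)
    (h : q ∈ giSet k A) : IsDomain (Localization.AtPrime q.asIdeal) := by
  let Ω := AlgebraicClosure k
  let π : Spec (CommRingCat.of A) ⟶ Spec (CommRingCat.of k) := Spec.map (CommRingCat.ofHom (algebraMap k A))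
  let s : Spec (CommRingCat.of Ω) ⟶ Spec (CommRingCat.of k) := Spec.map (CommRingCat.ofHom (algebraMap k Ω))
  haveI : Surjective s := inferInstance
  haveI : Flat s := inferInstance
  haveI : Surjective (pullback.fst π s) := MorphismProperty.pullback_fst _ _ inferInstance
  haveI : Flat (pullback.fst π s) := MorphismProperty.pullback_fst _ _ inferInstance
  obtain ⟨z, hz⟩ := (pullback.fst π s).surjective q
  have h1 := admissible_isDomain.descend (pullback.fst π s) z (h Ω s z hz)
  rw [hz] at h1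
  haveI hd : IsDomain ((Spec.structureSheaf A).presheaf.stalk q) := h1
  haveI : IsLocalization.AtPrime ((Spec.structureSheaf A).presheaf.stalk q) q.asIdeal :=
    StructureSheaf.IsLocalization.to_stalk A q
  exact (IsLocalization.algEquiv q.asIdeal.primeCompl (Localization.AtPrime q.asIdeal)
    ((Spec.structureSheaf A).presheaf.stalk q)).toRingEquiv.toMulEquiv.isDomain _

/-- The base change of the property of points. -/
theorem mem_giSet_tensor {R A R' : Type u} [CommRing R] [CommRing A] [Algebra R A] [Algebra.FinitePresentation R A]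
    [CommRing R'] [Algebra R R'] (Q : PrimeSpectrum (A ⊗[R] R')) :
    letI : Algebra R' (A ⊗[R] R') := Algebra.TensorProduct.rightAlgebra
    (Q ∈ giSet R' (A ⊗[R] R') ↔
      PrimeSpectrum.comap (Algebra.TensorProduct.includeLeftRingHom : A →+* A ⊗[R] R') Q ∈ giSet R A) := by
  letI : Algebra R' (A ⊗[R] R') := Algebra.TensorProduct.rightAlgebra
  haveI : Algebra.IsPushout R R' A (A ⊗[R] R') := Algebra.IsPushout.symm inferInstance
  rw [giSet_bc R A R' (A ⊗[R] R')]
  rfl

section DVR

variable {D C : Type u} [CommRing D] [CommRing C] [Algebra D C]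

/-- The evaluation of a base change at a section. -/
noncomputable def evalAt (χ : C →ₐ[D] D) (L : Type u) [CommRing L] [Algebra D L] : C ⊗[D] L →ₐ[D] L :=
  Algebra.TensorProduct.lift ((Algebra.ofId D L).comp χ) (AlgHom.id D L) fun _ _ => Commute.all _ _

theorem evalAt_tmul (χ : C →ₐ[D] D) {L : Type u} [CommRing L] [Algebra D L] (c : C) (l : L) :
    evalAt χ L (c ⊗ₜ l) = algebraMap D L (χ c) * l := by
  simp [evalAt, Algebra.ofId_apply]

theorem evalAt_map (χ : C →ₐ[D] D) {L L' : Type u} [CommRing L] [Algebra D L] [CommRing L'] [Algebra D L']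
    (g : L →ₐ[D] L') (x : C ⊗[D] L) :
    evalAt χ L' (Algebra.TensorProduct.map (AlgHom.id D C) g x) = g (evalAt χ L x) := by
  induction x using TensorProduct.induction_on with
  | zero => simp
  | add a b ha hb => simp only [map_add, ha, hb]
  | tmul c l => simp [evalAt_tmul]

variable [IsDomain D] [IsDiscreteValuationRing D] [Algebra.FiniteType D C] [Module.Flat D C]

/-- The local ring at the closed point of a section is a domain, after a change of the DVR. -/
theorem domAt_dvr (χ : C →ₐ[D] D)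
    (h0 : PrimeSpectrum.comap χ.toRingHom (IsLocalRing.closedPoint D) ∈ giSet D C)
    {V : Type u} [CommRing V] [IsDomain V] [IsDiscreteValuationRing V] [Algebra D V]
    [IsLocalHom (algebraMap D V)] :
    DomAt ((IsLocalRing.maximalIdeal V).comap (evalAt χ V).toRingHom) := by
  letI : Algebra V (C ⊗[D] V) := Algebra.TensorProduct.rightAlgebra
  haveI : Algebra.IsPushout D V C (C ⊗[D] V) := Algebra.IsPushout.symm inferInstance
  haveI : Algebra.FinitePresentation D C := Algebra.FinitePresentation.of_finiteType.1 inferInstance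
  haveI : IsNoetherianRing (C ⊗[D] V) := by
    haveI : Algebra.FiniteType V (C ⊗[D] V) :=
      Algebra.FiniteType.equiv inferInstance (Algebra.IsPushout.equiv D V C (C ⊗[D] V))
    exact Algebra.FiniteType.isNoetherianRing V _
  haveI : Module.Flat V (C ⊗[D] V) := Module.Flat.of_linearEquiv (Algebra.IsPushout.equiv D V C (C ⊗[D] V)).symm.toLinearEquiv
  let P : PrimeSpectrum (C ⊗[D] V) := PrimeSpectrum.comap (evalAt χ V).toRingHom (IsLocalRing.closedPoint V)
  have hP : P ∈ giSet V (C ⊗[D] V) := by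
    rw [mem_giSet_tensor]
    convert h0 using 1
    ext c
    show evalAt χ V (c ⊗ₜ (1 : V)) ∈ IsLocalRing.maximalIdeal V ↔ χ c ∈ IsLocalRing.maximalIdeal D
    rw [evalAt_tmul, mul_one, IsLocalRing.mem_maximalIdeal, IsLocalRing.mem_maximalIdeal]
    exact not_congr (isUnit_map_iff (algebraMap D V) _)
  obtain ⟨ϖ, hϖ⟩ := IsDiscreteValuationRing.exists_irreducible V
  have hmax : IsLocalRing.maximalIdeal V = Ideal.span {ϖ} := hϖ.maximalIdeal_eq
  let k := V ⧸ IsLocalRing.maximalIdeal V
  letI : Field k := Ideal.Quotient.field _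
  haveI : Algebra.FinitePresentation V (C ⊗[D] V) := Algebra.FinitePresentation.of_finiteType.1
    (Algebra.FiniteType.equiv inferInstance (Algebra.IsPushout.equiv D V C (C ⊗[D] V)))
  let φ : C ⊗[D] V →+* (C ⊗[D] V) ⊗[V] k := Algebra.TensorProduct.includeLeftRingHom
  have hφ : Function.Surjective φ :=
    Algebra.TensorProduct.includeLeft_surjective V (C ⊗[D] V) Ideal.Quotient.mk_surjective
  letI : Algebra k ((C ⊗[D] V) ⊗[V] k) := Algebra.TensorProduct.rightAlgebra
  have hker : ∀ x, φ x = 0 → x ∈ Ideal.span {algebraMap V (C ⊗[D] V) ϖ} := fun x hx => by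
    let I : Ideal (C ⊗[D] V) := (IsLocalRing.maximalIdeal V).map (algebraMap V (C ⊗[D] V))
    let ψ : (C ⊗[D] V) ⊗[V] k →ₐ[V] (C ⊗[D] V) ⧸ I :=
      Algebra.TensorProduct.lift (Ideal.Quotient.mkₐ V _)
        (Ideal.quotientMapₐ _ (Algebra.ofId V (C ⊗[D] V)) Ideal.le_comap_map) fun _ _ => Commute.all _ _
    have h1 : ψ (x ⊗ₜ[V] (1 : k)) = Ideal.Quotient.mk I x := by simp [ψ]
    have h2 : x ∈ I := by
      rw [← Ideal.Quotient.eq_zero_iff_mem, ← h1, show x ⊗ₜ[V] (1 : k) = φ x from rfl, hx, map_zero]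
    simpa only [I, hmax, Ideal.map_span, Set.image_singleton] using h2
  obtain ⟨Q, hQ⟩ : P ∈ Set.range (PrimeSpectrum.comap φ) := by
    rw [range_comap_of_surjective _ _ hφ, PrimeSpectrum.mem_zeroLocus]
    intro x hx
    refine (Ideal.span_singleton_le_iff_mem P.asIdeal).mpr ?_ (hker x hx)
    show evalAt χ V ((1 : C) ⊗ₜ ϖ) ∈ IsLocalRing.maximalIdeal V
    rw [evalAt_tmul, map_one, map_one, one_mul, hmax]
    exact Ideal.mem_span_singleton_self ϖ
  have hQd : IsDomain (Localization.AtPrime Q.asIdeal) :=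
    isDomain_of_giSet Q ((mem_giSet_tensor Q).mpr (hQ.symm ▸ hP))
  have hPQ : P.asIdeal = Q.asIdeal.comap φ := congrArg PrimeSpectrum.asIdeal hQ.symm
  show DomAt P.asIdeal
  rw [hPQ, ← domAt_iff]
  let B := Localization.AtPrime (Q.asIdeal.comap φ)
  let π : B := algebraMap (C ⊗[D] V) B (algebraMap V (C ⊗[D] V) ϖ)
  haveI : IsNoetherianRing B := IsLocalization.isNoetherianRing (Q.asIdeal.comap φ).primeCompl B inferInstance
  have hϖP : algebraMap V (C ⊗[D] V) ϖ ∈ Q.asIdeal.comap φ := by
    rw [← hPQ]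
    show evalAt χ V ((1 : C) ⊗ₜ ϖ) ∈ IsLocalRing.maximalIdeal V
    rw [evalAt_tmul, map_one, map_one, one_mul, hmax]
    exact Ideal.mem_span_singleton_self ϖ
  have hφϖ : φ (algebraMap V (C ⊗[D] V) ϖ) = 0 := by
    show algebraMap V ((C ⊗[D] V)) ϖ ⊗ₜ[V] (1 : k) = 0
    rw [Algebra.algebraMap_eq_smul_one, TensorProduct.smul_tmul, Algebra.smul_def, mul_one]
    show (1 : C ⊗[D] V) ⊗ₜ[V] Ideal.Quotient.mk (IsLocalRing.maximalIdeal V) ϖ = 0
    rw [Ideal.Quotient.eq_zero_iff_mem.mpr (hmax ▸ Ideal.mem_span_singleton_self ϖ), TensorProduct.tmul_zero]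
  let σ := Localization.localRingHom (Q.asIdeal.comap φ) Q.asIdeal φ rfl
  have hσ : RingHom.ker σ = Ideal.span {π} := by
    refine le_antisymm (fun x hx => ?_) ?_
    · have h := Groth.L12.CotTLib.mem_map_ker_of_localRingHom φ hφ Q.asIdeal x hx
      have hle : (RingHom.ker φ).map (algebraMap (C ⊗[D] V) B) ≤ Ideal.span {π} := by
        refine Ideal.map_le_iff_le_comap.mpr fun y hy => ?_
        have := Ideal.mem_map_of_mem (algebraMap (C ⊗[D] V) B) (hker y hy)
        rwa [Ideal.map_span, Set.image_singleton] at this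
      exact hle h
    · rw [Ideal.span_singleton_le_iff_mem, RingHom.mem_ker]
      show σ (algebraMap _ B _) = 0
      rw [Localization.localRingHom_to_map, hφϖ, map_zero]
  haveI := hQd
  haveI : (Ideal.span {π}).IsPrime := hσ ▸ RingHom.ker_isPrime σ
  refine isDomain_of_quotient π ?_ ?_
  · exact (IsLocalization.AtPrime.to_map_mem_maximal_iff B (Q.asIdeal.comap φ) _).mpr hϖP
  · haveI : Module.Flat (C ⊗[D] V) B := IsLocalization.flat B (Q.asIdeal.comap φ).primeCompl
    haveI : Module.Flat V B := Module.Flat.trans V (C ⊗[D] V) B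
    have hreg : IsSMulRegular B ϖ := Module.Flat.isSMulRegular_of_isRegular (IsRegular.of_ne_zero hϖ.ne_zero)
    rw [mem_nonZeroDivisors_iff_right]
    intro x hx
    refine hreg.right_eq_zero_of_smul ?_
    rw [Algebra.smul_def, IsScalarTower.algebraMap_apply V (C ⊗[D] V) B, mul_comm]
    exact hx

/-- The local ring at the generic point of a section, after a finitely generated extension. -/
theorem domAt_fg (χ : C →ₐ[D] D)
    (h0 : PrimeSpectrum.comap χ.toRingHom (IsLocalRing.closedPoint D) ∈ giSet D C)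
    {L : Type u} [Field L] [Algebra D L] (hinj : Function.Injective (algebraMap D L)) {S : Set L} (hS : S.Finite)
    (hgen : Subfield.closure (Set.range (algebraMap D L) ∪ S) = ⊤) :
    DomAt (RingHom.ker (evalAt χ L).toRingHom) := by
  have hkne : RingHom.ker (algebraMap D L) ≠ IsLocalRing.maximalIdeal D := by
    rw [(RingHom.injective_iff_ker_eq_bot _).mp hinj]
    exact (IsDiscreteValuationRing.not_a_field D).symm
  obtain ⟨V, hV, hDV, hdom⟩ := Groth.L18.exists_isDiscreteValuationRing_dominating hS hgen hkne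
  haveI := hV
  letI : Algebra D V := ((algebraMap D L).codRestrict V.toSubring hDV).toAlgebra
  haveI : IsLocalHom (algebraMap D V) := ⟨fun d hd => by
    by_contra hu
    exact (ne_of_lt (hdom d hu)) ((V.valuation_eq_one_iff ⟨_, hDV d⟩).mp hd)⟩
  let g : V →ₐ[D] L := { V.subtype with commutes' := fun d => rfl }
  let ι : C ⊗[D] V →ₐ[D] C ⊗[D] L := Algebra.TensorProduct.map (AlgHom.id D C) g
  have hι : Function.Injective ι :=
    Module.Flat.lTensor_preserves_injective_linearMap g.toLinearMap Subtype.val_injective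
  have hcomap : (RingHom.ker (evalAt χ L).toRingHom).comap ι.toRingHom = RingHom.ker (evalAt χ V).toRingHom := by
    ext x
    show evalAt χ L (ι x) = 0 ↔ evalAt χ V x = 0
    rw [evalAt_map]
    exact ⟨fun h => Subtype.val_injective h, fun h => by rw [h, map_zero]⟩
  haveI : (RingHom.ker (evalAt χ L).toRingHom).IsPrime := RingHom.ker_isPrime _
  haveI : (RingHom.ker (evalAt χ V).toRingHom).IsPrime := RingHom.ker_isPrime _
  have hV0 : DomAt (RingHom.ker (evalAt χ V).toRingHom) := by
    refine domAt_of_le (fun x hx => ?_) (domAt_dvr χ h0 (V := V))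
    show evalAt χ V x ∈ IsLocalRing.maximalIdeal V
    rw [show evalAt χ V x = 0 from hx]
    exact zero_mem _
  have hden : ∀ w : C ⊗[D] L, ∃ d : V, (d : L) ≠ 0 ∧ (1 : C) ⊗ₜ[D] (d : L) * w ∈ Set.range ι := fun w => by
    induction w using TensorProduct.induction_on with
    | zero => exact ⟨1, one_ne_zero, 0, by simp⟩
    | tmul c l =>
      obtain ⟨a, b, hb, rfl⟩ := IsFractionRing.div_surjective V l
      have hb' : (b : L) ≠ 0 := IsFractionRing.to_map_ne_zero_of_mem_nonZeroDivisors hb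
      refine ⟨b, hb', c ⊗ₜ a, ?_⟩
      show c ⊗ₜ[D] (a : L) = (1 : C) ⊗ₜ[D] (b : L) * (c ⊗ₜ[D] ((a : L) / (b : L)))
      rw [Algebra.TensorProduct.tmul_mul_tmul, one_mul, mul_div_cancel₀ _ hb']
    | add v w hv hw =>
      obtain ⟨d, hd, x, hx⟩ := hv
      obtain ⟨e, he, y, hy⟩ := hw
      refine ⟨d * e, mul_ne_zero hd he, ((1 : C) ⊗ₜ e) * x + ((1 : C) ⊗ₜ d) * y, ?_⟩
      have h1 : ι ((1 : C) ⊗ₜ e) = (1 : C) ⊗ₜ[D] (e : L) := rfl
      have h2 : ι ((1 : C) ⊗ₜ d) = (1 : C) ⊗ₜ[D] (d : L) := rfl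
      have h3 : ((1 : C) ⊗ₜ[D] ((d * e : V) : L)) = ((1 : C) ⊗ₜ[D] (d : L)) * ((1 : C) ⊗ₜ[D] (e : L)) := by
        rw [Algebra.TensorProduct.tmul_mul_tmul, one_mul]; rfl
      rw [map_add, map_mul, map_mul, hx, hy, h1, h2, h3]
      ring
  refine domAt_of_models _ fun a b s => ⟨C ⊗[D] V, inferInstance, ι.toRingHom, hι, hcomap ▸ hV0, fun w _ => ?_⟩
  obtain ⟨d, hd, hw⟩ := hden w
  refine ⟨(1 : C) ⊗ₜ[D] (d : L), fun hm => hd ?_, hw⟩
  have h := (RingHom.mem_ker).mp hm
  simpa [evalAt_tmul] using h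

/-- The local ring at the generic point of a section, after any extension. -/
theorem domAt_field (χ : C →ₐ[D] D)
    (h0 : PrimeSpectrum.comap χ.toRingHom (IsLocalRing.closedPoint D) ∈ giSet D C)
    {L : Type u} [Field L] [Algebra D L] (hinj : Function.Injective (algebraMap D L)) :
    DomAt (RingHom.ker (evalAt χ L).toRingHom) := by
  classical
  haveI : (RingHom.ker (evalAt χ L).toRingHom).IsPrime := RingHom.ker_isPrime _
  refine domAt_of_models _ fun a b s => ?_
  obtain ⟨S, hS⟩ := TensorProduct.exists_finset (R := D) a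
  obtain ⟨S', hS'⟩ := TensorProduct.exists_finset (R := D) b
  obtain ⟨S'', hS''⟩ := TensorProduct.exists_finset (R := D) s
  let T : Finset L := (S ∪ S' ∪ S'').image Prod.snd
  let F : Subfield L := Subfield.closure (Set.range (algebraMap D L) ∪ T)
  letI : Algebra D F := ((algebraMap D L).codRestrict F.toSubring
    fun d => Subfield.subset_closure (Or.inl ⟨d, rfl⟩)).toAlgebra
  have hgen : Subfield.closure (Set.range (algebraMap D F) ∪ (F.subtype ⁻¹' (T : Set L))) = ⊤ := by
    refine eq_top_iff.mpr fun x _ => ?_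
    have hx : (x : L) ∈ (Subfield.closure (Set.range (algebraMap D F) ∪ (F.subtype ⁻¹' (T : Set L)))).map F.subtype := by
      refine Subfield.closure_le.mpr ?_ x.2
      rintro w (⟨d, rfl⟩ | hw)
      · exact ⟨algebraMap D F d, Subfield.subset_closure (Or.inl ⟨d, rfl⟩), rfl⟩
      · exact ⟨⟨w, Subfield.subset_closure (Or.inr hw)⟩, Subfield.subset_closure (Or.inr hw), rfl⟩
    obtain ⟨y, hy, hxy⟩ := hx
    rwa [← Subtype.val_injective hxy]
  let g : F →ₐ[D] L := { F.subtype with commutes' := fun d => rfl }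
  let ι : C ⊗[D] F →ₐ[D] C ⊗[D] L := Algebra.TensorProduct.map (AlgHom.id D C) g
  have hι : Function.Injective ι :=
    Module.Flat.lTensor_preserves_injective_linearMap g.toLinearMap Subtype.val_injective
  have hcomap : (RingHom.ker (evalAt χ L).toRingHom).comap ι.toRingHom = RingHom.ker (evalAt χ F).toRingHom := by
    ext x
    show evalAt χ L (ι x) = 0 ↔ evalAt χ F x = 0
    rw [evalAt_map]
    exact ⟨fun h => Subtype.val_injective h, fun h => by rw [h, map_zero]⟩
  have hF : DomAt (RingHom.ker (evalAt χ F).toRingHom) :=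
    domAt_fg χ h0 (fun x y h => hinj (congrArg Subtype.val h))
      (T.finite_toSet.preimage Subtype.val_injective.injOn) hgen
  have hmem : ∀ (U : Finset (C × L)), U ⊆ S ∪ S' ∪ S'' → ∑ i ∈ U, i.1 ⊗ₜ[D] i.2 ∈ ι.range := fun U hU =>
    sum_mem fun i hi => ⟨i.1 ⊗ₜ ⟨i.2, Subfield.subset_closure
      (Or.inr (Finset.mem_coe.mpr (Finset.mem_image_of_mem _ (hU hi))))⟩, rfl⟩
  refine ⟨C ⊗[D] F, inferInstance, ι.toRingHom, hι, hcomap ▸ hF, fun w hw => ⟨1, fun h => ?_, ?_⟩⟩
  · simpa using (RingHom.mem_ker).mp h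
  · rw [one_mul]
    rcases hw with rfl | rfl | rfl
    · rw [hS]; exact hmem S (fun i hi => by simp [hi])
    · rw [hS']; exact hmem S' (fun i hi => by simp [hi])
    · rw [hS'']; exact hmem S'' (fun i hi => by simp [hi])

/-- Geometric integrality at the closed point of a section gives it at the generic point. -/
theorem giSet_generic_point (χ : C →ₐ[D] D)
    (h0 : PrimeSpectrum.comap χ.toRingHom (IsLocalRing.closedPoint D) ∈ giSet D C)
    (q : PrimeSpectrum C) (hq : q.asIdeal = RingHom.ker χ.toRingHom) : q ∈ giSet D C := by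
  intro L _ _ gL z hz
  obtain ⟨φ, rfl⟩ := Spec.map_surjective gL
  letI : Algebra D L := φ.hom.toAlgebra
  let π : Spec (CommRingCat.of C) ⟶ Spec (CommRingCat.of D) := Spec.map (CommRingCat.ofHom (algebraMap D C))
  have hinj : Function.Injective (algebraMap D L) := by
    rw [RingHom.injective_iff_ker_eq_bot, eq_bot_iff]
    intro d hd
    have h1 : d ∈ (π q).asIdeal := by
      rw [← hz, ← Scheme.Hom.comp_apply, pullback.condition, Scheme.Hom.comp_apply]
      show φ.hom d ∈ (pullback.snd π (Spec.map φ) z).asIdeal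
      rw [show φ.hom d = 0 from hd]
      exact zero_mem _
    have h2 : χ (algebraMap D C d) = 0 := RingHom.mem_ker.mp (hq ▸ (show algebraMap D C d ∈ q.asIdeal from h1))
    rw [AlgHom.commutes] at h2
    exact (Submodule.mem_bot D).mpr h2
  let e := pullbackSpecIso D C L
  let Q : PrimeSpectrum (C ⊗[D] L) := e.hom z
  have hQq : PrimeSpectrum.comap (Algebra.TensorProduct.includeLeftRingHom : C →+* C ⊗[D] L) Q = q := by
    show (Spec.map (CommRingCat.ofHom Algebra.TensorProduct.includeLeftRingHom)) (e.hom z) = q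
    rw [← Scheme.Hom.comp_apply]
    exact (congrArg (fun m => m z) (pullbackSpecIso_hom_fst D C L)).trans hz
  have hQ : RingHom.ker (evalAt χ L).toRingHom = Q.asIdeal := by
    have hw : ∀ w : C ⊗[D] L, w - (1 : C) ⊗ₜ[D] (evalAt χ L w) ∈ Q.asIdeal := fun w => by
      induction w using TensorProduct.induction_on with
      | zero => simp
      | add v w hv hw =>
        rw [map_add, TensorProduct.tmul_add, add_sub_add_comm]
        exact add_mem hv hw
      | tmul c l =>
        have h1 : (c - algebraMap D C (χ c)) ∈ q.asIdeal := by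
          rw [hq, RingHom.mem_ker]
          show χ (c - algebraMap D C (χ c)) = 0
          rw [map_sub, AlgHom.commutes]
          exact sub_self _
        rw [← hQq] at h1
        have h2 : (c - algebraMap D C (χ c)) ⊗ₜ[D] (1 : L) * ((1 : C) ⊗ₜ[D] l) ∈ Q.asIdeal :=
          Ideal.mul_mem_right _ _ h1
        convert h2 using 1
        rw [evalAt_tmul, Algebra.TensorProduct.tmul_mul_tmul, mul_one, one_mul, TensorProduct.sub_tmul,
          Algebra.algebraMap_eq_smul_one (A := C), TensorProduct.smul_tmul, Algebra.smul_def]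
    haveI : (RingHom.ker (evalAt χ L).toRingHom).IsMaximal :=
      RingHom.ker_isMaximal_of_surjective _ fun l => ⟨(1 : C) ⊗ₜ l, by simp [evalAt_tmul]⟩
    refine Ideal.IsMaximal.eq_of_le inferInstance Q.isPrime.ne_top fun w hw' => ?_
    have h := hw w
    rwa [show evalAt χ L w = 0 from hw', TensorProduct.tmul_zero, sub_zero] at h
  have hd : DomAt Q.asIdeal := hQ ▸ domAt_field χ h0 hinj
  haveI := (domAt_iff Q.asIdeal).mpr hd
  refine (admissible_isDomain.of_isOpenImmersion e.hom z).mpr ?_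
  show IsDomain ((Spec.structureSheaf (C ⊗[D] L)).presheaf.stalk Q)
  haveI : IsLocalization.AtPrime ((Spec.structureSheaf (C ⊗[D] L)).presheaf.stalk Q) Q.asIdeal :=
    StructureSheaf.IsLocalization.to_stalk (C ⊗[D] L) Q
  exact (IsLocalization.algEquiv Q.asIdeal.primeCompl ((Spec.structureSheaf (C ⊗[D] L)).presheaf.stalk Q)
    (Localization.AtPrime Q.asIdeal)).toRingEquiv.toMulEquiv.isDomain _

end DVR

/-- The property of points is stable under generization, for flat algebras over Noetherian rings. -/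
theorem giSet_stableUnderGeneralization (R A : Type u) [CommRing R] [IsNoetherianRing R] [CommRing A] [Algebra R A]
    [Algebra.FiniteType R A] [Module.Flat R A] : StableUnderGeneralization (giSet R A) := by
  intro q₀ q₁ h hq₀
  rcases eq_or_ne q₁ q₀ with rfl | hne
  · exact hq₀
  haveI : IsNoetherianRing A := Algebra.FiniteType.isNoetherianRing R A
  haveI : IsLocallyNoetherian (Spec (CommRingCat.of A)) := inferInstance
  obtain ⟨W, t, hW, ht₀, ht₁⟩ :=
    Groth.L07.DVRProper.exists_dvr_through' (X' := Spec (CommRingCat.of A)) (x₀ := q₀) (x₁ := q₁) h hne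
  haveI := hW
  obtain ⟨ψ, rfl⟩ := Spec.map_surjective t
  letI : Algebra R W := (ψ.hom.comp (algebraMap R A)).toAlgebra
  let ψA : A →ₐ[R] W := { ψ.hom with commutes' := fun r => rfl }
  have h0 : PrimeSpectrum.comap ψ.hom (IsLocalRing.closedPoint W) = q₀ := ht₀
  have h1 : RingHom.ker ψ.hom = q₁.asIdeal := by
    have h2 := congrArg (fun m => m (IsLocalRing.closedPoint ((Spec (CommRingCat.of A)).residueField q₁))) ht₁
    simp only [Scheme.Hom.comp_apply] at h2
    have h3 := h2.trans (Scheme.fromSpecResidueField_apply (X := Spec (CommRingCat.of A)) q₁ _)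
    refine Eq.trans ?_ (congrArg PrimeSpectrum.asIdeal h3)
    ext a
    show ψ.hom a = 0 ↔ W.subtype (ψ.hom a) ∈ IsLocalRing.maximalIdeal _
    rw [IsLocalRing.maximalIdeal_eq_bot, Ideal.mem_bot]
    exact (map_eq_zero_iff W.subtype Subtype.val_injective).symm
  letI : Algebra A (W ⊗[R] A) := Algebra.TensorProduct.rightAlgebra
  let χ : W ⊗[R] A →ₐ[W] W := Algebra.TensorProduct.lift (AlgHom.id W W) ψA fun _ _ => Commute.all _ _
  haveI : Algebra.FinitePresentation R A := Algebra.FinitePresentation.of_finiteType.1 inferInstance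
  have hbc : giSet W (W ⊗[R] A) = PrimeSpectrum.comap (algebraMap A (W ⊗[R] A)) ⁻¹' giSet R A :=
    giSet_bc R A W (W ⊗[R] A)
  have hχ : ∀ a : A, χ (algebraMap A (W ⊗[R] A) a) = ψ.hom a := fun a => by
    show χ ((1 : W) ⊗ₜ[R] a) = ψ.hom a
    simp [χ, ψA]
  let P₀ : PrimeSpectrum (W ⊗[R] A) := PrimeSpectrum.comap χ.toRingHom (IsLocalRing.closedPoint W)
  let P₁ : PrimeSpectrum (W ⊗[R] A) := ⟨RingHom.ker χ.toRingHom, RingHom.ker_isPrime _⟩
  have e0 : PrimeSpectrum.comap (algebraMap A (W ⊗[R] A)) P₀ = q₀ := by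
    rw [← h0]
    ext a
    show χ (algebraMap A (W ⊗[R] A) a) ∈ IsLocalRing.maximalIdeal W ↔ ψ.hom a ∈ IsLocalRing.maximalIdeal W
    rw [hχ]
  have e1 : PrimeSpectrum.comap (algebraMap A (W ⊗[R] A)) P₁ = q₁ := by
    ext a
    show χ (algebraMap A (W ⊗[R] A) a) = 0 ↔ a ∈ q₁.asIdeal
    rw [hχ, ← h1, RingHom.mem_ker]
  have hP : P₁ ∈ giSet W (W ⊗[R] A) := giSet_generic_point χ (hbc ▸ (show _ ∈ giSet R A from e0.symm ▸ hq₀)) P₁ rfl
  rw [hbc] at hP
  exact e1 ▸ hP

/-- The property of points is open, for flat algebras of finite presentation. -/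
theorem isOpen_giSet (R A : Type u) [CommRing R] [CommRing A] [Algebra R A] [Algebra.FinitePresentation R A]
    [Module.Flat R A] : IsOpen (giSet R A) := by
  obtain ⟨R₁, _, A₁, _, _, _, _, ⟨e⟩⟩ := Groth.L07.FlatGeomReduced.exists_flat_model R A
  haveI : Algebra.FinitePresentation R₁ A₁ := Algebra.FinitePresentation.of_finiteType.1 inferInstance
  haveI : IsNoetherianRing A₁ := Algebra.FiniteType.isNoetherianRing R₁ A₁
  have h : IsOpen (giSet R₁ A₁) := Groth.L06.Constr.isOpen_of_stableUnderGeneralization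
    (L02.Cons.isConstructible giSet_bc giSet_generic R₁ A₁) (giSet_stableUnderGeneralization R₁ A₁)
  letI : Algebra A₁ A := ((e : R ⊗[R₁] A₁ →+* A).comp
    (Algebra.TensorProduct.includeRight : A₁ →ₐ[R₁] R ⊗[R₁] A₁).toRingHom).toAlgebra
  haveI : IsScalarTower R₁ A₁ A := IsScalarTower.of_algebraMap_eq fun x => by
    show algebraMap R₁ A x = e (1 ⊗ₜ algebraMap R₁ A₁ x)
    rw [← Algebra.TensorProduct.algebraMap_apply', IsScalarTower.algebraMap_apply R₁ R (R ⊗[R₁] A₁),
      e.commutes, ← IsScalarTower.algebraMap_apply]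
  haveI : Algebra.IsPushout R₁ R A₁ A :=
    letI : Algebra A₁ (R ⊗[R₁] A₁) := Algebra.TensorProduct.rightAlgebra
    Algebra.IsPushout.of_equiv e rfl
  rw [giSet_bc R₁ A₁ R A]
  exact h.preimage (PrimeSpectrum.continuous_comap _)

/-- The points with geometrically pointwise integral fibre of a flat morphism form an open set. -/
theorem isOpen_gi {X Y : Scheme.{u}} (f : X ⟶ Y) [Flat f] [LocallyOfFinitePresentation f] :
    IsOpen {x : X | FBase.IsGeomPtIntegralAt (f.fiberToSpecResidueField (f.base x)) (f.asFiber x)} := by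
  refine isOpen_iff_mem_nhds.mpr fun x hx => ?_
  obtain ⟨V, hV, hxV, -⟩ := exists_isAffineOpen_mem_and_subset (X := Y) (x := f x) (U := ⊤) trivial
  obtain ⟨U, hU, hxU, hUV⟩ := exists_isAffineOpen_mem_and_subset (X := X) (x := x) (U := f ⁻¹ᵁ V) hxV
  algebraize [(f.appLE V U hUV).hom]
  haveI : Algebra.FinitePresentation Γ(Y, V) Γ(X, U) := f.finitePresentation_appLE hV hU hUV
  haveI : Module.Flat Γ(Y, V) Γ(X, U) := Flat.flat_appLE f hV hU hUV
  have heq : hU.fromSpec ⁻¹' {x : X | FBase.IsGeomPtIntegralAt (f.fiberToSpecResidueField (f.base x)) (f.asFiber x)} =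
      giSet Γ(Y, V) Γ(X, U) := by
    ext q
    show FBase.IsGeomPtIntegralAt _ _ ↔ AtGeom (fun R _ => IsDomain R) (Spec.map (f.appLE V U hUV)) q
    rw [← atGeom_isDomain_iff, ← atGeom_openImmersion_comp admissible_isDomain hU.fromSpec f q,
      ← IsAffineOpen.SpecMap_appLE_fromSpec f hV hU hUV, ← atGeom_comp_openImmersion admissible_isDomain]
  have ho := hU.fromSpec.isOpenEmbedding.isOpenMap _ (heq.symm ▸ isOpen_giSet Γ(Y, V) Γ(X, U))
  refine Filter.mem_of_superset (ho.mem_nhds ?_) (Set.image_preimage_subset _ _)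
  have hr : x ∈ Set.range hU.fromSpec := by rw [hU.range_fromSpec]; exact hxU
  obtain ⟨q, rfl⟩ := hr
  exact ⟨q, hx, rfl⟩

end Groth.L07.GISpread
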