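import Groth.Agent.L07.GIOpen
import Groth.Agent.L07.Count.FlatProperConst
import Groth.Agent.L07.Count.GeomConn
import Groth.Agent.L21.Curve.NormalConnected
import Mathlib.AlgebraicGeometry.Geometrically.Integral
import Mathlib.AlgebraicGeometry.Morphisms.Proper

/-!
Openness of the geometrically integral fibres of a proper flat morphism (EGA IV 12.2.4).
-/

universe u

open CategoryTheory CategoryTheory.Limits AlgebraicGeometry Topology

namespace Groth.L07.GISpread

set_option autoImplicit false
set_option linter.style.haveILetI false
set_option maxSynthPendingDepth 3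
set_option backward.isDefEq.respectTransparency.types false
set_option backward.isDefEq.respectTransparency false

/-- The fibres with only geometrically integral points form an open set. -/
theorem isOpen_forall_gi {X Y : Scheme.{u}} (f : X ⟶ Y) [IsProper f] [Flat f] [LocallyOfFinitePresentation f] :
    IsOpen {y : Y | ∀ x : ↥(f.fiber y), FBase.IsGeomPtIntegralAt (f.fiberToSpecResidueField y) x} := by
  let O : Set X := {x : X | FBase.IsGeomPtIntegralAt (f.fiberToSpecResidueField (f.base x)) (f.asFiber x)}
  have hO : IsOpen O := isOpen_gi f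
  have key : {y : Y | ∀ x : ↥(f.fiber y), FBase.IsGeomPtIntegralAt (f.fiberToSpecResidueField y) x} =
      (f.base '' Oᶜ)ᶜ := by
    ext y
    constructor
    · rintro hy ⟨x, hx, rfl⟩
      exact hx (hy (f.asFiber x))
    · intro hy z
      obtain ⟨⟨x, hx⟩, rfl⟩ := (f.fiberHomeo y).symm.surjective z
      have hx' : f x = y := hx
      subst hx'
      by_contra hn
      exact hy ⟨x, hn, rfl⟩
  rw [key]
  exact (f.isClosedMap _ hO.isClosed_compl).isOpen_compl

/-- A fibre is geometrically integral iff it is so at all points and is geometrically connected. -/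
theorem geometricallyIntegral_fiber_iff {X Y : Scheme.{u}} (f : X ⟶ Y) [LocallyOfFiniteType f] [QuasiCompact f] (y : Y) :
    GeometricallyIntegral (f.fiberToSpecResidueField y) ↔
      (∀ x : ↥(f.fiber y), FBase.IsGeomPtIntegralAt (f.fiberToSpecResidueField y) x) ∧
        MoreMor.nGeomConnComp f y = 1 := by
  rw [← Groth.L07.Count.geometricallyConnected_fiber_iff]
  constructor
  · intro h
    refine ⟨fun x K _ hK x' _ => ?_, ⟨geometrically_iff_of_isClosedUnderIsomorphisms.mpr fun K _ g => ?_⟩⟩
    · haveI : IsIntegral (@FBase.bc _ _ _ (f.fiberToSpecResidueField y) K _ hK) :=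
        h.geometrically_isIntegral _ _ _ (IsPullback.of_hasPullback _ _)
      infer_instance
    · haveI : IsIntegral (pullback (f.fiberToSpecResidueField y) g) :=
        h.geometrically_isIntegral _ _ _ (IsPullback.of_hasPullback _ _)
      infer_instance
  · rintro ⟨hat, hconn⟩
    refine ⟨fun K _ t Z fst snd hZ => ?_⟩
    obtain ⟨ψ, rfl⟩ := Spec.map_surjective t
    letI : Algebra (Y.residueField y) K := ψ.hom.toAlgebra
    haveI : ConnectedSpace Z := hconn.geometrically_connectedSpace _ _ _ hZ
    haveI : LocallyOfFiniteType snd := MorphismProperty.of_isPullback hZ (MorphismProperty.pullback_snd f _ inferInstance)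
    haveI : QuasiCompact snd := MorphismProperty.of_isPullback hZ (MorphismProperty.pullback_snd f _ inferInstance)
    haveI : IsLocallyNoetherian Z := LocallyOfFiniteType.isLocallyNoetherian snd
    haveI : CompactSpace Z := QuasiCompact.compactSpace_of_compactSpace snd
    haveI : IsNoetherian Z := {}
    refine Groth.L21.NormalTotal.isIntegral_of_connected fun z => ?_
    let e := hZ.isoPullback
    have h : IsDomain ((FBase.bc (k := ↑(Y.residueField y)) (f.fiberToSpecResidueField y) K).presheaf.stalk (e.hom z)) :=
      @hat ((FBase.bcπ (k := ↑(Y.residueField y)) (f.fiberToSpecResidueField y) K).base (e.hom z)) K _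
        ψ.hom.toAlgebra (e.hom z) rfl
    exact (Groth.L07.AtGeom.admissible_isDomain.of_isOpenImmersion e.hom z).mpr h

/-- The geometrically integral fibres of a proper flat morphism form an open set. -/
theorem isOpen_geomIntegral {X Y : Scheme.{u}} (f : X ⟶ Y) [IsProper f] [Flat f] [LocallyOfFinitePresentation f] :
    IsOpen {y : Y | GeometricallyIntegral (f.fiberToSpecResidueField y)} := by
  refine isOpen_iff_mem_nhds.mpr fun s hs => ?_
  haveI : GeometricallyIntegral (f.fiberToSpecResidueField s) := hs
  obtain ⟨h1, h2⟩ := (geometricallyIntegral_fiber_iff f s).mp hs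
  obtain ⟨V, hV, hn⟩ := Groth.L07.Count.nGeomConnComp_eq_nhds_flat_proper f s inferInstance
  filter_upwards [(isOpen_forall_gi f).mem_nhds h1, hV] with z hz hzV
  exact (geometricallyIntegral_fiber_iff f z).mpr ⟨hz, (hn z hzV).trans h2⟩

end Groth.L07.GISpread
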