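import Groth.Agent.L07.AtGeom
import Groth.Agent.L07.Count.Spread
import Mathlib.AlgebraicGeometry.Morphisms.FinitePresentation
import Mathlib.AlgebraicGeometry.Noetherian

/-!
The points lying on several geometric components of the fibres near the generic point (EGA IV 9.7).
-/

universe u

open CategoryTheory CategoryTheory.Limits AlgebraicGeometry Topology Groth.L07.Spread

namespace Groth.L07.GISpread

set_option autoImplicit false
set_option linter.style.haveILetI false
set_option maxSynthPendingDepth 3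
set_option backward.isDefEq.respectTransparency.types false
set_option backward.isDefEq.respectTransparency false

/-- A point lying on at least two irreducible components. -/
def Multi {T : Type*} [TopologicalSpace T] (z : T) : Prop :=
  ∃ i ∈ irreducibleComponents T, ∃ j ∈ irreducibleComponents T, i ≠ j ∧ z ∈ i ∧ z ∈ j

theorem image_mem_components {T T' : Type*} [TopologicalSpace T] [TopologicalSpace T'] (e : T ≃ₜ T') {C : Set T}
    (hC : C ∈ irreducibleComponents T) : e '' C ∈ irreducibleComponents T' := by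
  refine ⟨hC.1.image e e.continuous.continuousOn, fun W hW hle => ?_⟩
  have h := hC.2 (hW.image e.symm e.symm.continuous.continuousOn)
    (fun c hc => ⟨e c, hle ⟨c, hc, rfl⟩, e.symm_apply_apply c⟩)
  exact fun w hw => ⟨e.symm w, h ⟨w, hw, rfl⟩, e.apply_symm_apply w⟩

theorem multi_homeomorph {T T' : Type*} [TopologicalSpace T] [TopologicalSpace T'] (e : T ≃ₜ T') (z : T) :
    Multi (e z) ↔ Multi z := by
  constructor
  · rintro ⟨i, hi, j, hj, hne, hzi, hzj⟩
    refine ⟨e ⁻¹' i, ?_, e ⁻¹' j, ?_, fun h => hne (e.surjective.preimage_injective h), hzi, hzj⟩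
    · rw [← e.image_symm]; exact image_mem_components e.symm hi
    · rw [← e.image_symm]; exact image_mem_components e.symm hj
  · rintro ⟨i, hi, j, hj, hne, hzi, hzj⟩
    exact ⟨e '' i, image_mem_components e hi, e '' j, image_mem_components e hj,
      fun h => hne (e.injective.image_injective h), ⟨z, hzi, rfl⟩, ⟨z, hzj, rfl⟩⟩

/-- The points on several members of an irredundant finite closed irreducible cover. -/
theorem multi_iff_cover {T : Type*} [TopologicalSpace T] {ι : Type*} [Finite ι] (C : ι → Set T)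
    (hc : ∀ i, IsClosed (C i)) (hirr : ∀ i, IsIrreducible (C i)) (hcov : ∀ z, ∃ i, z ∈ C i)
    (hown : ∀ i, ∃ z ∈ C i, ∀ k ≠ i, z ∉ C k) (z : T) :
    Multi z ↔ ∃ i j, i ≠ j ∧ z ∈ C i ∧ z ∈ C j := by
  classical
  cases nonempty_fintype ι
  have hsub : ∀ W : Set T, IsIrreducible W → ∃ i, W ⊆ C i := fun W hW => by
    obtain ⟨t, ht, hsub⟩ := isIrreducible_iff_sUnion_isClosed.mp hW (Finset.univ.image C)
      (fun c hc' => by obtain ⟨i, -, rfl⟩ := Finset.mem_image.mp hc'; exact hc i)
      (fun w _ => by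
        obtain ⟨i, hi⟩ := hcov w
        exact Set.mem_sUnion.mpr ⟨C i, Finset.mem_coe.mpr (Finset.mem_image.mpr ⟨i, Finset.mem_univ i, rfl⟩), hi⟩)
    obtain ⟨i, -, rfl⟩ := Finset.mem_image.mp ht
    exact ⟨i, hsub⟩
  have hcomp : ∀ i, C i ∈ irreducibleComponents T := fun i => ⟨hirr i, fun W hW hle => by
    obtain ⟨k, hk⟩ := hsub W hW
    obtain ⟨w, hw, hwk⟩ := hown i
    obtain rfl : k = i := by_contra fun hne => hwk k hne (hk (hle hw))
    exact hk⟩
  constructor
  · rintro ⟨a, ha, b, hb, hne, hza, hzb⟩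
    obtain ⟨i, hi⟩ := hsub a ha.1
    obtain ⟨j, hj⟩ := hsub b hb.1
    refine ⟨i, j, ?_, hi hza, hj hzb⟩
    rintro rfl
    exact hne (((ha.2 (hirr i) hi).antisymm hi).symm.trans ((hb.2 (hirr i) hj).antisymm hj))
  · rintro ⟨i, j, hne, hzi, hzj⟩
    obtain ⟨w, hw, hwk⟩ := hown i
    exact ⟨C i, hcomp i, C j, hcomp j, fun h => hwk j hne.symm (h ▸ hw), hzi, hzj⟩

/-- A local ring is a domain iff it is reduced and the point is on one component only. -/
theorem isDomain_stalk_iff {Z : Scheme.{u}} (z : Z) :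
    IsDomain (Z.presheaf.stalk z) ↔ _root_.IsReduced (Z.presheaf.stalk z) ∧ ¬ Multi z := by
  have hgen : ∀ C ∈ irreducibleComponents Z, z ∈ C → ∃ g, closure {g} = C ∧ g ⤳ z ∧ ∀ q, q ⤳ g → q = g := by
    intro C hC hzC
    obtain ⟨g, hg⟩ := QuasiSober.sober hC.1 (isClosed_of_mem_irreducibleComponents C hC)
    refine ⟨g, hg.def, specializes_iff_mem_closure.2 (hg.def.symm ▸ hzC), fun q hq => ?_⟩
    have hle : C ⊆ closure {q} := by
      rw [← hg.def]
      exact closure_minimal (Set.singleton_subset_iff.2 hq.mem_closure) isClosed_closure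
    have hge : closure {q} ⊆ C := hC.2 isIrreducible_singleton.closure hle
    exact (hq.antisymm (specializes_iff_mem_closure.2 (hg.def.symm ▸ hge (subset_closure rfl)))).eq
  constructor
  · intro h
    refine ⟨inferInstance, ?_⟩
    rintro ⟨i, hi, j, hj, hne, hzi, hzj⟩
    obtain ⟨g, hg, hgz, hgm⟩ := hgen i hi hzi
    obtain ⟨g', hg', hgz', hgm'⟩ := hgen j hj hzj
    exact hne (by rw [← hg, ← hg', Groth.L07.FlatGeomReduced.eq_of_maximal_of_isDomain_stalk z g g' hgz hgz' hgm hgm'])
  · rintro ⟨hred, hone⟩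
    obtain ⟨P, hP⟩ := Ideal.nonempty_minimalPrimes (I := (⊥ : Ideal (Z.presheaf.stalk z))) bot_ne_top
    haveI := hP.1.1
    have huniq : ∀ Q ∈ minimalPrimes (Z.presheaf.stalk z), Q = P := by
      intro Q hQ
      haveI := hQ.1.1
      by_contra hne
      let j := Z.fromSpecStalk z
      have hmax : ∀ (R : Ideal (Z.presheaf.stalk z)) [R.IsPrime], R ∈ minimalPrimes (Z.presheaf.stalk z) →
          closure {j (⟨R, inferInstance⟩ : PrimeSpectrum _)} ∈ irreducibleComponents Z ∧
            z ∈ closure {j (⟨R, inferInstance⟩ : PrimeSpectrum _)} := by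
        intro R hRp hR
        let r : Spec (Z.presheaf.stalk z) := (⟨R, inferInstance⟩ : PrimeSpectrum _)
        have hrz : j r ⤳ z := by
          have h1 : j r ∈ Set.range j := ⟨r, rfl⟩
          rw [Scheme.range_fromSpecStalk] at h1
          exact h1
        refine ⟨⟨isIrreducible_singleton.closure, fun W hW hle => ?_⟩, hrz.mem_closure⟩
        obtain ⟨w, hw⟩ := QuasiSober.sober hW.closure isClosed_closure
        have hwr : w ⤳ j r := specializes_iff_mem_closure.2 (hw.def.symm ▸ subset_closure (hle (subset_closure rfl)))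
        obtain ⟨s, rfl⟩ : w ∈ Set.range j := by
          rw [Scheme.range_fromSpecStalk]; exact hwr.trans hrz
        have hsr : (s : PrimeSpectrum _).asIdeal ≤ R := (PrimeSpectrum.le_iff_specializes s r).2
          (j.isEmbedding.isInducing.specializes_iff.1 hwr)
        obtain rfl : s = r := PrimeSpectrum.ext (hsr.antisymm (hR.2 ⟨s.isPrime, bot_le⟩ hsr))
        rw [hw.def]
        exact subset_closure
      obtain ⟨hCQ, hzQ⟩ := hmax Q hQ
      obtain ⟨hCP, hzP⟩ := hmax P hP
      refine hone ⟨_, hCQ, _, hCP, fun h => hne ?_, hzQ, hzP⟩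
      exact congrArg PrimeSpectrum.asIdeal ((Z.fromSpecStalk z).isEmbedding.injective
        ((specializes_iff_mem_closure.2 (h.symm ▸ subset_closure rfl :
          j (⟨P, inferInstance⟩ : PrimeSpectrum _) ∈ closure {j (⟨Q, inferInstance⟩ : PrimeSpectrum _)})).antisymm
          (specializes_iff_mem_closure.2 (h ▸ subset_closure rfl :
          j (⟨Q, inferInstance⟩ : PrimeSpectrum _) ∈ closure {j (⟨P, inferInstance⟩ : PrimeSpectrum _)}))).eq)
    have hP0 : P = ⊥ := le_bot_iff.mp fun x hx => by
      refine (Submodule.mem_bot _).mpr (IsNilpotent.eq_zero (nilpotent_iff_mem_prime.mpr fun J hJ => ?_))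
      obtain ⟨Q, hQ, hle⟩ := Ideal.exists_minimalPrimes_le (bot_le : (⊥ : Ideal (Z.presheaf.stalk z)) ≤ J)
      exact hle ((huniq Q hQ).symm ▸ hx)
    haveI : NoZeroDivisors (Z.presheaf.stalk z) := ⟨fun {a b} hab => by
      have := (inferInstance : P.IsPrime).mem_or_mem (show a * b ∈ P by rw [hab]; exact zero_mem P)
      rwa [hP0, Submodule.mem_bot, Submodule.mem_bot] at this⟩
    exact NoZeroDivisors.to_isDomain _

variable {A : Type u} [CommRing A] {X : Scheme.{u}} (h : X ⟶ Spec (CommRingCat.of A))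

/-- Over a nonempty open the points under several geometric components form a constructible set. -/
theorem exists_forall_multi [IsDomain A] [IsNoetherianRing A] [LocallyOfFiniteType h] [QuasiCompact h] :
    ∃ a : A, a ≠ 0 ∧ ∃ D : Set X, IsConstructible D ∧ ∀ (L : Type u) [Field L] [IsAlgClosed L] [Algebra A L],
      algebraMap A L a ≠ 0 → ∀ z : (pullback h (specAlg A L) : Scheme.{u}), Multi z ↔ pullback.fst h (specAlg A L) z ∈ D := by
  classical
  let Ω := AlgebraicClosure (FractionRing A)
  have hΩ : Function.Injective (algebraMap A Ω) := by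
    rw [IsScalarTower.algebraMap_eq A (FractionRing A) Ω]
    exact (algebraMap (FractionRing A) Ω).injective.comp (IsFractionRing.injective A (FractionRing A))
  haveI : Algebra.IsAlgebraic A Ω :=
    (IsFractionRing.comap_isAlgebraic_iff (A := A) (K := FractionRing A) (C := Ω)).mpr inferInstance
  let P : Scheme.{u} := pullback h (specAlg A Ω)
  haveI : IsLocallyNoetherian P := LocallyOfFiniteType.isLocallyNoetherian (pullback.snd h (specAlg A Ω))
  haveI : CompactSpace P := QuasiCompact.compactSpace_of_compactSpace (pullback.snd h (specAlg A Ω))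
  haveI : AlgebraicGeometry.IsNoetherian P := ⟨⟩
  haveI : Finite (irreducibleComponents P) := TopologicalSpace.NoetherianSpace.finite_irreducibleComponents.to_subtype
  cases nonempty_fintype (irreducibleComponents P)
  let T : irreducibleComponents P → Set P := fun i => i.1
  have hTc : ∀ i, IsClosed (T i) := fun i => isClosed_of_mem_irreducibleComponents _ i.2
  have hTi : ∀ i, IsIrreducible (T i) := fun i => i.2.1
  have hTcov : ∀ z, ∃ i, z ∈ T i := fun z =>
    ⟨⟨_, irreducibleComponent_mem_irreducibleComponents z⟩, mem_irreducibleComponent⟩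
  choose zO hzO hzO' using fun i : irreducibleComponents P => Groth.L07.Count.exists_mem_notMem_components i
  obtain ⟨A', hA', hstage⟩ := exists_stage_closed h Ω T hTc
  haveI : Algebra.FiniteType A A' := (Subalgebra.fg_iff_finiteType A').mp hA'
  haveI : Algebra.IsAlgebraic A' Ω :=
    Algebra.IsAlgebraic.extendScalars (R := A) (fun a b hab => hΩ (congrArg Subtype.val hab :))
  haveI : IsNoetherianRing A' := Algebra.FiniteType.isNoetherianRing A A'
  let X' : Scheme.{u} := pullback h (specAlg A A')
  let h' : X' ⟶ Spec (CommRingCat.of A') := pullback.snd h (specAlg A A')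
  let q : P ⟶ X' := bcTo h A'.val
  let C : irreducibleComponents P → Set X' := fun i => closure (q '' T i)
  have hqpre : ∀ i, q ⁻¹' C i = T i := fun i =>
    (hstage i).antisymm fun z hz => subset_closure ⟨z, hz, rfl⟩
  have hker : RingHom.ker (algebraMap A' Ω) = ⊥ :=
    (RingHom.injective_iff_ker_eq_bot _).mp Subtype.val_injective
  let e' : pullback h' (specAlg A' Ω) ≅ P :=
    pullbackLeftPullbackSndIso h (specAlg A A') (specAlg A' Ω) ≪≫ pullback.congrHom rfl (by
      rw [← Spec.map_comp, ← CommRingCat.ofHom_comp, ← IsScalarTower.algebraMap_eq])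
  have he' : e'.hom ≫ q = pullback.fst h' (specAlg A' Ω) := by
    apply pullback.hom_ext
    · simp [e', q, h']
    · simp [e', q, h']
      rw [pullback.condition]
      rfl
  have hfst : ∀ z, pullback.fst h' (specAlg A' Ω) z = q (e'.hom z) := fun z => by
    rw [← Scheme.Hom.comp_apply, he']
  have hqgen : ∀ z : P, (h' (q z)).asIdeal = ⊥ := fun z => by
    obtain ⟨w, rfl⟩ := e'.hom.surjective z
    rw [← hfst, asIdeal_fst, hker]
  have hgenq : ∀ x : X', (h' x).asIdeal = ⊥ → ∃ z, q z = x := fun x hx => by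
    obtain ⟨z, rfl⟩ := exists_fst_eq h' Ω x (hx.trans hker.symm)
    exact ⟨e'.hom z, (hfst z).symm⟩
  obtain ⟨a₀, ha₀, hcov⟩ := exists_forall_mem_of_generic h' (⋃ i, C i) (isClosed_iUnion_of_finite fun i => isClosed_closure)
    fun x hx => by
      obtain ⟨z, rfl⟩ := hgenq x hx
      obtain ⟨i, hi⟩ := hTcov z
      exact Set.mem_iUnion.mpr ⟨i, subset_closure ⟨_, hi, rfl⟩⟩
  have hpiece : ∀ i, ∃ a : A', a ≠ 0 ∧ ∀ (K : Type u) [Field K] [Algebra A' K], algebraMap A' K a ≠ 0 →
      IsIrreducible (pullback.fst h' (specAlg A' K) ⁻¹' C i) := by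
    intro i
    let I := Scheme.IdealSheafData.vanishingIdeal (X := X') ⟨C i, isClosed_closure⟩
    have hr : Set.range I.subschemeι = C i := by
      rw [Scheme.IdealSheafData.range_subschemeι, Scheme.IdealSheafData.coe_support_vanishingIdeal]; rfl
    have key : ∀ (K : Type u) [Field K] [Algebra A' K],
        IrreducibleSpace (pullback (I.subschemeι ≫ h') (specAlg A' K) : Scheme.{u}) ↔
          IsIrreducible (pullback.fst h' (specAlg A' K) ⁻¹' C i) := fun K _ _ => by
      let j := pullback.snd I.subschemeι (pullback.fst h' (specAlg A' K))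
      have hjr : Set.range j = pullback.fst h' (specAlg A' K) ⁻¹' C i := by
        rw [Scheme.Pullback.range_snd, hr]
      rw [← (pullbackRightPullbackFstIso h' (specAlg A' K) I.subschemeι).hom.homeomorph.irreducibleSpace_iff, ← hjr,
        j.isEmbedding.toHomeomorph.irreducibleSpace_iff]
      exact ⟨fun _ => IsIrreducible.of_subtype, fun h => Subtype.irreducibleSpace h⟩
    haveI : IrreducibleSpace (pullback (I.subschemeι ≫ h') (specAlg A' Ω) : Scheme.{u}) := (key Ω).mpr (by
      have : pullback.fst h' (specAlg A' Ω) ⁻¹' C i = e'.inv '' T i := by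
        ext z
        rw [Set.mem_preimage, hfst, ← Set.mem_preimage, hqpre]
        exact ⟨fun hz => ⟨_, hz, by rw [← Scheme.Hom.comp_apply, e'.hom_inv_id]; rfl⟩, by
          rintro ⟨w, hw, rfl⟩
          rw [← Scheme.Hom.comp_apply, e'.inv_hom_id]
          exact hw⟩
      rw [this]
      exact (hTi i).image _ e'.inv.continuous.continuousOn)
    obtain ⟨a, ha, hK⟩ := exists_forall_irreducibleSpace (I.subschemeι ≫ h') Ω Subtype.val_injective
    exact ⟨a, ha, fun K _ _ haK => (key K).mp (hK K haK)⟩
  choose aC haC0 haC using hpiece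
  have hown : ∀ i, ∃ a : A', a ≠ 0 ∧ ∀ p : Spec (CommRingCat.of A'), a ∉ p.asIdeal →
      ∃ w, h' w = p ∧ w ∈ C i ∧ ∀ k ≠ i, w ∉ C k := fun i => by
    let U : X'.Opens := ⟨(⋃ k ∈ {k | k ≠ i}, C k)ᶜ,
      (Set.Finite.isClosed_biUnion (Set.toFinite _) fun k _ => isClosed_closure).isOpen_compl⟩
    have hU : q (zO i) ∈ U := by
      show q (zO i) ∉ ⋃ k ∈ {k | k ≠ i}, C k
      simp only [Set.mem_iUnion, Set.mem_ofPred_eq, not_exists]
      intro k hk hm
      exact hzO' i k hk (show zO i ∈ T k from hqpre k ▸ hm)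
    obtain ⟨a, ha, hw⟩ := exists_forall_exists_mem_over (U.ι ≫ h') (U.ι ⁻¹' C i)
      (isClosed_closure.preimage U.ι.continuous) (⟨q (zO i), hU⟩ : U)
      (subset_closure ⟨zO i, hzO i, rfl⟩) (hqgen _)
    refine ⟨a, ha, fun p hp => ?_⟩
    obtain ⟨w, hwC, hwp⟩ := hw p hp
    refine ⟨U.ι w, by rw [← Scheme.Hom.comp_apply]; exact hwp, hwC, fun k hk hm => ?_⟩
    exact (w : U).2 (Set.mem_biUnion (x := k) hk hm)
  choose aO haO0 haO using hown
  let astar : A' := a₀ * (∏ i, aC i) * ∏ i, aO i
  have hastar : astar ≠ 0 := mul_ne_zero (mul_ne_zero ha₀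
    (Finset.prod_ne_zero_iff.mpr fun i _ => haC0 i)) (Finset.prod_ne_zero_iff.mpr fun i _ => haO0 i)
  -- the multiple points over the good part of the auxiliary base
  let G : Set X' := h' ⁻¹' (PrimeSpectrum.basicOpen astar : Set (PrimeSpectrum A'))
  let D' : Set X' := {w | ∃ i j, i ≠ j ∧ w ∈ C i ∧ w ∈ C j} ∩ G
  have hmulti : ∀ (K : Type u) [Field K] [Algebra A' K], algebraMap A' K astar ≠ 0 →
      ∀ z : (pullback h' (specAlg A' K) : Scheme.{u}), Multi z ↔ pullback.fst h' (specAlg A' K) z ∈ D' := by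
    intro K _ _ hK z
    simp only [astar, map_mul, map_prod, ne_eq, mul_eq_zero, not_or, Finset.prod_eq_zero_iff, not_exists, not_and,
      Finset.mem_univ, forall_const] at hK
    let p₀ : Spec (CommRingCat.of A') := (⟨RingHom.ker (algebraMap A' K), RingHom.ker_isPrime _⟩ : PrimeSpectrum A')
    let TK : irreducibleComponents P → Set (pullback h' (specAlg A' K) : Scheme.{u}) := fun i =>
      pullback.fst h' (specAlg A' K) ⁻¹' C i
    rw [multi_iff_cover TK (fun i => isClosed_closure.preimage (Scheme.Hom.continuous _))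
      (fun i => haC i K (hK.1.2 i))
      (fun v => (Set.mem_iUnion.mp (hcov (pullback.fst h' (specAlg A' K) v) fun hm => hK.1.1
        (RingHom.mem_ker.mp (asIdeal_fst h' K v ▸ hm)))).imp fun i hi => hi)
      (fun i => by
        obtain ⟨w, hwp, hwC, hwk⟩ := haO i p₀ (fun hm => hK.2 i (RingHom.mem_ker.mp hm))
        obtain ⟨v, hv⟩ := exists_fst_eq h' K w (by rw [hwp])
        exact ⟨v, by show pullback.fst h' _ v ∈ C i; rw [hv]; exact hwC,
          fun k hk => by show pullback.fst h' _ v ∉ C k; rw [hv]; exact hwk k hk⟩) z]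
    refine ⟨fun hz => ⟨hz, fun hm => ?_⟩, fun hz => hz.1⟩
    rw [asIdeal_fst h' K z, RingHom.mem_ker] at hm
    simp only [astar, map_mul, map_prod, mul_eq_zero, Finset.prod_eq_zero_iff, Finset.mem_univ, true_and] at hm
    rcases hm with (hm | ⟨i, hi⟩) | ⟨i, hi⟩
    exacts [hK.1.1 hm, hK.1.2 i hi, hK.2 i hi]
  -- the image in the original scheme
  let pr : X' ⟶ X := pullback.fst h (specAlg A A')
  haveI : LocallyOfFinitePresentation (specAlg A A') := by
    rw [specAlg, HasRingHomProperty.Spec_iff (P := @LocallyOfFinitePresentation)]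
    exact RingHom.finitePresentation_algebraMap.mpr (Algebra.FinitePresentation.of_finiteType.mp inferInstance)
  haveI : LocallyOfFinitePresentation pr := MorphismProperty.pullback_fst _ _ inferInstance
  haveI : IsLocallyNoetherian X := LocallyOfFiniteType.isLocallyNoetherian h
  haveI : CompactSpace X := QuasiCompact.compactSpace_of_compactSpace h
  haveI : AlgebraicGeometry.IsNoetherian X := ⟨⟩
  haveI : IsLocallyNoetherian X' := LocallyOfFiniteType.isLocallyNoetherian h'
  haveI : CompactSpace X' := QuasiCompact.compactSpace_of_compactSpace h'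
  haveI : AlgebraicGeometry.IsNoetherian X' := ⟨⟩
  have hD' : IsConstructible D' := by
    refine IsConstructible.inter ?_ (Groth.L06.Constr.isConstructible_of_isOpen
      ((PrimeSpectrum.basicOpen astar).2.preimage h'.continuous))
    have e : {w : X' | ∃ i j, i ≠ j ∧ w ∈ C i ∧ w ∈ C j} =
        ⋃ i, ⋃ j, if i = j then (∅ : Set X') else C i ∩ C j := by
      ext w
      simp only [Set.mem_ofPred_eq, Set.mem_iUnion]
      refine exists_congr fun i => exists_congr fun j => ?_
      by_cases hij : i = j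
      · simp [hij]
      · simp [hij]
    rw [e]
    refine Groth.L06.Constr.isConstructible_of_isClosed (isClosed_iUnion_of_finite fun i =>
      isClosed_iUnion_of_finite fun j => ?_)
    split
    exacts [isClosed_empty, isClosed_closure.inter isClosed_closure]
  haveI : QuasiCompact pr := MorphismProperty.pullback_fst _ _ inferInstance
  have hD : IsConstructible (pr '' D') :=
    (pr.isLocallyConstructible_image hD'.isLocallyConstructible).isConstructible
  let E := Localization.Away astar
  haveI : IsDomain E := IsLocalization.isDomain_of_le_nonZeroDivisors (M := Submonoid.powers astar) (S := E)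
    (powers_le_nonZeroDivisors_of_noZeroDivisors hastar)
  haveI : Algebra.FiniteType A' E := IsLocalization.finiteType_of_monoid_fg (Submonoid.powers astar) E
  haveI : Algebra.FiniteType A E := Algebra.FiniteType.trans (R := A) (S := A') inferInstance inferInstance
  obtain ⟨a, ha, hpt⟩ := exists_forall_nonempty_algHom (A := A) (E := E) (by
    rw [IsScalarTower.algebraMap_eq A A' E]
    exact (IsLocalization.injective E (powers_le_nonZeroDivisors_of_noZeroDivisors hastar)).comp
      (fun a b hab => hΩ (congrArg Subtype.val hab :)))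
  refine ⟨a, ha, pr '' D', hD, fun L _ _ _ hL z => ?_⟩
  obtain ⟨θ⟩ := hpt L hL
  let θ' : A' →ₐ[A] L := θ.comp (IsScalarTower.toAlgHom A A' E)
  have hθ : θ' astar ≠ 0 := ((IsLocalization.Away.algebraMap_isUnit (S := E) astar).map θ).ne_zero
  -- transport along a point of the auxiliary base
  have transport : ∀ (K : Type u) [Field K] [Algebra A K] (ψ : A' →ₐ[A] K), ψ astar ≠ 0 →
      ∀ z : (pullback h (specAlg A K) : Scheme.{u}), ∃ w : X', (Multi z ↔ w ∈ D') ∧
        pr w = pullback.fst h (specAlg A K) z ∧ w = bcTo h ψ z := by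
    intro K _ _ ψ hψ z
    letI : Algebra A' K := ψ.toRingHom.toAlgebra
    let eK : pullback h' (specAlg A' K) ≅ pullback h (specAlg A K) :=
      pullbackLeftPullbackSndIso h (specAlg A A') (specAlg A' K) ≪≫ pullback.congrHom rfl (by
        rw [← Spec.map_comp, ← CommRingCat.ofHom_comp]
        exact congrArg (fun ψ => Spec.map (CommRingCat.ofHom ψ)) ψ.comp_algebraMap)
    have heK : eK.hom ≫ bcTo h ψ = pullback.fst h' (specAlg A' K) := by
      apply pullback.hom_ext
      · simp [eK, h']
      · simp [eK, h']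
        rw [pullback.condition]
        rfl
    obtain ⟨v, rfl⟩ := eK.hom.surjective z
    refine ⟨pullback.fst h' (specAlg A' K) v, ?_, ?_, ?_⟩
    · exact (multi_homeomorph eK.hom.homeomorph v).trans (hmulti K hψ v)
    · rw [← heK, Scheme.Hom.comp_apply]
      exact (congrArg (fun m : (pullback h (specAlg A K) : Scheme.{u}) ⟶ X => m (eK.hom v)) (bcTo_fst h ψ) :)
    · rw [← heK, Scheme.Hom.comp_apply]
  obtain ⟨w₁, hw₁, hpr₁, hw₁'⟩ := transport L θ' hθ z
  refine hw₁.trans ⟨fun hm => ⟨w₁, hm, hpr₁⟩, ?_⟩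
  rintro ⟨w₂, hw₂, hpr₂⟩
  obtain ⟨n, hn₁, hn₂⟩ := Scheme.Pullback.exists_preimage_pullback (f := pullback.fst h (specAlg A L)) (g := pr) z w₂
    hpr₂.symm
  let Q := pullback (pullback.fst h (specAlg A L)) pr
  let M := AlgebraicClosure (Q.residueField n)
  let σ : Spec (CommRingCat.of M) ⟶ Q :=
    Spec.map (CommRingCat.ofHom (algebraMap (Q.residueField n) M)) ≫ Q.fromSpecResidueField n
  have hσ : ∀ c, σ c = n := fun c => Scheme.fromSpecResidueField_apply n _
  let v : Spec (CommRingCat.of M) ⟶ X := σ ≫ pullback.snd _ _ ≫ pr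
  obtain ⟨φL, hφL⟩ := Spec.map_surjective (σ ≫ pullback.fst _ _ ≫ pullback.snd h (specAlg A L))
  obtain ⟨φA', hφA'⟩ := Spec.map_surjective (σ ≫ pullback.snd _ _ ≫ h')
  obtain ⟨φA, hφA⟩ := Spec.map_surjective (v ≫ h)
  letI : Algebra A M := φA.hom.toAlgebra
  have hcA' : φA'.hom.comp (algebraMap A A') = φA.hom := by
    refine congrArg CommRingCat.Hom.hom (Spec.map_injective (?_ : Spec.map (CommRingCat.ofHom (algebraMap A A') ≫ φA') = Spec.map φA))
    rw [Spec.map_comp, hφA', hφA]
    simp only [v, pr, h', Category.assoc]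
    rw [pullback.condition]
  have hcL : φL.hom.comp (algebraMap A L) = φA.hom := by
    refine congrArg CommRingCat.Hom.hom (Spec.map_injective (?_ : Spec.map (CommRingCat.ofHom (algebraMap A L) ≫ φL) = Spec.map φA))
    rw [Spec.map_comp, hφL, hφA]
    simp only [v, Category.assoc]
    rw [← pullback.condition_assoc (f := pullback.fst h (specAlg A L)) (g := pr), pullback.condition]
  let ψ₂ : A' →ₐ[A] M := { φA'.hom with commutes' := fun r => RingHom.congr_fun hcA' r }
  let ψL : L →ₐ[A] M := { φL.hom with commutes' := fun r => RingHom.congr_fun hcL r }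
  let u₀ : Spec (CommRingCat.of M) ⟶ pullback h (specAlg A M) :=
    pullback.lift v (𝟙 _) (by rw [Category.id_comp, ← hφA]; rfl)
  let c : Spec (CommRingCat.of M) := IsLocalRing.closedPoint M
  let u := u₀ c
  have hu2 : bcTo h ψ₂ u = w₂ := by
    have e : u₀ ≫ bcTo h ψ₂ = σ ≫ pullback.snd _ _ := by
      apply pullback.hom_ext
      · rw [Category.assoc, bcTo_fst, pullback.lift_fst, Category.assoc]
      · rw [Category.assoc, bcTo_snd, pullback.lift_snd_assoc, Category.id_comp, Category.assoc, ← hφA']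
        rfl
    rw [← Scheme.Hom.comp_apply, e, Scheme.Hom.comp_apply, hσ, hn₂]
  have huL : bcTo h ψL u = z := by
    have e : u₀ ≫ bcTo h ψL = σ ≫ pullback.fst _ _ := by
      apply pullback.hom_ext
      · rw [Category.assoc, bcTo_fst, pullback.lift_fst, Category.assoc, pullback.condition]
      · rw [Category.assoc, bcTo_snd, pullback.lift_snd_assoc, Category.id_comp, Category.assoc, ← hφL]
        rfl
    rw [← Scheme.Hom.comp_apply, e, Scheme.Hom.comp_apply, hσ, hn₁]
  have hψ₂ : ψ₂ astar ≠ 0 := by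
    intro h0
    have hm := hw₂.2
    refine hm ?_
    rw [← hu2, ← Scheme.Hom.comp_apply, bcTo_snd, Scheme.Hom.comp_apply]
    show ψ₂ astar ∈ (pullback.snd h (specAlg A M) u).asIdeal
    rw [h0]
    exact zero_mem _
  obtain ⟨w₂', hw₂', -, hw₂e⟩ := transport M ψ₂ hψ₂ u
  obtain ⟨w₁', hw₁e, -, hw₁''⟩ := transport M (ψL.comp θ') (fun h0 => hθ (ψL.toRingHom.injective (by
    rw [map_zero]; exact h0))) u
  have hmu : Multi u := hw₂'.mpr (by rw [hw₂e, hu2]; exact hw₂)
  have hcomp : bcTo h (ψL.comp θ') u = bcTo h θ' (bcTo h ψL u) := by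
    refine Eq.trans ?_ (Scheme.Hom.comp_apply _ _ _)
    refine congrArg (fun m : (pullback h (specAlg A M) : Scheme.{u}) ⟶ X' => m u) ?_
    apply pullback.hom_ext
    · rw [Category.assoc, bcTo_fst, bcTo_fst, bcTo_fst]
    · rw [Category.assoc, bcTo_snd, bcTo_snd, bcTo_snd_assoc, ← Spec.map_comp, ← CommRingCat.ofHom_comp]
      rfl
  rw [huL, ← hw₁'] at hcomp
  exact hcomp ▸ hw₁'' ▸ hw₁e.mp hmu

end Groth.L07.GISpread
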