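import Mathlib.RingTheory.FiniteType
import Mathlib.RingTheory.Polynomial.Basic
import Mathlib.RingTheory.Localization.Away.Basic
import Mathlib.Algebra.Module.LocalizedModule.Basic
import Mathlib.LinearAlgebra.Finsupp.LinearCombination
import Mathlib.LinearAlgebra.LinearIndependent.Lemmas
import Mathlib.RingTheory.Localization.Module

/-! Generic freeness over a Noetherian domain. -/

namespace Groth.L07.GenFree

open Polynomial

set_option linter.style.haveILetI false

universe u v w

variable {R : Type u} [CommRing R]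

/-- `M` is free after inverting `f`, witnessed inside `M`. -/
def FreeAt (f : R) (M : Type v) [AddCommGroup M] [Module R M] : Prop :=
  ∃ s : Set M, LinearIndependent R (Subtype.val : s → M) ∧
    ∀ m : M, ∃ N : ℕ, f ^ N • m ∈ Submodule.span R s

variable {M M' : Type v} [AddCommGroup M] [Module R M] [AddCommGroup M'] [Module R M']

theorem FreeAt.mono {f g : R} (h : FreeAt f M) (hfg : f ∣ g) : FreeAt g M := by
  obtain ⟨s, hs, hgen⟩ := h
  refine ⟨s, hs, fun m => ?_⟩
  obtain ⟨N, hN⟩ := hgen m
  obtain ⟨c, rfl⟩ := hfg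
  exact ⟨N, by rw [mul_pow, mul_comm, ← smul_smul]; exact Submodule.smul_mem _ _ hN⟩

theorem freeAt_of_subsingleton [Subsingleton M] (f : R) : FreeAt f M :=
  ⟨∅, linearIndependent_empty _ _, fun m => ⟨0, by rw [Subsingleton.elim (f ^ 0 • m) 0]; exact zero_mem _⟩⟩

theorem FreeAt.of_equiv {f : R} (h : FreeAt f M) (e : M ≃ₗ[R] M') : FreeAt f M' := by
  obtain ⟨s, hs, hgen⟩ := h
  refine ⟨e '' s, ?_, fun m => ?_⟩
  · exact (linearIndepOn_id_range_iff (e.injective.comp Subtype.val_injective)).mpr
      (hs.map' e.toLinearMap e.ker) |> fun h => by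
        rw [Set.range_comp, Subtype.range_coe] at h; exact h
  · obtain ⟨N, hN⟩ := hgen (e.symm m)
    refine ⟨N, ?_⟩
    have h1 := Submodule.mem_map_of_mem (f := e.toLinearMap) hN
    rw [Submodule.map_span] at h1
    simpa using h1

/-- An increasing exhaustive filtration with quotients free after inverting `f`. -/
theorem freeAt_of_filtration {f : R} (F : ℕ → Submodule R M) (hF0 : F 0 = ⊥)
    (hmono : ∀ j, F j ≤ F (j + 1)) (htop : ∀ m, ∃ j, m ∈ F j)
    (hQ : ∀ j, FreeAt f (↥(F (j + 1)) ⧸ (F j).comap (F (j + 1)).subtype)) : FreeAt f M := by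
  classical
  choose s hs hgen using hQ
  let π : ∀ j, ↥(F (j + 1)) →ₗ[R] ↥(F (j + 1)) ⧸ (F j).comap (F (j + 1)).subtype :=
    fun j => Submodule.mkQ _
  choose l hl using fun j (x : s j) => Submodule.mkQ_surjective _
    (x : ↥(F (j + 1)) ⧸ (F j).comap (F (j + 1)).subtype)
  let v : (Σ j, s j) → M := fun a => ((l a.1 a.2 : ↥(F (a.1 + 1))) : M)
  have hle : ∀ {a b}, a ≤ b → F a ≤ F b := fun h => monotone_nat_of_le_succ hmono h
  have hli : LinearIndependent R v := by
    rw [linearIndependent_iff]
    intro c hc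
    suffices H : ∀ J, (∀ a ∈ c.support, a.1 < J) → c = 0 by
      exact H ((c.support.sup fun a => a.1) + 1) (fun a ha =>
        Nat.lt_succ_of_le (Finset.le_sup (f := fun a : Σ j, s j => a.1) ha))
    intro J
    induction J with
    | zero => intro h; ext a; by_contra ha; exact absurd (h a (Finsupp.mem_support_iff.mpr ha)) (by omega)
    | succ J ih =>
      intro hsupp
      apply ih
      intro a ha
      rcases Nat.lt_succ_iff_lt_or_eq.mp (hsupp a ha) with h | h
      · exact h
      exfalso
      let cJ : s J →₀ R := c.comapDomain (fun x => (⟨J, x⟩ : Σ j, s j))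
        (fun x _ y _ h => sigma_mk_injective (β := fun j => ↥(s j)) h)
      have hcJ : ∀ x, cJ x = c ⟨J, x⟩ := fun x => rfl
      have hsplit : Finsupp.linearCombination R v c =
          (∑ x ∈ cJ.support, cJ x • v ⟨J, x⟩) +
            ∑ a ∈ c.support.filter (fun a => a.1 ≠ J), c a • v a := by
        rw [Finsupp.linearCombination_apply, Finsupp.sum,
          ← Finset.sum_filter_add_sum_filter_not c.support (fun a => a.1 = J)]
        congr 1
        symm
        refine Finset.sum_bij (fun x _ => (⟨J, x⟩ : Σ j, s j)) ?_ ?_ ?_ ?_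
        · intro x hx
          exact Finset.mem_filter.mpr ⟨by simpa [hcJ] using hx, rfl⟩
        · intro x _ y _ h; exact sigma_mk_injective (β := fun j => ↥(s j)) h
        · intro b hb
          obtain ⟨hb1, hb2⟩ := Finset.mem_filter.mp hb
          obtain ⟨j, x⟩ := b
          obtain rfl : j = J := hb2
          exact ⟨x, by simpa [hcJ] using hb1, rfl⟩
        · intro x _; rfl
      have hlow : (∑ a ∈ c.support.filter (fun a => a.1 ≠ J), c a • v a) ∈ F J := by
        refine Submodule.sum_mem _ fun b hb => (F J).smul_mem _ ?_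
        obtain ⟨hb1, hb2⟩ := Finset.mem_filter.mp hb
        have : b.1 + 1 ≤ J := by
          have := hsupp b hb1
          have : b.1 ≠ J := hb2
          omega
        exact hle this (l b.1 b.2).2
      have hhigh : (∑ x ∈ cJ.support, cJ x • v ⟨J, x⟩) ∈ F J := by
        rw [hc] at hsplit
        rw [eq_neg_of_add_eq_zero_left hsplit.symm]
        exact neg_mem hlow
      have h0 : ∑ x ∈ cJ.support, cJ x • (x : ↥(F (J + 1)) ⧸ (F J).comap (F (J + 1)).subtype) = 0 := by
        have : ∑ x ∈ cJ.support, cJ x • (x : ↥(F (J + 1)) ⧸ (F J).comap (F (J + 1)).subtype) =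
            π J (∑ x ∈ cJ.support, cJ x • l J x) := by
          rw [map_sum]
          exact Finset.sum_congr rfl fun x _ => by rw [map_smul, hl]
        rw [this]
        refine (Submodule.Quotient.mk_eq_zero _).mpr ?_
        rw [Submodule.mem_comap, Submodule.subtype_apply, Submodule.coe_sum]
        exact hhigh
      have hz := linearIndependent_iff'.mp (hs J) cJ.support (fun x => cJ x) h0
      obtain ⟨j, x⟩ := a
      obtain rfl : j = J := h
      have hx : cJ x = c ⟨j, x⟩ := rfl
      have hne := Finsupp.mem_support_iff.mp ha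
      rw [← hx] at hne
      exact hne (hz x (Finsupp.mem_support_iff.mpr hne))
  refine ⟨Set.range v, hli.linearIndepOn_id, ?_⟩
  intro m
  obtain ⟨J, hJ⟩ := htop m
  induction J generalizing m with
  | zero =>
    rw [hF0, Submodule.mem_bot] at hJ
    exact ⟨0, by rw [hJ, smul_zero]; exact zero_mem _⟩
  | succ J ih =>
    obtain ⟨N, hN⟩ := hgen J (π J ⟨m, hJ⟩)
    obtain ⟨c, hc⟩ := (Finsupp.mem_span_iff_linearCombination R _ _).mp hN
    set y : ↥(F (J + 1)) := Finsupp.linearCombination R (l J) c with hy
    have hπy : π J y = f ^ N • π J ⟨m, hJ⟩ := by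
      rw [hy, Finsupp.apply_linearCombination, ← hc]
      congr 1
      exact congrArg _ (funext fun x => hl J x)
    have hrest : f ^ N • m - (y : M) ∈ F J := by
      have h1 : π J (f ^ N • ⟨m, hJ⟩ - y) = 0 := by rw [map_sub, map_smul, hπy, sub_self]
      exact Submodule.mem_comap.mp ((Submodule.Quotient.mk_eq_zero _).mp h1)
    obtain ⟨N', hN'⟩ := ih _ hrest
    refine ⟨N' + N, ?_⟩
    rw [pow_add, mul_smul, show f ^ N • m = (f ^ N • m - (y : M)) + (y : M) from (sub_add_cancel _ _).symm,
      smul_add]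
    refine add_mem hN' (Submodule.smul_mem _ _ ?_)
    have h2 : (y : M) = Finsupp.linearCombination R (fun x => v ⟨J, x⟩) c := by
      rw [hy, ← Submodule.subtype_apply, Finsupp.apply_linearCombination]
      rfl
    rw [h2]
    exact Submodule.span_mono (Set.range_comp_subset_range _ v)
      ((Finsupp.mem_span_range_iff_exists_finsupp).mpr ⟨c, (Finsupp.linearCombination_apply _ _).symm⟩)

/-- All finite modules over `S` are free after inverting a nonzero element of `R`. -/
def Good (R : Type u) [CommRing R] (S : Type v) [CommRing S] [Algebra R S] : Prop :=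
  ∀ (M : Type (max u v)) [AddCommGroup M] [Module R M] [Module S M] [IsScalarTower R S M]
    [Module.Finite S M], ∃ f : R, f ≠ 0 ∧ FreeAt f M

theorem good_of_algebraMap_surjective [IsDomain R] {S : Type v} [CommRing S] [Algebra R S]
    (hsurj : Function.Surjective (algebraMap R S)) : Good R S := by
  classical
  intro M _ _ _ _ hfin
  haveI : Module.Finite R M := by
    obtain ⟨t, ht⟩ := hfin.fg_top
    refine ⟨⟨t, eq_top_iff.mpr fun m _ => ?_⟩⟩
    have hm : m ∈ Submodule.span S (t : Set M) := by rw [ht]; trivial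
    refine Submodule.span_induction (p := fun m _ => m ∈ Submodule.span R (t : Set M))
      (fun x hx => Submodule.subset_span hx) (zero_mem _) (fun x y _ _ => add_mem) ?_ hm
    intro r x _ hx
    obtain ⟨r, rfl⟩ := hsurj r
    rw [algebraMap_smul]
    exact Submodule.smul_mem _ r hx
  obtain ⟨t, ht⟩ := Module.Finite.fg_top (R := R) (M := M)
  obtain ⟨s, hst, hs, hmax⟩ : ∃ s ⊆ (t : Set M), LinearIndepOn R id s ∧
      ∀ x ∈ (t : Set M), ∃ a : R, a ≠ 0 ∧ a • x ∈ Submodule.span R s := by
    obtain ⟨s, hmem, hmax⟩ := Finset.exists_max_image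
      ((t.powerset : Finset (Finset M)).filter fun s : Finset M => LinearIndepOn R id (s : Set M)) Finset.card
      ⟨∅, Finset.mem_filter.mpr ⟨Finset.empty_mem_powerset _, by simp⟩⟩
    obtain ⟨hst, hs⟩ := Finset.mem_filter.mp hmem
    rw [Finset.mem_powerset] at hst
    refine ⟨s, Finset.coe_subset.mpr hst, hs, fun x hx => ?_⟩
    by_cases hxs : x ∈ s
    · exact ⟨1, one_ne_zero, by rw [one_smul]; exact Submodule.subset_span hxs⟩
    · by_contra h
      push Not at h
      have : LinearIndepOn R id ((insert x s : Finset M) : Set M) := by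
        rw [Finset.coe_insert]
        exact LinearIndepOn.id_insert' hs fun a ha => by_contra fun ha0 => h a ha0 ha
      have := hmax _ (Finset.mem_filter.mpr
        ⟨Finset.mem_powerset.mpr (Finset.insert_subset hx hst), this⟩)
      rw [Finset.card_insert_of_notMem hxs] at this
      omega
  choose! a ha0 ha using hmax
  refine ⟨∏ x ∈ t, a x, Finset.prod_ne_zero_iff.mpr fun x hx => ha0 x hx, s, hs, fun m => ⟨1, ?_⟩⟩
  rw [pow_one]
  have hm : m ∈ Submodule.span R (t : Set M) := by rw [ht]; trivial
  induction hm using Submodule.span_induction with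
  | mem x hx =>
    rw [← Finset.prod_erase_mul t a hx, mul_smul]
    exact Submodule.smul_mem _ _ (ha x hx)
  | zero => rw [smul_zero]; exact zero_mem _
  | add x y _ _ hx hy => rw [smul_add]; exact add_mem hx hy
  | smul r x _ hx => rw [smul_comm]; exact Submodule.smul_mem _ r hx

theorem good_of_surjective {S : Type v} [CommRing S] [Algebra R S] {S' : Type w} [CommRing S']
    [Algebra R S'] (φ : S →ₐ[R] S') (hφ : Function.Surjective φ)
    (h : ∀ (M : Type (max u w)) [AddCommGroup M] [Module R M] [Module S M] [IsScalarTower R S M]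
      [Module.Finite S M], ∃ f : R, f ≠ 0 ∧ FreeAt f M) : Good R S' := by
  intro M _ _ _ _ hfin
  letI : Module S M := Module.compHom M φ.toRingHom
  have hsm : ∀ (s : S) (m : M), s • m = φ s • m := fun _ _ => rfl
  haveI : IsScalarTower R S M := ⟨fun r s m => by
    rw [hsm, hsm, map_smul, smul_assoc]⟩
  haveI : Module.Finite S M := by
    obtain ⟨t, ht⟩ := hfin.fg_top
    refine ⟨⟨t, eq_top_iff.mpr fun m _ => ?_⟩⟩
    have hm : m ∈ Submodule.span S' (t : Set M) := by rw [ht]; trivial
    refine Submodule.span_induction (p := fun m _ => m ∈ Submodule.span S (t : Set M))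
      (fun x hx => Submodule.subset_span hx) (zero_mem _) (fun x y _ _ => add_mem) ?_ hm
    intro r x _ hx
    obtain ⟨r, rfl⟩ := hφ r
    exact Submodule.smul_mem (Submodule.span S (t : Set M)) r hx
  exact h M

set_option maxHeartbeats 800000 in
theorem good_polynomial [IsDomain R] {S : Type u} [CommRing S] [Algebra R S] [IsNoetherianRing S]
    (h : Good R S) : Good R S[X] := by
  classical
  intro M _ _ _ _ hfin
  letI : Module S M := Module.compHom M (algebraMap S S[X])
  have hsm : ∀ (s : S) (m : M), s • m = C s • m := fun _ _ => rfl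
  haveI : IsScalarTower S S[X] M := ⟨fun s p m => by
    rw [hsm, Polynomial.smul_eq_C_mul, mul_smul]⟩
  haveI : IsScalarTower R S M := ⟨fun r s m => by
    rw [hsm, hsm, ← Polynomial.smul_C, smul_assoc]⟩
  haveI : SMulCommClass S R M := ⟨fun s r m => by rw [hsm, hsm, smul_comm]⟩
  obtain ⟨r, g, hg⟩ := Module.Finite.exists_fin (R := S[X]) (M := M)
  let φ : ℕ → ((Fin r → S) →ₗ[S] M) := fun j =>
    Fintype.linearCombination S (fun i => (X : S[X]) ^ j • g i)
  have hφ : ∀ j c, φ j c = (X : S[X]) ^ j • ∑ i, c i • g i := by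
    intro j c
    simp only [φ, Fintype.linearCombination_apply, Finset.smul_sum]
    exact Finset.sum_congr rfl fun i _ => smul_comm _ _ _
  obtain ⟨F, hF0, hFs⟩ : ∃ F : ℕ → Submodule S M,
      F 0 = ⊥ ∧ ∀ j, F (j + 1) = F j ⊔ LinearMap.range (φ j) :=
    ⟨fun j => Nat.rec ⊥ (fun k Fk => Fk ⊔ LinearMap.range (φ k)) j, rfl, fun _ => rfl⟩
  have hmono : ∀ j, F j ≤ F (j + 1) := fun j => (hFs j).symm ▸ le_sup_left
  have hrange : ∀ j c, φ j c ∈ F (j + 1) := fun j c => by
    rw [hFs]; exact Submodule.mem_sup_right ⟨c, rfl⟩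
  have hXmul : ∀ j, ∀ m ∈ F j, (X : S[X]) • m ∈ F (j + 1) := by
    intro j
    induction j with
    | zero =>
      intro m hm
      rw [hF0, Submodule.mem_bot] at hm
      rw [hm, smul_zero]; exact zero_mem _
    | succ j ih =>
      intro m hm
      rw [hFs, Submodule.mem_sup] at hm
      obtain ⟨a, ha, b, ⟨c, rfl⟩, rfl⟩ := hm
      rw [smul_add, show (X : S[X]) • φ j c = φ (j + 1) c by rw [hφ, hφ, smul_smul, pow_succ']]
      exact add_mem (hmono _ (ih a ha)) (hrange _ c)
  have htop : ∀ m, ∃ j, m ∈ F j := by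
    intro m
    have hm : m ∈ Submodule.span S[X] (Set.range g) := by rw [hg]; trivial
    induction hm using Submodule.span_induction with
    | mem x hx =>
      obtain ⟨i, rfl⟩ := hx
      refine ⟨0 + 1, ?_⟩
      rw [hFs]
      refine Submodule.mem_sup_right ⟨Pi.single i 1, ?_⟩
      rw [hφ, pow_zero, one_smul,
        Finset.sum_eq_single i (fun b _ hb => by rw [Pi.single_eq_of_ne hb, zero_smul]) (by simp),
        Pi.single_eq_same, one_smul]
    | zero => exact ⟨0, zero_mem _⟩
    | add x y _ _ hx hy =>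
      obtain ⟨a, ha⟩ := hx
      obtain ⟨b, hb⟩ := hy
      exact ⟨max a b, add_mem (monotone_nat_of_le_succ hmono (le_max_left a b) ha)
        (monotone_nat_of_le_succ hmono (le_max_right a b) hb)⟩
    | smul p x _ hx =>
      obtain ⟨a, ha⟩ := hx
      induction p using Polynomial.induction_on' with
      | add p q hp hq =>
        obtain ⟨a', ha'⟩ := hp
        obtain ⟨b', hb'⟩ := hq
        refine ⟨max a' b', ?_⟩
        rw [add_smul]
        exact add_mem (monotone_nat_of_le_succ hmono (le_max_left a' b') ha')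
          (monotone_nat_of_le_succ hmono (le_max_right a' b') hb')
      | monomial n s =>
        refine ⟨a + n, ?_⟩
        rw [← Polynomial.C_mul_X_pow_eq_monomial, mul_smul, ← hsm]
        refine Submodule.smul_mem _ s ?_
        induction n with
        | zero => rwa [pow_zero, one_smul]
        | succ n ih => rw [pow_succ', mul_smul]; exact hXmul _ _ ih
  let N : ℕ → Submodule S (Fin r → S) := fun j => (F j).comap (φ j)
  have hN : Monotone N := monotone_nat_of_le_succ fun j c hc => by
    show φ (j + 1) c ∈ F (j + 1)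
    rw [hφ, pow_succ', mul_smul, ← hφ]
    exact hXmul _ _ hc
  obtain ⟨J, hJ⟩ := monotone_stabilizes_iff_noetherian.mpr inferInstance ⟨N, hN⟩
  choose f hf0 hf using fun j : Fin (J + 1) => h ((Fin r → S) ⧸ N j)
  refine ⟨∏ j, f j, Finset.prod_ne_zero_iff.mpr fun j _ => hf0 j,
    freeAt_of_filtration (fun j => (F j).restrictScalars R) (by ext; simp [hF0]) hmono htop fun j => ?_⟩
  have hfree : FreeAt (∏ j, f j) ((Fin r → S) ⧸ N j) := by
    rcases le_or_gt J j with hj | hj
    · exact ((hf ⟨J, by omega⟩).mono (Finset.dvd_prod_of_mem f (Finset.mem_univ _))).of_equiv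
        ((Submodule.quotEquivOfEq _ _ (hJ j hj)).restrictScalars R)
    · exact (hf ⟨j, by omega⟩).mono (Finset.dvd_prod_of_mem f (Finset.mem_univ _))
  let ψ₀ : (Fin r → S) →ₗ[R] ↥((F (j + 1)).restrictScalars R) :=
    ((φ j).restrictScalars R).codRestrict _ (fun c => hrange j c)
  let ψ : (Fin r → S) →ₗ[R] ↥((F (j + 1)).restrictScalars R) ⧸
      ((F j).restrictScalars R).comap ((F (j + 1)).restrictScalars R).subtype :=
    Submodule.mkQ _ ∘ₗ ψ₀
  have hψ : Function.Surjective ψ := by
    intro y
    obtain ⟨⟨m, hm⟩, rfl⟩ := Submodule.mkQ_surjective _ y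
    obtain ⟨a, ha, b, ⟨c, rfl⟩, rfl⟩ := Submodule.mem_sup.mp ((hFs j).le hm)
    refine ⟨c, (Submodule.Quotient.eq _).mpr ?_⟩
    show φ j c - (a + φ j c) ∈ F j
    rw [sub_add_cancel_right]
    exact neg_mem ha
  have hker : (N j).restrictScalars R = LinearMap.ker ψ := by
    ext c
    refine Iff.trans ?_ LinearMap.mem_ker.symm
    exact (Submodule.Quotient.mk_eq_zero
      (((F j).restrictScalars R).comap ((F (j + 1)).restrictScalars R).subtype) (x := ψ₀ c)).symm
  exact (hfree.of_equiv ((Submodule.Quotient.restrictScalarsEquiv R (N j)).symm ≪≫ₗ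
    Submodule.quotEquivOfEq _ _ hker ≪≫ₗ ψ.quotKerEquivOfSurjective hψ))

theorem good_mvPolynomial [IsDomain R] [IsNoetherianRing R] :
    ∀ n : ℕ, Good R (MvPolynomial (Fin n) R)
  | 0 => good_of_algebraMap_surjective fun p => ⟨_, (MvPolynomial.eq_C_of_isEmpty p).symm⟩
  | n + 1 => good_of_surjective (MvPolynomial.finSuccEquiv R n).symm.toAlgHom
      (MvPolynomial.finSuccEquiv R n).symm.surjective (good_polynomial (good_mvPolynomial n))

/-- Generic freeness over a Noetherian domain. -/
theorem exists_freeAt [IsDomain R] [IsNoetherianRing R] {S : Type u} [CommRing S] [Algebra R S]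
    [Algebra.FiniteType R S] (M : Type u) [AddCommGroup M] [Module R M] [Module S M]
    [IsScalarTower R S M] [Module.Finite S M] : ∃ f : R, f ≠ 0 ∧ FreeAt f M := by
  obtain ⟨n, φ, hφ⟩ := Algebra.FiniteType.iff_quotient_mvPolynomial''.mp ‹Algebra.FiniteType R S›
  exact good_of_surjective φ hφ (good_mvPolynomial n) M

/-- The localization is free. -/
theorem FreeAt.free [IsDomain R] {f : R} (hf : f ≠ 0) (h : FreeAt f M) (Rf : Type w) [CommRing Rf]
    [Algebra R Rf] [IsLocalization.Away f Rf] (Mf : Type v) [AddCommGroup Mf] [Module R Mf]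
    [Module Rf Mf] [IsScalarTower R Rf Mf] (ι : M →ₗ[R] Mf)
    [IsLocalizedModule (Submonoid.powers f) ι] : Module.Free Rf Mf := by
  obtain ⟨s, hs, hgen⟩ := h
  refine Module.Free.of_basis (Module.Basis.mk (v := fun x : s => ι x) ?_ ?_)
  · have hli : LinearIndependent R (fun x : s => ι x) := by
      rw [linearIndependent_iff']
      intro t c hc i hi
      have : ι (∑ x ∈ t, c x • (x : M)) = 0 := by simpa [map_sum] using hc
      obtain ⟨⟨_, k, rfl⟩, hk⟩ := (IsLocalizedModule.eq_zero_iff (Submonoid.powers f) ι).mp this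
      rw [Submonoid.smul_def, Finset.smul_sum] at hk
      simp only [smul_smul] at hk
      exact (mul_eq_zero.mp (linearIndependent_iff'.mp hs t _ hk i hi)).resolve_left
        (pow_ne_zero _ hf)
    exact hli.localization Rf (Submonoid.powers f)
  · intro y _
    obtain ⟨⟨m, ⟨_, k, rfl⟩⟩, hm⟩ := IsLocalizedModule.surj (Submonoid.powers f) ι y
    obtain ⟨N, hN⟩ := hgen m
    have hmem : f ^ (N + k) • y ∈ Submodule.span Rf (Set.range fun x : s => ι x) := by
      rw [pow_add, mul_smul]
      have : f ^ k • y = ι m := hm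
      rw [this, ← map_smul]
      have h1 := Submodule.mem_map_of_mem (f := ι) hN
      rw [Submodule.map_span] at h1
      exact Submodule.span_le_restrictScalars R Rf _ (by
        rwa [show (Set.range fun x : s => ι x) = ι '' s from (Set.image_eq_range _ _).symm])
    obtain ⟨u, hu⟩ := IsLocalization.map_units Rf (⟨f ^ (N + k), N + k, rfl⟩ : Submonoid.powers f)
    rw [← algebraMap_smul Rf, ← hu] at hmem
    have := Submodule.smul_mem _ ((u⁻¹ : Rfˣ) : Rf) hmem
    rwa [smul_smul, Units.inv_mul, one_smul] at this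

end Groth.L07.GenFree
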