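import Groth.Agent.L07.CIFactor
import Groth.Agent.L07.TransFibre
import Groth.Agent.L07.Avramov
import Groth.Agent.L07.CIIndep

/-!
The geometric depth `dim B - μ(I)` of a presentation `A = B/I` by a regular local ring.
-/

set_option autoImplicit false
set_option linter.style.haveILetI false
set_option maxSynthPendingDepth 3

universe u

open IsLocalRing RingTheory.Sequence Groth.L07.RegIdeal

namespace Groth.L07.GeomDepth

/-- Changing the regular ring along a surjection. -/
theorem dim_add_spanFinrank_comp {C B : Type u} [CommRing C] [IsRegularLocalRing C] [CommRing B]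
    [IsRegularLocalRing B] (π : C →+* B) (hπ : Function.Surjective π) (I : Ideal B) (hI : I ≠ ⊤) (c b : ℕ)
    (hc : ringKrullDim C = c) (hb : ringKrullDim B = b) :
    c + I.spanFinrank = b + (I.comap π).spanFinrank := by
  classical
  let J := RingHom.ker π
  let e : (C ⧸ J) ≃+* B := RingHom.quotientKerEquivOfSurjective hπ
  have hJ : IsRegularLocalRing (C ⧸ J) := IsRegularLocalRing.of_ringEquiv e.symm
  obtain ⟨hJreg, n, f, hf, hind⟩ := Groth.L07.RegQuot.regular_quotient_data J hJ
  let K := I.comap π
  have hJK : J ≤ K := fun x hx => by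
    show π x ∈ I
    rw [RingHom.mem_ker.mp hx]; exact zero_mem _
  have hKm : K ≤ maximalIdeal C := le_maximalIdeal (Ideal.comap_ne_top _ hI)
  have hJm : J ≤ maximalIdeal C := hJK.trans hKm
  have hminJ : IsMin J f := ⟨hf, fun d hd => hind d (Ideal.mul_mono_right hJm hd)⟩
  have hregf := isRegular_of_isMin hJreg hminJ
  have hdim := ringKrullDim_add_length_eq_ringKrullDim_of_isRegular _ hregf
  rw [ringKrullDim_eq_of_ringEquiv (Ideal.quotEquivOfEq (by rw [ofList_ofFn, hf] : Ideal.ofList (List.ofFn f) = J)),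
    ringKrullDim_eq_of_ringEquiv e, hb, hc, List.length_ofFn] at hdim
  have hcb : b + n = c := by exact_mod_cast hdim
  obtain ⟨p, g, hgK, hmin⟩ := exists_extend (K := K) (f := f) (fun i => hJK (hf ▸ Ideal.subset_span ⟨i, rfl⟩))
    (fun d hd => hind d (Ideal.mul_mono_right hKm hd)) (J := K) (by rw [hf]; exact sup_eq_right.mpr hJK)
  have hg : IsMin I (π ∘ g) := by
    have hmapK : K.map π = I := Ideal.map_comap_of_surjective π hπ I
    have hf0 : ∀ i, π (f i) = 0 := fun i => RingHom.mem_ker.mp
      (show f i ∈ J from hf ▸ Ideal.subset_span ⟨i, rfl⟩)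
    refine ⟨?_, fun d hd => ?_⟩
    · rw [Set.range_comp, ← Ideal.map_span, ← hmapK, ← hmin.1, span_range_append, Ideal.map_sup, hf,
        show J.map π = ⊥ from (Ideal.map_eq_bot_iff_le_ker π).mpr le_rfl, bot_sup_eq]
    · choose d' hd' using fun i => hπ (d i)
      have h1 : π (∑ i, d' i * g i) ∈ (maximalIdeal C * K).map π := by
        rw [Ideal.map_mul, hmapK, IsLocalRing.map_maximalIdeal_of_surjective π hπ, map_sum]
        simpa [hd'] using hd
      obtain ⟨w, hw, hwe⟩ := (Ideal.mem_map_iff_of_surjective π hπ).mp h1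
      have h2 : (∑ i, d' i * g i) - w ∈ Ideal.span (Set.range f) := by
        rw [hf]; exact RingHom.mem_ker.mpr (by rw [map_sub, hwe, sub_self])
      obtain ⟨a, ha⟩ := Ideal.mem_span_range_iff_exists_fun.mp h2
      have h3 : ∑ i, Fin.append (fun i => - a i) d' i * Fin.append f g i ∈ maximalIdeal C * K := by
        rw [Fin.sum_univ_add]
        simp only [Fin.append_left, Fin.append_right, neg_mul, Finset.sum_neg_distrib, ha]
        rwa [neg_sub, sub_add_cancel]
      intro i
      have h4 := hmin.2 _ h3 (Fin.natAdd n i)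
      rw [Fin.append_right] at h4
      rw [← hd' i, ← IsLocalRing.map_maximalIdeal_of_surjective π hπ]
      exact Ideal.mem_map_of_mem π h4
  rw [← Groth.L07.RegQuot.card_eq_spanFinrank hg, show (I.comap π).spanFinrank = n + p from
    (Groth.L07.RegQuot.card_eq_spanFinrank hmin).symm]
  omega

/-- Two presentations of a complete ring by complete regular rings. -/
theorem complete_indep {A B B' : Type u} [CommRing A] [IsLocalRing A] [IsNoetherianRing A]
    [CommRing B] [IsRegularLocalRing B] [IsAdicComplete (maximalIdeal B) B]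
    [CommRing B'] [IsRegularLocalRing B'] [IsAdicComplete (maximalIdeal B') B']
    (g : B →+* A) (hg : Function.Surjective g) (g' : B' →+* A) (hg' : Function.Surjective g') (b b' : ℕ)
    (hb : ringKrullDim B = b) (hb' : ringKrullDim B' = b') :
    b + (RingHom.ker g').spanFinrank = b' + (RingHom.ker g).spanFinrank := by
  let T : Subring (B × B') := RingHom.eqLocus (g.comp (RingHom.fst B B')) (g'.comp (RingHom.snd B B'))
  let p₁ : T →+* B := (RingHom.fst B B').comp T.subtype
  let p₂ : T →+* B' := (RingHom.snd B B').comp T.subtype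
  have hp₁ : Function.Surjective p₁ := fun s => by
    obtain ⟨s', hs'⟩ := hg' (g s)
    exact ⟨⟨(s, s'), hs'.symm⟩, rfl⟩
  have hp₂ : Function.Surjective p₂ := fun s' => by
    obtain ⟨s, hs⟩ := hg (g' s')
    exact ⟨⟨(s, s'), hs⟩, rfl⟩
  have heq : ∀ t, g (p₁ t) = g' (p₂ t) := fun t => t.2
  haveI : Nontrivial T := p₁.domain_nontrivial
  haveI : IsLocalHom g := IsLocalHom.of_surjective _ hg
  haveI : IsLocalHom g' := IsLocalHom.of_surjective _ hg'
  have hunit : ∀ t : T, IsUnit (g (p₁ t)) → IsUnit t := by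
    intro t ht
    obtain ⟨u, hu⟩ := (isUnit_map_iff g (p₁ t)).mp ht
    obtain ⟨u', hu'⟩ := (isUnit_map_iff g' (p₂ t)).mp (heq t ▸ ht)
    have h1 : g ((u⁻¹ : Bˣ) : B) = g' ((u'⁻¹ : B'ˣ) : B') := by
      refine ht.mul_left_cancel ?_
      calc g (p₁ t) * g ((u⁻¹ : Bˣ) : B) = g (p₁ t * ((u⁻¹ : Bˣ) : B)) := (map_mul _ _ _).symm
        _ = 1 := by rw [← hu, Units.mul_inv, map_one]
        _ = g' (p₂ t * ((u'⁻¹ : B'ˣ) : B')) := by rw [← hu', Units.mul_inv, map_one]
        _ = g (p₁ t) * g' ((u'⁻¹ : B'ˣ) : B') := by rw [map_mul, heq]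
    refine isUnit_iff_exists_inv.mpr ⟨⟨(((u⁻¹ : Bˣ) : B), ((u'⁻¹ : B'ˣ) : B')), h1⟩, Subtype.ext ?_⟩
    refine Prod.ext ?_ ?_
    · show p₁ t * ((u⁻¹ : Bˣ) : B) = 1
      rw [← hu, Units.mul_inv]
    · show p₂ t * ((u'⁻¹ : B'ˣ) : B') = 1
      rw [← hu', Units.mul_inv]
  haveI : IsLocalHom (g.comp p₁) := ⟨hunit⟩
  haveI : IsLocalRing T := RingHom.domain_isLocalRing (g.comp p₁)
  haveI : IsNoetherianRing T := by
    letI : Algebra T B := p₁.toAlgebra
    letI : Algebra T B' := p₂.toAlgebra
    haveI : IsNoetherian T B := Groth.L07.CIIndep.isNoetherian_of_surjective_algebraMap T B hp₁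
    haveI : IsNoetherian T B' := Groth.L07.CIIndep.isNoetherian_of_surjective_algebraMap T B' hp₂
    letI : Module T (B × B') := Prod.instModule
    let ι : T →ₗ[T] B × B' := (Algebra.linearMap T B).prod (Algebra.linearMap T B')
    exact isNoetherian_of_injective ι fun a b h => Subtype.ext h
  let Th := AdicCompletion (maximalIdeal T) T
  haveI : IsNoetherianRing Th := Groth.L01.AnalUnram.isNoetherianRing_completion T
  obtain ⟨ψ₁, hψ₁, hψ₁m⟩ := Groth.L01.CompletionExt.exists_extend p₁
    (IsLocalRing.map_maximalIdeal_of_surjective p₁ hp₁).le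
  obtain ⟨ψ₂, hψ₂, hψ₂m⟩ := Groth.L01.CompletionExt.exists_extend p₂
    (IsLocalRing.map_maximalIdeal_of_surjective p₂ hp₂).le
  have hψ : g.comp ψ₁ = g'.comp ψ₂ := by
    refine Groth.L01.CompletionExt.ext_of_hausdorff _ _ ?_ ?_ fun t => ?_
    · rw [← Ideal.map_map]
      exact (Ideal.map_mono hψ₁m).trans (IsLocalRing.map_maximalIdeal_le g)
    · rw [← Ideal.map_map]
      exact (Ideal.map_mono hψ₂m).trans (IsLocalRing.map_maximalIdeal_le g')
    · show g (ψ₁ (algebraMap T Th t)) = g' (ψ₂ (algebraMap T Th t))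
      rw [hψ₁, hψ₂]
      exact heq t
  haveI : IsLocalHom (algebraMap Th Th) := ⟨fun x hx => hx⟩
  obtain ⟨D⟩ := Groth.L07.AvramovDiagram.nonempty_diagram (A := Th) (B := Th)
  obtain ⟨r, hr⟩ := Groth.L01.exists_dim_eq_nat (R := D.R)
  have s₁ : Function.Surjective (ψ₁.comp D.p) := fun s => by
    obtain ⟨t, rfl⟩ := hp₁ s
    obtain ⟨c, hc⟩ := D.surjP (algebraMap T Th t)
    exact ⟨c, (congrArg ψ₁ hc).trans (hψ₁ t)⟩
  have s₂ : Function.Surjective (ψ₂.comp D.p) := fun s => by
    obtain ⟨t, rfl⟩ := hp₂ s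
    obtain ⟨c, hc⟩ := D.surjP (algebraMap T Th t)
    exact ⟨c, (congrArg ψ₂ hc).trans (hψ₂ t)⟩
  have k₁ := dim_add_spanFinrank_comp _ s₁ (RingHom.ker g) (RingHom.ker_ne_top g) r b hr hb
  have k₂ := dim_add_spanFinrank_comp _ s₂ (RingHom.ker g') (RingHom.ker_ne_top g') r b' hr hb'
  have hK : (RingHom.ker g).comap (ψ₁.comp D.p) = (RingHom.ker g').comap (ψ₂.comp D.p) := by
    rw [RingHom.comap_ker, RingHom.comap_ker, ← RingHom.comp_assoc, ← RingHom.comp_assoc, hψ]
  rw [hK] at k₁
  omega

/-- A presentation passes to the completion. -/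
theorem exists_completed {A B : Type u} [CommRing A] [IsLocalRing A] [IsNoetherianRing A] [CommRing B]
    [IsRegularLocalRing B] (f : B →+* A) (hf : Function.Surjective f) (d : ℕ) (hd : ringKrullDim B = d) :
    ∃ (C : Type u) (_ : CommRing C) (_ : IsRegularLocalRing C) (_ : IsAdicComplete (maximalIdeal C) C)
      (g : C →+* AdicCompletion (maximalIdeal A) A), Function.Surjective g ∧ ringKrullDim C = d ∧
        (RingHom.ker g).spanFinrank = (RingHom.ker f).spanFinrank := by
  let C := AdicCompletion (maximalIdeal B) B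
  haveI : IsNoetherianRing C := Groth.L01.AnalUnram.isNoetherianRing_completion B
  haveI : IsRegularLocalRing C := (Groth.L01.CompletionReg.isRegularLocalRing_iff_completion B).mp inferInstance
  haveI := Groth.L01.CompletionExt.faithfullyFlat B
  haveI : IsLocalHom (algebraMap B C) :=
    ((IsLocalRing.local_hom_TFAE (algebraMap B C)).out 0 2).mpr
      (Groth.L01.AnalUnram.completion_map_maximalIdeal B).le
  obtain ⟨F⟩ := Groth.L07.RegQuot.exists_completionQuotEquiv f hf
  refine ⟨C, inferInstance, inferInstance, inferInstance,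
    F.toRingHom.comp (Ideal.Quotient.mk _), F.surjective.comp Ideal.Quotient.mk_surjective,
    (Groth.L01.CompletionReg.ringKrullDim_completion B).trans hd, ?_⟩
  rw [RingHom.ker_comp_of_injective _ (show Function.Injective F.toRingHom from F.injective), Ideal.mk_ker]
  obtain ⟨p, g, hg⟩ := exists_isMin (RingHom.ker f)
  rw [← Groth.L07.RegQuot.card_eq_spanFinrank hg,
    ← Groth.L07.RegQuot.card_eq_spanFinrank (Groth.L07.AvramovCore.isMin_map (S := C) hg)]

/-- Independence of the presentation. -/
theorem indep {A B B' : Type u} [CommRing A] [IsLocalRing A] [IsNoetherianRing A]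
    [CommRing B] [IsRegularLocalRing B] [CommRing B'] [IsRegularLocalRing B']
    (f : B →+* A) (hf : Function.Surjective f) (f' : B' →+* A) (hf' : Function.Surjective f') (d d' : ℕ)
    (hd : ringKrullDim B = d) (hd' : ringKrullDim B' = d') :
    (d : ℤ) - ((RingHom.ker f).spanFinrank : ℤ) = (d' : ℤ) - ((RingHom.ker f').spanFinrank : ℤ) := by
  haveI := Groth.L01.AnalUnram.isNoetherianRing_completion A
  obtain ⟨C, _, _, _, g, hg, hC, hμ⟩ := exists_completed f hf d hd
  obtain ⟨C', _, _, _, g', hg', hC', hμ'⟩ := exists_completed f' hf' d' hd'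
  have := complete_indep g hg g' hg' d d' hC hC'
  omega

/-- The geometric depth is at most the dimension, with equality exactly for complete intersections. -/
theorem le_dim_and_iff (A : Type u) [CommRing A] [IsLocalRing A] [IsNoetherianRing A] (B : Type u) [CommRing B]
    [IsRegularLocalRing B] (I : Ideal B)
    (E : AdicCompletion (maximalIdeal A) A ≃+* B ⧸ I) (d e : ℕ) (hd : ringKrullDim A = d) (he : ringKrullDim B = e) :
    (e : ℤ) - (I.spanFinrank : ℤ) ≤ (d : ℤ) ∧
      ((e : ℤ) - (I.spanFinrank : ℤ) = (d : ℤ) ↔ Pi1.IsCompleteIntersection A) := by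
  haveI := Groth.L01.AnalUnram.isNoetherianRing_completion A
  have hI : I ≠ ⊤ := by
    haveI : Nontrivial (B ⧸ I) := E.toEquiv.symm.nontrivial
    exact Ideal.Quotient.nontrivial_iff.mp inferInstance
  have hQ : ringKrullDim (B ⧸ I) = d := by
    rw [← ringKrullDim_eq_of_ringEquiv E, Groth.L01.CompletionReg.ringKrullDim_completion, hd]
  have hle : e ≤ d + I.spanFinrank := by
    have h := ringKrullDim_le_ringKrullDim_quotient_add_spanFinrank I
      (by rw [IsLocalRing.ringJacobson_eq_maximalIdeal]; exact le_maximalIdeal hI)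
    rw [hQ, he] at h
    exact_mod_cast h
  refine ⟨by omega, ⟨fun h => ?_, ?_⟩⟩
  · obtain ⟨p, g, hg⟩ := exists_isMin I
    have hp : p = I.spanFinrank := Groth.L07.RegQuot.card_eq_spanFinrank hg
    have hgI : Ideal.ofList (List.ofFn g) = I := by rw [ofList_ofFn, hg.1]
    have hgm : ∀ r ∈ List.ofFn g, r ∈ maximalIdeal B := fun r hr =>
      le_maximalIdeal hI (hgI ▸ Ideal.subset_span hr)
    have hw := Groth.L07.RegQuot.isWeaklyRegular_of_dim (List.ofFn g) hgm (by
      rw [ringKrullDim_eq_of_ringEquiv (Ideal.quotEquivOfEq hgI), hQ, he, List.length_ofFn]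
      exact_mod_cast (show d + p ≤ e by omega))
    refine ⟨B, inferInstance, inferInstance, List.ofFn g, hgm, ⟨hw, ?_⟩, ⟨?_⟩⟩
    · rw [smul_eq_mul, Ideal.mul_top, hgI]; exact hI.symm
    · exact E.trans (Ideal.quotEquivOfEq (by rw [← hgI]))
  · rintro ⟨B', _, _, rs, hrs, hreg, ⟨E'⟩⟩
    obtain ⟨b', hb'⟩ := Groth.L01.exists_dim_eq_nat (R := B')
    have key := indep (A := AdicCompletion (maximalIdeal A) A)
      (E.symm.toRingHom.comp (Ideal.Quotient.mk I)) (E.symm.surjective.comp Ideal.Quotient.mk_surjective)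
      (E'.symm.toRingHom.comp (Ideal.Quotient.mk (Ideal.ofList rs)))
      (E'.symm.surjective.comp Ideal.Quotient.mk_surjective) e b' he hb'
    rw [RingHom.ker_comp_of_injective _ (show Function.Injective E.symm.toRingHom from E.symm.injective),
      Ideal.mk_ker,
      RingHom.ker_comp_of_injective _ (show Function.Injective E'.symm.toRingHom from E'.symm.injective),
      Ideal.mk_ker] at key
    have hdim := ringKrullDim_add_length_eq_ringKrullDim_of_isRegular rs hreg
    rw [show ringKrullDim (B' ⧸ Ideal.ofList rs) = d from (ringKrullDim_eq_of_ringEquiv E').symm.trans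
      ((Groth.L01.CompletionReg.ringKrullDim_completion A).trans hd), hb'] at hdim
    have h1 : d + rs.length = b' := by exact_mod_cast hdim
    have hlen : (Ideal.ofList rs).spanFinrank = rs.length := by
      rw [← List.ofFn_get rs] at hreg
      have := Groth.L07.RegQuot.card_eq_spanFinrank (isMin_of_isRegular hreg)
      rw [← ofList_ofFn, List.ofFn_get] at this
      exact this.symm
    omega

/-- Flat local maps with trivial closed fibre, complete case. -/
theorem complete_flat {A A' B B' : Type u} [CommRing A] [IsLocalRing A] [IsNoetherianRing A]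
    [IsAdicComplete (maximalIdeal A) A] [CommRing A'] [IsLocalRing A'] [IsNoetherianRing A']
    [IsAdicComplete (maximalIdeal A') A'] [Algebra A A'] [IsLocalHom (algebraMap A A')] [Module.Flat A A']
    (hmax : (maximalIdeal A).map (algebraMap A A') = maximalIdeal A')
    [CommRing B] [IsRegularLocalRing B] [CommRing B'] [IsRegularLocalRing B']
    (f : B →+* A) (hf : Function.Surjective f) (f' : B' →+* A') (hf' : Function.Surjective f') (e e' : ℕ)
    (he : ringKrullDim B = e) (he' : ringKrullDim B' = e') :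
    (e : ℤ) - ((RingHom.ker f).spanFinrank : ℤ) = (e' : ℤ) - ((RingHom.ker f').spanFinrank : ℤ) := by
  classical
  obtain ⟨D⟩ := Groth.L07.AvramovDiagram.nonempty_diagram (A := A) (B := A')
  obtain ⟨r, hr⟩ := Groth.L01.exists_dim_eq_nat (R := D.R)
  obtain ⟨xs, hxs, hxslen⟩ : ∃ xs : List D.R, Ideal.ofList xs = maximalIdeal D.R ∧ xs.length = r := by
    obtain ⟨p, g, hg⟩ := exists_isMin (maximalIdeal D.R)
    refine ⟨List.ofFn g, by rw [ofList_ofFn, hg.1], ?_⟩
    rw [List.length_ofFn, Groth.L07.RegQuot.card_eq_spanFinrank hg]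
    have h := (isRegularLocalRing_iff D.R).mp inferInstance
    rw [hr] at h
    exact_mod_cast h
  let mS := (maximalIdeal D.R).map (algebraMap D.R D.S)
  have hmS : mS ≤ maximalIdeal D.S := IsLocalRing.map_maximalIdeal_le _
  let K := RingHom.ker D.q
  have hKm : K ≤ maximalIdeal D.S := le_maximalIdeal (RingHom.ker_ne_top _)
  have hqm : mS.map D.q = maximalIdeal A' := by
    rw [← hmax, ← IsLocalRing.map_maximalIdeal_of_surjective D.p D.surjP, Ideal.map_map, Ideal.map_map]
    exact congrArg (fun φ => Ideal.map φ (maximalIdeal D.R)) (RingHom.ext D.comm)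
  have hsup : mS ⊔ K = maximalIdeal D.S := by
    refine le_antisymm (sup_le hmS hKm) fun s hs => ?_
    have h1 : D.q s ∈ mS.map D.q := by
      rw [hqm, ← IsLocalRing.map_maximalIdeal_of_surjective D.q D.surjQ]
      exact Ideal.mem_map_of_mem _ hs
    obtain ⟨w, hw, hwe⟩ := (Ideal.mem_map_iff_of_surjective D.q D.surjQ).mp h1
    rw [← sub_add_cancel s w, add_comm]
    exact add_mem (Ideal.mem_sup_left hw) (Ideal.mem_sup_right (by
      rw [RingHom.mem_ker, map_sub, hwe, sub_self]))
  -- lifts of parameters of the fibre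
  haveI := D.fibre
  let mkF := Ideal.Quotient.mk mS
  obtain ⟨n, g, hg⟩ := exists_isMin (maximalIdeal (D.S ⧸ mS))
  have hgK : ∀ i, ∃ s ∈ K, mkF s = g i := by
    intro i
    have h1 : g i ∈ K.map mkF := by
      have h2 : K.map mkF = maximalIdeal (D.S ⧸ mS) := by
        rw [← IsLocalRing.map_maximalIdeal_of_surjective mkF Ideal.Quotient.mk_surjective, ← hsup, Ideal.map_sup,
          Ideal.map_quotient_self, bot_sup_eq]
      rw [h2, ← hg.1]
      exact Ideal.subset_span ⟨i, rfl⟩
    exact (Ideal.mem_map_iff_of_surjective mkF Ideal.Quotient.mk_surjective).mp h1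
  choose s hsK hs using hgK
  let l₁ := List.ofFn s
  let l₂ := xs.map (algebraMap D.R D.S)
  have hl₂ : Ideal.ofList l₂ = mS := by rw [← Ideal.map_ofList, hxs]
  have hgen : Ideal.ofList (l₁ ++ l₂) = maximalIdeal D.S := by
    rw [Ideal.ofList_append, ofList_ofFn, hl₂]
    refine le_antisymm (sup_le ((Ideal.span_le.mpr (by rintro _ ⟨i, rfl⟩; exact hsK i)).trans hKm) hmS) ?_
    intro x hx
    have h1 : mkF x ∈ (Ideal.span (Set.range s)).map mkF := by
      rw [Ideal.map_span, ← Set.range_comp, show mkF ∘ s = g from funext hs, hg.1,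
        ← IsLocalRing.map_maximalIdeal_of_surjective mkF Ideal.Quotient.mk_surjective]
      exact Ideal.mem_map_of_mem _ hx
    have h2 : x ∈ ((Ideal.span (Set.range s)).map mkF).comap mkF := h1
    rwa [Ideal.comap_map_of_surjective _ Ideal.Quotient.mk_surjective, ← RingHom.ker_eq_comap_bot,
      Ideal.mk_ker] at h2
  obtain ⟨dS, hdS⟩ := Groth.L01.exists_dim_eq_nat (R := D.S)
  have hdim : r + n = dS := by
    have h := Groth.L06.FlatFibre.ringKrullDim_eq D.R D.S
    have hn : (maximalIdeal (D.S ⧸ mS)).spanFinrank = n := (Groth.L07.RegQuot.card_eq_spanFinrank hg).symm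
    have h2 := (isRegularLocalRing_iff (D.S ⧸ mS)).mp inferInstance
    rw [hn] at h2
    rw [hdS, hr, show ringKrullDim (EGA4.FibRing D.R D.S) = (n : WithBot ℕ∞) from h2.symm] at h
    exact_mod_cast h.symm
  obtain ⟨-, hl₁, hS'⟩ := Groth.L07.AvramovDiagram.params l₁ l₂ hgen (by
    rw [hdS]
    exact_mod_cast (show l₁.length + l₂.length ≤ dS by simp [l₁, l₂, hxslen]; omega))
  let J := Ideal.ofList l₁
  let S' := D.S ⧸ J
  haveI : IsRegularLocalRing S' := hS'
  let mk' := Ideal.Quotient.mk J
  have hJK : J ≤ K := by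
    show Ideal.ofList l₁ ≤ K
    rw [ofList_ofFn]
    exact Ideal.span_le.mpr (by rintro _ ⟨i, rfl⟩; exact hsK i)
  have hS'dim : ringKrullDim S' = r := by
    obtain ⟨c, hc⟩ := Groth.L01.exists_dim_eq_nat (R := S')
    have h := ringKrullDim_add_length_eq_ringKrullDim_of_isRegular l₁ hl₁
    rw [hc, hdS] at h
    have : c + l₁.length = dS := by exact_mod_cast h
    rw [hc]
    congr 1
    simp [l₁] at this
    omega
  have hmS' : (maximalIdeal D.R).map (algebraMap D.R S') = maximalIdeal S' := by
    rw [← IsLocalRing.map_maximalIdeal_of_surjective mk' Ideal.Quotient.mk_surjective, ← hgen,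
      Ideal.ofList_append, hl₂, Ideal.map_sup, Ideal.map_quotient_self, bot_sup_eq, Ideal.map_map]
    rfl
  haveI : IsLocalHom (algebraMap D.R S') :=
    ((IsLocalRing.local_hom_TFAE (algebraMap D.R S')).out 0 2).mpr hmS'.le
  have hgen' : Ideal.ofList (xs.map (algebraMap D.R S')) = maximalIdeal S' := by
    rw [← Ideal.map_ofList, hxs, hmS']
  haveI : Module.Flat D.R S' := Groth.L07.AvramovDiagram.flat_of_koszul xs hxs
    (Groth.L01.isRegular_of_ofList_eq_maximalIdeal _ hgen' (by rw [hS'dim, List.length_map, hxslen])).1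
  -- the kernel
  let q' : S' →+* A' := Ideal.Quotient.lift J D.q fun x hx => hJK hx
  have hq' : Function.Surjective q' := Ideal.Quotient.lift_surjective_of_surjective _ _ D.surjQ
  let IS := (RingHom.ker D.p).map (algebraMap D.R S')
  have hIS : IS ≤ RingHom.ker q' := Ideal.map_le_iff_le_comap.mpr fun x hx => by
    show q' (mk' (algebraMap D.R D.S x)) = 0
    show D.q _ = 0
    rw [D.comm, RingHom.mem_ker.mp hx, map_zero]
  have hker : RingHom.ker q' = IS := by
    let C := S' ⧸ IS
    haveI : IsLocalRing C := Groth.L01.isLocalRing_quotient (ne_top_of_le_ne_top (RingHom.ker_ne_top q') hIS)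
    let a : A →+* C := (Ideal.quotientMap IS (algebraMap D.R S') (Ideal.map_le_iff_le_comap.mp le_rfl)).comp
      (RingHom.quotientKerEquivOfSurjective D.surjP).symm.toRingHom
    have ha : ∀ x, a (D.p x) = Ideal.Quotient.mk IS (algebraMap D.R S' x) := fun x => by
      show Ideal.quotientMap IS (algebraMap D.R S')
        (Ideal.map_le_iff_le_comap.mp le_rfl : RingHom.ker D.p ≤ IS.comap (algebraMap D.R S'))
        ((RingHom.quotientKerEquivOfSurjective D.surjP).symm (D.p x)) = _
      rw [RingHom.quotientKerEquivOfSurjective_symm_apply D.surjP x]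
      rfl
    letI : Algebra A C := a.toAlgebra
    let b : C →+* A' := Ideal.Quotient.lift IS q' fun x hx => hIS hx
    have hb : Function.Surjective b := Ideal.Quotient.lift_surjective_of_surjective _ _ hq'
    letI : Algebra C A' := b.toAlgebra
    haveI : IsScalarTower A C A' := IsScalarTower.of_algebraMap_eq fun x => by
      obtain ⟨x, rfl⟩ := D.surjP x
      show _ = b (a (D.p x))
      rw [ha, ← D.comm]
      rfl
    have hmC : (maximalIdeal A).map (algebraMap A C) = maximalIdeal C := by
      rw [← IsLocalRing.map_maximalIdeal_of_surjective D.p D.surjP,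
        ← IsLocalRing.map_maximalIdeal_of_surjective (Ideal.Quotient.mk IS) Ideal.Quotient.mk_surjective, ← hmS',
        Ideal.map_map, Ideal.map_map]
      exact congrArg (fun φ => Ideal.map φ (maximalIdeal D.R)) (RingHom.ext ha)
    have hL : RingHom.ker (algebraMap C A') = ⊥ := by
      refine Submodule.eq_bot_of_le_smul_of_le_jacobson_bot (maximalIdeal C) _ (IsNoetherian.noetherian _) ?_
        (maximalIdeal_le_jacobson _)
      intro z hz
      have hzm : z ∈ (maximalIdeal A).map (algebraMap A C) := hmC ▸ le_maximalIdeal (RingHom.ker_ne_top _) hz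
      rw [← hmC]
      exact Groth.L07.TransFibre.mem_smul_of_flat A C A' hb (maximalIdeal A) z hzm hz
    refine le_antisymm (fun x hx => ?_) hIS
    have h1 : Ideal.Quotient.mk IS x ∈ RingHom.ker (algebraMap C A') := hx
    rw [hL] at h1
    exact Ideal.Quotient.eq_zero_iff_mem.mp h1
  have hμ : (RingHom.ker q').spanFinrank = (RingHom.ker D.p).spanFinrank := by
    rw [hker]
    obtain ⟨p, h, hh⟩ := exists_isMin (RingHom.ker D.p)
    rw [← Groth.L07.RegQuot.card_eq_spanFinrank hh,
      ← Groth.L07.RegQuot.card_eq_spanFinrank (Groth.L07.AvramovCore.isMin_map (S := S') hh)]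
  have k₁ := indep f hf D.p D.surjP e r he hr
  have k₂ := indep f' hf' q' hq' e' r he' hS'dim
  omega

/-- Flat local maps with trivial closed fibre. -/
theorem flat_case (A A' : Type u) [CommRing A] [IsLocalRing A] [IsNoetherianRing A] [CommRing A']
    [IsLocalRing A'] [IsNoetherianRing A'] [Algebra A A'] [IsLocalHom (algebraMap A A')] [Module.Flat A A']
    (hmax : (maximalIdeal A).map (algebraMap A A') = maximalIdeal A')
    (B C : Type u) [CommRing B] [IsRegularLocalRing B] [CommRing C] [IsRegularLocalRing C]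
    (I : Ideal B) (I' : Ideal C) (E : AdicCompletion (maximalIdeal A) A ≃+* B ⧸ I)
    (E' : AdicCompletion (maximalIdeal A') A' ≃+* C ⧸ I') (e e' : ℕ)
    (he : ringKrullDim B = e) (he' : ringKrullDim C = e') :
    (e : ℤ) - (I.spanFinrank : ℤ) = (e' : ℤ) - (I'.spanFinrank : ℤ) := by
  let Ah := AdicCompletion (maximalIdeal A) A
  let Bh := AdicCompletion (maximalIdeal A') A'
  haveI : IsNoetherianRing Ah := Groth.L01.AnalUnram.isNoetherianRing_completion A
  haveI : IsNoetherianRing Bh := Groth.L01.AnalUnram.isNoetherianRing_completion A'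
  haveI := Groth.L01.CompletionExt.faithfullyFlat A'
  have hmB : (maximalIdeal A').map (algebraMap A' Bh) = maximalIdeal Bh :=
    Groth.L01.AnalUnram.completion_map_maximalIdeal A'
  have hmA : (maximalIdeal A).map (algebraMap A Ah) = maximalIdeal Ah :=
    Groth.L01.AnalUnram.completion_map_maximalIdeal A
  obtain ⟨φ, hφ, hφm⟩ := Groth.L01.CompletionExt.exists_extend ((algebraMap A' Bh).comp (algebraMap A A'))
    (by rw [← Ideal.map_map, ← hmB]; exact Ideal.map_mono (IsLocalRing.map_maximalIdeal_le _))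
  letI : Algebra Ah Bh := φ.toAlgebra
  haveI : IsScalarTower A Ah Bh := IsScalarTower.of_algebraMap_eq fun a => by
    show algebraMap A Bh a = φ (algebraMap A Ah a)
    rw [hφ, IsScalarTower.algebraMap_apply A A' Bh]
    rfl
  haveI : IsLocalHom (algebraMap Ah Bh) :=
    ((IsLocalRing.local_hom_TFAE (algebraMap Ah Bh)).out 0 2).mpr hφm
  haveI : Module.Flat A Bh := Module.Flat.trans A A' Bh
  haveI : Module.Flat Ah Bh := by
    refine Groth.L20.flat_of_lTensor_maximalIdeal_injective Bh ?_
    let ι : maximalIdeal A →ₗ[A] maximalIdeal Ah :=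
      ((Algebra.linearMap A Ah) ∘ₗ (maximalIdeal A).subtype).codRestrict ((maximalIdeal Ah).restrictScalars A)
        fun a => hmA.le (Ideal.mem_map_of_mem _ a.2)
    let Φ : TensorProduct A Bh (maximalIdeal A) →ₗ[A] TensorProduct Ah Bh (maximalIdeal Ah) :=
      TensorProduct.lift <| LinearMap.mk₂ A (fun b a => b ⊗ₜ[Ah] ι a) (fun b b' a => TensorProduct.add_tmul b b' _)
        (fun c b a => (TensorProduct.smul_tmul' c b _).symm) (fun b a a' => by rw [map_add, TensorProduct.tmul_add])
        (fun c b a => by rw [map_smul, TensorProduct.tmul_smul])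
    have hΦ : ∀ b a, Φ (b ⊗ₜ[A] a) = b ⊗ₜ[Ah] ι a := fun b a => rfl
    have hsurj : Function.Surjective Φ := by
      intro z
      induction z using TensorProduct.induction_on with
      | zero => exact ⟨0, map_zero _⟩
      | tmul b y =>
        obtain ⟨y, hy⟩ := y
        have key : ∀ y, (hy : y ∈ Ideal.span (algebraMap A Ah '' (maximalIdeal A : Set A))) → ∀ b : Bh,
            ∃ w, Φ w = b ⊗ₜ[Ah] (⟨y, hmA.le hy⟩ : maximalIdeal Ah) := by
          intro y hy
          induction hy using Submodule.span_induction with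
          | mem y hy =>
            obtain ⟨a, ha, rfl⟩ := hy
            exact fun b => ⟨b ⊗ₜ[A] ⟨a, ha⟩, rfl⟩
          | zero => exact fun b => ⟨0, by rw [map_zero]; exact (TensorProduct.tmul_zero _ _).symm⟩
          | add y z _ _ h1 h2 =>
            intro b
            obtain ⟨w1, hw1⟩ := h1 b
            obtain ⟨w2, hw2⟩ := h2 b
            exact ⟨w1 + w2, by rw [map_add, hw1, hw2, ← TensorProduct.tmul_add]; rfl⟩
          | smul c y _ h1 =>
            intro b
            obtain ⟨w, hw⟩ := h1 (c • b)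
            exact ⟨w, by rw [hw, TensorProduct.smul_tmul]; rfl⟩
        exact key y (hmA.ge hy) b
      | add a b ha hb =>
        obtain ⟨u, rfl⟩ := ha; obtain ⟨v, rfl⟩ := hb
        exact ⟨u + v, map_add _ _ _⟩
    have hcomp : ∀ w, TensorProduct.rid Ah Bh ((maximalIdeal Ah).subtype.lTensor Bh (Φ w)) =
        TensorProduct.rid A Bh ((maximalIdeal A).subtype.lTensor Bh w) := by
      intro w
      induction w using TensorProduct.induction_on with
      | zero => simp
      | tmul b a =>
        rw [hΦ]
        simp only [LinearMap.lTensor_tmul, TensorProduct.rid_tmul, ι]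
        exact algebraMap_smul Ah (a : A) b
      | add a b ha hb => simp only [map_add, ha, hb]
    rw [injective_iff_map_eq_zero]
    intro z hz
    obtain ⟨w, rfl⟩ := hsurj z
    have hinj : Function.Injective ((maximalIdeal A).subtype.lTensor Bh) :=
      Module.Flat.lTensor_preserves_injective_linearMap _ Subtype.val_injective
    have h1 := hcomp w
    rw [hz, map_zero, eq_comm, LinearEquiv.map_eq_zero_iff] at h1
    rw [(injective_iff_map_eq_zero _).mp hinj w h1, map_zero]
  have hmax' : (maximalIdeal Ah).map (algebraMap Ah Bh) = maximalIdeal Bh := by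
    rw [← hmA, Ideal.map_map, ← IsScalarTower.algebraMap_eq, IsScalarTower.algebraMap_eq A A' Bh,
      ← Ideal.map_map, hmax, hmB]
  have key := complete_flat (A := Ah) (A' := Bh) hmax'
    (E.symm.toRingHom.comp (Ideal.Quotient.mk I)) (E.symm.surjective.comp Ideal.Quotient.mk_surjective)
    (E'.symm.toRingHom.comp (Ideal.Quotient.mk I')) (E'.symm.surjective.comp Ideal.Quotient.mk_surjective) e e' he he'
  rwa [RingHom.ker_comp_of_injective _ (show Function.Injective E.symm.toRingHom from E.symm.injective),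
    Ideal.mk_ker,
    RingHom.ker_comp_of_injective _ (show Function.Injective E'.symm.toRingHom from E'.symm.injective),
    Ideal.mk_ker] at key

end Groth.L07.GeomDepth
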