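import Groth.Agent.L07.GeomRedBaseChange
import Groth.Agent.L07.FlatGeomReducedScheme
import Groth.Agent.L07.GeomRk.Open
import Groth.Agent.L06.NormalAscent
import Mathlib.AlgebraicGeometry.PullbackCarrier

/-!
Geometric normality of fibres at a prime, over arbitrary rings.
-/

universe u

open CategoryTheory CategoryTheory.Limits AlgebraicGeometry TensorProduct

namespace Groth.L07.GeomNormalAt

set_option autoImplicit false
set_option linter.style.haveILetI false
set_option maxSynthPendingDepth 3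
set_option synthInstance.maxHeartbeats 400000
set_option backward.isDefEq.respectTransparency.types false
set_option backward.isDefEq.respectTransparency false

/-- The fibres are normal at every point above `𝔮`, after any extension of the residue field. -/
def GeomNormAt (R : Type u) [CommRing R] {C : Type u} [CommRing C] [Algebra R C] (𝔮 : Ideal C) : Prop :=
  ∀ (L : Type u) [Field L] [Algebra R L], RingHom.ker (algebraMap R L) = 𝔮.comap (algebraMap R C) →
    ∀ (Q : Ideal (C ⊗[R] L)) [Q.IsPrime], Q.comap Algebra.TensorProduct.includeLeftRingHom = 𝔮 →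
      IsDomain (Localization.AtPrime Q) ∧ IsIntegrallyClosed (Localization.AtPrime Q)

theorem geomNormAt_congr {R C C' : Type u} [CommRing R] [CommRing C] [CommRing C'] [Algebra R C] [Algebra R C']
    (e : C ≃ₐ[R] C') (𝔮 : Ideal C') [𝔮.IsPrime]
    (h : GeomNormAt R (𝔮.comap e.toAlgHom.toRingHom)) : GeomNormAt R 𝔮 := by
  intro L _ _ hL Q _ hQ
  let σ : C ⊗[R] L ≃ₐ[R] C' ⊗[R] L := Algebra.TensorProduct.congr e AlgEquiv.refl
  refine Groth.L07.GeomRk.normal_congr (Localization.localRingEquiv (Q.comap σ.toRingEquiv.toRingHom) Q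
    σ.toRingEquiv rfl) (h L ?_ _ ?_)
  · rw [hL, Ideal.comap_comap, AlgHom.toRingHom_eq_coe, AlgHom.comp_algebraMap]
  · rw [← hQ]
    ext c
    simp [σ]

section BaseChange

variable {R₀ R C₀ : Type u} [CommRing R₀] [CommRing R] [CommRing C₀] [Algebra R₀ R] [Algebra R₀ C₀]

/-- Geometric normality descends along a base change. -/
theorem geomNormAt_descend (𝔮 : Ideal (R ⊗[R₀] C₀)) [𝔮.IsPrime] (h : GeomNormAt R 𝔮) :
    GeomNormAt R₀ (𝔮.comap (Algebra.TensorProduct.includeRight : C₀ →ₐ[R₀] R ⊗[R₀] C₀).toRingHom) := by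
  intro L₀ _ _ hL₀ Q₀ _ hQ₀
  let j : C₀ →+* R ⊗[R₀] C₀ := (Algebra.TensorProduct.includeRight : C₀ →ₐ[R₀] R ⊗[R₀] C₀).toRingHom
  let i : C₀ →+* C₀ ⊗[R₀] L₀ := Algebra.TensorProduct.includeLeftRingHom
  obtain ⟨M, _, a, b, hab, hka, hkb⟩ := Groth.L07.FlatGeomReduced.exists_common_field j i 𝔮 Q₀ hQ₀.symm
  letI : Algebra R M := (a.comp (algebraMap R (R ⊗[R₀] C₀))).toAlgebra
  letI : Algebra L₀ M := (b.comp (Algebra.TensorProduct.includeRight : L₀ →ₐ[R₀] C₀ ⊗[R₀] L₀).toRingHom).toAlgebra
  letI : Algebra R₀ M := ((algebraMap R M).comp (algebraMap R₀ R)).toAlgebra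
  haveI : IsScalarTower R₀ R M := IsScalarTower.of_algebraMap_eq' rfl
  haveI : IsScalarTower R₀ L₀ M := IsScalarTower.of_algebraMap_eq fun r => by
    show a (algebraMap R₀ R r ⊗ₜ 1) = b (1 ⊗ₜ algebraMap R₀ L₀ r)
    rw [show algebraMap R₀ R r ⊗ₜ[R₀] (1 : C₀) = j (algebraMap R₀ C₀ r) by
        show _ = (1 : R) ⊗ₜ[R₀] algebraMap R₀ C₀ r
        rw [Algebra.algebraMap_eq_smul_one, Algebra.algebraMap_eq_smul_one, smul_tmul],
      show (1 : C₀) ⊗ₜ[R₀] algebraMap R₀ L₀ r = i (algebraMap R₀ C₀ r) by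
        show _ = algebraMap R₀ C₀ r ⊗ₜ[R₀] (1 : L₀)
        rw [Algebra.algebraMap_eq_smul_one, Algebra.algebraMap_eq_smul_one, smul_tmul]]
    exact RingHom.congr_fun hab (algebraMap R₀ C₀ r)
  let χ : (R ⊗[R₀] C₀) ⊗[R] M →ₐ[R] M :=
    Algebra.TensorProduct.lift { a with commutes' := fun r => rfl } (AlgHom.id R M) (fun _ _ => Commute.all _ _)
  let Q : Ideal ((R ⊗[R₀] C₀) ⊗[R] M) := RingHom.ker χ.toRingHom
  haveI : Q.IsPrime := RingHom.ker_isPrime _
  have hQ : Q.comap Algebra.TensorProduct.includeLeftRingHom = 𝔮 := by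
    rw [← hka]
    ext c
    simp [Q, χ]
  have hnorm := h M (by rw [RingHom.algebraMap_toAlgebra, ← RingHom.comap_ker, hka]) Q hQ
  obtain ⟨σ, hσ⟩ := Groth.L07.FlatGeomReduced.exists_baseChange_equiv (R₀ := R₀) (R := R) (C₀ := C₀) M
  let ψ : C₀ ⊗[R₀] L₀ →+* (R ⊗[R₀] C₀) ⊗[R] M := σ.toRingHom.comp
    (Algebra.TensorProduct.map (AlgHom.id R₀ C₀) (IsScalarTower.toAlgHom R₀ L₀ M)).toRingHom
  have hψ : ψ.Flat := (Groth.L07.FlatGeomReduced.flat_map_field L₀ M).comp
    (RingHom.Flat.of_bijective (RingEquiv.bijective _))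
  have hcomap : Q₀ = Q.comap ψ := by
    rw [← hkb, RingHom.comap_ker]
    congr 1
    refine RingHom.ext fun x => ?_
    induction x using TensorProduct.induction_on with
    | zero => simp
    | add p q hp hq => simp only [map_add, hp, hq]
    | tmul c l =>
      show b (c ⊗ₜ l) = χ (σ (c ⊗ₜ algebraMap L₀ M l))
      rw [hσ, Algebra.TensorProduct.lift_tmul]
      show b (c ⊗ₜ l) = a (j c) * b (1 ⊗ₜ l)
      rw [show a (j c) = b (i c) from RingHom.congr_fun hab c, ← map_mul]
      simp [i]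
  letI := ψ.toAlgebra
  let ℓ := Localization.localRingHom Q₀ Q ψ hcomap
  letI : Algebra (Localization.AtPrime Q₀) (Localization.AtPrime Q) := ℓ.toAlgebra
  haveI : IsScalarTower (C₀ ⊗[R₀] L₀) (Localization.AtPrime Q₀) (Localization.AtPrime Q) :=
    IsScalarTower.of_algebraMap_eq fun x => by
      show _ = ℓ _
      simp only [ℓ, Localization.localRingHom_to_map]
      rfl
  haveI : Module.Flat (C₀ ⊗[R₀] L₀) (Localization.AtPrime Q) := by
    haveI : Module.Flat (C₀ ⊗[R₀] L₀) ((R ⊗[R₀] C₀) ⊗[R] M) := hψ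
    haveI : Module.Flat ((R ⊗[R₀] C₀) ⊗[R] M) (Localization.AtPrime Q) := IsLocalization.flat _ Q.primeCompl
    exact Module.Flat.trans (C₀ ⊗[R₀] L₀) ((R ⊗[R₀] C₀) ⊗[R] M) (Localization.AtPrime Q)
  haveI : Module.Flat (Localization.AtPrime Q₀) (Localization.AtPrime Q) :=
    (Module.flat_iff_of_isLocalization (Localization.AtPrime Q₀) Q₀.primeCompl (Localization.AtPrime Q)).mpr inferInstance
  haveI : IsLocalHom (algebraMap (Localization.AtPrime Q₀) (Localization.AtPrime Q)) :=
    Localization.isLocalHom_localRingHom Q₀ Q ψ hcomap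
  haveI := Module.FaithfullyFlat.of_flat_of_isLocalHom (A := Localization.AtPrime Q₀) (B := Localization.AtPrime Q)
  haveI := hnorm.1
  haveI := hnorm.2
  exact Groth.L06.NormalAscent.isIntegrallyClosed_of_faithfullyFlat (Localization.AtPrime Q₀) (Localization.AtPrime Q)

end BaseChange

section Bridge

variable {X Y : Scheme.{u}} (f : X ⟶ Y) {R C : Type u} [CommRing R] [CommRing C] [Algebra R C]
  (i : Spec (CommRingCat.of C) ⟶ X) [IsOpenImmersion i] (j : Spec (CommRingCat.of R) ⟶ Y) [IsOpenImmersion j]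
  (w : Spec.map (CommRingCat.ofHom (algebraMap R C)) ≫ j = i ≫ f)

include w in
theorem exists_chart (A : Type u) [CommRing A] [Algebra R A] :
    ∃ (c : Spec (CommRingCat.of (C ⊗[R] A)) ⟶ pullback f (Spec.map (CommRingCat.ofHom (algebraMap R A)) ≫ j)),
      IsOpenImmersion c ∧
      c ≫ pullback.fst f _ = Spec.map (CommRingCat.ofHom Algebra.TensorProduct.includeLeftRingHom) ≫ i ∧
      Set.range c.base = (pullback.fst f (Spec.map (CommRingCat.ofHom (algebraMap R A)) ≫ j)).base ⁻¹' Set.range i := by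
  have hP := isPullback_SpecMap_of_isPushout _ _ _ _ (CommRingCat.isPushout_tensorProduct R C A)
  refine ⟨hP.isoPullback.hom ≫ pullback.map _ _ f
    (Spec.map (CommRingCat.ofHom (algebraMap R A)) ≫ j) i (𝟙 _) j
      w (Category.id_comp _).symm, inferInstance, ?_, ?_⟩
  · rw [Category.assoc, pullback.map, pullback.lift_fst, hP.isoPullback_hom_fst_assoc]
  · have hsurj : Function.Surjective hP.isoPullback.hom := hP.isoPullback.hom.homeomorph.surjective
    rw [Scheme.Hom.comp_base, TopCat.coe_comp, hsurj.range_comp, Scheme.Pullback.range_map]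
    ext z
    exact ⟨fun h => h.1, fun h => ⟨h, _, rfl⟩⟩

omit [IsOpenImmersion i] [IsOpenImmersion j] in
include w in
theorem apply_comap (q : PrimeSpectrum C) : j (PrimeSpectrum.comap (algebraMap R C) q) = f (i q) := by
  show j ((Spec.map (CommRingCat.ofHom (algebraMap R C))) q) = _
  rw [← Scheme.Hom.comp_apply, w, Scheme.Hom.comp_apply]

include w in
theorem ker_eq (q : PrimeSpectrum C) {K : Type u} [Field K] [Algebra R K] (z : PrimeSpectrum K)
    (h : (Spec.map (CommRingCat.ofHom (algebraMap R K)) ≫ j) z = f (i q)) :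
    RingHom.ker (algebraMap R K) = q.asIdeal.comap (algebraMap R C) := by
  rw [← apply_comap f i j w q, Scheme.Hom.comp_apply] at h
  have h1 : PrimeSpectrum.comap (algebraMap R K) z = PrimeSpectrum.comap (algebraMap R C) q :=
    j.isOpenEmbedding.injective h
  have h2 : z.asIdeal = ⊥ := Ideal.eq_bot_of_prime z.asIdeal
  refine Eq.trans ?_ (congrArg PrimeSpectrum.asIdeal h1)
  show _ = Ideal.comap _ z.asIdeal
  rw [h2]
  rfl

include w in
/-- Geometric normality of the fibre from geometric normality at a prime. -/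
theorem geomAt_of_geomNormAt (q : PrimeSpectrum C) (h : GeomNormAt R q.asIdeal) :
    Groth.L07.GeomRk.GeomAt (f.fiberToSpecResidueField (f.base (i.base q))) (fun _ _ _ => True)
      (fun S _ => IsDomain S ∧ IsIntegrallyClosed S) (f.asFiber (i.base q)) := by
  intro K _ _ _ x' hx'
  let y := f.base (i.base q)
  let ψ : Y.residueField y ⟶ CommRingCat.of K := CommRingCat.ofHom (algebraMap _ K)
  let m := Spec.map ψ ≫ Y.fromSpecResidueField y
  have hm : Set.range m ⊆ Set.range j := by
    rintro _ ⟨z, rfl⟩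
    refine ⟨PrimeSpectrum.comap (algebraMap R C) q, ?_⟩
    rw [apply_comap f i j w q]
    show y = (Y.fromSpecResidueField y) (Spec.map ψ z)
    exact (Scheme.fromSpecResidueField_apply _ _).symm
  have hmy : ∀ z, m z = y := fun z => by
    show (Spec.map ψ ≫ Y.fromSpecResidueField y) z = y
    rw [Scheme.Hom.comp_apply]
    exact Scheme.fromSpecResidueField_apply y _
  let l := IsOpenImmersion.lift j m hm
  letI : Algebra R K := (Spec.preimage l).hom.toAlgebra
  let g₀ := Spec.map (CommRingCat.ofHom (algebraMap R K)) ≫ j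
  have hg₀ : m = g₀ := by
    show m = Spec.map (Spec.preimage l) ≫ j
    rw [Spec.map_preimage, IsOpenImmersion.lift_fac]
  obtain ⟨c, hc, hc1, hcr⟩ := exists_chart f i j w K
  haveI := hc
  let ι : FBase.bc (f.fiberToSpecResidueField y) K ≅ pullback f g₀ :=
    pullbackLeftPullbackSndIso f (Y.fromSpecResidueField y) (Spec.map ψ) ≪≫ pullback.congrHom rfl hg₀
  have hfst : FBase.bcπ (f.fiberToSpecResidueField y) K ≫ f.fiberι y = ι.hom ≫ pullback.fst f g₀ := by
    simp only [ι, Iso.trans_hom, Category.assoc, pullback.congrHom_hom, pullback.lift_fst, Category.comp_id]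
    exact (pullbackLeftPullbackSndIso_hom_fst _ _ _).symm
  have hpx : (pullback.fst f g₀).base (ι.hom.base x') = i.base q := by
    rw [← Scheme.Hom.comp_apply, ← hfst, Scheme.Hom.comp_apply, hx', f.fiberι_asFiber (i.base q)]
  obtain ⟨P, hP⟩ : ι.hom.base x' ∈ Set.range c.base := by
    rw [hcr, Set.mem_preimage, hpx]; exact ⟨q, rfl⟩
  have hPq : P.asIdeal.comap Algebra.TensorProduct.includeLeftRingHom = q.asIdeal := by
    rw [← hP, ← Scheme.Hom.comp_apply, hc1, Scheme.Hom.comp_apply] at hpx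
    exact congrArg PrimeSpectrum.asIdeal (i.isOpenEmbedding.injective hpx)
  have hker : RingHom.ker (algebraMap R K) = q.asIdeal.comap (algebraMap R C) :=
    ker_eq f i j w q (IsLocalRing.closedPoint K)
      ((congrArg (fun φ : Spec (CommRingCat.of K) ⟶ Y => φ (IsLocalRing.closedPoint K)) hg₀.symm).trans
        (hmy _))
  have h1 := h K hker P.asIdeal hPq
  have h2 := Groth.L07.GeomRk.normal_congr
    (Spec.stalkIso (CommRingCat.of (C ⊗[R] K)) P).commRingCatIsoToRingEquiv.symm h1
  have h3 := Groth.L07.GeomRk.normal_congr (asIso (c.stalkMap P)).commRingCatIsoToRingEquiv.symm h2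
  rw [hP] at h3
  exact Groth.L07.GeomRk.normal_congr (asIso (ι.hom.stalkMap x')).commRingCatIsoToRingEquiv h3

include w in
/-- Geometric normality at a prime from geometric normality of the fibre. -/
theorem geomNormAt_of_geomAt (q : PrimeSpectrum C)
    (hn : Groth.L07.GeomRk.GeomAt (f.fiberToSpecResidueField (f.base (i.base q))) (fun _ _ _ => True)
      (fun S _ => IsDomain S ∧ IsIntegrallyClosed S) (f.asFiber (i.base q))) :
    GeomNormAt R q.asIdeal := by
  intro L _ _ hL Q hQp hQ
  let y := f.base (i.base q)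
  obtain ⟨c, hc, hc1, -⟩ := exists_chart f i j w L
  haveI := hc
  let g₀ := Spec.map (CommRingCat.ofHom (algebraMap R L)) ≫ j
  have hpt : g₀.base (IsLocalRing.closedPoint L) = y := by
    show _ = f (i q)
    rw [← apply_comap f i j w q, Scheme.Hom.comp_apply]
    refine congrArg j.base (PrimeSpectrum.ext ?_)
    show Ideal.comap _ (IsLocalRing.maximalIdeal L) = Ideal.comap (algebraMap R C) _
    rw [← hL, IsLocalRing.maximalIdeal_eq_bot]
    rfl
  obtain ⟨ψ, hψ⟩ : ∃ ψ : Y.residueField y ⟶ CommRingCat.of L, Spec.map ψ ≫ Y.fromSpecResidueField y = g₀ := by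
    revert hpt
    generalize y = y'
    rintro rfl
    exact ⟨_, Scheme.descResidueField_stalkClosedPointTo_fromSpecResidueField L Y g₀⟩
  letI : Algebra (IsLocalRing.ResidueField ↑(Y.presheaf.stalk (f.base (i.base q)))) L := ψ.hom.toAlgebra
  let ι : FBase.bc (f.fiberToSpecResidueField y) L ≅ pullback f g₀ :=
    pullbackLeftPullbackSndIso f (Y.fromSpecResidueField y) (Spec.map ψ) ≪≫ pullback.congrHom rfl hψ
  let P : PrimeSpectrum (C ⊗[R] L) := ⟨Q, hQp⟩
  let x' := ι.inv.base (c.base P)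
  have hx' : (FBase.bcπ (f.fiberToSpecResidueField y) L).base x' = f.asFiber (i.base q) := by
    refine (f.fiberι y).isEmbedding.injective ?_
    rw [f.fiberι_asFiber (i.base q), ← Scheme.Hom.comp_apply]
    have : FBase.bcπ (f.fiberToSpecResidueField y) L ≫ f.fiberι y = ι.hom ≫ pullback.fst f g₀ := by
      simp only [ι, Iso.trans_hom, Category.assoc, pullback.congrHom_hom, pullback.lift_fst, Category.comp_id]
      exact (pullbackLeftPullbackSndIso_hom_fst _ _ _).symm
    rw [this, ← Scheme.Hom.comp_apply, ← Scheme.Hom.comp_apply, Iso.inv_hom_id_assoc,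
      hc1, Scheme.Hom.comp_apply]
    exact congrArg i.base (PrimeSpectrum.ext hQ)
  have h1 := hn L trivial x' hx'
  have h2 := Groth.L07.GeomRk.normal_congr (asIso (ι.inv.stalkMap (c.base P))).commRingCatIsoToRingEquiv h1
  have h3 := Groth.L07.GeomRk.normal_congr (asIso (c.stalkMap P)).commRingCatIsoToRingEquiv h2
  exact Groth.L07.GeomRk.normal_congr (Spec.stalkIso (CommRingCat.of (C ⊗[R] L)) P).commRingCatIsoToRingEquiv h3

end Bridge

end Groth.L07.GeomNormalAt
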