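import Groth.Agent.L07.FlatReducedFibres
import Groth.Agent.L07.GenericFree
import Groth.Agent.L20.FlatLocusOpen
import Groth.Agent.L20.GenSmooth.Ring
import Groth.Agent.S9407
import Mathlib.RingTheory.Localization.BaseChange
import Mathlib.RingTheory.Smooth.Flat
import Mathlib.RingTheory.TensorProduct.Free

/-!
Openness of the locus of flatness with geometrically reduced fibre over a Noetherian ring.
-/

universe u

open TensorProduct

namespace Groth.L07.FlatGeomReduced

set_option autoImplicit false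
set_option linter.style.haveILetI false
set_option maxSynthPendingDepth 3
set_option synthInstance.maxHeartbeats 400000

variable {R C : Type u} [CommRing R] [CommRing C] [Algebra R C]

/-- The base change of a localization map. -/
noncomputable abbrev locMap (M : Submonoid C) (A : Type u) [CommRing A] [Algebra R A] [Algebra C A]
    [IsScalarTower R C A] (L : Type u) [CommRing L] [Algebra R L] : C ⊗[R] L →ₐ[R] A ⊗[R] L :=
  Algebra.TensorProduct.map (IsScalarTower.toAlgHom R C A) (AlgHom.id R L)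

section Loc

variable (M : Submonoid C) (A : Type u) [CommRing A] [Algebra R A] [Algebra C A]
  [IsScalarTower R C A] [IsLocalization M A] (L : Type u) [CommRing L] [Algebra R L]

theorem exists_clear_locMap (z : A ⊗[R] L) :
    ∃ (c : M) (w : C ⊗[R] L), z * locMap M A L ((c : C) ⊗ₜ 1) = locMap M A L w := by
  letI : Algebra (C ⊗[R] L) (A ⊗[R] L) := (locMap M A L).toAlgebra
  haveI : IsScalarTower C (C ⊗[R] L) (A ⊗[R] L) := IsScalarTower.of_algebraMap_eq fun c => by
    show algebraMap C A c ⊗ₜ[R] (1 : L) = _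
    simp [RingHom.algebraMap_toAlgebra, locMap]
  haveI := IsLocalization.tensorProduct_tensorProduct R L M A (RingHom.ext fun x => by
    simp [RingHom.algebraMap_toAlgebra, locMap])
  obtain ⟨⟨w, ⟨_, c, hc, rfl⟩⟩, h⟩ := IsLocalization.surj (Algebra.algebraMapSubmonoid (C ⊗[R] L) M) z
  exact ⟨⟨c, hc⟩, w, h⟩

theorem exists_kill_of_locMap_eq_zero (z : C ⊗[R] L) (hz : locMap M A L z = 0) :
    ∃ c : M, ((c : C) ⊗ₜ[R] (1 : L)) * z = 0 := by
  letI : Algebra (C ⊗[R] L) (A ⊗[R] L) := (locMap M A L).toAlgebra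
  haveI : IsScalarTower C (C ⊗[R] L) (A ⊗[R] L) := IsScalarTower.of_algebraMap_eq fun c => by
    show algebraMap C A c ⊗ₜ[R] (1 : L) = _
    simp [RingHom.algebraMap_toAlgebra, locMap]
  haveI := IsLocalization.tensorProduct_tensorProduct R L M A (RingHom.ext fun x => by
    simp [RingHom.algebraMap_toAlgebra, locMap])
  obtain ⟨⟨_, c, hc, rfl⟩, h⟩ :=
    (IsLocalization.map_eq_zero_iff (Algebra.algebraMapSubmonoid (C ⊗[R] L) M) (A ⊗[R] L) z).mp hz
  exact ⟨⟨c, hc⟩, h⟩

theorem isUnit_locMap (c : M) : IsUnit (locMap M A L ((c : C) ⊗ₜ[R] (1 : L))) := by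
  simpa [locMap] using (IsLocalization.map_units A c).map
    (Algebra.TensorProduct.includeLeftRingHom : A →+* A ⊗[R] L)

/-- A localization is reduced as soon as each nilpotent is killed by a denominator. -/
theorem isReduced_locMap (h : ∀ z : C ⊗[R] L, IsNilpotent z → ∃ c : M, ((c : C) ⊗ₜ[R] (1 : L)) * z = 0) :
    IsReduced (A ⊗[R] L) := by
  refine ⟨fun z hz => ?_⟩
  obtain ⟨c, w, hw⟩ := exists_clear_locMap M A L z
  obtain ⟨n, hn⟩ := hz
  have h1 : locMap M A L (w ^ n) = 0 := by rw [map_pow, ← hw, mul_pow, hn, zero_mul]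
  obtain ⟨d, hd⟩ := exists_kill_of_locMap_eq_zero M A L _ h1
  obtain ⟨d', hd'⟩ := h (((d : C) ⊗ₜ[R] (1 : L)) * w) ⟨n + 1, by
    rw [mul_pow, pow_succ _ n, pow_succ w,
      show (((d : C) ⊗ₜ[R] (1 : L)) ^ n * ((d : C) ⊗ₜ[R] (1 : L))) * (w ^ n * w) =
        (((d : C) ⊗ₜ[R] (1 : L)) ^ n * w) * (((d : C) ⊗ₜ[R] (1 : L)) * w ^ n) by ring, hd, mul_zero]⟩
  have h2 := congrArg (locMap M A L) hd'
  rw [map_mul, map_mul, map_zero, ← hw] at h2
  rwa [(isUnit_locMap M A L d').mul_right_eq_zero, (isUnit_locMap M A L d).mul_right_eq_zero,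
    (isUnit_locMap M A L c).mul_left_eq_zero] at h2

end Loc

/-- The local rings at points inside a reduced localization are reduced. -/
theorem isReduced_loc_of_away (c : C) (L : Type u) [CommRing L] [Algebra R L]
    [IsReduced (Localization.Away c ⊗[R] L)] (Q : Ideal (C ⊗[R] L)) [Q.IsPrime]
    (hQ : c ⊗ₜ[R] (1 : L) ∉ Q) : IsReduced (Localization.AtPrime Q) := by
  refine ⟨fun x hx => ?_⟩
  obtain ⟨a, s, rfl⟩ := IsLocalization.exists_mk'_eq Q.primeCompl x
  obtain ⟨n, hn⟩ := hx
  rw [← IsLocalization.mk'_pow, IsLocalization.mk'_eq_zero_iff] at hn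
  obtain ⟨u, hu⟩ := hn
  have h1 : locMap (Submonoid.powers c) (Localization.Away c) L ((u : C ⊗[R] L) * a) = 0 :=
    IsNilpotent.eq_zero ⟨n + 1, by
      rw [← map_pow, mul_pow, pow_succ (u : C ⊗[R] L), pow_succ a,
        show ((u : C ⊗[R] L) ^ n * u) * (a ^ n * a) = (u ^ n * a) * (u * a ^ n) by ring, hu, mul_zero, map_zero]⟩
  obtain ⟨⟨_, k, rfl⟩, hk⟩ := exists_kill_of_locMap_eq_zero (Submonoid.powers c) (Localization.Away c) L _ h1
  rw [IsLocalization.mk'_eq_zero_iff]
  refine ⟨⟨(c ^ k) ⊗ₜ[R] (1 : L) * u, fun hmem => ?_⟩, by rw [mul_assoc]; exact hk⟩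
  rcases (inferInstance : Q.IsPrime).mem_or_mem hmem with h | h
  · exact hQ ((inferInstance : Q.IsPrime).mem_of_pow_mem k (by simpa [Algebra.TensorProduct.tmul_pow] using h))
  · exact u.2 h

/-- A neighbourhood on which the base change to a field is reduced. -/
theorem exists_away_isReduced [Algebra.FiniteType R C] (𝔮 : Ideal C) [𝔮.IsPrime]
    (hred : GeomRedAt R 𝔮) (L : Type u) [Field L] [Algebra R L]
    (hL : RingHom.ker (algebraMap R L) = 𝔮.comap (algebraMap R C)) :
    ∃ c ∉ 𝔮, IsReduced (Localization.Away c ⊗[R] L) := by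
  classical
  haveI := isReduced_localTensor 𝔮 hred L hL
  haveI : IsNoetherianRing (L ⊗[R] C) := Algebra.FiniteType.isNoetherianRing L (L ⊗[R] C)
  haveI : IsNoetherianRing (C ⊗[R] L) :=
    isNoetherianRing_of_ringEquiv _ (Algebra.TensorProduct.comm R L C).toRingEquiv
  obtain ⟨T, hT⟩ := IsNoetherian.noetherian (nilradical (C ⊗[R] L))
  have hsel : ∀ t ∈ T, ∃ c : 𝔮.primeCompl, ((c : C) ⊗ₜ[R] (1 : L)) * t = 0 := fun t ht =>
    exists_kill_of_locMap_eq_zero 𝔮.primeCompl (Localization.AtPrime 𝔮) L t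
      ((mem_nilradical.mp (hT ▸ Submodule.subset_span ht : t ∈ nilradical (C ⊗[R] L))).map _).eq_zero
  choose s hs using hsel
  let c := ∏ t ∈ T.attach, s t.1 t.2
  refine ⟨c, c.2, isReduced_locMap (Submonoid.powers (c : C)) _ L fun z hz => ⟨⟨c, Submonoid.mem_powers _⟩, ?_⟩⟩
  have hz' : z ∈ nilradical (C ⊗[R] L) := mem_nilradical.mpr hz
  rw [← hT] at hz'
  show ((c : C) ⊗ₜ[R] (1 : L)) * z = 0
  induction hz' using Submodule.span_induction with
  | mem t ht =>
    obtain ⟨d, hd⟩ := Finset.dvd_prod_of_mem (fun t : {t // t ∈ T} => s t.1 t.2) (Finset.mem_attach T ⟨t, ht⟩)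
    rw [show c = s t ht * d from hd, Submonoid.coe_mul, ← mul_one (1 : L), ← Algebra.TensorProduct.tmul_mul_tmul,
      mul_comm ((s t ht : C) ⊗ₜ[R] (1 : L)), mul_assoc, hs t ht, mul_zero]
  | zero => rw [mul_zero]
  | add a b ha hb iha ihb =>
    rw [mul_add, iha (by rw [← mem_nilradical, ← hT]; exact ha), ihb (by rw [← mem_nilradical, ← hT]; exact hb),
      add_zero]
  | smul x a ha iha =>
    rw [smul_eq_mul, mul_left_comm, iha (by rw [← mem_nilradical, ← hT]; exact ha), mul_zero]

section Spreading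

attribute [local instance] Algebra.TensorProduct.rightAlgebra

/-- Over a field, a geometrically reduced algebra of finite type is smooth outside the zeros of an
element which is not a zero divisor. -/
theorem exists_regular_smooth {k E : Type u} [Field k] [CommRing E] [Algebra k E] [Algebra.FiniteType k E]
    [Algebra.IsGeometricallyReduced k E] :
    ∃ h : E, IsSMulRegular E h ∧ ∀ p : PrimeSpectrum E, h ∉ p.asIdeal → Algebra.IsSmoothAt k p.asIdeal := by
  haveI : IsReduced E := Algebra.isReduced_of_isGeometricallyReduced k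
  haveI : Algebra.FinitePresentation k E := Algebra.FinitePresentation.of_finiteType.mp inferInstance
  haveI : IsNoetherianRing E := Algebra.FiniteType.isNoetherianRing k E
  obtain ⟨s, hs⟩ := PrimeSpectrum.isOpen_iff _ |>.mp (Algebra.isOpen_smoothLocus (R := k) (A := E))
  let I := Ideal.span s
  have hI : ∀ P ∈ minimalPrimes E, ¬ I ≤ P := fun P hP hle => by
    haveI := hP.1.1
    have h1 : (⟨P, inferInstance⟩ : PrimeSpectrum E) ∈ (Algebra.smoothLocus k E)ᶜ := by
      rw [hs, PrimeSpectrum.mem_zeroLocus]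
      exact fun x hx => hle (Ideal.subset_span hx)
    exact h1 (Groth.L20.GenSmooth.isSmoothAt_of_mem_minimalPrimes _ hP)
  have hfin : (minimalPrimes E).Finite := minimalPrimes.finite_of_isNoetherianRing E
  obtain ⟨h, hhI, hh⟩ := Set.not_subset.mp fun hsub : (I : Set E) ⊆ ⋃ P ∈ hfin.toFinset, (P : Set E) => by
    replace hsub := (Ideal.subset_union_prime (f := fun P : Ideal E => P) ⊥ ⊥
      fun P hP _ _ => (hfin.mem_toFinset.mp hP).1.1).mp (by simpa using hsub)
    obtain ⟨P, hP, hle⟩ := hsub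
    exact hI P (hfin.mem_toFinset.mp hP) hle
  refine ⟨h, fun a b hab => ?_, fun p hp => ?_⟩
  · refine sub_eq_zero.mp (IsNilpotent.eq_zero ((nilpotent_iff_mem_prime).mpr fun P hP => ?_))
    obtain ⟨P₀, hP₀, hle⟩ := Ideal.exists_minimalPrimes_le (bot_le : (⊥ : Ideal E) ≤ P)
    have hmem : h * (a - b) ∈ P₀ := by
      rw [mul_sub, show h * a = h * b from hab, sub_self]
      exact zero_mem _
    exact hle ((hP₀.1.1.mem_or_mem hmem).resolve_left fun (hc : h ∈ P₀) =>
      hh (Set.mem_biUnion (hfin.mem_toFinset.mpr hP₀) hc))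
  · by_contra hc
    have h1 : p ∈ (Algebra.smoothLocus k E)ᶜ := hc
    rw [hs, ← PrimeSpectrum.zeroLocus_span, PrimeSpectrum.mem_zeroLocus] at h1
    exact hp (h1 hhI)

variable {D : Type u} [CommRing D] [Algebra R D]

/-- Geometric reducedness spreads out from the generic fibre. -/
theorem exists_ne_zero_isReduced_tensor [IsDomain R] [IsNoetherianRing R] [Algebra.FiniteType R D]
    [IsReduced (D ⊗[R] AlgebraicClosure (FractionRing R))] :
    ∃ r : R, r ≠ 0 ∧ ∀ (L : Type u) [Field L] [Algebra R L], algebraMap R L r ≠ 0 → IsReduced (D ⊗[R] L) := by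
  classical
  let k := FractionRing R
  let K := AlgebraicClosure k
  let E := k ⊗[R] D
  haveI : Algebra.IsGeometricallyReduced k E := by
    rw [Algebra.isGeometricallyReduced_field_iff]
    haveI : IsReduced (K ⊗[R] D) := isReduced_of_injective (Algebra.TensorProduct.comm R K D)
      (Algebra.TensorProduct.comm R K D).injective
    exact isReduced_of_injective (Algebra.TensorProduct.cancelBaseChange R k K K D)
      (Algebra.TensorProduct.cancelBaseChange R k K K D).injective
  obtain ⟨h', hh'reg, hh'sm⟩ := exists_regular_smooth (k := k) (E := E)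
  let M₀ := Algebra.algebraMapSubmonoid D (nonZeroDivisors R)
  haveI hloc : IsLocalization M₀ E := IsLocalization.tensorRight k (nonZeroDivisors R)
  obtain ⟨h, s₀, rfl⟩ := IsLocalization.exists_mk'_eq M₀ h'
  -- smoothness over the base at the points of the generic fibre
  have hsm : ∀ (P : Ideal D) [P.IsPrime], P.comap (algebraMap R D) = ⊥ → h ∉ P → Algebra.IsSmoothAt R P := by
    intro P _ hP hhP
    have hdisj : Disjoint (M₀ : Set D) (P : Set D) := by
      rw [Set.disjoint_left]
      rintro _ ⟨r, hr, rfl⟩ hrP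
      exact nonZeroDivisors.ne_zero hr ((Submodule.mem_bot R).mp (hP ▸ (hrP : r ∈ P.comap (algebraMap R D))))
    let P' : Ideal E := P.map (algebraMap D E)
    haveI : P'.IsPrime := IsLocalization.isPrime_of_isPrime_disjoint M₀ E P inferInstance hdisj
    have hcom : P'.comap (algebraMap D E) = P := IsLocalization.comap_map_of_isPrime_disjoint M₀ E inferInstance hdisj
    haveI hsm' : Algebra.FormallySmooth k (Localization.AtPrime P') := hh'sm ⟨P', inferInstance⟩ fun hmem => by
      refine hhP (hcom ▸ ?_)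
      show algebraMap D E h ∈ P'
      rw [← IsLocalization.mk'_spec E h s₀]
      exact Ideal.mul_mem_right _ _ hmem
    haveI : Algebra.FormallySmooth R k := Algebra.FormallySmooth.of_isLocalization (nonZeroDivisors R)
    haveI : Algebra.FormallySmooth R (Localization.AtPrime P') := Algebra.FormallySmooth.comp R k _
    haveI : IsLocalization.AtPrime (Localization.AtPrime P') P := by
      have h1 := IsLocalization.isLocalization_isLocalization_atPrime_isLocalization M₀ (Localization.AtPrime P') P'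
      simp only [IsLocalization.AtPrime, Ideal.primeCompl, hcom] at h1 ⊢
      exact h1
    exact Algebra.FormallySmooth.of_equiv
      ((IsLocalization.algEquiv P.primeCompl (Localization.AtPrime P') (Localization.AtPrime P)).restrictScalars R)
  haveI : Algebra.FinitePresentation R D := Algebra.FinitePresentation.of_finiteType.mp inferInstance
  obtain ⟨s, hs⟩ := PrimeSpectrum.isOpen_iff _ |>.mp (Algebra.isOpen_smoothLocus (R := R) (A := D))
  let I := Ideal.span s
  obtain ⟨r₁, hr₁, n, hI⟩ : ∃ r₁ : R, r₁ ≠ 0 ∧ ∃ n : ℕ, algebraMap R D r₁ * h ^ n ∈ I := by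
    by_contra hcon
    push Not at hcon
    have hdisj : Disjoint (I : Set D) ((M₀ ⊔ Submonoid.powers h : Submonoid D) : Set D) := by
      rw [Set.disjoint_right]
      intro x hx hxI
      obtain ⟨_, ⟨r, hr, rfl⟩, _, ⟨n, rfl⟩, rfl⟩ := Submonoid.mem_sup.mp hx
      exact hcon r (nonZeroDivisors.ne_zero hr) n hxI
    obtain ⟨P, hP, hIP, hPM⟩ := Ideal.exists_le_prime_disjoint I _ hdisj
    haveI := hP
    have h1 : (⟨P, hP⟩ : PrimeSpectrum D) ∈ (Algebra.smoothLocus R D)ᶜ := by
      rw [hs, PrimeSpectrum.mem_zeroLocus]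
      exact fun x hx => hIP (Ideal.subset_span hx)
    refine h1 (hsm P ?_ (Set.disjoint_right.mp hPM (Submonoid.mem_sup_right (Submonoid.mem_powers h))))
    refine eq_bot_iff.mpr fun r hr => by_contra fun hr0 => ?_
    exact Set.disjoint_right.mp hPM (Submonoid.mem_sup_left
      (Algebra.mem_algebraMapSubmonoid_of_mem (⟨r, mem_nonZeroDivisors_of_ne_zero hr0⟩ : nonZeroDivisors R))) hr
  -- torsion of multiplication by `h`
  obtain ⟨r₂, hr₂, hkill⟩ : ∃ r₂ : R, r₂ ≠ 0 ∧ ∀ d : D, h * d = 0 → algebraMap R D r₂ * d = 0 := by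
    haveI : IsNoetherianRing D := Algebra.FiniteType.isNoetherianRing R D
    obtain ⟨T, hT⟩ := IsNoetherian.noetherian (LinearMap.ker (LinearMap.mulLeft D h))
    have hsel : ∀ t ∈ T, ∃ r : R, r ≠ 0 ∧ algebraMap R D r * t = 0 := fun t ht => by
      have h0 : h * t = 0 := (hT ▸ Submodule.subset_span ht : t ∈ LinearMap.ker (LinearMap.mulLeft D h))
      have h1 : algebraMap D E t = 0 := hh'reg (show IsLocalization.mk' E h s₀ * algebraMap D E t =
        IsLocalization.mk' E h s₀ * 0 by
          rw [mul_zero, mul_comm, IsLocalization.mul_mk'_eq_mk'_of_mul, mul_comm, h0, IsLocalization.mk'_zero])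
      obtain ⟨⟨_, r, hr, rfl⟩, hrt⟩ := (IsLocalization.map_eq_zero_iff M₀ E t).mp h1
      exact ⟨r, nonZeroDivisors.ne_zero hr, hrt⟩
    choose r hr0 hr using hsel
    refine ⟨∏ t ∈ T.attach, r t.1 t.2, Finset.prod_ne_zero_iff.mpr fun t _ => hr0 t.1 t.2, fun d hd => ?_⟩
    have hd' : d ∈ LinearMap.ker (LinearMap.mulLeft D h) := hd
    rw [← hT] at hd'
    refine (Submodule.span_le (p := LinearMap.ker (LinearMap.mulLeft D
      (algebraMap R D (∏ t ∈ T.attach, r t.1 t.2))))).mpr ?_ hd'
    intro t ht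
    obtain ⟨c, hc⟩ := Finset.dvd_prod_of_mem (fun t : {t // t ∈ T} => r t.1 t.2) (Finset.mem_attach T ⟨t, ht⟩)
    show algebraMap R D (∏ t ∈ T.attach, r t.1 t.2) * t = 0
    rw [show (∏ t ∈ T.attach, r t.1 t.2) = r t ht * c from hc, map_mul, mul_comm (algebraMap R D (r t ht)),
      mul_assoc, hr t ht, mul_zero]
  obtain ⟨f₀, hf₀, hfree⟩ := Groth.L07.GenFree.exists_freeAt (R := R) (S := D) (D ⧸ Ideal.span {h})
  refine ⟨r₁ * r₂ * f₀, mul_ne_zero (mul_ne_zero hr₁ hr₂) hf₀, fun L _ _ hrL => ?_⟩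
  set r := r₁ * r₂ * f₀ with hrdef
  let R' := Localization.Away r
  let mh : D →ₗ[R] D := LinearMap.mulLeft R h
  let π : D →ₗ[R] D ⧸ Ideal.span {h} := (Ideal.Quotient.mkₐ R (Ideal.span {h})).toLinearMap
  haveI : Module.Free R' (R' ⊗[R] (D ⧸ Ideal.span {h})) := by
    haveI : IsLocalizedModule (Submonoid.powers r) (TensorProduct.mk R R' (D ⧸ Ideal.span {h}) 1) :=
      (isLocalizedModule_iff_isBaseChange (Submonoid.powers r) R' _).mpr (TensorProduct.isBaseChange R _ R')
    exact (hfree.mono (dvd_mul_left f₀ (r₁ * r₂))).free (mul_ne_zero (mul_ne_zero hr₁ hr₂) hf₀) R' _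
      (TensorProduct.mk R R' (D ⧸ Ideal.span {h}) 1)
  have hex : Function.Exact (mh.baseChange R') (π.baseChange R') := by
    show Function.Exact (mh.lTensor R') (π.lTensor R')
    refine lTensor_exact R' ?_ (fun x => Ideal.Quotient.mk_surjective x)
    intro x
    show Ideal.Quotient.mk _ x = 0 ↔ _
    rw [Ideal.Quotient.eq_zero_iff_mem, Ideal.mem_span_singleton']
    exact ⟨fun ⟨a, ha⟩ => ⟨a, (mul_comm h a).trans ha⟩, fun ⟨a, ha⟩ => ⟨a, (mul_comm a h).trans ha⟩⟩
  have hinj : Function.Injective (mh.baseChange R') := by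
    rw [injective_iff_map_eq_zero]
    intro z hz
    obtain ⟨y, rfl⟩ := (Module.Flat.lTensor_exact R' (LinearMap.exact_subtype_ker_map mh) z).mp hz
    have hu : IsUnit (algebraMap R R' r₂) :=
      isUnit_of_dvd_unit (map_dvd _ ⟨r₁ * f₀, by rw [hrdef]; ring⟩) (IsLocalization.Away.algebraMap_isUnit r)
    suffices h2 : algebraMap R R' r₂ • y = 0 by rw [(hu.smul_eq_zero).mp h2, map_zero]
    clear hz
    induction y using TensorProduct.induction_on with
    | zero => rw [smul_zero]
    | add a b ha hb => rw [smul_add, ha, hb, add_zero]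
    | tmul a d =>
      have hd : r₂ • d = 0 := Subtype.ext <| by
        show r₂ • (d : D) = 0
        rw [Algebra.smul_def]
        exact hkill _ d.2
      rw [smul_tmul', algebraMap_smul, smul_tmul, hd, tmul_zero]
  obtain ⟨σ, hσ⟩ := Module.projective_lifting_property (π.baseChange R') LinearMap.id
    (LinearMap.lTensor_surjective R' (fun x => Ideal.Quotient.mk_surjective x))
  have hproj : ∀ x, x - σ (π.baseChange R' x) ∈ LinearMap.range (mh.baseChange R') := fun x =>
    (hex _).mp (by rw [map_sub, ← LinearMap.comp_apply (π.baseChange R') σ, hσ, LinearMap.id_apply, sub_self])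
  let ρ : R' ⊗[R] D →ₗ[R'] R' ⊗[R] D := (LinearEquiv.ofInjective _ hinj).symm.toLinearMap ∘ₗ
    (LinearMap.id - σ ∘ₗ π.baseChange R').codRestrict _ hproj
  have hρ : ∀ d : D, ρ (1 ⊗ₜ[R] (h * d)) = 1 ⊗ₜ[R] d := fun d => by
    refine (LinearEquiv.symm_apply_eq _).mpr (Subtype.ext ?_)
    have h0 : π.baseChange R' ((1 : R') ⊗ₜ[R] (h * d)) = 0 := (hex _).mpr ⟨1 ⊗ₜ[R] d, by simp [mh]⟩
    show (1 : R') ⊗ₜ[R] (h * d) - σ (π.baseChange R' ((1 : R') ⊗ₜ[R] (h * d))) = mh.baseChange R' (1 ⊗ₜ[R] d)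
    rw [h0, map_zero, sub_zero, LinearMap.baseChange_tmul]
    rfl
  have hur : IsUnit (algebraMap R L r) := isUnit_iff_ne_zero.mpr hrL
  let α : R' →ₐ[R] L :=
    { IsLocalization.Away.lift r hur with commutes' := fun x => IsLocalization.Away.lift_eq r hur x }
  let g : D →ₗ[R] D ⊗[R] L := (α.toLinearMap.lTensor D) ∘ₗ (TensorProduct.comm R R' D).toLinearMap ∘ₗ
    ρ.restrictScalars R ∘ₗ TensorProduct.mk R R' D 1
  let Φ : D ⊗[R] L →ₗ[R] D ⊗[R] L := LinearMap.mul' R (D ⊗[R] L) ∘ₗ
    TensorProduct.map g (Algebra.TensorProduct.includeRight : L →ₐ[R] D ⊗[R] L).toLinearMap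
  have hΦ : ∀ z, Φ ((h ⊗ₜ[R] (1 : L)) * z) = z := fun z => by
    induction z using TensorProduct.induction_on with
    | zero => rw [mul_zero, map_zero]
    | add a b ha hb => rw [mul_add, map_add, ha, hb]
    | tmul d l =>
      rw [Algebra.TensorProduct.tmul_mul_tmul, one_mul]
      show g (h * d) * ((1 : D) ⊗ₜ[R] l) = d ⊗ₜ l
      have hg : g (h * d) = d ⊗ₜ[R] (1 : L) := by
        show α.toLinearMap.lTensor D (TensorProduct.comm R R' D (ρ (1 ⊗ₜ[R] (h * d)))) = _
        rw [hρ, TensorProduct.comm_tmul, LinearMap.lTensor_tmul]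
        show d ⊗ₜ[R] α 1 = _
        rw [map_one]
      rw [hg, Algebra.TensorProduct.tmul_mul_tmul, mul_one, one_mul]
  have hreg : ∀ (n : ℕ) (z : D ⊗[R] L), (h ⊗ₜ[R] (1 : L)) ^ n * z = 0 → z = 0 := fun n => by
    induction n with
    | zero => intro z hz; simpa using hz
    | succ n ih =>
      intro z hz
      refine ih z ?_
      rw [← hΦ ((h ⊗ₜ[R] (1 : L)) ^ n * z), ← mul_assoc, ← pow_succ', hz, map_zero]
  let A := Localization.Away (algebraMap R D r₁ * h)
  haveI : Algebra.Smooth R A := by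
    rw [← Algebra.basicOpen_subset_smoothLocus_iff_smooth]
    intro P hP
    by_contra hc
    have h1 : P ∈ (Algebra.smoothLocus R D)ᶜ := hc
    rw [hs, ← PrimeSpectrum.zeroLocus_span, PrimeSpectrum.mem_zeroLocus] at h1
    rcases P.isPrime.mem_or_mem (h1 hI) with h2 | h2
    · exact hP (Ideal.mul_mem_right _ _ h2)
    · exact hP (Ideal.mul_mem_left _ _ (P.isPrime.mem_of_pow_mem n h2))
  haveI : IsReduced (L ⊗[R] A) := Groth.Agent.S9407.isReduced_of_field L _
  haveI : IsReduced (A ⊗[R] L) := isReduced_of_injective (Algebra.TensorProduct.comm R A L)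
    (Algebra.TensorProduct.comm R A L).injective
  refine ⟨fun z hz => ?_⟩
  obtain ⟨⟨_, m, rfl⟩, hm⟩ := exists_kill_of_locMap_eq_zero (Submonoid.powers (algebraMap R D r₁ * h)) A L z
    (hz.map _).eq_zero
  have hu1 : IsUnit (algebraMap R L r₁) :=
    isUnit_of_dvd_unit (map_dvd _ ⟨r₂ * f₀, by rw [hrdef]; ring⟩) hur
  refine hreg m z ?_
  have e : ((algebraMap R D r₁ * h) ^ m) ⊗ₜ[R] (1 : L) =
      (1 ⊗ₜ[R] algebraMap R L r₁) ^ m * (h ⊗ₜ[R] (1 : L)) ^ m := by
    rw [← mul_pow, Algebra.TensorProduct.tmul_mul_tmul, one_mul, mul_one, Algebra.TensorProduct.tmul_pow,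
      mul_pow, ← map_pow, ← map_pow, ← Algebra.smul_def, smul_tmul, Algebra.smul_def, mul_one]
  replace hm : ((algebraMap R D r₁ * h) ^ m) ⊗ₜ[R] (1 : L) * z = 0 := hm
  rw [e, mul_assoc] at hm
  exact ((hu1.map (Algebra.TensorProduct.includeRight : L →ₐ[R] D ⊗[R] L)).pow m).mul_right_eq_zero.mp hm

end Spreading

end Groth.L07.FlatGeomReduced

namespace Groth.L07.FlatGeomReduced

set_option autoImplicit false
set_option linter.style.haveILetI false
set_option maxSynthPendingDepth 3
set_option synthInstance.maxHeartbeats 400000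

variable {R C : Type u} [CommRing R] [CommRing C] [Algebra R C]

/-- Geometric reducedness of the fibre spreads out along the closure of a point. -/
theorem exists_geomRedAt_near [IsNoetherianRing R] [Algebra.FiniteType R C] (𝔮 : Ideal C) [𝔮.IsPrime]
    (hred : GeomRedAt R 𝔮) :
    ∃ f ∉ 𝔮, ∀ (𝔮' : Ideal C) [𝔮'.IsPrime], 𝔮 ≤ 𝔮' → f ∉ 𝔮' → GeomRedAt R 𝔮' := by
  let p := 𝔮.comap (algebraMap R C)
  let R₁ := R ⧸ p
  let K := AlgebraicClosure (FractionRing R₁)
  have hK : RingHom.ker (algebraMap R K) = 𝔮.comap (algebraMap R C) := by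
    rw [IsScalarTower.algebraMap_eq R R₁ K, RingHom.ker_comp_of_injective]
    · exact Ideal.mk_ker
    · rw [IsScalarTower.algebraMap_eq R₁ (FractionRing R₁) K]
      exact (algebraMap (FractionRing R₁) K).injective.comp (IsFractionRing.injective R₁ _)
  obtain ⟨c, hc, hcred⟩ := exists_away_isReduced 𝔮 hred K hK
  haveI : Algebra.FiniteType R (Localization.Away c) := by
    haveI : Algebra.FiniteType C (Localization.Away c) :=
      haveI : Algebra.FinitePresentation C (Localization.Away c) := IsLocalization.Away.finitePresentation c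
      inferInstance
    exact Algebra.FiniteType.trans inferInstance this
  let D := R₁ ⊗[R] Localization.Away c
  let e : ∀ (L : Type u) [CommRing L] [Algebra R L] [Algebra R₁ L] [IsScalarTower R R₁ L],
      D ⊗[R₁] L ≃+* Localization.Away c ⊗[R] L := fun L _ _ _ _ =>
    (((Algebra.TensorProduct.comm R₁ D L).toRingEquiv).trans
      (Algebra.TensorProduct.cancelBaseChange R R₁ L L (Localization.Away c)).toRingEquiv).trans
      (Algebra.TensorProduct.comm R L (Localization.Away c)).toRingEquiv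
  haveI : IsReduced (D ⊗[R₁] K) := isReduced_of_injective (e K) (e K).injective
  obtain ⟨r₀, hr₀, hr⟩ := exists_ne_zero_isReduced_tensor (R := R₁) (D := D)
  obtain ⟨r, rfl⟩ := Ideal.Quotient.mk_surjective r₀
  refine ⟨c * algebraMap R C r, fun h => ?_, fun 𝔮' _ hle hf L _ _ hL Q _ hQ => ?_⟩
  · rcases (inferInstance : 𝔮.IsPrime).mem_or_mem h with h | h
    · exact hc h
    · exact hr₀ (Ideal.Quotient.eq_zero_iff_mem.mpr h)
  have hker : ∀ a ∈ p, algebraMap R L a = 0 := fun a ha => by
    rw [← RingHom.mem_ker, hL]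
    exact hle ha
  letI : Algebra R₁ L := (Ideal.Quotient.lift p (algebraMap R L) hker).toAlgebra
  haveI : IsScalarTower R R₁ L := IsScalarTower.of_algebraMap_eq fun a => rfl
  haveI : IsReduced (D ⊗[R₁] L) := hr L fun h0 => hf (Ideal.mul_mem_left _ _ (by
    have h1 : r ∈ RingHom.ker (algebraMap R L) := h0
    rw [hL] at h1
    exact h1))
  haveI : IsReduced (Localization.Away c ⊗[R] L) := isReduced_of_injective (e L).symm (e L).symm.injective
  exact isReduced_loc_of_away c L Q fun h => hf (Ideal.mul_mem_right _ _ (hQ.le h))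

/-- Flatness of the localization does not depend on the chosen model. -/
theorem flat_localization_iff (M : Submonoid C) (A : Type u) [CommRing A] [Algebra C A] [Algebra R A]
    [IsScalarTower R C A] [IsLocalization M A] : Module.Flat R A ↔ Module.Flat R (LocalizedModule M C) := by
  haveI : IsLocalizedModule M (Algebra.linearMap C A) :=
    (isLocalizedModule_iff_isLocalization' M A).mpr inferInstance
  let e := ((IsLocalizedModule.iso M (Algebra.linearMap C A)).restrictScalars R)
  exact ⟨fun h => Module.Flat.of_linearEquiv e, fun h => Module.Flat.of_linearEquiv e.symm⟩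

/-- A stable set of primes containing a neighbourhood in the closure of each of its members is open. -/
theorem isOpen_of_near [IsNoetherianRing C] (E : Set (PrimeSpectrum C))
    (hgen : ∀ p q : PrimeSpectrum C, p.asIdeal ≤ q.asIdeal → q ∈ E → p ∈ E)
    (hnear : ∀ p ∈ E, ∃ f ∉ p.asIdeal, ∀ q : PrimeSpectrum C, p.asIdeal ≤ q.asIdeal → f ∉ q.asIdeal → q ∈ E) :
    IsOpen E := by
  classical
  rw [← isClosed_compl_iff, PrimeSpectrum.isClosed_iff_zeroLocus]
  refine ⟨(PrimeSpectrum.vanishingIdeal Eᶜ : Set C),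
    Set.Subset.antisymm (PrimeSpectrum.subset_zeroLocus_vanishingIdeal _) ?_⟩
  intro x hx hxE
  obtain ⟨q, hq, hqx⟩ := Ideal.exists_minimalPrimes_le ((PrimeSpectrum.mem_zeroLocus _ _).mp hx)
  haveI := hq.1.1
  have hqE : (⟨q, hq.1.1⟩ : PrimeSpectrum C) ∈ E := hgen _ x hqx hxE
  obtain ⟨f, hf, hfE⟩ := hnear _ hqE
  let I := PrimeSpectrum.vanishingIdeal Eᶜ
  let S := (Ideal.finite_minimalPrimes_of_isNoetherianRing C I).toFinset.erase q
  have hsel : ∀ P ∈ S, ∃ a ∈ P, a ∉ q := fun P hP => by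
    obtain ⟨hne, hP⟩ := Finset.mem_erase.mp hP
    rw [Set.Finite.mem_toFinset] at hP
    exact Set.not_subset.mp fun hle => hne (le_antisymm hle (hq.2 hP.1 hle))
  choose a haP haq using hsel
  let g := ∏ P ∈ S.attach, a P.1 P.2
  have hmem : f * g ∈ I := by
    refine PrimeSpectrum.mem_vanishingIdeal _ _ |>.mpr fun y hy => ?_
    obtain ⟨P, hP, hPy⟩ := Ideal.exists_minimalPrimes_le
      (show I ≤ y.asIdeal from fun c hc => (PrimeSpectrum.mem_vanishingIdeal _ _).mp hc y hy)
    by_cases hPq : P = q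
    · subst hPq
      exact Ideal.mul_mem_right _ _ (by_contra fun hfy => hy (hfE y hPy hfy))
    · refine Ideal.mul_mem_left _ _ (hPy ?_)
      exact Ideal.prod_mem (I := P) (f := fun P : {x // x ∈ S} => a P.1 P.2)
        (Finset.mem_attach S ⟨P, Finset.mem_erase.mpr ⟨hPq, (Set.Finite.mem_toFinset _).mpr hP⟩⟩) (haP _ _)
  rcases hq.1.1.mem_or_mem (hq.1.2 hmem) with h | h
  · exact hf h
  · obtain ⟨P, -, hP⟩ := (hq.1.1.prod_mem_iff).mp h
    exact haq _ _ hP

/-- The locus of flatness with geometrically reduced fibre is open. -/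
theorem isOpen_flat_geomRedAt [IsNoetherianRing R] [Algebra.FiniteType R C] :
    IsOpen {P : PrimeSpectrum C | Module.Flat R (Localization.AtPrime P.asIdeal) ∧ GeomRedAt R P.asIdeal} := by
  haveI : Algebra.FinitePresentation R C := Algebra.FinitePresentation.of_finiteType.mp inferInstance
  haveI : IsNoetherianRing C := Algebra.FiniteType.isNoetherianRing R C
  refine isOpen_of_near _ (fun p q hle hq => ?_) (fun p hp => ?_)
  · haveI : Module.Flat R (Localization.AtPrime q.asIdeal) := hq.1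
    refine ⟨(flat_localization_iff p.asIdeal.primeCompl _).mpr (Groth.L20.flat_localizedModule_of_le
      (show q.asIdeal.primeCompl ≤ p.asIdeal.primeCompl from fun c hc hcp => hc (hle hcp)) ((flat_localization_iff q.asIdeal.primeCompl _).mp hq.1)),
      geomRedAt_of_flat q.asIdeal hq.2 p.asIdeal hle⟩
  · obtain ⟨f₁, hf₁, h₁⟩ := exists_geomRedAt_near p.asIdeal hp.2
    haveI := (flat_localization_iff (R := R) p.asIdeal.primeCompl _).mp hp.1
    obtain ⟨f₂, hf₂, h₂⟩ := Groth.L20.exists_flat_away (R := R) (M := C) p.asIdeal.primeCompl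
    refine ⟨f₁ * f₂, fun h => ((inferInstance : p.asIdeal.IsPrime).mem_or_mem h).elim hf₁ hf₂, fun q hle hq => ⟨?_, ?_⟩⟩
    · exact (flat_localization_iff q.asIdeal.primeCompl _).mpr (Groth.L20.flat_localizedModule_of_le
        (Submonoid.powers_le.mpr fun h => hq (Ideal.mul_mem_left _ _ h)) h₂)
    · exact h₁ q.asIdeal hle fun h => hq (Ideal.mul_mem_right _ _ h)

end Groth.L07.FlatGeomReduced
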