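import Groth.Agent.L07.GrFlatBase
import Mathlib.RingTheory.Localization.Away.Basic
import Mathlib.RingTheory.Nakayama

/-! Flatness of an associated graded module descends to a finitely generated stage. -/

namespace Groth.L07.FlatDescent

open MvPolynomial TensorProduct

set_option linter.style.haveILetI false

universe u

variable {d n : ℕ} {R : Type u} [CommRing R] {w : Fin d → ℕ}
  {Kf : ℕ → Submodule (MvPolynomial (Fin d) R) (F d n R)}

theorem ψ_mem_of_KC {A C : Type u} [CommRing A] [CommRing C] [Algebra R A] [Algebra R C] [Algebra A C]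
    [IsScalarTower R A C] (K : Submodule (MvPolynomial (Fin d) R) (F d n R)) {y : F d n A}
    (hy : y ∈ KC A K) : ψ C y ∈ KC C K := by
  rw [← KC_KP K A C]; exact ψ_mem _ hy

theorem ψ_injective {A C : Type u} [CommRing A] [CommRing C] [Algebra A C]
    (hinj : Function.Injective (algebraMap A C)) :
    Function.Injective (ψ (d := d) (n := n) (R := A) C) := fun y z hyz =>
  ext_co fun e => hinj (by rw [← co_ψ, ← co_ψ, hyz])

theorem ψ_mem_smul {A C : Type u} [CommRing A] [CommRing C] [Algebra R A] [Algebra R C] [Algebra A C]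
    [IsScalarTower R A C] (P : Ideal R) {y : F d n A}
    (hy : y ∈ P.map (algebraMap R A) • (⊤ : Submodule A (F d n A))) :
    ψ C y ∈ P.map (algebraMap R C) • (⊤ : Submodule C (F d n C)) := by
  rw [mem_smul_top_iff] at hy ⊢
  intro e
  rw [co_ψ, IsScalarTower.algebraMap_eq R A C, ← Ideal.map_map]
  exact Ideal.mem_map_of_mem _ (hy e)

/-- The ideal multiples as polynomial submodule. -/
noncomputable def KI (P : Ideal R) : Submodule (MvPolynomial (Fin d) R) (F d n R) :=
  Ideal.map (algebraMap R (MvPolynomial (Fin d) R)) P • ⊤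

theorem mem_KI {P : Ideal R} {y : F d n R} :
    y ∈ (KI P : Submodule (MvPolynomial (Fin d) R) (F d n R)) ↔
      y ∈ P • (⊤ : Submodule R (F d n R)) := by
  have e : (P • ⊤ : Submodule R (F d n R)) =
      (KI P : Submodule (MvPolynomial (Fin d) R) (F d n R)).restrictScalars R := by
    rw [KI, Ideal.smul_restrictScalars, Submodule.restrictScalars_top]
  rw [e]; rfl

theorem KC_KI (P : Ideal R) (C : Type u) [CommRing C] [Algebra R C] :
    KC C (KI P : Submodule (MvPolynomial (Fin d) R) (F d n R)) =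
      P.map (algebraMap R C) • (⊤ : Submodule C (F d n C)) := by
  apply le_antisymm
  · rw [KC, Submodule.span_le]
    rintro _ ⟨y, hy, rfl⟩
    rw [SetLike.mem_coe, mem_smul_top_iff]
    intro e
    rw [co_ψ]
    exact Ideal.mem_map_of_mem _ ((mem_smul_top_iff _ _).mp (mem_KI.mp hy) e)
  · refine Submodule.smul_le.mpr fun a ha m _ => ?_
    refine Submodule.span_induction (p := fun a _ => ∀ m, a • m ∈ KC C (KI P)) ?_ ?_ ?_ ?_ ha m
    · rintro _ ⟨r, hr, rfl⟩ m
      rw [← sum_em (Finset.Subset.refl (supp m)), Finset.smul_sum]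
      refine Submodule.sum_mem _ fun e _ => ?_
      rw [smul_comm, algebraMap_smul, ← ψ_em (R := R) C e, ← map_smul]
      exact Submodule.smul_mem _ _ (ψ_mem _ (mem_KI.mpr (Submodule.smul_mem_smul hr trivial)))
    · intro m; rw [zero_smul]; exact zero_mem _
    · intro a b _ _ ha hb m; rw [add_smul]; exact add_mem (ha m) (hb m)
    · intro c a _ ha m; rw [smul_eq_mul, mul_smul]; exact Submodule.smul_mem _ c (ha m)

/-- Membership in extended relations is witnessed over a finitely generated subalgebra. -/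
theorem exists_finset_lift {A : Type u} [CommRing A] [Algebra R A]
    (K : Submodule (MvPolynomial (Fin d) R) (F d n R)) {x : F d n A} (hx : x ∈ KC A K) :
    ∃ U : Finset A, ∀ B : Subalgebra R A, (U : Set A) ⊆ B →
      ∃ x' ∈ KC B K, ψ (R := B) A x' = x := by
  classical
  refine Submodule.span_induction (p := fun x _ => ∃ U : Finset A, ∀ B : Subalgebra R A,
    (U : Set A) ⊆ B → ∃ x' ∈ KC B K, ψ (R := B) A x' = x) ?_ ?_ ?_ ?_ hx
  · rintro _ ⟨k, hk, rfl⟩
    exact ⟨∅, fun B _ => ⟨ψ B k, ψ_mem K hk, ψ_ψ B A k⟩⟩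
  · exact ⟨∅, fun B _ => ⟨0, zero_mem _, map_zero _⟩⟩
  · rintro a b _ _ ⟨U, hU⟩ ⟨V, hV⟩
    refine ⟨U ∪ V, fun B hB => ?_⟩
    rw [Finset.coe_union] at hB
    obtain ⟨a', ha, rfl⟩ := hU B (Set.subset_union_left.trans hB)
    obtain ⟨b', hb, rfl⟩ := hV B (Set.subset_union_right.trans hB)
    exact ⟨a' + b', add_mem ha hb, map_add _ _ _⟩
  · rintro c a _ ⟨U, hU⟩
    refine ⟨insert c U, fun B hB => ?_⟩
    rw [Finset.coe_insert, Set.insert_subset_iff] at hB
    obtain ⟨a', ha, rfl⟩ := hU B hB.2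
    exact ⟨(⟨c, hB.1⟩ : B) • a', Submodule.smul_mem _ _ ha, by
      rw [map_smul, ← algebraMap_smul A (⟨c, hB.1⟩ : B)]; rfl⟩

/-- Clearing denominators. -/
theorem exists_clear {C D : Type u} [CommRing C] [CommRing D] [Algebra R C] [Algebra R D] [Algebra C D]
    [IsScalarTower R C D] (g : C)
    (hsurj : ∀ c : D, ∃ (M : ℕ) (c' : C), algebraMap C D g ^ M * c = algebraMap C D c')
    (K : Submodule (MvPolynomial (Fin d) R) (F d n R)) {x : F d n D} (hx : x ∈ KC D K) :
    ∃ M : ℕ, ∃ x' ∈ KC C K, ψ D x' = algebraMap C D g ^ M • x := by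
  refine Submodule.span_induction (p := fun x _ => ∃ M : ℕ, ∃ x' ∈ KC C K,
    ψ D x' = algebraMap C D g ^ M • x) ?_ ⟨0, 0, zero_mem _, by simp⟩ ?_ ?_ hx
  · rintro _ ⟨k, hk, rfl⟩
    exact ⟨0, ψ C k, ψ_mem K hk, by rw [ψ_ψ, pow_zero, one_smul]⟩
  · rintro a b _ _ ⟨M, a', ha, hae⟩ ⟨M', b', hb, hbe⟩
    refine ⟨M + M', g ^ M' • a' + g ^ M • b', add_mem (Submodule.smul_mem _ _ ha)
      (Submodule.smul_mem _ _ hb), ?_⟩
    rw [map_add, map_smul, map_smul, hae, hbe, ← algebraMap_smul D (g ^ M'),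
      ← algebraMap_smul D (g ^ M), map_pow, map_pow, smul_smul, smul_smul, ← pow_add, ← pow_add,
      add_comm M' M, smul_add]
  · rintro c a _ ⟨M, a', ha, hae⟩
    obtain ⟨M', c', hc⟩ := hsurj c
    refine ⟨M' + M, c' • a', Submodule.smul_mem _ _ ha, ?_⟩
    rw [map_smul, hae, ← algebraMap_smul D c', ← hc, smul_smul, smul_smul, pow_add]
    congr 1; ring

theorem exists_pow_smul_mem {C D : Type u} [CommRing C] [CommRing D] [Algebra C D] (g : C) (J : Ideal C)
    (hker : ∀ c : C, algebraMap C D c = 0 → ∃ N : ℕ, g ^ N * c ∈ J) {y : F d n C} (hy : ψ D y = 0) :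
    ∃ N : ℕ, g ^ N • y ∈ J • (⊤ : Submodule C (F d n C)) := by
  classical
  choose! N hN using fun e (_ : e ∈ supp y) =>
    hker (co y e) (by rw [← co_ψ, hy, co_zero])
  refine ⟨(supp y).sup N, (mem_smul_top_iff _ _).mpr fun e => ?_⟩
  rw [co_smul]
  by_cases he : e ∈ supp y
  · obtain ⟨m, hm⟩ := Nat.exists_eq_add_of_le (Finset.le_sup (f := N) he)
    rw [hm, pow_add, mul_comm (g ^ _), mul_assoc]
    exact J.mul_mem_left _ (hN e he)
  · rw [co_eq_zero he, mul_zero]; exact zero_mem _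

theorem exists_cover [IsNoetherianRing R] (Pp : Ideal R → R → Prop)
    (hp : ∀ P : Ideal R, P.IsPrime → ∃ f ∉ P, Pp P f) :
    ∃ S : Finset (Ideal R × R), (∀ s ∈ S, Pp s.1 s.2) ∧
      ∀ p : Ideal R, p.IsPrime → ∃ s ∈ S, s.1 ≤ p ∧ s.2 ∉ p := by
  classical
  suffices H : ∀ I : Ideal R, ∃ S : Finset (Ideal R × R), (∀ s ∈ S, Pp s.1 s.2) ∧
      ∀ p : Ideal R, p.IsPrime → I ≤ p → ∃ s ∈ S, s.1 ≤ p ∧ s.2 ∉ p by
    obtain ⟨S, hS, hcov⟩ := H ⊥
    exact ⟨S, hS, fun p hp => hcov p hp bot_le⟩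
  intro I
  induction I using IsNoetherian.induction with
  | hgt I ih =>
    replace ih := fun J (hJ : I < J) => ih J hJ
    by_cases htop : I = ⊤
    · exact ⟨∅, by simp, fun p hp hIp => absurd (eq_top_iff.mpr (htop ▸ hIp)) hp.ne_top⟩
    by_cases hI : Ideal.IsPrime I
    · obtain ⟨f, hf, hPp⟩ := hp I hI
      obtain ⟨S, hS, hcov⟩ := ih (I ⊔ Ideal.span {f})
        (left_lt_sup.mpr fun h => hf (h (Ideal.mem_span_singleton_self f)))
      refine ⟨insert (I, f) S, fun s hs => ?_, fun p hp hIp => ?_⟩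
      · rcases Finset.mem_insert.mp hs with rfl | hs
        exacts [hPp, hS s hs]
      · by_cases hfp : f ∈ p
        · obtain ⟨s, hs, h⟩ := hcov p hp (sup_le hIp ((Ideal.span_singleton_le_iff_mem p).mpr hfp))
          exact ⟨s, Finset.mem_insert_of_mem hs, h⟩
        · exact ⟨(I, f), Finset.mem_insert_self _ _, hIp, hfp⟩
    · have hfin := Ideal.finite_minimalPrimes_of_isNoetherianRing R I
      have hlt : ∀ P ∈ hfin.toFinset, I < P := fun P hP =>
        lt_of_le_of_ne ((hfin.mem_toFinset.mp hP).1.2) (fun h => hI (h ▸ (hfin.mem_toFinset.mp hP).1.1))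
      choose! S hS hcov using fun P hP => ih P (hlt P hP)
      refine ⟨hfin.toFinset.biUnion S, fun s hs => ?_, fun p hp hIp => ?_⟩
      · obtain ⟨P, hP, hs⟩ := Finset.mem_biUnion.mp hs
        exact hS P hP s hs
      · haveI := hp
        obtain ⟨P, hP, hPp⟩ := Ideal.exists_minimalPrimes_le hIp
        obtain ⟨s, hs, h⟩ := hcov P (hfin.mem_toFinset.mpr hP) p hp hPp
        exact ⟨s, Finset.mem_biUnion.mpr ⟨P, hfin.mem_toFinset.mpr hP, hs⟩, h⟩

variable (h : IsFil w Kf)

include h in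
theorem ψ_mem_NN {A C : Type u} [CommRing A] [CommRing C] [Algebra R A] [Algebra R C] [Algebra A C]
    [IsScalarTower R A C] {y : F d n A} (hy : y ∈ NN w Kf A) : ψ C y ∈ NN w Kf C :=
  mem_NN.mpr fun k => by rw [E_ψ]; exact ψ_mem_of_KC _ (mem_NN.mp hy k)

theorem KC_NP_le {A C : Type u} [CommRing A] [CommRing C] [Algebra R A] [Algebra R C] [Algebra A C]
    [IsScalarTower R A C] : KC C (NP h A) ≤ NN w Kf C := by
  rw [KC, Submodule.span_le]
  rintro _ ⟨y, hy, rfl⟩
  exact ψ_mem_NN h hy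

theorem E_mem_KC_NP {A C : Type u} [CommRing A] [CommRing C] [Algebra R A] [Algebra A C]
    (k : ℕ) {x : F d n C} (hx : x ∈ KC C (NP h A)) : E w k x ∈ KC C (NP h A) := by
  refine Submodule.span_induction (p := fun x _ => E w k x ∈ KC C (NP h A)) ?_ (by simp) ?_ ?_ hx
  · rintro _ ⟨y, hy, rfl⟩
    rw [E_ψ]
    exact ψ_mem _ (show E w k y ∈ NP h A from E_mem_NN (mem_NN.mp hy k))
  · intro a b _ _ ha hb; rw [map_add]; exact add_mem ha hb
  · intro c a _ ha; rw [map_smul]; exact Submodule.smul_mem _ _ ha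

/-- The relations of the graded module modulo an ideal. -/
noncomputable def KPd (h : IsFil w Kf) (P : Ideal R) : Submodule (MvPolynomial (Fin d) R) (F d n R) where
  carrier := {z | ψ (R ⧸ P) z ∈ NN w Kf (R ⧸ P)}
  add_mem' := fun {a b} ha hb => by simp only [Set.mem_ofPred_eq, map_add] at *; exact add_mem ha hb
  zero_mem' := by simp only [Set.mem_ofPred_eq, map_zero]; exact zero_mem _
  smul_mem' := fun p z hz => by
    simp only [Set.mem_ofPred_eq] at *
    rw [ψ_poly_smul]
    exact NN_stable h _ hz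

theorem mem_KPd {P : Ideal R} {z : F d n R} :
    z ∈ KPd h P ↔ ψ (R ⧸ P) z ∈ NN w Kf (R ⧸ P) := Iff.rfl

theorem KI_le_KPd (P : Ideal R) : KI P ≤ KPd h P := by
  intro z hz
  have : ψ (R ⧸ P) z = 0 := ext_co fun e => by
    rw [co_ψ, co_zero]
    exact Ideal.Quotient.eq_zero_iff_mem.mpr ((mem_smul_top_iff _ _).mp (mem_KI.mp hz) e)
  rw [mem_KPd, this]; exact zero_mem _

theorem ψ_surjective_quotient (P : Ideal R) :
    Function.Surjective (ψ (d := d) (n := n) (R := R) (R ⧸ P)) := fun y => by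
  choose p hp using fun i => MvPolynomial.map_surjective (algebraMap R (R ⧸ P))
    Ideal.Quotient.mk_surjective (y i)
  exact ⟨p, funext hp⟩

include h in
/-- The stratum at a prime. -/
theorem exists_stratum [IsNoetherianRing R] (P : Ideal R) [P.IsPrime] : ∃ f ∉ P,
    ∀ (C : Type u) [CommRing C] [Algebra R C] (k : ℕ), ∀ y ∈ KC C (Kf (k + 1)), E w k y = y →
      ∃ N : ℕ, algebraMap R C f ^ N • y ∈ KC C (KPd h P) := by
  classical
  let R' := R ⧸ P
  haveI : IsNoetherianRing R' :=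
    isNoetherianRing_of_surjective R _ (Ideal.Quotient.mk P) Ideal.Quotient.mk_surjective
  obtain ⟨f', hf', hfree⟩ := GenFree.exists_freeAt (R := R') (S := MvPolynomial (Fin d) R')
    (F d n R' ⧸ NP h R')
  obtain ⟨f, rfl⟩ := Ideal.Quotient.mk_surjective f'
  refine ⟨f, fun hfP => hf' (Ideal.Quotient.eq_zero_iff_mem.mpr hfP), ?_⟩
  set f' := Ideal.Quotient.mk P f
  let L := Localization.Away f'
  have hLinj : Function.Injective (algebraMap R' L) :=
    IsLocalization.injective L (powers_le_nonZeroDivisors_of_noZeroDivisors hf')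
  have hLsurj : ∀ c : L, ∃ (M : ℕ) (c' : R'), algebraMap R' L f' ^ M * c = algebraMap R' L c' := by
    intro c
    obtain ⟨⟨c', ⟨_, M, rfl⟩⟩, hc⟩ := IsLocalization.surj (Submonoid.powers f') c
    exact ⟨M, c', by rw [mul_comm, ← map_pow]; exact hc⟩
  have hNN : NN w Kf L = KC L (NP h R') := by
    refine le_antisymm (fun y hy => ?_) (KC_NP_le h)
    obtain ⟨b, hb⟩ := exists_sum_E w y
    rw [← hb]
    refine Submodule.sum_mem _ fun l _ => ?_
    obtain ⟨M, x, hx, hxe⟩ := exists_clear f' hLsurj (Kf (l + 1)) (mem_NN.mp hy l)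
    have hxl : E w l x = x := ψ_injective hLinj (by rw [← E_ψ, hxe, map_smul, E_self])
    have hu : IsUnit (algebraMap R' L f' ^ M) := (IsLocalization.Away.algebraMap_isUnit f').pow M
    have h1 : ψ L x ∈ KC L (NP h R') :=
      ψ_mem _ (show x ∈ NP h R' from hxl ▸ E_mem_NN (hxl.symm ▸ hx))
    rw [hxe] at h1
    exact (Submodule.smul_mem_iff_of_isUnit _ hu).mp h1
  haveI hflat : Module.Flat L (MC L (NP h L)) := by
    have hfree' : GenFree.FreeAt f' (F d n R' ⧸ NP h R') := hfree
    obtain ⟨e⟩ := exists_baseChangeEquiv (NP h R') L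
    haveI : Module.Free L (L ⊗[R'] (F d n R' ⧸ NP h R')) :=
      hfree'.free hf' L _ (TensorProduct.mk R' L (F d n R' ⧸ NP h R') 1)
    exact Module.Flat.of_linearEquiv
      (Submodule.quotEquivOfEq _ _ ((KC_self h).trans hNN) ≪≫ₗ e.symm)
  intro C _ _ k y hy hk
  let C' := C ⧸ P.map (algebraMap R C)
  let φ : R' →+* C' := Ideal.quotientMap _ (algebraMap R C) Ideal.le_comap_map
  let g : C := algebraMap R C f
  let D := Localization.Away (Ideal.Quotient.mk (P.map (algebraMap R C)) g)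
  let χ : L →+* D := IsLocalization.Away.lift f' (g := (algebraMap C' D).comp φ) (by
    have : φ f' = Ideal.Quotient.mk _ g := Ideal.quotientMap_mk
    rw [RingHom.comp_apply, this]
    exact IsLocalization.Away.algebraMap_isUnit _)
  letI := χ.toAlgebra
  haveI : IsScalarTower R L D := IsScalarTower.of_algebraMap_eq fun r => by
    rw [RingHom.algebraMap_toAlgebra, IsScalarTower.algebraMap_apply R R' L,
      IsLocalization.Away.lift_eq, IsScalarTower.algebraMap_apply R C' D]
    rfl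
  haveI : Module.Flat L (MC L (Kf k)) := flat_of_flat_NN h k
  have h1 : ψ D y ∈ KC D (NP h L) :=
    homog_algebra h D (ψ_mem_of_KC _ hy) (by rw [E_ψ, hk])
  have hle : NP h L ≤ KP (C := L) (KPd h P) := by
    intro z hz
    show z ∈ KC L (KPd h P)
    have hz' : z ∈ KC L (NP h R') := hNN ▸ hz
    refine (Submodule.span_le.mpr ?_) hz'
    rintro _ ⟨a, ha, rfl⟩
    obtain ⟨a', rfl⟩ := ψ_surjective_quotient P a
    rw [SetLike.mem_coe, ψ_ψ]
    exact ψ_mem _ ha
  have h2 : ψ D y ∈ KC D (KPd h P) := KC_KP (KPd h P) L D ▸ KC_mono hle h1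
  have hDC : ∀ c, algebraMap C D c = algebraMap C' D (Ideal.Quotient.mk _ c) := fun c => rfl
  have hDsurj : ∀ c : D, ∃ (M : ℕ) (c' : C), algebraMap C D g ^ M * c = algebraMap C D c' := by
    intro c
    obtain ⟨⟨c', ⟨_, M, rfl⟩⟩, hc⟩ :=
      IsLocalization.surj (Submonoid.powers (Ideal.Quotient.mk (P.map (algebraMap R C)) g)) c
    obtain ⟨c', rfl⟩ := Ideal.Quotient.mk_surjective c'
    exact ⟨M, c', by rw [mul_comm, hDC, hDC, ← map_pow]; exact hc⟩
  obtain ⟨M, x, hx, hxe⟩ := exists_clear g hDsurj (KPd h P) h2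
  have h0 : ψ D (g ^ M • y - x) = 0 := by
    rw [map_sub, map_smul, hxe, ← algebraMap_smul D (g ^ M), map_pow, sub_self]
  obtain ⟨N, hN⟩ := exists_pow_smul_mem g (P.map (algebraMap R C)) (fun c hc => by
    rw [hDC] at hc
    obtain ⟨⟨_, N, rfl⟩, hN⟩ := (IsLocalization.map_eq_zero_iff
      (Submonoid.powers (Ideal.Quotient.mk (P.map (algebraMap R C)) g)) D _).mp hc
    exact ⟨N, Ideal.Quotient.eq_zero_iff_mem.mp (by rw [map_mul, map_pow]; exact hN)⟩) h0
  refine ⟨N + M, ?_⟩
  have h3 : g ^ N • (g ^ M • y - x) ∈ KC C (KPd h P) :=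
    KC_mono (KI_le_KPd h P) (KC_KI P C ▸ hN)
  have h4 := add_mem h3 (Submodule.smul_mem _ (g ^ N) hx)
  rwa [smul_sub, sub_add_cancel, smul_smul, ← pow_add] at h4

include h in
/-- The witnesses for lifting one relation. -/
theorem exists_lift_witness {A : Type u} [CommRing A] [Algebra R A]
    (hT : ∀ k, Module.Flat A (MC A (Kf k))) {P : Ideal R} {z : F d n R} (hz : z ∈ KPd h P) :
    ∃ U : Finset A, ∀ B : Subalgebra R A, (U : Set A) ⊆ B →
      ψ B z ∈ NN w Kf B ⊔ P.map (algebraMap R B) • (⊤ : Submodule B (F d n B)) := by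
  classical
  obtain ⟨L, hL⟩ := exists_sum_E w z
  suffices H : ∀ k, ∃ U : Finset A, ∀ B : Subalgebra R A, (U : Set A) ⊆ B →
      ψ B (E w k z) ∈ NN w Kf B ⊔ P.map (algebraMap R B) • (⊤ : Submodule B (F d n B)) by
    choose U hU using H
    refine ⟨(Finset.range L).biUnion U, fun B hB => ?_⟩
    rw [← hL, map_sum]
    exact Submodule.sum_mem _ fun l hl => hU l B fun a ha =>
      hB (Finset.mem_biUnion.mpr ⟨l, hl, ha⟩)
  intro k
  have hz' : ψ (R ⧸ P) (E w k z) ∈ KC (R ⧸ P) (Kf (k + 1)) := E_ψ (C := R ⧸ P) (w := w) k z ▸ mem_NN.mp hz k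
  obtain ⟨a, ha, hab⟩ : ∃ a ∈ Kf (k + 1), ψ (R ⧸ P) a = ψ (R ⧸ P) (E w k z) := by
    refine Submodule.span_induction (p := fun x _ => ∃ a ∈ Kf (k + 1), ψ (R ⧸ P) a = x) ?_
      ⟨0, zero_mem _, map_zero _⟩ ?_ ?_ hz'
    · rintro _ ⟨a, ha, rfl⟩; exact ⟨a, ha, rfl⟩
    · rintro _ _ _ _ ⟨a, ha, rfl⟩ ⟨b, hb, rfl⟩; exact ⟨a + b, add_mem ha hb, map_add _ _ _⟩
    · rintro c _ _ ⟨a, ha, rfl⟩
      obtain ⟨c, rfl⟩ := Ideal.Quotient.mk_surjective c
      exact ⟨c • a, Submodule.smul_of_tower_mem _ _ ha, map_smul _ _ _⟩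
  set b := ψ A (E w k z) - ψ A a
  have hbJ : b ∈ P.map (algebraMap R A) • (⊤ : Submodule A (F d n A)) := by
    rw [mem_smul_top_iff]
    intro e
    rw [co_sub, co_ψ, co_ψ, ← map_sub]
    refine Ideal.mem_map_of_mem _ (Ideal.Quotient.eq.mp ?_)
    have := congrArg (co · e) hab.symm
    simpa [co_ψ] using this
  have hbK : b ∈ KC A (Kf k) :=
    sub_mem (E_ψ (C := A) (w := w) k z ▸ E_mem_KC h k _) (KC_anti h (Nat.le_add_right k 1) (ψ_mem _ ha))
  haveI := hT k
  obtain ⟨v, hv, hve⟩ : ∃ v ∈ P.map (algebraMap R A) • (⊤ : Submodule A (F d n A)),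
      b - E w k v ∈ KC A (Kf (k + 1)) := by
    refine Submodule.smul_induction_on (mem_of_flat (Kf k) _ hbK hbJ) (fun c hc m hm => ?_) ?_
    · obtain ⟨x, hx⟩ := exists_gr h hm
      exact ⟨c • x, Submodule.smul_mem_smul hc trivial, by
        rw [map_smul, ← smul_sub]; exact Submodule.smul_mem _ _ hx⟩
    · rintro p q ⟨vp, hvp, hp⟩ ⟨vq, hvq, hq⟩
      exact ⟨vp + vq, add_mem hvp hvq, by rw [map_add, add_sub_add_comm]; exact add_mem hp hq⟩
  set n₀ := ψ A (E w k z) - E w k v
  have hn₀ : n₀ ∈ KC A (Kf (k + 1)) := by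
    have := add_mem hve (ψ_mem (C := A) _ ha)
    rwa [show b - E w k v + ψ A a = n₀ by simp only [b, n₀]; abel] at this
  have hn₀k : E w k n₀ = n₀ := by simp only [n₀, map_sub, E_ψ, E_self]
  have hv' : E w k v ∈ KC A (KI P : Submodule (MvPolynomial (Fin d) R) (F d n R)) := by
    rw [KC_KI, mem_smul_top_iff]
    intro e
    rw [co_E]; split_ifs
    · exact (mem_smul_top_iff _ _).mp hv e
    · exact zero_mem _
  obtain ⟨U, hU⟩ := exists_finset_lift _ hn₀
  obtain ⟨V, hV⟩ := exists_finset_lift _ hv'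
  refine ⟨U ∪ V, fun B hB => ?_⟩
  rw [Finset.coe_union] at hB
  obtain ⟨n', hn', hn'e⟩ := hU B (Set.subset_union_left.trans hB)
  obtain ⟨v', hv', hv'e⟩ := hV B (Set.subset_union_right.trans hB)
  have hinj := ψ_injective (d := d) (n := n) (A := B) (C := A) Subtype.val_injective
  have hn'k : E w k n' = n' := hinj (by rw [← E_ψ, hn'e, hn₀k])
  have e : ψ B (E w k z) = n' + v' := hinj (by rw [ψ_ψ, map_add, hn'e, hv'e, sub_add_cancel])
  rw [e]
  exact Submodule.add_mem_sup (hn'k ▸ E_mem_NN (hn'k.symm ▸ hn')) (KC_KI P B ▸ hv')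

theorem le_of_forall_isMaximal {S : Type u} [CommRing S] {M : Type u} [AddCommGroup M] [Module S M]
    (W B : Submodule S M) (hW : W.FG) (hle : ∀ m : Ideal S, m.IsMaximal → W ≤ B ⊔ m • W) : W ≤ B := by
  suffices W.map B.mkQ = ⊥ by simpa using (LinearMap.le_ker_iff_map.mpr this : W ≤ LinearMap.ker B.mkQ)
  rw [← Submodule.annihilator_eq_top_iff]
  by_contra htop
  obtain ⟨m, hm, ham⟩ := Ideal.exists_le_maximal _ htop
  have hle' : W.map B.mkQ ≤ m • W.map B.mkQ := by
    refine (Submodule.map_mono (hle m hm)).trans ?_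
    rw [Submodule.map_sup, Submodule.map_smul'']
    simp
  obtain ⟨r, hr, hr0⟩ :=
    Submodule.exists_sub_one_mem_and_smul_eq_zero_of_fg_of_le_smul m _ (hW.map _) hle'
  have hrm : r ∈ m := ham (Submodule.mem_annihilator.mpr hr0)
  exact hm.ne_top ((Ideal.eq_top_iff_one m).mpr (by simpa using sub_mem hrm hr))

include h in
/-- Flatness of the graded module descends. -/
theorem exists_fg_stage_gr [IsNoetherianRing R] (A : Type u) [CommRing A] [Algebra R A]
    (hT : ∀ k, Module.Flat A (MC A (Kf k))) :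
    ∃ B : Subalgebra R A, B.FG ∧ ∀ k, Module.Flat B (MC B (Kf k)) := by
  classical
  obtain ⟨S, hS, hcov⟩ := exists_cover (fun P f => ∀ (C : Type u) [CommRing C] [Algebra R C] (k : ℕ),
      ∀ y ∈ KC C (Kf (k + 1)), E w k y = y → ∃ N : ℕ, algebraMap R C f ^ N • y ∈ KC C (KPd h P))
    fun P hP => by haveI := hP; exact exists_stratum h P
  choose G hG using fun P => (IsNoetherian.noetherian (KPd h P) : (KPd h P).FG)
  have hwit : ∀ (P : Ideal R) (z : F d n R), ∃ U : Finset A, z ∈ G P → ∀ B : Subalgebra R A,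
      (U : Set A) ⊆ B →
      ψ B z ∈ NN w Kf B ⊔ P.map (algebraMap R B) • (⊤ : Submodule B (F d n B)) := by
    intro P z
    by_cases hz : z ∈ G P
    · obtain ⟨U, hU⟩ := exists_lift_witness h hT (hG P ▸ Submodule.subset_span hz)
      exact ⟨U, fun _ => hU⟩
    · exact ⟨∅, fun h => absurd h hz⟩
  choose U hU using hwit
  let W₀ : Finset A := S.biUnion fun s => (G s.1).biUnion (U s.1)
  let C₀ := Algebra.adjoin R (W₀ : Set A)
  haveI : Algebra.FiniteType R C₀ := C₀.fg_iff_finiteType.mp ⟨W₀, rfl⟩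
  haveI : IsNoetherianRing C₀ := Algebra.FiniteType.isNoetherianRing R C₀
  have hlift : ∀ s ∈ S, ∀ z ∈ KPd h s.1,
      ψ C₀ z ∈ NN w Kf C₀ ⊔ s.1.map (algebraMap R C₀) • (⊤ : Submodule C₀ (F d n C₀)) := by
    intro s hs z hz
    rw [← hG] at hz
    refine Submodule.span_induction (p := fun z _ => ψ C₀ z ∈ NN w Kf C₀ ⊔
      s.1.map (algebraMap R C₀) • (⊤ : Submodule C₀ (F d n C₀))) ?_ (by simp)
      (fun a b _ _ ha hb => by rw [map_add]; exact add_mem ha hb) (fun c a _ ha => ?_) hz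
    · exact fun y hy => hU s.1 y hy C₀ fun a ha => Algebra.subset_adjoin
        (Finset.mem_biUnion.mpr ⟨s, hs, Finset.mem_biUnion.mpr ⟨y, hy, ha⟩⟩)
    · rw [ψ_poly_smul]
      obtain ⟨p, hp, q, hq, hpq⟩ := Submodule.mem_sup.mp ha
      rw [← hpq, smul_add]
      refine Submodule.add_mem_sup (NN_stable h _ hp) ?_
      refine Submodule.smul_induction_on hq (fun r hr m _ => ?_)
        (fun u v hu hv => by rw [smul_add]; exact add_mem hu hv)
      rw [smul_comm]; exact Submodule.smul_mem_smul hr trivial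
  -- the key equality
  have hkey : NN w Kf A ≤ KC A (NP h C₀) := by
    intro x hx
    obtain ⟨b, hb⟩ := exists_sum_E w x
    rw [← hb]
    refine Submodule.sum_mem _ fun k _ => ?_
    obtain ⟨U₁, hU₁⟩ := exists_finset_lift _ (mem_NN.mp hx k)
    choose Bs hBs hBsflat using fun l : ℕ =>
      haveI := hT l; exists_fg_stage (Kf l) A
    choose V hV using hBs
    let W₁ : Finset A := W₀ ∪ U₁ ∪ (Finset.range (k + 2)).biUnion V
    let C := Algebra.adjoin R (W₁ : Set A)
    haveI : Algebra.FiniteType R C := C.fg_iff_finiteType.mp ⟨W₁, rfl⟩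
    haveI : IsNoetherianRing C := Algebra.FiniteType.isNoetherianRing R C
    have hC₀ : C₀ ≤ C := Algebra.adjoin_mono (by intro a ha; simp only [W₁, Finset.coe_union]; exact .inl (.inl ha))
    have hflatC : ∀ l ≤ k + 1, Module.Flat C (MC C (Kf l)) := by
      intro l hl
      have hle : Bs l ≤ C := by
        rw [← hV l]
        refine Algebra.adjoin_mono fun a ha => ?_
        simp only [W₁, Finset.coe_union]
        exact .inr (Finset.mem_biUnion.mpr ⟨l, Finset.mem_range.mpr (by omega), ha⟩)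
      letI := (Subalgebra.inclusion hle).toRingHom.toAlgebra
      haveI : IsScalarTower R (Bs l) C := IsScalarTower.of_algebraMap_eq fun _ => rfl
      haveI := hBsflat l
      exact flat_MC_of_flat (Kf l) (A := Bs l)
    obtain ⟨x', hx', hx'e⟩ := hU₁ C fun a ha => Algebra.subset_adjoin (by
      simp only [W₁, Finset.coe_union]; exact .inl (.inr ha))
    have hinjA := ψ_injective (d := d) (n := n) (A := C) (C := A) Subtype.val_injective
    have hx'k : E w k x' = x' := hinjA (by rw [← E_ψ, hx'e, E_self])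
    letI := (Subalgebra.inclusion hC₀).toRingHom.toAlgebra
    haveI : IsScalarTower R C₀ C := IsScalarTower.of_algebraMap_eq fun _ => rfl
    haveI : IsScalarTower C₀ C A := IsScalarTower.of_algebraMap_eq fun _ => rfl
    let WP : Submodule (MvPolynomial (Fin d) C) (F d n C) :=
      { (WW w Kf C k).toAddSubmonoid with smul_mem' := fun p _ hy => WW_stable h k p hy }
    let UP : Submodule (MvPolynomial (Fin d) C) (F d n C) :=
      { (UU w C k).toAddSubmonoid with smul_mem' := fun p _ hy => UU_stable k p hy }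
    have hsub : WP ≤ KP (C := C) (NP h C₀) ⊔ UP := by
      refine le_of_forall_isMaximal _ _ (IsNoetherian.noetherian WP) fun m hm q hq => ?_
      let B₁ := KP (C := C) (NP h C₀) ⊔ UP ⊔ m • WP
      let p : Ideal C := m.comap MvPolynomial.C
      obtain ⟨s, hs, hsp, hfp⟩ := hcov (p.comap (algebraMap R C)) ((hm.isPrime.comap _).comap _)
      have hPW : ∀ y ∈ s.1.map (algebraMap R C) • WW w Kf C k, y ∈ B₁ := by
        intro y hy
        refine Submodule.smul_induction_on hy (fun c hc v hv => ?_) (fun _ _ => add_mem)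
        rw [← algebraMap_smul (MvPolynomial (Fin d) C) c, MvPolynomial.algebraMap_eq]
        exact Submodule.mem_sup_right
          (Submodule.smul_mem_smul (Ideal.map_le_iff_le_comap.mpr hsp hc : c ∈ p) hv)
      have hcomp : ∀ l ≤ k, ∃ N : ℕ, algebraMap R C s.2 ^ N • E w l q ∈ B₁ := by
        intro l hl
        have hql : E w l q ∈ KC C (Kf (l + 1)) := mem_WW.mp hq l hl
        obtain ⟨N, hN⟩ := hS s hs C l _ hql (E_self w l q)
        refine ⟨N, ?_⟩
        have hdec : algebraMap R C s.2 ^ N • E w l q ∈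
            KC C (NP h C₀) ⊔ s.1.map (algebraMap R C) • (⊤ : Submodule C (F d n C)) := by
          refine (Submodule.span_le.mpr ?_) hN
          rintro _ ⟨z, hz, rfl⟩
          obtain ⟨a, ha, b, hb, hab⟩ := Submodule.mem_sup.mp (hlift s hs z hz)
          rw [SetLike.mem_coe, ← ψ_ψ C₀ C z, ← hab, map_add]
          exact Submodule.add_mem_sup (ψ_mem (NP h C₀) ha) (ψ_mem_smul s.1 hb)
        obtain ⟨a, ha, b, hb, hab⟩ := Submodule.mem_sup.mp hdec
        have heq : algebraMap R C s.2 ^ N • E w l q = E w l a + E w l b := by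
          rw [← map_add, hab, map_smul, E_self]
        have ha' := E_mem_KC_NP h l ha
        have haK : E w l a ∈ KC C (Kf (l + 1)) := by
          have := mem_NN.mp (KC_NP_le h ha') l
          rwa [E_self] at this
        have hbK : E w l b ∈ KC C (Kf (l + 1)) := by
          have := sub_mem (Submodule.smul_mem _ (algebraMap R C s.2 ^ N) hql) haK
          rwa [heq, add_sub_cancel_left] at this
        have hbP : E w l b ∈ s.1.map (algebraMap R C) • (⊤ : Submodule C (F d n C)) := by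
          rw [mem_smul_top_iff] at hb ⊢
          intro e
          rw [co_E]; split_ifs
          · exact hb e
          · exact zero_mem _
        haveI := hflatC l (by omega); haveI := hflatC (l + 1) (by omega)
        have hbN := homog_ideal h _ hbK hbP (E_self w l b)
        rw [heq]
        refine add_mem (Submodule.mem_sup_left (Submodule.mem_sup_left ha')) (hPW _ ?_)
        exact Submodule.smul_mono le_rfl (fun y hy => mem_WW.mpr fun i _ => mem_NN.mp hy i) hbN
      have hcomp' : ∀ l ≤ k, E w l q ∈ B₁ := by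
        intro l hl
        obtain ⟨N, hN⟩ := hcomp l hl
        have hg : MvPolynomial.C (algebraMap R C s.2 ^ N) ∉ m := fun hmem => hfp (by
          rw [map_pow] at hmem
          exact hm.isPrime.mem_of_pow_mem N hmem)
        obtain ⟨r, i, hi, hri⟩ := hm.exists_inv hg
        rw [← one_smul (MvPolynomial (Fin d) C) (E w l q), ← hri, add_smul, mul_smul]
        refine add_mem (B₁.smul_mem _ ?_) (Submodule.mem_sup_right (Submodule.smul_mem_smul hi ?_))
        · rwa [← MvPolynomial.algebraMap_eq, algebraMap_smul]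
        · refine mem_WW.mpr fun i hi' => ?_
          rw [E_E]; split_ifs with hil
          · subst hil; exact mem_WW.mp hq i hi'
          · exact zero_mem _
      have hrest : q - ∑ l ∈ Finset.range (k + 1), E w l q ∈ UP := mem_UU.mpr fun i hi => by
        rw [map_sub, map_sum, Finset.sum_eq_single i
          (fun l _ hli => by rw [E_E, if_neg (Ne.symm hli)])
          (fun hni => absurd (Finset.mem_range.mpr (by omega)) hni), E_self, sub_self]
      have := add_mem (show _ ∈ B₁ from Submodule.mem_sup_left (Submodule.mem_sup_right hrest))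
        (Submodule.sum_mem B₁ fun l (hl : l ∈ Finset.range (k + 1)) => hcomp' l (by rw [Finset.mem_range] at hl; omega))
      rwa [sub_add_cancel] at this
    have hx'W : x' ∈ WP := by
      have hN : x' ∈ NN w Kf C := hx'k ▸ E_mem_NN (hx'k.symm ▸ hx')
      exact mem_WW.mpr fun i _ => mem_NN.mp hN i
    obtain ⟨a, ha, b, hb, hab⟩ := Submodule.mem_sup.mp (hsub hx'W)
    have hfin : x' = E w k a := by
      have h0 : E w k b = 0 := mem_UU.mp hb k le_rfl
      rw [← hx'k, ← hab, map_add, h0, add_zero]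
    rw [← hx'e, hfin]
    exact ψ_mem_of_KC _ (E_mem_KC_NP h k ha)
  haveI : Module.Flat A (MC A (NP h C₀)) :=
    haveI := flat_NN_of_flat h hT
    Module.Flat.of_linearEquiv (Submodule.quotEquivOfEq _ _
      ((le_antisymm (KC_NP_le h) hkey).trans (KC_self h).symm))
  obtain ⟨B, hB, hflat⟩ := exists_fg_stage (NP h C₀) A
  have hNNB : NN w Kf B = KC B (NP h C₀) := by
    refine le_antisymm (fun y hy => ?_) (KC_NP_le h)
    have hA : ψ (R := B) A y ∈ KC A (NP h C₀) := hkey (ψ_mem_NN h hy)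
    let e := LinearEquiv.ofBijective (Θ (d := d) (n := n) (C := B) A) (Θ_bijective A)
    let Gm : F d n A →ₗ[A] A ⊗[B] MC B (NP h C₀) :=
      (KC B (NP h C₀)).mkQ.baseChange A ∘ₗ e.symm.toLinearMap
    have hGψ : ∀ v : F d n B, Gm (ψ A v) = 1 ⊗ₜ[B] (KC B (NP h C₀)).mkQ v := by
      intro v
      have : e.symm (ψ A v) = 1 ⊗ₜ[B] v := e.injective (by simp [e, Θ])
      simp [Gm, this]
    have h0 : Gm (ψ A y) = 0 := by
      refine (Submodule.span_le (p := LinearMap.ker Gm)).mpr ?_ hA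
      rintro _ ⟨v, hv, rfl⟩
      rw [SetLike.mem_coe, LinearMap.mem_ker, ← ψ_ψ B A v, hGψ, Submodule.mkQ_apply,
        (Submodule.Quotient.mk_eq_zero _).mpr (ψ_mem _ hv), TensorProduct.tmul_zero]
    rw [hGψ] at h0
    refine (Submodule.Quotient.mk_eq_zero _).mp ?_
    have hinj := Module.Flat.rTensor_preserves_injective_linearMap (M := MC B (NP h C₀))
      (Algebra.linearMap B A) Subtype.val_injective
    have h1 : (1 : B) ⊗ₜ[B] (KC B (NP h C₀)).mkQ y = 0 := hinj (by simpa using h0)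
    simpa using congrArg (TensorProduct.lid B _) h1
  haveI : Module.Flat B (MC B (NP h B)) :=
    Module.Flat.of_linearEquiv (Submodule.quotEquivOfEq _ _ ((KC_self h).trans hNNB))
  haveI : Algebra.FiniteType C₀ B := B.fg_iff_finiteType.mp hB
  haveI : Algebra.FiniteType R B := Algebra.FiniteType.trans ‹_› ‹_›
  exact ⟨B.restrictScalars R, (B.restrictScalars R).fg_iff_finiteType.mpr ‹_›,
    fun k => (flat_of_flat_NN h (C := B) k : Module.Flat B (MC B (Kf k)))⟩

end Groth.L07.FlatDescent
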