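import Groth.Agent.L07.FlatStage
import Mathlib.RingTheory.MvPolynomial.WeightedHomogeneous
import Mathlib.RingTheory.Flat.Equalizer
import Mathlib.LinearAlgebra.TensorProduct.RightExactness

/-! Flatness of an associated graded module: the weighted presentation. -/

namespace Groth.L07.FlatDescent

open MvPolynomial TensorProduct

set_option linter.style.haveILetI false

universe u

variable {d n : ℕ} (w : Fin d → ℕ)

/-- The weighted degree of a monomial vector. -/
noncomputable def wt (e : Fin n × (Fin d →₀ ℕ)) : ℕ := Finsupp.weight w e.2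

section Ring

variable {C : Type u} [CommRing C]

/-- The component of weighted degree `k`. -/
noncomputable def E (k : ℕ) : F d n C →ₗ[C] F d n C :=
  LinearMap.pi fun i => weightedHomogeneousComponent w k ∘ₗ LinearMap.proj i

theorem co_E (k : ℕ) (y : F d n C) (e : Fin n × (Fin d →₀ ℕ)) :
    co (E w k y) e = if wt w e = k then co y e else 0 := by
  classical
  by_cases h : wt w e = k
  · rw [if_pos h]
    simp [E, co, coeff_weightedHomogeneousComponent, show Finsupp.weight w e.2 = k from h]
  · rw [if_neg h]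
    simp [E, co, coeff_weightedHomogeneousComponent, show ¬ Finsupp.weight w e.2 = k from h]

omit w in
theorem ext_co {y z : F d n C} (h : ∀ e, co y e = co z e) : y = z := by
  funext i
  exact MvPolynomial.ext _ _ fun m => h (i, m)

omit w in
theorem co_add (y z : F d n C) (e) : co (y + z) e = co y e + co z e := by simp [co]

omit w in
theorem co_sub (y z : F d n C) (e) : co (y - z) e = co y e - co z e := by simp [co]

omit w in
theorem co_zero (e : Fin n × (Fin d →₀ ℕ)) : co (0 : F d n C) e = 0 := by simp [co]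

theorem E_E (k l : ℕ) (y : F d n C) : E w l (E w k y) = if l = k then E w k y else 0 := by
  apply ext_co
  intro e
  by_cases h : l = k
  · subst h; simp only [if_true, co_E]; split_ifs <;> rfl
  · simp only [if_neg h, co_E, co_zero]; split_ifs with h1 h2
    · exact absurd (h1.symm.trans h2) h
    · rfl
    · rfl

theorem E_self (k : ℕ) (y : F d n C) : E w k (E w k y) = E w k y := by rw [E_E, if_pos rfl]

/-- The components below `k`. -/
noncomputable def Elo (k : ℕ) : F d n C →ₗ[C] F d n C := ∑ l ∈ Finset.range k, E w l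

theorem co_Elo (k : ℕ) (y : F d n C) (e) : co (Elo w k y) e = if wt w e < k then co y e else 0 := by
  classical
  simp [Elo, LinearMap.sum_apply, co_sum, co_E, Finset.sum_ite_eq, Finset.mem_range]

theorem Elo_E (k : ℕ) (y : F d n C) : Elo w k (E w k y) = 0 := by
  apply ext_co
  intro e
  rw [co_Elo, co_E, co_zero]
  split_ifs with h1 h2 <;> first | rfl | omega

theorem exists_bound (y : F d n C) : ∃ L, ∀ l, L ≤ l → E w l y = 0 := by
  classical
  refine ⟨(supp y).sup (wt w) + 1, fun l hl => ext_co fun e => ?_⟩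
  rw [co_E, co_zero]
  split_ifs with h
  · exact co_eq_zero fun he => by have := Finset.le_sup (f := wt w) he; omega
  · rfl

theorem exists_sum_E (y : F d n C) : ∃ L, ∑ l ∈ Finset.range L, E w l y = y := by
  obtain ⟨L, hL⟩ := exists_bound w y
  refine ⟨L, ?_⟩
  have : Elo w L y = y := ext_co fun e => by
    rw [co_Elo]
    split_ifs with h
    · rfl
    · have := congrArg (co · e) (hL (wt w e) (by omega))
      simpa [co_E, co_zero] using this.symm
  simpa [Elo, LinearMap.sum_apply] using this

end Ring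

variable {R : Type u} [CommRing R]

theorem E_ψ {C : Type u} [CommRing C] [Algebra R C] (k : ℕ) (y : F d n R) :
    E w k (ψ C y) = ψ C (E w k y) := by
  apply ext_co
  intro e
  rw [co_E, co_ψ, co_ψ, co_E]
  split_ifs <;> simp

variable (Kf : ℕ → Submodule (MvPolynomial (Fin d) R) (F d n R))

/-- The axioms of a weighted filtration presentation. -/
structure IsFil : Prop where
  zero : Kf 0 = ⊤
  anti : ∀ k, Kf (k + 1) ≤ Kf k
  high : ∀ k e, k ≤ wt w e → em e ∈ Kf k
  gr : ∀ k, ∀ y ∈ Kf k, ∃ z, y - E w k z ∈ Kf (k + 1)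
  mul : ∀ a k, ∀ y ∈ Kf k, (X a : MvPolynomial (Fin d) R) • y ∈ Kf (k + w a)

variable {w Kf} (h : IsFil w Kf) {C : Type u} [CommRing C] [Algebra R C]

omit h in
theorem KC_mono {K K' : Submodule (MvPolynomial (Fin d) R) (F d n R)} (hK : K ≤ K') :
    KC C K ≤ KC C K' := Submodule.span_mono (Set.image_mono hK)

include h in
theorem KC_anti {k l : ℕ} (hkl : k ≤ l) : KC C (Kf l) ≤ KC C (Kf k) := by
  induction l, hkl using Nat.le_induction with
  | base => exact le_rfl
  | succ l _ ih => exact (KC_mono (h.anti l)).trans ih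

include h in
theorem KC_zero : KC C (Kf 0) = ⊤ := by
  rw [eq_top_iff]
  intro y _
  rw [← sum_em (Finset.Subset.refl (supp y))]
  refine Submodule.sum_mem _ fun e _ => Submodule.smul_mem _ _ ?_
  rw [← ψ_em (R := R) C e]
  exact ψ_mem _ (h.zero ▸ trivial)

include h in
theorem mem_of_high {m : ℕ} {y : F d n C} (hy : ∀ e, wt w e < m → co y e = 0) : y ∈ KC C (Kf m) := by
  rw [← sum_em (Finset.Subset.refl (supp y))]
  refine Submodule.sum_mem _ fun e _ => ?_
  by_cases he : wt w e < m
  · rw [hy e he, zero_smul]; exact zero_mem _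
  · exact Submodule.smul_mem _ _ (ψ_em (R := R) C e ▸ ψ_mem _ (h.high m e (by omega)))

include h in
theorem E_mem_KC (k : ℕ) (y : F d n C) : E w k y ∈ KC C (Kf k) :=
  mem_of_high h fun e he => by rw [co_E, if_neg (by omega)]

include h in
theorem sub_mem_high (k : ℕ) (y : F d n C) : y - Elo w k y - E w k y ∈ KC C (Kf (k + 1)) :=
  mem_of_high h fun e he => by
    rw [co_sub, co_sub, co_Elo, co_E]
    rcases Nat.lt_succ_iff_lt_or_eq.mp he with h' | h'
    · rw [if_pos h', if_neg (by omega)]; ring
    · rw [if_neg (by omega), if_pos h']; ring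

include h in
theorem Elo_mem {k : ℕ} {y : F d n C} (hy : y ∈ KC C (Kf (k + 1))) : Elo w k y ∈ KC C (Kf k) := by
  have h1 := KC_anti h (Nat.le_add_right k 1) (sub_mem (sub_mem hy (sub_mem_high h k y)) (zero_mem _))
  have h2 := sub_mem h1 (E_mem_KC h k y)
  have e1 : Elo w k y = y - (y - Elo w k y - E w k y) - E w k y := by abel
  rw [e1]
  simpa using h2

include h in
theorem exists_gr {k : ℕ} {x : F d n C} (hx : x ∈ KC C (Kf k)) :
    ∃ z, x - E w k z ∈ KC C (Kf (k + 1)) := by
  refine Submodule.span_induction (p := fun x _ => ∃ z, x - E w k z ∈ KC C (Kf (k + 1))) ?_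
    ⟨0, by simp⟩ ?_ ?_ hx
  · rintro _ ⟨y, hy, rfl⟩
    obtain ⟨z, hz⟩ := h.gr k y hy
    exact ⟨ψ C z, by rw [E_ψ, ← map_sub]; exact ψ_mem _ hz⟩
  · rintro a b _ _ ⟨za, ha⟩ ⟨zb, hb⟩
    refine ⟨za + zb, ?_⟩
    rw [map_add, add_sub_add_comm]; exact add_mem ha hb
  · rintro c a _ ⟨za, ha⟩
    exact ⟨c • za, by rw [map_smul, ← smul_sub]; exact Submodule.smul_mem _ _ ha⟩

variable (w Kf C) in
/-- The relations of the associated graded module. -/
noncomputable def NN : Submodule C (F d n C) := ⨅ k, (KC C (Kf (k + 1))).comap (E w k)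

omit h in
theorem mem_NN {y : F d n C} : y ∈ NN w Kf C ↔ ∀ k, E w k y ∈ KC C (Kf (k + 1)) := by
  simp [NN]

omit h in
theorem E_mem_NN {k : ℕ} {y : F d n C} (hy : E w k y ∈ KC C (Kf (k + 1))) :
    E w k y ∈ NN w Kf C := mem_NN.mpr fun l => by
  rw [E_E]; split_ifs with hl
  · subst hl; exact hy
  · exact zero_mem _

include h in
theorem X_smul_mem_KC (a : Fin d) {m : ℕ} {y : F d n C} (hy : y ∈ KC C (Kf m)) :
    (X a : MvPolynomial (Fin d) C) • y ∈ KC C (Kf (m + w a)) := by
  refine Submodule.span_induction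
    (p := fun y _ => (X a : MvPolynomial (Fin d) C) • y ∈ KC C (Kf (m + w a))) ?_ (by simp) ?_ ?_ hy
  · rintro _ ⟨z, hz, rfl⟩
    have := ψ_mem (C := C) _ (h.mul a m z hz)
    rwa [ψ_poly_smul, map_X] at this
  · intro u v _ _ hu hv; rw [smul_add]; exact add_mem hu hv
  · intro c u _ hu; rw [smul_comm]; exact Submodule.smul_mem _ c hu

omit h in
theorem co_X_smul (a : Fin d) (y : F d n C) (e : Fin n × (Fin d →₀ ℕ)) :
    co ((X a : MvPolynomial (Fin d) C) • y) e =
      if e.2 a = 0 then 0 else co y (e.1, e.2 - Finsupp.single a 1) := by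
  classical
  simp only [co, Pi.smul_apply, smul_eq_mul, coeff_X_mul']
  by_cases ha : e.2 a = 0 <;> simp [ha, Finsupp.mem_support_iff]

omit h in
theorem E_X_smul (a : Fin d) (l : ℕ) (y : F d n C) :
    E w l ((X a : MvPolynomial (Fin d) C) • y) =
      if w a ≤ l then (X a : MvPolynomial (Fin d) C) • E w (l - w a) y else 0 := by
  classical
  apply ext_co
  intro e
  rw [co_E, co_X_smul]
  by_cases hea : e.2 a = 0
  · simp only [hea, if_true, ite_self]
    by_cases hl : w a ≤ l
    · rw [if_pos hl, co_X_smul, if_pos hea]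
    · rw [if_neg hl, co_zero]
  have hwt : wt w e = wt w (e.1, e.2 - Finsupp.single a 1) + w a := by
    have hle : Finsupp.single a 1 ≤ e.2 := Finsupp.single_le_iff.mpr (Nat.pos_of_ne_zero hea)
    conv_lhs => rw [wt, ← tsub_add_cancel_of_le hle, map_add]
    simp [wt, Finsupp.weight_apply, smul_eq_mul]
  by_cases hl : w a ≤ l
  · rw [if_pos hl, co_X_smul, co_E, if_neg hea, if_neg hea]
    congr 1
    exact propext (by omega)
  · rw [if_neg hl, co_zero, if_neg]
    omega

variable (w Kf C) in
/-- Elements whose components of degree `≤ L` are relations. -/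
noncomputable def WW (L : ℕ) : Submodule C (F d n C) :=
  ⨅ l ∈ Finset.range (L + 1), (KC C (Kf (l + 1))).comap (E w l)

omit h in
theorem mem_WW {L : ℕ} {y : F d n C} : y ∈ WW w Kf C L ↔ ∀ l ≤ L, E w l y ∈ KC C (Kf (l + 1)) := by
  simp [WW]

variable (w C) in
/-- Elements with no component of degree `≤ L`. -/
noncomputable def UU (L : ℕ) : Submodule C (F d n C) :=
  ⨅ l ∈ Finset.range (L + 1), LinearMap.ker (E (C := C) (n := n) w l)

omit h in
theorem mem_UU {L : ℕ} {y : F d n C} : y ∈ UU w C L ↔ ∀ l ≤ L, E w l y = 0 := by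
  simp [UU]

omit h in
theorem poly_stable (S : Submodule C (F d n C))
    (hS : ∀ a, ∀ y ∈ S, (X a : MvPolynomial (Fin d) C) • y ∈ S)
    (p : MvPolynomial (Fin d) C) {y : F d n C} (hy : y ∈ S) : p • y ∈ S := by
  induction p using MvPolynomial.induction_on generalizing y with
  | C a => rw [← MvPolynomial.algebraMap_eq, algebraMap_smul]; exact S.smul_mem a hy
  | add p q hp hq => rw [add_smul]; exact add_mem (hp hy) (hq hy)
  | mul_X p i hp => rw [mul_smul]; exact hp (hS i y hy)

include h in
theorem X_smul_E_mem (a : Fin d) {l : ℕ} {y : F d n C}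
    (hy : w a ≤ l → E w (l - w a) y ∈ KC C (Kf (l - w a + 1))) :
    E w l ((X a : MvPolynomial (Fin d) C) • y) ∈ KC C (Kf (l + 1)) := by
  rw [E_X_smul]
  split_ifs with hl
  · have := X_smul_mem_KC h a (hy hl)
    rwa [show l - w a + 1 + w a = l + 1 by omega] at this
  · exact zero_mem _

include h in
theorem WW_stable (L : ℕ) (p : MvPolynomial (Fin d) C) {y : F d n C} (hy : y ∈ WW w Kf C L) :
    p • y ∈ WW w Kf C L :=
  poly_stable _ (fun a z hz => mem_WW.mpr fun l hl => X_smul_E_mem h a fun _ =>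
    mem_WW.mp hz _ (by omega)) p hy

omit h in
theorem UU_stable (L : ℕ) (p : MvPolynomial (Fin d) C) {y : F d n C} (hy : y ∈ UU w C L) :
    p • y ∈ UU w C L :=
  poly_stable _ (fun a z hz => mem_UU.mpr fun l hl => by
    rw [E_X_smul]
    split_ifs
    · rw [mem_UU.mp hz _ (by omega), smul_zero]
    · rfl) p hy

include h in
theorem NN_stable (p : MvPolynomial (Fin d) C) {y : F d n C} (hy : y ∈ NN w Kf C) :
    p • y ∈ NN w Kf C :=
  poly_stable _ (fun a z hz => mem_NN.mpr fun l => X_smul_E_mem h a fun _ => mem_NN.mp hz _) p hy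

/-- The relations of the associated graded module over the polynomial ring. -/
noncomputable def NP (h : IsFil w Kf) (C : Type u) [CommRing C] [Algebra R C] : Submodule (MvPolynomial (Fin d) C) (F d n C) :=
  { (NN w Kf C).toAddSubmonoid with smul_mem' := fun p _ hy => NN_stable h p hy }

include h in
theorem KC_self : KC C (NP h C) = NN w Kf C := by
  have hψ : ∀ y : F d n C, ψ C y = y := fun y => ext_co fun e => by rw [co_ψ]; rfl
  apply le_antisymm
  · rw [KC, Submodule.span_le]
    rintro _ ⟨y, hy, rfl⟩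
    rw [hψ]; exact hy
  · intro y hy
    exact Submodule.subset_span ⟨y, hy, hψ y⟩

/-! ### Tensoring -/

/-- The canonical map `D ⊗ C[X]^n → D[X]^n`. -/
noncomputable def Θ (D : Type u) [CommRing D] [Algebra C D] : D ⊗[C] F d n C →ₗ[D] F d n D :=
  LinearMap.liftBaseChange D (ψ D)

omit h in
theorem Θ_bijective (D : Type u) [CommRing D] [Algebra C D] :
    Function.Bijective (Θ (d := d) (n := n) (C := C) D) := by
  classical
  let bwd : F d n D →ₗ[D] D ⊗[C] F d n C := ∑ i : Fin n,
    ((MvPolynomial.basisMonomials (Fin d) D).constr D fun m => (1 : D) ⊗ₜ[C] (em (i, m) : F d n C)) ∘ₗ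
      LinearMap.proj i
  have hem : ∀ e, bwd (em e) = 1 ⊗ₜ[C] (em e : F d n C) := by
    intro e
    simp only [bwd, LinearMap.sum_apply, LinearMap.comp_apply, LinearMap.proj_apply]
    rw [Finset.sum_eq_single e.1 (fun b _ hb => by simp [em, Pi.single_eq_of_ne hb]) (by simp)]
    have : em (C := D) e e.1 = MvPolynomial.basisMonomials (Fin d) D e.2 := by
      simp [em, Pi.single_eq_same, MvPolynomial.coe_basisMonomials]
    rw [this, Module.Basis.constr_basis]
  have hbψ : ∀ y : F d n C, bwd (ψ D y) = 1 ⊗ₜ[C] y := by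
    intro y
    conv_lhs => rw [← sum_em (Finset.Subset.refl (supp y))]
    conv_rhs => rw [← sum_em (Finset.Subset.refl (supp y)), TensorProduct.tmul_sum]
    rw [map_sum, map_sum]
    exact Finset.sum_congr rfl fun e _ => by
      rw [map_smul, LinearMap.map_smul_of_tower, ψ_em, hem, TensorProduct.tmul_smul]
  have hl : bwd ∘ₗ Θ (C := C) D = LinearMap.id :=
    TensorProduct.AlgebraTensorModule.ext fun c y => by
      simp [Θ, hbψ, TensorProduct.smul_tmul']
  have hr : ∀ y, Θ (C := C) D (bwd y) = y := by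
    intro y
    rw [← sum_em (Finset.Subset.refl (supp y))]
    simp only [map_sum, map_smul]
    exact Finset.sum_congr rfl fun e _ => by rw [hem]; simp [Θ, ψ_em]
  exact ⟨Function.LeftInverse.injective (g := bwd) (LinearMap.congr_fun hl),
    fun y => ⟨bwd y, hr y⟩⟩

include h in
/-- A homogeneous element of the extended relations comes from relations of the graded module. -/
theorem homog_tensor {k : ℕ} [Module.Flat C (MC C (Kf k))] (D : Type u) [AddCommGroup D] [Module C D]
    (s : D ⊗[C] KC C (Kf (k + 1)))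
    (hs : (E w k).lTensor D ((KC C (Kf (k + 1))).subtype.lTensor D s) =
      (KC C (Kf (k + 1))).subtype.lTensor D s) :
    ((KC C (Kf (k + 1))).subtype.lTensor D s) ∈ LinearMap.range ((NN w Kf C).subtype.lTensor D) := by
  classical
  set Q := F d n C ⧸ NN w Kf C
  have uniq : ∀ {x a b : F d n C}, x - E w k a ∈ KC C (Kf (k + 1)) → x - E w k b ∈ KC C (Kf (k + 1)) →
      (NN w Kf C).mkQ (E w k a) = (NN w Kf C).mkQ (E w k b) := by
    intro x a b ha hb
    rw [← sub_eq_zero, ← map_sub, ← map_sub, Submodule.mkQ_apply, Submodule.Quotient.mk_eq_zero]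
    refine E_mem_NN ?_
    have := sub_mem hb ha
    rwa [sub_sub_sub_cancel_left, ← map_sub] at this
  choose z hz using fun x : KC C (Kf k) => exists_gr h x.2
  let Φ : KC C (Kf k) →ₗ[C] Q :=
    { toFun := fun x => (NN w Kf C).mkQ (E w k (z x))
      map_add' := fun x y => by
        rw [← map_add, ← map_add]
        refine uniq (hz (x + y)) ?_
        rw [Submodule.coe_add, map_add, add_sub_add_comm]
        exact add_mem (hz x) (hz y)
      map_smul' := fun c x => by
        rw [RingHom.id_apply, ← map_smul, ← map_smul]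
        refine uniq (hz (c • x)) ?_
        rw [Submodule.coe_smul, map_smul, ← smul_sub]
        exact Submodule.smul_mem _ _ (hz x) }
  let lo : KC C (Kf (k + 1)) →ₗ[C] KC C (Kf k) :=
    (Elo w k ∘ₗ (KC C (Kf (k + 1))).subtype).codRestrict _ fun x => Elo_mem h x.2
  have hΦlo : Φ ∘ₗ lo = -((NN w Kf C).mkQ ∘ₗ E w k ∘ₗ (KC C (Kf (k + 1))).subtype) := by
    refine LinearMap.ext fun x => ?_
    show (NN w Kf C).mkQ (E w k (z (lo x))) = -((NN w Kf C).mkQ (E w k x))
    rw [← map_neg, ← map_neg]
    refine uniq (hz (lo x)) ?_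
    rw [map_neg, sub_neg_eq_add]
    show Elo w k (x : F d n C) + E w k (x : F d n C) ∈ KC C (Kf (k + 1))
    have := sub_mem x.2 (sub_mem_high h k (x : F d n C))
    rw [show Elo w k (x : F d n C) + E w k (x : F d n C) =
      (x : F d n C) - ((x : F d n C) - Elo w k (x : F d n C) - E w k (x : F d n C)) by abel]
    exact this
  have hinj := LinearMap.lTensor_injective_of_exact_of_flat (P := MC C (Kf k))
    (KC C (Kf k)).mkQ (Submodule.mkQ_surjective _) (KC C (Kf k)).subtype (Submodule.injective_subtype _)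
    (LinearMap.exact_subtype_mkQ _) D
  have hlo : lo.lTensor D s = 0 := by
    apply hinj
    rw [map_zero, ← LinearMap.comp_apply, ← LinearMap.lTensor_comp,
      show (KC C (Kf k)).subtype ∘ₗ lo = Elo w k ∘ₗ (KC C (Kf (k + 1))).subtype from rfl,
      LinearMap.lTensor_comp, LinearMap.comp_apply, ← hs, ← LinearMap.comp_apply,
      ← LinearMap.lTensor_comp, show Elo w k ∘ₗ E (C := C) (n := n) w k = 0 from LinearMap.ext (Elo_E w k),
      LinearMap.lTensor_zero, LinearMap.zero_apply]
  have hq : (NN w Kf C).mkQ.lTensor D ((KC C (Kf (k + 1))).subtype.lTensor D s) = 0 := by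
    have h1 := congrArg (Φ.lTensor D) hlo
    rw [map_zero, ← LinearMap.comp_apply, ← LinearMap.lTensor_comp, hΦlo, LinearMap.lTensor_neg,
      LinearMap.neg_apply, neg_eq_zero, LinearMap.lTensor_comp, LinearMap.comp_apply,
      LinearMap.lTensor_comp, LinearMap.comp_apply, hs] at h1
    exact h1
  exact (lTensor_exact D (LinearMap.exact_subtype_mkQ (NN w Kf C)) (Submodule.mkQ_surjective _) _).mp hq

include h in
/-- Homogeneous relations after scalar extension. -/
theorem homog_algebra {k : ℕ} [Module.Flat C (MC C (Kf k))] (D : Type u) [CommRing D] [Algebra C D]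
    [Algebra R D] [IsScalarTower R C D] {y : F d n D} (hy : y ∈ KC D (Kf (k + 1)))
    (hk : E w k y = y) : y ∈ KC D (NP h C) := by
  have hnat : ∀ t : D ⊗[C] F d n C, Θ (C := C) D ((E w k).lTensor D t) = E w k (Θ (C := C) D t) := by
    intro t
    induction t using TensorProduct.induction_on with
    | zero => simp
    | tmul a b => simp [Θ, E_ψ]
    | add a b ha hb => simp [ha, hb]
  have hsmul : ∀ (c : D) (a : D ⊗[C] KC C (Kf (k + 1))),
      (KC C (Kf (k + 1))).subtype.lTensor D (c • a) =
        c • (KC C (Kf (k + 1))).subtype.lTensor D a := by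
    intro c a
    induction a using TensorProduct.induction_on with
    | zero => simp
    | tmul a b => simp [TensorProduct.smul_tmul']
    | add a b ha hb => simp [smul_add, ha, hb]
  obtain ⟨s, hs⟩ : ∃ s : D ⊗[C] KC C (Kf (k + 1)),
      Θ (C := C) D ((KC C (Kf (k + 1))).subtype.lTensor D s) = y := by
    rw [← KC_KP (Kf (k + 1)) C D] at hy
    refine Submodule.span_induction (p := fun y _ => ∃ s : D ⊗[C] KC C (Kf (k + 1)),
      Θ (C := C) D ((KC C (Kf (k + 1))).subtype.lTensor D s) = y) ?_ ⟨0, by simp⟩ ?_ ?_ hy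
    · rintro _ ⟨z, hz, rfl⟩; exact ⟨1 ⊗ₜ ⟨z, hz⟩, by simp [Θ]⟩
    · rintro _ _ _ _ ⟨a, rfl⟩ ⟨b, rfl⟩; exact ⟨a + b, by simp⟩
    · rintro c _ _ ⟨a, rfl⟩
      exact ⟨c • a, by rw [hsmul, map_smul]⟩
  have hfix := (Θ_bijective (C := C) D).1 (by rw [hnat, hs, hk] :
    Θ (C := C) D ((E w k).lTensor D ((KC C (Kf (k + 1))).subtype.lTensor D s)) =
      Θ (C := C) D ((KC C (Kf (k + 1))).subtype.lTensor D s))
  obtain ⟨t, ht⟩ := homog_tensor h D s hfix
  rw [← hs, ← ht]
  clear ht
  induction t using TensorProduct.induction_on with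
  | zero => simp
  | tmul a b =>
    rw [LinearMap.lTensor_tmul, Θ, LinearMap.liftBaseChange_tmul]
    exact Submodule.smul_mem _ _ (ψ_mem (NP h C) b.2)
  | add a b ha hb => simp only [map_add]; exact add_mem ha hb

include h in
/-- Homogeneous relations in an ideal multiple. -/
theorem homog_ideal {k : ℕ} [Module.Flat C (MC C (Kf k))] [Module.Flat C (MC C (Kf (k + 1)))]
    (J : Ideal C) {y : F d n C} (hy : y ∈ KC C (Kf (k + 1)))
    (hJ : y ∈ J • (⊤ : Submodule C (F d n C))) (hk : E w k y = y) : y ∈ J • NN w Kf C := by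
  have hxJK := mem_of_flat (Kf (k + 1)) J hy hJ
  let μ : ∀ (X : Type u) [AddCommGroup X] [Module C X], ↥J ⊗[C] X →ₗ[C] X :=
    fun X _ _ => (TensorProduct.lid C X).toLinearMap ∘ₗ J.subtype.rTensor X
  have hμ : ∀ (X : Type u) [AddCommGroup X] [Module C X] (j : J) (x : X),
      μ X (j ⊗ₜ[C] x) = (j : C) • x := fun X _ _ j x => by simp [μ]
  have hinj : Function.Injective (μ (F d n C)) :=
    (TensorProduct.lid C (F d n C)).injective.comp
      (Module.Flat.rTensor_preserves_injective_linearMap _ J.injective_subtype)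
  obtain ⟨s, hs⟩ : ∃ s : ↥J ⊗[C] KC C (Kf (k + 1)),
      μ _ ((KC C (Kf (k + 1))).subtype.lTensor J s) = y := by
    refine Submodule.smul_induction_on hxJK (fun a ha m hm => ⟨⟨a, ha⟩ ⊗ₜ ⟨m, hm⟩, ?_⟩) ?_
    · rw [LinearMap.lTensor_tmul, hμ]; rfl
    · rintro _ _ ⟨a, rfl⟩ ⟨b, rfl⟩
      exact ⟨a + b, by simp⟩
  have hnat : ∀ t, μ _ ((E w k).lTensor J t) = E w k (μ (F d n C) t) := by
    intro t
    induction t using TensorProduct.induction_on with
    | zero => simp
    | tmul a b => rw [LinearMap.lTensor_tmul, hμ, hμ, map_smul]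
    | add a b ha hb => simp [ha, hb]
  have hfix := hinj (by rw [hnat, hs, hk] :
    μ _ ((E w k).lTensor J ((KC C (Kf (k + 1))).subtype.lTensor J s)) =
      μ _ ((KC C (Kf (k + 1))).subtype.lTensor J s))
  obtain ⟨t, ht⟩ := homog_tensor h J s hfix
  rw [← hs, ← ht]
  clear ht
  induction t using TensorProduct.induction_on with
  | zero => simp
  | tmul a b => rw [LinearMap.lTensor_tmul, hμ]; exact Submodule.smul_mem_smul a.2 b.2
  | add a b ha hb => simp only [map_add]; exact add_mem ha hb

include h in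
/-- The graded module is flat when all truncations are. -/
theorem flat_NN_of_flat (hT : ∀ k, Module.Flat C (MC C (Kf k))) :
    Module.Flat C (MC C (NP h C)) := by
  refine flat_of_forall _ fun J _ x hx hxJ => ?_
  rw [KC_self] at hx ⊢
  obtain ⟨L, hL⟩ := exists_sum_E w x
  rw [← hL]
  refine Submodule.sum_mem _ fun l _ => ?_
  haveI := hT l; haveI := hT (l + 1)
  refine homog_ideal h J (mem_NN.mp hx l) ?_ (E_self w l x)
  rw [mem_smul_top_iff] at hxJ ⊢
  intro e
  rw [co_E]; split_ifs
  · exact hxJ e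
  · exact zero_mem _

include h in
/-- Flatness of the graded module gives that of the truncations. -/
theorem flat_of_flat_NN [Module.Flat C (MC C (NP h C))] (k : ℕ) : Module.Flat C (MC C (Kf k)) := by
  induction k with
  | zero =>
    haveI : Subsingleton (MC C (Kf 0)) := Submodule.Quotient.subsingleton_iff.mpr (KC_zero h)
    infer_instance
  | succ k ih =>
    refine flat_of_forall _ fun J _ x hx hxJ => ?_
    have h1 := mem_of_flat (Kf k) J (KC_anti h (Nat.le_add_right k 1) hx) hxJ
    obtain ⟨v, hvJ, hv⟩ : ∃ v ∈ J • (⊤ : Submodule C (F d n C)),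
        x - E w k v ∈ J • KC C (Kf (k + 1)) := by
      refine Submodule.smul_induction_on h1 (fun a ha m hm => ?_) ?_
      · obtain ⟨z, hz⟩ := exists_gr h hm
        refine ⟨a • z, Submodule.smul_mem_smul ha trivial, ?_⟩
        rw [map_smul, ← smul_sub]
        exact Submodule.smul_mem_smul ha hz
      · rintro a b ⟨va, hva, ha⟩ ⟨vb, hvb, hb⟩
        refine ⟨va + vb, add_mem hva hvb, ?_⟩
        rw [map_add, add_sub_add_comm]
        exact add_mem ha hb
    have hEv : E w k v ∈ KC C (Kf (k + 1)) := by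
      have := sub_mem hx (Submodule.smul_le_right hv)
      simpa using this
    have hEJ : E w k v ∈ J • (⊤ : Submodule C (F d n C)) :=
      Submodule.smul_mono le_rfl le_top ((Submodule.map_smul'' _ _ _).le (Submodule.mem_map_of_mem hvJ))
    have h2 := mem_of_flat (NP h C) J (by rw [KC_self]; exact E_mem_NN hEv) hEJ
    rw [KC_self] at h2
    have h3 : E w k (E w k v) ∈ J • KC C (Kf (k + 1)) := by
      have hle : (J • NN w Kf C).map (E w k) ≤ J • KC C (Kf (k + 1)) := by
        rw [Submodule.map_smul'']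
        exact Submodule.smul_mono le_rfl (Submodule.map_le_iff_le_comap.mpr fun y hy => mem_NN.mp hy k)
      exact hle (Submodule.mem_map_of_mem h2)
    rw [E_self] at h3
    simpa using add_mem hv h3

end Groth.L07.FlatDescent
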