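import Groth.Agent.L07.GrModel

/-! Flatness along the ideal from flatness of the truncations. -/

namespace Groth.L07.FlatDescent

open MvPolynomial TensorProduct

set_option linter.style.haveILetI false

universe u

variable {d n : ℕ}

/-- Flatness along the positive weight variables, elementwise. -/
theorem exists_smul_mem {R A : Type u} [CommRing R] [IsNoetherianRing R] [CommRing A] [Algebra R A]
    {w : Fin d → ℕ} (hw : ∀ a, w a ≤ 1) (K : Submodule (MvPolynomial (Fin d) R) (F d n R))
    (hT : ∀ k, Module.Flat A (MC A (K ⊔ Hi w n R k))) (I : Ideal A) {x : F d n A}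
    (hx : x ∈ KC A K) (hxI : x ∈ I • (⊤ : Submodule A (F d n A))) :
    ∃ s : MvPolynomial (Fin d) A, 1 - s ∈ QQ w A ∧ s • x ∈ I • KC A K := by
  classical
  have hfil : IsFil w (fun k => K ⊔ Hi w n R k) := isFil_sup_Hi hw K
  obtain ⟨B, hB, hflat⟩ := exists_fg_stage_gr hfil A hT
  obtain ⟨V, hV⟩ := hB
  obtain ⟨U, hU⟩ := exists_finset_lift K hx
  let W : Finset A := V ∪ U
  let C := Algebra.adjoin R (W : Set A)
  haveI : Algebra.FiniteType R C := C.fg_iff_finiteType.mp ⟨W, rfl⟩
  haveI : IsNoetherianRing C := Algebra.FiniteType.isNoetherianRing R C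
  have hle : B ≤ C := hV ▸ Algebra.adjoin_mono (by simp [W])
  have hflatC : ∀ k, Module.Flat C (MC C (K ⊔ Hi w n R k)) := by
    intro k
    letI := (Subalgebra.inclusion hle).toRingHom.toAlgebra
    haveI : IsScalarTower R B C := IsScalarTower.of_algebraMap_eq fun _ => rfl
    haveI := hflat k
    exact flat_MC_of_flat _ (A := B)
  obtain ⟨x', hx', hxe⟩ := hU C fun a ha => Algebra.subset_adjoin (by
    simp only [W, Finset.coe_union]; exact .inr ha)
  let IC : Ideal C := I.comap (algebraMap C A)
  have hx'I : x' ∈ IC • (⊤ : Submodule C (F d n C)) := (mem_smul_top_iff _ _).mpr fun e => by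
    show algebraMap C A (co x' e) ∈ I
    rw [← co_ψ, hxe]; exact (mem_smul_top_iff _ _).mp hxI e
  let L' : Submodule (MvPolynomial (Fin d) C) (F d n C) :=
    IC.map (algebraMap C (MvPolynomial (Fin d) C)) • KP (C := C) K
  have hL' : L'.restrictScalars C = IC • KC C K :=
    Ideal.smul_restrictScalars IC (KP (C := C) K)
  have hk : ∀ k, x' ∈ L' ⊔ Hi w n C k := by
    intro k
    haveI := hflatC k
    have h1 := mem_of_flat (K ⊔ Hi w n R k) IC (KC_mono le_sup_left hx') hx'I
    rw [KC_sup, KC_Hi hw, Submodule.smul_sup] at h1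
    obtain ⟨a, ha, b, hb, rfl⟩ := Submodule.mem_sup.mp h1
    exact Submodule.add_mem_sup (hL'.symm ▸ ha : a ∈ L'.restrictScalars C)
      (Submodule.smul_le_right hb : b ∈ (Hi w n C k).restrictScalars C)
  have hinf : L'.mkQ x' ∈ (⨅ k : ℕ, QQ w C ^ k • ⊤ :
      Submodule (MvPolynomial (Fin d) C) (F d n C ⧸ L')) := by
    rw [Submodule.mem_iInf]
    intro k
    obtain ⟨a, ha, b, hb, hab⟩ := Submodule.mem_sup.mp (hk k)
    rw [← hab, map_add, show L'.mkQ a = 0 from (Submodule.Quotient.mk_eq_zero L').mpr ha, zero_add]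
    have := Submodule.mem_map_of_mem (f := L'.mkQ) hb
    rw [Hi, Submodule.map_smul''] at this
    exact Submodule.smul_mono le_rfl le_top this
  obtain ⟨⟨r, hr⟩, hrx⟩ := (Ideal.mem_iInf_smul_pow_eq_bot_iff (QQ w C) _).mp hinf
  have hsx : (1 - r) • x' ∈ IC • KC C K := by
    rw [← hL', Submodule.restrictScalars_mem, ← Submodule.Quotient.mk_eq_zero, Submodule.Quotient.mk_smul,
      sub_smul, one_smul]
    exact sub_eq_zero.mpr hrx.symm
  refine ⟨MvPolynomial.map (algebraMap C A) (1 - r), ?_, ?_⟩
  · rw [map_sub, map_one, sub_sub_cancel]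
    have := Ideal.mem_map_of_mem (MvPolynomial.map (algebraMap C A)) hr
    rw [QQ, Ideal.map_span, Set.image_image] at this
    simpa [QQ] using this
  · rw [← hxe, ← ψ_poly_smul]
    refine Submodule.smul_induction_on hsx (fun a ha m hm => ?_)
      (fun a b ha hb => by rw [map_add]; exact add_mem ha hb)
    rw [map_smul, ← algebraMap_smul A a]
    exact Submodule.smul_mem_smul ha (ψ_mem_of_KC K hm)

/-- The localization at a prime is flat. -/
theorem flat_localized {A B : Type u} [CommRing A] [CommRing B] [Algebra A B] {M : Type u} [AddCommGroup M]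
    [Module B M] [Module A M] [IsScalarTower A B M] (φ : MvPolynomial (Fin d) A →ₐ[A] B)
    (π : F d n A →ₗ[A] M) (hπ : Function.Surjective π)
    (hπs : ∀ (p : MvPolynomial (Fin d) A) y, π (p • y) = φ p • π y)
    (q : Ideal B) [q.IsPrime]
    (h : ∀ I : Ideal A, ∀ x ∈ LinearMap.ker π, x ∈ I • (⊤ : Submodule A (F d n A)) →
      ∃ s : MvPolynomial (Fin d) A, φ s ∉ q ∧ s • x ∈ I • LinearMap.ker π) :
    Module.Flat A (LocalizedModule q.primeCompl M) := by
  rw [Module.Flat.iff_lTensor_injective]
  intro I _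
  rw [injective_iff_map_eq_zero]
  intro z hz
  let μ : ∀ (X : Type u) [AddCommGroup X] [Module A X], X ⊗[A] ↥I →ₗ[A] X :=
    fun X _ _ => (TensorProduct.rid A X).toLinearMap ∘ₗ I.subtype.lTensor X
  have hμ : ∀ (X : Type u) [AddCommGroup X] [Module A X] (x : X) (i : I),
      μ X (x ⊗ₜ[A] i) = (i : A) • x := fun X _ _ x i => by simp [μ]
  let f := LocalizedModule.mkLinearMap q.primeCompl M
  let g := AlgebraTensorModule.rTensor A I f
  obtain ⟨⟨z₀, s⟩, hs⟩ := IsLocalizedModule.surj q.primeCompl g z
  have hnatf : ∀ t, μ _ (g t) = f (μ M t) := by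
    intro t
    induction t using TensorProduct.induction_on with
    | zero => simp
    | tmul a b => simp only [g, AlgebraTensorModule.rTensor_tmul, hμ, LinearMap.map_smul_of_tower]
    | add a b ha hb => simp [ha, hb]
  have hsmul : ∀ (b : B) (t : LocalizedModule q.primeCompl M ⊗[A] ↥I),
      μ _ (b • t) = b • μ _ t := by
    intro b t
    induction t using TensorProduct.induction_on with
    | zero => simp
    | tmul a c => rw [TensorProduct.smul_tmul', hμ, hμ, smul_comm]
    | add a c ha hc => simp [smul_add, ha, hc]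
  have hsmulM : ∀ (b : B) (t : M ⊗[A] ↥I), μ _ (b • t) = b • μ _ t := by
    intro b t
    induction t using TensorProduct.induction_on with
    | zero => simp
    | tmul a c => rw [TensorProduct.smul_tmul', hμ, hμ, smul_comm]
    | add a c ha hc => simp [smul_add, ha, hc]
  have hμz : μ _ z = 0 := by simp only [μ, LinearMap.comp_apply, hz, map_zero]
  have hf0 : f (μ M z₀) = 0 := by
    rw [← hnatf, ← hs, Submonoid.smul_def, hsmul, hμz, smul_zero]
  obtain ⟨t, ht⟩ := (IsLocalizedModule.eq_zero_iff q.primeCompl f).mp hf0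
  have hμ1 : μ M ((t : B) • z₀) = 0 := by rw [hsmulM]; exact ht
  obtain ⟨v, hv⟩ := LinearMap.rTensor_surjective I hπ ((t : B) • z₀)
  have hnatπ : ∀ v, μ M (π.rTensor I v) = π (μ _ v) := by
    intro v
    induction v using TensorProduct.induction_on with
    | zero => simp
    | tmul a b => rw [LinearMap.rTensor_tmul, hμ, hμ, map_smul]
    | add a b ha hb => simp [ha, hb]
  have hx : μ _ v ∈ LinearMap.ker π := by
    rw [LinearMap.mem_ker, ← hnatπ, hv, hμ1]
  have hxI : μ _ v ∈ I • (⊤ : Submodule A (F d n A)) := by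
    clear hx hv
    induction v using TensorProduct.induction_on with
    | zero => simp
    | tmul a b => rw [hμ]; exact Submodule.smul_mem_smul b.2 trivial
    | add a b ha hb => rw [map_add]; exact add_mem ha hb
  obtain ⟨p, hp, hpx⟩ := h I _ hx hxI
  have hpv : μ (F d n A) (p • v) = p • μ _ v := by
    clear hv hx hxI hpx
    induction v using TensorProduct.induction_on with
    | zero => simp
    | tmul a c => rw [TensorProduct.smul_tmul', hμ, hμ, smul_comm]
    | add a c ha hc => simp [smul_add, ha, hc]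
  have hπp : π.rTensor I (p • v) = φ p • π.rTensor I v := by
    clear hv hx hxI hpx hpv
    induction v using TensorProduct.induction_on with
    | zero => simp
    | tmul a c => rw [TensorProduct.smul_tmul', LinearMap.rTensor_tmul, LinearMap.rTensor_tmul, hπs,
        TensorProduct.smul_tmul']
    | add a c ha hc => simp [smul_add, ha, hc]
  obtain ⟨v', hv'⟩ : ∃ v', μ (F d n A) ((LinearMap.ker π).subtype.rTensor I v') = p • μ _ v := by
    refine Submodule.smul_induction_on hpx (fun a ha m hm => ⟨⟨m, hm⟩ ⊗ₜ[A] ⟨a, ha⟩, ?_⟩) ?_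
    · rw [LinearMap.rTensor_tmul, hμ]; rfl
    · rintro _ _ ⟨a, rfl⟩ ⟨b, rfl⟩
      exact ⟨a + b, by simp⟩
  have hinj : Function.Injective (μ (F d n A)) :=
    (TensorProduct.rid A (F d n A)).injective.comp
      (Module.Flat.lTensor_preserves_injective_linearMap _ I.injective_subtype)
  have h0 : φ p • (t : B) • z₀ = 0 := by
    rw [← hv, ← hπp, hinj (hpv.trans hv'.symm), ← LinearMap.comp_apply, ← LinearMap.rTensor_comp,
      LinearMap.comp_ker_subtype, LinearMap.rTensor_zero, LinearMap.zero_apply]
  let u : q.primeCompl := ⟨φ p, hp⟩ * t * s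
  refine IsLocalizedModule.smul_injective g u ?_
  show u • z = u • 0
  rw [smul_zero]
  have : g (φ p • (t : B) • z₀) = 0 := by rw [h0, map_zero]
  rw [map_smul, map_smul, ← hs] at this
  simpa [u, Submonoid.smul_def, mul_smul] using this

end Groth.L07.FlatDescent
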