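import Groth.Agent.L07.GrModel
import Mathlib.RingTheory.LocalRing.ResidueField.Basic
import Mathlib.RingTheory.Spectrum.Prime.Topology

/-! The normally flat locus. -/

namespace Groth.L07.FlatDescent

open MvPolynomial TensorProduct

set_option linter.style.haveILetI false

universe u

variable {d n : ℕ}

/-- A map from a finitely presented algebra into a localization factors through one element. -/
theorem exists_hom_away {R C : Type u} [CommRing R] [CommRing C] [Algebra R C] (S : Submonoid C)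
    (Cq : Type u) [CommRing Cq] [Algebra C Cq] [Algebra R Cq] [IsScalarTower R C Cq] [IsLocalization S Cq]
    {T : Type u} [CommRing T] [Algebra R T] [Algebra.FinitePresentation R T] (χ : T →ₐ[R] Cq) :
    ∃ f ∈ S, ∃ ρ : T →+* Localization.Away f,
      ∀ r : R, ρ (algebraMap R T r) = algebraMap C _ (algebraMap R C r) := by
  classical
  obtain ⟨m, π, hπ, hker⟩ := Algebra.FinitePresentation.out (R := R) (A := T)
  choose x hx using fun k : Fin m => IsLocalization.surj S (χ (π (X k)))
  let s₀ : C := ∏ k, ((x k).2 : C)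
  have hs₀ : s₀ ∈ S := prod_mem fun k _ => (x k).2.2
  let L₀ := Localization.Away s₀
  have hu : ∀ k, IsUnit (algebraMap C L₀ ((x k).2 : C)) := fun k =>
    isUnit_of_dvd_unit (map_dvd _ (Finset.dvd_prod_of_mem (fun k => ((x k).2 : C)) (Finset.mem_univ k)))
      (IsLocalization.Away.algebraMap_isUnit (S := L₀) s₀)
  let v : Fin m → L₀ := fun k => algebraMap C L₀ (x k).1 * ↑(hu k).unit⁻¹
  let χ₀ : L₀ →ₐ[C] Cq := IsLocalization.liftAlgHom (M := Submonoid.powers s₀) (f := Algebra.ofId C Cq)
    (fun y => IsLocalization.map_units Cq ⟨(y : C), Submonoid.powers_le.mpr hs₀ y.2⟩)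
  have hχ₀ : ∀ p : MvPolynomial (Fin m) R, χ₀ (aeval v p) = χ (π p) := by
    intro p
    show (χ₀.restrictScalars R).comp (aeval v) p = χ.comp π p
    congr 1
    refine MvPolynomial.algHom_ext fun k => ?_
    simp only [AlgHom.comp_apply, aeval_X, AlgHom.restrictScalars_apply]
    refine (IsLocalization.map_units Cq (x k).2).mul_left_injective ?_
    show χ₀ (v k) * algebraMap C Cq ((x k).2 : C) = χ (π (X k)) * algebraMap C Cq ((x k).2 : C)
    rw [hx, ← χ₀.commutes ((x k).2 : C), ← map_mul, ← χ₀.commutes]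
    simp only [v, mul_assoc, IsUnit.val_inv_mul, mul_one]
  obtain ⟨gs, hgs⟩ := hker
  have hdie : ∀ p ∈ gs, ∃ t ∈ S, algebraMap C L₀ t * aeval v p = 0 := by
    intro p hp
    obtain ⟨⟨a, ⟨_, N, rfl⟩⟩, ha⟩ := IsLocalization.surj (Submonoid.powers s₀) (aeval v p)
    have h0 : algebraMap C Cq a = 0 := by
      have := congrArg χ₀ ha
      rw [map_mul, hχ₀, show π p = 0 from (hgs ▸ Ideal.subset_span hp : p ∈ RingHom.ker π.toRingHom),
        map_zero, zero_mul, AlgHom.commutes] at this
      exact this.symm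
    obtain ⟨⟨t, ht⟩, hta⟩ := (IsLocalization.map_eq_zero_iff S Cq a).mp h0
    refine ⟨t, ht, ((IsLocalization.map_units L₀ (⟨_, N, rfl⟩ : Submonoid.powers s₀)).mul_left_eq_zero).mp ?_⟩
    rw [mul_assoc, ha, ← map_mul, show t * a = 0 from hta, map_zero]
  choose! t ht htz using hdie
  let f := s₀ * ∏ p ∈ gs, t p
  have hf : f ∈ S := mul_mem hs₀ (prod_mem fun p hp => ht p hp)
  let ι₀ : L₀ →ₐ[C] Localization.Away f :=
    IsLocalization.liftAlgHom (M := Submonoid.powers s₀) (f := Algebra.ofId C _) (by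
      rintro ⟨_, N, rfl⟩
      simp only [Algebra.ofId_apply, map_pow]
      exact (isUnit_of_dvd_unit (map_dvd _ (dvd_mul_right s₀ _))
        (IsLocalization.Away.algebraMap_isUnit f)).pow N)
  refine ⟨f, hf, (AlgHom.liftOfSurjective π hπ ((ι₀.restrictScalars R).comp (aeval v)) ?_).toRingHom,
    fun r => ?_⟩
  swap
  · exact (AlgHom.commutes _ r).trans (IsScalarTower.algebraMap_apply R C (Localization.Away f) r)
  rw [← hgs, Ideal.span_le]
  intro p hp
  show ι₀ (aeval v p) = 0
  have hu' : IsUnit (algebraMap C (Localization.Away f) (t p)) :=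
    isUnit_of_dvd_unit (map_dvd _ ((Finset.dvd_prod_of_mem _ hp).trans (dvd_mul_left _ _)))
      (IsLocalization.Away.algebraMap_isUnit f)
  have := congrArg ι₀ (htz p hp)
  rw [map_mul, AlgHom.commutes, map_zero] at this
  exact hu'.mul_right_eq_zero.mp this

/-- Openness of the flat locus over the base, for a finitely presented module over polynomials. -/
theorem exists_flat_nhd {C : Type u} [CommRing C] (L : Submodule (MvPolynomial (Fin d) C) (F d n C))
    (hL : L.FG) (q : Ideal C) [q.IsPrime]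
    (hq : Module.Flat (Localization.AtPrime q) (Localization.AtPrime q ⊗[C] (F d n C ⧸ L))) :
    ∃ f ∉ q, ∀ (p : Ideal C) [p.IsPrime], f ∉ p →
      Module.Flat (Localization.AtPrime p) (Localization.AtPrime p ⊗[C] (F d n C ⧸ L)) := by
  classical
  obtain ⟨G, hG⟩ := hL
  let W : Finset C := G.biUnion fun y => (supp y).image (co y)
  let R := Algebra.adjoin ℤ (W : Set C)
  haveI : IsNoetherianRing R := by
    haveI : Algebra.FiniteType ℤ R := R.fg_iff_finiteType.mp ⟨W, rfl⟩
    exact Algebra.FiniteType.isNoetherianRing ℤ R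
  have hlift : ∀ y ∈ G, ∃ z : F d n R, ψ C z = y := by
    intro y hy
    have : ∀ i, y i ∈ Set.range (MvPolynomial.map (algebraMap R C)) := fun i => by
      rw [MvPolynomial.mem_range_map_iff_coeffs_subset]
      intro c hc
      obtain ⟨m, hm, rfl⟩ := MvPolynomial.mem_coeffs_iff.mp hc
      exact ⟨⟨_, Algebra.subset_adjoin (Finset.mem_biUnion.mpr ⟨y, hy, Finset.mem_image.mpr
        ⟨(i, m), Finset.mem_biUnion.mpr ⟨i, Finset.mem_univ _, Finset.mem_map.mpr ⟨m, hm, rfl⟩⟩,
          rfl⟩⟩)⟩, rfl⟩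
    choose z hz using this
    exact ⟨z, funext hz⟩
  choose! z hz using hlift
  let K : Submodule (MvPolynomial (Fin d) R) (F d n R) := Submodule.span _ (z '' G)
  have hKL : (KC C K : Submodule C (F d n C)) = L.restrictScalars C := by
    apply le_antisymm
    · rw [KC, Submodule.span_le]
      rintro _ ⟨k, hk, rfl⟩
      refine Submodule.span_induction (p := fun k _ => ψ C k ∈ L) ?_ (by simp) ?_ ?_ hk
      · rintro _ ⟨y, hy, rfl⟩
        rw [hz y hy, ← hG]; exact Submodule.subset_span hy
      · intro a b _ _ ha hb; rw [map_add]; exact add_mem ha hb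
      · intro c a _ ha; rw [ψ_poly_smul]; exact L.smul_mem _ ha
    · intro y hy
      rw [Submodule.restrictScalars_mem, ← hG] at hy
      refine (Submodule.span_le (p := KP (C := C) K)).mpr ?_ hy
      intro g hg
      rw [← hz g hg]
      exact ψ_mem K (Submodule.subset_span ⟨g, hg, rfl⟩)
  let e : (F d n C ⧸ L) ≃ₗ[C] MC C K :=
    (Submodule.Quotient.restrictScalarsEquiv C L).symm ≪≫ₗ Submodule.quotEquivOfEq _ _ hKL.symm
  obtain ⟨eq⟩ := exists_modelEquiv K e (Localization.AtPrime q)
  haveI : Module.Flat (Localization.AtPrime q) (MC (Localization.AtPrime q) K) :=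
    Module.Flat.of_linearEquiv eq.symm
  obtain ⟨T, hT, hflat⟩ := exists_fg_stage K (Localization.AtPrime q)
  haveI : Algebra.FiniteType R T := T.fg_iff_finiteType.mp hT
  haveI : Algebra.FinitePresentation R T := Algebra.FinitePresentation.of_finiteType.mp inferInstance
  obtain ⟨f, hf, χ, hχ⟩ := exists_hom_away q.primeCompl (Localization.AtPrime q) T.val
  refine ⟨f, hf, fun p _ hfp => ?_⟩
  let ρ : Localization.Away f →ₐ[C] Localization.AtPrime p :=
    IsLocalization.liftAlgHom (M := Submonoid.powers f) (f := Algebra.ofId C _) (by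
      rintro ⟨_, N, rfl⟩
      exact IsLocalization.map_units (Localization.AtPrime p) (⟨f ^ N, fun h =>
        hfp ((inferInstance : p.IsPrime).mem_of_pow_mem N h)⟩ : p.primeCompl))
  let σ : T →ₐ[R] Localization.AtPrime p :=
    { ρ.toRingHom.comp χ with
      commutes' := fun r => by
        show ρ (χ (algebraMap R T r)) = _
        rw [hχ, AlgHom.commutes, ← IsScalarTower.algebraMap_apply] }
  letI := σ.toRingHom.toAlgebra
  haveI : IsScalarTower R T (Localization.AtPrime p) :=
    IsScalarTower.of_algebraMap_eq fun r => (σ.commutes r).symm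
  haveI : Module.Flat (Localization.AtPrime p) (MC (Localization.AtPrime p) K) :=
    flat_MC_of_flat K (A := T)
  obtain ⟨ep⟩ := exists_modelEquiv K e (Localization.AtPrime p)
  exact Module.Flat.of_linearEquiv ep

/-- A module exhausted by flat retracts is flat. -/
theorem flat_of_retracts {D P : Type u} [CommRing D] [AddCommGroup P] [Module D P] (Q : ℕ → Type u)
    [∀ k, AddCommGroup (Q k)] [∀ k, Module D (Q k)] [∀ k, Module.Flat D (Q k)]
    (a : ∀ k, P →ₗ[D] Q k) (b : ∀ k, Q k →ₗ[D] P)
    (h : ∀ x, ∃ L, ∀ L' ≥ L, ∑ k ∈ Finset.range L', b k (a k x) = x) : Module.Flat D P := by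
  rw [Module.Flat.iff_lTensor_injective]
  intro I _
  rw [injective_iff_map_eq_zero]
  intro z hz
  have hk : ∀ k, (a k).rTensor I z = 0 := fun k => by
    refine Module.Flat.lTensor_preserves_injective_linearMap (M := Q k) _ I.injective_subtype ?_
    rw [map_zero, ← LinearMap.comp_apply, LinearMap.lTensor_comp_rTensor,
      ← LinearMap.rTensor_comp_lTensor, LinearMap.comp_apply, hz, map_zero]
  obtain ⟨L, hL⟩ : ∃ L, ∀ L' ≥ L, ∑ k ∈ Finset.range L', (b k).rTensor I ((a k).rTensor I z) = z := by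
    clear hz hk
    induction z using TensorProduct.induction_on with
    | zero => exact ⟨0, fun L' _ => by simp⟩
    | tmul x i =>
      obtain ⟨L, hL⟩ := h x
      exact ⟨L, fun L' hL' => by simp only [LinearMap.rTensor_tmul, ← TensorProduct.sum_tmul, hL L' hL']⟩
    | add x y hx hy =>
      obtain ⟨L₁, h₁⟩ := hx
      obtain ⟨L₂, h₂⟩ := hy
      refine ⟨max L₁ L₂, fun L' hL' => ?_⟩
      simp only [map_add, Finset.sum_add_distrib, h₁ L' ((le_max_left _ _).trans hL'),
        h₂ L' ((le_max_right _ _).trans hL')]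
  rw [← hL L le_rfl]
  exact Finset.sum_eq_zero fun k _ => by rw [hk, map_zero]

/-- Modules killed by `J` and localised, as modules over the quotient. -/
theorem flat_quotient_iff {B : Type u} [CommRing B] (J : Ideal B) (q : Ideal B) [q.IsPrime] (hq : J ≤ q)
    [(q.map (Ideal.Quotient.mk J)).IsPrime] (G : Type u) [AddCommGroup G] [Module B G] [Module (B ⧸ J) G]
    [IsScalarTower B (B ⧸ J) G] :
    Module.Flat (B ⧸ J) ((B ⧸ J) ⊗[B] LocalizedModule q.primeCompl G) ↔
      Module.Flat (Localization.AtPrime (q.map (Ideal.Quotient.mk J)))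
        (Localization.AtPrime (q.map (Ideal.Quotient.mk J)) ⊗[B ⧸ J] G) := by
  set qb := q.map (Ideal.Quotient.mk J)
  let f := LocalizedModule.mkLinearMap q.primeCompl G
  have hkill : ∀ j ∈ J, ∀ x : LocalizedModule q.primeCompl G, j • x = 0 := by
    intro j hj x
    obtain ⟨⟨g, s⟩, hs⟩ := IsLocalizedModule.surj q.primeCompl f x
    refine IsLocalizedModule.smul_injective f s ?_
    show s • j • x = s • (0 : LocalizedModule q.primeCompl G)
    rw [smul_zero, smul_comm, hs, ← map_smul, ← algebraMap_smul (B ⧸ J) j g,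
      Ideal.Quotient.algebraMap_eq, Ideal.Quotient.eq_zero_iff_mem.mpr hj, zero_smul, map_zero]
  let lf : (B ⧸ J) ⊗[B] LocalizedModule q.primeCompl G →ₗ[B] LocalizedModule q.primeCompl G :=
    TensorProduct.lift (Submodule.liftQ J (LinearMap.lsmul B _)
      (fun j hj => LinearMap.mem_ker.mpr (LinearMap.ext fun x => hkill j hj x)))
  have hlf : ∀ x, lf (1 ⊗ₜ x) = x := fun x => by
    show lf (Submodule.Quotient.mk (1 : B) ⊗ₜ x) = x
    exact one_smul B x
  have hsurj : ∀ z : (B ⧸ J) ⊗[B] LocalizedModule q.primeCompl G, ∃ x, 1 ⊗ₜ x = z := by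
    intro z
    induction z using TensorProduct.induction_on with
    | zero => exact ⟨0, TensorProduct.tmul_zero _ _⟩
    | tmul b x =>
      obtain ⟨b, rfl⟩ := Ideal.Quotient.mk_surjective b
      exact ⟨b • x, by rw [← TensorProduct.smul_tmul, Algebra.smul_def, mul_one]; rfl⟩
    | add u v hu hv =>
      obtain ⟨x, rfl⟩ := hu
      obtain ⟨y, rfl⟩ := hv
      exact ⟨x + y, TensorProduct.tmul_add _ _ _⟩
  let g₀ : G →ₗ[B] (B ⧸ J) ⊗[B] LocalizedModule q.primeCompl G :=
    (TensorProduct.mk B (B ⧸ J) _ 1) ∘ₗ f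
  let g : G →ₗ[B ⧸ J] (B ⧸ J) ⊗[B] LocalizedModule q.primeCompl G :=
    { toFun := g₀
      map_add' := map_add g₀
      map_smul' := fun c x => by
        obtain ⟨c, rfl⟩ := Ideal.Quotient.mk_surjective c
        rw [RingHom.id_apply, ← Ideal.Quotient.algebraMap_eq, algebraMap_smul, algebraMap_smul]
        exact map_smul g₀ c x }
  have hmem : ∀ c : B, Ideal.Quotient.mk J c ∈ qb ↔ c ∈ q := fun c => by
    rw [← Ideal.mem_comap, Ideal.comap_map_of_surjective _ Ideal.Quotient.mk_surjective,
      ← RingHom.ker_eq_comap_bot, Ideal.mk_ker, sup_eq_left.mpr hq]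
  haveI : IsLocalizedModule qb.primeCompl g := by
    refine ⟨?_, ?_, ?_⟩
    · rintro ⟨c, hc⟩
      obtain ⟨c, rfl⟩ := Ideal.Quotient.mk_surjective c
      have hc' : c ∈ q.primeCompl := fun h => hc ((hmem c).mpr h)
      have hu : Function.Bijective fun x : LocalizedModule q.primeCompl G => c • x :=
        (Module.End.isUnit_iff _).mp (IsLocalizedModule.map_units f ⟨c, hc'⟩)
      rw [Module.End.isUnit_iff]
      have hsm : ∀ x : LocalizedModule q.primeCompl G, Ideal.Quotient.mk J c • ((1 : B ⧸ J) ⊗ₜ[B] x) = 1 ⊗ₜ[B] (c • x) := fun x => by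
        rw [← Ideal.Quotient.algebraMap_eq, algebraMap_smul, TensorProduct.tmul_smul]
      constructor
      · intro u v huv
        obtain ⟨x, rfl⟩ := hsurj u
        obtain ⟨y, rfl⟩ := hsurj v
        have h2 : Ideal.Quotient.mk J c • ((1 : B ⧸ J) ⊗ₜ[B] x) = Ideal.Quotient.mk J c • (1 ⊗ₜ[B] y) := huv
        rw [hsm, hsm] at h2
        have := congrArg lf h2
        rw [hlf, hlf] at this
        rw [hu.1 this]
      · intro v
        obtain ⟨y, rfl⟩ := hsurj v
        obtain ⟨x, rfl⟩ := hu.2 y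
        exact ⟨1 ⊗ₜ x, hsm x⟩
    · intro z
      obtain ⟨x, rfl⟩ := hsurj z
      obtain ⟨⟨m, s⟩, hs⟩ := IsLocalizedModule.surj q.primeCompl f x
      refine ⟨⟨m, ⟨Ideal.Quotient.mk J s, fun h => s.2 ((hmem s).mp h)⟩⟩, ?_⟩
      show Ideal.Quotient.mk J s • ((1 : B ⧸ J) ⊗ₜ[B] x) = 1 ⊗ₜ[B] f m
      rw [← Ideal.Quotient.algebraMap_eq, algebraMap_smul, ← TensorProduct.tmul_smul, ← hs]; rfl
    · intro x y hxy
      have := congrArg lf (show (1 : B ⧸ J) ⊗ₜ[B] f x = 1 ⊗ₜ[B] f y from hxy)
      rw [hlf, hlf] at this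
      obtain ⟨s, hs⟩ := IsLocalizedModule.exists_of_eq (S := q.primeCompl) this
      refine ⟨⟨Ideal.Quotient.mk J s, fun h => s.2 ((hmem s).mp h)⟩, ?_⟩
      show Ideal.Quotient.mk J s • x = Ideal.Quotient.mk J s • y
      rw [← Ideal.Quotient.algebraMap_eq, algebraMap_smul, algebraMap_smul]
      exact hs
  let e : (B ⧸ J) ⊗[B] LocalizedModule q.primeCompl G ≃ₗ[B ⧸ J]
      Localization.AtPrime qb ⊗[B ⧸ J] G :=
    IsLocalizedModule.linearEquiv qb.primeCompl g (TensorProduct.mk (B ⧸ J) (Localization.AtPrime qb) G 1)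
  rw [Module.flat_iff_of_isLocalization (Localization.AtPrime qb) qb.primeCompl]
  exact ⟨fun _ => Module.Flat.of_linearEquiv e.symm, fun _ => Module.Flat.of_linearEquiv e⟩

variable {w : Fin d → ℕ}

/-- The projection to weight zero. -/
noncomputable def εw (w : Fin d → ℕ) (A : Type u) [CommRing A] :
    MvPolynomial (Fin d) A →ₐ[A] MvPolynomial (Fin d) A :=
  aeval fun a => if w a = 0 then X a else 0

variable {R A B M : Type u} [CommRing R] [CommRing A] [Algebra R A] [CommRing B] [Algebra A B]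
  [AddCommGroup M] [Module B M] [Module A M] [IsScalarTower A B M]

/-- Openness of the normally flat locus from a presentation of the graded module. -/
theorem isOpen_normallyFlat {Kf : ℕ → Submodule (MvPolynomial (Fin d) R) (F d n R)} (h : IsFil w Kf)
    (J : Ideal B) (φ : MvPolynomial (Fin d) A →ₐ[A] B) (π : F d n A →ₗ[A] M)
    (hφ : Function.Surjective φ) (hπ : Function.Surjective π)
    (hπs : ∀ (p : MvPolynomial (Fin d) A) y, π (p • y) = φ p • π y)
    (hQ : ∀ x ∈ QQ w A, φ x ∈ J) (hker : ∀ k, LinearMap.ker π ≤ KC A (Kf k))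
    (hmap : ∀ k, (KC A (Kf k)).map π = (J ^ k • (⊤ : Submodule B M)).restrictScalars A)
    (hfg : (NP h A).FG) :
    IsOpen {q : PrimeSpectrum B | J ≤ q.asIdeal → ∀ k : ℕ,
      Module.Flat (B ⧸ J) ((B ⧸ J) ⊗[B] LocalizedModule q.asIdeal.primeCompl
        (↥(J ^ k • (⊤ : Submodule B M)) ⧸
          Submodule.comap (J ^ k • (⊤ : Submodule B M)).subtype (J ^ (k + 1) • ⊤)))} := by
  classical
  let φb : MvPolynomial (Fin d) A →+* B ⧸ J := (Ideal.Quotient.mk J).comp φ.toRingHom
  have hφb : Function.Surjective φb := Ideal.Quotient.mk_surjective.comp hφ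
  have hεX : ∀ a, εw w A (X a) = if w a = 0 then X a else 0 := fun a => aeval_X _ _
  have hε1 : ∀ p, φb (εw w A p) = φb p := by
    intro p
    show φb.comp (εw w A).toRingHom p = φb p
    congr 1
    refine MvPolynomial.ringHom_ext (fun c => by simp [εw]) fun a => ?_
    show φb (εw w A (X a)) = φb (X a)
    rw [hεX]
    split_ifs with ha
    · rfl
    · rw [map_zero]
      exact (Ideal.Quotient.eq_zero_iff_mem.mpr (hQ _ (Ideal.subset_span (Set.mem_image_of_mem X
        (show a ∈ {a | w a ≠ 0} from ha))))).symm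
  have hε2 : ∀ (k : ℕ) p (y : F d n A), E w k (εw w A p • y) = εw w A p • E w k y := by
    intro k p
    induction p using MvPolynomial.induction_on with
    | C a =>
      intro y
      rw [← MvPolynomial.algebraMap_eq, AlgHom.commutes, algebraMap_smul, algebraMap_smul, map_smul]
    | add p q hp hq => intro y; rw [map_add, add_smul, add_smul, map_add, hp, hq]
    | mul_X p i hp =>
      intro y
      rw [map_mul, mul_smul, mul_smul, hp, hεX]
      split_ifs with hi
      · rw [E_X_smul, if_pos (by omega), hi, Nat.sub_zero]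
      · rw [zero_smul, zero_smul, map_zero]
  have hmem : ∀ k z, π z ∈ J ^ k • (⊤ : Submodule B M) ↔ z ∈ KC A (Kf k) := by
    intro k z
    constructor
    · intro hz
      have : z ∈ ((KC A (Kf k)).map π).comap π := by rw [hmap k]; exact hz
      rwa [Submodule.comap_map_eq, sup_eq_left.mpr (hker k)] at this
    · intro hz
      exact (Submodule.restrictScalars_mem A _ _).mp (hmap k ▸ Submodule.mem_map_of_mem hz)
  let Qg := F d n A ⧸ NP h A
  have hkill : ∀ p, φb p = 0 → ∀ y : F d n A, εw w A p • y ∈ NP h A := by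
    intro p hp y
    refine mem_NN.mpr fun k => ?_
    rw [hε2, ← hmem, hπs, pow_succ', Submodule.mul_smul]
    exact Submodule.smul_mem_smul (Ideal.Quotient.eq_zero_iff_mem.mp ((hε1 p).trans hp))
      ((hmem k _).mpr (E_mem_KC h k y))
  let g₀ : MvPolynomial (Fin d) A →+* Module.End A Qg :=
    (Module.toModuleEnd A (S := MvPolynomial (Fin d) A) Qg).comp (εw w A).toRingHom
  have hg₀ : RingHom.ker φb ≤ RingHom.ker g₀ := by
    intro p hp
    refine LinearMap.ext fun x => ?_
    obtain ⟨y, rfl⟩ := Submodule.mkQ_surjective _ x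
    show εw w A p • (NP h A).mkQ y = 0
    rw [← map_smul]
    exact (Submodule.Quotient.mk_eq_zero _).mpr (hkill p hp y)
  let β : B ⧸ J →+* Module.End A Qg := φb.liftOfSurjective hφb ⟨g₀, hg₀⟩
  letI : Module (B ⧸ J) Qg := Module.compHom Qg β
  have hβ : ∀ p (x : Qg), φb p • x = εw w A p • x := fun p x => by
    show β (φb p) x = _
    rw [RingHom.liftOfSurjective_comp_apply]
    rfl
  haveI : IsScalarTower A (B ⧸ J) Qg := ⟨fun a b x => by
    obtain ⟨p, rfl⟩ := hφb b
    rw [show a • φb p = φb (a • p) by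
      simp only [φb, RingHom.comp_apply, AlgHom.toRingHom_eq_coe, AlgHom.coe_toRingHom, map_smul]; rfl,
      hβ, hβ, map_smul, smul_assoc]⟩
  -- the presentation over the quotient
  let Γ : F d n (B ⧸ J) →ₗ[B ⧸ J] Qg := ∑ i : Fin n,
    ((MvPolynomial.basisMonomials (Fin d) (B ⧸ J)).constr (B ⧸ J)
      fun m => (NP h A).mkQ (em (i, m))) ∘ₗ LinearMap.proj i
  have hΓem : ∀ e, Γ (em e) = (NP h A).mkQ (em e) := by
    intro e
    simp only [Γ, LinearMap.sum_apply, LinearMap.comp_apply, LinearMap.proj_apply]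
    rw [Finset.sum_eq_single e.1 (fun b _ hb => by simp [em, Pi.single_eq_of_ne hb]) (by simp)]
    have : em (C := B ⧸ J) e e.1 = MvPolynomial.basisMonomials (Fin d) (B ⧸ J) e.2 := by
      simp [em, Pi.single_eq_same, MvPolynomial.coe_basisMonomials]
    rw [this, Module.Basis.constr_basis]
  have hΓψ : ∀ y : F d n A, Γ (ψ (B ⧸ J) y) = (NP h A).mkQ y := by
    intro y
    rw [← sum_em (Finset.Subset.refl (supp y))]
    simp only [map_sum]
    refine Finset.sum_congr rfl fun e _ => ?_
    rw [map_smul, ← algebraMap_smul (B ⧸ J) (co y e), map_smul, ψ_em, hΓem, algebraMap_smul,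
      LinearMap.map_smul_of_tower]
  have hΓX : ∀ a z, Γ ((X a : MvPolynomial (Fin d) (B ⧸ J)) • z) =
      (X a : MvPolynomial (Fin d) A) • Γ z := by
    intro a z
    rw [← sum_em (Finset.Subset.refl (supp z)), Finset.smul_sum, map_sum, map_sum, Finset.smul_sum]
    refine Finset.sum_congr rfl fun e _ => ?_
    obtain ⟨p, hp⟩ := hφb (co z e)
    have h1 : (X a : MvPolynomial (Fin d) (B ⧸ J)) • (em e : F d n (B ⧸ J)) =
        ψ (B ⧸ J) ((X a : MvPolynomial (Fin d) A) • (em e : F d n A)) := by
      rw [ψ_poly_smul, map_X, ψ_em]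
    rw [smul_comm, map_smul Γ, h1, hΓψ, map_smul (NP h A).mkQ, map_smul Γ, hΓem, ← hp, hβ, hβ, smul_comm]
  let cc : Fin d → B ⧸ J := fun a => φb (X a)
  let rel : Fin d × Fin n → F d n (B ⧸ J) := fun x => if w x.1 = 0 then
    (X x.1 - MvPolynomial.C (cc x.1)) • (Pi.single x.2 1 : F d n (B ⧸ J)) else 0
  obtain ⟨G₀, hG₀⟩ := hfg
  let L : Submodule (MvPolynomial (Fin d) (B ⧸ J)) (F d n (B ⧸ J)) :=
    Submodule.span _ (ψ (B ⧸ J) '' (G₀ : Set (F d n A)) ∪ Set.range rel)
  have hLfg : L.FG := Submodule.fg_span ((G₀.finite_toSet.image _).union (Set.finite_range _))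
  have hψL : ∀ y ∈ NP h A, ψ (B ⧸ J) y ∈ L := by
    intro y hy
    rw [← hG₀] at hy
    refine Submodule.span_induction (p := fun y _ => ψ (B ⧸ J) y ∈ L) ?_ (by simp)
      (fun a b _ _ ha hb => by rw [map_add]; exact add_mem ha hb)
      (fun c a _ ha => by rw [ψ_poly_smul]; exact L.smul_mem _ ha) hy
    exact fun y hy => Submodule.subset_span (.inl ⟨y, hy, rfl⟩)
  have hrelL : ∀ a, w a = 0 → ∀ z : F d n (B ⧸ J), (X a - MvPolynomial.C (cc a)) • z ∈ L := by
    intro a ha z
    rw [pi_eq_sum_univ' z, Finset.smul_sum]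
    refine Submodule.sum_mem _ fun i _ => ?_
    have : (X a - MvPolynomial.C (cc a)) • (Pi.single i 1 : F d n (B ⧸ J)) ∈ L := by
      have := Submodule.subset_span (R := MvPolynomial (Fin d) (B ⧸ J))
        (Set.mem_union_right (ψ (B ⧸ J) '' (G₀ : Set (F d n A))) (Set.mem_range_self (f := rel) (a, i)))
      simpa [rel, ha, L] using this
    have h2 := L.smul_mem (z i) this
    rw [smul_comm] at h2
    convert h2 using 2
  have hLker : L.restrictScalars (B ⧸ J) = LinearMap.ker Γ := by
    apply le_antisymm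
    · intro y hy
      refine Submodule.span_induction (p := fun y _ => Γ y = 0) ?_ (map_zero _)
        (fun a b _ _ ha hb => by rw [map_add, ha, hb, add_zero]) ?_ (show y ∈ L from hy)
      · rintro _ (⟨y, hy, rfl⟩ | ⟨⟨a, i⟩, rfl⟩)
        · rw [hΓψ]; exact (Submodule.Quotient.mk_eq_zero _).mpr (hG₀ ▸ Submodule.subset_span hy)
        · simp only [rel]
          split_ifs with ha
          · have he : (Pi.single i 1 : F d n (B ⧸ J)) = em (i, 0) := by simp [em, monomial_zero']
            rw [sub_smul, map_sub, hΓX, ← MvPolynomial.algebraMap_eq, algebraMap_smul, map_smul,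
              hβ, hεX, if_pos ha, sub_self]
          · exact map_zero _
      · intro p x _ hx
        induction p using MvPolynomial.induction_on generalizing x with
        | C c => rw [← MvPolynomial.algebraMap_eq, algebraMap_smul, map_smul, hx, smul_zero]
        | add p q hp hq => rw [add_smul, map_add, hp x ‹_› hx, hq x ‹_› hx, add_zero]
        | mul_X p i hp =>
          rw [mul_smul]
          exact hp _ (L.smul_mem _ ‹_›) (by rw [hΓX, hx, smul_zero])
    · intro y hy
      have hdec : ∀ y : F d n (B ⧸ J), ∃ y₀ : F d n A, y - ψ (B ⧸ J) y₀ ∈ L := by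
        intro y
        rw [← sum_em (Finset.Subset.refl (supp y))]
        suffices H : ∀ p e, ∃ y₀ : F d n A, φb p • (em e : F d n (B ⧸ J)) - ψ (B ⧸ J) y₀ ∈ L by
          choose p hp using fun e => hφb (co y e)
          choose y₀ hy₀ using fun e => H (p e) e
          refine ⟨∑ e ∈ supp y, y₀ e, ?_⟩
          rw [map_sum, ← Finset.sum_sub_distrib]
          exact Submodule.sum_mem _ fun e _ => hp e ▸ hy₀ e
        intro p e
        induction p using MvPolynomial.induction_on with
        | C c =>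
          refine ⟨c • em e, ?_⟩
          rw [map_smul, ψ_em, ← algebraMap_smul (B ⧸ J) c]
          have : φb (MvPolynomial.C c) = algebraMap A (B ⧸ J) c := by
            simp only [φb, RingHom.comp_apply]
            rw [← MvPolynomial.algebraMap_eq]
            exact congrArg _ (φ.commutes c)
          rw [this, sub_self]; exact zero_mem _
        | add p q hp hq =>
          obtain ⟨a, ha⟩ := hp
          obtain ⟨b, hb⟩ := hq
          exact ⟨a + b, by rw [map_add, add_smul, map_add, add_sub_add_comm]; exact add_mem ha hb⟩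
        | mul_X p i hp =>
          obtain ⟨a, ha⟩ := hp
          rw [map_mul, mul_comm, mul_smul]
          by_cases hi : w i = 0
          · refine ⟨(X i : MvPolynomial (Fin d) A) • a, ?_⟩
            have h1 := L.smul_mem (X i) ha
            have h2 := hrelL i hi (φb p • (em e : F d n (B ⧸ J)))
            rw [smul_sub] at h1
            rw [sub_smul, ← MvPolynomial.algebraMap_eq, algebraMap_smul] at h2
            rw [ψ_poly_smul, map_X]
            have h3 := sub_mem h1 h2
            rwa [show ∀ (u v t : F d n (B ⧸ J)), u - v - (u - t) = t - v from fun u v t => by abel] at h3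
          · refine ⟨0, ?_⟩
            have : φb (X i) = 0 := Ideal.Quotient.eq_zero_iff_mem.mpr (hQ _ (Ideal.subset_span
              (Set.mem_image_of_mem X (show i ∈ {a | w a ≠ 0} from hi))))
            rw [this, zero_smul, map_zero, sub_zero]; exact zero_mem _
      obtain ⟨y₀, hy₀⟩ := hdec y
      have h1 : Γ (y - ψ (B ⧸ J) y₀) = 0 := by
        refine Submodule.span_induction (p := fun y _ => Γ y = 0) ?_ (map_zero _)
          (fun a b _ _ ha hb => by rw [map_add, ha, hb, add_zero]) ?_ hy₀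
        · rintro _ (⟨y, hy, rfl⟩ | ⟨⟨a, i⟩, rfl⟩)
          · rw [hΓψ]; exact (Submodule.Quotient.mk_eq_zero _).mpr (hG₀ ▸ Submodule.subset_span hy)
          · simp only [rel]
            split_ifs with ha
            · rw [sub_smul, map_sub, hΓX, ← MvPolynomial.algebraMap_eq, algebraMap_smul, map_smul,
                hβ, hεX, if_pos ha, sub_self]
            · exact map_zero _
        · intro p x _ hx
          induction p using MvPolynomial.induction_on generalizing x with
          | C c => rw [← MvPolynomial.algebraMap_eq, algebraMap_smul, map_smul, hx, smul_zero]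
          | add p q hp hq => rw [add_smul, map_add, hp x ‹_› hx, hq x ‹_› hx, add_zero]
          | mul_X p i hp =>
            rw [mul_smul]
            exact hp _ (L.smul_mem _ ‹_›) (by rw [hΓX, hx, smul_zero])
      rw [map_sub, LinearMap.mem_ker.mp hy, zero_sub, neg_eq_zero, hΓψ,
        Submodule.mkQ_apply, Submodule.Quotient.mk_eq_zero] at h1
      have := add_mem hy₀ (hψL y₀ h1)
      rwa [sub_add_cancel] at this
  have hΓs : Function.Surjective Γ := fun x => by
    obtain ⟨y, rfl⟩ := Submodule.mkQ_surjective _ x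
    exact ⟨ψ (B ⧸ J) y, hΓψ y⟩
  let eQ : (F d n (B ⧸ J) ⧸ L) ≃ₗ[B ⧸ J] Qg :=
    (Submodule.Quotient.restrictScalarsEquiv (B ⧸ J) L).symm ≪≫ₗ Submodule.quotEquivOfEq _ _ hLker ≪≫ₗ
      Γ.quotKerEquivOfSurjective hΓs
  -- the graded pieces
  let N : ℕ → Submodule B M := fun k => J ^ k • ⊤
  let Gk : ℕ → Type u := fun k => ↥(N k) ⧸ Submodule.comap (N k).subtype (N (k + 1))
  have htor : ∀ k, Module.IsTorsionBySet B (Gk k) J := by
    rintro k x ⟨j, hj⟩
    obtain ⟨x, rfl⟩ := Submodule.mkQ_surjective _ x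
    show j • (Submodule.Quotient.mk x : Gk k) = 0
    rw [← Submodule.Quotient.mk_smul, Submodule.Quotient.mk_eq_zero]
    show j • (x : M) ∈ N (k + 1)
    simp only [N, pow_succ', Submodule.mul_smul]
    exact Submodule.smul_mem_smul hj x.2
  letI : ∀ k, Module (B ⧸ J) (Gk k) := fun k => (htor k).module
  haveI : ∀ k, IsScalarTower B (B ⧸ J) (Gk k) := fun k => (htor k).isScalarTower
  have hπE : ∀ k (y : F d n A), π (E w k y) ∈ N k := fun k y => (hmem k _).mpr (E_mem_KC h k y)
  have hGk0 : ∀ k (y : F d n A),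
      (Submodule.Quotient.mk (⟨π (E w k y), hπE k y⟩ : N k) : Gk k) = 0 ↔ E w k y ∈ NP h A := by
    intro k y
    rw [Submodule.Quotient.mk_eq_zero]
    exact ⟨fun hy => E_mem_NN ((hmem (k + 1) _).mp hy), fun hy => (hmem (k + 1) _).mpr (by
      have := mem_NN.mp hy k; rwa [E_self] at this)⟩
  let γ : ∀ k, Qg →ₗ[B ⧸ J] Gk k := fun k =>
    have hwd : ∀ y₁ y₂ : F d n A, y₁ - y₂ ∈ NP h A →
        (Submodule.Quotient.mk (⟨π (E w k y₁), hπE k y₁⟩ : N k) : Gk k) =
          Submodule.Quotient.mk ⟨π (E w k y₂), hπE k y₂⟩ := fun y₁ y₂ hy => by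
      rw [← sub_eq_zero, ← Submodule.Quotient.mk_sub]
      rw [show (⟨π (E w k y₁), hπE k y₁⟩ - ⟨π (E w k y₂), hπE k y₂⟩ : N k) =
        ⟨π (E w k (y₁ - y₂)), hπE k _⟩ from Subtype.ext (by simp)]
      exact (hGk0 k _).mpr (E_mem_NN (mem_NN.mp hy k))
    { toFun := fun x => Quotient.liftOn' x
        (fun y => (Submodule.Quotient.mk (⟨π (E w k y), hπE k y⟩ : N k) : Gk k))
        (fun y₁ y₂ hy => hwd y₁ y₂ ((Submodule.quotientRel_def _).mp hy))
      map_add' := fun x₁ x₂ => by
        obtain ⟨y₁, rfl⟩ := Submodule.mkQ_surjective _ x₁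
        obtain ⟨y₂, rfl⟩ := Submodule.mkQ_surjective _ x₂
        show (Submodule.Quotient.mk (⟨π (E w k (y₁ + y₂)), hπE k _⟩ : N k) : Gk k) =
          Submodule.Quotient.mk (⟨π (E w k y₁), hπE k y₁⟩ : N k) +
            Submodule.Quotient.mk (⟨π (E w k y₂), hπE k y₂⟩ : N k)
        rw [← Submodule.Quotient.mk_add]
        exact congrArg _ (Subtype.ext (by simp))
      map_smul' := fun c x => by
        obtain ⟨p, rfl⟩ := hφb c
        obtain ⟨y, rfl⟩ := Submodule.mkQ_surjective _ x
        rw [RingHom.id_apply, hβ, ← map_smul]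
        show (Submodule.Quotient.mk (⟨π (E w k (εw w A p • y)), _⟩ : N k) : Gk k) =
          φb p • (Submodule.Quotient.mk (⟨π (E w k y), hπE k y⟩ : N k) : Gk k)
        rw [← hε1 p]
        show _ = φ (εw w A p) • (Submodule.Quotient.mk (⟨π (E w k y), hπE k y⟩ : N k) : Gk k)
        rw [← Submodule.Quotient.mk_smul]
        exact congrArg _ (Subtype.ext (by simp [hε2, hπs])) }
  have hγ : ∀ k y, γ k ((NP h A).mkQ y) = Submodule.Quotient.mk (⟨π (E w k y), hπE k y⟩ : N k) :=
    fun k y => rfl
  have hγs : ∀ k, Function.Surjective (γ k) := by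
    intro k x
    obtain ⟨⟨m, hm⟩, rfl⟩ := Submodule.mkQ_surjective _ x
    obtain ⟨z, rfl⟩ := hπ m
    obtain ⟨y, hy⟩ := exists_gr h ((hmem k z).mp hm)
    refine ⟨(NP h A).mkQ y, ?_⟩
    rw [hγ, Submodule.mkQ_apply, Submodule.Quotient.eq]
    show π (E w k y) - π z ∈ N (k + 1)
    rw [← map_sub, ← neg_sub, map_neg]
    exact neg_mem ((hmem (k + 1) _).mpr hy)
  let ek : ∀ k, Qg →ₗ[B ⧸ J] Qg := fun k =>
    { toFun := Submodule.mapQ ((NP h A).restrictScalars A) ((NP h A).restrictScalars A) (E w k)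
        (fun y hy => E_mem_NN (mem_NN.mp hy k))
      map_add' := map_add _
      map_smul' := fun c x => by
        obtain ⟨p, rfl⟩ := hφb c
        obtain ⟨y, rfl⟩ := Submodule.mkQ_surjective _ x
        rw [RingHom.id_apply, hβ, hβ, ← map_smul]
        show (NP h A).mkQ (E w k (εw w A p • y)) = εw w A p • (NP h A).mkQ (E w k y)
        rw [hε2, map_smul] }
  have hek : ∀ k y, ek k ((NP h A).mkQ y) = (NP h A).mkQ (E w k y) := fun k y => rfl
  have hsec : ∀ k, ∃ s : Gk k →ₗ[B ⧸ J] Qg, (∀ x, γ k (s x) = x) ∧ ∀ x, s (γ k x) = ek k x := by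
    intro k
    have hle : LinearMap.ker (γ k) ≤ LinearMap.ker (ek k) := by
      intro x hx
      obtain ⟨y, rfl⟩ := Submodule.mkQ_surjective _ x
      rw [LinearMap.mem_ker, hγ, hGk0] at hx
      rw [LinearMap.mem_ker, hek]
      exact (Submodule.Quotient.mk_eq_zero _).mpr hx
    let s := (LinearMap.ker (γ k)).liftQ (ek k) hle ∘ₗ
      ((γ k).quotKerEquivOfSurjective (hγs k)).symm.toLinearMap
    have hs : ∀ x, s (γ k x) = ek k x := fun x => by
      simp only [s, LinearMap.comp_apply, LinearEquiv.coe_coe]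
      rw [← LinearMap.quotKerEquivOfSurjective_apply_mk (γ k) (hγs k) x, LinearEquiv.symm_apply_apply]
      rfl
    refine ⟨s, fun x => ?_, hs⟩
    obtain ⟨x, rfl⟩ := hγs k x
    rw [hs]
    obtain ⟨y, rfl⟩ := Submodule.mkQ_surjective _ x
    rw [hek, hγ, hγ]
    exact congrArg _ (Subtype.ext (by simp [E_self]))
  choose sk hsk1 hsk2 using hsec
  have hiff : ∀ (p : Ideal (B ⧸ J)) [p.IsPrime],
      Module.Flat (Localization.AtPrime p) (Localization.AtPrime p ⊗[B ⧸ J] (F d n (B ⧸ J) ⧸ L)) ↔
      ∀ k, Module.Flat (Localization.AtPrime p) (Localization.AtPrime p ⊗[B ⧸ J] Gk k) := by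
    intro p _
    let D := Localization.AtPrime p
    let e := eQ.baseChange (B ⧸ J) D _ _
    constructor
    · intro hf k
      haveI := hf
      haveI : Module.Flat D (D ⊗[B ⧸ J] Qg) := Module.Flat.of_linearEquiv e.symm
      refine Module.Flat.of_retract ((sk k).baseChange D) ((γ k).baseChange D) ?_
      rw [← LinearMap.baseChange_comp,
        show (γ k) ∘ₗ sk k = LinearMap.id from LinearMap.ext (hsk1 k), LinearMap.baseChange_id]
    · intro hf
      haveI := hf
      haveI : Module.Flat D (D ⊗[B ⧸ J] Qg) := flat_of_retracts.{u} (D := D) (P := D ⊗[B ⧸ J] Qg)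
        (fun k => (D ⊗[B ⧸ J] Gk k : Type u))
        (fun k => ((γ k).baseChange D : (D ⊗[B ⧸ J] Qg) →ₗ[D] D ⊗[B ⧸ J] Gk k))
        (fun k => ((sk k).baseChange D : (D ⊗[B ⧸ J] Gk k) →ₗ[D] D ⊗[B ⧸ J] Qg)) (fun z => by
          induction z using TensorProduct.induction_on with
          | zero => exact ⟨0, fun L' _ => by simp⟩
          | tmul c x =>
            obtain ⟨y, rfl⟩ := Submodule.mkQ_surjective _ x
            obtain ⟨Lb, hLb⟩ := exists_bound w y
            refine ⟨Lb, fun L' hL' => ?_⟩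
            simp only [LinearMap.baseChange_tmul, hsk2, hek, ← TensorProduct.tmul_sum, ← map_sum]
            congr 2
            refine ext_co fun e => ?_
            rw [co_sum]
            simp only [co_E, Finset.sum_ite_eq, Finset.mem_range]
            split_ifs with he
            · rfl
            · have := congrArg (co · e) (hLb (wt w e) (by omega))
              simpa [co_E, co_zero] using this.symm
          | add x y hx hy =>
            obtain ⟨L₁, h₁⟩ := hx
            obtain ⟨L₂, h₂⟩ := hy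
            refine ⟨max L₁ L₂, fun L' hL' => ?_⟩
            simp only [map_add, Finset.sum_add_distrib, h₁ L' ((le_max_left _ _).trans hL'),
              h₂ L' ((le_max_right _ _).trans hL')])
      exact Module.Flat.of_linearEquiv e
  -- openness
  rw [isOpen_iff_forall_mem_open]
  intro q hq
  by_cases hJq : J ≤ q.asIdeal
  swap
  · refine ⟨(PrimeSpectrum.zeroLocus (J : Set B))ᶜ, ?_, (PrimeSpectrum.isClosed_zeroLocus _).isOpen_compl,
      hJq⟩
    intro p hp hJp
    exact absurd hJp hp
  haveI hprime : ∀ p : PrimeSpectrum B, J ≤ p.asIdeal → (p.asIdeal.map (Ideal.Quotient.mk J)).IsPrime :=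
    fun p hp => Ideal.map_isPrime_of_surjective Ideal.Quotient.mk_surjective (by rw [Ideal.mk_ker]; exact hp)
  haveI := hprime q hJq
  have hflatq := (hiff (q.asIdeal.map (Ideal.Quotient.mk J))).mpr fun k =>
    (flat_quotient_iff J q.asIdeal hJq (Gk k)).mp (hq hJq k)
  obtain ⟨f, hf, hfl⟩ := exists_flat_nhd L hLfg _ hflatq
  obtain ⟨f, rfl⟩ := Ideal.Quotient.mk_surjective f
  refine ⟨PrimeSpectrum.basicOpen f, ?_, (PrimeSpectrum.basicOpen f).isOpen, fun hfq => hf
    (Ideal.mem_map_of_mem _ hfq)⟩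
  intro p hp hJp k
  haveI := hprime p hJp
  refine (flat_quotient_iff J p.asIdeal hJp (Gk k)).mpr ((hiff _).mp (hfl _ fun hmem' => hp ?_) k)
  have := Ideal.mem_comap.mpr hmem'
  rwa [Ideal.comap_map_of_surjective _ Ideal.Quotient.mk_surjective, ← RingHom.ker_eq_comap_bot,
    Ideal.mk_ker, sup_eq_left.mpr hJp] at this

end Groth.L07.FlatDescent
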