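import Groth.Agent.L07.GrModel

/-! The associated graded module of a flat filtration is finitely presented. -/

namespace Groth.L07.FlatDescent

open MvPolynomial

set_option linter.style.haveILetI false

universe u

variable {d n : ℕ} {R A : Type u} [CommRing R] [IsNoetherianRing R] [CommRing A] [Algebra R A]
  {w : Fin d → ℕ} {Kf : ℕ → Submodule (MvPolynomial (Fin d) R) (F d n R)}

/-- Finite generation of the relations of the graded module. -/
theorem NP_fg (h : IsFil w Kf) (hT : ∀ k, Module.Flat A (MC A (Kf k))) : (NP h A).FG := by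
  classical
  obtain ⟨B, hB, hflat⟩ := exists_fg_stage_gr h A hT
  haveI : Algebra.FiniteType R B := B.fg_iff_finiteType.mp hB
  haveI : IsNoetherianRing B := Algebra.FiniteType.isNoetherianRing R B
  obtain ⟨G, hG⟩ := (IsNoetherian.noetherian (NP h B) : (NP h B).FG)
  refine ⟨G.image (ψ (R := B) A), le_antisymm ?_ fun x hx => ?_⟩
  · rw [Submodule.span_le]
    intro y hy
    obtain ⟨z, hz, rfl⟩ := Finset.mem_image.mp hy
    exact ψ_mem_NN h (hG ▸ Submodule.subset_span hz : z ∈ NP h B)
  · rw [Finset.coe_image]
    have hle : KC A (NP h B) ≤ (Submodule.span (MvPolynomial (Fin d) A)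
        (ψ (R := B) A '' (G : Set (F d n B)))).restrictScalars A := by
      rw [KC, Submodule.span_le]
      rintro _ ⟨z, hz, rfl⟩
      rw [SetLike.mem_coe, ← hG] at hz
      refine Submodule.span_induction (p := fun z _ => ψ (R := B) A z ∈
        Submodule.span (MvPolynomial (Fin d) A) (ψ (R := B) A '' (G : Set (F d n B))))
        ?_ (by simp) (fun a b _ _ ha hb => by rw [map_add]; exact add_mem ha hb)
        (fun c a _ ha => by rw [ψ_poly_smul]; exact Submodule.smul_mem _ _ ha) hz
      exact fun z hz => Submodule.subset_span ⟨z, hz, rfl⟩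
    obtain ⟨L, hL⟩ := exists_sum_E w x
    rw [← hL]
    refine Submodule.sum_mem _ fun l _ => hle ?_
    haveI := hflat l
    exact homog_algebra (C := B) h A (mem_NN.mp hx l) (E_self w l x)

/-- Flat graded pieces give flat truncations. -/
theorem flat_trunc {B M : Type u} [CommRing B] [Algebra A B] [AddCommGroup M] [Module B M] [Module A M]
    [IsScalarTower A B M] (J : Ideal B)
    (hgr : ∀ k : ℕ, Module.Flat A
      (↥(J ^ k • (⊤ : Submodule B M)) ⧸ Submodule.comap (J ^ k • (⊤ : Submodule B M)).subtype (J ^ (k + 1) • ⊤)))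
    (π : F d n A →ₗ[A] M) (hπ : Function.Surjective π) (hker : ∀ k, LinearMap.ker π ≤ KC A (Kf k))
    (hmap : ∀ k, (KC A (Kf k)).map π = (J ^ k • (⊤ : Submodule B M)).restrictScalars A) (k : ℕ) :
    Module.Flat A (MC A (Kf k)) := by
  let N : ℕ → Submodule B M := fun k => J ^ k • ⊤
  have hN : ∀ k, N (k + 1) ≤ N k := fun k =>
    Submodule.smul_mono_left (Ideal.pow_le_pow_right (Nat.le_succ k))
  have hT : ∀ k, Module.Flat A (M ⧸ N k) := by
    intro k
    induction k with
    | zero =>
      haveI : Subsingleton (M ⧸ N 0) := Submodule.Quotient.subsingleton_iff.mpr (by simp [N])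
      infer_instance
    | succ k ih =>
      haveI := ih
      haveI := hgr k
      let f : (↥(N k) ⧸ Submodule.comap (N k).subtype (N (k + 1))) →ₗ[A] M ⧸ N (k + 1) :=
        (Submodule.mapQ _ _ (N k).subtype le_rfl).restrictScalars A
      let g : (M ⧸ N (k + 1)) →ₗ[A] M ⧸ N k :=
        (Submodule.factor (hN k)).restrictScalars A
      refine flat_of_shortExact f g ?_ (Submodule.factor_surjective (hN k)) ?_
      · rw [injective_iff_map_eq_zero]
        intro x hx
        obtain ⟨x, rfl⟩ := Submodule.mkQ_surjective _ x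
        simpa [f, Submodule.Quotient.mk_eq_zero] using hx
      · intro x
        obtain ⟨x, rfl⟩ := Submodule.mkQ_surjective _ x
        constructor
        · intro hx
          have : x ∈ N k := by simpa [g, Submodule.Quotient.mk_eq_zero] using hx
          exact ⟨Submodule.Quotient.mk ⟨x, this⟩, by simp [f]⟩
        · rintro ⟨y, hy⟩
          obtain ⟨y, rfl⟩ := Submodule.mkQ_surjective _ y
          rw [← hy]
          simp [f, g, Submodule.Quotient.mk_eq_zero]
  haveI := hT k
  let π₁ : F d n A →ₗ[A] M ⧸ (N k).restrictScalars A := ((N k).restrictScalars A).mkQ ∘ₗ π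
  have hπ₁ : Function.Surjective π₁ := (Submodule.mkQ_surjective _).comp hπ
  have hker₁ : LinearMap.ker π₁ = KC A (Kf k) := by
    rw [LinearMap.ker_comp, Submodule.ker_mkQ, ← hmap k, Submodule.comap_map_eq,
      sup_eq_left.mpr (hker k)]
  haveI : Module.Flat A (M ⧸ (N k).restrictScalars A) :=
    Module.Flat.of_linearEquiv (Submodule.Quotient.restrictScalarsEquiv A (N k))
  exact Module.Flat.of_linearEquiv
    (Submodule.quotEquivOfEq _ _ hker₁.symm ≪≫ₗ π₁.quotKerEquivOfSurjective hπ₁)

end Groth.L07.FlatDescent
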