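import Groth.Agent.L07.FlatIdeal
import Groth.Prelude.Def_AssocGrMod
import Groth.Prelude.Def_Rees2
import Mathlib.AlgebraicGeometry.Morphisms.Immersion
import Mathlib.RingTheory.Filtration
import Mathlib.RingTheory.ReesAlgebra

/-! # Stratifications making an associated graded module flat -/

set_option autoImplicit false
set_option linter.style.haveILetI false

universe u

open TensorProduct

namespace Groth.L07.GrStrata

variable {A B : Type u} [CommRing A] [CommRing B] [Algebra A B] (J : Ideal B)
  (N : Type u) [AddCommGroup N] [Module B N] [Module A N] [IsScalarTower A B N]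

/-- The degree `n` piece of the associated graded module, inside `N / Jⁿ⁺¹N`. -/
def grPiece (n : ℕ) : Submodule A (N ⧸ (J ^ (n + 1) • (⊤ : Submodule B N))) :=
  ((J ^ n • (⊤ : Submodule B N)).map (J ^ (n + 1) • (⊤ : Submodule B N)).mkQ).restrictScalars A

theorem finite_grMod [IsNoetherianRing B] [Module.Finite B N] :
    Module.Finite (FiltBl.IdealFiltration.adic J).rees (AssocGr.GrMod (Rees.powFilt J N)) := by
  have hfg : (Rees.powFilt J N).submodule.FG :=
    (Ideal.Filtration.submodule_fg_iff_stable (Rees.powFilt J N) fun i => IsNoetherian.noetherian _).mpr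
      (J.stableFiltration_stable ⊤)
  haveI : Module.Finite (FiltBl.IdealFiltration.adic J).rees (AssocGr.ReesM (Rees.powFilt J N)) :=
    (Module.Finite.iff_fg (R := reesAlgebra J)).mpr hfg
  exact Module.Finite.of_surjective (AssocGr.succMod (Rees.powFilt J N)).mkQ (Submodule.mkQ_surjective _)

theorem exists_retraction (n : ℕ)
    [Module A (AssocGr.GrMod (Rees.powFilt J N))] [IsScalarTower A B (AssocGr.GrMod (Rees.powFilt J N))] :
    ∃ (i : grPiece (A := A) J N n →ₗ[A] AssocGr.GrMod (Rees.powFilt J N))
      (r : AssocGr.GrMod (Rees.powFilt J N) →ₗ[A] grPiece (A := A) J N n), r ∘ₗ i = LinearMap.id := by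
  have hN : ∀ m, (Rees.powFilt J N).N m = J ^ m • (⊤ : Submodule B N) := fun m => by simp [Rees.powFilt]
  let G := (J ^ n • (⊤ : Submodule B N)).map (J ^ (n + 1) • (⊤ : Submodule B N)).mkQ
  -- the coefficient map
  let c₀ : AssocGr.ReesM (Rees.powFilt J N) →ₗ[B] G :=
    { toFun := fun y => ⟨Submodule.Quotient.mk (AssocGr.ReesM.coeff (Rees.powFilt J N) y n),
        Submodule.mem_map_of_mem (hN n ▸ AssocGr.ReesM.coeff_mem (Rees.powFilt J N) y n)⟩
      map_add' := fun y y' => Subtype.ext (by
        show (Submodule.Quotient.mk _ : N ⧸ _) = Submodule.Quotient.mk _ + Submodule.Quotient.mk _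
        rw [AssocGr.ReesM.coeff_add, Submodule.Quotient.mk_add])
      map_smul' := fun b y => Subtype.ext (by
        show (Submodule.Quotient.mk _ : N ⧸ _) = b • Submodule.Quotient.mk _
        rw [AssocGr.ReesM.coeff_smul_base, Submodule.Quotient.mk_smul]) }
  let c : AssocGr.GrMod (Rees.powFilt J N) →ₗ[B] G :=
    ((AssocGr.succMod (Rees.powFilt J N)).restrictScalars B).liftQ c₀ (fun y hy => by
      rw [LinearMap.mem_ker]
      refine Subtype.ext ?_
      show (Submodule.Quotient.mk _ : N ⧸ _) = 0
      rw [Submodule.Quotient.mk_eq_zero, ← hN]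
      exact hy n) ∘ₗ (Submodule.Quotient.restrictScalarsEquiv B (AssocGr.succMod (Rees.powFilt J N))).symm.toLinearMap
  have hc : ∀ y, c (AssocGr.mkGM (Rees.powFilt J N) y) = c₀ y := fun y => rfl
  -- the inclusion
  let d₀ : ((Rees.powFilt J N).N n) →ₗ[B] AssocGr.GrMod (Rees.powFilt J N) :=
    AssocGr.mkGM (Rees.powFilt J N) ∘ₗ
      { toFun := AssocGr.monomM (Rees.powFilt J N) n
        map_add' := fun x y => AssocGr.ReesM.ext (Rees.powFilt J N) fun m => by
          rw [AssocGr.ReesM.coeff_add, AssocGr.ReesM.coeff_monomM, AssocGr.ReesM.coeff_monomM,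
            AssocGr.ReesM.coeff_monomM]
          split_ifs <;> simp
        map_smul' := fun b x => AssocGr.ReesM.ext (Rees.powFilt J N) fun m => by
          rw [RingHom.id_apply, AssocGr.ReesM.coeff_smul_base, AssocGr.ReesM.coeff_monomM,
            AssocGr.ReesM.coeff_monomM]
          split_ifs <;> simp }
  let p : ((Rees.powFilt J N).N n) →ₗ[B] G :=
    ((J ^ (n + 1) • (⊤ : Submodule B N)).mkQ ∘ₗ ((Rees.powFilt J N).N n).subtype).codRestrict G
      fun x => Submodule.mem_map_of_mem (hN n ▸ x.2)
  have hp : Function.Surjective p := by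
    rintro ⟨_, x, hx, rfl⟩
    exact ⟨⟨x, (hN n).symm ▸ hx⟩, rfl⟩
  have hker : LinearMap.ker p ≤ LinearMap.ker d₀ := by
    intro x hx
    have hx' : ((x : N)) ∈ (Rees.powFilt J N).N (n + 1) := by
      rw [hN, ← Submodule.Quotient.mk_eq_zero]
      exact congrArg Subtype.val (LinearMap.mem_ker.mp hx)
    refine LinearMap.mem_ker.mpr ((AssocGr.mkGM_eq_zero_iff (Rees.powFilt J N) _).mpr fun m => ?_)
    show AssocGr.ReesM.coeff (Rees.powFilt J N) (AssocGr.monomM (Rees.powFilt J N) n x) m ∈ (Rees.powFilt J N).N (m + 1)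
    rw [AssocGr.ReesM.coeff_monomM]
    split_ifs with h
    · subst h; exact hx'
    · exact zero_mem _
  let d : G →ₗ[B] AssocGr.GrMod (Rees.powFilt J N) := ((LinearMap.ker p).liftQ d₀ hker) ∘ₗ (p.quotKerEquivOfSurjective hp).symm.toLinearMap
  haveI : IsScalarTower A B G := inferInstance
  let i : grPiece (A := A) J N n →ₗ[A] AssocGr.GrMod (Rees.powFilt J N) :=
    { toFun := fun z => d z
      map_add' := fun x y => d.map_add x y
      map_smul' := fun a x => by
        have h : (show G from a • x) = (algebraMap A B a) • (show G from x) :=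
          Subtype.ext (algebraMap_smul B a (x : N ⧸ (J ^ (n + 1) • (⊤ : Submodule B N)))).symm
        exact (congrArg d h).trans ((d.map_smul _ _).trans (algebraMap_smul B a (d x))) }
  let r : AssocGr.GrMod (Rees.powFilt J N) →ₗ[A] grPiece (A := A) J N n :=
    { toFun := fun z => c z
      map_add' := fun x y => c.map_add x y
      map_smul' := fun a x => by
        have h : c (a • x) = (algebraMap A B a) • c x := by rw [← c.map_smul, algebraMap_smul]
        exact h.trans (Subtype.ext (algebraMap_smul B a ((c x : G) : N ⧸ (J ^ (n + 1) • (⊤ : Submodule B N))))) }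
  refine ⟨i, r, LinearMap.ext fun z => ?_⟩
  obtain ⟨x, hxz⟩ := hp (show G from z)
  subst hxz
  show c (d (p x)) = p x
  have h1 : d (p x) = d₀ x := by
    show (LinearMap.ker p).liftQ d₀ hker ((p.quotKerEquivOfSurjective hp).symm (p x)) = d₀ x
    rw [show (p.quotKerEquivOfSurjective hp).symm (p x) = Submodule.Quotient.mk x from
      (p.quotKerEquivOfSurjective hp).symm_apply_eq.mpr rfl]
    rfl
  rw [h1]
  refine (hc _).trans (Subtype.ext ?_)
  show (Submodule.Quotient.mk (AssocGr.ReesM.coeff (Rees.powFilt J N) (AssocGr.monomM (Rees.powFilt J N) n x) n) : N ⧸ _) = Submodule.Quotient.mk (x : N)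
  rw [AssocGr.ReesM.coeff_monomM, if_pos rfl]

/-- Generic flatness of all the pieces of the associated graded module at once. -/
theorem exists_flat_grPiece [IsNoetherianRing A] [Algebra.FiniteType A B] [Module.Finite B N] {I : Ideal A}
    (hI : I.IsRadical) (hne : I ≠ ⊤) :
    ∃ g, g ∉ I ∧ ∀ (C : Type u) [CommRing C] [Algebra A C], IsUnit (algebraMap A C g) →
      I.map (algebraMap A C) = ⊥ → ∀ n, Module.Flat C (C ⊗[A] grPiece (A := A) J N n) := by
  haveI : IsNoetherianRing B := Algebra.FiniteType.isNoetherianRing A B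
  haveI := finite_grMod J N
  letI : Module A (AssocGr.GrMod (Rees.powFilt J N)) := Module.compHom _ (algebraMap A B)
  haveI : IsScalarTower A B (AssocGr.GrMod (Rees.powFilt J N)) :=
    IsScalarTower.of_algebraMap_smul fun _ _ => rfl
  haveI : Algebra.FiniteType B (FiltBl.IdealFiltration.adic J).rees :=
    inferInstanceAs (Algebra.FiniteType B (reesAlgebra J))
  haveI : IsScalarTower A B (FiltBl.IdealFiltration.adic J).rees := inferInstance
  haveI : Algebra.FiniteType A (FiltBl.IdealFiltration.adic J).rees := Algebra.FiniteType.trans (R := A) (S := B) inferInstance inferInstance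
  haveI : IsScalarTower A (FiltBl.IdealFiltration.adic J).rees (AssocGr.GrMod (Rees.powFilt J N)) :=
    IsScalarTower.of_algebraMap_smul fun a z => by
      rw [IsScalarTower.algebraMap_apply A B (FiltBl.IdealFiltration.adic J).rees, algebraMap_smul]
      rfl
  obtain ⟨g, hg, hfree⟩ := Groth.L07.FlatIdeal.exists_free_radical hI hne
    (A := (FiltBl.IdealFiltration.adic J).rees) (AssocGr.GrMod (Rees.powFilt J N))
  refine ⟨g, hg, fun C _ _ hu hz n => ?_⟩
  haveI := hfree C hu hz
  obtain ⟨i, r, hri⟩ := exists_retraction (A := A) J N n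
  refine Module.Flat.of_retract (i.baseChange C) (r.baseChange C) ?_
  rw [← LinearMap.baseChange_comp, hri, LinearMap.baseChange_id]

section Image

variable {R : Type u} [CommRing R] (I : Ideal R) {C : Type u} [CommRing C] [Algebra R C] [Algebra (R ⧸ I) C]
  [IsScalarTower R (R ⧸ I) C] [Module.Flat (R ⧸ I) C]

/-- A base change which is flat modulo `I` preserves injections of modules killed by `I`. -/
theorem baseChange_injective_of_killed {X Y : Type u} [AddCommGroup X] [Module R X] [AddCommGroup Y] [Module R Y]
    (hY : ∀ a ∈ I, ∀ y : Y, a • y = 0) {f : X →ₗ[R] Y} (hf : Function.Injective f) :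
    Function.Injective (f.baseChange C) := by
  let f' : (R ⧸ I) ⊗[R] X →ₗ[R ⧸ I] (R ⧸ I) ⊗[R] Y := f.baseChange (R ⧸ I)
  have hf' : Function.Injective f' := by
    rw [injective_iff_map_eq_zero]
    intro z hz
    obtain ⟨x, rfl⟩ := TensorProduct.mk_surjective R X (R ⧸ I) Ideal.Quotient.mk_surjective z
    have h1 : f x ∈ LinearMap.ker (TensorProduct.mk R (R ⧸ I) Y 1) := hz
    rw [LinearMap.ker_tensorProductMk] at h1
    have h2 : f x = 0 := by
      refine Submodule.smul_induction_on h1 (fun a ha y _ => hY a ha y) fun a b ha hb => ?_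
      rw [ha, hb, add_zero]
    rw [hf (h2.trans (map_zero f).symm), map_zero]
  have hinj : Function.Injective (f'.baseChange C) := Module.Flat.lTensor_preserves_injective_linearMap f' hf'
  have key : ∀ w, f.baseChange C (AlgebraTensorModule.cancelBaseChange R (R ⧸ I) C C X w) =
      AlgebraTensorModule.cancelBaseChange R (R ⧸ I) C C Y (f'.baseChange C w) := by
    intro w
    induction w using TensorProduct.induction_on with
    | zero => simp
    | add a b ha hb => simp only [map_add, ha, hb]
    | tmul c v =>
      induction v using TensorProduct.induction_on with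
      | zero => simp
      | add a b ha hb => simp only [tmul_add, map_add, ha, hb]
      | tmul r x => simp [f', smul_tmul']
  intro a b hab
  obtain ⟨a, rfl⟩ := (AlgebraTensorModule.cancelBaseChange R (R ⧸ I) C C X).surjective a
  obtain ⟨b, rfl⟩ := (AlgebraTensorModule.cancelBaseChange R (R ⧸ I) C C X).surjective b
  rw [key, key] at hab
  rw [hinj ((AlgebraTensorModule.cancelBaseChange R (R ⧸ I) C C Y).injective hab)]

/-- The image of one step of a filtration in the base change of the quotient by the next. -/
theorem flat_image {X Y : Type u} [AddCommGroup X] [Module R X] [AddCommGroup Y] [Module R Y]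
    (P P' : Submodule R X) (s : X →ₗ[R] Y) (hs : Function.Surjective s) (hP' : P' ≤ LinearMap.ker s)
    (hker : LinearMap.ker s ≤ P' ⊔ I • ⊤) (hY : ∀ a ∈ I, ∀ y : Y, a • y = 0)
    (hflat : Module.Flat C (C ⊗[R] (P.map s))) :
    Module.Flat C ↥(Submodule.map (LinearMap.range (LinearMap.baseChange C P'.subtype)).mkQ
      (LinearMap.range (LinearMap.baseChange C P.subtype))) := by
  let T : C ⊗[R] X →ₗ[C] C ⊗[R] Y := s.baseChange C
  have hT : LinearMap.ker T = LinearMap.range (LinearMap.baseChange C P'.subtype) := by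
    refine le_antisymm (fun z hz => ?_) ?_
    · obtain ⟨w, rfl⟩ := (lTensor_exact C (LinearMap.exact_subtype_ker_map s) hs z).mp hz
      clear hz
      induction w using TensorProduct.induction_on with
      | zero => rw [map_zero]; exact zero_mem _
      | add a b ha hb => rw [map_add]; exact add_mem ha hb
      | tmul c x =>
        obtain ⟨p', hp', t, ht, hx⟩ := Submodule.mem_sup.mp (hker x.2)
        rw [LinearMap.lTensor_tmul, Submodule.subtype_apply, ← hx, tmul_add]
        refine add_mem ⟨c ⊗ₜ ⟨p', hp'⟩, rfl⟩ ?_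
        suffices c ⊗ₜ[R] t = 0 by rw [this]; exact zero_mem _
        refine Submodule.smul_induction_on ht (fun a ha y _ => ?_) fun a b ha hb => ?_
        · rw [← smul_tmul, Algebra.smul_def, IsScalarTower.algebraMap_apply R (R ⧸ I) C, Ideal.Quotient.algebraMap_eq,
            Ideal.Quotient.eq_zero_iff_mem.mpr ha, map_zero, zero_mul, zero_tmul]
        · rw [tmul_add, ha, hb, add_zero]
    · rintro _ ⟨w, rfl⟩
      rw [LinearMap.mem_ker, ← LinearMap.comp_apply, ← LinearMap.baseChange_comp,
        show s ∘ₗ P'.subtype = 0 from LinearMap.ext fun x => hP' x.2, LinearMap.baseChange_zero, LinearMap.zero_apply]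
  let e : ((C ⊗[R] X) ⧸ LinearMap.range (LinearMap.baseChange C P'.subtype)) ≃ₗ[C] C ⊗[R] Y :=
    (Submodule.quotEquivOfEq _ _ hT.symm).trans (T.quotKerEquivOfSurjective (LinearMap.lTensor_surjective C hs))
  have he : e.toLinearMap ∘ₗ (LinearMap.range (LinearMap.baseChange C P'.subtype)).mkQ = T :=
    LinearMap.ext fun z => rfl
  let sP : P →ₗ[R] P.map s := s.submoduleMap P
  have hsq : (P.map s).subtype ∘ₗ sP = s ∘ₗ P.subtype := rfl
  have hrange : ((LinearMap.range (LinearMap.baseChange C P.subtype)).map
      (LinearMap.range (LinearMap.baseChange C P'.subtype)).mkQ).map e.toLinearMap =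
      LinearMap.range ((P.map s).subtype.baseChange C) := by
    rw [← Submodule.map_comp, he, ← LinearMap.range_comp, ← LinearMap.baseChange_comp, ← hsq,
      LinearMap.baseChange_comp]
    exact LinearMap.range_comp_of_range_eq_top _
      (LinearMap.range_eq_top.mpr (LinearMap.lTensor_surjective C (s.submoduleMap_surjective P)))
  haveI := hflat
  exact Module.Flat.of_linearEquiv ((e.submoduleMap _).trans ((LinearEquiv.ofEq _ _ hrange).trans
    (LinearEquiv.ofInjective _ (baseChange_injective_of_killed I hY (P.map s).injective_subtype)).symm))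

end Image

open AlgebraicGeometry CategoryTheory

variable [IsNoetherianRing A] [Algebra.FiniteType A B] (M : Type u) [AddCommGroup M] [Module B M] [Module A M]
  [IsScalarTower A B M] [Module.Finite B M]

/-- Flatness of the pieces on a stratum. -/
theorem exists_stratum {I : Ideal A} (hI : I.IsRadical) (hne : I ≠ ⊤) :
    ∃ g, g ∉ I ∧ ∀ n, Module.Flat (Localization.Away (Ideal.Quotient.mk I g))
      ↥(Submodule.map
          (LinearMap.range (LinearMap.baseChange (Localization.Away (Ideal.Quotient.mk I g))
            ((J ^ (n + 1) • (⊤ : Submodule B M)).restrictScalars A).subtype)).mkQ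
          (LinearMap.range (LinearMap.baseChange (Localization.Away (Ideal.Quotient.mk I g))
            ((J ^ n • (⊤ : Submodule B M)).restrictScalars A).subtype))) := by
  let N := M ⧸ (I.map (algebraMap A B) • (⊤ : Submodule B M))
  obtain ⟨g, hg, hflat⟩ := exists_flat_grPiece (A := A) J N hI hne
  refine ⟨g, hg, fun n => ?_⟩
  let C := Localization.Away (Ideal.Quotient.mk I g)
  haveI : Module.Flat (A ⧸ I) C := IsLocalization.flat C (Submonoid.powers (Ideal.Quotient.mk I g))
  have hu : IsUnit (algebraMap A C g) := by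
    rw [IsScalarTower.algebraMap_apply A (A ⧸ I) C]
    exact IsLocalization.Away.algebraMap_isUnit (S := C) (Ideal.Quotient.mk I g)
  have hz : I.map (algebraMap A C) = ⊥ := by
    rw [IsScalarTower.algebraMap_eq A (A ⧸ I) C, ← Ideal.map_map, Ideal.Quotient.algebraMap_eq, Ideal.map_quotient_self,
      Ideal.map_bot]
  let K : Submodule B N := J ^ (n + 1) • (⊤ : Submodule B N)
  let q : M →ₗ[B] N := (I.map (algebraMap A B) • (⊤ : Submodule B M)).mkQ
  let s : M →ₗ[B] N ⧸ K := K.mkQ ∘ₗ q
  have hmap : ∀ m, (J ^ m • (⊤ : Submodule B M)).map q = J ^ m • (⊤ : Submodule B N) := fun m => by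
    rw [Submodule.map_smul'', Submodule.map_top, Submodule.range_mkQ]
  have hkers : LinearMap.ker s = J ^ (n + 1) • (⊤ : Submodule B M) ⊔ I.map (algebraMap A B) • ⊤ := by
    rw [LinearMap.ker_comp, Submodule.ker_mkQ, show K = _ from (hmap (n + 1)).symm, Submodule.comap_map_eq,
      Submodule.ker_mkQ]
  have hImap : (I.map (algebraMap A B) • (⊤ : Submodule B M)).restrictScalars A = I • (⊤ : Submodule A M) := by
    rw [Ideal.smul_restrictScalars, Submodule.restrictScalars_top]
  have hG : ((J ^ n • (⊤ : Submodule B M)).restrictScalars A).map (s.restrictScalars A) = grPiece (A := A) J N n := by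
    rw [grPiece, ← hmap n, ← Submodule.map_comp]
    rfl
  refine flat_image I _ _ (s.restrictScalars A) (K.mkQ_surjective.comp (Submodule.mkQ_surjective _)) ?_ ?_ ?_
    (by rw [hG]; exact hflat C hu hz n)
  · intro x hx
    show s x = 0
    rw [← LinearMap.mem_ker, hkers]
    exact Submodule.mem_sup_left hx
  · intro x hx
    have hx' : x ∈ LinearMap.ker s := hx
    rw [hkers] at hx'
    rw [← hImap]
    obtain ⟨a, ha, b, hb, rfl⟩ := Submodule.mem_sup.mp hx'
    exact Submodule.add_mem_sup ha hb
  · intro a ha y
    obtain ⟨x, rfl⟩ := (K.mkQ_surjective.comp (Submodule.mkQ_surjective _) : Function.Surjective s) y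
    show a • s x = 0
    rw [show a • s x = s (a • x) from ((s.restrictScalars A).map_smul a x).symm]
    rw [← LinearMap.mem_ker, hkers]
    refine Submodule.mem_sup_right ?_
    rw [← algebraMap_smul B a x]
    exact Submodule.smul_mem_smul (Ideal.mem_map_of_mem _ ha) trivial

theorem range_stratum {I : Ideal A} (g : A) :
    Set.range (Spec.map (CommRingCat.ofHom (algebraMap A (Localization.Away (Ideal.Quotient.mk I g))))) =
      PrimeSpectrum.zeroLocus (I : Set A) ∩ (PrimeSpectrum.basicOpen g : Set (PrimeSpectrum A)) := by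
  show Set.range (PrimeSpectrum.comap (algebraMap A (Localization.Away (Ideal.Quotient.mk I g)))) = _
  rw [IsScalarTower.algebraMap_eq A (A ⧸ I) (Localization.Away (Ideal.Quotient.mk I g)), PrimeSpectrum.comap_comp]
  rw [Set.range_comp, PrimeSpectrum.localization_away_comap_range _ (Ideal.Quotient.mk I g)]
  rw [Ideal.Quotient.algebraMap_eq]
  have h : (PrimeSpectrum.comap (Ideal.Quotient.mk I)) ⁻¹' (PrimeSpectrum.basicOpen g : Set (PrimeSpectrum A)) =
      (PrimeSpectrum.basicOpen (Ideal.Quotient.mk I g) : Set (PrimeSpectrum (A ⧸ I))) := rfl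
  rw [← h, Set.image_preimage_eq_inter_range, range_comap_of_surjective _ _ Ideal.Quotient.mk_surjective,
    Ideal.mk_ker, Set.inter_comm]

theorem isImmersion_stratum {I : Ideal A} (g : A) :
    IsImmersion (Spec.map (CommRingCat.ofHom (algebraMap A (Localization.Away (Ideal.Quotient.mk I g))))) := by
  rw [IsScalarTower.algebraMap_eq A (A ⧸ I) (Localization.Away (Ideal.Quotient.mk I g)), CommRingCat.ofHom_comp,
    Spec.map_comp]
  haveI : IsOpenImmersion (Spec.map (CommRingCat.ofHom
      (algebraMap (A ⧸ I) (Localization.Away (Ideal.Quotient.mk I g))))) :=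
    IsOpenImmersion.of_isLocalization (Ideal.Quotient.mk I g)
  haveI : IsClosedImmersion (Spec.map (CommRingCat.ofHom (algebraMap A (A ⧸ I)))) :=
    IsClosedImmersion.spec_of_surjective _ Ideal.Quotient.mk_surjective
  infer_instance

/-- The stratification. -/
theorem exists_strata (I : Ideal A) : ∃ (m : ℕ) (s : Fin m → Ideal A × A),
    (∀ i j, i < j → PrimeSpectrum.zeroLocus ((s j).1 : Set A) ⊆ PrimeSpectrum.zeroLocus {(s i).2}) ∧
    (⋃ i, PrimeSpectrum.zeroLocus ((s i).1 : Set A) ∩ (PrimeSpectrum.basicOpen (s i).2 : Set (PrimeSpectrum A)) =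
      PrimeSpectrum.zeroLocus (I : Set A)) ∧
    (∀ i, PrimeSpectrum.zeroLocus ((s i).1 : Set A) ⊆ PrimeSpectrum.zeroLocus (I : Set A)) ∧
    (∀ i (n : ℕ), Module.Flat (Localization.Away (Ideal.Quotient.mk (s i).1 (s i).2))
      ↥(Submodule.map
          (LinearMap.range (LinearMap.baseChange (Localization.Away (Ideal.Quotient.mk (s i).1 (s i).2))
            ((J ^ (n + 1) • (⊤ : Submodule B M)).restrictScalars A).subtype)).mkQ
          (LinearMap.range (LinearMap.baseChange (Localization.Away (Ideal.Quotient.mk (s i).1 (s i).2))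
            ((J ^ n • (⊤ : Submodule B M)).restrictScalars A).subtype)))) := by
  induction I using IsNoetherian.induction with
  | hgt I ih =>
    change Ideal A at I
    by_cases htop : I.radical = ⊤
    · refine ⟨0, Fin.elim0, fun i => i.elim0, ?_, fun i => i.elim0, fun i => i.elim0⟩
      rw [Ideal.radical_eq_top.mp htop, Submodule.top_coe, PrimeSpectrum.zeroLocus_univ, Set.iUnion_of_empty]
    obtain ⟨g, hg, hflat⟩ := exists_stratum J M (Ideal.radical_isRadical I) htop
    have hgt : I < I.radical ⊔ Ideal.span {g} := lt_of_le_of_lt Ideal.le_radical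
      (left_lt_sup.mpr fun h => hg (h (Ideal.mem_span_singleton_self g)))
    obtain ⟨m, s, hlt, hun, hsub, hfl⟩ := ih _ hgt
    have hz : PrimeSpectrum.zeroLocus ((I.radical ⊔ Ideal.span {g} : Ideal A) : Set A) =
        PrimeSpectrum.zeroLocus (I : Set A) ∩ PrimeSpectrum.zeroLocus {g} := by
      rw [PrimeSpectrum.zeroLocus_sup, PrimeSpectrum.zeroLocus_radical, PrimeSpectrum.zeroLocus_span]
    refine ⟨m + 1, Fin.cons (I.radical, g) s, fun i j hij => ?_, ?_, fun i => ?_, fun i => ?_⟩
    · induction j using Fin.cases with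
      | zero => exact absurd hij (Fin.not_lt_zero i)
      | succ j =>
        induction i using Fin.cases with
        | zero =>
          simp only [Fin.cons_zero, Fin.cons_succ]
          exact (hsub j).trans (hz.le.trans Set.inter_subset_right)
        | succ i =>
          simp only [Fin.cons_succ]
          exact hlt i j (Fin.succ_lt_succ_iff.mp hij)
    · ext x
      simp only [Set.mem_iUnion, Fin.exists_fin_succ, Fin.cons_zero, Fin.cons_succ]
      rw [← Set.mem_iUnion, hun, hz, PrimeSpectrum.zeroLocus_radical, PrimeSpectrum.basicOpen_eq_zeroLocus_compl]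
      simp only [Set.mem_inter_iff, Set.mem_compl_iff]
      tauto
    · induction i using Fin.cases with
      | zero => simp only [Fin.cons_zero, PrimeSpectrum.zeroLocus_radical]; exact subset_rfl
      | succ i => simp only [Fin.cons_succ]; exact (hsub i).trans (hz.le.trans Set.inter_subset_left)
    · induction i using Fin.cases with
      | zero => exact hflat
      | succ i => exact hfl i


end Groth.L07.GrStrata
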