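import Groth.Agent.L03.RegImmFlat
import Groth.Agent.L14.PPSmooth.QRDescent
import Mathlib.RingTheory.Flat.FaithfullyFlat.Basic
import Mathlib.RingTheory.Localization.BaseChange

/-!
`H₁`-regular sequences: faithfully flat descent, locality, change of generators.
-/

set_option autoImplicit false
set_option linter.style.haveILetI false
set_option maxSynthPendingDepth 3

universe u

open TensorProduct

namespace Groth.L07.H1Seq

variable {A B : Type u} [CommRing A] [CommRing B]

/-- The module of trivial relations. -/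
def Triv {c : ℕ} (f : Fin c → A) : Submodule A (Fin c → A) :=
  Submodule.span A {v : Fin c → A | ∃ i j : Fin c, v = Pi.single i (f j) - Pi.single j (f i)}

theorem isH1Regular_iff {c : ℕ} {f : Fin c → A} :
    CAlgX.IsH1Regular f ↔ ∀ a : Fin c → A, ∑ i, a i * f i = 0 → a ∈ Triv f := Iff.rfl

/-- The antisymmetric combination of two vectors is a trivial relation. -/
theorem cross_mem_triv {c : ℕ} (f x y : Fin c → A) :
    (∑ i, y i * f i) • x - (∑ i, x i * f i) • y ∈ Triv f := by
  have e : (∑ i, y i * f i) • x - (∑ i, x i * f i) • y =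
      ∑ i, ∑ j, (x i * y j) • (Pi.single i (f j) - Pi.single j (f i)) := by
    funext k
    simp only [Pi.sub_apply, Pi.smul_apply, smul_eq_mul, Finset.sum_apply, mul_sub,
      Finset.sum_sub_distrib, Pi.single_apply, mul_ite, mul_zero]
    congr 1
    · rw [Finset.sum_comm]
      simp only [Finset.sum_ite_eq, Finset.mem_univ, if_true]
      rw [Finset.sum_mul]
      exact Finset.sum_congr rfl fun j _ => by ring
    · simp only [Finset.sum_ite_eq, Finset.mem_univ, if_true]
      rw [Finset.sum_mul]
      exact Finset.sum_congr rfl fun i _ => by ring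
  rw [e]
  exact Submodule.sum_mem _ fun i _ => Submodule.sum_mem _ fun j _ =>
    Submodule.smul_mem _ _ (Submodule.subset_span ⟨i, j, rfl⟩)

theorem isH1Regular_of_eq_top {c : ℕ} {f : Fin c → A} (h : Ideal.span (Set.range f) = ⊤) :
    CAlgX.IsH1Regular f := by
  intro a ha
  obtain ⟨y, hy⟩ := Ideal.mem_span_range_iff_exists_fun.1
    (show (1 : A) ∈ Ideal.span (Set.range f) from h ▸ Submodule.mem_top)
  have := cross_mem_triv f a y
  rwa [hy, ha, one_smul, zero_smul, sub_zero] at this

/-- A relation which becomes trivial in `B` is killed in `B ⊗ (A^c / Triv f)`. -/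
theorem one_tmul_eq_zero [Algebra A B] {c : ℕ} (f : Fin c → A) (a : Fin c → A)
    (h : (fun i => algebraMap A B (a i)) ∈ Triv fun i => algebraMap A B (f i)) :
    (1 : B) ⊗ₜ[A] (Submodule.Quotient.mk a : (Fin c → A) ⧸ Triv f) = 0 := by
  classical
  let θ : (Fin c → B) →ₗ[B] B ⊗[A] ((Fin c → A) ⧸ Triv f) :=
    Fintype.linearCombination B fun i =>
      (1 : B) ⊗ₜ[A] (Submodule.Quotient.mk (Pi.single i 1) : (Fin c → A) ⧸ Triv f)
  have hθ : ∀ v : Fin c → A, θ (fun i => algebraMap A B (v i)) =
      (1 : B) ⊗ₜ[A] (Submodule.Quotient.mk v : (Fin c → A) ⧸ Triv f) := by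
    intro v
    simp only [θ, Fintype.linearCombination_apply, algebraMap_smul]
    conv_rhs => rw [pi_eq_sum_univ' v]
    rw [← Submodule.mkQ_apply, map_sum, tmul_sum]
    refine Finset.sum_congr rfl fun i _ => ?_
    rw [map_smul, tmul_smul, Submodule.mkQ_apply]
  have hker : Triv (fun i => algebraMap A B (f i)) ≤ LinearMap.ker θ := by
    refine Submodule.span_le.2 ?_
    rintro _ ⟨i, j, rfl⟩
    have e : (Pi.single i (algebraMap A B (f j)) - Pi.single j (algebraMap A B (f i)) : Fin c → B) =
        fun k => algebraMap A B ((Pi.single i (f j) - Pi.single j (f i) : Fin c → A) k) := by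
      funext k
      simp [Pi.single_apply, apply_ite (algebraMap A B)]
    rw [SetLike.mem_coe, LinearMap.mem_ker, e, hθ]
    have : (Submodule.Quotient.mk (Pi.single i (f j) - Pi.single j (f i)) : (Fin c → A) ⧸ Triv f) = 0 :=
      (Submodule.Quotient.mk_eq_zero _).2 (Submodule.subset_span ⟨i, j, rfl⟩)
    rw [this, tmul_zero]
  rw [← hθ]
  exact hker h

theorem isH1Regular_of_faithfullyFlat [Algebra A B] [Module.FaithfullyFlat A B] {c : ℕ}
    {f : Fin c → A} (h : CAlgX.IsH1Regular fun i => algebraMap A B (f i)) : CAlgX.IsH1Regular f := by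
  intro a ha
  refine (Submodule.Quotient.mk_eq_zero (Triv f)).1 ?_
  refine Module.FaithfullyFlat.tensorProduct_mk_injective (A := A) (B := B) _ ?_
  rw [map_zero]
  refine one_tmul_eq_zero f a (h _ ?_)
  simp only [← map_mul, ← map_sum, ha, map_zero]

theorem isH1Regular_of_forall_atPrime {c : ℕ} {f : Fin c → A}
    (h : ∀ (P : Ideal A) [P.IsMaximal], Ideal.span (Set.range f) ≤ P →
      CAlgX.IsH1Regular fun i => algebraMap A (Localization.AtPrime P) (f i)) :
    CAlgX.IsH1Regular f := by
  intro a ha
  by_contra hne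
  let I : Ideal A := (Triv f).comap (LinearMap.toSpanSingleton A (Fin c → A) a)
  have hI : I ≠ ⊤ := fun e => hne (by
    have : (1 : A) ∈ I := e ▸ Submodule.mem_top
    rw [Submodule.mem_comap, LinearMap.toSpanSingleton_apply, one_smul] at this
    exact this)
  obtain ⟨P, hP, hle⟩ := Ideal.exists_le_maximal I hI
  haveI := hP
  have hfP : Ideal.span (Set.range f) ≤ P := by
    refine le_trans ?_ hle
    refine Ideal.span_le.2 ?_
    rintro _ ⟨k, rfl⟩
    show f k • a ∈ Triv f
    have := cross_mem_triv f a (Pi.single k 1)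
    have e : ∑ i, (Pi.single k 1 : Fin c → A) i * f i = f k := by simp [Pi.single_apply]
    rwa [ha, e, zero_smul, sub_zero] at this
  let L := Localization.AtPrime P
  have h0 : (1 : L) ⊗ₜ[A] (Submodule.Quotient.mk a : (Fin c → A) ⧸ Triv f) = 0 :=
    one_tmul_eq_zero f a (h P hfP _ (by simp only [L, ← map_mul, ← map_sum, ha, map_zero]))
  haveI : IsLocalizedModule P.primeCompl (TensorProduct.mk A L ((Fin c → A) ⧸ Triv f) 1) :=
    (isLocalizedModule_iff_isBaseChange P.primeCompl L _).2 (TensorProduct.isBaseChange A _ L)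
  obtain ⟨⟨s, hs⟩, hs'⟩ := (IsLocalizedModule.eq_zero_iff P.primeCompl
    (TensorProduct.mk A L ((Fin c → A) ⧸ Triv f) 1)).1 h0
  refine hs (hle ?_)
  show s • a ∈ Triv f
  rw [← Submodule.Quotient.mk_eq_zero, Submodule.Quotient.mk_smul]
  exact hs'

/-- Quasi-regularity in degree one. -/
theorem mem_of_relation {c : ℕ} {f : Fin c → A} (hf : CAlgX.IsH1Regular f) {a : Fin c → A}
    (ha : ∑ i, a i * f i = 0) (i : Fin c) : a i ∈ Ideal.span (Set.range f) := by
  have hle : Triv f ≤ Submodule.pi Set.univ fun _ => Ideal.span (Set.range f) := by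
    refine Submodule.span_le.2 ?_
    rintro _ ⟨i, j, rfl⟩ k -
    have hm : ∀ l, f l ∈ Ideal.span (Set.range f) := fun l => Ideal.subset_span ⟨l, rfl⟩
    simp only [Pi.sub_apply, Pi.single_apply]
    split_ifs <;> (try simp only [sub_zero, zero_sub]) <;>
      first
        | exact sub_mem (hm _) (hm _)
        | exact neg_mem (hm _)
        | exact hm _
        | exact zero_mem _
  exact hle (hf a ha) i (Set.mem_univ i)

theorem exists_matrix {c d : ℕ} {f : Fin c → A} {g : Fin d → A}
    (e : Ideal.span (Set.range g) = Ideal.span (Set.range f)) :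
    ∃ U : Matrix (Fin d) (Fin c) A, ∀ i, g i = ∑ j, U i j * f j := by
  choose U hU using fun i => Ideal.mem_span_range_iff_exists_fun.1
    (e.le (Ideal.subset_span ⟨i, rfl⟩))
  exact ⟨U, fun i => (hU i).symm⟩

theorem mul_map_eq_one {c d : ℕ} {f : Fin c → A} {g : Fin d → A} (hf : CAlgX.IsH1Regular f)
    {P : Ideal A} (hP : Ideal.span (Set.range f) ≤ P) {U : Matrix (Fin d) (Fin c) A}
    (hU : ∀ i, g i = ∑ j, U i j * f j) {V : Matrix (Fin c) (Fin d) A}
    (hV : ∀ i, f i = ∑ j, V i j * g j) :
    V.map (Ideal.Quotient.mk P) * U.map (Ideal.Quotient.mk P) = 1 := by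
  classical
  rw [← Matrix.map_mul]
  ext i k
  have h := mem_of_relation hf (a := fun k => (V * U) i k - if i = k then 1 else 0) (by
    simp only [sub_mul, Finset.sum_sub_distrib, ite_mul, one_mul, zero_mul, Finset.sum_ite_eq,
      Finset.mem_univ, if_true, Matrix.mul_apply, Finset.sum_mul]
    rw [Finset.sum_comm, sub_eq_zero]
    conv_rhs => rw [hV i]
    refine Finset.sum_congr rfl fun j _ => ?_
    rw [hU j, Finset.mul_sum]
    exact Finset.sum_congr rfl fun l _ => mul_assoc _ _ _) k
  rw [Matrix.map_apply, Ideal.Quotient.eq.2 (hP h)]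
  by_cases hik : i = k
  · subst hik; simp
  · simp [hik]

theorem length_le {c d : ℕ} {f : Fin c → A} {g : Fin d → A} (hf : CAlgX.IsH1Regular f)
    (hne : Ideal.span (Set.range f) ≠ ⊤) (e : Ideal.span (Set.range g) = Ideal.span (Set.range f)) :
    c ≤ d := by
  obtain ⟨U, hU⟩ := exists_matrix e
  obtain ⟨V, hV⟩ := exists_matrix e.symm
  obtain ⟨P, hP, hle⟩ := Ideal.exists_le_maximal _ hne
  haveI := hP.isPrime
  refine Groth.L14.LocQR.le_of_mul_eq_scalar (V.map (Ideal.Quotient.mk P))
    (U.map (Ideal.Quotient.mk P)) (c := 1) one_ne_zero ?_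
  rw [mul_map_eq_one hf hle hU hV, one_smul]

/-- Change of generators by an invertible matrix. -/
theorem isH1Regular_of_isUnit_det {c : ℕ} {f g : Fin c → A} (hf : CAlgX.IsH1Regular f)
    (U : Matrix (Fin c) (Fin c) A) (hU : ∀ i, g i = ∑ j, U i j * f j) (hdet : IsUnit U.det) :
    CAlgX.IsH1Regular g := by
  classical
  obtain ⟨W, hW⟩ : ∃ W, U * W = 1 := ⟨U⁻¹, Matrix.mul_nonsing_inv U hdet⟩
  have hW' : W * U = 1 := mul_eq_one_comm.1 hW
  have hf' : ∀ i, f i = ∑ j, W i j * g j := by
    intro i
    have : (W * U).mulVec f i = f i := by rw [hW', Matrix.one_mulVec]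
    rw [← this, ← Matrix.mulVec_mulVec]
    simp only [Matrix.mulVec, dotProduct]
    exact Finset.sum_congr rfl fun j _ => by rw [hU j]
  intro b hb
  let ψ : (Fin c → A) →ₗ[A] (Fin c → A) := Matrix.toLin' W.transpose
  have hback : ψ (Matrix.toLin' U.transpose b) = b := by
    rw [← LinearMap.comp_apply, ← Matrix.toLin'_mul, ← Matrix.transpose_mul, hW,
      Matrix.transpose_one, Matrix.toLin'_one, LinearMap.id_apply]
  have hrel : ∑ j, Matrix.toLin' U.transpose b j * f j = 0 := by
    rw [← hb]
    simp only [Matrix.toLin'_apply, Matrix.mulVec, dotProduct, Matrix.transpose_apply, Finset.sum_mul]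
    rw [Finset.sum_comm]
    refine Finset.sum_congr rfl fun i _ => ?_
    rw [hU i, Finset.mul_sum]
    exact Finset.sum_congr rfl fun j _ => by ring
  have hmap : Triv f ≤ (Triv g).comap ψ := by
    refine Submodule.span_le.2 ?_
    rintro _ ⟨i, j, rfl⟩
    show ψ _ ∈ Triv g
    have := cross_mem_triv g (fun l => W i l) (fun l => W j l)
    rw [← hf' i, ← hf' j] at this
    convert this using 1
    funext l
    simp only [ψ, Matrix.toLin'_apply, Matrix.mulVec_sub, Matrix.mulVec_single, Pi.sub_apply,
      Pi.smul_apply, MulOpposite.smul_eq_mul_unop, MulOpposite.unop_op, Matrix.col_apply,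
      Matrix.transpose_apply, smul_eq_mul]
    ring
  rw [← hback]
  exact hmap (hf _ hrel)

theorem isH1Regular_of_span_eq {c : ℕ} {f g : Fin c → A} (hf : CAlgX.IsH1Regular f)
    (e : Ideal.span (Set.range g) = Ideal.span (Set.range f)) : CAlgX.IsH1Regular g := by
  classical
  obtain ⟨U, hU⟩ := exists_matrix e
  obtain ⟨V, hV⟩ := exists_matrix e.symm
  refine isH1Regular_of_forall_atPrime fun P _ hP => ?_
  let ι := algebraMap A (Localization.AtPrime P)
  haveI : Module.Flat A (Localization.AtPrime P) := IsLocalization.flat _ P.primeCompl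
  have h := Groth.L03.RegImmFlat.isH1Regular_map ι
    (RingHom.flat_algebraMap_iff.2 inferInstance) hf
  refine isH1Regular_of_isUnit_det h (U.map ι) (fun i => ?_) ?_
  · simp only [Matrix.map_apply, Function.comp_apply, ← map_mul, ← map_sum, ← hU i]
    rfl
  · rw [← RingHom.mapMatrix_apply, ← RingHom.map_det]
    refine IsLocalization.map_units (Localization.AtPrime P) (⟨U.det, fun hdet => ?_⟩ : P.primeCompl)
    have h1 := congrArg Matrix.det (mul_map_eq_one hf (e ▸ hP) hU hV)
    rw [Matrix.det_mul, Matrix.det_one, ← RingHom.mapMatrix_apply, ← RingHom.mapMatrix_apply,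
      ← RingHom.map_det, ← RingHom.map_det, Ideal.Quotient.eq_zero_iff_mem.2 hdet, mul_zero] at h1
    haveI : Nontrivial (A ⧸ P) :=
      Ideal.Quotient.nontrivial_iff.2 (inferInstance : P.IsMaximal).ne_top
    exact zero_ne_one h1

/-- `H₁`-regularity of a list. -/
def H1 (A : Type u) [CommRing A] (l : List A) : Prop := CAlgX.IsH1Regular l.get

theorem span_range_get (l : List A) : Ideal.span (Set.range l.get) = Ideal.ofList l := by
  rw [Set.range_list_get]

theorem h1_map (φ : A →+* B) (hφ : φ.Flat) {l : List A} (h : H1 A l) : H1 B (l.map φ) := by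
  unfold H1
  rw [Groth.L03.RegImmFlat.get_map_eq]
  exact Groth.L03.RegImmFlat.isH1Regular_cast (List.length_map (f := φ))
    (Groth.L03.RegImmFlat.isH1Regular_map φ hφ h)

theorem h1_of_map (φ : A →+* B) (hφ : φ.FaithfullyFlat) (l : List A) (h : H1 B (l.map φ)) :
    H1 A l := by
  letI := φ.toAlgebra
  haveI : Module.FaithfullyFlat A B := hφ
  unfold H1 at h
  rw [Groth.L03.RegImmFlat.get_map_eq] at h
  refine isH1Regular_of_faithfullyFlat (B := B) ?_
  have := Groth.L03.RegImmFlat.isH1Regular_cast (List.length_map (f := φ) (as := l)).symm h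
  exact this

theorem h1_of_eq_top {l : List A} (h : Ideal.ofList l = ⊤) : H1 A l :=
  isH1Regular_of_eq_top (by rw [span_range_get, h])

theorem h1_length_le {h f : List A} (hh : H1 A h) (hne : Ideal.ofList h ≠ ⊤)
    (e : Ideal.ofList h = Ideal.ofList f) : h.length ≤ f.length :=
  length_le hh (by rwa [span_range_get]) (by rw [span_range_get, span_range_get, e])

theorem h1_of_length_le {f h : List A} (hh : H1 A h) (e : Ideal.ofList h = Ideal.ofList f)
    (hle : f.length ≤ h.length) : H1 A f := by
  by_cases ht : Ideal.ofList h = ⊤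
  · exact h1_of_eq_top (e ▸ ht)
  · have hlen : f.length = h.length := le_antisymm hle (h1_length_le hh ht e)
    refine isH1Regular_of_span_eq (Groth.L03.RegImmFlat.isH1Regular_cast hlen hh) ?_
    rw [span_range_get, ← e, ← span_range_get,
      (show Function.Surjective (Fin.cast hlen) from (finCongr hlen).surjective).range_comp h.get]

theorem h1_of_forall_atPrime (l : List A)
    (h : ∀ (P : Ideal A) [P.IsMaximal], Ideal.ofList l ≤ P →
      H1 (Localization.AtPrime P) (l.map (algebraMap A (Localization.AtPrime P)))) : H1 A l := by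
  refine isH1Regular_of_forall_atPrime fun P _ hP => ?_
  have h' : CAlgX.IsH1Regular (l.map (algebraMap A (Localization.AtPrime P))).get :=
    h P (by rwa [span_range_get] at hP)
  rw [Groth.L03.RegImmFlat.get_map_eq] at h'
  have := Groth.L03.RegImmFlat.isH1Regular_cast
    (List.length_map (f := algebraMap A (Localization.AtPrime P)) (as := l)).symm h'
  exact this

end Groth.L07.H1Seq
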