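import Groth.Agent.L18.IdealModule
import Groth.Agent.L22.Ideal

/-!
Isomorphisms between nested invertible ideals are multiplications by a global function.
-/

set_option autoImplicit false
set_option linter.style.haveILetI false
set_option backward.isDefEq.respectTransparency.types false
set_option backward.isDefEq.respectTransparency false

universe u

open CategoryTheory CategoryTheory.Limits AlgebraicGeometry TopologicalSpace Opposite

noncomputable section

namespace Groth.L07.IdealModEndo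

open Groth.L18.Frame (rs ro rs_rs ro_ro rs_smul)

variable {X : Scheme.{u}}

/-- Inclusion of the sections of an ideal. -/
def incl (I : X.IdealSheafData) (V : X.Opens) (m : Γ(ClSub.idealMod I, V)) : Γ(X, V) :=
  (ClSub.idealModι I).app V m

theorem incl_smul (I : X.IdealSheafData) (V : X.Opens) (r : Γ(X, V)) (m : Γ(ClSub.idealMod I, V)) :
    incl I V (r • m) = r * incl I V m :=
  Scheme.Modules.Hom.app_smul (ClSub.idealModι I) r m

theorem incl_res (I : X.IdealSheafData) {U V : X.Opens} (h : V ≤ U) (m : Γ(ClSub.idealMod I, U)) :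
    incl I V (rs _ h m) = ro h (incl I U m) :=
  congrArg (fun φ => φ m) ((ClSub.idealModι I).mapPresheaf.naturality (homOfLE h).op)

theorem incl_injective (I : X.IdealSheafData) (V : X.Opens) : Function.Injective (incl I V) :=
  (Groth.L18.IdealModule.exact_sections I V).1

variable {D₁ D₂ : X.IdealSheafData} (ψ : ClSub.idealMod D₁ ⟶ ClSub.idealMod D₂)

/-- The property of being the multiplier. -/
def IsMult (V : X.Opens) (a : Γ(X, V)) : Prop :=
  ∀ m : Γ(ClSub.idealMod D₁, V), incl D₂ V (ψ.app V m) = a * incl D₁ V m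

variable [IsIso ψ]

theorem exists_nhd (h₁ : BlowUp.IsEffCartierIdeal D₁) (hle : D₂ ≤ D₁) (x : X) :
    ∃ U : X.affineOpens, x ∈ U.1 ∧ ∀ (V : X.affineOpens) (_ : V.1 ≤ U.1), ∃ a : Γ(X, V.1),
      IsMult ψ V.1 a ∧ a ∈ nonZeroDivisors Γ(X, V.1) ∧ (∀ b, IsMult ψ V.1 b → b = a) ∧
      ∀ (W : X.affineOpens) (hWV : W.1 ≤ V.1), IsMult ψ W.1 (ro hWV a) := by
  obtain ⟨U, hx, f, hf, -, hU⟩ := Groth.L22.Ideals.exists_generator h₁ x
  refine ⟨U, hx, fun V hVU => ?_⟩
  obtain ⟨hfV, hV⟩ := hU V hVU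
  set g : Γ(X, V.1) := X.presheaf.map (homOfLE hVU).op f
  obtain ⟨m₀, hm₀⟩ := (Groth.L18.IdealModule.mem_ideal_iff D₁ V.2 g).1 (hV ▸ Ideal.mem_span_singleton_self g)
  have hd : incl D₂ V.1 (ψ.app V.1 m₀) ∈ D₁.ideal V :=
    hle V ((Groth.L18.IdealModule.mem_ideal_iff D₂ V.2 _).2 ⟨_, rfl⟩)
  rw [hV] at hd
  obtain ⟨a, ha⟩ := Ideal.mem_span_singleton'.1 hd
  have hm₀' : incl D₁ V.1 m₀ = g := hm₀
  have hgen : ∀ m, ∃ r : Γ(X, V.1), m = r • m₀ := fun m => by
    have hm : incl D₁ V.1 m ∈ D₁.ideal V := (Groth.L18.IdealModule.mem_ideal_iff D₁ V.2 _).2 ⟨m, rfl⟩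
    rw [hV] at hm
    obtain ⟨r, hr⟩ := Ideal.mem_span_singleton'.1 hm
    exact ⟨r, incl_injective D₁ V.1 (by rw [incl_smul, hm₀', hr])⟩
  have hmult : IsMult ψ V.1 a := fun m => by
    obtain ⟨r, rfl⟩ := hgen m
    rw [Scheme.Modules.Hom.app_smul, incl_smul, incl_smul, ← ha, hm₀']
    ring
  have hψ : Function.Injective (ψ.app V.1) := fun p q h => by
    have := congrArg ((inv ψ).app V.1) h
    have e : ∀ z, (inv ψ).app V.1 (ψ.app V.1 z) = z := fun z =>
      congrArg (fun φ : ClSub.idealMod D₁ ⟶ ClSub.idealMod D₁ => φ.app V.1 z) (IsIso.hom_inv_id ψ)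
    rwa [e, e] at this
  refine ⟨a, hmult, ?_, fun b hb => ?_, fun W hWV => ?_⟩
  · rw [mem_nonZeroDivisors_iff_right]
    intro r hr
    have h0 : incl D₂ V.1 (ψ.app V.1 (r • m₀)) = 0 := by
      rw [hmult, incl_smul, hm₀', ← mul_assoc, mul_comm a r, hr, zero_mul]
    have h1 : r • m₀ = 0 := by
      refine hψ ((incl_injective D₂ V.1 ?_).trans (map_zero _).symm)
      rw [h0]
      exact (map_zero ((ClSub.idealModι D₂).app V.1).hom).symm
    have h2 := congrArg (incl D₁ V.1) h1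
    rw [incl_smul, hm₀'] at h2
    exact hfV.2 _ (h2.trans (map_zero ((ClSub.idealModι D₁).app V.1).hom))
  · refine (mul_cancel_right_mem_nonZeroDivisors hfV).1 ?_
    rw [← hm₀', ← hb, hmult]
  · intro m
    obtain ⟨hgW, hW⟩ := hU W (hWV.trans hVU)
    have hgen' : ∃ r : Γ(X, W.1), m = r • rs _ hWV m₀ := by
      have hm : incl D₁ W.1 m ∈ D₁.ideal W := (Groth.L18.IdealModule.mem_ideal_iff D₁ W.2 _).2 ⟨m, rfl⟩
      rw [hW] at hm
      obtain ⟨r, hr⟩ := Ideal.mem_span_singleton'.1 hm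
      refine ⟨r, incl_injective D₁ W.1 ?_⟩
      rw [incl_smul, incl_res, hm₀', ← hr]
      exact congrArg (r * ·) (ro_ro hVU hWV f).symm
    obtain ⟨r, rfl⟩ := hgen'
    have hnat : ψ.app W.1 (rs _ hWV m₀) = rs _ hWV (ψ.app V.1 m₀) :=
      congrArg (fun φ => φ m₀) (ψ.mapPresheaf.naturality (homOfLE hWV).op)
    rw [Scheme.Modules.Hom.app_smul, incl_smul, incl_smul, hnat, incl_res, incl_res, hmult,
      show ro hWV (a * incl D₁ V.1 m₀) = ro hWV a * ro hWV (incl D₁ V.1 m₀) from map_mul _ _ _]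
    ring

include ψ in
/-- An iso of an invertible ideal onto a smaller one is a non-zero-divisor global function; where it is a
unit the ideals agree. -/
theorem eq_of_isUnit (h₁ : BlowUp.IsEffCartierIdeal D₁) (hle : D₂ ≤ D₁)
    (hunit : ∀ a : Γ(X, ⊤), a ∈ nonZeroDivisors Γ(X, ⊤) → IsUnit a) : D₁ = D₂ := by
  choose U hxU hU using exists_nhd ψ h₁ hle
  choose a ha using fun x : X => hU x (U x) le_rfl
  have hcov : (⊤ : X.Opens) ≤ ⨆ x, (U x).1 := fun x _ => Opens.mem_iSup.2 ⟨x, hxU x⟩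
  have hcompat : TopCat.Presheaf.IsCompatible X.sheaf.obj (fun x => (U x).1) a := by
    intro x y
    refine TopCat.Presheaf.section_ext X.sheaf _ _ _ fun z hz => ?_
    obtain ⟨_, ⟨W, hW, rfl⟩, hzW, hWle⟩ := X.isBasis_affineOpens.exists_subset_of_mem_open hz ((U x).1 ⊓ (U y).1).2
    have hWx : W ≤ (U x).1 := fun w hw => (hWle hw).1
    have hWy : W ≤ (U y).1 := fun w hw => (hWle hw).2
    obtain ⟨c, -, -, huniq, -⟩ := hU x ⟨W, hW⟩ hWx
    have e : ro hWx (a x) = ro hWy (a y) :=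
      (huniq _ ((ha x).2.2.2 ⟨W, hW⟩ hWx)).trans (huniq _ ((ha y).2.2.2 ⟨W, hW⟩ hWy)).symm
    refine (TopCat.Presheaf.germ_res_apply X.presheaf _ z hz (a x)).trans ?_
    refine Eq.trans ?_ (TopCat.Presheaf.germ_res_apply X.presheaf _ z hz (a y)).symm
    refine (TopCat.Presheaf.germ_res_apply X.presheaf (homOfLE hWx) z hzW (a x)).symm.trans ?_
    exact (congrArg _ e).trans (TopCat.Presheaf.germ_res_apply X.presheaf (homOfLE hWy) z hzW (a y))
  obtain ⟨g, hg, -⟩ := X.sheaf.existsUnique_gluing' (fun x => (U x).1) ⊤ (fun x => homOfLE le_top) hcov a hcompat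
  have hgu : IsUnit g := by
    refine hunit g ?_
    rw [mem_nonZeroDivisors_iff_right]
    intro r hr
    refine TopCat.Sheaf.eq_of_locally_eq' X.sheaf (fun x => (U x).1) ⊤ (fun x => homOfLE le_top) hcov r 0 fun x => ?_
    rw [map_zero]
    refine (ha x).2.1.2 _ ?_
    rw [← hg x]
    exact ((map_mul (X.presheaf.map (homOfLE le_top).op).hom r g).symm.trans (congrArg _ hr)).trans (map_zero _)
  refine Scheme.IdealSheafData.ext_of_iSup_eq_top U (eq_top_iff.2 hcov) fun x => ?_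
  refine le_antisymm (fun d hd => ?_) (hle (U x))
  obtain ⟨u, hu⟩ : IsUnit (a x) := hg x ▸ hgu.map (X.presheaf.map (homOfLE le_top).op).hom
  obtain ⟨m, hm⟩ := (Groth.L18.IdealModule.mem_ideal_iff D₁ (U x).2 d).1 hd
  have hmem : a x * d ∈ D₂.ideal (U x) :=
    (Groth.L18.IdealModule.mem_ideal_iff D₂ (U x).2 _).2 ⟨ψ.app _ m, by
      show incl D₂ _ (ψ.app _ m) = _
      rw [(ha x).1 m]
      exact congrArg (a x * ·) hm⟩
  have := Ideal.mul_mem_left (D₂.ideal (U x)) ↑u⁻¹ hmem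
  rwa [← hu, ← mul_assoc, Units.inv_mul, one_mul] at this

end Groth.L07.IdealModEndo
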