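import Groth.Agent.S2463
import Groth.Prelude.Def_CAlgX
import Mathlib.RingTheory.Smooth.StandardSmoothCotangent
import Mathlib.RingTheory.Kaehler.Basic
import Mathlib.RingTheory.Smooth.Locus
import Mathlib.LinearAlgebra.TensorProduct.RightExactness
import Mathlib.LinearAlgebra.TensorProduct.Tower

/-!
Smoothness of a complete intersection in a standard smooth algebra, read on the rank of the
differentials at the point.
-/

set_option autoImplicit false
set_option linter.style.haveILetI false

universe u

open TensorProduct KaehlerDifferential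

namespace Groth.L07.JacobianLocus

/-- The linear part of quasi-regularity: relations modulo the square of the ideal have coefficients in it. -/
def LinQuasi {D : Type u} [CommRing D] {c : ℕ} (f : Fin c → D) : Prop :=
  ∀ a : Fin c → D, ∑ j, a j * f j ∈ Ideal.span (Set.range f) ^ 2 → ∀ j, a j ∈ Ideal.span (Set.range f)

theorem linQuasi_of_isQuasiRegular {D : Type u} [CommRing D] {c : ℕ} {f : Fin c → D}
    (h : CAlgX.IsQuasiRegular f) : LinQuasi f := by
  classical
  intro a ha i
  have := h 1 (∑ j, MvPolynomial.C (a j) * MvPolynomial.X j)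
    (MvPolynomial.IsHomogeneous.sum _ _ _ fun j _ => (MvPolynomial.isHomogeneous_X _ j).C_mul _)
    (by simpa using ha) (Finsupp.single i 1)
  simpa [MvPolynomial.coeff_sum, MvPolynomial.coeff_C_mul, MvPolynomial.coeff_X,
    Finsupp.single_left_inj one_ne_zero] using this

theorem linQuasi_localization {B L : Type u} [CommRing B] [CommRing L] [Algebra B L] (S : Submonoid B)
    [IsLocalization S L] {c : ℕ} {f : Fin c → B} (h : LinQuasi f) : LinQuasi (algebraMap B L ∘ f) := by
  classical
  intro a ha i
  have hsp : Ideal.span (Set.range (algebraMap B L ∘ f)) = (Ideal.span (Set.range f)).map (algebraMap B L) := by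
    rw [Ideal.map_span, ← Set.range_comp]
  rw [hsp] at ha ⊢
  obtain ⟨s, hs⟩ := IsLocalization.exist_integer_multiples_of_finite S a
  choose b hb using hs
  have hb' : ∀ j, algebraMap B L (b j) = algebraMap B L s * a j := fun j => by
    have := hb j; rwa [Algebra.smul_def] at this
  have h1 : algebraMap B L (∑ j, b j * f j) ∈ (Ideal.span (Set.range f) ^ 2).map (algebraMap B L) := by
    rw [Ideal.map_pow, map_sum]
    simp only [map_mul, hb', mul_assoc, ← Finset.mul_sum]
    exact Ideal.mul_mem_left _ _ ha
  obtain ⟨t, ht, htmem⟩ := (IsLocalization.algebraMap_mem_map_algebraMap_iff S _ _ _).1 h1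
  have h2 := h (fun j => t * b j) (by
    rw [show ∑ j, t * b j * f j = t * ∑ j, b j * f j by simp [Finset.mul_sum, mul_assoc]]
    exact htmem) i
  have h3 := Ideal.mem_map_of_mem (algebraMap B L) h2
  rw [map_mul, hb', ← mul_assoc] at h3
  exact (Ideal.unit_mul_mem_iff_mem _
    ((IsLocalization.map_units L ⟨t, ht⟩).mul (IsLocalization.map_units L s))).1 h3

variable {A D C : Type u} [CommRing A] [CommRing D] [CommRing C] [Algebra A D] [Algebra A C] [Algebra D C]
  [IsScalarTower A D C]

/-- The criterion. -/
theorem isSmoothAt_iff_finrank_le (hsurj : Function.Surjective (algebraMap D C)) {m c : ℕ}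
    [Algebra.IsStandardSmoothOfRelativeDimension (m + c) A D] (f : Fin c → D)
    (hker : RingHom.ker (algebraMap D C) = Ideal.span (Set.range f)) (hq : LinQuasi f)
    (p : Ideal C) [p.IsPrime] :
    Algebra.IsSmoothAt A p ↔ Module.finrank p.ResidueField (p.ResidueField ⊗[C] Ω[C⁄A]) ≤ m := by
  classical
  let κ := p.ResidueField
  haveI : Nontrivial C := ⟨⟨0, 1, fun h => (‹p.IsPrime›).ne_top (Ideal.eq_top_of_isUnit_mem _ p.zero_mem (h ▸ isUnit_one))⟩⟩
  haveI : Nontrivial D := (algebraMap D C).domain_nontrivial
  haveI hstd : Algebra.IsStandardSmooth A D :=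
    Algebra.IsStandardSmoothOfRelativeDimension.isStandardSmooth (n := m + c)
  let J := RingHom.ker (algebraMap D C)
  have hfJ : ∀ j, f j ∈ J := fun j => hker.symm.le (Ideal.subset_span ⟨j, rfl⟩)
  let π : (Fin c → D) →ₗ[D] J.Cotangent :=
    Fintype.linearCombination D fun j => J.toCotangent ⟨f j, hfJ j⟩
  have hπv : ∀ v : Fin c → D, π v = J.toCotangent (∑ j, v j • (⟨f j, hfJ j⟩ : J)) := fun v => by
    rw [map_sum]
    simp only [map_smul]
    exact Fintype.linearCombination_apply D _ v
  have hπ : Function.Surjective π := by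
    intro z
    obtain ⟨⟨y, hy⟩, rfl⟩ := J.toCotangent_surjective z
    have hy' : y ∈ Ideal.span (Set.range f) := hker.le hy
    rw [Ideal.span, Submodule.mem_span_range_iff_exists_fun] at hy'
    obtain ⟨v, hv⟩ := hy'
    exact ⟨v, (hπv v).trans (congrArg J.toCotangent (Subtype.ext (by simpa using hv)))⟩
  haveI : Module.Finite D J.Cotangent := .of_surjective π hπ
  let toκ : (Fin c → D) →ₗ[D] (Fin c → κ) :=
    LinearMap.pi fun j => (Algebra.linearMap D κ).comp (LinearMap.proj j)
  have hkerπ : LinearMap.ker π ≤ LinearMap.ker toκ := by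
    intro v hv
    rw [LinearMap.mem_ker, hπv, Ideal.toCotangent_eq_zero] at hv
    refine LinearMap.mem_ker.2 (funext fun j => ?_)
    have hj : v j ∈ J := hker.symm.le (hq v (by rw [← hker]; simpa using hv) j)
    show algebraMap D κ (v j) = 0
    rw [IsScalarTower.algebraMap_apply D C κ, RingHom.mem_ker.1 hj, map_zero]
  let coord : J.Cotangent →ₗ[D] (Fin c → κ) :=
    (LinearMap.ker π).liftQ toκ hkerπ ∘ₗ (LinearMap.quotKerEquivOfSurjective π hπ).symm.toLinearMap
  have hcoord : ∀ v, coord (π v) = toκ v := fun v => by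
    simp only [coord, LinearMap.coe_comp, LinearEquiv.coe_coe, Function.comp_apply]
    rw [show π v = LinearMap.quotKerEquivOfSurjective π hπ (Submodule.Quotient.mk v) from
      (LinearMap.quotKerEquivOfSurjective_apply_mk π hπ _).symm, LinearEquiv.symm_apply_apply,
      Submodule.liftQ_apply]
  let σ : (Fin c → κ) →ₗ[κ] κ ⊗[D] J.Cotangent :=
    Fintype.linearCombination κ fun j => (1 : κ) ⊗ₜ π (Pi.single j 1)
  have hσs : Function.Surjective σ := by
    rw [← LinearMap.range_eq_top, eq_top_iff]
    intro z _
    induction z using TensorProduct.induction_on with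
    | zero => exact Submodule.zero_mem _
    | add a b ha hb => exact Submodule.add_mem _ (ha trivial) (hb trivial)
    | tmul k z =>
      obtain ⟨v, rfl⟩ := hπ z
      rw [pi_eq_sum_univ' v, map_sum, TensorProduct.tmul_sum]
      refine Submodule.sum_mem _ fun j _ => ?_
      rw [map_smul, TensorProduct.tmul_smul, TensorProduct.smul_tmul']
      exact ⟨Pi.single j (v j • k), by simp [σ, TensorProduct.smul_tmul']⟩
  have hσi : Function.Injective σ := by
    refine Function.LeftInverse.injective (g := coord.liftBaseChange κ) fun x => ?_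
    simp only [σ, Fintype.linearCombination_apply, map_sum, map_smul, LinearMap.liftBaseChange_tmul,
      one_smul, hcoord]
    funext i
    simp [toκ, Pi.single_apply, apply_ite (algebraMap D κ)]
  have hdimJ : Module.finrank κ (κ ⊗[D] J.Cotangent) = c := by
    rw [← (LinearEquiv.ofBijective σ ⟨hσi, hσs⟩).finrank_eq, Module.finrank_fin_fun]
  haveI : TensorProduct.CompatibleSMul D C κ (C ⊗[D] Ω[D⁄A]) := ⟨fun r k x => by
    obtain ⟨d, rfl⟩ := hsurj r
    rw [algebraMap_smul, algebraMap_smul, TensorProduct.smul_tmul]⟩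
  haveI : TensorProduct.CompatibleSMul D C κ Ω[C⁄A] := ⟨fun r k x => by
    obtain ⟨d, rfl⟩ := hsurj r
    rw [algebraMap_smul, algebraMap_smul, TensorProduct.smul_tmul]⟩
  let b := Module.finBasisOfFinrankEq D Ω[D⁄A] (n := m + c)
    (Module.finrank_eq_of_rank_eq (Algebra.IsStandardSmoothOfRelativeDimension.rank_kaehlerDifferential (m + c)))
  let bκ : Module.Basis (Fin (m + c)) κ (κ ⊗[D] (C ⊗[D] Ω[D⁄A])) :=
    ((b.baseChange C).baseChange κ).map
      (TensorProduct.equivOfCompatibleSMul C D κ κ (C ⊗[D] Ω[D⁄A])).symm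
  have hdimM : Module.finrank κ (κ ⊗[D] (C ⊗[D] Ω[D⁄A])) = m + c := by
    rw [Module.finrank_eq_card_basis bκ, Fintype.card_fin]
  haveI : Module.Finite κ (κ ⊗[D] (C ⊗[D] Ω[D⁄A])) := Module.Finite.of_basis bκ
  let d := (kerCotangentToTensor A D C).baseChange κ
  let e := ((mapBaseChange A D C).restrictScalars D).baseChange κ
  have hex : Function.Exact d e := by
    refine lTensor_exact κ ?_ ?_
    · exact exact_kerCotangentToTensor_mapBaseChange A D C hsurj
    · exact mapBaseChange_surjective A D C hsurj
  have hes : Function.Surjective e := LinearMap.lTensor_surjective κ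
    (g := (mapBaseChange A D C).restrictScalars D) (mapBaseChange_surjective A D C hsurj)
  have hdimΩ : Module.finrank κ (κ ⊗[D] Ω[C⁄A]) = Module.finrank κ (κ ⊗[C] Ω[C⁄A]) :=
    (TensorProduct.equivOfCompatibleSMul C D κ κ Ω[C⁄A]).finrank_eq
  have h1 := e.finrank_range_add_finrank_ker
  rw [LinearMap.exact_iff.1 hex, LinearMap.range_eq_top.2 hes, finrank_top, hdimM, hdimΩ] at h1
  have h2 := d.finrank_range_add_finrank_ker
  rw [hdimJ] at h2
  haveI : Module.Finite κ (κ ⊗[D] J.Cotangent) := inferInstance
  have hinj : Function.Injective d ↔ Module.finrank κ (LinearMap.ker d) = 0 := by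
    rw [← LinearMap.ker_eq_bot, Submodule.finrank_eq_zero]
  refine ((Groth.Agent.S2463.result (A := A) (B := D) (C := C) hsurj p).out 0 1).trans ?_
  show Function.Injective d ↔ _
  rw [hinj]
  have h3 : Module.finrank κ (κ ⊗[C] Ω[C⁄A]) = Module.finrank p.ResidueField (p.ResidueField ⊗[C] Ω[C⁄A]) := rfl
  constructor <;> intro h <;> omega

end Groth.L07.JacobianLocus
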