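import Groth.Agent.L06.PowSerFrobSub
import Mathlib.RingTheory.Kaehler.Basic
import Mathlib.RingTheory.MvPowerSeries.Derivative
import Mathlib.FieldTheory.IsAlgClosed.Basic
import Mathlib.LinearAlgebra.Quotient.Basic

/-! Differentials of a hypersurface in a power series ring over a perfect field of positive
characteristic. -/

set_option autoImplicit false
set_option linter.style.haveILetI false

namespace Groth.L07.KHyp

open MvPowerSeries Groth.L06.PowSerFrobSub
open scoped Pointwise

universe u v

variable {k : Type u} [Field k] {r : ℕ}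

/-- A derivation of power series is determined on monomials by the variables. -/
theorem monomial_eq {M : Type v} [AddCommGroup M] [Module (MvPowerSeries (Fin r) k) M] [Module k M]
    (D D' : Derivation k (MvPowerSeries (Fin r) k) M) (h : ∀ i, D (X i) = D' (X i))
    (e : Fin r →₀ ℕ) : D (monomial e 1) = D' (monomial e 1) := by
  induction e using Finsupp.induction_linear with
  | zero =>
    have h1 : monomial (0 : Fin r →₀ ℕ) (1 : k) = (1 : MvPowerSeries (Fin r) k) := by
      rw [monomial_zero_eq_C_apply, map_one]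
    rw [h1, D.map_one_eq_zero, D'.map_one_eq_zero]
  | add a b ha hb =>
    rw [show monomial (a + b) (1 : k) = monomial a (1 : k) * monomial b (1 : k) by
      rw [monomial_mul_monomial, one_mul], D.leibniz, D'.leibniz, ha, hb]
  | single i j => rw [← X_pow_eq, D.leibniz_pow, D'.leibniz_pow, h i]

/-- In characteristic `p` over an algebraically closed field, a derivation of power series is
determined by the variables. -/
theorem derivation_eq [IsAlgClosed k] (p : ℕ) [hp : Fact p.Prime] [CharP k p] {M : Type v} [AddCommGroup M]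
    [Module (MvPowerSeries (Fin r) k) M] [Module k M]
    (D D' : Derivation k (MvPowerSeries (Fin r) k) M) (h : ∀ i, D (X i) = D' (X i)) : D = D' := by
  classical
  haveI : ExpChar k p := ExpChar.prime hp.1
  have hp0 : (p : MvPowerSeries (Fin r) k) = 0 := by
    rw [← map_natCast (C (σ := Fin r) (R := k)), CharP.cast_eq_zero k p, map_zero]
  have hpow : ∀ (E : Derivation k (MvPowerSeries (Fin r) k) M) (g : MvPowerSeries (Fin r) k),
      E (g ^ p) = 0 := fun E g => by
    rw [E.leibniz_pow, ← Nat.cast_smul_eq_nsmul (MvPowerSeries (Fin r) k), hp0, zero_smul]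
  choose root hroot using fun c : k => IsAlgClosed.exists_pow_nat_eq c hp.1.pos
  have hiota : ∀ g : MvPowerSeries (Fin r) (⊤ : Subfield k),
      ∃ h : MvPowerSeries (Fin r) k, iota p r ⊤ g = h ^ p := by
    intro g
    let g' : MvPowerSeries (Fin r) k := fun n => root ((coeff n g : (⊤ : Subfield k)) : k)
    have hg' : ∀ n, coeff n g' = root ((coeff n g : (⊤ : Subfield k)) : k) := fun n => rfl
    refine ⟨g', ?_⟩
    rw [← map_frobenius_expand p hp.1.ne_zero, MvPowerSeries.map_expand]
    show expand p hp.1.ne_zero (MvPowerSeries.map (⊤ : Subfield k).subtype g) = _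
    congr 1
    ext n
    rw [coeff_map, coeff_map]
    rw [hg', frobenius_def, hroot]
    rfl
  refine Derivation.ext fun f => ?_
  let G : (Fin r → Fin p) → MvPowerSeries (Fin r) (⊤ : Subfield k) := fun m n =>
    (⟨coeff (low p r m + p • n) f, Subfield.mem_top _⟩ : (⊤ : Subfield k))
  have hG : ∀ m n, ((coeff n (G m) : (⊤ : Subfield k)) : k) = coeff (low p r m + p • n) f := fun m n => rfl
  have hf : f = ∑ m : Fin r → Fin p, monomial (low p r m) (1 : k) * iota p r ⊤ (G m) := by
    ext N
    obtain ⟨m', n, rfl⟩ := exists_split p r N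
    rw [map_sum]
    simp only [coeff_block, Fintype.sum_ite_eq', one_mul]
    rw [hG]
  rw [hf, map_sum, map_sum]
  refine Finset.sum_congr rfl fun m _ => ?_
  obtain ⟨g, hg⟩ := hiota (G m)
  rw [hg, D.leibniz, D'.leibniz, hpow, hpow, monomial_eq D D' h]

/-- The derivation determined by values on the variables. -/
noncomputable def ofValues {M : Type v} [AddCommGroup M] [Module (MvPowerSeries (Fin r) k) M]
    [Module k M] [IsScalarTower k (MvPowerSeries (Fin r) k) M] (v : Fin r → M) :
    Derivation k (MvPowerSeries (Fin r) k) M :=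
  ∑ i, (LinearMap.toSpanSingleton (MvPowerSeries (Fin r) k) M (v i)).compDer (pderiv k i)

theorem ofValues_apply {M : Type v} [AddCommGroup M] [Module (MvPowerSeries (Fin r) k) M]
    [Module k M] [IsScalarTower k (MvPowerSeries (Fin r) k) M] (v : Fin r → M)
    (g : MvPowerSeries (Fin r) k) : ofValues v g = ∑ i, pderiv k i g • v i := by
  classical
  rw [ofValues]
  generalize (Finset.univ : Finset (Fin r)) = s
  induction s using Finset.induction_on with
  | empty => simp
  | insert i s hi ih => rw [Finset.sum_insert hi, Finset.sum_insert hi, Derivation.add_apply, ih]; rfl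

theorem derivation_apply [IsAlgClosed k] (p : ℕ) [Fact p.Prime] [CharP k p] {M : Type v}
    [AddCommGroup M] [Module (MvPowerSeries (Fin r) k) M] [Module k M]
    [IsScalarTower k (MvPowerSeries (Fin r) k) M]
    (D : Derivation k (MvPowerSeries (Fin r) k) M) (g : MvPowerSeries (Fin r) k) :
    D g = ∑ i, pderiv k i g • D (X i) := by
  classical
  rw [← ofValues_apply fun i => D (X i), ← derivation_eq p D (ofValues fun i => D (X i))]
  intro j
  rw [ofValues_apply, Finset.sum_eq_single j]
  · rw [pderiv_X_self, one_smul]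
  · intro i _ hi
    rw [pderiv_X_of_ne (Ne.symm hi), zero_smul]
  · simp

theorem span_derivations [IsAlgClosed k] (p : ℕ) [Fact p.Prime] [CharP k p]
    (f : MvPowerSeries (Fin r) k) :
    Ideal.span {g | ∃ D : Derivation k (MvPowerSeries (Fin r) k) (MvPowerSeries (Fin r) k),
      g = D f} = Ideal.span (Set.range fun i => pderiv k i f) := by
  refine le_antisymm (Ideal.span_le.mpr ?_) (Ideal.span_mono ?_)
  · rintro g ⟨D, rfl⟩
    rw [derivation_apply p D f]
    exact Ideal.sum_mem _ fun i _ => Ideal.mul_mem_right _ _ (Ideal.subset_span ⟨i, rfl⟩)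
  · rintro g ⟨i, rfl⟩
    exact ⟨pderiv k i, rfl⟩

/-- The vector of partial derivatives, modulo `f`. -/
noncomputable def gradVec (f : MvPowerSeries (Fin r) k) :
    Fin r → MvPowerSeries (Fin r) k ⧸ Ideal.span {f} :=
  fun i => Ideal.Quotient.mk _ (pderiv k i f)

/-- Differentials of a hypersurface. -/
theorem exists_presentation [IsAlgClosed k] (p : ℕ) [Fact p.Prime] [CharP k p]
    (f : MvPowerSeries (Fin r) k) :
    ∃ l : (Fin r → MvPowerSeries (Fin r) k ⧸ Ideal.span {f}) →ₗ[MvPowerSeries (Fin r) k ⧸ Ideal.span {f}]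
        Ω[MvPowerSeries (Fin r) k ⧸ Ideal.span {f}⁄k],
      Function.Surjective l ∧ LinearMap.ker l =
        Submodule.span (MvPowerSeries (Fin r) k ⧸ Ideal.span {f}) {gradVec f} := by
  classical
  let P := MvPowerSeries (Fin r) k
  let R := P ⧸ Ideal.span {f}
  let d : P → Ω[R⁄k] := fun g => KaehlerDifferential.D k R (algebraMap P R g)
  let Dc : Derivation k P (Ω[R⁄k]) := (KaehlerDifferential.D k R).compAlgebraMap P
  let l : (Fin r → R) →ₗ[R] Ω[R⁄k] := Fintype.linearCombination R fun i => d (X i)
  have hd : ∀ g, d g = l fun i => Ideal.Quotient.mk _ (pderiv k i g) := by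
    intro g
    show Dc g = _
    rw [derivation_apply p Dc g]
    simp only [l, Fintype.linearCombination_apply]
    exact Finset.sum_congr rfl fun i _ => (algebraMap_smul R (pderiv k i g) (Dc (X i))).symm
  have hsurj : Function.Surjective l := by
    rw [← LinearMap.range_eq_top, eq_top_iff, ← KaehlerDifferential.span_range_derivation,
      Submodule.span_le]
    rintro _ ⟨g, rfl⟩
    obtain ⟨g, rfl⟩ := Ideal.Quotient.mk_surjective g
    exact ⟨_, (hd g).symm⟩
  let S : Submodule R (Fin r → R) := Submodule.span R {gradVec f}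
  let Q := (Fin r → R) ⧸ S
  let v : P → Q := fun g => S.mkQ fun i => Ideal.Quotient.mk _ (pderiv k i g)
  have hvmul : ∀ a b : P, v (a * b) = Ideal.Quotient.mk (Ideal.span {f}) a • v b +
      Ideal.Quotient.mk (Ideal.span {f}) b • v a := by
    intro a b
    simp only [v, ← map_smul, ← map_add]
    congr 1
    funext i
    simp [Derivation.leibniz]
  have hvf : v f = 0 := (Submodule.Quotient.mk_eq_zero S).mpr (Submodule.subset_span rfl)
  have hvadd : ∀ a b, v (a + b) = v a + v b := by
    intro a b
    simp only [v, ← map_add]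
    congr 1
    funext i
    simp
  have hwd : ∀ a b : P, Ideal.Quotient.mk (Ideal.span {f}) a = Ideal.Quotient.mk _ b → v a = v b := by
    intro a b h
    obtain ⟨c, hc⟩ := Ideal.mem_span_singleton'.mp (Ideal.Quotient.eq.mp h)
    have : a = c * f + b := by rw [hc]; ring
    have hf0 : Ideal.Quotient.mk (Ideal.span {f}) f = 0 :=
      Ideal.Quotient.eq_zero_iff_mem.mpr (Ideal.mem_span_singleton_self f)
    rw [this, hvadd, hvmul, hvf, smul_zero, hf0, zero_add, zero_smul R (v c), zero_add]
  let sec := Function.surjInv (Ideal.Quotient.mk_surjective (I := Ideal.span {f}))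
  have hsec : ∀ x, Ideal.Quotient.mk (Ideal.span {f}) (sec x) = x :=
    Function.surjInv_eq Ideal.Quotient.mk_surjective
  have hv : ∀ g, v (sec (Ideal.Quotient.mk _ g)) = v g := fun g => hwd _ _ (hsec _)
  let δ : Derivation k R Q := Derivation.mk'
    { toFun := fun x => v (sec x)
      map_add' := fun x y => by rw [hwd (sec (x + y)) (sec x + sec y) (by simp [hsec]), hvadd]
      map_smul' := fun c x => by
        have hsm : sec (c • x) = sec (c • x) := rfl
        have : v (sec (c • x)) = v (c • sec x) := hwd _ _ (by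
          rw [hsec, ← Ideal.Quotient.mkₐ_eq_mk k, map_smul, Ideal.Quotient.mkₐ_eq_mk, hsec])
        rw [this]
        simp only [v, RingHom.id_apply, ← LinearMap.map_smul_of_tower]
        congr 1
        funext i
        simp only [Pi.smul_apply, Derivation.map_smul, ← Ideal.Quotient.mkₐ_eq_mk k, map_smul] }
    (fun x y => by
      show v (sec (x * y)) = x • v (sec y) + y • v (sec x)
      rw [hwd (sec (x * y)) (sec x * sec y) (by simp [hsec]), hvmul, hsec, hsec])
  have hδ : δ.liftKaehlerDifferential.comp l = S.mkQ := by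
    refine LinearMap.pi_ext' fun i => LinearMap.ext_ring ?_
    show δ.liftKaehlerDifferential (l (Pi.single i 1)) = S.mkQ (Pi.single i 1)
    simp only [l, Fintype.linearCombination_apply_single, one_smul, d]
    rw [Derivation.liftKaehlerDifferential_comp_D]
    show v (sec (Ideal.Quotient.mk _ (X i))) = _
    rw [hv]
    simp only [v]
    congr 1
    funext j
    rcases eq_or_ne i j with rfl | hij
    · simp
    · simp [pderiv_X_of_ne hij, Pi.single_eq_of_ne (Ne.symm hij)]
  refine ⟨l, hsurj, le_antisymm (fun x hx => ?_) ?_⟩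
  · rw [LinearMap.mem_ker] at hx
    have := LinearMap.congr_fun hδ x
    rw [LinearMap.comp_apply, hx, map_zero] at this
    exact (Submodule.Quotient.mk_eq_zero S).mp this.symm
  · rw [Submodule.span_le, Set.singleton_subset_iff, SetLike.mem_coe, LinearMap.mem_ker]
    show l (fun i => Ideal.Quotient.mk _ (pderiv k i f)) = 0
    rw [← hd f]
    show KaehlerDifferential.D k R (Ideal.Quotient.mk _ f) = 0
    rw [show Ideal.Quotient.mk (Ideal.span {f}) f = 0 from Ideal.Quotient.eq_zero_iff_mem.mpr (Ideal.mem_span_singleton_self f)]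
    exact map_zero _

/-- A power series divisible against two powers of distinct variables. -/
theorem dvd_of_dvd_mul_X_pow {f a : MvPowerSeries (Fin r) k} {i j : Fin r} (hij : i ≠ j) {N : ℕ}
    (hi : f ∣ a * X i ^ N) (hj : f ∣ a * X j ^ N) : f ∣ a := by
  classical
  rcases eq_or_ne f 0 with rfl | hf
  · rw [zero_dvd_iff, mul_eq_zero] at hi
    rw [zero_dvd_iff]
    exact hi.resolve_right (pow_ne_zero _ fun h => by
      have := congrArg (coeff (Finsupp.single i 1)) h
      rw [coeff_X, if_pos rfl, map_zero] at this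
      exact one_ne_zero this)
  obtain ⟨b, hb⟩ := hi
  obtain ⟨c, hc⟩ := hj
  have heq : b * X j ^ N = c * X i ^ N := by
    refine mul_left_cancel₀ hf ?_
    rw [← mul_assoc, ← hb, ← mul_assoc, ← hc]; ring
  have hdvd : (X i : MvPowerSeries (Fin r) k) ^ N ∣ b := by
    rw [X_pow_dvd_iff]
    intro m hm
    have hd : (X i : MvPowerSeries (Fin r) k) ^ N ∣ b * X j ^ N := ⟨c, by rw [heq, mul_comm]⟩
    rw [X_pow_dvd_iff] at hd
    have := hd (m + Finsupp.single j N) (by simpa [Finsupp.single_eq_of_ne hij] using hm)
    rwa [X_pow_eq, coeff_mul_monomial, if_pos le_add_self, add_tsub_cancel_right, mul_one] at this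
  obtain ⟨b', rfl⟩ := hdvd
  refine ⟨b', mul_right_cancel₀ (b := (X i : MvPowerSeries (Fin r) k) ^ N) ?_ (by rw [hb]; ring)⟩
  refine pow_ne_zero _ fun h => ?_
  have := congrArg (coeff (Finsupp.single i 1)) h
  rw [coeff_X, if_pos rfl, map_zero] at this
  exact one_ne_zero this

end Groth.L07.KHyp
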