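import Groth.Agent.L07.RegImmDescent
import Groth.Agent.L14.QRegRegular

/-!
Sequences of the kinds Koszul, `H₁` and quasi: changing generators and passing to quotients.
-/

set_option autoImplicit false
set_option linter.style.haveILetI false
set_option maxSynthPendingDepth 3

universe u

open MvPolynomial Groth.L07.QReg Groth.L14.QRR

namespace Groth.L07.KindSmooth

variable {A B : Type u} [CommRing A] [CommRing B]

/-- A quasi-regular sequence stays quasi-regular modulo its first element. -/
theorem isQuasiRegular_tail {R : Type u} [CommRing R] {c : ℕ} {f : Fin (c + 1) → R}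
    (hqr : CAlgX.IsQuasiRegular f) :
    CAlgX.IsQuasiRegular fun i : Fin c => Ideal.Quotient.mk (Ideal.span {f 0}) (f i.succ) := by
  set I := Ideal.span (Set.range f) with hI
  let R' := R ⧸ Ideal.span {f 0}
  let q := Ideal.Quotient.mk (Ideal.span {f 0})
  let f' : Fin c → R' := fun i => q (f i.succ)
  have hspan : Ideal.span (Set.range f') = Ideal.map q (Ideal.span (Set.range (f ∘ Fin.succ))) := by
    rw [Ideal.map_span, ← Set.range_comp]; rfl
  have hle : Ideal.span (Set.range (f ∘ Fin.succ)) ≤ I := Ideal.span_mono (Set.range_comp_subset_range _ _)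
  have hmapI : Ideal.map q I ≤ Ideal.span (Set.range f') := by
    rw [hI, Ideal.map_span, Ideal.span_le]
    rintro _ ⟨_, ⟨i, rfl⟩, rfl⟩
    rcases Fin.eq_zero_or_eq_succ i with rfl | ⟨j, rfl⟩
    · have : q (f 0) = 0 := Ideal.Quotient.eq_zero_iff_mem.mpr (Ideal.mem_span_singleton_self _)
      rw [this]; exact Submodule.zero_mem _
    · exact Ideal.subset_span ⟨j, rfl⟩
  show CAlgX.IsQuasiRegular f'
  intro n P' hP' hmem d
  obtain ⟨P, hP, rfl⟩ := exists_hom_lift q Ideal.Quotient.mk_surjective P' hP'
  rw [coeff_map]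
  refine hmapI (Ideal.mem_map_of_mem q ?_)
  have hev : eval f' (MvPolynomial.map q P) = q (eval (f ∘ Fin.succ) P) := by
    rw [eval_map]; exact (eval₂_comp q (f ∘ Fin.succ) P).symm
  rw [hspan, ← Ideal.map_pow, hev,
    Ideal.mem_map_iff_of_surjective q Ideal.Quotient.mk_surjective] at hmem
  obtain ⟨z, hz, hzq⟩ := hmem
  obtain ⟨y, hy⟩ := Ideal.mem_span_singleton.mp (Ideal.Quotient.eq.mp hzq.symm)
  have hzI : z ∈ I ^ (n + 1) := Ideal.pow_right_mono hle _ hz
  rcases n with _ | k
  · obtain ⟨a, rfl⟩ : ∃ a, P = C a :=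
      ⟨coeff 0 P, totalDegree_eq_zero_iff_eq_C.mp (Nat.eq_zero_of_le_zero hP.totalDegree_le)⟩
    rw [eval_C] at hy
    rw [coeff_C]
    split_ifs
    · rw [show a = z + f 0 * y by linear_combination hy]
      exact I.add_mem (by simpa using hzI) (I.mul_mem_right _ (Ideal.subset_span ⟨0, rfl⟩))
    · exact I.zero_mem
  · have hPev : eval (f ∘ Fin.succ) P ∈ I ^ (k + 1) :=
      Ideal.pow_right_mono hle _ (eval_mem_span_pow _ hP)
    have hy' : ∀ m ≤ k, y ∈ I ^ m := by
      intro m hm
      induction m with
      | zero => simp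
      | succ m ihm =>
        refine mem_pow_of_head_mul hqr (ihm (by omega)) ?_
        rw [← hy]
        exact Ideal.pow_le_pow_right (show m + 2 ≤ k + 1 by omega)
          (Submodule.sub_mem _ hPev (Ideal.pow_le_pow_right (Nat.le_succ _) hzI))
    obtain ⟨G, hG, rfl⟩ := exists_homogeneous_of_mem_span_pow f k (hy' k le_rfl)
    have := hqr (k + 1) (rename Fin.succ P - X 0 * G)
      (hP.rename_isHomogeneous.sub (isHomogeneous_X_mul 0 hG))
      (by
        rw [map_sub, eval_mul, eval_X, eval_rename, show eval (f ∘ Fin.succ) P - f 0 * eval f G = z by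
          linear_combination hy]
        exact hzI)
      (Finsupp.mapDomain Fin.succ d)
    rw [coeff_sub, coeff_rename_mapDomain _ (Fin.succ_injective _), coeff_X_mul', if_neg,
      sub_zero] at this
    · exact this
    · rw [Finsupp.mem_support_iff, not_not]
      exact Finsupp.mapDomain_notin_range _ _ (by simp)

open Groth.L07.H1Seq (H1)

/-- An `H₁`-regular sequence stays `H₁`-regular modulo its first element. -/
theorem isH1Regular_tail {R : Type u} [CommRing R] {c : ℕ} {f : Fin (c + 1) → R}
    (hf : CAlgX.IsH1Regular f) :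
    CAlgX.IsH1Regular fun i : Fin c => Ideal.Quotient.mk (Ideal.span {f 0}) (f i.succ) := by
  classical
  intro a ha
  let q := Ideal.Quotient.mk (Ideal.span {f 0})
  choose b hb using fun i => Ideal.Quotient.mk_surjective (I := Ideal.span {f 0}) (a i)
  obtain ⟨t, ht⟩ : ∃ t, t * f 0 = ∑ i, b i * f i.succ := Ideal.mem_span_singleton'.mp
    (Ideal.Quotient.eq_zero_iff_mem.mp (show q (∑ i, b i * f i.succ) = 0 by
      rw [← ha, map_sum]
      exact Finset.sum_congr rfl fun i _ => by rw [map_mul, hb i]))
  have hmem := hf (Fin.cons (-t) b) (by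
    rw [Fin.sum_univ_succ]
    simp only [Fin.cons_zero, Fin.cons_succ]
    rw [← ht]; ring)
  let ρ : (Fin (c + 1) → R) →ₗ[R] (Fin c → R ⧸ Ideal.span {f 0}) :=
    LinearMap.pi fun i => (Ideal.Quotient.mkₐ R (Ideal.span {f 0})).toLinearMap ∘ₗ LinearMap.proj i.succ
  set T := Submodule.span (R ⧸ Ideal.span {f 0}) {v : Fin c → R ⧸ Ideal.span {f 0} | ∃ i j : Fin c,
    v = Pi.single i (q (f j.succ)) - Pi.single j (q (f i.succ))} with hT
  have h0 : ∀ m, Fin.tail (Pi.single (M := fun _ : Fin (c + 1) => R) 0 m) = 0 := fun m => funext fun i => by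
    simp [Fin.tail, Pi.single_apply, Fin.succ_ne_zero]
  have hle : Submodule.span R {v : Fin (c + 1) → R | ∃ i j, v = Pi.single i (f j) - Pi.single j (f i)} ≤
      (T.restrictScalars R).comap ρ := by
    refine Submodule.span_le.mpr ?_
    rintro _ ⟨i, j, rfl⟩
    show ρ _ ∈ T
    have key : ∀ (i : Fin (c + 1)) (m : R), ρ (Pi.single i m) =
        if h : i = 0 then 0 else Pi.single (i.pred h) (q m) := fun i m => by
      funext k
      show q ((Pi.single i m : Fin (c + 1) → R) k.succ) = _
      rcases Fin.eq_zero_or_eq_succ i with rfl | ⟨i', rfl⟩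
      · simp [Fin.succ_ne_zero]
      · simp [Pi.single_apply, Fin.succ_inj, Fin.succ_ne_zero, apply_ite q]
    rw [map_sub, key, key]
    have hq0 : q (f 0) = 0 := Ideal.Quotient.eq_zero_iff_mem.mpr (Ideal.mem_span_singleton_self _)
    rcases Fin.eq_zero_or_eq_succ i with rfl | ⟨i', rfl⟩ <;> rcases Fin.eq_zero_or_eq_succ j with rfl | ⟨j', rfl⟩
    · simp
    · simp [Fin.succ_ne_zero, hq0]
    · simp [Fin.succ_ne_zero, hq0]
    · simp only [Fin.succ_ne_zero, ↓reduceDIte, Fin.pred_succ]
      exact Submodule.subset_span ⟨i', j', rfl⟩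
  have := hle hmem
  rw [show a = ρ (Fin.cons (-t) b) from funext fun i => by
    show a i = q ((Fin.cons (-t) b : Fin (c + 1) → R) i.succ)
    rw [Fin.cons_succ, hb]]
  exact this

/-- Quasi-regularity only depends on the ideal and the number of generators. -/
theorem quasi_of_length_le {f h : List A} (hh : CAlgX.IsQuasiRegular h.get)
    (e : Ideal.ofList h = Ideal.ofList f) (hle : f.length ≤ h.length) : CAlgX.IsQuasiRegular f.get := by
  rcases hle.lt_or_eq with hlt | heq
  · intro n P hP _ d
    rw [Groth.L07.H1Seq.span_range_get, ← e]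
    suffices Ideal.ofList h = ⊤ by rw [this]; trivial
    let g : Fin h.length → A := fun i => if hi : i.1 < f.length then f[i.1] else 0
    have hg : Ideal.span (Set.range g) = Ideal.ofList h := by
      rw [e]
      refine le_antisymm (Ideal.span_le.mpr ?_) (Ideal.span_le.mpr fun x hx => ?_)
      · rintro _ ⟨i, rfl⟩
        show g i ∈ Ideal.ofList f
        simp only [g]
        split_ifs with hi
        · exact Ideal.subset_span (List.getElem_mem hi)
        · exact zero_mem _
      · obtain ⟨i, hi, rfl⟩ := List.mem_iff_getElem.mp (show x ∈ f from hx)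
        exact Ideal.subset_span ⟨⟨i, hi.trans hlt⟩, dif_pos hi⟩
    have hq := isQuasiRegular_of_span_eq h.get g hh (by rw [hg, Groth.L07.H1Seq.span_range_get])
    have h1 := hq 1 (X ⟨f.length, hlt⟩) (isHomogeneous_X _ _)
      (by rw [eval_X, show g ⟨f.length, hlt⟩ = 0 from dif_neg (lt_irrefl _)]; exact zero_mem _)
      (Finsupp.single ⟨f.length, hlt⟩ 1)
    rw [coeff_X, hg, if_pos rfl] at h1
    exact (Ideal.eq_top_iff_one _).mpr h1
  · refine isQuasiRegular_of_span_eq _ _ (Groth.L03.RegImmFlat.isQuasiRegular_cast heq hh) ?_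
    rw [Groth.L07.H1Seq.span_range_get, ← e,
      (show Function.Surjective (Fin.cast heq) from (finCongr heq).surjective).range_comp h.get,
      Groth.L07.H1Seq.span_range_get]

/-- The kinds treated here. -/
def Weak (k : RegImm.Kind) : Prop := k = RegImm.Kind.h1 ∨ k = RegImm.Kind.quasi

theorem Weak.ne_regular {k : RegImm.Kind} (hk : Weak k) : k ≠ RegImm.Kind.regular := by
  rcases hk with rfl | rfl <;> decide

variable {k : RegImm.Kind}

theorem seqMap (hk : Weak k) (φ : A →+* B) (hφ : φ.Flat) {l : List A} (h : k.Seq A l) :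
    k.Seq B (l.map φ) := by
  rcases hk with rfl | rfl
  · exact Groth.L07.H1Seq.h1_map φ hφ h
  · show CAlgX.IsQuasiRegular _
    rw [Groth.L03.RegImmFlat.get_map_eq]
    exact Groth.L03.RegImmFlat.isQuasiRegular_cast _ (Groth.L03.RegImmFlat.isQuasiRegular_map φ hφ h)

theorem seq_of_length_le (hk : Weak k) {f h : List A} (hh : k.Seq A h)
    (e : Ideal.ofList h = Ideal.ofList f) (hle : f.length ≤ h.length) : k.Seq A f := by
  rcases hk with rfl | rfl
  · exact Groth.L07.H1Seq.h1_of_length_le hh e hle
  · exact quasi_of_length_le hh e hle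

theorem seq_tail (hk : Weak k) {x : A} {l : List A} (h : k.Seq A (x :: l)) :
    k.Seq (A ⧸ Ideal.span {x}) (l.map (Ideal.Quotient.mk (Ideal.span {x}))) := by
  rcases hk with rfl | rfl
  · show CAlgX.IsH1Regular _
    rw [Groth.L03.RegImmFlat.get_map_eq]
    exact Groth.L03.RegImmFlat.isH1Regular_cast _ (isH1Regular_tail (f := (x :: l).get) h)
  · show CAlgX.IsQuasiRegular _
    rw [Groth.L03.RegImmFlat.get_map_eq]
    exact Groth.L03.RegImmFlat.isQuasiRegular_cast _ (isQuasiRegular_tail (f := (x :: l).get) h)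

/-- A sequence containing generators of the kernel of a surjection maps to a sequence of the same kind. -/
theorem seq_of_append (hk : Weak k) : ∀ (fs : List A) {C : Type u} [CommRing C] (σ : A →+* C),
    Function.Surjective σ → RingHom.ker σ = Ideal.ofList fs → ∀ gs : List A, k.Seq A (gs ++ fs) →
      k.Seq C (gs.map σ) := by
  intro fs
  generalize hn : fs.length = n
  induction n generalizing A with
  | zero =>
    intro C _ σ hσ hker gs h
    obtain rfl := List.length_eq_zero_iff.mp hn
    rw [Ideal.ofList_nil] at hker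
    rw [List.append_nil] at h
    exact seqMap hk σ (RingHom.Flat.of_bijective ⟨(RingHom.injective_iff_ker_eq_bot σ).mpr hker, hσ⟩) h
  | succ n ih =>
    intro C _ σ hσ hker gs h
    obtain ⟨x, fs', rfl⟩ := List.exists_cons_of_length_eq_add_one hn
    have h' : k.Seq A (x :: (gs ++ fs')) := seq_of_length_le hk h
      (by simp only [Ideal.ofList_append, Ideal.ofList_cons]; rw [sup_left_comm])
      (by simp)
    have h2 := seq_tail hk h'
    let π := Ideal.Quotient.mk (Ideal.span {x})
    have hx : ∀ a ∈ Ideal.span {x}, σ a = 0 := fun a ha => RingHom.mem_ker.mp (hker.ge (by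
      rw [Ideal.ofList_cons]; exact Ideal.mem_sup_left ha))
    let σ' := Ideal.Quotient.lift (Ideal.span {x}) σ hx
    have hker' : RingHom.ker σ' = Ideal.ofList (fs'.map π) := by
      show RingHom.ker (Ideal.Quotient.lift (Ideal.span {x}) σ hx) = _
      refine (Ideal.ker_quotient_lift σ fun a ha => RingHom.mem_ker.mpr (hx a ha)).trans ?_
      rw [hker, Ideal.ofList_cons, Ideal.map_sup, Ideal.map_quotient_self, bot_sup_eq,
        Ideal.map_ofList]
    rw [List.map_append] at h2
    have := ih (fs'.map π) (by simpa using hn) σ' (fun c => by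
      obtain ⟨a, rfl⟩ := hσ c
      exact ⟨π a, rfl⟩) hker' (gs.map π) h2
    rwa [List.map_map, show (σ' : _ → C) ∘ π = σ from rfl] at this

end Groth.L07.KindSmooth
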