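import Groth.Agent.L07.RegAtPoly
import Mathlib.RingTheory.RingHom.StandardSmooth
import Mathlib.RingTheory.RingHom.Etale
import Mathlib.RingTheory.Smooth.Flat
import Mathlib.RingTheory.Etale.Basic
import Mathlib.RingTheory.Kaehler.Basic

/-! Regularity of an ideal and of an ideal of a smooth algebra with the same quotient. -/

set_option autoImplicit false
set_option linter.style.haveILetI false
set_option maxSynthPendingDepth 3

universe u

namespace Groth.L07.KoszulIdeal

/-- An unramified algebra map with a section: the two ideals agree near the section. -/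
theorem exists_eq_map_near {A B : Type u} [CommRing A] [CommRing B] [Algebra A B] [Algebra.FiniteType A B]
    [Algebra.FormallyUnramified A B] (J : Ideal B)
    (hs : Function.Surjective ((Ideal.Quotient.mk J).comp (algebraMap A B))) :
    ∃ h : B, h - 1 ∈ J ∧ ∀ x ∈ J, h * x ∈ (J.comap (algebraMap A B)).map (algebraMap A B) := by
  classical
  let φ := algebraMap A B
  let K := (J.comap φ).map φ
  have hKJ : K ≤ J := Ideal.map_comap_le
  let q := Ideal.Quotient.mk K
  let N : Ideal (B ⧸ K) := J.map q
  have hsec : ∀ b : B, ∃ a : A, b - φ a ∈ J := fun b => by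
    obtain ⟨a, ha⟩ := hs (Ideal.Quotient.mk J b)
    exact ⟨a, Ideal.Quotient.eq.mp ha.symm⟩
  choose a ha using hsec
  -- finite generation of `N`
  obtain ⟨s, hs'⟩ := Algebra.FiniteType.out (R := A) (A := B)
  let J₁ : Ideal B := Ideal.span ((fun y => y - φ (a y)) '' (s : Set B))
  have hJ₁ : J ≤ J₁ ⊔ K := by
    let S : Subalgebra A B :=
      { carrier := {b | ∃ c : A, b - φ c ∈ J₁}
        mul_mem' := by
          rintro x y ⟨c, hc⟩ ⟨d, hd⟩
          refine ⟨c * d, ?_⟩
          rw [map_mul, show x * y - φ c * φ d = (x - φ c) * y + φ c * (y - φ d) by ring]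
          exact add_mem (Ideal.mul_mem_right _ _ hc) (Ideal.mul_mem_left _ _ hd)
        add_mem' := by
          rintro x y ⟨c, hc⟩ ⟨d, hd⟩
          refine ⟨c + d, ?_⟩
          rw [map_add, add_sub_add_comm]
          exact add_mem hc hd
        algebraMap_mem' := fun c => ⟨c, by simp [φ]⟩ }
    have hS : S = ⊤ := top_le_iff.mp (hs' ▸ Algebra.adjoin_le fun y hy =>
      (⟨a y, Ideal.subset_span ⟨y, hy, rfl⟩⟩ : y ∈ S))
    intro x hx
    obtain ⟨c, hc⟩ : x ∈ S := hS ▸ Algebra.mem_top
    have hcJ : φ c ∈ J := by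
      have : x - φ c ∈ J := (Ideal.span_le.mpr (by rintro _ ⟨y, -, rfl⟩; exact ha y) : J₁ ≤ J) hc
      simpa using sub_mem hx this
    rw [show x = (x - φ c) + φ c by ring]
    exact Submodule.add_mem_sup hc (Ideal.mem_map_of_mem φ hcJ)
  have hNfg : N.FG := by
    have : N = J₁.map q := by
      refine le_antisymm ?_ (Ideal.map_mono (Ideal.span_le.mpr (by rintro _ ⟨y, -, rfl⟩; exact ha y)))
      refine (Ideal.map_mono hJ₁).trans ?_
      rw [Ideal.map_sup, Ideal.map_quotient_self, sup_bot_eq]
    rw [this]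
    exact Ideal.FG.map (Submodule.fg_span (s.finite_toSet.image _)) q
  -- `N = N²`
  have hN2 : N ≤ N • N := by
    let W : Ideal B := K ⊔ J * J
    have hW : ∀ a₁ a₂ : A, φ a₁ - φ a₂ ∈ J → φ a₁ - φ a₂ ∈ W := fun a₁ a₂ h => by
      rw [← map_sub] at h ⊢
      exact Submodule.mem_sup_left (Ideal.mem_map_of_mem φ h)
    have congr' : ∀ (b : B) (c : A), b - φ c ∈ J →
        Ideal.Quotient.mk W (b - φ (a b)) = Ideal.Quotient.mk W (b - φ c) := fun b c hc => by
      rw [Ideal.Quotient.eq, show b - φ (a b) - (b - φ c) = φ c - φ (a b) by ring]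
      refine hW _ _ ?_
      rw [show φ c - φ (a b) = (b - φ (a b)) - (b - φ c) by ring]
      exact sub_mem (ha b) hc
    let D : Derivation A B (B ⧸ W) := Derivation.mk'
      { toFun := fun b => Ideal.Quotient.mk W (b - φ (a b))
        map_add' := fun x y => by
          rw [congr' (x + y) (a x + a y) (by rw [map_add, add_sub_add_comm]; exact add_mem (ha x) (ha y)), ← map_add]
          congr 1
          rw [map_add]; ring
        map_smul' := fun r x => by
          rw [congr' (r • x) (r * a x) (by
            rw [Algebra.smul_def, map_mul, ← mul_sub]; exact Ideal.mul_mem_left _ _ (ha x))]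
          show _ = r • Ideal.Quotient.mk W (x - φ (a x))
          rw [← Ideal.Quotient.mkₐ_eq_mk A, ← map_smul]
          congr 1
          rw [smul_sub, Algebra.smul_def, Algebra.smul_def, map_mul] }
      fun x y => by
        show Ideal.Quotient.mk W _ = x • Ideal.Quotient.mk W _ + y • Ideal.Quotient.mk W _
        rw [congr' (x * y) (a x * a y) (by
          rw [map_mul, show x * y - φ (a x) * φ (a y) = (x - φ (a x)) * y + φ (a x) * (y - φ (a y)) by ring]
          exact add_mem (Ideal.mul_mem_right _ _ (ha x)) (Ideal.mul_mem_left _ _ (ha y))),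
          Algebra.smul_def, Algebra.smul_def, Ideal.Quotient.algebraMap_eq, ← map_mul, ← map_mul, ← map_add,
          Ideal.Quotient.eq, map_mul,
          show x * y - φ (a x) * φ (a y) - (x * (y - φ (a y)) + y * (x - φ (a x))) =
            -((x - φ (a x)) * (y - φ (a y))) by ring]
        exact neg_mem (Submodule.mem_sup_right (Ideal.mul_mem_mul (ha x) (ha y)))
    have hD : ∀ b, D b = 0 := fun b => by
      haveI : Subsingleton (KaehlerDifferential A B) := inferInstance
      rw [← D.liftKaehlerDifferential_comp]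
      show D.liftKaehlerDifferential (KaehlerDifferential.D A B b) = 0
      rw [Subsingleton.elim (KaehlerDifferential.D A B b) 0, map_zero]
    rintro z hz
    obtain ⟨x, hx, rfl⟩ := (Ideal.mem_map_iff_of_surjective q Ideal.Quotient.mk_surjective).mp hz
    have h1 : x - φ (a x) ∈ W := Ideal.Quotient.eq_zero_iff_mem.mp (hD x)
    have h2 : φ (a x) ∈ K := Ideal.mem_map_of_mem φ (show φ (a x) ∈ J by simpa using sub_mem hx (ha x))
    have h3 : x ∈ W := by
      rw [show x = (x - φ (a x)) + φ (a x) by ring]
      exact add_mem h1 (Submodule.mem_sup_left h2)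
    have h4 := Ideal.mem_map_of_mem q h3
    rw [Ideal.map_sup, Ideal.map_quotient_self, bot_sup_eq, Ideal.map_mul] at h4
    rwa [smul_eq_mul]
  obtain ⟨r, hr, hr'⟩ := Submodule.exists_sub_one_mem_and_smul_eq_zero_of_fg_of_le_smul N N hNfg hN2
  obtain ⟨h, rfl⟩ := Ideal.Quotient.mk_surjective r
  refine ⟨h, ?_, fun x hx => ?_⟩
  · obtain ⟨y, hy, e⟩ := (Ideal.mem_map_iff_of_surjective q Ideal.Quotient.mk_surjective).mp hr
    rw [← map_one q, ← map_sub, Ideal.Quotient.eq] at e
    rw [show h - 1 = y - (y - (h - 1)) by ring]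
    exact sub_mem hy (hKJ e)
  · refine Ideal.Quotient.eq_zero_iff_mem.mp ?_
    rw [map_mul]
    exact hr' (q x) (Ideal.mem_map_of_mem q hx)

/-- For a standard smooth algebra with a section modulo `J`, regularity of `J` and of its contraction agree. -/
theorem regAt_iff_of_standardSmooth {R R' : Type u} [CommRing R] [CommRing R'] (f : R →+* R')
    (hf : f.IsStandardSmooth) (J : Ideal R') (hs : Function.Surjective ((Ideal.Quotient.mk J).comp f))
    (P : Ideal R') [P.IsPrime] (hJP : J ≤ P) : RegAt J P ↔ RegAt (J.comap f) (P.comap f) := by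
  obtain ⟨n, g, hg, hge⟩ := hf.exists_etale_mvPolynomial
  choose r hr using fun i => hs (Ideal.Quotient.mk J (g (MvPolynomial.X i)))
  let e : MvPolynomial (Fin n) R ≃ₐ[R] MvPolynomial (Fin n) R := AlgEquiv.ofAlgHom
    (MvPolynomial.aeval fun i => MvPolynomial.X i - MvPolynomial.C (r i))
    (MvPolynomial.aeval fun i => MvPolynomial.X i + MvPolynomial.C (r i))
    (MvPolynomial.algHom_ext fun i => by simp) (MvPolynomial.algHom_ext fun i => by simp)
  let ψ : MvPolynomial (Fin n) R →+* R' := g.comp e.toRingEquiv.toRingHom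
  have hψe : ψ.Etale := (RingHom.Etale.stableUnderComposition) _ _ (RingHom.Etale.of_bijective e.bijective) hge
  have hψC : ∀ x, ψ (MvPolynomial.C x) = f x := fun x => by
    show g (e (MvPolynomial.C x)) = f x
    rw [← hg, RingHom.comp_apply]
    exact congrArg g (e.commutes x)
  have hψX : ∀ i, ψ (MvPolynomial.X i) ∈ J := fun i => by
    show g (e (MvPolynomial.X i)) ∈ J
    have : e (MvPolynomial.X i) = MvPolynomial.X i - MvPolynomial.C (r i) := by simp [e]
    rw [this, map_sub, ← Ideal.Quotient.eq]
    exact (hr i).symm.trans (congrArg (Ideal.Quotient.mk J) (RingHom.congr_fun hg (r i)).symm)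
  let ev : MvPolynomial (Fin n) R →+* R := MvPolynomial.constantCoeff
  have hev : ∀ (K : Ideal R'), J ≤ K → K.comap ψ = (K.comap f).comap ev := fun K hK => by
    ext x
    have hx : ψ x - f (ev x) ∈ K := by
      refine hK ?_
      rw [← Ideal.Quotient.eq]
      have : (Ideal.Quotient.mk J).comp ψ = (Ideal.Quotient.mk J).comp (f.comp ev) :=
        MvPolynomial.ringHom_ext (fun y => by simp [hψC, ev]) fun i => by
          simp [ev, Ideal.Quotient.eq_zero_iff_mem.mpr (hψX i)]
      exact RingHom.congr_fun this x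
    rw [Ideal.mem_comap, Ideal.mem_comap, Ideal.mem_comap]
    exact ⟨fun h => by simpa using sub_mem h hx, fun h => by simpa using add_mem hx h⟩
  letI := ψ.toAlgebra
  haveI : Algebra.Etale (MvPolynomial (Fin n) R) R' := hψe
  have hflat : ψ.Flat := (inferInstance : Module.Flat (MvPolynomial (Fin n) R) R')
  have hsψ : Function.Surjective ((Ideal.Quotient.mk J).comp ψ) := fun y => by
    obtain ⟨x, rfl⟩ := hs y
    exact ⟨MvPolynomial.C x, by simp [hψC]⟩
  obtain ⟨h, h1, hh⟩ := exists_eq_map_near (A := MvPolynomial (Fin n) R) J hsψ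
  have hhP : h ∉ P := fun e' => (inferInstance : P.IsPrime).ne_top
    ((Ideal.eq_top_iff_one _).mpr (by simpa using sub_mem e' (hJP h1)))
  have hle : (J.comap ψ).map ψ ≤ J := Ideal.map_comap_le
  have key : RegAt J P ↔ RegAt ((J.comap ψ).map ψ) P :=
    ⟨RegAt.congr hhP (fun x hx => ⟨1, by rw [pow_one]; exact hh x hx⟩) (fun x hx => ⟨0, by simpa using hle hx⟩),
      RegAt.congr hhP (fun x hx => ⟨0, by simpa using hle hx⟩) (fun x hx => ⟨1, by rw [pow_one]; exact hh x hx⟩)⟩
  haveI : Algebra.HasGoingDown (MvPolynomial (Fin n) R) R' := inferInstance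
  have hopen : IsOpenMap (PrimeSpectrum.comap ψ) :=
    PrimeSpectrum.isOpenMap_comap_of_hasGoingDown_of_finitePresentation
  rw [key, ← regAt_comap_constantCoeff_iff (n := n) (J.comap f) (P.comap f) (Ideal.comap_mono hJP),
    ← hev J le_rfl, ← hev P hJP]
  exact ⟨regAt_descend ψ hflat hopen _ P (Ideal.comap_mono hJP), RegAt.map ψ hflat P⟩

end Groth.L07.KoszulIdeal
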