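import Groth.Agent.L07.KindSeq
import Groth.Agent.L07.RegAtSmooth

/-!
`H₁`- and quasi-regularity of an ideal near a prime descend along standard smooth algebras
with the same quotient.
-/

set_option autoImplicit false
set_option linter.style.haveILetI false
set_option maxSynthPendingDepth 3

universe u

open MvPolynomial Groth.L07.KoszulIdeal

namespace Groth.L07.KindSmooth

variable {A B : Type u} [CommRing A] [CommRing B] {k : RegImm.Kind}

/-- `I` is generated by a sequence of kind `k` near `p`. -/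
def LocAt (k : RegImm.Kind) (I p : Ideal A) : Prop :=
  ∃ g ∉ p, ∃ l : List (Localization.Away g),
    k.Seq (Localization.Away g) l ∧ I.map (algebraMap A (Localization.Away g)) = Ideal.ofList l

/-- The sequence spreads to any flat algebra in which `g` is invertible. -/
theorem spread (hk : Weak k) {I : Ideal A} {g : A} {l : List (Localization.Away g)}
    (hl : k.Seq (Localization.Away g) l) (hI : I.map (algebraMap A (Localization.Away g)) = Ideal.ofList l)
    (φ : A →+* B) (hφ : φ.Flat) (hg : IsUnit (φ g)) :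
    ∃ l' : List B, k.Seq B l' ∧ I.map φ = Ideal.ofList l' := by
  refine ⟨_, seqMap hk _ (flat_away_lift g φ hφ hg) hl, ?_⟩
  rw [← Ideal.map_ofList, ← hI, Ideal.map_map, IsLocalization.Away.lift_comp]

theorem LocAt.congr (hk : Weak k) {I J p : Ideal A} [p.IsPrime] {h : A} (hh : h ∉ p)
    (e : ∀ x ∈ I, ∃ n : ℕ, h ^ n * x ∈ J) (e' : ∀ x ∈ J, ∃ n : ℕ, h ^ n * x ∈ I) (H : LocAt k I p) :
    LocAt k J p := by
  obtain ⟨g, hg, l, hl, hI⟩ := H
  let L := Localization.Away (g * h)
  have hu : ∀ x, x ∣ g * h → IsUnit (algebraMap A L x) := fun x hx =>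
    isUnit_of_dvd_unit (map_dvd _ hx) (IsLocalization.Away.algebraMap_isUnit (g * h))
  obtain ⟨l', hl', hI'⟩ := spread hk hl hI (algebraMap A L)
    (RingHom.flat_algebraMap_iff.mpr (IsLocalization.flat _ (Submonoid.powers (g * h)))) (hu g (dvd_mul_right g h))
  have huh := hu h (dvd_mul_left h g)
  exact ⟨g * h, fun hm => (‹p.IsPrime›.mem_or_mem hm).elim hg hh, l', hl',
    (le_antisymm (map_le_map_of_pow _ huh e') (map_le_map_of_pow _ huh e)).trans hI'⟩

/-- Descent along a flat map which is open on spectra. -/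
theorem locAt_descend (hk : Weak k) (φ : A →+* B) (hφ : φ.Flat) (ho : IsOpenMap (PrimeSpectrum.comap φ))
    (I : Ideal A) (q : Ideal B) [hq : q.IsPrime] (hIp : I ≤ q.comap φ) (H : LocAt k (I.map φ) q) :
    LocAt k I (q.comap φ) := by
  obtain ⟨g₁, hg₁, l, hl, hI⟩ := H
  have hopen := ho _ (PrimeSpectrum.basicOpen g₁).2
  obtain ⟨_, ⟨a, rfl⟩, hqa, hsub⟩ := PrimeSpectrum.isTopologicalBasis_basic_opens.exists_subset_of_mem_open
    (Set.mem_image_of_mem _ (show (⟨q, hq⟩ : PrimeSpectrum B) ∈ ((PrimeSpectrum.basicOpen g₁) : Set (PrimeSpectrum B)) from hg₁)) hopen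
  let A' := Localization.Away a
  let B' := Localization.Away (g₁ * φ a)
  have hu : ∀ x, x ∣ g₁ * φ a → IsUnit (algebraMap B B' x) := fun x hx =>
    isUnit_of_dvd_unit (map_dvd _ hx) (IsLocalization.Away.algebraMap_isUnit _)
  have hBB' : (algebraMap B B').Flat :=
    RingHom.flat_algebraMap_iff.mpr (IsLocalization.flat _ (Submonoid.powers (g₁ * φ a)))
  let φ' : A' →+* B' := IsLocalization.Away.lift (S := A') a
    (g := (algebraMap B B').comp φ) (hu _ (dvd_mul_left _ _))
  have hc : φ'.comp (algebraMap A A') = (algebraMap B B').comp φ := IsLocalization.Away.lift_comp ..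
  have hff : φ'.FaithfullyFlat := by
    rw [RingHom.FaithfullyFlat.iff_flat_and_comap_surjective]
    refine ⟨flat_away_lift a _ (hφ.comp hBB') (hu _ (dvd_mul_left _ _)), fun p' => ?_⟩
    have hap : a ∉ (p'.comap (algebraMap A A')).asIdeal := fun hm =>
      p'.isPrime.ne_top (Ideal.eq_top_of_isUnit_mem _ hm (IsLocalization.Away.algebraMap_isUnit a))
    obtain ⟨q', hgq', e⟩ := hsub hap
    have hq' : g₁ * φ a ∉ q'.asIdeal := fun hm => (q'.isPrime.mem_or_mem hm).elim hgq' fun hm' =>
      hap (by rw [← e]; exact hm')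
    have hd : Disjoint (Submonoid.powers (g₁ * φ a) : Set B) (q'.asIdeal : Set B) :=
      (Ideal.disjoint_powers_iff_notMem_of_isPrime _).mpr hq'
    refine ⟨⟨q'.asIdeal.map (algebraMap B B'),
      IsLocalization.isPrime_of_isPrime_disjoint (Submonoid.powers (g₁ * φ a)) B' _ q'.isPrime hd⟩, ?_⟩
    apply PrimeSpectrum.localization_comap_injective A' (Submonoid.powers a)
    apply PrimeSpectrum.ext
    show ((q'.asIdeal.map (algebraMap B B')).comap φ').comap (algebraMap A A') = _
    have hcm : (q'.asIdeal.map (algebraMap B B')).comap (algebraMap B B') = q'.asIdeal :=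
      IsLocalization.comap_map_of_isPrime_disjoint (Submonoid.powers (g₁ * φ a)) B' q'.isPrime hd
    rw [Ideal.comap_comap, hc, ← Ideal.comap_comap, hcm, ← e]
    rfl
  obtain ⟨l₂, hl₂, hI₂⟩ := spread hk hl hI (algebraMap B B') hBB' (hu _ (dvd_mul_right _ _))
  have hloc : Groth.L07.RegImmDescent.LocSeq k ((I.map (algebraMap A A')).map φ') := by
    intro Q _ _
    have h1 : (algebraMap B' (Localization.Away (1 : B'))).Flat :=
      RingHom.flat_algebraMap_iff.mpr (IsLocalization.flat _ (Submonoid.powers (1 : B')))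
    refine ⟨1, fun h => (inferInstance : Q.IsPrime).ne_top ((Ideal.eq_top_iff_one _).mpr h),
      l₂.map (algebraMap B' _), seqMap hk _ h1 hl₂, ?_⟩
    rw [Ideal.map_map (algebraMap A A') φ', hc, ← Ideal.map_map, hI₂, Ideal.map_ofList]
  have hdisj : Disjoint (Submonoid.powers a : Set A) (q.comap φ : Set A) :=
    (Ideal.disjoint_powers_iff_notMem_of_isPrime _).mpr hqa
  haveI : ((q.comap φ).map (algebraMap A A')).IsPrime :=
    IsLocalization.isPrime_of_isPrime_disjoint (Submonoid.powers a) A' _ inferInstance hdisj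
  obtain ⟨g, hg, l', hl', hI'⟩ := Groth.L07.RegImmDescent.locSeq_descend k hk.ne_regular φ' hff _ hloc
    ((q.comap φ).map (algebraMap A A')) (Ideal.map_mono hIp)
  obtain ⟨⟨b, ⟨_, n, rfl⟩⟩, hb⟩ := IsLocalization.surj (Submonoid.powers a) g
  let L := Localization.Away (a * b)
  have huL : ∀ x, x ∣ a * b → IsUnit (algebraMap A L x) := fun x hx =>
    isUnit_of_dvd_unit (map_dvd _ hx) (IsLocalization.Away.algebraMap_isUnit _)
  let θ : A' →+* L := IsLocalization.Away.lift (S := A') a (g := algebraMap A L) (huL a (dvd_mul_right _ _))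
  have hθ : θ.comp (algebraMap A A') = algebraMap A L := IsLocalization.Away.lift_comp ..
  have hθflat : θ.Flat := flat_away_lift a _
    (RingHom.flat_algebraMap_iff.mpr (IsLocalization.flat _ (Submonoid.powers (a * b)))) (huL a (dvd_mul_right _ _))
  have hθg : IsUnit (θ g) := by
    have h1 := congrArg θ hb
    rw [map_mul, ← RingHom.comp_apply θ (algebraMap A A'), ← RingHom.comp_apply θ (algebraMap A A'), hθ] at h1
    exact isUnit_of_mul_isUnit_left (h1 ▸ huL b (dvd_mul_left _ _))
  obtain ⟨l₃, hl₃, hI₃⟩ := spread hk hl' hI' θ hθflat hθg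
  refine ⟨a * b, fun hm => ?_, l₃, hl₃, by rw [← hI₃, Ideal.map_map, hθ]⟩
  rcases (inferInstance : (q.comap φ).IsPrime).mem_or_mem hm with hm | hm
  · exact hqa hm
  · have h2 : algebraMap A A' b ∈ (q.comap φ).map (algebraMap A A') := Ideal.mem_map_of_mem _ hm
    rw [← hb] at h2
    exact hg (((Ideal.mul_unit_mem_iff_mem _ (IsLocalization.map_units A' (⟨a ^ n, n, rfl⟩ : Submonoid.powers a)))).mp h2)

/-- Generators near a prime can be taken inside the ideal. -/
theorem exists_gens {I : Ideal A} {g : A} {l : List (Localization.Away g)}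
    (hI : I.map (algebraMap A (Localization.Away g)) = Ideal.ofList l) :
    ∃ l' : List A, (∀ x ∈ l', x ∈ I) ∧ ∀ x ∈ I, ∃ n : ℕ, g ^ n * x ∈ Ideal.ofList l' := by
  classical
  let L := Localization.Away g
  have key : ∀ x ∈ l, ∃ a ∈ I, ∃ v : L, IsUnit v ∧ x * v = algebraMap A L a := fun x hx => by
    obtain ⟨⟨a, s⟩, e⟩ := (IsLocalization.mem_map_algebraMap_iff (Submonoid.powers g) L).mp
      (hI.ge (Ideal.subset_span hx))
    exact ⟨a.1, a.2, _, IsLocalization.map_units L s, e⟩
  choose a haI v hv hav using key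
  refine ⟨l.pmap a fun _ h => h, fun x hx => ?_, fun x hx => ?_⟩
  · obtain ⟨y, hy, rfl⟩ := List.mem_pmap.mp hx
    exact haI y hy
  · have : algebraMap A L x ∈ (Ideal.ofList (l.pmap a fun _ h => h)).map (algebraMap A L) := by
      have h1 : Ideal.ofList l ≤ (Ideal.ofList (l.pmap a fun _ h => h)).map (algebraMap A L) :=
        Ideal.span_le.mpr fun y hy => (Ideal.mul_unit_mem_iff_mem _ (hv y hy)).mp (by
          rw [hav y hy]
          exact Ideal.mem_map_of_mem _ (Ideal.subset_span (List.mem_pmap.mpr ⟨y, hy, rfl⟩)))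
      exact h1 (hI.le (Ideal.mem_map_of_mem _ hx))
    obtain ⟨m, hm, hk⟩ :=
      (IsLocalization.algebraMap_mem_map_algebraMap_iff (Submonoid.powers g) L _ x).mp this
    obtain ⟨k, rfl⟩ := (Submonoid.mem_powers_iff _ _).mp hm
    exact ⟨k, hk⟩

variable {R : Type u} [CommRing R] {n : ℕ}

/-- An ideal whose preimage in a polynomial ring is regular of the given kind is regular of that kind. -/
theorem locAt_of_comap_constantCoeff (hk : Weak k) (I p : Ideal R) [p.IsPrime] (hIp : I ≤ p)
    (H : LocAt k (I.comap (constantCoeff (R := R) (σ := Fin n))) (p.comap constantCoeff)) : LocAt k I p := by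
  classical
  obtain ⟨G, hG, l', hl', hI'⟩ := H
  obtain ⟨lA, hlA, hgA⟩ := exists_gens hI'
  let A := MvPolynomial (Fin n) R
  let ev : A →+* R := constantCoeff
  let P := p.comap ev
  let M := Localization.AtPrime P
  let Xs : List A := List.ofFn fun i => X i
  let f₀ := lA.map ev
  have gen : ∀ {L : Type u} [CommRing L] (φ : A →+* L) (l₂ : List R) (g : R), IsUnit (φ (C g)) →
      (∀ x ∈ l₂, x ∈ I) → (∀ x ∈ I, ∃ k : ℕ, g ^ k * x ∈ Ideal.ofList l₂) →
      (I.comap ev).map φ = Ideal.ofList ((l₂.map C ++ Xs).map φ) := by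
    intro L _ φ l₂ g hu h1 h2
    rw [comap_constantCoeff, Ideal.map_sup, List.map_append, Ideal.ofList_append, Ideal.map_ofList, Ideal.map_map,
      map_eq (φ.comp C) hu h1 h2, List.map_map, RingHom.coe_comp]
  have hf₀ : ∀ x ∈ f₀, x ∈ I := fun x hx => by
    obtain ⟨f, hf, rfl⟩ := List.mem_map.mp hx
    exact hlA f hf
  have hgenI : ∀ x ∈ I, ∃ k : ℕ, ev G ^ k * x ∈ Ideal.ofList f₀ := fun x hx => by
    obtain ⟨k, hk⟩ := hgA (C x) (by rw [Ideal.mem_comap, constantCoeff_C]; exact hx)
    have := Ideal.mem_map_of_mem ev hk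
    rw [map_mul, map_pow, Ideal.map_ofList, show ev (C x) = x from constantCoeff_C _ x] at this
    exact ⟨k, this⟩
  have huG₁ : IsUnit (algebraMap A M (C (ev G))) := IsLocalization.map_units M
    (⟨C (ev G), fun e => hG (show ev G ∈ p from (constantCoeff_C (Fin n) (ev G)) ▸ (e : ev (C (ev G)) ∈ p))⟩ : P.primeCompl)
  have huG : IsUnit (algebraMap A M G) := IsLocalization.map_units M (⟨G, hG⟩ : P.primeCompl)
  obtain ⟨l₁, hl₁, hlen, hgen⟩ := exists_short_gens p f₀ (fun x hx => hIp (hf₀ x hx))
    ((l'.map (IsLocalization.Away.lift (S := Localization.Away G) G huG)))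
    (by
      rw [← gen (algebraMap A M) f₀ (ev G) huG₁ hf₀ hgenI, ← Ideal.map_ofList,
        ← hI', Ideal.map_map, IsLocalization.Away.lift_comp])
  rw [List.length_map] at hlen
  obtain ⟨t, ht, htI⟩ := exists_den p f₀ l₁ hgen
  have hl₁I : ∀ x ∈ l₁, x ∈ I := fun x hx => hf₀ x (hl₁ x hx)
  let g₂ := ev G * t
  have hgen₂ : ∀ x ∈ I, ∃ k : ℕ, g₂ ^ k * x ∈ Ideal.ofList l₁ := fun x hx => by
    obtain ⟨k, hk⟩ := hgenI x hx
    refine ⟨k + 1, ?_⟩
    rw [show g₂ ^ (k + 1) * x = ev G * t ^ k * (t * (ev G ^ k * x)) by ring]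
    exact Ideal.mul_mem_left _ _ (htI _ hk)
  let K := G * C g₂
  let M' := Localization.Away K
  have hu : ∀ x, x ∣ K → IsUnit (algebraMap A M' x) := fun x hx =>
    isUnit_of_dvd_unit (map_dvd _ hx) (IsLocalization.Away.algebraMap_isUnit K)
  have hMflat : (algebraMap A M').Flat := RingHom.flat_algebraMap_iff.mpr (IsLocalization.flat _ (Submonoid.powers K))
  have huG' := hu G (dvd_mul_right _ _)
  have hreg : k.Seq M' ((l₁.map C ++ Xs).map (algebraMap A M')) := by
    refine seq_of_length_le hk (seqMap hk _ (flat_away_lift G _ hMflat huG') hl') ?_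
      (by simpa [Xs] using hlen)
    rw [← gen (algebraMap A M') l₁ g₂ (hu _ (dvd_mul_left _ _)) hl₁I hgen₂, ← Ideal.map_ofList, ← hI',
      Ideal.map_map, IsLocalization.Away.lift_comp]
  obtain ⟨τ, hτs, hτ, hτk⟩ := away_map ev (fun x => ⟨C x, constantCoeff_C _ x⟩) K
  rw [List.map_append] at hreg
  have h4 := seq_of_append hk (Xs.map (algebraMap A M')) τ hτs
    (by rw [hτk, ker_constantCoeff, Ideal.map_ofList]) _ hreg
  have e4 : ((l₁.map C).map (algebraMap A M')).map τ = l₁.map (algebraMap R (Localization.Away (ev K))) := by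
    rw [List.map_map, List.map_map]
    refine List.map_congr_left fun x _ => ?_
    show τ (algebraMap A M' (C x)) = _
    rw [show τ (algebraMap A M' (C x)) = _ from RingHom.congr_fun hτ (C x), RingHom.comp_apply,
      show ev (C x) = x from constantCoeff_C _ x]
  rw [e4] at h4
  refine ⟨ev K, ?_, _, h4, ?_⟩
  · rw [map_mul, show ev (C g₂) = g₂ from constantCoeff_C _ g₂]
    exact fun e => ((inferInstance : p.IsPrime).mem_or_mem e).elim hG
      fun e => ((inferInstance : p.IsPrime).mem_or_mem e).elim hG ht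
  · refine map_eq (algebraMap R _) ?_ hl₁I hgen₂
    refine isUnit_of_dvd_unit (map_dvd _ ?_) (IsLocalization.Away.algebraMap_isUnit (ev K))
    rw [map_mul, show ev (C g₂) = g₂ from constantCoeff_C _ g₂]
    exact dvd_mul_left _ _

/-- Contraction of an ideal regular of the given kind along a standard smooth algebra with the same quotient. -/
theorem locAt_comap_of_standardSmooth (hk : Weak k) {R R' : Type u} [CommRing R] [CommRing R'] (f : R →+* R')
    (hf : f.IsStandardSmooth) (J : Ideal R') (hs : Function.Surjective ((Ideal.Quotient.mk J).comp f))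
    (P : Ideal R') [P.IsPrime] (hJP : J ≤ P) (H : LocAt k J P) :
    LocAt k (J.comap f) (P.comap f) := by
  obtain ⟨n, g, hg, hge⟩ := hf.exists_etale_mvPolynomial
  choose r hr using fun i => hs (Ideal.Quotient.mk J (g (MvPolynomial.X i)))
  let e : MvPolynomial (Fin n) R ≃ₐ[R] MvPolynomial (Fin n) R := AlgEquiv.ofAlgHom
    (MvPolynomial.aeval fun i => MvPolynomial.X i - MvPolynomial.C (r i))
    (MvPolynomial.aeval fun i => MvPolynomial.X i + MvPolynomial.C (r i))
    (MvPolynomial.algHom_ext fun i => by simp) (MvPolynomial.algHom_ext fun i => by simp)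
  let ψ : MvPolynomial (Fin n) R →+* R' := g.comp e.toRingEquiv.toRingHom
  have hψe : ψ.Etale := (RingHom.Etale.stableUnderComposition) _ _ (RingHom.Etale.of_bijective e.bijective) hge
  have hψC : ∀ x, ψ (MvPolynomial.C x) = f x := fun x => by
    show g (e (MvPolynomial.C x)) = f x
    rw [← hg, RingHom.comp_apply]
    exact congrArg g (e.commutes x)
  have hψX : ∀ i, ψ (MvPolynomial.X i) ∈ J := fun i => by
    show g (e (MvPolynomial.X i)) ∈ J
    have : e (MvPolynomial.X i) = MvPolynomial.X i - MvPolynomial.C (r i) := by simp [e]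
    rw [this, map_sub, ← Ideal.Quotient.eq]
    exact (hr i).symm.trans (congrArg (Ideal.Quotient.mk J) (RingHom.congr_fun hg (r i)).symm)
  let ev : MvPolynomial (Fin n) R →+* R := MvPolynomial.constantCoeff
  have hev : ∀ (K : Ideal R'), J ≤ K → K.comap ψ = (K.comap f).comap ev := fun K hK => by
    ext x
    have hx : ψ x - f (ev x) ∈ K := by
      refine hK ?_
      rw [← Ideal.Quotient.eq]
      have : (Ideal.Quotient.mk J).comp ψ = (Ideal.Quotient.mk J).comp (f.comp ev) :=
        MvPolynomial.ringHom_ext (fun y => by simp [hψC, ev]) fun i => by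
          simp [ev, Ideal.Quotient.eq_zero_iff_mem.mpr (hψX i)]
      exact RingHom.congr_fun this x
    rw [Ideal.mem_comap, Ideal.mem_comap, Ideal.mem_comap]
    exact ⟨fun h => by simpa using sub_mem h hx, fun h => by simpa using add_mem hx h⟩
  letI := ψ.toAlgebra
  haveI : Algebra.Etale (MvPolynomial (Fin n) R) R' := hψe
  have hflat : ψ.Flat := (inferInstance : Module.Flat (MvPolynomial (Fin n) R) R')
  have hsψ : Function.Surjective ((Ideal.Quotient.mk J).comp ψ) := fun y => by
    obtain ⟨x, rfl⟩ := hs y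
    exact ⟨MvPolynomial.C x, by simp [hψC]⟩
  obtain ⟨h, h1, hh⟩ := exists_eq_map_near (A := MvPolynomial (Fin n) R) J hsψ
  have hhP : h ∉ P := fun e' => (inferInstance : P.IsPrime).ne_top
    ((Ideal.eq_top_iff_one _).mpr (by simpa using sub_mem e' (hJP h1)))
  have hle : (J.comap ψ).map ψ ≤ J := Ideal.map_comap_le
  have H' : LocAt k ((J.comap ψ).map ψ) P :=
    H.congr hk hhP (fun x hx => ⟨1, by rw [pow_one]; exact hh x hx⟩) (fun x hx => ⟨0, by simpa using hle hx⟩)
  haveI : Algebra.HasGoingDown (MvPolynomial (Fin n) R) R' := inferInstance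
  have hopen : IsOpenMap (PrimeSpectrum.comap ψ) :=
    PrimeSpectrum.isOpenMap_comap_of_hasGoingDown_of_finitePresentation
  refine locAt_of_comap_constantCoeff (n := n) hk (J.comap f) (P.comap f) (Ideal.comap_mono hJP) ?_
  rw [← hev J le_rfl, ← hev P hJP]
  exact locAt_descend hk ψ hflat hopen _ P (Ideal.comap_mono hJP) H'

end Groth.L07.KindSmooth
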