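import Groth.Agent.L07.KoszulLCI
import Mathlib.RingTheory.TensorProduct.MvPolynomial
import Mathlib.RingTheory.RingHom.FaithfullyFlat

/-! Presentations and base change. -/

set_option autoImplicit false
set_option linter.style.haveILetI false
set_option maxSynthPendingDepth 3

universe u

open CategoryTheory TensorProduct

namespace Groth.L07.KoszulChart

theorem flat_map {A A' : Type u} [CommRing A] [CommRing A'] (e : A →+* A') (d : ℕ) :
    (e.Flat → (MvPolynomial.map (σ := Fin d) e).Flat) ∧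
      (e.FaithfullyFlat → (MvPolynomial.map (σ := Fin d) e).FaithfullyFlat) := by
  letI := e.toAlgebra
  letI : Algebra (MvPolynomial (Fin d) A) (MvPolynomial (Fin d) A') := (MvPolynomial.map e).toAlgebra
  haveI : IsScalarTower A (MvPolynomial (Fin d) A) (MvPolynomial (Fin d) A') :=
    IsScalarTower.of_algebraMap_eq fun x => by simp [RingHom.algebraMap_toAlgebra]
  haveI : Algebra.IsPushout A A' (MvPolynomial (Fin d) A) (MvPolynomial (Fin d) A') :=
    MvPolynomial.instIsPushout
  haveI : Algebra.IsPushout A (MvPolynomial (Fin d) A) A' (MvPolynomial (Fin d) A') := Algebra.IsPushout.symm ‹_›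
  let E := (Algebra.IsPushout.equiv A (MvPolynomial (Fin d) A) A' (MvPolynomial (Fin d) A')).toLinearEquiv.symm
  refine ⟨fun h => ?_, fun h => ?_⟩
  · haveI : Module.Flat A A' := h
    exact Module.Flat.of_linearEquiv E
  · haveI : Module.FaithfullyFlat A A' := h
    exact Module.FaithfullyFlat.of_linearEquiv _ _ E

/-- The base change of a presentation. -/
theorem presentation_baseChange {A A' B B' : CommRingCat.{u}} {f : A ⟶ B} {ψ : A ⟶ A'} {u₁ : B ⟶ B'}
    {f' : A' ⟶ B'} (h : IsPushout f ψ u₁ f') {n : ℕ} (α : MvPolynomial (Fin n) A →+* B)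
    (hα : Function.Surjective α) (hαC : α.comp MvPolynomial.C = f.hom) :
    ∃ α' : MvPolynomial (Fin n) A' →+* B', Function.Surjective α' ∧ α'.comp MvPolynomial.C = f'.hom ∧
      α'.comp (MvPolynomial.map ψ.hom) = u₁.hom.comp α ∧
      RingHom.ker α' = (RingHom.ker α).map (MvPolynomial.map ψ.hom) := by
  let μ : MvPolynomial (Fin n) A →+* MvPolynomial (Fin n) A' := MvPolynomial.map ψ.hom
  let α' : MvPolynomial (Fin n) A' →+* B' := MvPolynomial.eval₂Hom f'.hom fun i => u₁.hom (α (MvPolynomial.X i))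
  have hC : ∀ a, α (MvPolynomial.C a) = f.hom a := fun a => RingHom.congr_fun hαC a
  have hw : ∀ a, f'.hom (ψ.hom a) = u₁.hom (f.hom a) := fun a =>
    (congrArg (fun m : A ⟶ B' => m.hom a) h.w).symm
  have hc : α'.comp μ = u₁.hom.comp α :=
    MvPolynomial.ringHom_ext (fun a => by simp [α', μ, hC, hw]) fun i => by simp [α', μ]
  let K := (RingHom.ker α).map μ
  have hK : K ≤ RingHom.ker α' := Ideal.map_le_iff_le_comap.mpr fun x hx => by
    rw [Ideal.mem_comap, RingHom.mem_ker, ← RingHom.comp_apply, hc, RingHom.comp_apply, RingHom.mem_ker.mp hx, map_zero]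
  let C' := MvPolynomial (Fin n) A' ⧸ K
  let πK := Ideal.Quotient.mk K
  let b : B →+* C' := α.liftOfSurjective hα ⟨πK.comp μ, fun x hx => by
    rw [RingHom.mem_ker, RingHom.comp_apply, Ideal.Quotient.eq_zero_iff_mem]
    exact Ideal.mem_map_of_mem μ hx⟩
  have hb : ∀ x, b (α x) = πK (μ x) := fun x => RingHom.liftOfSurjective_comp_apply ..
  let d : B' ⟶ CommRingCat.of C' := h.desc (CommRingCat.ofHom b) (CommRingCat.ofHom (πK.comp MvPolynomial.C))
    (CommRingCat.hom_ext (RingHom.ext fun a => by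
      show b (f.hom a) = πK (MvPolynomial.C (ψ.hom a))
      rw [← hC, hb]
      simp [μ]))
  let q : C' →+* B' := Ideal.Quotient.lift K α' hK
  have hd1 : ∀ y, d.hom (u₁.hom y) = b y := fun y => congrArg (fun m : B ⟶ CommRingCat.of C' => m.hom y) (h.inl_desc _ _ _)
  have hd2 : ∀ r, d.hom (f'.hom r) = πK (MvPolynomial.C r) := fun r =>
    congrArg (fun m : A' ⟶ CommRingCat.of C' => m.hom r) (h.inr_desc _ _ _)
  have hqd : d ≫ CommRingCat.ofHom q = 𝟙 B' := by
    refine h.hom_ext (CommRingCat.hom_ext (RingHom.ext fun y => ?_)) (CommRingCat.hom_ext (RingHom.ext fun r => ?_))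
    · obtain ⟨x, rfl⟩ := hα y
      show q (d.hom (u₁.hom (α x))) = u₁.hom (α x)
      rw [hd1, hb]
      exact RingHom.congr_fun hc x
    · show q (d.hom (f'.hom r)) = f'.hom r
      rw [hd2]
      exact MvPolynomial.eval₂Hom_C ..
  have hdq : d.hom.comp α' = πK := by
    refine MvPolynomial.ringHom_ext (fun r => ?_) fun i => ?_
    · show d.hom (α' (MvPolynomial.C r)) = _
      rw [show α' (MvPolynomial.C r) = f'.hom r from MvPolynomial.eval₂Hom_C .., hd2]
    · show d.hom (α' (MvPolynomial.X i)) = _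
      rw [show α' (MvPolynomial.X i) = u₁.hom (α (MvPolynomial.X i)) from MvPolynomial.eval₂Hom_X' .., hd1, hb]
      simp [μ]
  refine ⟨α', fun y => ?_, RingHom.ext fun r => MvPolynomial.eval₂Hom_C .., hc, le_antisymm (fun x hx => ?_) hK⟩
  · obtain ⟨z, hz⟩ := Ideal.Quotient.mk_surjective (d.hom y)
    refine ⟨z, ?_⟩
    have : q (d.hom y) = y := congrArg (fun m : B' ⟶ B' => m.hom y) hqd
    rw [← this, ← hz]
    rfl
  · refine Ideal.Quotient.eq_zero_iff_mem.mp ?_
    rw [← RingHom.congr_fun hdq x, RingHom.comp_apply, RingHom.mem_ker.mp hx, map_zero]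

end Groth.L07.KoszulChart
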