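import Groth.Agent.L07.RegImmLocal
import Mathlib.RingTheory.RingHom.Smooth
import Mathlib.AlgebraicGeometry.Morphisms.FiniteType

/-! Koszul morphisms through affine charts. -/

set_option autoImplicit false
set_option linter.style.haveILetI false
set_option maxSynthPendingDepth 3

universe u

open CategoryTheory CategoryTheory.Limits AlgebraicGeometry

namespace Groth.L07.KoszulChart

open Groth.L07.KoszulIdeal (RegAt)
open Groth.L07.RegImmAt

theorem regAt_equiv {A B : Type u} [CommRing A] [CommRing B] (φ : A →+* B) (hφ : Function.Bijective φ)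
    (I : Ideal B) (q : Ideal B) [q.IsPrime] (hIq : I ≤ q) : RegAt I q ↔ RegAt (I.comap φ) (q.comap φ) := by
  have e : (I.comap φ).map φ = I := Ideal.map_comap_of_surjective φ hφ.2 I
  refine ⟨fun h => ?_, fun h => e ▸ RegAt.map φ (RingHom.Flat.of_bijective hφ) q h⟩
  refine Groth.L07.KoszulIdeal.regAt_descend φ (RingHom.Flat.of_bijective hφ) ?_ _ q (Ideal.comap_mono hIq) (e.symm ▸ h)
  exact (PrimeSpectrum.homeomorphOfRingEquiv (RingEquiv.ofBijective φ hφ)).symm.isOpenMap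

/-- A closed immersion of affine schemes. -/
theorem regularAt_SpecMap_iff {R B : CommRingCat.{u}} (α : R ⟶ B) (hα : Function.Surjective α.hom) (q : Spec B) :
    RegImm.IsRegularImmersionAt .koszul (Spec.map α) q ↔ RegAt (RingHom.ker α.hom) (q.asIdeal.comap α.hom) := by
  haveI : IsClosedImmersion (Spec.map α) := IsClosedImmersion.spec_of_surjective α hα
  let i := Spec.map α
  have hW : IsAffineOpen (⊤ : (Spec R).Opens) := isAffineOpen_top _
  have hcl : IsClosedImmersion (i ∣_ ⊤) := inferInstance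
  let φ := (Scheme.ΓSpecIso R).inv.hom
  have hφ : Function.Bijective φ := ConcreteCategory.bijective_of_isIso (Scheme.ΓSpecIso R).inv
  let P := (hW.primeIdealOf ⟨i q, trivial⟩).asIdeal
  have hmem : ∀ g, i q ∈ (Spec R).basicOpen g ↔ g ∉ P := fun g => by
    have h1 : hW.fromSpec (hW.primeIdealOf ⟨i q, trivial⟩) = i q := hW.fromSpec_primeIdealOf ⟨i q, trivial⟩
    have h2 : hW.primeIdealOf ⟨i q, trivial⟩ ∈ hW.fromSpec ⁻¹ᵁ (Spec R).basicOpen g ↔ i q ∈ (Spec R).basicOpen g := by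
      show hW.fromSpec (hW.primeIdealOf ⟨i q, trivial⟩) ∈ (Spec R).basicOpen g ↔ _
      rw [h1]
    rw [← h2, hW.fromSpec_preimage_basicOpen]
    rfl
  have hP : P.comap φ = q.asIdeal.comap α.hom := by
    ext r
    rw [Ideal.mem_comap, ← not_iff_not, ← hmem, show φ r = (Scheme.ΓSpecIso R).inv r from rfl,
      basicOpen_eq_of_affine]
    rfl
  have hcomm : (i.appTop).hom.comp φ = ((Scheme.ΓSpecIso B).inv.hom).comp α.hom := by
    rw [← CommRingCat.hom_comp, ← CommRingCat.hom_comp, Scheme.ΓSpecIso_inv_naturality]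
  have hinjB : Function.Injective (Scheme.ΓSpecIso B).inv.hom :=
    (ConcreteCategory.bijective_of_isIso (Scheme.ΓSpecIso B).inv).1
  have hker : (RingHom.ker (i.app ⊤).hom).comap φ = RingHom.ker α.hom := by
    show (RingHom.ker i.appTop.hom).comap φ = _
    rw [RingHom.comap_ker, hcomm]
    exact RingHom.ker_comp_of_injective _ hinjB
  have hle : RingHom.ker (i.app ⊤).hom ≤ P := fun w hw => by
    by_contra hn
    have h1 : q ∈ i ⁻¹ᵁ (Spec R).basicOpen w := (hmem w).mpr hn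
    rw [i.preimage_basicOpen, RingHom.mem_ker.mp hw, Scheme.basicOpen_zero] at h1
    exact h1
  rw [regularAt_iff i ⊤ hW hcl q trivial, regAt_equiv φ hφ _ _ hle, hker, hP]

/-- Koszul at a point, read in a smooth affine presentation. -/
theorem isKoszulAt_iff {X Y : Scheme.{u}} (f : X ⟶ Y) {U : X.Opens} (hU : IsAffineOpen U) {V : Y.Opens}
    (hV : IsAffineOpen V) (e : U ≤ f ⁻¹ᵁ V) {R : Type u} [CommRing R] (φ : Γ(Y, V) →+* R) (hφ : φ.Smooth)
    (α : R →+* Γ(X, U)) (hα : Function.Surjective α) (h : α.comp φ = (f.appLE V U e).hom) (x : X) (hx : x ∈ U) :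
    Synt.IsKoszulAt f x ↔ RegAt (RingHom.ker α) ((hU.primeIdealOf ⟨x, hx⟩).asIdeal.comap α) := by
  let sα := CommRingCat.ofHom α
  let k : (U : Scheme.{u}) ⟶ Spec (CommRingCat.of R) := hU.isoSpec.hom ≫ Spec.map sα
  let π : Spec (CommRingCat.of R) ⟶ Y := Spec.map (CommRingCat.ofHom φ) ≫ hV.fromSpec
  haveI : Smooth (Spec.map (CommRingCat.ofHom φ)) := HasRingHomProperty.Spec_iff.mpr hφ
  haveI : Smooth π := inferInstanceAs (Smooth (_ ≫ hV.fromSpec))
  haveI : IsClosedImmersion (Spec.map sα) := IsClosedImmersion.spec_of_surjective sα hα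
  haveI : IsClosedImmersion k := inferInstanceAs (IsClosedImmersion (hU.isoSpec.hom ≫ Spec.map sα))
  have hk : k ≫ π = U.ι ≫ f := by
    have e1 : CommRingCat.ofHom φ ≫ sα = f.appLE V U e := CommRingCat.hom_ext h
    simp only [k, π, Category.assoc]
    rw [← Spec.map_comp_assoc, e1, IsAffineOpen.SpecMap_appLE_fromSpec (hV := hU), IsAffineOpen.isoSpec_hom_fromSpec_assoc]
  have hiff : RegImm.IsRegularImmersionAt .koszul k ⟨x, hx⟩ ↔
      RegAt (RingHom.ker α) ((hU.primeIdealOf ⟨x, hx⟩).asIdeal.comap α) := by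
    show RegImm.IsRegularImmersionAt .koszul (hU.isoSpec.hom ≫ Spec.map sα) _ ↔ _
    rw [regularAt_restrict_iff hU.isoSpec.hom (Spec.map sα) ⟨x, hx⟩, regularAt_SpecMap_iff sα hα]
    rfl
  rw [← hiff]
  constructor
  · rintro ⟨U₀, P, i, π₀, hxU₀, -, ⟨hi, hreg⟩, hπ₀, e₀⟩
    haveI := hi
    haveI := hπ₀
    let U' := U ⊓ U₀
    let a := X.homOfLE (inf_le_left : U' ≤ U)
    let b := X.homOfLE (inf_le_right : U' ≤ U₀)
    have e' : (a ≫ k) ≫ π = (b ≫ i) ≫ π₀ := by
      simp only [Category.assoc, hk, e₀, a, b, Scheme.homOfLE_ι_assoc]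
    have hax : a ⟨x, hx, hxU₀⟩ = ⟨x, hx⟩ := Subtype.ext (congrArg (fun m : (U' : Scheme.{u}) ⟶ X => m ⟨x, hx, hxU₀⟩)
      (X.homOfLE_ι (inf_le_left : U' ≤ U)))
    rw [← hax]
    refine (regularAt_restrict_iff a k ⟨x, hx, hxU₀⟩).mp ?_
    exact (regularAt_iff_of_smooth π π₀ (a ≫ k) (b ≫ i) e' _).mpr ((regularAt_restrict_iff b i ⟨x, hx, hxU₀⟩).mpr (hreg _))
  · intro hreg
    obtain ⟨W, hxW, hcl, rs, hrs, hker⟩ := hreg
    let U' := U.ι ''ᵁ (k ⁻¹ᵁ W.1)
    have hle : U' ≤ U := U.ι_image_le _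
    refine ⟨U', Spec (CommRingCat.of R), X.homOfLE hle ≫ k, π, ⟨⟨x, hx⟩, hxW, rfl⟩, ?_, ⟨inferInstance, fun z => ?_⟩,
      inferInstance, by rw [Category.assoc, hk, Scheme.homOfLE_ι_assoc]⟩
    · haveI : LocallyOfFiniteType (X.homOfLE hle ≫ k ≫ π) := inferInstance
      rw [hk, Scheme.homOfLE_ι_assoc] at this
      exact this
    · rw [regularAt_restrict_iff]
      refine ⟨W, ?_, hcl, rs, hrs, hker⟩
      obtain ⟨w, hw, hw'⟩ := z.2
      have : X.homOfLE hle z = w := Subtype.ext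
        ((congrArg (fun m : (U' : Scheme.{u}) ⟶ X => m z) (X.homOfLE_ι hle)).trans hw'.symm)
      rw [this]
      exact hw

end Groth.L07.KoszulChart
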