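import Groth.Agent.L07.KoszulPerm

/-! Relations of a Koszul-regular sequence have coefficients in its ideal. -/

set_option autoImplicit false
set_option linter.style.haveILetI false
set_option backward.isDefEq.respectTransparency.types false

universe u

open CategoryTheory CategoryTheory.Limits CochainComplex CochainComplex.HomComplex CohIII
open Groth.L02.PC (coneEquiv coneEquiv_d)
open Groth.L04.Koszul
open Groth.L28.Kun (Z cl cl_surjective cl_eq_zero_iff homologyMap_cl)

namespace Groth.L07.KoszulRel

variable {A : Type u} [CommRing A] (M : ModuleCat.{u} A)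

/-- Coordinates on the two last terms of the Koszul complex. -/
theorem exists_coordinates : ∀ fs : List A,
    ∃ (e : (koszulCx M fs).X 0 ≃ₗ[A] M) (ρ : (koszulCx M fs).X (-1) →ₗ[A] (Fin fs.length → M)),
      Function.Surjective ρ ∧
      (∀ z, e ((koszulCx M fs).d (-1) 0 z) = ∑ i, fs[i] • ρ z i) ∧
      ∀ w i, ρ ((koszulCx M fs).d (-2) (-1) w) i ∈ Ideal.ofList fs • (⊤ : Submodule A M)
  | [] => by
    refine ⟨(HomologicalComplex.singleObjXIsoOfEq (ComplexShape.up ℤ) (0 : ℤ) M 0 rfl).toLinearEquiv, 0,
      fun m => ⟨0, funext fun i => i.elim0⟩, fun z => ?_, fun w i => i.elim0⟩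
    have := ModuleCat.isZero_iff_subsingleton.1 (isZero_X M [] (-1) (Or.inr (by norm_num)))
    rw [Subsingleton.elim z 0, map_zero, map_zero]
    exact Finset.sum_eq_zero (fun i _ => i.elim0) |>.symm
  | f :: fs => by
    obtain ⟨e, ρ, hρ, hd, hw⟩ := exists_coordinates fs
    let φ := stepHom M f fs
    have hone := ModuleCat.isZero_iff_subsingleton.1 (isZero_X M fs 1 (Or.inl one_pos))
    let E0 := coneEquiv φ 0 1 (zero_add 1)
    let E1 := coneEquiv φ (-1) 0 (neg_add_cancel 1)
    let e' : (mappingCone φ).X 0 ≃ₗ[A] M :=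
      E0.trans ({
        toFun := fun z => e z.2
        map_add' := fun z w => map_add e z.2 w.2
        map_smul' := fun r z => map_smul e r z.2
        invFun := fun m => (0, e.symm m)
        left_inv := fun z => Prod.ext (Subsingleton.elim _ _) (e.symm_apply_apply z.2)
        right_inv := fun m => e.apply_symm_apply m } : ((koszulCx M fs).X 1 × (koszulCx M fs).X 0) ≃ₗ[A] M)
    let ρ' : (mappingCone φ).X (-1) →ₗ[A] (Fin (fs.length + 1) → M) :=
      LinearMap.comp
        { toFun := fun z => Fin.cons (α := fun _ => M) (e z.1) (ρ z.2)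
          map_add' := fun z w => by
            funext i
            refine Fin.cases ?_ (fun j => ?_) i
            · simp
            · simp
          map_smul' := fun r z => by
            funext i
            refine Fin.cases ?_ (fun j => ?_) i
            · simp
            · simp } E1.toLinearMap
    have he : ∀ p x, e' (cmk φ 0 1 (zero_add 1) p x) = e x := fun p x =>
      congrArg (fun z => e (Prod.snd z)) (coneEquiv_cmk φ (zero_add 1) p x)
    have hr : ∀ p x, ρ' (cmk φ (-1) 0 (neg_add_cancel 1) p x) = Fin.cons (α := fun _ => M) (e p) (ρ x) :=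
      fun p x => congrArg (fun z => Fin.cons (α := fun _ => M) (e (Prod.fst z)) (ρ (Prod.snd z)))
        (coneEquiv_cmk φ (neg_add_cancel 1) p x)
    have h1 : Function.Surjective ρ' := fun m => by
      obtain ⟨y, hy⟩ := hρ (Fin.tail (α := fun _ => M) m)
      refine ⟨cmk φ (-1) 0 (neg_add_cancel 1) (e.symm (m 0)) y, ?_⟩
      rw [hr, e.apply_symm_apply, hy]
      exact Fin.cons_self_tail m
    have h2 : ∀ z, e' ((mappingCone φ).d (-1) 0 z) = ∑ i : Fin (fs.length + 1), (f :: fs)[i.1] • ρ' z i := fun z => by
      obtain ⟨p, x, rfl⟩ := exists_cmk φ (neg_add_cancel 1) z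
      rw [d_cmk φ (neg_add_cancel 1) (zero_add 1), he, map_add, hd, show φ.f 0 p = f • p from rfl, map_smul, hr,
        Fin.sum_univ_succ]
      simp only [Fin.cons_zero, Fin.cons_succ]
      rfl
    have h3 : ∀ w i, ρ' ((mappingCone φ).d (-2) (-1) w) i ∈ Ideal.ofList (f :: fs) • (⊤ : Submodule A M) := fun w i => by
      obtain ⟨q, y, rfl⟩ := exists_cmk φ (show (-2 : ℤ) + 1 = -1 by norm_num) w
      rw [d_cmk φ (show (-2 : ℤ) + 1 = -1 by norm_num) (neg_add_cancel 1), hr]
      have hle : Ideal.ofList fs • (⊤ : Submodule A M) ≤ Ideal.ofList (f :: fs) • ⊤ :=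
        Submodule.smul_mono_left (by rw [Ideal.ofList_cons]; exact le_sup_right)
      have hf : f ∈ Ideal.ofList (f :: fs) := Ideal.subset_span List.mem_cons_self
      refine Fin.cases ?_ (fun j => ?_) i
      · rw [Fin.cons_zero, map_neg, hd]
        refine neg_mem (hle (Submodule.sum_mem _ fun k _ => ?_))
        exact Submodule.smul_mem_smul (Ideal.subset_span (List.getElem_mem k.2)) trivial
      · rw [Fin.cons_succ, map_add, Pi.add_apply, show φ.f (-1) q = f • q from rfl, map_smul]
        exact add_mem (Submodule.smul_mem_smul hf trivial) (hle (hw y j))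
    exact ⟨e', ρ', h1, h2, h3⟩

/-- Coefficients of relations. -/
theorem mem_of_relation (fs : List A) (h : IsZero ((koszulCx M fs).homology (-1))) (m : Fin fs.length → M)
    (hm : ∑ i, fs[i] • m i = 0) (i : Fin fs.length) : m i ∈ Ideal.ofList fs • (⊤ : Submodule A M) := by
  obtain ⟨e, ρ, hρ, hd, hw⟩ := exists_coordinates M fs
  obtain ⟨z, rfl⟩ := hρ m
  have hz : z ∈ Z (koszulCx M fs) (-1) := by
    show (koszulCx M fs).d (-1) (-1 + 1) z = 0
    exact e.injective (((hd z).trans hm).trans (map_zero e).symm)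
  haveI := ModuleCat.isZero_iff_subsingleton.1 h
  obtain ⟨w, hwz⟩ := (cl_eq_zero_iff (koszulCx M fs) (show (-2 : ℤ) + 1 = -1 by norm_num) ⟨z, hz⟩).1
    (Subsingleton.elim _ _)
  rw [show z = (koszulCx M fs).d (-2) (-1) w from hwz.symm]
  exact hw w i

/-- Coefficients of a relation among the members of a Koszul-regular family. -/
theorem mem_of_sum_eq_zero {c : ℕ} (f : Fin c → A) (h : LCI.IsKoszulRegularSeq A (List.ofFn f)) (a : Fin c → A)
    (ha : ∑ i, a i * f i = 0) (i : Fin c) : a i ∈ Ideal.span (Set.range f) := by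
  have hlen : (List.ofFn f).length = c := List.length_ofFn
  have h1 := mem_of_relation (ModuleCat.of A A) (List.ofFn f)
    ((Groth.L07.KoszulPerm.isKoszulRegularSeq_iff _).1 h (-1) (by norm_num)) (fun j => a (Fin.cast hlen j)) (by
      refine Eq.trans ?_ ha
      refine Fintype.sum_equiv (finCongr hlen) _ _ fun j => ?_
      show (List.ofFn f)[j] * a (Fin.cast hlen j) = a (Fin.cast hlen j) * f (Fin.cast hlen j)
      rw [Fin.getElem_fin, List.getElem_ofFn, mul_comm]
      rfl) (Fin.cast hlen.symm i)
  have h2 : Ideal.ofList (List.ofFn f) = Ideal.span (Set.range f) := by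
    show Ideal.span _ = _
    congr 1
    ext x
    simp [List.mem_ofFn]
  rw [Ideal.smul_eq_mul, Ideal.mul_top, h2] at h1
  simpa using h1

theorem sum_smul_eq {I : Ideal A} {c : ℕ} (f : Fin c → I) (a : Fin c → A) :
    ∑ j, (Ideal.Quotient.mk I (a j)) • I.toCotangent (f j) = I.toCotangent (∑ j, a j • f j) := by
  rw [map_sum]
  refine Finset.sum_congr rfl fun j _ => ?_
  rw [map_smul]
  rfl

/-- The conormal module of an ideal generated by a Koszul-regular sequence. -/
theorem exists_basis {I : Ideal A} {c : ℕ} (f : Fin c → I)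
    (hf : LCI.IsKoszulRegularSeq A (List.ofFn fun i => (f i : A)))
    (hfI : Ideal.span (Set.range fun i => (f i : A)) = I) :
    ∃ b : Module.Basis (Fin c) (A ⧸ I) I.Cotangent, ∀ i, b i = I.toCotangent (f i) := by
  classical
  have hli : LinearIndependent (A ⧸ I) fun i => I.toCotangent (f i) := by
    rw [Fintype.linearIndependent_iff]
    intro a ha i
    choose y hy using fun j => Ideal.Quotient.mk_surjective (a j)
    have h1 : I.toCotangent (∑ j, y j • f j) = 0 := by
      rw [← sum_smul_eq]
      simpa only [hy] using ha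
    rw [Ideal.toCotangent_eq_zero] at h1
    simp only [AddSubmonoidClass.coe_finsetSum, Submodule.coe_smul, smul_eq_mul] at h1
    rw [pow_two, ← smul_eq_mul] at h1
    nth_rewrite 2 [← hfI] at h1
    obtain ⟨b, hbI, hb⟩ := (Submodule.mem_ideal_smul_span_iff_exists_sum I (fun i => (f i : A)) _).mp h1
    have h2 := mem_of_sum_eq_zero (fun i => (f i : A)) hf (fun j => y j - b j) (by
      simp only [sub_mul, Finset.sum_sub_distrib]
      rw [← hb, Finsupp.sum_fintype _ _ (fun j => by simp)]
      simp only [smul_eq_mul, sub_self]) i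
    rw [hfI] at h2
    rw [← hy i, Ideal.Quotient.eq_zero_iff_mem]
    simpa using add_mem h2 (hbI i)
  have hsp : ⊤ ≤ Submodule.span (A ⧸ I) (Set.range fun i => I.toCotangent (f i)) := fun z _ => by
    obtain ⟨⟨x, hx⟩, rfl⟩ := I.toCotangent_surjective z
    rw [← hfI] at hx
    obtain ⟨a, ha⟩ := (Submodule.mem_span_range_iff_exists_fun _).mp hx
    refine (Submodule.mem_span_range_iff_exists_fun _).mpr ⟨fun j => Ideal.Quotient.mk I (a j), ?_⟩
    rw [sum_smul_eq]
    congr 1
    exact Subtype.ext (by simpa [AddSubmonoidClass.coe_finsetSum] using ha)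
  exact ⟨Module.Basis.mk hli hsp, fun i => Module.Basis.mk_apply hli hsp i⟩

/-- Generating sequences of a Koszul-regularly generated proper ideal. -/
theorem length_le_of_ofList_eq {I : Ideal A} (hI : I ≠ ⊤) {g h : List A} (hg : LCI.IsKoszulRegularSeq A g)
    (hgI : Ideal.ofList g = I) (hh : Ideal.ofList h = I) : g.length ≤ h.length := by
  classical
  haveI : Nontrivial (A ⧸ I) := Ideal.Quotient.nontrivial_iff.mpr hI
  let F : Fin g.length → I := fun i => ⟨g[i.1], hgI.le (Ideal.subset_span (List.getElem_mem i.2))⟩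
  let H : Fin h.length → I := fun i => ⟨h[i.1], hh.le (Ideal.subset_span (List.getElem_mem i.2))⟩
  have hF : List.ofFn (fun i => (F i : A)) = g := List.ofFn_getElem
  have hspan : ∀ l : List A, Ideal.span (Set.range fun i : Fin l.length => l[i]) = Ideal.ofList l := fun l => by
    show _ = Ideal.span _
    congr 1
    ext x
    simp [List.mem_iff_getElem, Fin.exists_iff]
  obtain ⟨b, -⟩ := exists_basis F (hF.symm ▸ hg) ((hspan g).trans hgI)
  have hsp : Submodule.span (A ⧸ I) (Set.range fun i => I.toCotangent (H i)) = ⊤ := by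
    rw [eq_top_iff]
    intro z _
    obtain ⟨⟨x, hx⟩, rfl⟩ := I.toCotangent_surjective z
    rw [← hh, ← hspan h] at hx
    obtain ⟨a, ha⟩ := (Submodule.mem_span_range_iff_exists_fun _).mp hx
    refine (Submodule.mem_span_range_iff_exists_fun _).mpr ⟨fun j => Ideal.Quotient.mk I (a j), ?_⟩
    rw [sum_smul_eq]
    congr 1
    exact Subtype.ext (by simpa [AddSubmonoidClass.coe_finsetSum, H] using ha)
  haveI : Module.Finite (A ⧸ I) I.Cotangent := Module.Finite.of_basis b
  have h1 : Module.finrank (A ⧸ I) I.Cotangent ≤ Fintype.card (Fin h.length) :=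
    finrank_le_of_span_eq_top hsp
  rwa [Module.finrank_eq_card_basis b, Fintype.card_fin, Fintype.card_fin] at h1

end Groth.L07.KoszulRel
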