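import Groth.Agent.L07.KoszulAppend
import Groth.Agent.L07.KoszulRel
import Mathlib.RingTheory.Finiteness.Descent
import Mathlib.RingTheory.RingHom.Flat
import Mathlib.RingTheory.Spectrum.Prime.Topology
import Mathlib.RingTheory.Flat.FaithfullyFlat.Algebra

/-! Faithfully flat descent of Koszul regularity. -/

set_option autoImplicit false
set_option linter.style.haveILetI false
set_option backward.isDefEq.respectTransparency.types false
set_option maxSynthPendingDepth 3

universe u

open CategoryTheory CategoryTheory.Limits CochainComplex CohIII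
open Groth.L04.Koszul
open Groth.L28.Kun (Z cl cl_surjective cl_eq_zero_iff homologyMap_cl)

namespace Groth.L07.KoszulDescent

variable {A B : Type u} [CommRing A] [CommRing B]

theorem kmap_smul_id_apply (M : ModuleCat.{u} A) (a : A) : ∀ (l : List A) (n : ℤ) (z : (koszulCx M l).X n),
    (kmap (a • 𝟙 M) l).f n z = a • z := by
  intro l
  induction l with
  | nil =>
    intro n z
    by_cases hn : n = 0
    · refine (single_X_eq (M := M) n hn).1 ((kmap_nil_apply _ n hn z).trans ?_)
      exact (map_smul (HomologicalComplex.singleObjXIsoOfEq (ComplexShape.up ℤ) (0 : ℤ) M n hn).hom.hom a z).symm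
    · exact (ModuleCat.isZero_iff_subsingleton.1 (isZero_X M [] n (by simp only [List.length_nil]; omega))).elim _ _
  | cons f l ih =>
    intro n z
    obtain ⟨p, x, rfl⟩ := exists_cmk_cons M n (n + 1) rfl z
    refine (kmap_cmk _ f l rfl p x).trans ?_
    rw [ih, ih]
    exact (smul_cmk _ _ _ _ _).symm

/-- Vanishing Koszul cohomology descends along faithfully flat algebras. -/
theorem isZero_descend [Algebra A B] [Module.FaithfullyFlat A B] (l : List A) (n : ℤ)
    (h : IsZero ((koszulCx (ModuleCat.of A B) l).homology n)) :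
    IsZero ((koszulCx (ModuleCat.of A A) l).homology n) := by
  classical
  haveI := ModuleCat.isZero_iff_subsingleton.1 h
  refine ModuleCat.isZero_iff_subsingleton.2 (subsingleton_of_forall_eq 0 fun c => ?_)
  obtain ⟨z, rfl⟩ := cl_surjective _ n c
  let J : Ideal A := (LinearMap.toSpanSingleton A _ (cl (koszulCx (ModuleCat.of A A) l) n z)).ker
  suffices hJ : J = ⊤ by
    have h1 : (1 : A) • cl (koszulCx (ModuleCat.of A A) l) n z = 0 :=
      LinearMap.mem_ker.mp (hJ ▸ Submodule.mem_top : (1 : A) ∈ J)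
    simpa using h1
  let ι : ModuleCat.of A A ⟶ ModuleCat.of A B := ModuleCat.ofHom (Algebra.linearMap A B)
  have hιz : (kmap ι l).f n z.1 ∈ Z (koszulCx (ModuleCat.of A B) l) n := by
    show (koszulCx (ModuleCat.of A B) l).d n (n + 1) ((kmap ι l).f n z.1) = 0
    rw [← ConcreteCategory.comp_apply, (kmap ι l).comm n (n + 1), ConcreteCategory.comp_apply,
      show (koszulCx (ModuleCat.of A A) l).d n (n + 1) z.1 = 0 from z.2, map_zero]
  obtain ⟨w, hw⟩ := (cl_eq_zero_iff _ (sub_add_cancel n 1) ⟨_, hιz⟩).mp (Subsingleton.elim _ _)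
  obtain ⟨G, _, _, q, w', hw'⟩ := Groth.L07.KoszulFlat.exists_lift (ModuleCat.of A B) l (n - 1) w
  let G₀ := ModuleCat.of A (G × A)
  let i₁ : G ⟶ G₀ := ModuleCat.ofHom (LinearMap.inl A G A)
  let i₂ : ModuleCat.of A A ⟶ G₀ := ModuleCat.ofHom (LinearMap.inr A G A)
  let q₀ : G₀ ⟶ ModuleCat.of A B := ModuleCat.ofHom (LinearMap.coprod q.hom ι.hom)
  have h₁ : i₁ ≫ q₀ = q := ModuleCat.hom_ext (LinearMap.coprod_inl _ _)
  have h₂ : i₂ ≫ q₀ = ι := ModuleCat.hom_ext (LinearMap.coprod_inr _ _)
  haveI : Module.Free A G₀ := inferInstanceAs (Module.Free A (G × A))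
  haveI : Module.Finite A G₀ := inferInstanceAs (Module.Finite A (G × A))
  haveI : Module.Flat A (ModuleCat.of A B) := inferInstanceAs (Module.Flat A B)
  obtain ⟨G', _, _, p, q', hq', hp⟩ := Groth.L07.KoszulFlat.exists_kill (ModuleCat.of A B) l n G₀ q₀
      ((kmap i₂ l).f n z.1 - (koszulCx G₀ l).d (n - 1) n ((kmap i₁ l).f (n - 1) w')) (by
    rw [map_sub, ← ConcreteCategory.comp_apply, ← HomologicalComplex.comp_f, ← Groth.L07.KoszulBC.kmap_comp, h₂,
      ← ConcreteCategory.comp_apply, ← (kmap q₀ l).comm (n - 1) n, ConcreteCategory.comp_apply,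
      ← ConcreteCategory.comp_apply ((kmap i₁ l).f (n - 1)), ← HomologicalComplex.comp_f,
      ← Groth.L07.KoszulBC.kmap_comp, h₁, hw', sub_eq_zero]
    exact hw.symm)
  rw [map_sub, sub_eq_zero, ← ConcreteCategory.comp_apply, ← HomologicalComplex.comp_f,
    ← Groth.L07.KoszulBC.kmap_comp, ← ConcreteCategory.comp_apply _ ((kmap p l).f n), ← (kmap p l).comm (n - 1) n,
    ConcreteCategory.comp_apply] at hp
  let b := Module.Free.chooseBasis A G'
  let v : G' := (i₂ ≫ p) (1 : A)
  have hv : q' v = (1 : B) := by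
    have e : (i₂ ≫ p) ≫ q' = ι := by rw [Category.assoc, ← hq', h₂]
    exact (congrArg (fun f : ModuleCat.of A A ⟶ ModuleCat.of A B => f (1 : A)) e).trans (map_one (algebraMap A B))
  have hcoord : ∀ j, b.coord j v ∈ J := by
    intro j
    let φ : G' ⟶ ModuleCat.of A A := ModuleCat.ofHom (b.coord j)
    have hfac : (i₂ ≫ p) ≫ φ = b.coord j v • 𝟙 (ModuleCat.of A A) := by
      refine ModuleCat.hom_ext (LinearMap.ext_ring ?_)
      show b.coord j v = b.coord j v • (1 : A)
      rw [smul_eq_mul, mul_one]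
    have h3 := congrArg (fun t => (kmap φ l).f n t) hp
    simp only at h3
    rw [← ConcreteCategory.comp_apply, ← HomologicalComplex.comp_f, ← Groth.L07.KoszulBC.kmap_comp, hfac,
      kmap_smul_id_apply, ← ConcreteCategory.comp_apply _ ((kmap φ l).f n), ← (kmap φ l).comm (n - 1) n,
      ConcreteCategory.comp_apply] at h3
    refine LinearMap.mem_ker.mpr ?_
    show b.coord j v • cl (koszulCx (ModuleCat.of A A) l) n z = 0
    rw [← map_smul, cl_eq_zero_iff _ (sub_add_cancel n 1)]
    exact ⟨_, h3.symm⟩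
  have hone : (1 : B) ∈ J.map (algebraMap A B) := by
    rw [← hv, ← b.sum_repr v, map_sum]
    refine Ideal.sum_mem _ fun j _ => ?_
    rw [map_smul]
    show b.repr v j • (q' (b j) : B) ∈ _
    rw [Algebra.smul_def]
    exact Ideal.mul_mem_right _ _ (Ideal.mem_map_of_mem _ (hcoord j))
  rw [← Ideal.comap_map_eq_self_of_faithfullyFlat (B := B) J, (Ideal.eq_top_iff_one _).mpr hone, Ideal.comap_top]

/-- Koszul-regular sequences descend along faithfully flat ring maps. -/
theorem isKoszulRegularSeq_of_map (φ : A →+* B) (hφ : φ.FaithfullyFlat) (l : List A)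
    (h : LCI.IsKoszulRegularSeq B (l.map φ)) : LCI.IsKoszulRegularSeq A l := by
  letI := φ.toAlgebra
  haveI : Module.FaithfullyFlat A B := hφ
  rw [Groth.L07.KoszulPerm.isKoszulRegularSeq_iff] at h ⊢
  intro n hn
  exact isZero_descend l n (Groth.L07.KoszulAppend.isZero_transfer' φ (ModuleCat.of A B) (ModuleCat.of B B)
    (AddEquiv.refl B) (fun b m => Algebra.smul_def b m) l n (h n hn))

/-- A sequence generating the unit ideal is Koszul-regular. -/
theorem isKoszulRegularSeq_of_eq_top (l : List A) (h : Ideal.ofList l = ⊤) : LCI.IsKoszulRegularSeq A l := by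
  rw [Groth.L07.KoszulPerm.isKoszulRegularSeq_iff]
  intro n _
  refine ModuleCat.isZero_iff_subsingleton.2 (subsingleton_of_forall_eq 0 fun c => ?_)
  simpa using smul_homology_eq_zero _ (h ▸ Submodule.mem_top : (1 : A) ∈ Ideal.ofList l) n c

/-- No more generators than a Koszul-regular sequence: regular again. -/
theorem isKoszulRegularSeq_of_length_le {f h : List A} (hh : LCI.IsKoszulRegularSeq A h)
    (e : Ideal.ofList h = Ideal.ofList f) (hle : f.length ≤ h.length) : LCI.IsKoszulRegularSeq A f := by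
  by_cases ht : Ideal.ofList h = ⊤
  · exact isKoszulRegularSeq_of_eq_top f (e ▸ ht)
  · exact Groth.L07.KoszulPerm.isKoszulRegularSeq_of_ofList_eq e
      (le_antisymm (Groth.L07.KoszulRel.length_le_of_ofList_eq ht hh rfl e.symm) hle) hh

/-- Koszul regularity can be checked at the maximal ideals containing the sequence. -/
theorem isKoszulRegularSeq_of_forall_atPrime (l : List A)
    (h : ∀ (P : Ideal A) [P.IsMaximal], Ideal.ofList l ≤ P →
      LCI.IsKoszulRegularSeq (Localization.AtPrime P) (l.map (algebraMap A (Localization.AtPrime P)))) :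
    LCI.IsKoszulRegularSeq A l := by
  rw [Groth.L07.KoszulPerm.isKoszulRegularSeq_iff]
  intro n hn
  refine ModuleCat.isZero_iff_subsingleton.2 (subsingleton_of_forall_eq 0 fun c => ?_)
  by_contra hc
  have hann : (LinearMap.toSpanSingleton A _ c).ker ≠ ⊤ := fun ht => hc (by
    simpa using LinearMap.congr_fun (LinearMap.ker_eq_top.mp ht) 1)
  obtain ⟨P, hP, hle⟩ := Ideal.exists_le_maximal _ hann
  have hlP : Ideal.ofList l ≤ P := fun a ha => hle (smul_homology_eq_zero _ ha n c)
  let L := Localization.AtPrime P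
  obtain ⟨s, hs⟩ := Groth.L07.KoszulLocal.exists_smul_eq_zero (ModuleCat.ofHom (Algebra.linearMap A L)) P.primeCompl
    (fun y => by
      obtain ⟨⟨x, s⟩, hx⟩ := IsLocalization.surj P.primeCompl (y : L)
      exact ⟨x, s, hx.symm.trans ((mul_comm _ _).trans (Algebra.smul_def (s : A) (y : L)).symm)⟩)
    (fun x hx => by
      obtain ⟨s, hs⟩ := (IsLocalization.map_eq_zero_iff P.primeCompl L x).mp hx
      exact ⟨s, hs⟩)
    l n (Groth.L07.KoszulAppend.isZero_transfer' (algebraMap A L) (ModuleCat.of A L) (ModuleCat.of L L)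
      (AddEquiv.refl L) (fun b m => Algebra.smul_def b m) l n
      ((Groth.L07.KoszulPerm.isKoszulRegularSeq_iff _).1 (h P hlP) n hn)) c
  exact s.2 (hle hs)

end Groth.L07.KoszulDescent
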