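import Groth.Agent.L01.Wiebe.Generic

/-!
Regular generators of a Koszul-regular ideal after adjoining finitely many indeterminates.
-/

set_option autoImplicit false
set_option linter.style.haveILetI false
set_option linter.unusedSectionVars false
set_option backward.isDefEq.respectTransparency.types false

universe u

namespace Groth.L07.KoszulGeneric

open CategoryTheory CategoryTheory.Limits Groth.L01.Wiebe RingTheory.Sequence
open scoped nonZeroDivisors

variable {A : Type u} [CommRing A]

/-- Regular generators modulo a regular element lift. -/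
theorem lift_revReg' {k : ℕ} (R : Type u) [CommRing R] (p : R) (hp : ∀ x, p * x = 0 → x = 0) (rest : Fin k → R)
    (h : ∃ (σ : Type) (_ : Finite σ) (f' : Fin k → MvPolynomial σ (R ⧸ Ideal.span {p})), RevReg f' ∧
      Ideal.span (Set.range f') =
        (Ideal.span (Set.range (Ideal.Quotient.mk (Ideal.span {p}) ∘ rest))).map MvPolynomial.C) :
    ∃ (σ : Type) (_ : Finite σ) (f' : Fin (k + 1) → MvPolynomial σ R), RevReg f' ∧
      Ideal.span (Set.range f') = (Ideal.span {p} ⊔ Ideal.span (Set.range rest)).map MvPolynomial.C := by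
  obtain ⟨σ, hσ, f', hf', hspan'⟩ := h
  let ψ : MvPolynomial σ R →+* MvPolynomial σ (R ⧸ Ideal.span {p}) :=
    MvPolynomial.map (Ideal.Quotient.mk (Ideal.span {p}))
  have hψ : Function.Surjective ψ := MvPolynomial.map_surjective _ Ideal.Quotient.mk_surjective
  choose v hv using fun r => hψ (f' r)
  have hker : RingHom.ker ψ = Ideal.span {MvPolynomial.C p} := by
    rw [MvPolynomial.ker_map, Ideal.mk_ker, Ideal.map_span, Set.image_singleton]
  have hP : ∀ x : MvPolynomial σ R, MvPolynomial.C p * x = 0 → x = 0 := fun x hx => MvPolynomial.ext _ _ fun m => by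
    have := congrArg (MvPolynomial.coeff m) hx
    rw [MvPolynomial.coeff_C_mul, MvPolynomial.coeff_zero] at this
    rw [hp _ this, MvPolynomial.coeff_zero]
  have hv' : (fun i => ψ (v i)) = f' := funext hv
  refine ⟨σ, hσ, _, revReg_snoc ψ hψ (MvPolynomial.C p) hker hP k v (hv'.symm ▸ hf'), ?_⟩
  have h1 := congrArg (Ideal.comap ψ) (show (Ideal.span (Set.range v)).map ψ =
      ((Ideal.span (Set.range rest)).map (MvPolynomial.C : R →+* MvPolynomial σ R)).map ψ by
    rw [Ideal.map_span, ← Set.range_comp, show ψ ∘ v = f' from hv', hspan', Ideal.map_map,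
      Ideal.map_span, Ideal.map_span, ← Set.range_comp, ← Set.range_comp]
    congr 2
    funext r
    exact (MvPolynomial.map_C _ _).symm)
  rw [Ideal.comap_map_of_surjective ψ hψ, Ideal.comap_map_of_surjective ψ hψ, ← RingHom.ker_eq_comap_bot,
    hker] at h1
  rw [range_snoc', Ideal.span_insert, sup_comm, h1, Ideal.map_sup, Ideal.map_span _ {p},
    Set.image_singleton, sup_comm]

theorem exists_revReg' : ∀ (k : ℕ) (Q : Type u) [CommRing Q] (f : Fin k → Q), LCI.IsKoszulRegularSeq Q (List.ofFn f) →
    ∃ (σ : Type) (_ : Finite σ) (f' : Fin k → MvPolynomial σ Q), RevReg f' ∧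
      Ideal.span (Set.range f') = (Ideal.span (Set.range f)).map MvPolynomial.C := by
  intro k
  induction k with
  | zero =>
    intro Q _ f _
    refine ⟨Empty, inferInstance, Fin.elim0, trivial, ?_⟩
    rw [Set.range_eq_empty, Set.range_eq_empty, Ideal.span_empty, Ideal.span_empty, Ideal.map_bot]
  | succ k ih =>
    intro Q _ f hf
    let R := Polynomial Q
    let p : R := ∑ r : Fin (k + 1), Polynomial.monomial (r : ℕ) (f r)
    have hcoeff : ∀ r : Fin (k + 1), p.coeff (r : ℕ) = f r := fun r => by
      show Polynomial.coeff (∑ s : Fin (k + 1), Polynomial.monomial (s : ℕ) (f s)) (r : ℕ) = f r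
      rw [Polynomial.finsetSum_coeff]
      simp only [Polynomial.coeff_monomial]
      rw [Finset.sum_eq_single r (fun s _ hs => if_neg fun e => hs (Fin.ext e)) (by simp), if_pos rfl]
    have hp : ∀ x, p * x = 0 → x = 0 := by
      have hp' : p ∈ R⁰ := by
        by_contra hnot
        obtain ⟨c, hc0, hc⟩ := Polynomial.notMem_nonZeroDivisors_iff.mp hnot
        refine hc0 (eq_zero_of_kills _ (by simp) hf c fun a ha => ?_)
        obtain ⟨r, rfl⟩ := List.mem_ofFn.mp ha
        have := congrArg (fun q => Polynomial.coeff q (r : ℕ)) hc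
        simp only [Polynomial.coeff_smul, Polynomial.coeff_zero, hcoeff, smul_eq_mul] at this
        rwa [mul_comm]
      exact fun x hx => (mul_left_mem_nonZeroDivisors_eq_zero_iff hp').mp hx
    let rest : Fin k → R := fun r => Polynomial.C (f r.succ)
    have hR : LCI.IsKoszulRegularSeq R ((List.ofFn f).map (Polynomial.C : Q →+* R)) := by
      refine Groth.L07.KoszulFlat.isKoszulRegularSeq_map _ ?_ _ hf
      show (algebraMap Q (Polynomial Q)).Flat
      exact RingHom.flat_algebraMap_iff.mpr inferInstance
    have hp0 : p - Polynomial.C (f 0) ∈ Ideal.span (Set.range rest) := by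
      rw [show p = Polynomial.C (f 0) + ∑ r : Fin k, Polynomial.monomial ((r.succ : Fin (k + 1)) : ℕ) (f r.succ) by
        show ∑ r : Fin (k + 1), _ = _
        rw [Fin.sum_univ_succ, Fin.val_zero, Polynomial.monomial_zero_left], add_sub_cancel_left]
      refine Submodule.sum_mem _ fun r _ => ?_
      rw [← Polynomial.C_mul_X_pow_eq_monomial]
      exact Ideal.mul_mem_right _ _ (Ideal.subset_span ⟨r, rfl⟩)
    have hspan : (Ideal.span (Set.range f)).map (Polynomial.C : Q →+* R) =
        Ideal.span {p} ⊔ Ideal.span (Set.range rest) := by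
      rw [Ideal.map_span, range_eq_insert f, Set.image_insert_eq, Ideal.span_insert, ← Set.range_comp]
      change Ideal.span {Polynomial.C (f 0)} ⊔ Ideal.span (Set.range rest) = _
      apply le_antisymm <;> refine sup_le ?_ le_sup_right
      · rw [Ideal.span_singleton_le_iff_mem, ← sub_sub_cancel p (Polynomial.C (f 0))]
        exact sub_mem (Submodule.mem_sup_left (Ideal.mem_span_singleton_self p)) (Submodule.mem_sup_right hp0)
      · rw [Ideal.span_singleton_le_iff_mem, ← sub_add_cancel p (Polynomial.C (f 0))]
        exact add_mem (Submodule.mem_sup_right hp0) (Submodule.mem_sup_left (Ideal.mem_span_singleton_self _))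
    have hL : LCI.IsKoszulRegularSeq R (List.ofFn rest ++ [p]) := by
      refine Groth.L07.KoszulPerm.isKoszulRegularSeq_of_ofList_eq ?_ (by simp) hR
      rw [Ideal.ofList_append, Ideal.ofList_singleton, ofList_ofFn rest, sup_comm, ← hspan, ← ofList_ofFn f,
        Ideal.ofList, Ideal.ofList, Ideal.map_span]
      congr 1
      ext y
      simp [List.mem_map, Set.mem_image, eq_comm]
    have hquot := isKoszulRegularSeq_quotient p hp _ hL
    rw [List.map_ofFn] at hquot
    obtain ⟨σ, hσ, f', hf', hspan'⟩ := lift_revReg' R p hp rest (ih (R ⧸ Ideal.span {p}) _ hquot)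
    let e : MvPolynomial σ (Polynomial Q) ≃+* MvPolynomial (Option σ) Q :=
      (MvPolynomial.optionEquivRight Q σ).symm.toRingEquiv
    refine ⟨Option σ, inferInstance, _, revReg_equiv e _ _ hf', ?_⟩
    rw [Set.range_comp' e, ← Ideal.map_span e, hspan', ← hspan]
    exact map_transfer (Polynomial.C : Q →+* Polynomial Q) MvPolynomial.C e MvPolynomial.C (fun q => by
      show (MvPolynomial.optionEquivRight Q σ).symm (MvPolynomial.C (Polynomial.C q)) = MvPolynomial.C q
      rw [AlgEquiv.symm_apply_eq, MvPolynomial.optionEquivRight_C]) _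


/-- A sequence regular from its last entry, read backwards, is weakly regular. -/
theorem isWeaklyRegular_of_revReg : ∀ (k : ℕ) (f : Fin k → A), RevReg f →
    IsWeaklyRegular A (List.ofFn f).reverse
  | 0, _, _ => by simpa using IsWeaklyRegular.nil A A
  | k + 1, f, h => by
    have e : (List.ofFn f).reverse = (List.ofFn (Fin.tail f)).reverse ++ [f 0] := by
      rw [List.ofFn_succ, List.reverse_cons]; rfl
    rw [e, isWeaklyRegular_append_iff, isWeaklyRegular_cons_iff]
    refine ⟨isWeaklyRegular_of_revReg k (Fin.tail f) h.2, fun x y hxy => ?_, IsWeaklyRegular.nil _ _⟩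
    obtain ⟨x, rfl⟩ := Submodule.Quotient.mk_surjective _ x
    obtain ⟨y, rfl⟩ := Submodule.Quotient.mk_surjective _ y
    have hI : (Ideal.ofList (List.ofFn (Fin.tail f)).reverse • ⊤ : Submodule A A) =
        Ideal.span (Set.range (Fin.tail f)) := by
      rw [Ideal.smul_eq_mul, Ideal.mul_top, Ideal.ofList]
      congr 1
      ext a
      simp [List.mem_ofFn]
    simp only at hxy
    rw [← Submodule.Quotient.mk_smul, ← Submodule.Quotient.mk_smul, Submodule.Quotient.eq, hI,
      smul_eq_mul, smul_eq_mul, ← mul_sub] at hxy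
    rw [Submodule.Quotient.eq, hI]
    exact h.1 _ hxy

/-- A Koszul-regular sequence has, over a polynomial ring in finitely many indeterminates, a weakly
regular generating sequence of the extended ideal. -/
theorem exists_weaklyRegular (l : List A) (h : LCI.IsKoszulRegularSeq A l) :
    ∃ (σ : Type) (_ : Finite σ) (g : List (MvPolynomial σ A)),
      IsWeaklyRegular (MvPolynomial σ A) g ∧
        Ideal.ofList g = (Ideal.ofList l).map MvPolynomial.C := by
  obtain ⟨σ, hσ, f, hf, hspan⟩ := exists_revReg' l.length A l.get (by rwa [List.ofFn_get])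
  refine ⟨σ, hσ, (List.ofFn f).reverse, isWeaklyRegular_of_revReg _ f hf, ?_⟩
  have hl : Ideal.ofList l = Ideal.span (Set.range l.get) := by
    rw [← ofList_ofFn, List.ofFn_get]
  rw [hl, ← hspan, Ideal.ofList]
  congr 1
  ext a
  simp [List.mem_ofFn]

end Groth.L07.KoszulGeneric
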