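import Groth.Agent.L07.KoszulDescent

/-! Koszul-regular ideals near a prime, and their faithfully flat descent. -/

set_option autoImplicit false
set_option linter.style.haveILetI false
set_option maxSynthPendingDepth 3

universe u

namespace Groth.L07.KoszulIdeal

variable {A B : Type u} [CommRing A] [CommRing B]

/-- `l` is Koszul-regular on `D(g)` and generates `I` there. -/
def SeqOn (I : Ideal A) (g : A) (l : List A) : Prop :=
  (∀ x ∈ l, x ∈ I) ∧ (∀ x ∈ I, ∃ k : ℕ, g ^ k * x ∈ Ideal.ofList l) ∧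
    LCI.IsKoszulRegularSeq (Localization.Away g) (l.map (algebraMap A (Localization.Away g)))

theorem map_eq {L : Type u} [CommRing L] (φ : A →+* L) {I : Ideal A} {g : A} {l : List A} (hg : IsUnit (φ g))
    (h1 : ∀ x ∈ l, x ∈ I) (h2 : ∀ x ∈ I, ∃ k : ℕ, g ^ k * x ∈ Ideal.ofList l) :
    I.map φ = Ideal.ofList (l.map φ) := by
  rw [← Ideal.map_ofList]
  refine le_antisymm (Ideal.map_le_iff_le_comap.mpr fun x hx => ?_) (Ideal.map_mono (Ideal.span_le.mpr h1))
  obtain ⟨k, hk⟩ := h2 x hx
  exact ((Ideal.ofList l).map φ).unit_mul_mem_iff_mem (hg.pow k) |>.mp (by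
    rw [← map_pow, ← map_mul]; exact Ideal.mem_map_of_mem φ hk)

theorem SeqOn.map_eq {L : Type u} [CommRing L] (φ : A →+* L) {I : Ideal A} {g : A} {l : List A} (hg : IsUnit (φ g))
    (h : SeqOn I g l) : I.map φ = Ideal.ofList (l.map φ) :=
  Groth.L07.KoszulIdeal.map_eq φ hg h.1 h.2.1

theorem flat_away_lift (g : A) (φ : A →+* B) (hφ : φ.Flat) (hg : IsUnit (φ g)) :
    (IsLocalization.Away.lift (S := Localization.Away g) g hg).Flat := by
  letI := φ.toAlgebra
  letI := (IsLocalization.Away.lift (S := Localization.Away g) g hg).toAlgebra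
  haveI : IsScalarTower A (Localization.Away g) B :=
    IsScalarTower.of_algebraMap_eq fun x => (IsLocalization.Away.lift_eq g hg x).symm
  haveI : Module.Flat A B := hφ
  exact (Module.flat_iff_of_isLocalization (Localization.Away g) (Submonoid.powers g) B).mpr ‹_›

/-- Regularity spreads to every flat algebra in which `g` is invertible. -/
theorem SeqOn.regular {I : Ideal A} {g : A} {l : List A} (h : SeqOn I g l) (φ : A →+* B) (hφ : φ.Flat)
    (hg : IsUnit (φ g)) : LCI.IsKoszulRegularSeq B (l.map φ) := by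
  have := Groth.L07.KoszulFlat.isKoszulRegularSeq_map _ (flat_away_lift g φ hφ hg) _ h.2.2
  rw [List.map_map, ← RingHom.coe_comp, IsLocalization.Away.lift_comp] at this
  exact this

theorem SeqOn.map {I : Ideal A} {g : A} {l : List A} (h : SeqOn I g l) (φ : A →+* B) (hφ : φ.Flat) :
    SeqOn (I.map φ) (φ g) (l.map φ) := by
  refine ⟨fun x hx => ?_, fun x hx => ?_, ?_⟩
  · obtain ⟨a, ha, rfl⟩ := List.mem_map.mp hx
    exact Ideal.mem_map_of_mem φ (h.1 a ha)
  · refine Submodule.span_induction (fun y hy => ?_) ⟨0, by simp⟩ (fun y z _ _ hy hz => ?_) (fun c y _ hy => ?_) hx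
    · obtain ⟨a, ha, rfl⟩ := hy
      obtain ⟨k, hk⟩ := h.2.1 a ha
      exact ⟨k, by rw [← map_pow, ← map_mul, ← Ideal.map_ofList]; exact Ideal.mem_map_of_mem φ hk⟩
    · obtain ⟨k, hk⟩ := hy
      obtain ⟨m, hm⟩ := hz
      refine ⟨k + m, ?_⟩
      rw [show φ g ^ (k + m) * (y + z) = φ g ^ m * (φ g ^ k * y) + φ g ^ k * (φ g ^ m * z) by ring]
      exact add_mem (Ideal.mul_mem_left _ _ hk) (Ideal.mul_mem_left _ _ hm)
    · obtain ⟨k, hk⟩ := hy
      exact ⟨k, by rw [smul_eq_mul, mul_left_comm]; exact Ideal.mul_mem_left _ _ hk⟩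
  · rw [List.map_map, ← RingHom.coe_comp]
    refine h.regular ((algebraMap B (Localization.Away (φ g))).comp φ)
      (hφ.comp (RingHom.flat_algebraMap_iff.mpr (IsLocalization.flat _ (Submonoid.powers (φ g))))) ?_
    exact IsLocalization.Away.algebraMap_isUnit (φ g)

theorem SeqOn.mono {I : Ideal A} {g : A} {l : List A} (h : SeqOn I g l) (h' : A) : SeqOn I (g * h') l := by
  refine ⟨h.1, fun x hx => ?_, ?_⟩
  · obtain ⟨k, hk⟩ := h.2.1 x hx
    exact ⟨k, by rw [mul_pow, mul_right_comm]; exact Ideal.mul_mem_right _ _ hk⟩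
  · exact h.regular _ (RingHom.flat_algebraMap_iff.mpr (IsLocalization.flat _ (Submonoid.powers (g * h'))))
      (isUnit_of_dvd_unit (map_dvd _ (dvd_mul_right g h')) (IsLocalization.Away.algebraMap_isUnit (g * h')))

/-- A local generating sequence can be taken inside the ideal. -/
theorem exists_seqOn_of_away {I : Ideal A} {g : A} {l : List (Localization.Away g)}
    (hl : LCI.IsKoszulRegularSeq (Localization.Away g) l)
    (hI : I.map (algebraMap A (Localization.Away g)) = Ideal.ofList l) :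
    ∃ l' : List A, l'.length = l.length ∧ SeqOn I g l' := by
  classical
  let L := Localization.Away g
  have key : ∀ x ∈ l, ∃ a ∈ I, ∃ v : L, IsUnit v ∧ x * v = algebraMap A L a := fun x hx => by
    obtain ⟨⟨a, s⟩, e⟩ := (IsLocalization.mem_map_algebraMap_iff (Submonoid.powers g) L).mp
      (hI.ge (Ideal.subset_span hx))
    exact ⟨a.1, a.2, _, IsLocalization.map_units L s, e⟩
  choose a haI v hv hav using key
  have hspan : Ideal.ofList ((l.pmap a fun _ h => h).map (algebraMap A L)) = Ideal.ofList l := by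
    refine le_antisymm (Ideal.span_le.mpr fun z hz => ?_) (Ideal.span_le.mpr fun x hx => ?_)
    · obtain ⟨w, hw, rfl⟩ := List.mem_map.mp (show z ∈ _ from hz)
      obtain ⟨y, hy, rfl⟩ := List.mem_pmap.mp hw
      rw [← hav y hy]
      exact Ideal.mul_mem_right _ _ (Ideal.subset_span hy)
    · refine (Ideal.mul_unit_mem_iff_mem _ (hv x hx)).mp ?_
      rw [hav x hx]
      exact Ideal.subset_span (List.mem_map.mpr ⟨_, List.mem_pmap.mpr ⟨x, hx, rfl⟩, rfl⟩)
  refine ⟨l.pmap a fun _ h => h, List.length_pmap .., fun x hx => ?_, fun x hx => ?_, ?_⟩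
  · obtain ⟨y, hy, rfl⟩ := List.mem_pmap.mp hx
    exact haI y hy
  · have : algebraMap A L x ∈ (Ideal.ofList (l.pmap a fun _ h => h)).map (algebraMap A L) := by
      rw [Ideal.map_ofList, hspan, ← hI]
      exact Ideal.mem_map_of_mem _ hx
    obtain ⟨m, hm, hk⟩ :=
      (IsLocalization.algebraMap_mem_map_algebraMap_iff (Submonoid.powers g) L _ x).mp this
    obtain ⟨k, rfl⟩ := (Submonoid.mem_powers_iff _ _).mp hm
    exact ⟨k, hk⟩
  · exact Groth.L07.KoszulPerm.isKoszulRegularSeq_of_ofList_eq hspan.symm (by simp) hl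

theorem exists_seqOn {I : Ideal A} (h : LCI.IsKoszulRegularIdeal I) (p : Ideal A) [p.IsPrime] (hIp : I ≤ p) :
    ∃ g ∉ p, ∃ l, SeqOn I g l := by
  obtain ⟨g, hg, l, hl, e⟩ := h ⟨p, inferInstance⟩ hIp
  obtain ⟨l', -, h'⟩ := exists_seqOn_of_away hl e
  exact ⟨g, hg, l', h'⟩

theorem isKoszulRegularIdeal_of_seqOn {I : Ideal A}
    (h : ∀ (p : Ideal A) [p.IsPrime], I ≤ p → ∃ g ∉ p, ∃ l, SeqOn I g l) : LCI.IsKoszulRegularIdeal I := by
  intro p hp
  obtain ⟨g, hg, l, hl⟩ := h p.asIdeal hp
  exact ⟨g, hg, _, hl.2.2, hl.map_eq _ (IsLocalization.Away.algebraMap_isUnit g)⟩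

/-- A Koszul-regular ideal is finitely generated. -/
theorem fg_of_isKoszulRegularIdeal {I : Ideal A} (h : LCI.IsKoszulRegularIdeal I) : I.FG := by
  classical
  let G : Set A := {g | ∃ l : List A, (∀ x ∈ l, x ∈ I) ∧ ∀ x ∈ I, ∃ k : ℕ, g ^ k * x ∈ Ideal.ofList l}
  have hG : Ideal.span G = ⊤ := by
    by_contra hne
    obtain ⟨P, hP, hle⟩ := Ideal.exists_le_maximal _ hne
    by_cases hIP : I ≤ P
    · obtain ⟨g, hg, l, hl⟩ := exists_seqOn h P hIP
      exact hg (hle (Ideal.subset_span ⟨l, hl.1, hl.2.1⟩))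
    · obtain ⟨y, hyI, hyP⟩ := SetLike.not_le_iff_exists.mp hIP
      refine hyP (hle (Ideal.subset_span ⟨[y], by simpa using hyI, fun x _ => ⟨1, ?_⟩⟩))
      rw [pow_one]
      exact Ideal.mul_mem_right _ _ (Ideal.subset_span (List.mem_singleton_self y))
  obtain ⟨s, hsG, hs⟩ := (Ideal.span_eq_top_iff_finite _).mp hG
  choose l hlI hlg using fun g : (s : Set A) => hsG g.2
  let T : Finset A := s.attach.biUnion fun g => (l g).toFinset
  refine ⟨T, le_antisymm (Ideal.span_le.mpr fun x hx => ?_) fun x hx => ?_⟩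
  · obtain ⟨g, -, hg⟩ := Finset.mem_biUnion.mp (Finset.mem_coe.mp hx)
    exact hlI g x (List.mem_toFinset.mp hg)
  · choose k hk using fun g => hlg g x hx
    refine Submodule.mem_of_span_eq_top_of_smul_pow_mem _ (s : Set A) hs x fun g => ⟨k g, ?_⟩
    refine (Ideal.span_le.mpr fun y hy => Ideal.subset_span ?_) (hk g)
    exact Finset.mem_biUnion.mpr ⟨g, Finset.mem_attach _ _, List.mem_toFinset.mpr hy⟩

/-- In a local ring, any generators contain at most as many generators as any other family. -/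
theorem exists_sublist {R : Type u} [CommRing R] [IsLocalRing R] (h f : List R)
    (e : Ideal.ofList h = Ideal.ofList f) :
    ∃ f' : List R, (∀ x ∈ f', x ∈ f) ∧ f'.length ≤ h.length ∧ Ideal.ofList f' = Ideal.ofList f := by
  classical
  let I : Ideal R := Ideal.ofList f
  let N : Submodule R I := IsLocalRing.maximalIdeal R • ⊤
  let π : I → I ⧸ N := Submodule.Quotient.mk
  let κ := R ⧸ IsLocalRing.maximalIdeal R
  letI : Field κ := Ideal.Quotient.field _
  have mem : ∀ {l : List R}, Ideal.ofList l = I → ∀ x ∈ l, x ∈ I := fun {l} el x hx => el ▸ Ideal.subset_span hx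
  have spans : ∀ (l : List R) (el : Ideal.ofList l = I),
      Submodule.span κ (Set.range fun x : {x // x ∈ l} => π ⟨x.1, mem el x.1 x.2⟩) = ⊤ := fun l el => by
    rw [eq_top_iff]
    intro z _
    obtain ⟨⟨y, hy⟩, rfl⟩ := Submodule.Quotient.mk_surjective N z
    rw [← el] at hy
    suffices ∀ y (hy : y ∈ Ideal.ofList l), π ⟨y, el ▸ hy⟩ ∈
        (Submodule.span κ (Set.range fun x : {x // x ∈ l} => π ⟨x.1, mem el x.1 x.2⟩)).restrictScalars R from
      this y hy
    intro y hy
    induction hy using Submodule.span_induction with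
    | mem y hy => exact Submodule.subset_span ⟨⟨y, hy⟩, rfl⟩
    | zero => exact Submodule.zero_mem _
    | add y z hy hz h1 h2 => exact Submodule.add_mem _ h1 h2
    | smul r y hy h1 => exact Submodule.smul_mem _ r h1
  let U := Set.range fun x : {x // x ∈ f} => π ⟨x.1, mem rfl x.1 x.2⟩
  obtain ⟨b, hbU, hbspan, hbli⟩ := exists_linearIndependent κ U
  haveI : Finite U := Finite.Set.finite_range _
  haveI : Fintype b := ((Set.toFinite U).subset hbU).fintype
  haveI : Module.Finite κ (I ⧸ N) := ⟨by rw [← spans h e]; exact Submodule.fg_span (Set.finite_range _)⟩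
  have hcard : Fintype.card b ≤ h.length := by
    refine hbli.fintype_card_le_finrank.trans ((finrank_le_of_span_eq_top (spans h e)).trans ?_)
    exact (Fintype.card_of_subtype h.toFinset (fun x => List.mem_toFinset)).le.trans h.toFinset_card_le
  choose x hx using fun z : b => hbU z.2
  let f' : List R := (Finset.univ : Finset b).toList.map fun z => (x z).1
  have hf' : ∀ y ∈ f', y ∈ f := fun y hy => by
    obtain ⟨z, -, rfl⟩ := List.mem_map.mp hy
    exact (x z).2
  refine ⟨f', hf', by simpa [f'] using hcard, le_antisymm (Ideal.span_mono hf') ?_⟩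
  have hJI : Ideal.ofList f' ≤ I := Ideal.span_mono hf'
  refine Submodule.le_of_le_smul_of_le_jacobson_bot (I := IsLocalRing.maximalIdeal R)
    ⟨f.toFinset, by simp [Ideal.ofList]⟩ (IsLocalRing.maximalIdeal_le_jacobson _) fun y hy => ?_
  let J : Submodule R I := Submodule.comap I.subtype (Ideal.ofList f')
  have hJ : (Submodule.span κ (b : Set (I ⧸ N))).restrictScalars R ≤ J.map N.mkQ := by
    rw [Submodule.restrictScalars_span R κ Ideal.Quotient.mk_surjective, Submodule.span_le]
    intro z hz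
    refine ⟨⟨(x ⟨z, hz⟩).1, mem rfl _ (x ⟨z, hz⟩).2⟩, Ideal.subset_span ?_, hx ⟨z, hz⟩⟩
    exact List.mem_map.mpr ⟨⟨z, hz⟩, Finset.mem_toList.mpr (Finset.mem_univ _), rfl⟩
  obtain ⟨w, hwJ, hw⟩ := hJ (show π ⟨y, hy⟩ ∈ Submodule.span κ (b : Set (I ⧸ N)) by
    rw [hbspan, spans f rfl]; trivial)
  have h1 : (⟨y, hy⟩ : I) - w ∈ N := (Submodule.Quotient.eq N).mp hw.symm
  have h2 := Submodule.mem_map_of_mem (f := I.subtype) h1
  rw [Submodule.map_smul'', Submodule.map_top, Submodule.range_subtype, map_sub] at h2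
  have := Submodule.add_mem_sup (show I.subtype w ∈ Ideal.ofList f' from hwJ) h2
  rwa [add_sub_cancel] at this

theorem flat_localRingHom (φ : A →+* B) (hφ : φ.Flat) (q : Ideal B) [q.IsPrime] :
    (Localization.localRingHom (q.comap φ) q φ rfl).Flat := by
  letI := φ.toAlgebra
  letI := (Localization.localRingHom (q.comap φ) q φ rfl).toAlgebra
  haveI : IsScalarTower A (Localization.AtPrime (q.comap φ)) (Localization.AtPrime q) := by
    refine IsScalarTower.of_algebraMap_eq fun x => ?_
    rw [IsScalarTower.algebraMap_apply A B (Localization.AtPrime q)]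
    exact (Localization.localRingHom_to_map (q.comap φ) q φ rfl x).symm
  haveI : Module.Flat A B := hφ
  haveI : Module.Flat B (Localization.AtPrime q) := IsLocalization.flat _ q.primeCompl
  haveI : Module.Flat A (Localization.AtPrime q) := Module.Flat.trans A B _
  exact (Module.flat_iff_of_isLocalization (Localization.AtPrime (q.comap φ)) (q.comap φ).primeCompl _).mpr ‹_›

theorem faithfullyFlat_localRingHom (φ : A →+* B) (hφ : φ.Flat) (q : Ideal B) [q.IsPrime] :
    (Localization.localRingHom (q.comap φ) q φ rfl).FaithfullyFlat := by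
  letI := (Localization.localRingHom (q.comap φ) q φ rfl).toAlgebra
  haveI : Module.Flat (Localization.AtPrime (q.comap φ)) (Localization.AtPrime q) := flat_localRingHom φ hφ q
  haveI : IsLocalHom (algebraMap (Localization.AtPrime (q.comap φ)) (Localization.AtPrime q)) :=
    Localization.isLocalHom_localRingHom (q.comap φ) q φ rfl
  exact Module.FaithfullyFlat.of_flat_of_isLocalHom

end Groth.L07.KoszulIdeal
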