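import Groth.Prelude.Def_RegImm
import Mathlib.RingTheory.Localization.Away.Basic

/-! Presentations of principal localizations. -/

namespace Groth.L07.Synt

open MvPolynomial

set_option linter.style.haveILetI false

universe u

variable {R : Type u} [CommRing R] {n c : ℕ}

/-- The relations of a principal localization. -/
noncomputable def awayRel (F : Fin c → MvPolynomial (Fin n) R) (h : MvPolynomial (Fin n) R) :
    Fin (c + 1) → MvPolynomial (Fin (n + 1)) R :=
  Fin.snoc (fun i => rename Fin.castSucc (F i)) (rename Fin.castSucc h * X (Fin.last n) - 1)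

theorem awayRel_castSucc (F : Fin c → MvPolynomial (Fin n) R) (h : MvPolynomial (Fin n) R) (i : Fin c) :
    awayRel F h i.castSucc = rename Fin.castSucc (F i) := Fin.snoc_castSucc _ _ _

theorem awayRel_last (F : Fin c → MvPolynomial (Fin n) R) (h : MvPolynomial (Fin n) R) :
    awayRel F h (Fin.last c) = rename Fin.castSucc h * X (Fin.last n) - 1 := Fin.snoc_last _ _

/-- A localization of a quotient, presented by one more variable and one more relation. -/
theorem exists_away_equiv (F : Fin c → MvPolynomial (Fin n) R) (h : MvPolynomial (Fin n) R)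
    (I : Ideal (MvPolynomial (Fin n) R)) (hF : ∀ i, F i ∈ I)
    (hI : ∀ y ∈ I, h * y ∈ Ideal.span (Set.range F)) :
    Nonempty (Localization.Away (Ideal.Quotient.mk I h) ≃ₐ[R]
      Synt.RelGCIRing R (n + 1) (c + 1) (awayRel F h)) := by
  let T := Localization.Away (Ideal.Quotient.mk I h)
  let K := Ideal.span (Set.range (awayRel F h))
  let j : MvPolynomial (Fin n) R →ₐ[R] MvPolynomial (Fin (n + 1)) R ⧸ K :=
    (Ideal.Quotient.mkₐ R K).comp (rename Fin.castSucc)
  have hj : ∀ y, j y = Ideal.Quotient.mk K (rename Fin.castSucc y) := fun y => rfl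
  have hu : j h * Ideal.Quotient.mk K (X (Fin.last n)) = 1 := by
    rw [hj, ← map_mul, ← (Ideal.Quotient.mk K).map_one, Ideal.Quotient.mk_eq_mk_iff_sub_mem]
    exact Ideal.subset_span ⟨Fin.last c, awayRel_last F h⟩
  have hjI : ∀ y ∈ I, j y = 0 := fun y hy => by
    have h1 : Ideal.span (Set.range F) ≤ RingHom.ker j.toRingHom := Ideal.span_le.mpr (by
      rintro _ ⟨i, rfl⟩
      exact Ideal.Quotient.eq_zero_iff_mem.mpr (Ideal.subset_span ⟨i.castSucc, awayRel_castSucc F h i⟩))
    have h2 : j h * j y = 0 := (map_mul j h y).symm.trans (h1 (hI y hy))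
    calc j y = (j h * Ideal.Quotient.mk K (X (Fin.last n))) * j y := by rw [hu, one_mul]
      _ = Ideal.Quotient.mk K (X (Fin.last n)) * (j h * j y) := by ring
      _ = 0 := by rw [h2, mul_zero]
  let jI : MvPolynomial (Fin n) R ⧸ I →ₐ[R] MvPolynomial (Fin (n + 1)) R ⧸ K := Ideal.Quotient.liftₐ I j hjI
  have hunit : IsUnit (jI (Ideal.Quotient.mk I h)) := IsUnit.of_mul_eq_one _ hu
  let fwd : T →ₐ[R] MvPolynomial (Fin (n + 1)) R ⧸ K :=
    { toRingHom := IsLocalization.Away.lift (Ideal.Quotient.mk I h) (g := jI.toRingHom) hunit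
      commutes' := fun r => by
        show IsLocalization.Away.lift (Ideal.Quotient.mk I h) hunit (algebraMap R T r) = _
        rw [IsScalarTower.algebraMap_apply R (MvPolynomial (Fin n) R ⧸ I) T, IsLocalization.Away.lift_eq]
        exact jI.commutes r }
  have hfwd : ∀ y, fwd (algebraMap _ T (Ideal.Quotient.mk I y)) = j y := fun y =>
    IsLocalization.Away.lift_eq (Ideal.Quotient.mk I h) hunit _
  let v : Fin (n + 1) → T := Fin.snoc
    (fun i => algebraMap _ T (Ideal.Quotient.mk I (X i))) (IsLocalization.Away.invSelf (Ideal.Quotient.mk I h))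
  have hv : ∀ y, aeval v (rename Fin.castSucc y) = algebraMap _ T (Ideal.Quotient.mk I y) := fun y => by
    rw [aeval_rename]
    refine AlgHom.congr_fun (φ₂ := (IsScalarTower.toAlgHom R _ T).comp (Ideal.Quotient.mkₐ R I)) ?_ y
    refine MvPolynomial.algHom_ext fun i => ?_
    simp [v]
  let bwd : MvPolynomial (Fin (n + 1)) R ⧸ K →ₐ[R] T := Ideal.Quotient.liftₐ K (aeval v) (fun y hy => by
    refine (Ideal.span_le (I := RingHom.ker (aeval v).toRingHom)).mpr ?_ hy
    rintro _ ⟨i, rfl⟩
    show aeval v (awayRel F h i) = 0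
    induction i using Fin.lastCases with
    | last =>
      rw [awayRel_last, map_sub, map_mul, hv, aeval_X, map_one]
      simp [v, IsLocalization.Away.mul_invSelf]
    | cast i => rw [awayRel_castSucc, hv, Ideal.Quotient.eq_zero_iff_mem.mpr (hF i), map_zero])
  refine ⟨AlgEquiv.ofAlgHom fwd bwd ?_ ?_⟩
  · refine Ideal.Quotient.algHom_ext _ (MvPolynomial.algHom_ext fun i => ?_)
    show fwd (aeval v (X i)) = Ideal.Quotient.mk K (X i)
    rw [aeval_X]
    induction i using Fin.lastCases with
    | last =>
      simp only [v, Fin.snoc_last]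
      have h1 := congrArg fwd (IsLocalization.Away.mul_invSelf (S := T) (Ideal.Quotient.mk I h))
      rw [map_mul, hfwd, map_one] at h1
      exact (IsUnit.of_mul_eq_one _ hu).mul_left_cancel (h1.trans hu.symm)
    | cast i =>
      simp only [v, Fin.snoc_castSucc]
      rw [hfwd, hj, rename_X]
  · refine IsLocalization.algHom_ext (Submonoid.powers (Ideal.Quotient.mk I h))
      (Ideal.Quotient.algHom_ext _ (MvPolynomial.algHom_ext fun i => ?_))
    show bwd (fwd (algebraMap _ T (Ideal.Quotient.mk I (X i)))) = _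
    rw [hfwd]
    show aeval v (rename Fin.castSucc (X i)) = _
    rw [hv]
    rfl

end Groth.L07.Synt
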