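import Groth.Agent.L07.SyntRel
import Groth.Agent.L07.SyntPres

/-! Neighbourhoods which are relative global complete intersections. -/

namespace Groth.L07.SyntNhd

open TensorProduct PrimeSpectrum
open Groth.L07.CILocus Groth.L07.Synt

set_option linter.style.haveILetI false
set_option maxSynthPendingDepth 3

universe u

variable {R : Type u} [CommRing R] {n c : ℕ}

local notation "Po" => MvPolynomial (Fin n) R

theorem C_mem_iff (p : PrimeSpectrum R) (q : Ideal (MvPolynomial (Fin n) p.asIdeal.ResidueField)) [q.IsPrime]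
    (r : R) : θ p (MvPolynomial.C r) ∈ q ↔ r ∈ p.asIdeal := by
  constructor
  · intro h
    by_contra hr
    rw [θ, MvPolynomial.map_C] at h
    exact C_ne hr q h
  · intro h
    rw [θ, MvPolynomial.map_C, Ideal.algebraMap_residueField_eq_zero.mpr h, map_zero]
    exact q.zero_mem

/-- A prime of a fibre lies over a point. -/
theorem exists_point (I : Ideal Po) (p : PrimeSpectrum R)
    (q : Ideal (MvPolynomial (Fin n) p.asIdeal.ResidueField)) [q.IsPrime] (hq : I.map (θ p) ≤ q) :
    ∃ P : PrimeSpectrum (Po ⧸ I), P.asIdeal.comap (Ideal.Quotient.mk I) = q.comap (θ p) ∧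
      comap (algebraMap R (Po ⧸ I)) P = p := by
  have hI : RingHom.ker (Ideal.Quotient.mk I) ≤ q.comap (θ p) := by
    rw [Ideal.mk_ker]; exact Ideal.map_le_iff_le_comap.mp hq
  haveI := Ideal.map_isPrime_of_surjective Ideal.Quotient.mk_surjective hI
  have hc : ((q.comap (θ p)).map (Ideal.Quotient.mk I)).comap (Ideal.Quotient.mk I) = q.comap (θ p) := by
    rw [Ideal.comap_map_of_surjective _ Ideal.Quotient.mk_surjective, ← RingHom.ker_eq_comap_bot, sup_eq_left.mpr hI]
  refine ⟨⟨(q.comap (θ p)).map (Ideal.Quotient.mk I), inferInstance⟩, hc, PrimeSpectrum.ext (Ideal.ext fun r => ?_)⟩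
  refine Iff.trans ?_ (C_mem_iff p q r)
  show MvPolynomial.C r ∈ ((q.comap (θ p)).map (Ideal.Quotient.mk I)).comap (Ideal.Quotient.mk I) ↔ _
  rw [hc, Ideal.mem_comap]

/-- The prime of affine space of a point is determined by the point. -/
theorem eq_polPrime (I : Ideal Po) (P : PrimeSpectrum (Po ⧸ I)) (q : Ideal (Pol I P)) [q.IsPrime]
    (hq : I.map (θ (comap (algebraMap R (Po ⧸ I)) P)) ≤ q)
    (hc : q.comap (θ (comap (algebraMap R (Po ⧸ I)) P)) = P.asIdeal.comap (Ideal.Quotient.mk I)) :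
    q = polPrime I P := by
  set p := comap (algebraMap R (Po ⧸ I)) P with hp
  rw [← ker_φ I p] at hq
  let ψ := (φ I p).toRingHom
  have hψ : Function.Surjective ψ := φ_surjective I p
  haveI := Ideal.map_isPrime_of_surjective hψ hq
  have hQ : (q.map ψ).comap ψ = q := by
    rw [Ideal.comap_map_of_surjective _ hψ, ← RingHom.ker_eq_comap_bot, sup_eq_left.mpr hq]
  have h1 : (⟨q.map ψ, inferInstance⟩ : PrimeSpectrum (p.asIdeal.Fiber (Po ⧸ I))) = fibPrime R P := by
    refine (preimageEquivFiber R (Po ⧸ I) p).symm.injective (Subtype.ext (PrimeSpectrum.ext ?_))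
    show (q.map ψ).comap Algebra.TensorProduct.includeRight.toRingHom =
      (fibPrime R P).asIdeal.comap Algebra.TensorProduct.includeRight.toRingHom
    rw [comap_fibPrime]
    refine Ideal.comap_injective_of_surjective _ Ideal.Quotient.mk_surjective ?_
    rw [Ideal.comap_comap, ← hc]
    conv_rhs => rw [← hQ, Ideal.comap_comap]
    congr 1
    exact RingHom.ext fun y => (φ_θ I p y).symm
  calc q = (q.map ψ).comap ψ := hQ.symm
    _ = (fibPrime R P).asIdeal.comap ψ := congrArg (fun z : PrimeSpectrum _ => z.asIdeal.comap ψ) h1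

/-- The height condition defining the good locus. -/
def Good (I : Ideal (MvPolynomial (Fin n) R)) (c : ℕ) (P : PrimeSpectrum (MvPolynomial (Fin n) R ⧸ I)) : Prop :=
  ∀ (q : Ideal (Pol I P)) [q.IsPrime],
    I.map (θ (comap (algebraMap R (MvPolynomial (Fin n) R ⧸ I)) P)) ≤ q → q ≤ polPrime I P →
      (c : ℕ∞) ≤ q.height

theorem height_ge_of_good (I : Ideal Po) (h : Po) (hgood : ∀ P, Ideal.Quotient.mk I h ∉ P.asIdeal → Good I c P)
    (p : PrimeSpectrum R) (q : Ideal (MvPolynomial (Fin n) p.asIdeal.ResidueField)) [q.IsPrime]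
    (hq : I.map (θ p) ≤ q) (hh : θ p h ∉ q) : (c : ℕ∞) ≤ q.height := by
  obtain ⟨P, hP, rfl⟩ := exists_point I p q hq
  refine hgood P (fun hm => hh ?_) q hq (eq_polPrime I P q hq hP.symm).le
  rw [← Ideal.mem_comap, ← hP]
  exact hm

/-- A criterion by heights for relative global complete intersections. -/
theorem isRelGCI_of_height {m c : ℕ} (G : Fin c → MvPolynomial (Fin m) R)
    (h : ∀ (p : PrimeSpectrum R) (q : Ideal (MvPolynomial (Fin m) p.asIdeal.ResidueField)) [q.IsPrime],
      (Ideal.span (Set.range G)).map (θ p) ≤ q → (c : ℕ∞) ≤ q.height) :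
    Synt.IsRelGCI R m c G := by
  intro p hp
  classical
  let I := Ideal.span (Set.range G)
  let ψ := (φ I p).toRingHom
  have hψ : Function.Surjective ψ := φ_surjective I p
  have hker : RingHom.ker ψ = I.map (θ p) := ker_φ I p
  have hne : RingHom.ker ψ ≠ ⊤ := RingHom.ker_ne_top ψ
  obtain ⟨q₀, hq₀⟩ := Ideal.nonempty_minimalPrimes hne
  haveI := hq₀.1.1
  obtain ⟨a, b, ha, hb, hab⟩ := Groth.L07.CIField.exists_height_add q₀
  have h1 : (c : ℕ∞) ≤ q₀.height := h p q₀ (hker.ge.trans hq₀.1.2)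
  have h2 : q₀.height ≤ (c : ℕ∞) := by
    have h3 : I.map (θ p) = Ideal.span ((Finset.univ.image (θ p ∘ G) : Finset _) : Set _) := by
      rw [Finset.coe_image, Finset.coe_univ, Set.image_univ, Ideal.map_span, ← Set.range_comp]
    rw [hker, h3] at hq₀
    refine (Ideal.height_le_card_of_mem_minimalPrimes_span_finset hq₀).trans ?_
    exact_mod_cast Finset.card_image_le.trans_eq (Finset.card_fin c)
  rw [ha] at h1 h2
  have hac : a = c := le_antisymm (by exact_mod_cast h2) (by exact_mod_cast h1)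
  refine ⟨by omega, le_antisymm ?_ ?_⟩
  · refine Groth.L07.CIField.dim_le_of_primes ψ (PrimeSpectrum.comap_injective_of_surjective _ hψ) _ fun P => ?_
    obtain ⟨a', b', ha', hb', hab'⟩ := Groth.L07.CIField.exists_height_add (P.asIdeal.comap ψ)
    have h4 := h p (P.asIdeal.comap ψ) (hker.ge.trans fun x hx => by
      rw [Ideal.mem_comap, RingHom.mem_ker.mp hx]; exact zero_mem _)
    rw [ha'] at h4
    rw [hb']
    have : c ≤ a' := by exact_mod_cast h4
    exact_mod_cast (show b' ≤ m - c by omega)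
  · rw [← ringKrullDim_eq_of_ringEquiv (RingHom.quotientKerEquivOfSurjective (f := ψ) hψ),
      show m - c = b by omega, ← hb]
    exact ringKrullDim_le_of_surjective _ (Ideal.Quotient.factor_surjective hq₀.1.2)

/-- Inverting an element on the good locus gives a relative global complete intersection. -/
theorem isRelGCI_awayRel (F : Fin c → MvPolynomial (Fin n) R) (h : MvPolynomial (Fin n) R)
    (hgood : ∀ (p : PrimeSpectrum R) (q : Ideal (MvPolynomial (Fin n) p.asIdeal.ResidueField)) [q.IsPrime],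
      (Ideal.span (Set.range F)).map (θ p) ≤ q → θ p h ∉ q → (c : ℕ∞) ≤ q.height) :
    Synt.IsRelGCI R (n + 1) (c + 1) (awayRel F h) := by
  refine isRelGCI_of_height _ fun p q _ hq => ?_
  classical
  let K := p.asIdeal.ResidueField
  let ι : MvPolynomial (Fin n) K →ₐ[K] MvPolynomial (Fin (n + 1)) K := MvPolynomial.rename Fin.castSucc
  let q₀ := q.comap ι.toRingHom
  have hι : ∀ y : Po, θ (d := n + 1) p (MvPolynomial.rename Fin.castSucc y) = ι (θ p y) := fun y =>
    MvPolynomial.map_rename _ _ y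
  have hFq : (Ideal.span (Set.range F)).map (θ p) ≤ q₀ := by
    rw [Ideal.map_span, Ideal.span_le]
    rintro _ ⟨_, ⟨i, rfl⟩, rfl⟩
    show ι (θ p (F i)) ∈ q
    rw [← hι, ← awayRel_castSucc F h i]
    exact hq (Ideal.mem_map_of_mem _ (Ideal.subset_span ⟨_, rfl⟩))
  have hlast : ι (θ p h) * MvPolynomial.X (Fin.last n) - 1 ∈ q := by
    have := hq (Ideal.mem_map_of_mem (θ p) (Ideal.subset_span ⟨Fin.last c, rfl⟩))
    rw [awayRel_last, map_sub, map_mul, hι, map_one] at this
    simpa [θ] using this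
  have hh : θ p h ∉ q₀ := fun hm => Ideal.IsPrime.ne_top ‹q.IsPrime› ((Ideal.eq_top_iff_one _).mpr (by
    simpa using sub_mem (Ideal.mul_mem_right (MvPolynomial.X (Fin.last n)) _ hm) hlast))
  obtain ⟨a, b, ha, hb, hab⟩ := Groth.L07.CIField.exists_height_add q₀
  obtain ⟨a', b', ha', hb', hab'⟩ := Groth.L07.CIField.exists_height_add q
  have hca := hgood p q₀ hFq hh
  rw [ha] at hca
  have hca' : c ≤ a := by exact_mod_cast hca
  rw [ha']
  suffices hle : b' ≤ b by exact_mod_cast (show c + 1 ≤ a' by omega)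
  let D := MvPolynomial (Fin n) K ⧸ q₀
  let E := MvPolynomial (Fin (n + 1)) K ⧸ q
  let g : D := Ideal.Quotient.mk q₀ (θ p h)
  have hg : g ≠ 0 := fun h0 => hh (Ideal.Quotient.eq_zero_iff_mem.mp h0)
  let j : D →ₐ[K] E := Ideal.Quotient.liftₐ q₀ ((Ideal.Quotient.mkₐ K q).comp ι)
    fun y hy => Ideal.Quotient.eq_zero_iff_mem.mpr hy
  have hju : j g * Ideal.Quotient.mk q (MvPolynomial.X (Fin.last n)) = 1 := by
    show Ideal.Quotient.mk q (ι (θ p h)) * _ = _
    rw [← map_mul, ← (Ideal.Quotient.mk q).map_one, Ideal.Quotient.mk_eq_mk_iff_sub_mem]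
    exact hlast
  have hu : IsUnit (j g) := IsUnit.of_mul_eq_one _ hju
  let L := IsLocalization.Away.lift (S := Localization.Away g) g (g := j.toRingHom) hu
  have hL : ∀ z, L (algebraMap D _ z) = j z := fun z => IsLocalization.Away.lift_eq g hu z
  have hsur : Function.Surjective L := by
    intro z
    obtain ⟨y, rfl⟩ := Ideal.Quotient.mk_surjective z
    show Ideal.Quotient.mk q y ∈ L.range
    induction y using MvPolynomial.induction_on with
    | C x => exact ⟨algebraMap D _ (algebraMap K D x), by rw [hL, AlgHom.commutes]; rfl⟩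
    | add a b ha hb => rw [map_add]; exact add_mem ha hb
    | mul_X a i ha =>
      rw [map_mul]
      refine mul_mem ha ?_
      refine Fin.lastCases ⟨IsLocalization.Away.invSelf g, ?_⟩ (fun i => ⟨algebraMap D _ (Ideal.Quotient.mk q₀ (MvPolynomial.X i)), ?_⟩) i
      · refine hu.mul_left_cancel ?_
        rw [hju]
        conv_lhs => rw [← hL g]
        rw [← map_mul, IsLocalization.Away.mul_invSelf, map_one]
      · rw [hL]
        show Ideal.Quotient.mk q (ι (MvPolynomial.X i)) = _
        rw [show ι (MvPolynomial.X i) = MvPolynomial.X i.castSucc from MvPolynomial.rename_X _ _]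
  have h5 := ringKrullDim_le_of_surjective L hsur
  rw [Groth.L07.CIField.dim_away (k := K) D g hg, hb, hb'] at h5
  exact_mod_cast h5

/-- The good locus is open. -/
theorem exists_ideal_good (I : Ideal Po) (c : ℕ) :
    ∃ a : Ideal (MvPolynomial (Fin n) R), I ≤ a ∧
      ∀ P : PrimeSpectrum (Po ⧸ I), a ≤ P.asIdeal.comap (Ideal.Quotient.mk I) ↔ ¬ Good I c P := by
  have hopen : IsOpen {P : PrimeSpectrum (Po ⧸ I) | Good I c P} := by
    rw [isOpen_iff_forall_mem_open]
    intro P hP
    obtain ⟨g, hg, H⟩ := exists_fibre_dim I P (c := c) hP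
    exact ⟨(basicOpen g : Set _), fun P' hP' => H P' hP', (basicOpen g).2, hg⟩
  obtain ⟨s, hs⟩ := (PrimeSpectrum.isOpen_iff _).mp hopen
  refine ⟨(Ideal.span s).comap (Ideal.Quotient.mk I), fun y hy => by
    rw [Ideal.mem_comap, Ideal.Quotient.eq_zero_iff_mem.mpr hy]; exact zero_mem _, fun P => ?_⟩
  rw [Ideal.comap_le_comap_iff_of_surjective _ Ideal.Quotient.mk_surjective, Ideal.span_le,
    ← mem_zeroLocus, ← hs]
  rfl

/-- A relative global complete intersection inside the good locus. -/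
theorem isRelGCI_awayRel_of_good (F : Fin c → MvPolynomial (Fin n) R) (h : MvPolynomial (Fin n) R)
    (hgood : ∀ P, Ideal.Quotient.mk (Ideal.span (Set.range F)) h ∉ P.asIdeal →
      Good (Ideal.span (Set.range F)) c P) :
    Synt.IsRelGCI R (n + 1) (c + 1) (awayRel F h) :=
  isRelGCI_awayRel F h fun p q _ hq hh => height_ge_of_good _ h hgood p q hq hh

/-- A fibre of the expected dimension is good. -/
theorem good_of_dim (F : Fin c → MvPolynomial (Fin n) R) (p : PrimeSpectrum R)
    (hp : c ≤ n ∧ ringKrullDim (p.asIdeal.Fiber (Synt.RelGCIRing R n c F)) = ((n - c : ℕ) : WithBot ℕ∞))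
    (P : PrimeSpectrum (Po ⧸ Ideal.span (Set.range F)))
    (hP : comap (algebraMap R (Po ⧸ Ideal.span (Set.range F))) P = p) :
    Good (Ideal.span (Set.range F)) c P := by
  intro q _ hq _
  subst hP
  set p := comap (algebraMap R (Po ⧸ Ideal.span (Set.range F))) P
  rw [← ker_φ _ p] at hq
  have h1 := ringKrullDim_le_of_surjective _ (Ideal.Quotient.factor_surjective hq)
  rw [ringKrullDim_eq_of_ringEquiv (RingHom.quotientKerEquivOfSurjective
    (f := (φ (Ideal.span (Set.range F)) p).toRingHom) (φ_surjective _ p)), hp.2] at h1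
  obtain ⟨a, b, ha, hb, hab⟩ := Groth.L07.CIField.exists_height_add q
  rw [hb] at h1
  have : b ≤ n - c := by exact_mod_cast h1
  rw [ha]
  exact_mod_cast (show c ≤ a by omega)

/-- A relative global complete intersection around a fibre of the expected dimension. -/
theorem exists_of_fibre_dim (F : Fin c → MvPolynomial (Fin n) R) (p : PrimeSpectrum R)
    (hp : c ≤ n ∧ ringKrullDim (p.asIdeal.Fiber (Synt.RelGCIRing R n c F)) = ((n - c : ℕ) : WithBot ℕ∞)) :
    ∃ h : MvPolynomial (Fin n) R,
      IsUnit ((1 : p.asIdeal.ResidueField) ⊗ₜ[R] (Ideal.Quotient.mk (Ideal.span (Set.range F)) h) :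
        p.asIdeal.Fiber (Synt.RelGCIRing R n c F)) ∧
      Synt.IsRelGCI R (n + 1) (c + 1) (awayRel F h) ∧
      Nonempty (Localization.Away (Ideal.Quotient.mk (Ideal.span (Set.range F)) h) ≃ₐ[R]
        Synt.RelGCIRing R (n + 1) (c + 1) (awayRel F h)) := by
  let I := Ideal.span (Set.range F)
  obtain ⟨a, hIa, ha⟩ := exists_ideal_good I c
  have htop : a.map (θ p) = ⊤ := by
    by_contra hne
    obtain ⟨q, hq, hle⟩ := Ideal.exists_le_maximal _ hne
    obtain ⟨P, hP, hPp⟩ := exists_point I p q ((Ideal.map_mono hIa).trans hle)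
    exact (ha P).mp (hP ▸ Ideal.map_le_iff_le_comap.mp hle) (good_of_dim F p hp P hPp)
  obtain ⟨r, hr, y, hy, hry⟩ := exists_lift_mem p a
    (show (1 : MvPolynomial (Fin n) p.asIdeal.ResidueField) ∈ a.map (θ p) from htop ▸ Submodule.mem_top)
  refine ⟨y, ?_, isRelGCI_awayRel_of_good F y fun P hP => by_contra fun hn =>
      hP ((ha P).mpr hn hy),
    exists_away_equiv F y I (fun i => Ideal.subset_span ⟨i, rfl⟩) (fun z hz => Ideal.mul_mem_left _ _ hz)⟩
  rw [← φ_θ I p y, hry, mul_one]
  exact ((isUnit_iff_ne_zero.mpr fun h0 => hr (Ideal.algebraMap_residueField_eq_zero.mp h0)).map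
    MvPolynomial.C).map (φ I p)

/-- A relative global complete intersection around a closed subscheme of the base. -/
theorem exists_of_quotient (F : Fin c → MvPolynomial (Fin n) R) (J : Ideal R)
    (hJ : Synt.IsRelGCI (R ⧸ J) n c (fun i => MvPolynomial.map (Ideal.Quotient.mk J) (F i))) :
    ∃ h : MvPolynomial (Fin n) R,
      Ideal.Quotient.mk (J.map (algebraMap R (Synt.RelGCIRing R n c F)))
        (Ideal.Quotient.mk (Ideal.span (Set.range F)) h) = 1 ∧
      Synt.IsRelGCI R (n + 1) (c + 1) (awayRel F h) ∧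
      Nonempty (Localization.Away (Ideal.Quotient.mk (Ideal.span (Set.range F)) h) ≃ₐ[R]
        Synt.RelGCIRing R (n + 1) (c + 1) (awayRel F h)) := by
  let I := Ideal.span (Set.range F)
  obtain ⟨a, hIa, ha⟩ := exists_ideal_good I c
  have hgood : ∀ P : PrimeSpectrum (Po ⧸ I), J.map (algebraMap R (Po ⧸ I)) ≤ P.asIdeal → Good I c P := by
    intro P hJP q _ hq _
    set p := comap (algebraMap R (Po ⧸ I)) P with hp
    have hJp : J ≤ p.asIdeal := Ideal.map_le_iff_le_comap.mp hJP
    haveI := Ideal.map_isPrime_of_surjective (I := p.asIdeal) (f := Ideal.Quotient.mk J)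
      Ideal.Quotient.mk_surjective (by rwa [Ideal.mk_ker])
    let pb : PrimeSpectrum (R ⧸ J) := ⟨p.asIdeal.map (Ideal.Quotient.mk J), inferInstance⟩
    have hc : p.asIdeal = pb.asIdeal.comap (Ideal.Quotient.mk J) := by
      rw [Ideal.comap_map_of_surjective _ Ideal.Quotient.mk_surjective, ← RingHom.ker_eq_comap_bot,
        Ideal.mk_ker, sup_eq_left.mpr hJp]
    let e := Ideal.ResidueField.map p.asIdeal pb.asIdeal (Ideal.Quotient.mk J) hc
    have he : Function.Bijective e := by
      refine ⟨RingHom.injective e, fun z => ?_⟩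
      obtain ⟨a, b, -, rfl⟩ := IsFractionRing.div_surjective (A := (R ⧸ J) ⧸ pb.asIdeal) z
      obtain ⟨a, rfl⟩ := Ideal.Quotient.mk_surjective a
      obtain ⟨a, rfl⟩ := Ideal.Quotient.mk_surjective a
      obtain ⟨b, rfl⟩ := Ideal.Quotient.mk_surjective b
      obtain ⟨b, rfl⟩ := Ideal.Quotient.mk_surjective b
      exact ⟨algebraMap R _ a / algebraMap R _ b, by
        rw [map_div₀, Ideal.ResidueField.map_algebraMap, Ideal.ResidueField.map_algebraMap]; rfl⟩
    let E := RingEquiv.ofBijective (MvPolynomial.map (σ := Fin n) e)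
      ⟨MvPolynomial.map_injective _ he.1, MvPolynomial.map_surjective _ he.2⟩
    have hEθ : ∀ y : Po, E (θ p y) = θ (d := n) pb (MvPolynomial.map (Ideal.Quotient.mk J) y) := fun y => by
      show MvPolynomial.map e (MvPolynomial.map _ y) = MvPolynomial.map _ (MvPolynomial.map _ y)
      rw [MvPolynomial.map_map, MvPolynomial.map_map]
      congr 2
      exact RingHom.ext fun r => Ideal.ResidueField.map_algebraMap p.asIdeal pb.asIdeal _ hc r
    have := Groth.L07.SyntRel.height_ge_of_isRelGCI hJ pb (q.comap E.symm) (by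
      rw [Ideal.map_span, Ideal.span_le]
      rintro _ ⟨_, ⟨i, rfl⟩, rfl⟩
      show E.symm (θ pb (MvPolynomial.map (Ideal.Quotient.mk J) (F i))) ∈ q
      rw [← hEθ, RingEquiv.symm_apply_apply]
      exact hq (Ideal.mem_map_of_mem _ (Ideal.subset_span ⟨i, rfl⟩)))
    rwa [RingEquiv.height_comap E.symm q] at this
  have htop : a.map (Ideal.Quotient.mk I) ⊔ J.map (algebraMap R (Po ⧸ I)) = ⊤ := by
    by_contra hne
    obtain ⟨q, hq, hle⟩ := Ideal.exists_le_maximal _ hne
    exact (ha ⟨q, hq.isPrime⟩).mp (Ideal.map_le_iff_le_comap.mp (le_sup_left.trans hle))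
      (hgood ⟨q, hq.isPrime⟩ (le_sup_right.trans hle))
  obtain ⟨y', hy', z, hz, hyz⟩ := Submodule.mem_sup.mp
    (show (1 : Po ⧸ I) ∈ a.map (Ideal.Quotient.mk I) ⊔ J.map (algebraMap R (Po ⧸ I)) from htop ▸ Submodule.mem_top)
  obtain ⟨y, hy, rfl⟩ := (Ideal.mem_map_iff_of_surjective _ Ideal.Quotient.mk_surjective).mp hy'
  refine ⟨y, ?_, isRelGCI_awayRel_of_good F y fun P hP => by_contra fun hn =>
      hP ((ha P).mpr hn hy),
    exists_away_equiv F y I (fun i => Ideal.subset_span ⟨i, rfl⟩) (fun z hz => Ideal.mul_mem_left _ _ hz)⟩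
  rw [← (Ideal.Quotient.mk (J.map (algebraMap R (Synt.RelGCIRing R n c F)))).map_one,
    Ideal.Quotient.mk_eq_mk_iff_sub_mem, ← hyz, sub_add_cancel_left]
  exact neg_mem hz

end Groth.L07.SyntNhd
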