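import Groth.Agent.L07.KoszulLCI
import Groth.Agent.L07.SyntNhd

/-! Descent of regularity along relative global complete intersections. -/

set_option autoImplicit false
set_option linter.style.haveILetI false
set_option maxSynthPendingDepth 3

universe u

namespace Groth.L07.KoszulIdeal

open Groth.L07.CILocus

/-- Dividing by part of a minimal generating system. -/
theorem regAt_map_of_surjective {A T Eκ : Type u} [CommRing A] [CommRing T] [CommRing Eκ] [IsLocalRing Eκ]
    (σ : A →+* T) (hσ : Function.Surjective σ) (fs : List A) (hker : RingHom.ker σ = Ideal.ofList fs)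
    (hfs : LCI.IsKoszulRegularSeq A fs) (K I' : Ideal A) (hK : K = I' ⊔ Ideal.ofList fs)
    (Q : Ideal A) [Q.IsPrime] (hKQ : K ≤ Q) (θ : A →+* Eκ) (hu : ∀ y ∉ Q, IsUnit (θ y)) (hI' : I' ≤ RingHom.ker θ)
    (hreg : LCI.IsKoszulRegularSeq Eκ (fs.map θ)) (hne : Ideal.ofList (fs.map θ) ≠ ⊤) (H : RegAt K Q) :
    RegAt (K.map σ) (Q.map σ) := by
  classical
  subst hK
  obtain ⟨g, hg, l, hl⟩ := H
  choose a ha b hb hab using fun y : {y // y ∈ l} => Submodule.mem_sup.mp (hl.1 y.1 y.2)
  let as' : List A := l.attach.map a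
  let L := as' ++ fs
  have has : ∀ x ∈ as', x ∈ I' := fun x hx => by
    obtain ⟨y, -, rfl⟩ := List.mem_map.mp hx; exact ha y
  have hLK : Ideal.ofList L ≤ I' ⊔ Ideal.ofList fs := by
    rw [Ideal.ofList_append]
    exact sup_le_sup_right (Ideal.span_le.mpr has) _
  have hlL : Ideal.ofList l ≤ Ideal.ofList L := by
    rw [Ideal.ofList_append]
    refine Ideal.span_le.mpr fun y hy => ?_
    show y ∈ Ideal.ofList as' ⊔ Ideal.ofList fs
    rw [show y = a ⟨y, hy⟩ + b ⟨y, hy⟩ from (hab ⟨y, hy⟩).symm]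
    exact Submodule.add_mem_sup (Ideal.subset_span (List.mem_map.mpr ⟨⟨y, hy⟩, List.mem_attach _ _, rfl⟩)) (hb _)
  let M := Localization.AtPrime Q
  let φ := algebraMap A M
  have hug : IsUnit (φ g) := IsLocalization.map_units M (⟨g, hg⟩ : Q.primeCompl)
  have eM : Ideal.ofList (l.map φ) = Ideal.ofList (L.map φ) := by
    rw [← hl.map_eq φ hug]
    refine le_antisymm ((map_le_map_of_pow φ hug fun x hx => ?_).trans_eq (Ideal.map_ofList φ L))
      ((Ideal.map_ofList φ L).ge.trans (Ideal.map_mono hLK))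
    obtain ⟨k, hk⟩ := hl.2.1 x hx
    exact ⟨k, hlL hk⟩
  obtain ⟨F', hmem, hlen, hgen⟩ := exists_sublist (l.map φ) (L.map φ) eM
  rw [List.length_map] at hlen
  choose pre hpre hpre' using fun z (hz : z ∈ F') => List.mem_map.mp (hmem z hz)
  let θM : M →+* Eκ := IsLocalization.lift (M := Q.primeCompl) (g := θ) fun y => hu y.1 y.2
  have hθM : ∀ x, θM (φ x) = θ x := fun x => IsLocalization.lift_eq _ x
  let Z := F'.filter fun z => decide (θM z = 0)
  let l₁ : List A := Z.pmap pre fun z hz => (List.mem_filter.mp hz).1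
  have hl₁L : ∀ x ∈ l₁, x ∈ L := fun x hx => by
    obtain ⟨z, hz, rfl⟩ := List.mem_pmap.mp hx
    exact hpre z _
  have hcount : fs.length ≤ (F'.filter fun z => !decide (θM z = 0)).length := by
    let h₂ := (F'.filter fun z => !decide (θM z = 0)).map θM
    have e₂ : Ideal.ofList h₂ = Ideal.ofList (fs.map θ) := by
      refine le_antisymm (Ideal.span_le.mpr fun y hy => ?_) ?_
      · obtain ⟨z, hz, rfl⟩ := List.mem_map.mp (show y ∈ h₂ from hy)
        obtain ⟨hzF, -⟩ := List.mem_filter.mp hz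
        obtain ⟨x, hx, hxz⟩ := List.mem_map.mp (hmem z hzF)
        rw [← hxz, hθM]
        rcases List.mem_append.mp hx with h | h
        · rw [RingHom.mem_ker.mp (hI' (has x h))]; exact zero_mem _
        · exact Ideal.subset_span (List.mem_map.mpr ⟨x, h, rfl⟩)
      · have e1 := congrArg (Ideal.map θM) hgen
        rw [Ideal.map_ofList, Ideal.map_ofList] at e1
        refine le_trans (le_trans (Ideal.span_mono fun y hy => ?_) e1.ge) (Ideal.span_le.mpr fun y hy => ?_)
        · obtain ⟨x, hx, rfl⟩ := List.mem_map.mp (show y ∈ _ from hy)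
          exact List.mem_map.mpr ⟨φ x, List.mem_map.mpr ⟨x, List.mem_append_right _ hx, rfl⟩, hθM x⟩
        · obtain ⟨z, hz, rfl⟩ := List.mem_map.mp (show y ∈ _ from hy)
          by_cases h0 : θM z = 0
          · rw [h0]; exact zero_mem _
          · exact Ideal.subset_span (List.mem_map.mpr ⟨z, List.mem_filter.mpr ⟨hz, by simpa using h0⟩, rfl⟩)
    have := Groth.L07.KoszulRel.length_le_of_ofList_eq hne hreg rfl e₂
    simpa [h₂] using this
  have hlen₁ : l₁.length + fs.length ≤ l.length := by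
    have h2 : (F'.filter fun z => decide (θM z = 0)).length + (F'.filter fun z => !decide (θM z = 0)).length =
      F'.length := (List.length_eq_length_filter_add (l := F') (fun z => decide (θM z = 0))).symm
    rw [List.length_pmap]
    show (F'.filter fun z => decide (θM z = 0)).length + _ ≤ _
    omega
  have hgen₁ : Ideal.ofList ((l₁ ++ fs).map φ) = Ideal.ofList (L.map φ) := by
    refine le_antisymm (Ideal.span_mono fun y hy => ?_) ?_
    · obtain ⟨x, hx, rfl⟩ := List.mem_map.mp (show y ∈ _ from hy)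
      refine List.mem_map.mpr ⟨x, ?_, rfl⟩
      rcases List.mem_append.mp hx with h | h
      · exact hl₁L x h
      · exact List.mem_append_right _ h
    · rw [← hgen]
      refine Ideal.span_le.mpr fun z hz => ?_
      obtain ⟨x, hx, rfl⟩ := List.mem_map.mp (hmem z hz)
      by_cases h0 : θM (φ x) = 0
      · refine Ideal.subset_span (List.mem_map.mpr ⟨pre (φ x) hz, List.mem_append_left _ ?_, hpre' _ hz⟩)
        exact List.mem_pmap.mpr ⟨φ x, List.mem_filter.mpr ⟨hz, by simpa using h0⟩, rfl⟩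
      · refine Ideal.subset_span (List.mem_map.mpr ⟨x, List.mem_append_right _ ?_, rfl⟩)
        rcases List.mem_append.mp hx with h | h
        · exact absurd (by rw [hθM]; exact RingHom.mem_ker.mp (hI' (has x h))) h0
        · exact h
  obtain ⟨t, ht, htL⟩ := exists_den Q L (l₁ ++ fs) hgen₁
  let G := g * t
  let AG := Localization.Away G
  have hu' : ∀ x, x ∣ G → IsUnit (algebraMap A AG x) := fun x hx =>
    isUnit_of_dvd_unit (map_dvd _ hx) (IsLocalization.Away.algebraMap_isUnit G)
  have hflat := RingHom.flat_algebraMap_iff.mpr (IsLocalization.flat AG (Submonoid.powers G) (R := A))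
  have hl₁K : ∀ x ∈ l₁, x ∈ I' ⊔ Ideal.ofList fs := fun x hx => hLK (Ideal.subset_span (hl₁L x hx))
  have hpow : ∀ x ∈ I' ⊔ Ideal.ofList fs, ∃ k : ℕ, G ^ k * x ∈ Ideal.ofList (l₁ ++ fs) := fun x hx => by
    obtain ⟨k, hk⟩ := hl.2.1 x hx
    refine ⟨k + 1, ?_⟩
    rw [show (g * t) ^ (k + 1) * x = g * t ^ k * (t * (g ^ k * x)) by ring]
    exact Ideal.mul_mem_left _ _ (htL _ (hlL hk))
  have hKeq : (I' ⊔ Ideal.ofList fs).map (algebraMap A AG) = Ideal.ofList ((l₁ ++ fs).map (algebraMap A AG)) :=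
    map_eq _ (hu' G dvd_rfl) (fun x hx => (List.mem_append.mp hx).elim (hl₁K x)
      fun h => Submodule.mem_sup_right (Ideal.subset_span h)) hpow
  have hregG : LCI.IsKoszulRegularSeq AG ((l₁ ++ fs).map (algebraMap A AG)) := by
    refine Groth.L07.KoszulDescent.isKoszulRegularSeq_of_length_le
      (hl.regular _ hflat (hu' g (dvd_mul_right _ _)))
      ((hl.map_eq _ (hu' g (dvd_mul_right _ _))).symm.trans hKeq) ?_
    simpa using hlen₁
  obtain ⟨τ, hτs, hτ, hτk⟩ := away_map σ hσ G
  rw [List.map_append] at hregG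
  have h4 := isKoszulRegularSeq_of_append τ hτs (fs.map (algebraMap A AG)) (l₁.map (algebraMap A AG))
    (by rw [hτk, hker, Ideal.map_ofList]) (Groth.L07.KoszulFlat.isKoszulRegularSeq_map _ hflat _ hfs) hregG
  have e4 : (l₁.map (algebraMap A AG)).map τ = (l₁.map σ).map (algebraMap T (Localization.Away (σ G))) := by
    rw [List.map_map, List.map_map]
    exact List.map_congr_left fun x _ => RingHom.congr_fun hτ x
  rw [e4] at h4
  refine ⟨σ G, fun hm => ?_, l₁.map σ, fun x hx => ?_, fun x hx => ?_, h4⟩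
  · have : G ∈ Q := by
      have hk : RingHom.ker σ ≤ Q := hker.le.trans (le_sup_right.trans hKQ)
      rw [← Ideal.mem_comap, Ideal.comap_map_of_surjective σ hσ, ← RingHom.ker_eq_comap_bot, sup_eq_left.mpr hk] at hm
      exact hm
    exact ((inferInstance : Q.IsPrime).mem_or_mem this).elim hg ht
  · obtain ⟨y, hy, rfl⟩ := List.mem_map.mp hx
    exact Ideal.mem_map_of_mem σ (hl₁K y hy)
  · obtain ⟨y, hy, rfl⟩ := (Ideal.mem_map_iff_of_surjective σ hσ).mp hx
    obtain ⟨k, hk⟩ := hpow y hy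
    refine ⟨k, ?_⟩
    have h5 := Ideal.mem_map_of_mem σ hk
    rw [Ideal.ofList_append, Ideal.map_sup, ← hker, (Ideal.map_eq_bot_iff_le_ker σ).mpr le_rfl, sup_bot_eq,
      Ideal.map_ofList, map_mul, map_pow] at h5
    exact h5

/-- Regularity descends along a relative global complete intersection. -/
theorem regAt_of_relGCI {R : Type u} [CommRing R] {m c : ℕ} {F : Fin c → MvPolynomial (Fin m) R}
    (hF : Synt.IsRelGCI R m c F) (J : Ideal R) (Q : Ideal (MvPolynomial (Fin m) R)) [Q.IsPrime]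
    (hQ : J.map MvPolynomial.C ⊔ Ideal.span (Set.range F) ≤ Q)
    (H : RegAt (J.map MvPolynomial.C ⊔ Ideal.span (Set.range F)) Q) : RegAt J (Q.comap MvPolynomial.C) := by
  classical
  let Po := MvPolynomial (Fin m) R
  let I := Ideal.span (Set.range F)
  let σ : Po →+* Po ⧸ I := Ideal.Quotient.mk I
  have hσk : RingHom.ker σ ≤ Q := Ideal.mk_ker.le.trans (le_sup_right.trans hQ)
  haveI : (Q.map σ).IsPrime := Ideal.map_isPrime_of_surjective Ideal.Quotient.mk_surjective hσk
  have hc : (Q.map σ).comap σ = Q := by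
    rw [Ideal.comap_map_of_surjective _ Ideal.Quotient.mk_surjective, ← RingHom.ker_eq_comap_bot, sup_eq_left.mpr hσk]
  let P : PrimeSpectrum (Po ⧸ I) := ⟨Q.map σ, inferInstance⟩
  let p := PrimeSpectrum.comap (algebraMap R (Po ⧸ I)) P
  let Qκ := polPrime I P
  have hQκ : Qκ.comap (θ p) = Q := (comap_polPrime I P).trans hc
  let Eκ := Localization.AtPrime Qκ
  let θ' : Po →+* Eκ := (algebraMap _ Eκ).comp (θ p)
  have hp : p.asIdeal = Q.comap MvPolynomial.C := by
    show (Q.map σ).comap (σ.comp MvPolynomial.C) = _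
    rw [← Ideal.comap_comap, hc]
  have hwreg := Groth.L07.CIField.isRegular_of_height (θ p ∘ F) Qκ (by
      rw [Set.range_comp, ← Ideal.map_span]; exact map_le_polPrime I P)
    (fun q _ h1 _ => Groth.L07.SyntRel.height_ge_of_isRelGCI hF p q (by
      rwa [Ideal.map_span, ← Set.range_comp]))
  have hl : (List.ofFn F).map θ' = List.ofFn (algebraMap _ Eκ ∘ θ p ∘ F) := by
    rw [List.map_ofFn]; rfl
  have hflist : Ideal.ofList (List.ofFn F) = I := Groth.L07.QReg.ofList_ofFn F
  have hreg : LCI.IsKoszulRegularSeq Eκ ((List.ofFn F).map θ') := by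
    rw [hl, Groth.L07.KoszulPerm.isKoszulRegularSeq_iff]
    exact fun n hn => Groth.L04.Koszul.isZero_of_isWeaklyRegular _ (ModuleCat.of Eκ Eκ) hwreg.toIsWeaklyRegular n hn.ne
  have hne : Ideal.ofList ((List.ofFn F).map θ') ≠ ⊤ := fun e => by
    refine (IsLocalRing.maximalIdeal.isMaximal Eκ).ne_top (top_le_iff.mp (e.symm.le.trans ?_))
    rw [← Ideal.map_ofList, hflist, ← Ideal.map_map, ← Localization.AtPrime.map_eq_maximalIdeal]
    exact Ideal.map_mono (map_le_polPrime I P)
  have hKRS : LCI.IsKoszulRegularSeq Po (List.ofFn F) := Groth.L07.KoszulLocal.isKoszulRegularSeq_of_local _ fun P' _ hP' =>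
    (RingTheory.Sequence.isWeaklyRegular_map_algebraMap_iff _ _ _).mp
      (Groth.L07.SyntRel.transversal_of_isRelGCI hF P' (hflist.ge.trans hP')).1.toIsWeaklyRegular
  have h1 := regAt_map_of_surjective σ Ideal.Quotient.mk_surjective (List.ofFn F) (Ideal.mk_ker.trans hflist.symm) hKRS
    (J.map MvPolynomial.C ⊔ I) (J.map MvPolynomial.C) (by rw [hflist]) Q hQ θ'
    (fun y hy => IsLocalization.map_units Eκ (⟨θ p y, fun e => hy (hQκ ▸ e)⟩ : Qκ.primeCompl))
    (Ideal.map_le_iff_le_comap.mpr fun x hx => by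
      have hxp : x ∈ p.asIdeal := hp ▸ hQ (Submodule.mem_sup_left (Ideal.mem_map_of_mem _ hx))
      rw [Ideal.mem_comap, RingHom.mem_ker]
      rw [RingHom.comp_apply, θ, MvPolynomial.map_C, Ideal.algebraMap_residueField_eq_zero.mpr hxp, map_zero, map_zero])
    hreg hne H
  have e1 : (J.map MvPolynomial.C ⊔ I).map σ = J.map (σ.comp MvPolynomial.C) := by
    rw [Ideal.map_sup, (Ideal.map_eq_bot_iff_le_ker σ).mpr Ideal.mk_ker.ge, sup_bot_eq, Ideal.map_map]
  rw [e1] at h1
  let φ : R →+* Po ⧸ I := σ.comp MvPolynomial.C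
  haveI : Module.Flat R (Po ⧸ I) := Groth.L07.SyntRel.flat_of_isRelGCI hF
  haveI : Algebra.FinitePresentation R (Po ⧸ I) :=
    Algebra.FinitePresentation.quotient (Submodule.fg_span (Set.finite_range F))
  have hφ : φ = algebraMap R (Po ⧸ I) := rfl
  have ho : IsOpenMap (PrimeSpectrum.comap φ) := by
    rw [hφ]
    exact PrimeSpectrum.isOpenMap_comap_of_hasGoingDown_of_finitePresentation
  have h2 := regAt_descend φ (by rw [hφ]; exact RingHom.flat_algebraMap_iff.mpr inferInstance) ho J (Q.map σ) (by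
    rw [← Ideal.comap_comap, hc]
    exact Ideal.map_le_iff_le_comap.mp (le_sup_left.trans hQ)) h1
  rwa [← Ideal.comap_comap, hc] at h2

end Groth.L07.KoszulIdeal
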