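import Groth.Agent.L07.KoszulMor
import Groth.Agent.L07.RegAtSynt
import Groth.Agent.L07.SyntMor
import Groth.Agent.L24.Alg.SourceFppf

/-! Koszul morphisms descend along syntomic surjections on the source. -/

set_option autoImplicit false
set_option linter.style.haveILetI false
set_option maxSynthPendingDepth 3

universe u

open CategoryTheory CategoryTheory.Limits AlgebraicGeometry

namespace Groth.L07.KoszulChart

open Groth.L07.KoszulIdeal (RegAt)

theorem mem_span_map {R B : Type u} [CommRing R] [CommRing B] (μ : R →+* B) (hμ : Function.Surjective μ) {c : ℕ}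
    (F : Fin c → B) (x : R) (hx : μ x ∈ Ideal.span (Set.range F)) :
    x ∈ RingHom.ker μ ⊔ Ideal.span (Set.range fun i => Function.surjInv hμ (F i)) := by
  have : Ideal.span (Set.range F) = (Ideal.span (Set.range fun i => Function.surjInv hμ (F i))).map μ := by
    rw [Ideal.map_span, ← Set.range_comp]
    congr 1
    exact congrArg Set.range (funext fun i => (Function.surjInv_eq hμ (F i)).symm)
  rw [this, ← Ideal.mem_comap, Ideal.comap_map_of_surjective μ hμ, ← RingHom.ker_eq_comap_bot, sup_comm] at hx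
  exact hx

/-- The algebra of a standard syntomic chart over a presented chart. -/
theorem exists_chart_presentation {R C : Type u} [CommRing R] [CommRing C] (J : Ideal R) {m c : ℕ}
    {F : Fin c → MvPolynomial (Fin m) (R ⧸ J)} (hF : Synt.IsRelGCI (R ⧸ J) m c F)
    (ω : Synt.RelGCIRing (R ⧸ J) m c F →+* C) (hω : Function.Bijective ω) :
    ∃ (m' c' : ℕ) (F' : Fin c' → MvPolynomial (Fin m') R) (α : MvPolynomial (Fin m') R →+* C),
      Synt.IsRelGCI R m' c' F' ∧ Function.Surjective α ∧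
        α.comp MvPolynomial.C = ω.comp ((algebraMap (R ⧸ J) (Synt.RelGCIRing (R ⧸ J) m c F)).comp (Ideal.Quotient.mk J)) ∧
        RingHom.ker α = J.map MvPolynomial.C ⊔ Ideal.span (Set.range F') := by
  let μ : MvPolynomial (Fin m) R →+* MvPolynomial (Fin m) (R ⧸ J) := MvPolynomial.map (Ideal.Quotient.mk J)
  have hμ : Function.Surjective μ := MvPolynomial.map_surjective _ Ideal.Quotient.mk_surjective
  let Ft : Fin c → MvPolynomial (Fin m) R := fun i => Function.surjInv hμ (F i)
  have hFt : (fun i => μ (Ft i)) = F := funext fun i => Function.surjInv_eq hμ (F i)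
  obtain ⟨h, hh, hrel, -⟩ := Groth.L07.SyntNhd.exists_of_quotient Ft J (by
    show Synt.IsRelGCI (R ⧸ J) m c (fun i => μ (Ft i))
    rwa [hFt])
  let α₀ : MvPolynomial (Fin m) R →+* C := ω.comp ((Ideal.Quotient.mk _).comp μ)
  have hα₀ : Function.Surjective α₀ := hω.2.comp (Ideal.Quotient.mk_surjective.comp hμ)
  have hker₀ : RingHom.ker α₀ = J.map MvPolynomial.C ⊔ Ideal.span (Set.range Ft) := by
    have hμk : RingHom.ker μ = J.map MvPolynomial.C := by rw [MvPolynomial.ker_map, Ideal.mk_ker]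
    refine le_antisymm (fun x hx => ?_) (sup_le (hμk.ge.trans fun x hx => ?_) (Ideal.span_le.mpr ?_))
    · rw [← hμk]
      refine mem_span_map μ hμ F x (Ideal.Quotient.eq_zero_iff_mem.mp ?_)
      exact hω.1 (by rw [map_zero]; exact RingHom.mem_ker.mp hx)
    · rw [RingHom.mem_ker]
      show ω (Ideal.Quotient.mk _ (μ x)) = 0
      rw [RingHom.mem_ker.mp hx, map_zero, map_zero]
    · rintro _ ⟨i, rfl⟩
      rw [SetLike.mem_coe, RingHom.mem_ker]
      show ω (Ideal.Quotient.mk _ (μ (Ft i))) = 0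
      rw [congrFun hFt i, Ideal.Quotient.eq_zero_iff_mem.mpr (Ideal.subset_span (Set.mem_range_self i)), map_zero]
  have hh₀ : h - 1 ∈ RingHom.ker α₀ := by
    have h1 : Ideal.Quotient.mk (Ideal.span (Set.range Ft)) h - 1 ∈
        J.map (algebraMap R (Synt.RelGCIRing R m c Ft)) := by
      rw [← Ideal.Quotient.eq, map_one]; exact hh
    rw [show algebraMap R (Synt.RelGCIRing R m c Ft) = (Ideal.Quotient.mk _).comp MvPolynomial.C from rfl,
      ← Ideal.map_map, ← map_one (Ideal.Quotient.mk (Ideal.span (Set.range Ft))), ← map_sub, ← Ideal.mem_comap,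
      Ideal.comap_map_of_surjective _ Ideal.Quotient.mk_surjective, ← RingHom.ker_eq_comap_bot, Ideal.mk_ker] at h1
    rw [hker₀]; exact h1
  let ρ : MvPolynomial (Fin m) R →ₐ[R] MvPolynomial (Fin (m + 1)) R := MvPolynomial.rename Fin.castSucc
  let α : MvPolynomial (Fin (m + 1)) R →+* C :=
    MvPolynomial.eval₂Hom (α₀.comp MvPolynomial.C) (Fin.lastCases 1 fun i => α₀ (MvPolynomial.X i))
  have hαρ : ∀ y, α (ρ y) = α₀ y := fun y => by
    have : α.comp ρ.toRingHom = α₀ := MvPolynomial.ringHom_ext (fun r => by simp [α, ρ]) fun i => by simp [α, ρ]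
    exact RingHom.congr_fun this y
  have hαX : α (MvPolynomial.X (Fin.last m)) = 1 := by simp [α]
  refine ⟨m + 1, c + 1, Groth.L07.Synt.awayRel Ft h, α, hrel, fun y => ?_, ?_, le_antisymm ?_ ?_⟩
  · obtain ⟨z, rfl⟩ := hα₀ y
    exact ⟨ρ z, hαρ z⟩
  · refine RingHom.ext fun r => ?_
    show α (MvPolynomial.C r) = ω (algebraMap _ _ (Ideal.Quotient.mk J r))
    rw [MvPolynomial.eval₂Hom_C]
    show ω (Ideal.Quotient.mk _ (μ (MvPolynomial.C r))) = _
    rw [show μ (MvPolynomial.C r) = MvPolynomial.C (Ideal.Quotient.mk J r) from MvPolynomial.map_C _ _]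
    rfl
  · let N : Ideal (MvPolynomial (Fin (m + 1)) R) :=
      J.map MvPolynomial.C ⊔ Ideal.span (Set.range (Groth.L07.Synt.awayRel Ft h))
    have hρN : ∀ y ∈ RingHom.ker α₀, ρ y ∈ N := by
      intro y hy
      rw [hker₀] at hy
      have := Ideal.mem_map_of_mem ρ.toRingHom hy
      rw [Ideal.map_sup, Ideal.map_map, Ideal.map_span] at this
      refine (sup_le ?_ ?_ : _ ≤ N) this
      · refine le_sup_of_le_left (le_of_eq (congrArg (Ideal.map · J) ?_))
        exact RingHom.ext fun r => by simp [ρ]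
      · refine le_sup_of_le_right (Ideal.span_le.mpr ?_)
        rintro _ ⟨_, ⟨i, rfl⟩, rfl⟩
        exact Ideal.subset_span ⟨i.castSucc, Groth.L07.Synt.awayRel_castSucc Ft h i⟩
    have hX : MvPolynomial.X (Fin.last m) - 1 ∈ N := by
      have h1 := hρN _ hh₀
      have h2 : Groth.L07.Synt.awayRel Ft h (Fin.last c) ∈ N := Submodule.mem_sup_right (Ideal.subset_span ⟨_, rfl⟩)
      rw [Groth.L07.Synt.awayRel_last] at h2
      have := sub_mem h2 (Ideal.mul_mem_right (MvPolynomial.X (Fin.last m)) _ h1)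
      rw [map_sub, map_one] at this
      convert this using 1
      simp only [ρ]; ring
    have hmod : ∀ x, ∃ y, x - ρ y ∈ N := fun x => by
      induction x using MvPolynomial.induction_on with
      | C r => exact ⟨MvPolynomial.C r, by simp [ρ]⟩
      | add a b ha hb =>
        obtain ⟨u, hu⟩ := ha
        obtain ⟨v, hv⟩ := hb
        exact ⟨u + v, by rw [map_add, add_sub_add_comm]; exact add_mem hu hv⟩
      | mul_X a i ha =>
        obtain ⟨u, hu⟩ := ha
        refine Fin.lastCases ⟨u, ?_⟩ (fun j => ⟨u * MvPolynomial.X j, ?_⟩) i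
        · rw [show a * MvPolynomial.X (Fin.last m) - ρ u =
            a * (MvPolynomial.X (Fin.last m) - 1) + (a - ρ u) by ring]
          exact add_mem (Ideal.mul_mem_left _ _ hX) hu
        · rw [map_mul, show ρ (MvPolynomial.X j) = MvPolynomial.X j.castSucc from MvPolynomial.rename_X _ _, ← sub_mul]
          exact Ideal.mul_mem_right _ _ hu
    intro x hx
    obtain ⟨y, hy⟩ := hmod x
    have hN : N ≤ RingHom.ker α := by
      refine sup_le (Ideal.map_le_iff_le_comap.mpr fun r hr => ?_) (Ideal.span_le.mpr ?_)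
      · rw [Ideal.mem_comap, RingHom.mem_ker, MvPolynomial.eval₂Hom_C]
        exact RingHom.mem_ker.mp (hker₀.ge (Submodule.mem_sup_left (Ideal.mem_map_of_mem _ hr)))
      · rintro _ ⟨i, rfl⟩
        rw [SetLike.mem_coe, RingHom.mem_ker]
        refine Fin.lastCases ?_ (fun j => ?_) i
        · rw [Groth.L07.Synt.awayRel_last, map_sub, map_mul, map_one, hαρ, hαX, mul_one,
            ← map_one α₀, ← map_sub]
          exact RingHom.mem_ker.mp hh₀
        · rw [Groth.L07.Synt.awayRel_castSucc, hαρ]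
          exact RingHom.mem_ker.mp (hker₀.ge (Submodule.mem_sup_right (Ideal.subset_span ⟨j, rfl⟩)))
    have h0 : α₀ y = 0 := by
      rw [← hαρ]
      have h3 := RingHom.mem_ker.mp (hN hy)
      rwa [map_sub, RingHom.mem_ker.mp hx, zero_sub, neg_eq_zero] at h3
    simpa using add_mem hy (hρN y h0)
  · refine sup_le (Ideal.map_le_iff_le_comap.mpr fun r hr => ?_) (Ideal.span_le.mpr ?_)
    · rw [Ideal.mem_comap, RingHom.mem_ker, MvPolynomial.eval₂Hom_C]
      exact RingHom.mem_ker.mp (hker₀.ge (Submodule.mem_sup_left (Ideal.mem_map_of_mem _ hr)))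
    · rintro _ ⟨i, rfl⟩
      rw [SetLike.mem_coe, RingHom.mem_ker]
      refine Fin.lastCases ?_ (fun j => ?_) i
      · rw [Groth.L07.Synt.awayRel_last, map_sub, map_mul, map_one, hαρ, hαX, mul_one, ← map_one α₀, ← map_sub]
        exact RingHom.mem_ker.mp hh₀
      · rw [Groth.L07.Synt.awayRel_castSucc, hαρ]
        exact RingHom.mem_ker.mp (hker₀.ge (Submodule.mem_sup_right (Ideal.subset_span ⟨j, rfl⟩)))

/-- Koszul morphisms descend along syntomic surjections on the source. -/
theorem isKoszulAt_of_syntomic_precomp {X' X Y : Scheme.{u}} (g : X' ⟶ X) (hg : CInt.IsCIMorphism g) [Surjective g]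
    (f : X ⟶ Y) (h : ∀ x', Synt.IsKoszulAt (g ≫ f) x') (x : X) : Synt.IsKoszulAt f x := by
  haveI : Flat g := hg.1
  haveI : LocallyOfFinitePresentation g := hg.2.1
  have hlft : LocallyOfFiniteType (g ≫ f) := by
    haveI : IsZariskiLocalAtSource @LocallyOfFiniteType.{u} :=
      HasRingHomProperty.instIsZariskiLocalAtSource (Q := RingHom.FiniteType)
    choose U₀ P i π hxU hft hi hπ e' using h
    exact IsZariskiLocalAtSource.of_iSup_eq_top (P := @LocallyOfFiniteType.{u}) U₀
      (top_le_iff.mp fun z _ => TopologicalSpace.Opens.mem_iSup.mpr ⟨z, hxU z⟩) hft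
  haveI : LocallyOfFiniteType f := Groth.L24.Alg.locallyOfFiniteType_of_fppf_comp g f hlft
  obtain ⟨x', rfl⟩ := g.surjective x
  obtain ⟨V, hV, hxV, -⟩ := exists_affine_nhd (f (g x')) ⊤ trivial
  obtain ⟨U, hU, hxU, hUV⟩ := exists_affine_nhd (g x') (f ⁻¹ᵁ V) hxV
  obtain ⟨n, π, hπ, hπC⟩ := exists_presentation _ (finiteType_appLE f hU hV hUV inferInstance)
  obtain ⟨W, hW, hxW, hWU⟩ := exists_affine_nhd x' (g ⁻¹ᵁ U) hxU
  let R := MvPolynomial (Fin n) Γ(Y, V)
  let J := RingHom.ker π
  let e := RingHom.quotientKerEquivOfSurjective hπ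
  letI algU : Algebra Γ(X, U) Γ(X', W) := (g.appLE U W hWU).hom.toAlgebra
  have hsU : Synt.IsSyntomic Γ(X, U) Γ(X', W) := Groth.L07.SyntScheme.isSyntomic_appLE hg hU hW hWU
  letI algJ : Algebra (R ⧸ J) Γ(X', W) := ((g.appLE U W hWU).hom.comp e.toRingHom).toAlgebra
  have hsW : Synt.IsSyntomic (R ⧸ J) Γ(X', W) := by
    refine Groth.L07.SyntBase.isSyntomic_ringEquiv e.symm (RingEquiv.refl _) (fun r => ?_) hsU
    show (g.appLE U W hWU).hom r = (g.appLE U W hWU).hom (e (e.symm r))
    rw [RingEquiv.apply_symm_apply]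
  let P := hW.primeIdealOf ⟨x', hxW⟩
  obtain ⟨hflat, hfp, -⟩ := id hsW
  haveI := hfp
  haveI := hflat
  haveI : Module.Flat (R ⧸ J) (Localization.AtPrime P.asIdeal) := Module.Flat.trans _ Γ(X', W) _
  obtain ⟨a, ha, m, c, F, hF, ⟨E⟩⟩ := Groth.L07.SyntAlg.exists_relGCI_nhd' P
    ((Groth.L07.SyntAlg.isSyntomic_iff.mp hsW).2 P)
  haveI := hW.isLocalization_basicOpen a
  let E₁ : Localization.Away a ≃ₐ[Γ(X', W)] Γ(X', X'.basicOpen a) := IsLocalization.algEquiv (Submonoid.powers a) _ _
  let ω : Synt.RelGCIRing (R ⧸ J) m c F →+* Γ(X', X'.basicOpen a) := E₁.toRingEquiv.toRingHom.comp E.symm.toRingEquiv.toRingHom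
  have hω : Function.Bijective ω := E₁.bijective.comp E.symm.bijective
  obtain ⟨m', c', F', α, hF', hα, hαC, hker⟩ := exists_chart_presentation J hF ω hω
  have hD := hW.basicOpen a
  have hDU : X'.basicOpen a ≤ g ⁻¹ᵁ U := (X'.basicOpen_le a).trans hWU
  have hDV : X'.basicOpen a ≤ (g ≫ f) ⁻¹ᵁ V := fun z hz => hUV (hDU hz)
  have hxD : x' ∈ X'.basicOpen a := by
    have hmem : P ∈ PrimeSpectrum.basicOpen a := ha
    rw [← IsAffineOpen.fromSpec_preimage_basicOpen hW a] at hmem
    have : hW.fromSpec P ∈ X'.basicOpen a := hmem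
    rwa [hW.fromSpec_primeIdealOf] at this
  have hRC : α.comp MvPolynomial.C = (g.appLE U (X'.basicOpen a) hDU).hom.comp π := by
    rw [hαC]
    refine RingHom.ext fun r => ?_
    show E₁ (E.symm (algebraMap (R ⧸ J) _ (Ideal.Quotient.mk J r))) = _
    rw [E.symm.commutes, IsScalarTower.algebraMap_apply (R ⧸ J) Γ(X', W) (Localization.Away a), E₁.commutes]
    show X'.presheaf.map (homOfLE (X'.basicOpen_le a)).op (g.appLE U W hWU (e (Ideal.Quotient.mk J r))) = _
    rw [show e (Ideal.Quotient.mk J r) = π r from rfl, ← ConcreteCategory.comp_apply, Scheme.Hom.appLE_map]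
    rfl
  have hαA : α.comp (MvPolynomial.C.comp MvPolynomial.C) = ((g ≫ f).appLE V (X'.basicOpen a) hDV).hom := by
    rw [← RingHom.comp_assoc, hRC, RingHom.comp_assoc, hπC, ← CommRingCat.hom_comp, Scheme.Hom.appLE_comp_appLE]
  have hreg := (isKoszulAt_iff (g ≫ f) hD hV hDV (MvPolynomial.C.comp MvPolynomial.C)
    ((smooth_C _ n).comp (smooth_C _ m')) α hα hαA x' hxD).mp (h x')
  rw [hker] at hreg
  have hfin := Groth.L07.KoszulIdeal.regAt_of_relGCI hF' J _ (hker ▸ ker_le_prime α _) hreg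
  rw [isKoszulAt_iff f hU hV hUV MvPolynomial.C (smooth_C _ n) π hπ hπC (g x') hxU]
  suffices hp : (((hD.primeIdealOf ⟨x', hxD⟩).asIdeal.comap α)).comap MvPolynomial.C =
      (hU.primeIdealOf ⟨g x', hxU⟩).asIdeal.comap π from hp ▸ hfin
  rw [Ideal.comap_comap, hRC, ← Ideal.comap_comap]
  exact congrArg (Ideal.comap π) (congrArg PrimeSpectrum.asIdeal
    (IsAffineOpen.comap_primeIdealOf_appLE (f := g) U hU (X'.basicOpen a) hD hDU hxD))

end Groth.L07.KoszulChart
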