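import Groth.Agent.L05.Kosz.Tor
import Groth.Agent.L07.KoszulBC
import Groth.Agent.L07.KoszulAppend
import Groth.Agent.L07.KoszulPerm
import Groth.Agent.L04.Koszul.AppendSpan
import Mathlib.LinearAlgebra.ExteriorPower.Basis

/-!
Tor of two quotients by partly overlapping Koszul-regular sequences.
-/

set_option autoImplicit false
set_option linter.style.haveILetI false
set_option maxSynthPendingDepth 3

universe u

open CategoryTheory CategoryTheory.Limits MonoidalCategory HomologicalComplex CohIII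
open Groth.L05.Kosz Groth.L04.Koszul

namespace Groth.L07.KoszulTorExt

variable {A : Type u} [CommRing A]

theorem nonempty_chainOf_homology (L : CochainComplex (ModuleCat.{u} A) ℤ) (h : IsZero (L.X 1)) (i : ℕ) :
    Nonempty ((chainOf L).homology i ≅ L.homology (-(i : ℤ))) := by
  cases i with
  | zero =>
    let T : ShortComplex (ModuleCat.{u} A) := (chainOf L).sc' 1 0 0
    let S : ShortComplex (ModuleCat.{u} A) := L.sc' (-((1 : ℕ) : ℤ)) (-((0 : ℕ) : ℤ)) 1
    have hT : T.g = 0 := (chainOf L).shape 0 0 (by simp)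
    let φ : S ⟶ T :=
      { τ₁ := 𝟙 _, τ₂ := 𝟙 _, τ₃ := 0
        comm₁₂ := by
          show 𝟙 _ ≫ (chainOf L).d 1 0 = L.d _ _ ≫ 𝟙 _
          rw [Category.id_comp, Category.comp_id, chainOf_d]
        comm₂₃ := by rw [hT, comp_zero, comp_zero] }
    haveI : Epi φ.τ₁ := inferInstanceAs (Epi (𝟙 _))
    haveI : IsIso φ.τ₂ := inferInstanceAs (IsIso (𝟙 _))
    haveI : Mono φ.τ₃ := ⟨fun a b _ => h.eq_of_tgt a b⟩
    haveI := ShortComplex.quasiIso_of_epi_of_isIso_of_mono φ
    have e : L.homology (-((0 : ℕ) : ℤ)) ≅ (chainOf L).homology 0 :=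
      L.homologyIsoSc' (-((1 : ℕ) : ℤ)) (-((0 : ℕ) : ℤ)) 1 (by simp) (by simp) ≪≫
        asIso (ShortComplex.homologyMap φ) ≪≫
        ((chainOf L).homologyIsoSc' 1 0 0 ((ComplexShape.down ℕ).prev_eq' rfl) (by simp)).symm
    exact ⟨e.symm⟩
  | succ j =>
    let φ : L.sc' (-((j + 2 : ℕ) : ℤ)) (-((j + 1 : ℕ) : ℤ)) (-(j : ℤ)) ≅ (chainOf L).sc' (j + 2) (j + 1) j :=
      ShortComplex.isoMk (Iso.refl _) (Iso.refl _) (Iso.refl _) (by
        show 𝟙 _ ≫ (chainOf L).d (j + 2) (j + 1) = L.d _ _ ≫ 𝟙 _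
        rw [chainOf_d]; exact (Category.id_comp _).trans (Category.comp_id _).symm) (by
        show 𝟙 _ ≫ (chainOf L).d (j + 1) j = L.d _ _ ≫ 𝟙 _
        rw [chainOf_d]; exact (Category.id_comp _).trans (Category.comp_id _).symm)
    have e : L.homology (-((j + 1 : ℕ) : ℤ)) ≅ (chainOf L).homology (j + 1) :=
      L.homologyIsoSc' (-((j + 2 : ℕ) : ℤ)) (-((j + 1 : ℕ) : ℤ)) (-(j : ℤ)) (by simp; omega) (by simp) ≪≫
        ShortComplex.homologyMapIso φ ≪≫
        ((chainOf L).homologyIsoSc' (j + 2) (j + 1) j ((ComplexShape.down ℕ).prev_eq' rfl)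
          ((ComplexShape.down ℕ).next_eq' rfl)).symm
    exact ⟨e.symm⟩

theorem nonempty_tor_iso (M : Type u) [AddCommGroup M] [Module A M] (fs : List A)
    (hreg : LCI.IsKoszulRegularSeq A fs) (i : ℕ) :
    Nonempty (DRing.Tor A i (A ⧸ Ideal.ofList fs) M ≃ₗ[A] H fs M (-(i : ℤ))) := by
  let K := koszulCx (ModuleCat.of A A) fs
  have h1 : IsZero (K.X 1) := Groth.L04.Koszul.isZero_X (ModuleCat.of A A) fs 1 (Or.inl one_pos)
  let e : K.homology (-((0 : ℕ) : ℤ)) ≅ ModuleCat.of A (A ⧸ Ideal.ofList fs) :=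
    eqToIso (congrArg (fun n : ℤ => K.homology n) (by simp)) ≪≫ (Groth.L04.Koszul.topEquiv (ModuleCat.of A A) fs).symm.toModuleIso ≪≫
      (Submodule.quotEquivOfEq (Ideal.ofList fs • (⊤ : Submodule A A)) (Ideal.ofList fs)
        (by rw [smul_eq_mul, Ideal.mul_top])).toModuleIso
  have hz : K.d (-((0 : ℕ) : ℤ)) 1 = 0 := h1.eq_of_tgt _ _
  let lift0 : K.X (-((0 : ℕ) : ℤ)) ⟶ K.cycles (-((0 : ℕ) : ℤ)) :=
    K.liftCycles (𝟙 _) 1 (by simp) (by rw [Category.id_comp]; exact hz)
  let ε : (chainOf K).X 0 ⟶ ModuleCat.of A (A ⧸ Ideal.ofList fs) :=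
    lift0 ≫ K.homologyπ (-((0 : ℕ) : ℤ)) ≫ e.hom
  have hε : ∀ x, ε x = e.hom (K.homologyπ (-((0 : ℕ) : ℤ)) (lift0 x)) := fun x => rfl
  have hlift : ∀ x, K.iCycles (-((0 : ℕ) : ℤ)) (lift0 x) = x := fun x => by
    have h := K.liftCycles_i (𝟙 (K.X (-((0 : ℕ) : ℤ)))) 1 (by simp) (by rw [Category.id_comp]; exact hz)
    exact congrArg (fun g => g x) h
  have hP : Groth.L28.Balance.IsRes (chainOf K) ε := by
    refine ⟨fun y => ?_, ?_, fun n => ?_, fun n => by haveI := free_X fs (-(n : ℤ)); exact (Module.Flat.of_free : Module.Flat A (K.X (-(n : ℤ))))⟩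
    · obtain ⟨z, hz'⟩ := Groth.L28.HomElt.exists_cycle_π (K := K) (e.inv y : K.homology (-((0 : ℕ) : ℤ)))
      refine ⟨K.iCycles _ z, ?_⟩
      rw [hε, Groth.L28.HomElt.iCycles_injective K _ (hlift (K.iCycles _ z)), hz']
      exact e.toLinearEquiv.apply_symm_apply y
    · intro x
      rw [chainOf_d]
      show e.toLinearEquiv (K.homologyπ (-((0 : ℕ) : ℤ)) (lift0 x)) = 0 ↔ _
      rw [e.toLinearEquiv.map_eq_zero_iff, Groth.L28.HomElt.π_eq_zero_iff (i := -((1 : ℕ) : ℤ)) (by simp) (lift0 x)]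
      simp only [hlift]
      exact Iff.rfl
    · rw [chainOf_d, chainOf_d]
      have hH : IsZero (K.homology (-((n + 1 : ℕ) : ℤ))) :=
        Groth.L07.KoszulBC.isZero_of_isKoszulRegularSeq fs hreg _ (by omega)
      intro x
      refine ⟨(Groth.L28.HomElt.exactAt_iff (i := -((n + 2 : ℕ) : ℤ)) (k := -(n : ℤ)) (by simp; omega) (by simp)).mp ((K.exactAt_iff_isZero_homology _).mpr hH) x, ?_⟩
      rintro ⟨y, rfl⟩
      exact congrArg (fun g => g y) (K.d_comp_d (-((n + 2 : ℕ) : ℤ)) (-((n + 1 : ℕ) : ℤ)) (-(n : ℤ)))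
  obtain ⟨e₁⟩ := Groth.L28.TorFacts.nonempty_iso_left (N := ModuleCat.of A M) (chainOf K) ε hP i
  let L := ((tensorRight (ModuleCat.of A M)).mapHomologicalComplex (ComplexShape.up ℤ)).obj K
  have hL1 : IsZero (L.X 1) := (tensorRight (ModuleCat.of A M)).map_isZero h1
  let e₂ : ((tensorRight (ModuleCat.of A M)).mapHomologicalComplex (ComplexShape.down ℕ)).obj (chainOf K) ≅ chainOf L :=
    HomologicalComplex.Hom.isoOfComponents (fun j => Iso.refl _) (by
      rintro _ j (rfl : j + 1 = _)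
      show 𝟙 _ ≫ (chainOf L).d (j + 1) j = (tensorRight (ModuleCat.of A M)).map ((chainOf K).d (j + 1) j) ≫ 𝟙 _
      rw [Category.id_comp, Category.comp_id, chainOf_d, chainOf_d]
      rfl)
  obtain ⟨e₃⟩ := nonempty_chainOf_homology L hL1 i
  let e₄ : L ≅ koszulCx (ModuleCat.of A M) fs :=
    ((tensorRight (ModuleCat.of A M)).mapHomologicalComplex (ComplexShape.up ℤ)).mapIso
      (eqToIso (Groth.L04.Koszul.koszul_eq (A := A) fs)).symm ≪≫ tensorIso (ModuleCat.of A M) fs
  exact ⟨(e₁ ≪≫ (HomologicalComplex.homologyFunctor _ _ i).mapIso e₂ ≪≫ e₃ ≪≫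
    (HomologicalComplex.homologyFunctor _ _ (-(i : ℤ))).mapIso e₄).toLinearEquiv⟩

theorem nonempty_fun_sum (a b c : ℕ) (h : a + b = c) (T : Type u) [AddCommGroup T] [Module A T] :
    Nonempty (((Fin a → T) × (Fin b → T)) ≃ₗ[A] (Fin c → T)) :=
  ⟨(LinearEquiv.sumArrowLequivProdArrow (Fin a) (Fin b) A T).symm ≪≫ₗ
    LinearEquiv.funCongrLeft A T ((finCongr h.symm).trans finSumFinEquiv.symm)⟩

/-- Prepending elements that kill the module. -/
theorem nonempty_H_annihilated (M : Type u) [AddCommGroup M] [Module A M] (xs : List A)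
    (hx : ∀ n : ℤ, n < 0 → Subsingleton (H xs M n)) :
    ∀ (ys : List A), (∀ y ∈ ys, ∀ m : M, y • m = 0) → ∀ i : ℕ,
      Nonempty (H (ys ++ xs) M (-(i : ℤ)) ≃ₗ[A] (Fin (ys.length.choose i) → H xs M 0)) := by
  intro ys
  induction ys with
  | nil =>
    intro _ i
    cases i with
    | zero =>
      haveI : Unique (Fin (([] : List A).length.choose 0)) := by rw [Nat.choose_zero_right]; infer_instance
      exact ⟨(eqToIso (congrArg (fun n : ℤ => (koszulCx (ModuleCat.of A M) xs).homology n)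
        (show (-((0 : ℕ) : ℤ)) = 0 by simp))).toLinearEquiv ≪≫ₗ (LinearEquiv.funUnique (Fin (([] : List A).length.choose 0)) A _).symm⟩
    | succ i =>
      haveI : IsEmpty (Fin (([] : List A).length.choose (i + 1))) := by
        rw [List.length_nil, Nat.choose_zero_succ]; infer_instance
      haveI : Subsingleton (H (([] : List A) ++ xs) M (-((i + 1 : ℕ) : ℤ))) := hx _ (by omega)
      exact ⟨{ toFun := fun _ => 0, invFun := fun _ => 0, map_add' := fun _ _ => Subsingleton.elim _ _,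
               map_smul' := fun _ _ => Subsingleton.elim _ _, left_inv := fun _ => Subsingleton.elim _ _,
               right_inv := fun _ => Subsingleton.elim _ _ }⟩
  | cons y ys ih =>
    intro hy i
    have h0 : stepHom (ModuleCat.of A M) y (ys ++ xs) = 0 := by
      show y • 𝟙 (koszulCx (ModuleCat.of A M) (ys ++ xs)) = 0
      rw [← kmap_smul_id, show y • 𝟙 (ModuleCat.of A M) = 0 from
        ModuleCat.hom_ext (LinearMap.ext fun m => hy y List.mem_cons_self m), kmap_zero]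
    have ih := ih fun z hz => hy z (List.mem_cons_of_mem _ hz)
    obtain ⟨e⟩ := nonempty_cone_homology_split (stepHom (ModuleCat.of A M) y (ys ++ xs))
      (Homotopy.ofEq h0) (-(i : ℤ)) (-(i : ℤ) + 1) rfl
    obtain ⟨e₁⟩ := ih i
    cases i with
    | zero =>
      haveI : Subsingleton ((koszulCx (ModuleCat.of A M) (ys ++ xs)).homology (-((0 : ℕ) : ℤ) + 1)) :=
        subsingleton_homology_of_out _ _ _ (Or.inl (by norm_num))
      letI : Unique (H (ys ++ xs) M (-((0 : ℕ) : ℤ) + 1)) := @uniqueOfSubsingleton _ ‹_› 0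
      exact ⟨e ≪≫ₗ (LinearEquiv.prodUnique (M₂ := H (ys ++ xs) M (-((0 : ℕ) : ℤ) + 1))) ≪≫ₗ e₁ ≪≫ₗ
        LinearEquiv.funCongrLeft A _ (finCongr (by rw [Nat.choose_zero_right, Nat.choose_zero_right]))⟩
    | succ i =>
      obtain ⟨e₂⟩ := ih i
      obtain ⟨e₃⟩ := nonempty_fun_sum (A := A) (ys.length.choose (i + 1)) (ys.length.choose i)
        ((y :: ys).length.choose (i + 1)) (by rw [List.length_cons, Nat.choose_succ_succ', Nat.add_comm]) (H xs M 0)
      exact ⟨e ≪≫ₗ e₁.prodCongr ((eqToIso (congrArg (fun n : ℤ => (koszulCx (ModuleCat.of A M) (ys ++ xs)).homology n)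
        (show (-((i + 1 : ℕ) : ℤ) + 1) = -(i : ℤ) by push_cast; ring))).toLinearEquiv ≪≫ₗ e₂) ≪≫ₗ e₃⟩

/-- Exterior powers of a free module over a quotient ring, taken over the base. -/
theorem nonempty_exterior (K : Ideal A) (r i : ℕ) (hi : 1 ≤ i) :
    Nonempty (↥(⋀[A]^i (Fin r → A ⧸ K)) ≃ₗ[A] (Fin (r.choose i) → A ⧸ K)) := by
  classical
  let N := Fin r → A ⧸ K
  let b := (Pi.basisFun A (Fin r)).exteriorPower i
  let bB := (Pi.basisFun (A ⧸ K) (Fin r)).exteriorPower i
  let π : (Fin r → A) →ₗ[A] N := (Submodule.mkQ K).compLeft (Fin r)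
  have hπ : Function.Surjective π := fun v => by
    choose w hw using fun j => Submodule.mkQ_surjective K (v j)
    exact ⟨w, funext hw⟩
  let p : ↥(⋀[A]^i (Fin r → A)) →ₗ[A] ↥(⋀[A]^i N) := exteriorPower.map i π
  have hp : Function.Surjective p := exteriorPower.map_surjective hπ
  have hkill : ∀ a ∈ K, ∀ x : ↥(⋀[A]^i N), a • x = 0 := by
    intro a ha
    suffices LinearMap.lsmul A ↥(⋀[A]^i N) a = 0 from fun x => LinearMap.congr_fun this x
    refine exteriorPower.linearMap_ext (AlternatingMap.ext fun v => ?_)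
    show a • exteriorPower.ιMulti A i v = 0
    let j : Fin i := ⟨0, hi⟩
    rw [← Function.update_eq_self j v, ← AlternatingMap.map_update_smul,
      show a • v j = 0 from funext fun s => by
        obtain ⟨c, hc⟩ := Submodule.mkQ_surjective K (v j s)
        rw [Pi.smul_apply, ← hc, ← map_smul, Submodule.mkQ_apply, Pi.zero_apply, Submodule.Quotient.mk_eq_zero]
        exact K.mul_mem_right c ha, AlternatingMap.map_update_zero]
  let F : N [⋀^Fin i]→ₗ[A] ↥(⋀[A ⧸ K]^i N) :=
    { toMultilinearMap := (exteriorPower.ιMulti (A ⧸ K) i).toMultilinearMap.restrictScalars A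
      map_eq_zero_of_eq' := fun v s t h hst => (exteriorPower.ιMulti (A ⧸ K) i).map_eq_zero_of_eq v h hst }
  let Ψ := exteriorPower.alternatingMapLinearEquiv F
  have hbas : ∀ s, Ψ (p (b s)) = bB s := by
    intro s
    simp only [b, bB, exteriorPower.basis_apply, exteriorPower.ιMulti_family, p,
      exteriorPower.map_apply_ιMulti, Ψ, exteriorPower.alternatingMapLinearEquiv_apply_ιMulti]
    show exteriorPower.ιMulti (A ⧸ K) i _ = _
    congr 1
    funext t
    refine funext fun j => ?_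
    simp only [π, Function.comp_apply, Pi.basisFun_apply]
    show Submodule.mkQ K ((Pi.single _ (1 : A) : Fin r → A) j) = _
    rw [Pi.single_apply, Pi.single_apply]
    split_ifs
    · rfl
    · exact map_zero _
  let Θ : (Set.powersetCard (Fin r) i → A ⧸ K) →ₗ[A] ↥(⋀[A ⧸ K]^i N) :=
    bB.equivFun.symm.toLinearMap.restrictScalars A
  have hΨp : ∀ x, Ψ (p x) = Θ fun s => Submodule.mkQ K (b.repr x s) := by
    intro x
    conv_lhs => rw [← b.sum_repr x]
    simp only [map_sum, map_smul, hbas, Θ]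
    show _ = bB.equivFun.symm _
    rw [Module.Basis.equivFun_symm_apply]
    exact Finset.sum_congr rfl fun s _ => (algebraMap_smul (A ⧸ K) (b.repr x s) (bB s)).symm
  have hbij : Function.Bijective Ψ := by
    refine ⟨(injective_iff_map_eq_zero _).2 fun z hz => ?_, fun z => ?_⟩
    · obtain ⟨x, rfl⟩ := hp z
      rw [hΨp] at hz
      have h1 : (fun s => Submodule.mkQ K (b.repr x s)) = 0 :=
        bB.equivFun.symm.injective (hz.trans (map_zero _).symm)
      rw [← b.sum_repr x, map_sum]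
      refine Finset.sum_eq_zero fun s _ => ?_
      rw [map_smul]
      exact hkill _ ((Submodule.Quotient.mk_eq_zero K).1 (congrFun h1 s)) _
    · choose c hc using fun s => Submodule.mkQ_surjective K (bB.equivFun z s)
      refine ⟨p (b.equivFun.symm c), (hΨp _).trans ?_⟩
      show bB.equivFun.symm _ = z
      rw [LinearEquiv.symm_apply_eq]
      funext s
      rw [← hc s]
      congr 1
      exact congrFun (b.equivFun.apply_symm_apply c) s
  exact ⟨LinearEquiv.ofBijective Ψ hbij ≪≫ₗ bB.equivFun.restrictScalars A ≪≫ₗ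
    LinearEquiv.funCongrLeft A _ (Finite.equivFinOfCardEq (by
      rw [Set.powersetCard.card, Nat.card_fin])).symm⟩

end Groth.L07.KoszulTorExt
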