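import Groth.Agent.L07.QuasiRegular
import Groth.Agent.S11950
import Groth.Agent.L02.Flat
import Mathlib.RingTheory.Flat.Equalizer

/-! Flatness of the powers of a quasi-regular ideal. -/

namespace Groth.L07.QuasiRegular

open MvPolynomial Groth.L07.QReg

set_option linter.style.haveILetI false

universe u

variable {A B : Type u} [CommRing A] [CommRing B] [Algebra A B]

theorem exists_grEquiv {c : ℕ} (f : Fin c → B) (hf : CAlgX.IsQuasiRegular f) (n : ℕ) :
    Nonempty ((({d : Fin c →₀ ℕ // Finsupp.weight (1 : Fin c → ℕ) d = n}) →₀ B ⧸ Ideal.span (Set.range f)) ≃ₗ[B]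
      (↥(Ideal.span (Set.range f) ^ n) ⧸
        Submodule.comap (Ideal.span (Set.range f) ^ n).subtype (Ideal.span (Set.range f) ^ (n + 1)))) := by
  classical
  set J := Ideal.span (Set.range f)
  set σ := {d : Fin c →₀ ℕ // Finsupp.weight (1 : Fin c → ℕ) d = n}
  have hgen : ∀ d : σ, eval f (monomial d.1 (1 : B)) ∈ J ^ n := fun d =>
    eval_mem_span_pow f (isHomogeneous_monomial 1 (by rw [Finsupp.degree_eq_weight_one]; exact d.2))
  let S := Submodule.comap (J ^ n).subtype (J ^ (n + 1))
  let Ψ : (σ →₀ B) →ₗ[B] ↥(J ^ n) := Finsupp.linearCombination B fun d => ⟨_, hgen d⟩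
  let Φ : (σ →₀ B) →ₗ[B] ↥(J ^ n) ⧸ S := S.mkQ ∘ₗ Ψ
  have hΨ : ∀ v : σ →₀ B, (Ψ v : B) = eval f (∑ d ∈ v.support, monomial d.1 (v d)) := fun v => by
    rw [map_sum]
    simp only [Ψ, Finsupp.linearCombination_apply, Finsupp.sum, AddSubmonoidClass.coe_finsetSum]
    refine Finset.sum_congr rfl fun d _ => ?_
    show v d * eval f (monomial d.1 (1 : B)) = _
    rw [eval_monomial, eval_monomial, one_mul]
  have hker : ∀ v, Φ v = 0 ↔ ∀ d, v d ∈ J := by
    intro v
    show S.mkQ (Ψ v) = 0 ↔ _
    rw [Submodule.mkQ_apply, Submodule.Quotient.mk_eq_zero]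
    show (Ψ v : B) ∈ J ^ (n + 1) ↔ _
    rw [hΨ]
    constructor
    · intro h d
      have := hf n _ (IsHomogeneous.sum _ _ n fun d _ => isHomogeneous_monomial (v d)
        (by rw [Finsupp.degree_eq_weight_one]; exact d.2)) h d.1
      rw [coeff_sum] at this
      simp only [coeff_monomial, Subtype.val_inj] at this
      by_cases hd : v d = 0
      · rw [hd]; exact zero_mem _
      · rwa [Finset.sum_eq_single d (fun x _ hx => if_neg hx) (fun h' => absurd (Finsupp.mem_support_iff.mpr hd) h'),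
          if_pos rfl] at this
    · intro h
      rw [map_sum, pow_succ']
      refine sum_mem fun d _ => ?_
      rw [eval_monomial]
      refine Ideal.mul_mem_mul (h d) ?_
      have := hgen d
      rwa [eval_monomial, one_mul] at this
  have hsurj : Function.Surjective Φ := by
    intro q
    obtain ⟨x, rfl⟩ := S.mkQ_surjective q
    obtain ⟨P, hP, hx⟩ := exists_homogeneous_of_mem_span_pow f n x.2
    refine ⟨∑ d ∈ P.support.attach, Finsupp.single
      (⟨d.1, hP (mem_support_iff.mp d.2)⟩ : σ) (P.coeff d.1), ?_⟩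
    show S.mkQ (Ψ _) = S.mkQ x
    congr 1
    refine Subtype.ext ?_
    rw [← hx, map_sum, AddSubmonoidClass.coe_finsetSum, eval_eq, ← Finset.sum_attach P.support]
    refine Finset.sum_congr rfl fun d _ => ?_
    simp only [Ψ, Finsupp.linearCombination_single]
    show P.coeff d.1 * eval f (monomial d.1 (1 : B)) = _
    rw [eval_monomial, one_mul]
    rfl
  let π : (σ →₀ B) →ₗ[B] (σ →₀ B ⧸ J) := Finsupp.mapRange.linearMap (Submodule.mkQ J)
  have hπ : Function.Surjective π := Finsupp.mapRange_surjective _ (map_zero _) (Submodule.mkQ_surjective J)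
  have hk : LinearMap.ker π = LinearMap.ker Φ := by
    ext v
    rw [LinearMap.mem_ker, LinearMap.mem_ker, hker, Finsupp.ext_iff]
    exact forall_congr' fun d => (Ideal.Quotient.eq_zero_iff_mem (I := J) (a := v d))
  exact ⟨(π.quotKerEquivOfSurjective hπ).symm ≪≫ₗ Submodule.quotEquivOfEq _ _ hk ≪≫ₗ
    Φ.quotKerEquivOfSurjective hsurj⟩

theorem flat_pow_quot {c : ℕ} (f : Fin c → B) (hf : CAlgX.IsQuasiRegular f)
    (hflat : Module.Flat A (B ⧸ Ideal.span (Set.range f))) (n : ℕ) :
    ∀ m, n ≤ m → Module.Flat A (↥(Ideal.span (Set.range f) ^ n) ⧸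
      Submodule.comap (Ideal.span (Set.range f) ^ n).subtype (Ideal.span (Set.range f) ^ m)) := by
  classical
  set J := Ideal.span (Set.range f)
  intro m hm
  induction m, hm using Nat.le_induction with
  | base =>
    haveI : Subsingleton (↥(J ^ n) ⧸ Submodule.comap (J ^ n).subtype (J ^ n)) :=
      Submodule.Quotient.subsingleton_iff.mpr (eq_top_iff.mpr fun x _ => x.2)
    infer_instance
  | succ m hm ih =>
    have hle : J ^ m ≤ J ^ n := Ideal.pow_le_pow_right hm
    have h1 : Submodule.comap (J ^ n).subtype (J ^ (m + 1)) ≤ Submodule.comap (J ^ n).subtype (J ^ m) :=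
      Submodule.comap_mono (Ideal.pow_le_pow_right m.le_succ)
    let g : (↥(J ^ n) ⧸ Submodule.comap (J ^ n).subtype (J ^ (m + 1))) →ₗ[A]
        ↥(J ^ n) ⧸ Submodule.comap (J ^ n).subtype (J ^ m) := (Submodule.factor h1).restrictScalars A
    let f' : (↥(J ^ m) ⧸ Submodule.comap (J ^ m).subtype (J ^ (m + 1))) →ₗ[A]
        ↥(J ^ n) ⧸ Submodule.comap (J ^ n).subtype (J ^ (m + 1)) :=
      (Submodule.mapQ (Submodule.comap (J ^ m).subtype (J ^ (m + 1)))
        (Submodule.comap (J ^ n).subtype (J ^ (m + 1))) (Submodule.inclusion hle)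
        (show ∀ x : ↥(J ^ m), (x : B) ∈ J ^ (m + 1) → ((Submodule.inclusion hle x : ↥(J ^ n)) : B) ∈ J ^ (m + 1)
          from fun x hx => hx)).restrictScalars A
    obtain ⟨e⟩ := exists_grEquiv f hf m
    haveI := hflat
    haveI : Module.Flat A ({d : Fin c →₀ ℕ // Finsupp.weight (1 : Fin c → ℕ) d = m} →₀ B ⧸ J) :=
      Module.Flat.of_linearEquiv (finsuppLEquivDirectSum A (B ⧸ J) _)
    haveI := Module.Flat.of_linearEquiv (e.restrictScalars A).symm
    haveI := ih
    refine Groth.Agent.S11950.flat_of_extension f' g ?_ ?_ (Submodule.factor_surjective h1)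
    · rw [injective_iff_map_eq_zero]
      intro q hq
      obtain ⟨x, rfl⟩ := Submodule.mkQ_surjective _ q
      change Submodule.Quotient.mk (Submodule.inclusion hle x) = 0 at hq
      rw [Submodule.Quotient.mk_eq_zero] at hq
      exact (Submodule.Quotient.mk_eq_zero _).mpr hq
    · intro q
      obtain ⟨x, rfl⟩ := Submodule.mkQ_surjective _ q
      show Submodule.Quotient.mk x = 0 ↔ _
      rw [Submodule.Quotient.mk_eq_zero]
      constructor
      · intro hx
        exact ⟨Submodule.Quotient.mk ⟨x.1, hx⟩, rfl⟩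
      · rintro ⟨y, hy⟩
        obtain ⟨w, rfl⟩ := Submodule.mkQ_surjective _ y
        change Submodule.Quotient.mk (Submodule.inclusion hle w) = Submodule.Quotient.mk x at hy
        rw [Submodule.Quotient.eq] at hy
        have h2 : (w : B) - x ∈ J ^ (m + 1) := hy
        show (x : B) ∈ J ^ m
        have := sub_mem w.2 (Ideal.pow_le_pow_right m.le_succ h2)
        simpa using this

theorem flat_pow {c : ℕ} (f : Fin c → B) (hf : CAlgX.IsQuasiRegular f)
    (hflat : Module.Flat A (B ⧸ Ideal.span (Set.range f))) [Module.Flat A B] (n : ℕ) :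
    Module.Flat A ↥(Ideal.span (Set.range f) ^ n) := by
  set J := Ideal.span (Set.range f)
  let g : B →ₗ[A] B ⧸ J ^ n := (Submodule.mkQ (J ^ n)).restrictScalars A
  haveI hq : Module.Flat A (B ⧸ J ^ n) := by
    haveI := flat_pow_quot (A := A) f hf hflat 0 n (Nat.zero_le n)
    have h0 : J ^ 0 = (⊤ : Ideal B) := by rw [pow_zero, Ideal.one_eq_top]
    let p : ↥(J ^ 0) →ₗ[B] B ⧸ J ^ n := (Submodule.mkQ (J ^ n)) ∘ₗ (J ^ 0).subtype
    have hp : Function.Surjective p := fun q => by
      obtain ⟨b, rfl⟩ := Submodule.mkQ_surjective _ q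
      exact ⟨⟨b, h0 ▸ Submodule.mem_top⟩, rfl⟩
    have hk : LinearMap.ker p = Submodule.comap (J ^ 0).subtype (J ^ n) := by
      rw [LinearMap.ker_comp, Submodule.ker_mkQ]
    exact Module.Flat.of_linearEquiv
      ((Submodule.quotEquivOfEq _ _ hk.symm ≪≫ₗ p.quotKerEquivOfSurjective hp).restrictScalars A).symm
  let ι : ↥(J ^ n) →ₗ[A] B := (J ^ n).subtype.restrictScalars A
  have hex : Function.Exact ι g := fun x => by
    show Submodule.mkQ (J ^ n) x = 0 ↔ _
    rw [Submodule.mkQ_apply, Submodule.Quotient.mk_eq_zero]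
    exact ⟨fun h => ⟨⟨x, h⟩, rfl⟩, fun ⟨w, hw⟩ => hw ▸ w.2⟩
  exact Groth.L02.flat_of_universallyInjective ι
    (Groth.L02.universallyInjective_of_flat_coker ι g Subtype.val_injective hex (Submodule.mkQ_surjective _))

end Groth.L07.QuasiRegular
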