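import Groth.Agent.L05.Kosz.Tor
import Groth.Agent.L07.KoszulBC
import Groth.Agent.L07.KoszulFlat
import Groth.Agent.L07.QuasiRegularFlat
import Groth.Agent.L14.RegImmStalk.Kinds
import Groth.Agent.L19.Thick.H1Reg
import Groth.Agent.L02.TorFlip
import Groth.Agent.L02.CAlg.Tor.Vanish

/-!
Tor vanishing for the powers of an ideal generated by a sequence that stays Koszul-regular after base change.
-/

set_option autoImplicit false
set_option linter.style.haveILetI false
set_option maxSynthPendingDepth 3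

universe u

open CategoryTheory CategoryTheory.Limits MonoidalCategory HomologicalComplex CohIII
open Groth.L05.Kosz L02.CAlg.TorV
open Groth.L28.Kun (Z cl cl_surjective cl_eq_zero_iff)

namespace Groth.L07.KoszulTorPow

variable {A : Type u} [CommRing A]

theorem length_tor_koszul (M : Type u) [AddCommGroup M] [Module A M] (fs : List A)
    (hreg : LCI.IsKoszulRegularSeq A fs) (i : ℕ) :
    Module.length A (DRing.Tor A i (A ⧸ Ideal.ofList fs) M) = Module.length A (H fs M (-(i : ℤ))) := by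
  let K := koszulCx (ModuleCat.of A A) fs
  have h1 : IsZero (K.X 1) := Groth.L04.Koszul.isZero_X (ModuleCat.of A A) fs 1 (Or.inl one_pos)
  let e : K.homology (-((0 : ℕ) : ℤ)) ≅ ModuleCat.of A (A ⧸ Ideal.ofList fs) :=
    eqToIso (congrArg (fun n : ℤ => K.homology n) (by simp)) ≪≫ (Groth.L04.Koszul.topEquiv (ModuleCat.of A A) fs).symm.toModuleIso ≪≫
      (Submodule.quotEquivOfEq (Ideal.ofList fs • (⊤ : Submodule A A)) (Ideal.ofList fs)
        (by rw [smul_eq_mul, Ideal.mul_top])).toModuleIso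
  have hz : K.d (-((0 : ℕ) : ℤ)) 1 = 0 := h1.eq_of_tgt _ _
  let lift0 : K.X (-((0 : ℕ) : ℤ)) ⟶ K.cycles (-((0 : ℕ) : ℤ)) :=
    K.liftCycles (𝟙 _) 1 (by simp) (by rw [Category.id_comp]; exact hz)
  let ε : (chainOf K).X 0 ⟶ ModuleCat.of A (A ⧸ Ideal.ofList fs) :=
    lift0 ≫ K.homologyπ (-((0 : ℕ) : ℤ)) ≫ e.hom
  have hε : ∀ x, ε x = e.hom (K.homologyπ (-((0 : ℕ) : ℤ)) (lift0 x)) := fun x => rfl
  have hlift : ∀ x, K.iCycles (-((0 : ℕ) : ℤ)) (lift0 x) = x := fun x => by
    have h := K.liftCycles_i (𝟙 (K.X (-((0 : ℕ) : ℤ)))) 1 (by simp) (by rw [Category.id_comp]; exact hz)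
    exact congrArg (fun g => g x) h
  have hP : Groth.L28.Balance.IsRes (chainOf K) ε := by
    refine ⟨fun y => ?_, ?_, fun n => ?_, fun n => by haveI := free_X fs (-(n : ℤ)); exact (Module.Flat.of_free : Module.Flat A (K.X (-(n : ℤ))))⟩
    · obtain ⟨z, hz'⟩ := Groth.L28.HomElt.exists_cycle_π (K := K) (e.inv y : K.homology (-((0 : ℕ) : ℤ)))
      refine ⟨K.iCycles _ z, ?_⟩
      rw [hε, Groth.L28.HomElt.iCycles_injective K _ (hlift (K.iCycles _ z)), hz']
      exact e.toLinearEquiv.apply_symm_apply y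
    · intro x
      rw [chainOf_d]
      show e.toLinearEquiv (K.homologyπ (-((0 : ℕ) : ℤ)) (lift0 x)) = 0 ↔ _
      rw [e.toLinearEquiv.map_eq_zero_iff, Groth.L28.HomElt.π_eq_zero_iff (i := -((1 : ℕ) : ℤ)) (by simp) (lift0 x)]
      simp only [hlift]
      exact Iff.rfl
    · rw [chainOf_d, chainOf_d]
      have hH : IsZero (K.homology (-((n + 1 : ℕ) : ℤ))) :=
        Groth.L07.KoszulBC.isZero_of_isKoszulRegularSeq fs hreg _ (by omega)
      intro x
      refine ⟨(Groth.L28.HomElt.exactAt_iff (i := -((n + 2 : ℕ) : ℤ)) (k := -(n : ℤ)) (by simp; omega) (by simp)).mp ((K.exactAt_iff_isZero_homology _).mpr hH) x, ?_⟩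
      rintro ⟨y, rfl⟩
      exact congrArg (fun g => g y) (K.d_comp_d (-((n + 2 : ℕ) : ℤ)) (-((n + 1 : ℕ) : ℤ)) (-(n : ℤ)))
  obtain ⟨e₁⟩ := Groth.L28.TorFacts.nonempty_iso_left (N := ModuleCat.of A M) (chainOf K) ε hP i
  let L := ((tensorRight (ModuleCat.of A M)).mapHomologicalComplex (ComplexShape.up ℤ)).obj K
  have hL1 : IsZero (L.X 1) := (tensorRight (ModuleCat.of A M)).map_isZero h1
  let e₂ : ((tensorRight (ModuleCat.of A M)).mapHomologicalComplex (ComplexShape.down ℕ)).obj (chainOf K) ≅ chainOf L :=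
    HomologicalComplex.Hom.isoOfComponents (fun j => Iso.refl _) (by
      rintro _ j (rfl : j + 1 = _)
      show 𝟙 _ ≫ (chainOf L).d (j + 1) j = (tensorRight (ModuleCat.of A M)).map ((chainOf K).d (j + 1) j) ≫ 𝟙 _
      rw [Category.id_comp, Category.comp_id, chainOf_d, chainOf_d]
      rfl)
  have h2 := (e₁ ≪≫ (HomologicalComplex.homologyFunctor _ _ i).mapIso e₂).toLinearEquiv.length_eq
  refine (h2.trans (length_chainOf L hL1 i)).trans ?_
  have hk := Groth.L04.Koszul.koszul_eq (A := A) fs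
  show Module.length A ((((tensorRight (ModuleCat.of A M)).mapHomologicalComplex (ComplexShape.up ℤ)).obj
    (koszulCx (ModuleCat.of A A) fs)).homology _) = _
  rw [← hk]
  exact length_tensor M fs _

variable (A' : Type u) [CommRing A'] [Algebra A A']

/-- Koszul cohomology of an algebra, computed over the base ring. -/
theorem subsingleton_H (fs : List A) (h : LCI.IsKoszulRegularSeq A' (fs.map (algebraMap A A'))) (n : ℤ) (hn : n ≠ 0) :
    Subsingleton (H fs A' n) := by
  obtain ⟨E, -, hd⟩ := Groth.L07.KoszulBC.exists_cxEquiv (algebraMap A A') (ModuleCat.of A A') (ModuleCat.of A' A')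
    (AddEquiv.refl A') (fun a x => Algebra.smul_def a x) fs
  haveI := ModuleCat.isZero_iff_subsingleton.1 (Groth.L07.KoszulBC.isZero_of_isKoszulRegularSeq _ h n hn)
  obtain ⟨i, rfl⟩ : ∃ i, n = i + 1 := ⟨n - 1, (sub_add_cancel n 1).symm⟩
  refine subsingleton_of_forall_eq 0 fun c => ?_
  obtain ⟨z, rfl⟩ := cl_surjective _ _ c
  have hz : E (i + 1) z.1 ∈ Z (koszulCx (ModuleCat.of A' A') (fs.map (algebraMap A A'))) (i + 1) := by
    show (koszulCx (ModuleCat.of A' A') (fs.map (algebraMap A A'))).d (i + 1) (i + 1 + 1) (E (i + 1) z.1) = 0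
    rw [hd, show (koszulCx (ModuleCat.of A A') fs).d (i + 1) (i + 1 + 1) z.1 = 0 from z.2, map_zero]
  obtain ⟨y, hy⟩ := (cl_eq_zero_iff _ (m := i) rfl ⟨_, hz⟩).mp (Subsingleton.elim _ _)
  rw [cl_eq_zero_iff _ (m := i) rfl]
  exact ⟨(E i).symm y, (E (i + 1)).injective (by rw [← hd, AddEquiv.apply_symm_apply]; exact hy)⟩

variable {A'} {fs : List A} (hfs : LCI.IsKoszulRegularSeq A fs)
  (hfs' : LCI.IsKoszulRegularSeq A' (fs.map (algebraMap A A')))
include hfs hfs'

theorem van_quot (i : ℕ) : Van A A' (A ⧸ Ideal.ofList fs) i := by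
  refine (isZero_tor_iff A' _ i).1 (IsZero.of_iso ?_ (Groth.L02.TorFlip.flipIso (i + 1) _ _))
  refine ModuleCat.isZero_iff_subsingleton.2 (Module.length_eq_zero_iff.1
    ((length_tor_koszul A' fs hfs (i + 1)).trans (Module.length_eq_zero_iff.2 ?_)))
  exact subsingleton_H A' fs hfs' _ (by omega)

theorem van_gr (n i : ℕ) : Van A A' (↥(Ideal.ofList fs ^ n) ⧸
    Submodule.comap (Ideal.ofList fs ^ n).subtype (Ideal.ofList fs ^ (n + 1))) i := by
  have hq := Groth.L14.RegImmStalk.isQuasiRegular_of_h1 (Groth.L19.Thick.isH1Regular_of_koszul hfs)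
  obtain ⟨e⟩ := Groth.L07.QuasiRegular.exists_grEquiv _ hq n
  have hJ : Ideal.ofList fs = Ideal.span (Set.range fun i : Fin fs.length => fs[i.1]) := by
    refine congrArg Ideal.span (Set.ext fun x => ?_)
    show x ∈ fs ↔ _
    rw [List.mem_iff_get]
    exact Iff.rfl
  rw [hJ]
  exact ((van_quot hfs hfs' i).congr (Submodule.quotEquivOfEq _ _ hJ)).finsupp (ULift.{u} _) |>.congr
    (Finsupp.domLCongr Equiv.ulift ≪≫ₗ e)

theorem van_pow : ∀ n i : ℕ, Van A A' ↥(Ideal.ofList fs ^ n) i := by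
  intro n
  induction n with
  | zero =>
    intro i
    exact (van_of_flat_right A i).congr (Submodule.topEquiv.symm ≪≫ₗ
      LinearEquiv.ofEq _ _ (by rw [pow_zero, Ideal.one_eq_top]))
  | succ n ih =>
    intro i
    refine Van.left (f := Submodule.inclusion (Ideal.pow_le_pow_right n.le_succ))
      (g := (Submodule.comap (Ideal.ofList fs ^ n).subtype (Ideal.ofList fs ^ (n + 1))).mkQ)
      (Submodule.inclusion_injective _) (Submodule.mkQ_surjective _) ?_ (ih i) (van_gr hfs hfs' n (i + 1))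
    rw [LinearMap.exact_iff, Submodule.ker_mkQ, Submodule.range_inclusion]

theorem isZero_tor {N : Type u} [AddCommGroup N] [Module A N] {i : ℕ} (h : Van A A' N i) :
    IsZero (((CategoryTheory.Tor (ModuleCat.{u} A) (i + 1)).obj (ModuleCat.of A N)).obj (ModuleCat.of A A')) :=
  IsZero.of_iso ((isZero_tor_iff A' N i).2 h) (Groth.L02.TorFlip.flipIso (i + 1) _ _)

end Groth.L07.KoszulTorPow
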