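import Groth.Agent.L06.SymGrBasic
import Groth.Agent.L14.PPSmooth.QRDescent
import Groth.Agent.L14.PPSmooth.Sym
import Groth.Prelude.Def_PP16
import Mathlib.RingTheory.Spectrum.Prime.FreeLocus
import Mathlib.RingTheory.LocalProperties.FinitePresentation
import Mathlib.RingTheory.Localization.Free
import Mathlib.LinearAlgebra.Matrix.Charpoly.LinearMap

/-!
An ideal is locally quasi-regular iff it is finitely generated, its conormal module is projective and
the maps from the symmetric powers of the conormal module to the graded pieces are bijective.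
-/

set_option autoImplicit false
set_option linter.style.haveILetI false
set_option maxSynthPendingDepth 3

universe u

open MvPolynomial

namespace Groth.L07.LQRCrit

open Groth.L14.LocQR

variable {R : Type u} [CommRing R] {J : Ideal R}

local notation "mk" => Ideal.Quotient.mk J

theorem exists_prod_X {r : ℕ} : ∀ (n : ℕ) (d : Fin r →₀ ℕ), d.degree = n →
    ∃ k : Fin n → Fin r, (monomial d (1 : R)) = ∏ i, X (k i)
  | 0, d, hd => ⟨Fin.elim0, by
      have : d = 0 := (Finsupp.degree_eq_zero_iff d).1 hd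
      subst this
      simp⟩
  | n + 1, d, hd => by
      obtain ⟨j, hj⟩ : d.support.Nonempty := by
        rw [Finsupp.support_nonempty_iff]
        rintro rfl
        simp at hd
      have hle : Finsupp.single j 1 ≤ d := by
        rw [Finsupp.single_le_iff]
        exact Nat.one_le_iff_ne_zero.2 (Finsupp.mem_support_iff.1 hj)
      have hsplit : Finsupp.single j 1 + (d - Finsupp.single j 1) = d := add_tsub_cancel_of_le hle
      have hd' : (d - Finsupp.single j 1).degree = n := by
        have := congrArg Finsupp.degree hsplit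
        rw [map_add, Finsupp.degree_single, hd] at this
        omega
      obtain ⟨k, hk⟩ := exists_prod_X n _ hd'
      refine ⟨Fin.cons j k, ?_⟩
      rw [Fin.prod_univ_succ, Fin.cons_zero]
      simp only [Fin.cons_succ]
      rw [← hk, X, monomial_mul, one_mul, hsplit]

/-- Local quasi-regularity gives the conormal module locally free on basic opens. -/
theorem free_away {g : R} {r : ℕ} {h : Fin r → R} (hg : Gen J g h) (hq : QRg J g h) :
    Nonempty ((Fin r → Localization.Away (mk g)) ≃ₗ[Localization.Away (mk g)]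
      LocalizedModule.Away (mk g) J.Cotangent) := by
  classical
  let S := Submonoid.powers (mk g)
  let loc := LocalizedModule.mkLinearMap S J.Cotangent
  let e : Fin r → J.Cotangent := fun i => J.toCotangent ⟨h i, hg.1 i⟩
  let θ : (Fin r → Localization.Away (mk g)) →ₗ[Localization.Away (mk g)]
      LocalizedModule.Away (mk g) J.Cotangent :=
    Fintype.linearCombination _ fun i => loc (e i)
  have hθ : ∀ a : Fin r → R, θ (fun i => algebraMap (R ⧸ J) (Localization.Away (mk g)) (mk (a i))) =
      loc (J.toCotangent (∑ i, a i • ⟨h i, hg.1 i⟩)) := by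
    intro a
    simp only [θ, Fintype.linearCombination_apply, algebraMap_smul, map_sum, map_smul]
    refine Finset.sum_congr rfl fun i _ => ?_
    rw [← map_smul]
    rfl
  have hu : ∀ N : ℕ, IsUnit (algebraMap (R ⧸ J) (Localization.Away (mk g)) (mk g ^ N)) := fun N => by
    rw [map_pow]
    exact (IsLocalization.Away.algebraMap_isUnit (mk g)).pow N
  refine ⟨LinearEquiv.ofBijective θ ⟨?_, ?_⟩⟩
  · rw [injective_iff_map_eq_zero]
    intro v hv
    obtain ⟨⟨_, L, rfl⟩, hint⟩ := IsLocalization.exist_integer_multiples S Finset.univ v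
    choose b hb using fun i => hint i (Finset.mem_univ i)
    choose a ha using fun i => Ideal.Quotient.mk_surjective (b i)
    have hv' : (fun i => algebraMap (R ⧸ J) (Localization.Away (mk g)) (mk (a i))) =
        algebraMap (R ⧸ J) (Localization.Away (mk g)) (mk g ^ L) • v := by
      funext i
      rw [ha, hb, Pi.smul_apply, smul_eq_mul, Algebra.smul_def]
    have h0 := hθ a
    rw [hv', map_smul, hv, smul_zero, eq_comm] at h0
    obtain ⟨⟨_, M, rfl⟩, hM⟩ := (IsLocalizedModule.eq_zero_iff S loc).1 h0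
    change mk g ^ M • J.toCotangent _ = 0 at hM
    rw [← map_pow] at hM
    have hM' : g ^ M * ∑ i, a i * h i ∈ J ^ 2 := by
      have : J.toCotangent (g ^ M • ∑ i, a i • (⟨h i, hg.1 i⟩ : J)) = 0 := by
        rw [map_smul]; exact hM
      simpa using (J.toCotangent_eq_zero _).1 this
    funext i
    obtain ⟨K, hK⟩ := hq 1 (∑ j, C (a j) * X j) (Groth.L14.QRR.isHomogeneous_linear a)
      ⟨M, by simpa [eval_sum] using hM'⟩ (Finsupp.single i 1)
    rw [Groth.L14.QRR.coeff_linear] at hK
    have h1 : algebraMap (R ⧸ J) (Localization.Away (mk g)) (mk g ^ K) *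
        algebraMap (R ⧸ J) (Localization.Away (mk g)) (mk (a i)) = 0 := by
      rw [← map_mul, ← map_pow, ← map_mul, Ideal.Quotient.eq_zero_iff_mem.2 hK, map_zero]
    have h2 := congrFun hv' i
    rw [Pi.smul_apply, smul_eq_mul, (hu K).mul_right_eq_zero.1 h1] at h2
    exact (hu L).mul_right_eq_zero.1 h2.symm
  · intro y
    obtain ⟨⟨m, ⟨_, k, rfl⟩⟩, hy⟩ := IsLocalizedModule.surj S loc y
    obtain ⟨⟨x, hx⟩, rfl⟩ := J.toCotangent_surjective m
    obtain ⟨N, hN⟩ := hg.2 x hx
    obtain ⟨a, ha⟩ := Ideal.mem_span_range_iff_exists_fun.1 hN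
    have hsum : (∑ i, a i • (⟨h i, hg.1 i⟩ : J)) = g ^ N • (⟨x, hx⟩ : J) := by
      ext
      simpa using ha
    obtain ⟨u, hu'⟩ := hu (N + k)
    refine ⟨(↑u⁻¹ : Localization.Away (mk g)) •
      fun i => algebraMap (R ⧸ J) (Localization.Away (mk g)) (mk (a i)), ?_⟩
    rw [map_smul, hθ, hsum, map_smul]
    change _ • loc (mk (g ^ N) • J.toCotangent ⟨x, hx⟩) = y
    rw [map_smul]
    change (↑u⁻¹ : Localization.Away (mk g)) • mk (g ^ N) • loc _ = y
    change mk g ^ k • y = loc _ at hy
    rw [← hy, map_pow, smul_smul (mk g ^ N), ← pow_add,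
      ← algebraMap_smul (Localization.Away (mk g)) (mk g ^ (N + k)) y, ← hu',
      smul_smul, Units.inv_mul, one_smul]

theorem projective_of_lqr (hJ : PP16.IsLocallyQuasiRegular R J) :
    Module.Projective (R ⧸ J) J.Cotangent := by
  classical
  let s : Set (R ⧸ J) := {x | Module.Free (Localization.Away x) (LocalizedModule.Away x J.Cotangent) ∧
    Module.Finite (Localization.Away x) (LocalizedModule.Away x J.Cotangent)}
  have hmem : ∀ p : PrimeSpectrum (R ⧸ J), ∃ x ∈ s, x ∉ p.asIdeal := by
    intro p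
    have hJP : J ≤ p.asIdeal.comap mk := fun x hx => by
      rw [Ideal.mem_comap, Ideal.Quotient.eq_zero_iff_mem.2 hx]; exact zero_mem _
    obtain ⟨g, hg, -, r, h, hgen, hq⟩ := exists_data hJ (p.asIdeal.comap mk) hJP 1
      (fun h => (inferInstance : (p.asIdeal.comap mk).IsPrime).ne_top ((Ideal.eq_top_iff_one _).2 h))
    obtain ⟨e⟩ := free_away hgen hq
    exact ⟨mk g, ⟨Module.Free.of_equiv e, Module.Finite.equiv e⟩, hg⟩
  have hspan : Ideal.span s = ⊤ := by
    by_contra hne
    obtain ⟨M, hM, hle⟩ := Ideal.exists_le_maximal _ hne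
    obtain ⟨x, hx, hxM⟩ := hmem ⟨M, hM.isPrime⟩
    exact hxM (hle (Ideal.subset_span hx))
  haveI : Module.FinitePresentation (R ⧸ J) J.Cotangent :=
    Module.FinitePresentation.of_localizationSpan s hspan fun x => by
      haveI := x.2.1
      haveI := x.2.2
      exact Module.finitePresentation_of_projective _ _
  rw [← Module.freeLocus_eq_univ_iff]
  refine Set.eq_univ_of_forall fun p => ?_
  obtain ⟨x, hx, hxp⟩ := hmem p
  haveI := hx.1
  exact Module.basicOpen_subset_freeLocus_iff.2
    (Module.Projective.of_free (R := Localization.Away x)) hxp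

/-- Symmetric tensors are, up to powers of `g`, combinations of products of the local generators. -/
theorem exists_pow_smul_mem_span {g : R} {r : ℕ} {h : Fin r → R} (hg : Gen J g h) (ι : Type u)
    [Fintype ι] (t : SymmetricPower R ι J.Cotangent) :
    ∃ N : ℕ, g ^ N • t ∈ Submodule.span R (Set.range fun k : ι → Fin r =>
      SymmetricPower.tprod R fun i => J.toCotangent ⟨h (k i), hg.1 (k i)⟩) := by
  classical
  set S := Submodule.span R (Set.range fun k : ι → Fin r =>
      SymmetricPower.tprod R fun i => J.toCotangent ⟨h (k i), hg.1 (k i)⟩) with hS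
  have ht : t ∈ Submodule.span R (Set.range (SymmetricPower.tprod R (ι := ι) (M := J.Cotangent))) := by
    rw [SymmetricPower.span_tprod_eq_top]; trivial
  induction ht using Submodule.span_induction with
  | mem x hx =>
    obtain ⟨v, rfl⟩ := hx
    have hv : ∀ i, ∃ (N : ℕ) (a : Fin r → R),
        g ^ N • v i = ∑ j, a j • J.toCotangent ⟨h j, hg.1 j⟩ := by
      intro i
      obtain ⟨⟨x, hx⟩, hxv⟩ := J.toCotangent_surjective (v i)
      obtain ⟨N, hN⟩ := hg.2 x hx
      obtain ⟨a, ha⟩ := Ideal.mem_span_range_iff_exists_fun.1 hN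
      refine ⟨N, a, ?_⟩
      simp only [← map_smul, ← map_sum, ← hxv]
      refine congrArg _ (Subtype.ext ?_)
      simpa using ha.symm
    choose N a ha using hv
    refine ⟨∑ i, N i, ?_⟩
    rw [← Finset.prod_pow_eq_pow_sum, ← MultilinearMap.map_smul_univ, funext ha,
      MultilinearMap.map_sum]
    refine Submodule.sum_mem _ fun k _ => ?_
    rw [MultilinearMap.map_smul_univ]
    exact Submodule.smul_mem _ _ (Submodule.subset_span ⟨k, rfl⟩)
  | zero => exact ⟨0, by rw [smul_zero]; exact zero_mem _⟩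
  | add a b _ _ ha hb =>
    obtain ⟨N, hN⟩ := ha
    obtain ⟨M, hM⟩ := hb
    refine ⟨N + M, ?_⟩
    rw [smul_add]
    refine add_mem ?_ ?_
    · rw [add_comm, pow_add, mul_smul]; exact Submodule.smul_mem _ _ hN
    · rw [pow_add, mul_smul]; exact Submodule.smul_mem _ _ hM
  | smul c a _ ha =>
    obtain ⟨N, hN⟩ := ha
    exact ⟨N, by rw [smul_comm]; exact Submodule.smul_mem _ _ hN⟩

theorem symGrBijective_of_lqr (hJ : PP16.IsLocallyQuasiRegular R J) :
    PP16.SymGrBijective R J := by
  classical
  refine Groth.L06.SymGr.symGrBijective_of_injective J fun ι _ _ φ hφ => ?_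
  rw [injective_iff_map_eq_zero]
  intro t ht
  let A : Ideal R := LinearMap.ker (LinearMap.toSpanSingleton R _ t)
  suffices hA : A = ⊤ by
    have h1 : (1 : R) ∈ A := hA ▸ Submodule.mem_top
    rw [LinearMap.mem_ker, LinearMap.toSpanSingleton_apply, one_smul] at h1
    exact h1
  have hJA : J ≤ A := fun x hx => by
    rw [LinearMap.mem_ker, LinearMap.toSpanSingleton_apply]
    exact Groth.L06.SymGr.symPow_smul_eq_zero J ι hx t
  by_contra hne
  obtain ⟨P, hP, hle⟩ := Ideal.exists_le_maximal A hne
  haveI := hP.isPrime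
  obtain ⟨g, hgP, -, r, h, hgen, hq⟩ := exists_data hJ P (hJA.trans hle) 1
    (fun h => hP.ne_top ((Ideal.eq_top_iff_one _).2 h))
  obtain ⟨N, hN⟩ := exists_pow_smul_mem_span hgen ι t
  obtain ⟨c, hc⟩ := (Submodule.mem_span_range_iff_exists_fun R).1 hN
  let e : ULift.{u} (Fin r) → J.Cotangent := fun j => J.toCotangent ⟨h j.down, hgen.1 _⟩
  let π : (ULift.{u} (Fin r) →₀ R) →ₗ[R] J.Cotangent := Finsupp.linearCombination R e
  let G' : MvPolynomial (ULift.{u} (Fin r)) R :=
    ∑ k : ι → Fin r, c k • monomial (Groth.L14.PPSmooth.counts fun i => ULift.up (k i)) 1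
  have hread : Groth.L14.PPSmooth.readOff (ι := ι) π G' = g ^ N • t := by
    rw [← hc, map_sum]
    refine Finset.sum_congr rfl fun k _ => ?_
    rw [map_smul, Groth.L14.PPSmooth.readOff_monomial_counts]
    congr 2
    funext i
    simp [π, e]
  let G : MvPolynomial (Fin r) R := ∑ k : ι → Fin r, C (c k) * ∏ i, X (k i)
  have hG : G.IsHomogeneous (Fintype.card ι) := IsHomogeneous.sum _ _ _ fun k _ => by
    refine IsHomogeneous.C_mul ?_ _
    simpa using IsHomogeneous.prod Finset.univ (fun i => (X (k i) : MvPolynomial (Fin r) R))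
      (fun _ => 1) (fun i _ => isHomogeneous_X R (k i))
  have hev : eval h G ∈ J ^ (Fintype.card ι + 1) := by
    have h0 : φ (g ^ N • t) = 0 := by rw [map_smul, ht, smul_zero]
    rw [← hc, map_sum] at h0
    simp only [map_smul, hφ] at h0
    change (∑ k, c k • (Submodule.Quotient.mk _ : PP16.grJ R J _)) = 0 at h0
    simp only [← Submodule.mkQ_apply, ← map_smul, ← map_sum] at h0
    rw [Submodule.mkQ_apply, Submodule.Quotient.mk_eq_zero] at h0
    simpa [G, eval_sum, eval_prod] using h0
  have hcoeff : ∀ d, ∃ M, g ^ M * G.coeff d ∈ J := hq _ G hG ⟨0, by simpa using hev⟩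
  choose M hM using hcoeff
  let M₀ := ∑ d ∈ G.support, M d
  have hGG' : MvPolynomial.rename ULift.up G = G' := by
    simp only [G, G', map_sum]
    refine Finset.sum_congr rfl fun k _ => ?_
    rw [map_mul, rename_C, map_prod]
    simp only [rename_X]
    rw [Groth.L14.PPSmooth.prod_X_eq, smul_eq_C_mul]
  have hzero : g ^ (M₀ + N) • t = 0 := by
    rw [pow_add, mul_smul, ← hread, ← hGG', ← map_smul, G.as_sum, map_sum, Finset.smul_sum, map_sum]
    refine Finset.sum_eq_zero fun d hd => ?_
    have hmem : g ^ M₀ * G.coeff d ∈ J := by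
      obtain ⟨k, hk⟩ := Nat.exists_eq_add_of_le
        (Finset.single_le_sum (fun d _ => Nat.zero_le (M d)) hd)
      rw [show M₀ = M d + k from hk, pow_add, mul_comm (g ^ M d), mul_assoc]
      exact Ideal.mul_mem_left _ _ (hM d)
    rw [rename_monomial, smul_monomial, smul_eq_mul, ← mul_one (g ^ M₀ * G.coeff d),
      ← smul_eq_mul, ← smul_monomial, map_smul]
    exact Groth.L06.SymGr.symPow_smul_eq_zero J ι hmem _
  exact hgP (hP.isPrime.mem_of_pow_mem _ (hle (show g ^ (M₀ + N) ∈ A by
    rw [LinearMap.mem_ker, LinearMap.toSpanSingleton_apply]; exact hzero)))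

/-- A Nakayama argument: generators modulo `J ^ 2` up to a power of `g` generate `J` after
inverting one more element which is congruent to a power of `g` modulo `J`. -/
theorem exists_mul_mem (hJ : J.FG) (K : Ideal R) (g : R) (h : ∀ x ∈ J, ∃ N, g ^ N * x ∈ K ⊔ J ^ 2) :
    ∃ (e : R) (N : ℕ), e - g ^ N ∈ J ∧ ∀ x ∈ J, e * x ∈ K := by
  classical
  obtain ⟨s, hs⟩ := hJ
  choose! N hN using h
  let N₀ := ∑ x ∈ s, N x
  have hJK : ∀ x ∈ J, g ^ N₀ * x ∈ K ⊔ J ^ 2 := by
    intro x hx
    suffices J ≤ Submodule.comap (LinearMap.mulLeft R (g ^ N₀)) (K ⊔ J ^ 2) from this hx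
    conv_lhs => rw [← hs]
    refine Submodule.span_le.2 fun y hy => ?_
    obtain ⟨k, hk⟩ := Nat.exists_eq_add_of_le
      (Finset.single_le_sum (fun d _ => Nat.zero_le (N d)) hy)
    show g ^ N₀ * y ∈ K ⊔ J ^ 2
    rw [show N₀ = N y + k from hk, pow_add, mul_comm (g ^ N y), mul_assoc]
    exact Ideal.mul_mem_left _ _ (hN y (hs ▸ Submodule.subset_span hy))
  let Q : Submodule R (R ⧸ K) := Submodule.map K.mkQ J
  haveI : Module.Finite R Q := Module.Finite.of_fg (Submodule.FG.map _ ⟨s, hs⟩)
  let f : Module.End R Q := g ^ N₀ • LinearMap.id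
  have hf : LinearMap.range f ≤ J • ⊤ := by
    rintro _ ⟨⟨_, x, hx, rfl⟩, rfl⟩
    have h1 : g ^ N₀ • K.mkQ x ∈ J • Q := by
      rw [← map_smul, smul_eq_mul]
      obtain ⟨a, ha, b, hb, e⟩ := Submodule.mem_sup.1 (hJK x hx)
      rw [← e, map_add, Submodule.mkQ_apply, (Submodule.Quotient.mk_eq_zero _).2 ha, zero_add]
      rw [show J • Q = Submodule.map K.mkQ (J • J) from (Submodule.map_smul'' _ _ _).symm,
        smul_eq_mul, ← pow_two]
      exact Submodule.mem_map_of_mem hb
    have h2 : J • Q = Submodule.map Q.subtype (J • ⊤) := by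
      rw [Submodule.map_smul'', Submodule.map_top, Submodule.range_subtype]
    rw [h2] at h1
    obtain ⟨y, hy, hyx⟩ := h1
    have : f ⟨K.mkQ x, x, hx, rfl⟩ = y := Subtype.ext hyx.symm
    rwa [this]
  obtain ⟨p, hp, -, hcoeff, hev⟩ :=
    LinearMap.exists_monic_and_natDegree_eq_and_coeff_mem_pow_and_aeval_eq_zero R f J hf
  refine ⟨p.eval (g ^ N₀), N₀ * p.natDegree, ?_, fun x hx => ?_⟩
  · rw [Polynomial.eval_eq_sum_range, Finset.sum_range_succ, hp.coeff_natDegree, one_mul, pow_mul,
      add_sub_cancel_right]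
    refine Ideal.sum_mem _ fun i hi => Ideal.mul_mem_right _ _ ?_
    exact Ideal.pow_le_self (Nat.sub_ne_zero_of_lt (Finset.mem_range.1 hi)) (hcoeff i)
  · have hfa : f = algebraMap R (Module.End R Q) (g ^ N₀) := by
      ext z; rfl
    rw [hfa, Polynomial.aeval_algebraMap_apply_eq_algebraMap_eval] at hev
    have := congrArg Subtype.val (congr(($hev) ⟨K.mkQ x, x, hx, rfl⟩))
    simp only [Module.algebraMap_end_apply, LinearMap.zero_apply, Submodule.coe_zero,
      SetLike.val_smul] at this
    rw [← map_smul, Submodule.mkQ_apply, Submodule.Quotient.mk_eq_zero] at this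
    exact this

theorem lqr_of_symGr (hfg : J.FG) (hproj : Module.Projective (R ⧸ J) J.Cotangent)
    (hbij : PP16.SymGrBijective R J) : PP16.IsLocallyQuasiRegular R J := by
  classical
  refine isLocallyQuasiRegular_of_data fun P _ hJP => ?_
  haveI : Module.Finite R J := Module.Finite.of_fg hfg
  haveI : Module.Finite R J.Cotangent := Module.Finite.of_surjective _ J.toCotangent_surjective
  haveI : Module.Finite (R ⧸ J) J.Cotangent := Module.Finite.of_restrictScalars_finite R _ _
  haveI : Module.FinitePresentation (R ⧸ J) J.Cotangent := Module.finitePresentation_of_projective _ _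
  let P' := P.map mk
  haveI hP' : P'.IsPrime :=
    Ideal.map_isPrime_of_surjective Ideal.Quotient.mk_surjective (by rwa [Ideal.mk_ker])
  have hmemP : ∀ x, mk x ∈ P' → x ∈ P := fun x hx => by
    have : x ∈ P'.comap mk := hx
    rwa [Ideal.comap_map_of_surjective _ Ideal.Quotient.mk_surjective, ← RingHom.ker_eq_comap_bot,
      Ideal.mk_ker, sup_eq_left.2 hJP] at this
  haveI : Module.Free (Localization.AtPrime P') (LocalizedModule P'.primeCompl J.Cotangent) :=
    Module.free_of_flat_of_isLocalRing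
  obtain ⟨gb, hgb, hfree, -⟩ := Module.FinitePresentation.exists_free_localizedModule_powers
    P'.primeCompl (LocalizedModule.mkLinearMap P'.primeCompl J.Cotangent) (Localization.AtPrime P')
  obtain ⟨g, rfl⟩ := Ideal.Quotient.mk_surjective gb
  have hgP : g ∉ P := fun h => hgb (Ideal.mem_map_of_mem _ h)
  let Bg := Localization.Away (mk g)
  let S := Submonoid.powers (mk g)
  let loc := LocalizedModule.mkLinearMap S J.Cotangent
  haveI : Module.Free Bg (LocalizedModule.Away (mk g) J.Cotangent) := hfree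
  haveI : Module.Finite Bg (LocalizedModule.Away (mk g) J.Cotangent) :=
    Module.Finite.of_isLocalizedModule S loc
  haveI : Nontrivial Bg := (IsLocalization.Away.lift (g := algebraMap (R ⧸ J)
    (Localization.AtPrime P')) (mk g)
    (IsLocalization.map_units (Localization.AtPrime P') (⟨mk g, hgb⟩ : P'.primeCompl))).domain_nontrivial
  let b₀ := Module.finBasis Bg (LocalizedModule.Away (mk g) J.Cotangent)
  let r := Module.finrank Bg (LocalizedModule.Away (mk g) J.Cotangent)
  choose nd hnd using fun i : Fin r => IsLocalizedModule.surj S loc (b₀ i)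
  have hunit : ∀ i, IsUnit (algebraMap (R ⧸ J) Bg ((nd i).2 : R ⧸ J)) := fun i =>
    IsLocalization.map_units Bg (nd i).2
  let b := b₀.unitsSMul fun i => (hunit i).unit
  choose f hf using fun i => J.toCotangent_surjective (nd i).1
  have hb : ∀ i, b i = loc (J.toCotangent (f i)) := fun i => by
    rw [hf i, ← hnd i, Module.Basis.unitsSMul_apply]
    exact algebraMap_smul Bg ((nd i).2 : R ⧸ J) (b₀ i)
  let fR : Fin r → R := fun i => (f i : R)
  -- generators
  have hgen0 : ∀ x ∈ J, ∃ N, g ^ N * x ∈ Ideal.span (Set.range fR) ⊔ J ^ 2 := by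
    intro x hx
    let c := b.repr (loc (J.toCotangent ⟨x, hx⟩))
    obtain ⟨⟨_, L, rfl⟩, hint⟩ := IsLocalization.exist_integer_multiples S Finset.univ fun i => c i
    choose cb hcb using fun i => hint i (Finset.mem_univ i)
    choose a ha using fun i => Ideal.Quotient.mk_surjective (cb i)
    have h1 : loc (J.toCotangent (g ^ L • ⟨x, hx⟩ - ∑ i, a i • f i)) = 0 := by
      rw [map_sub, map_sub, map_smul, map_sum, map_sum, sub_eq_zero]
      rw [← algebraMap_smul (R ⧸ J) (g ^ L) (J.toCotangent _), map_smul,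
        ← b.sum_repr (loc (J.toCotangent ⟨x, hx⟩)), Finset.smul_sum]
      refine Finset.sum_congr rfl fun i _ => ?_
      rw [map_smul, hb, ← algebraMap_smul (R ⧸ J) (a i) (J.toCotangent _), map_smul,
        Ideal.Quotient.algebraMap_eq, ← algebraMap_smul Bg (mk (a i)), ha, hcb, smul_assoc]
      change mk (g ^ L) • _ = mk g ^ L • _
      rw [map_pow]
    obtain ⟨⟨_, M, rfl⟩, hM⟩ := (IsLocalizedModule.eq_zero_iff S loc).1 h1
    change mk g ^ M • J.toCotangent _ = 0 at hM
    rw [← map_pow] at hM
    have h2 : J.toCotangent (g ^ M • (g ^ L • ⟨x, hx⟩ - ∑ i, a i • f i)) = 0 := by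
      rw [map_smul]; exact hM
    have h3 : g ^ M * (g ^ L * x - ∑ i, a i * fR i) ∈ J ^ 2 := by
      simpa [fR] using (J.toCotangent_eq_zero _).1 h2
    refine ⟨M + L, ?_⟩
    rw [show g ^ (M + L) * x = g ^ M * ∑ i, a i * fR i + g ^ M * (g ^ L * x - ∑ i, a i * fR i) by ring]
    exact add_mem (Ideal.mem_sup_left (Ideal.mul_mem_left _ _ (Ideal.sum_mem _ fun i _ =>
      Ideal.mul_mem_left _ _ (Ideal.subset_span ⟨i, rfl⟩)))) (Ideal.mem_sup_right h3)
  obtain ⟨e, N₁, he, heK⟩ := exists_mul_mem hfg _ g hgen0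
  have heP : e ∉ P := fun h => hgP ((inferInstance : P.IsPrime).mem_of_pow_mem N₁
    (by simpa using P.sub_mem h (hJP he)))
  refine ⟨g * e, fun h => ((inferInstance : P.IsPrime).mem_or_mem h).elim hgP heP, r, fR,
    ⟨fun i => (f i).2, fun x hx => ⟨1, ?_⟩⟩, QRg.mul ?_ e⟩
  · rw [pow_one, mul_assoc]
    exact Ideal.mul_mem_left _ _ (heK x hx)
  -- quasi-regularity
  intro n G hG ⟨N, hN⟩ d
  by_cases hd : G.coeff d = 0
  · exact ⟨0, by rw [hd, mul_zero]; exact zero_mem _⟩
  rcases Nat.eq_zero_or_pos n with rfl | hn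
  · refine ⟨N, ?_⟩
    have hd0 : d = 0 := (Finsupp.degree_eq_zero_iff d).1
      (by rw [Finsupp.degree_eq_weight_one]; exact hG hd)
    have hGC : G = C (G.coeff 0) := MvPolynomial.totalDegree_eq_zero_iff_eq_C.1
      (Nat.le_zero.1 hG.totalDegree_le)
    rw [hGC, eval_C] at hN
    rw [hd0]
    simpa using hN
  let ι := ULift.{u} (Fin n)
  haveI : Nonempty (Fin n) := ⟨⟨0, hn⟩⟩
  have hcard : Fintype.card ι = n := by simp [ι]
  obtain ⟨φ, hφ, hinj, -⟩ := hbij ι
  let L : J.Cotangent →ₗ[R] MvPolynomial (Fin r) Bg :=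
    ((Fintype.linearCombination Bg fun i : Fin r => (X i : MvPolynomial (Fin r) Bg)).comp
      b.equivFun.toLinearMap).restrictScalars R ∘ₗ loc.restrictScalars R
  have hL : ∀ i, L (J.toCotangent (f i)) = X i := fun i => by
    simp only [L, LinearMap.comp_apply, LinearMap.restrictScalars_apply, LinearEquiv.coe_coe, ← hb]
    simp [Fintype.linearCombination_apply, Finsupp.single_apply, ite_smul]
  obtain ⟨ψ, hψ⟩ := Groth.L06.SymGr.exists_symLift
    ((MultilinearMap.mkPiAlgebra R ι (MvPolynomial (Fin r) Bg)).compLinearMap fun _ => L)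
    fun σ v => by
      simp only [MultilinearMap.compLinearMap_apply, MultilinearMap.mkPiAlgebra_apply]
      exact Equiv.prod_comp σ fun i => L (v i)
  have hdeg : ∀ d' ∈ G.support, d'.degree = n := fun d' hd' => by
    rw [Finsupp.degree_eq_weight_one]; exact hG (mem_support_iff.1 hd')
  haveI : Nonempty (Fin n → Fin r) :=
    ⟨(exists_prod_X (R := R) n d (hdeg d (mem_support_iff.2 hd))).choose⟩
  choose! k hk using fun d' hd' => exists_prod_X (R := R) n d' (hdeg d' hd')
  let t : SymmetricPower R ι J.Cotangent := ∑ d' ∈ G.support, G.coeff d' •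
    SymmetricPower.tprod R fun i : ι => J.toCotangent (f (k d' i.down))
  have hprod : ∀ d' ∈ G.support,
      monomial d' (1 : R) = ∏ i : ι, X (k d' i.down) := fun d' hd' =>
    (hk d' hd').trans (Equiv.prod_comp Equiv.ulift fun i => (X (k d' i) : MvPolynomial (Fin r) R)).symm
  have hφt : φ (g ^ N • t) = 0 := by
    simp only [t, Finset.smul_sum, map_sum, map_smul, hφ]
    change (∑ d' ∈ G.support, g ^ N • G.coeff d' • (Submodule.Quotient.mk _ : PP16.grJ R J _)) = 0
    simp only [← Submodule.mkQ_apply, ← map_smul, ← map_sum]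
    rw [Submodule.mkQ_apply, Submodule.Quotient.mk_eq_zero]
    rw [G.as_sum, map_sum, Finset.mul_sum] at hN
    show _ ∈ J ^ (Fintype.card ι + 1)
    have hpow : J ^ (Fintype.card ι + 1) = J ^ (n + 1) := by rw [hcard]
    rw [hpow]
    convert hN using 1
    simp only [Submodule.coe_subtype, Submodule.coe_sum, SetLike.val_smul, smul_eq_mul]
    refine Finset.sum_congr rfl fun d' hd' => ?_
    rw [← mul_one (G.coeff d'), ← smul_eq_mul (G.coeff d') (1 : R), ← smul_monomial, smul_eval,
      hprod d' hd', eval_prod]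
    simp [fR]
  have ht : g ^ N • t = 0 := hinj (by rw [hφt, map_zero])
  have hψt : ψ (g ^ N • t) = g ^ N • MvPolynomial.map (algebraMap R Bg) G := by
    conv_rhs => rw [G.as_sum, map_sum]
    rw [map_smul, map_sum]
    congr 1
    refine Finset.sum_congr rfl fun d' hd' => ?_
    rw [map_smul, hψ]
    simp only [MultilinearMap.compLinearMap_apply, MultilinearMap.mkPiAlgebra_apply, hL]
    rw [← mul_one (G.coeff d'), ← smul_eq_mul (G.coeff d') (1 : R), ← smul_monomial, hprod d' hd',
      Algebra.smul_def (G.coeff d'), Algebra.smul_def (G.coeff d'), map_mul, map_prod]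
    simp [MvPolynomial.algebraMap_apply, smul_eq_mul, Algebra.smul_def]
  rw [ht, map_zero] at hψt
  have hc0 := congrArg (MvPolynomial.coeff d) hψt.symm
  rw [coeff_zero, coeff_smul, coeff_map, Algebra.smul_def, ← map_mul] at hc0
  rw [IsScalarTower.algebraMap_apply R (R ⧸ J) Bg, IsLocalization.map_eq_zero_iff S] at hc0
  obtain ⟨⟨_, M, rfl⟩, hM⟩ := hc0
  refine ⟨M + N, ?_⟩
  rw [pow_add, mul_assoc, ← Ideal.Quotient.eq_zero_iff_mem, map_mul, map_pow]
  exact hM

theorem iff_crit : PP16.IsLocallyQuasiRegular R J ↔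
    J.FG ∧ Module.Projective (R ⧸ J) J.Cotangent ∧ PP16.SymGrBijective R J :=
  ⟨fun h => ⟨isLocallyQuasiRegular_fg h, projective_of_lqr h, symGrBijective_of_lqr h⟩,
    fun ⟨h1, h2, h3⟩ => lqr_of_symGr h1 h2 h3⟩

end Groth.L07.LQRCrit
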