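import Groth.Agent.L20.Infinitesimal.Flat
import Mathlib.RingTheory.LocalRing.Length
import Mathlib.AlgebraicGeometry.Geometrically.Reduced
import Groth.Prelude.Def_FDesc

/-! # Multiplicities under extension of the base field -/

set_option autoImplicit false
set_option linter.style.haveILetI false
set_option maxSynthPendingDepth 3
set_option backward.isDefEq.respectTransparency false
set_option backward.isDefEq.respectTransparency.types false

universe u

open CategoryTheory CategoryTheory.Limits AlgebraicGeometry IsLocalRing TensorProduct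

namespace Groth.L07.LengthBC

open Groth.L20.SeeNormal

variable {X Y : Scheme.{u}}

theorem sI_nilradical (x : X) : sI X.nilradical x = nilradical (X.presheaf.stalk x) := by
  obtain ⟨U, hU, hxU, -⟩ := exists_isAffineOpen_mem_and_subset (x := x) (U := (⊤ : X.Opens)) trivial
  rw [sI_eq X.nilradical ⟨U, hU⟩ hxU]
  have hid : X.nilradical.ideal ⟨U, hU⟩ = nilradical Γ(X, U) := by
    rw [← Scheme.IdealSheafData.radical_bot]
    rfl
  rw [hid]
  letI := X.presheaf.algebra_section_stalk ⟨x, hxU⟩
  haveI := hU.isLocalization_stalk ⟨x, hxU⟩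
  refine le_antisymm (Ideal.map_le_iff_le_comap.mpr fun a ha => ?_) fun b hb => ?_
  · exact IsNilpotent.map (mem_nilradical.mp ha) _
  · obtain ⟨⟨a, s⟩, has⟩ := IsLocalization.surj (hU.primeIdealOf ⟨x, hxU⟩).asIdeal.primeCompl b
    obtain ⟨n, hn⟩ := mem_nilradical.mp hb
    have h0 : algebraMap Γ(X, U) (X.presheaf.stalk x) (a ^ (n + 1)) = 0 := by
      rw [map_pow, ← has, mul_pow, pow_succ b, hn, zero_mul, zero_mul]
    obtain ⟨t, ht⟩ := (IsLocalization.map_eq_zero_iff (hU.primeIdealOf ⟨x, hxU⟩).asIdeal.primeCompl _ _).mp h0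
    have hta : (t : Γ(X, U)) * a ∈ nilradical Γ(X, U) := mem_nilradical.mpr ⟨n + 1, by
      rw [mul_pow, pow_succ, mul_assoc, ht, mul_zero]⟩
    have h1 := Ideal.mem_map_of_mem (X.presheaf.germ U x hxU).hom hta
    rw [map_mul] at h1
    replace h1 : algebraMap Γ(X, U) (X.presheaf.stalk x) t * algebraMap Γ(X, U) (X.presheaf.stalk x) a ∈
      Ideal.map (X.presheaf.germ U x hxU).hom (nilradical Γ(X, U)) := h1
    rw [Ideal.unit_mul_mem_iff_mem _ (IsLocalization.map_units (X.presheaf.stalk x) t), ← has,
      Ideal.mul_unit_mem_iff_mem _ (IsLocalization.map_units (X.presheaf.stalk x) s)] at h1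
    exact h1

/-- At a maximal point the local ring has dimension zero. -/
theorem krullDimLE_zero (x : X) (hx : ∀ z : X, z ⤳ x → z = x) : Ring.KrullDimLE 0 (X.presheaf.stalk x) := by
  refine Ring.KrullDimLE.mk₀ fun I hI => ?_
  have h1 : X.fromSpecStalk x ⟨I, hI⟩ ⤳ x := by
    have h : X.fromSpecStalk x ⟨I, hI⟩ ∈ Set.range (X.fromSpecStalk x) := ⟨_, rfl⟩
    rwa [Scheme.range_fromSpecStalk] at h
  have h2 : (⟨I, hI⟩ : Spec (X.presheaf.stalk x)) = closedPoint (X.presheaf.stalk x) :=
    (X.fromSpecStalk x).isEmbedding.injective ((hx _ h1).trans Scheme.fromSpecStalk_closedPoint.symm)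
  rw [show I = maximalIdeal (X.presheaf.stalk x) from congrArg PrimeSpectrum.asIdeal h2]
  infer_instance

theorem isReduced_nilradical_subscheme (X : Scheme.{u}) : IsReduced X.nilradical.subscheme := by
  refine @isReduced_of_isReduced_stalk _ fun z => ?_
  have h : RingHom.ker (X.nilradical.subschemeι.stalkMap z).hom = nilradical _ := by
    rw [Groth.L20.Infinitesimal.ker_stalkMap, Scheme.IdealSheafData.ker_subschemeι, sI_nilradical]
  refine (RingHom.ker_isRadical_iff_reduced_of_surjective (X.nilradical.subschemeι.stalkMap_surjective z)).mp ?_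
  rw [h]
  exact Ideal.radical_isRadical _

variable {k : Type u} [Field k] (f : X ⟶ Spec (CommRingCat.of k)) (k' k'' : Type u) [Field k'] [Field k'']
  [Algebra k k'] [Algebra k' k'']

/-- The canonical closed immersion `(X'_red) ⊗ k'' → X' ⊗ k''`. -/
noncomputable def redBC : FBase.bc ((FBase.bc f k').nilradical.subschemeι ≫ FBase.bcStr f k') k'' ⟶
    FBase.bc (FBase.bcStr f k') k'' :=
  pullback.map ((FBase.bc f k').nilradical.subschemeι ≫ FBase.bcStr f k')
    (Spec.map (CommRingCat.ofHom (algebraMap k' k''))) (FBase.bcStr f k')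
    (Spec.map (CommRingCat.ofHom (algebraMap k' k''))) (FBase.bc f k').nilradical.subschemeι (𝟙 _) (𝟙 _)
    (Category.comp_id _) ((Category.comp_id _).trans (Category.id_comp _).symm)

theorem isPullback_redBC : IsPullback
    (FBase.bcπ ((FBase.bc f k').nilradical.subschemeι ≫ FBase.bcStr f k') k'') (redBC f k' k'')
    (FBase.bc f k').nilradical.subschemeι (FBase.bcπ (FBase.bcStr f k') k'') := by
  have h1 : redBC f k' k'' ≫ pullback.snd _ _ = pullback.snd _ _ := by
    simp [redBC]
  refine IsPullback.of_bot (h₃₁ := Spec.map (CommRingCat.ofHom (algebraMap k' k''))) (v₂₁ := pullback.snd _ _)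
    (v₂₂ := FBase.bcStr f k') ?_ ?_ (IsPullback.of_hasPullback _ _)
  · erw [h1]
    exact IsPullback.of_hasPullback _ _
  · simp [redBC, FBase.bcπ]

theorem flat_bcπ : Flat (FBase.bcπ (FBase.bcStr f k') k'') := by
  haveI : Flat (Spec.map (CommRingCat.ofHom (algebraMap k' k''))) :=
    (HasRingHomProperty.Spec_iff (P := @Flat)).mpr (RingHom.flat_algebraMap_iff.mpr inferInstance)
  exact MorphismProperty.pullback_fst _ _ inferInstance

theorem maximal_image (x'' : ↥(FBase.bc (FBase.bcStr f k') k''))
    (hx'' : ∀ z : ↥(FBase.bc (FBase.bcStr f k') k''), z ⤳ x'' → z = x'') :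
    ∀ z, z ⤳ FBase.bcπ (FBase.bcStr f k') k'' x'' → z = FBase.bcπ (FBase.bcStr f k') k'' x'' := fun z hz => by
  haveI := flat_bcπ f k' k''
  obtain ⟨w, hw, rfl⟩ := Flat.generalizingMap (FBase.bcπ (FBase.bcStr f k') k'') hz
  rw [hx'' w hw]

theorem length_eq_mul (x'' : ↥(FBase.bc (FBase.bcStr f k') k''))
    (hx'' : ∀ z : ↥(FBase.bc (FBase.bcStr f k') k''), z ⤳ x'' → z = x'')
    (z'' : ↥(FBase.bc ((FBase.bc f k').nilradical.subschemeι ≫ FBase.bcStr f k') k''))
    (hz'' : redBC f k' k'' z'' = x'') :
    Module.length ((FBase.bc (FBase.bcStr f k') k'').presheaf.stalk x'') ((FBase.bc (FBase.bcStr f k') k'').presheaf.stalk x'') =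
      Module.length ((FBase.bc f k').presheaf.stalk (FBase.bcπ (FBase.bcStr f k') k'' x''))
          ((FBase.bc f k').presheaf.stalk (FBase.bcπ (FBase.bcStr f k') k'' x'')) *
        Module.length ((FBase.bc ((FBase.bc f k').nilradical.subschemeι ≫ FBase.bcStr f k') k'').presheaf.stalk z'')
          ((FBase.bc ((FBase.bc f k').nilradical.subschemeι ≫ FBase.bcStr f k') k'').presheaf.stalk z'') := by
  subst hz''
  set π := FBase.bcπ (FBase.bcStr f k') k''
  haveI : Flat π := flat_bcπ f k' k''
  haveI : IsClosedImmersion (redBC f k' k'') :=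
    MorphismProperty.of_isPullback (isPullback_redBC f k' k'') inferInstance
  haveI := krullDimLE_zero _ (maximal_image f k' k'' _ hx'')
  letI := (π.stalkMap (redBC f k' k'' z'')).hom.toAlgebra
  haveI : Module.Flat _ _ := RingHom.flat_algebraMap_iff.mp (Flat.stalkMap π (redBC f k' k'' z''))
  haveI : IsLocalHom (algebraMap ((FBase.bc f k').presheaf.stalk (π (redBC f k' k'' z'')))
      ((FBase.bc (FBase.bcStr f k') k'').presheaf.stalk (redBC f k' k'' z''))) :=
    inferInstanceAs (IsLocalHom (π.stalkMap (redBC f k' k'' z'')).hom)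
  have hk : RingHom.ker ((redBC f k' k'').stalkMap z'').hom =
      (maximalIdeal ((FBase.bc f k').presheaf.stalk (π (redBC f k' k'' z'')))).map (π.stalkMap (redBC f k' k'' z'')).hom := by
    rw [Groth.L20.Infinitesimal.ker_stalkMap]
    have h2 : (redBC f k' k'').ker = (FBase.bc f k').nilradical.comap π := by
      conv_rhs => rw [← Scheme.IdealSheafData.ker_subschemeι (FBase.bc f k').nilradical,
        ← Scheme.IdealSheafData.ker_fst_of_isClosedImmersion]
      exact ((isPullback_redBC f k' k'').flip.isoPullback_hom_fst ▸ Scheme.Hom.ker_comp_of_isIso _ _ :)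
    rw [h2, sI_comap, sI_nilradical, Ring.KrullDimLE.nilradical_eq_maximalIdeal]
  rw [← (AlgebraTensorModule.rid ((FBase.bc f k').presheaf.stalk (π (redBC f k' k'' z'')))
      ((FBase.bc (FBase.bcStr f k') k'').presheaf.stalk (redBC f k' k'' z''))
      ((FBase.bc (FBase.bcStr f k') k'').presheaf.stalk (redBC f k' k'' z''))).length_eq,
    IsLocalRing.length_baseChange]
  congr 1
  let e : ((FBase.bc (FBase.bcStr f k') k'').presheaf.stalk (redBC f k' k'' z'') ⧸
      (maximalIdeal ((FBase.bc f k').presheaf.stalk (π (redBC f k' k'' z'')))).map (algebraMap _ _)) ≃+* _ :=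
    (Ideal.quotEquivOfEq hk.symm).trans (RingHom.quotientKerEquivOfSurjective ((redBC f k' k'').stalkMap_surjective z''))
  letI := ((redBC f k' k'').stalkMap z'').hom.toAlgebra
  rw [← Module.length_eq_of_surjective (S := (FBase.bc (FBase.bcStr f k') k'').presheaf.stalk (redBC f k' k'' z''))
    (R := (FBase.bc ((FBase.bc f k').nilradical.subschemeι ≫ FBase.bcStr f k') k'').presheaf.stalk z'')
    ((redBC f k' k'').stalkMap_surjective z'')]
  refine LinearEquiv.length_eq { e with map_smul' := fun b c => ?_ }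
  obtain ⟨c, rfl⟩ := Ideal.Quotient.mk_surjective c
  exact map_mul ((redBC f k' k'').stalkMap z'').hom b c

theorem length_eq_one [GeometricallyReduced (Spec.map (CommRingCat.ofHom (algebraMap k' k'')))]
    [IsLocallyNoetherian (FBase.bc f k')]
    (x'' : ↥(FBase.bc (FBase.bcStr f k') k''))
    (hx'' : ∀ z : ↥(FBase.bc (FBase.bcStr f k') k''), z ⤳ x'' → z = x'') :
    ∃ z'', redBC f k' k'' z'' = x'' ∧
      Module.length ((FBase.bc ((FBase.bc f k').nilradical.subschemeι ≫ FBase.bcStr f k') k'').presheaf.stalk z'')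
          ((FBase.bc ((FBase.bc f k').nilradical.subschemeι ≫ FBase.bcStr f k') k'').presheaf.stalk z'') = 1 := by
  obtain ⟨w, hw⟩ : FBase.bcπ (FBase.bcStr f k') k'' x'' ∈ Set.range (FBase.bc f k').nilradical.subschemeι := by
    rw [Scheme.IdealSheafData.range_subschemeι, Scheme.support_nilradical]
    trivial
  obtain ⟨z'', hz''⟩ : x'' ∈ Set.range (redBC f k' k'') := by
    obtain ⟨p, -, hp⟩ := Scheme.Pullback.exists_preimage_pullback w x'' hw
    refine ⟨(isPullback_redBC f k' k'').isoPullback.inv p, ?_⟩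
    rw [← Scheme.Hom.comp_apply, IsPullback.isoPullback_inv_snd]
    exact hp
  haveI : IsClosedImmersion (redBC f k' k'') :=
    MorphismProperty.of_isPullback (isPullback_redBC f k' k'') inferInstance
  refine ⟨z'', hz'', ?_⟩
  subst hz''
  haveI := isReduced_nilradical_subscheme (FBase.bc f k')
  haveI : IsLocallyNoetherian (FBase.bc f k').nilradical.subscheme :=
    LocallyOfFiniteType.isLocallyNoetherian (FBase.bc f k').nilradical.subschemeι
  haveI : Flat (Spec.map (CommRingCat.ofHom (algebraMap k' k''))) :=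
    (HasRingHomProperty.Spec_iff (P := @Flat)).mpr (RingHom.flat_algebraMap_iff.mpr inferInstance)
  haveI : IsReduced (FBase.bc ((FBase.bc f k').nilradical.subschemeι ≫ FBase.bcStr f k') k'') :=
    inferInstanceAs (IsReduced (pullback _ _))
  haveI := krullDimLE_zero z'' fun z hz => (redBC f k' k'').isClosedEmbedding.injective
    (hx'' _ (hz.map (redBC f k' k'').continuous))
  letI := (Ring.KrullDimLE.isField_of_isReduced
    (R := (FBase.bc ((FBase.bc f k').nilradical.subschemeι ≫ FBase.bcStr f k') k'').presheaf.stalk z'')).toField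
  exact Module.length_eq_one_iff.mpr inferInstance

end Groth.L07.LengthBC
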