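import Groth.Agent.L14.NLAmp.Perfect
import Groth.Agent.L10.TwoTerm.Main
import Mathlib.LinearAlgebra.Matrix.Adjugate

/-!
The Jacobian determinant annihilates `Ext¹` of the naive cotangent complex.
-/

set_option autoImplicit false
set_option linter.style.haveILetI false
set_option maxSynthPendingDepth 3
set_option backward.isDefEq.respectTransparency false

universe u

open CategoryTheory CategoryTheory.Limits

attribute [local instance] HasDerivedCategory.standard

namespace Groth.L07.NLJacobian

open Algebra Groth.L14.NLAmp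

section Lin

variable {R B : Type u} [CommRing R] [CommRing B] [Algebra R B] {n m : ℕ}

/-- The complex of a presentation computes the naive cotangent complex. -/
theorem nonempty_iso_NL (G : Generators R B (Fin n)) :
    Nonempty (DRing.toD (dbl G.toExtension.cotangentComplex) ≅ LCI.NL R B) := by
  let G₀ := Generators.self R B
  let f := (Generators.defaultHom G G₀).toExtensionHom
  let g := (Generators.defaultHom G₀ G).toExtensionHom
  exact nonempty_iso G.toExtension.cotangentComplex G₀.toExtension.cotangentComplex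
    (Extension.Cotangent.map f) (Extension.CotangentSpace.map f)
    (Extension.Cotangent.map g) (Extension.CotangentSpace.map g)
    (Extension.CotangentSpace.map_comp_cotangentComplex f) (Extension.CotangentSpace.map_comp_cotangentComplex g)
    ((Extension.Hom.id _).sub (g.comp f)) ((Extension.Hom.id _).sub (f.comp g))
    (by rw [← Extension.Cotangent.map_sub_map, Extension.Cotangent.map_id, Extension.Cotangent.map_comp]; rfl)
    (by
      have h1 := Extension.CotangentSpace.map_sub_map (Extension.Hom.id G.toExtension) (g.comp f)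
      rw [Extension.CotangentSpace.map_id, Extension.CotangentSpace.map_comp] at h1
      exact h1)
    (by rw [← Extension.Cotangent.map_sub_map, Extension.Cotangent.map_id, Extension.Cotangent.map_comp]; rfl)
    (by
      have h1 := Extension.CotangentSpace.map_sub_map (Extension.Hom.id G₀.toExtension) (f.comp g)
      rw [Extension.CotangentSpace.map_id, Extension.CotangentSpace.map_comp] at h1
      exact h1)

/-- The adjugate of a Jacobian minor gives a partial homotopy inverse of the conormal map. -/
theorem exists_adjugate_homotopy {X Y : Type u} [AddCommGroup X] [Module B X] [AddCommGroup Y] [Module B Y]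
    (d : X →ₗ[B] Y) (hmn : m ≤ n) (x : Fin m → X) (hx : Submodule.span B (Set.range x) = ⊤)
    (b : Module.Basis (Fin n) B Y) (M : Matrix (Fin m) (Fin m) B)
    (hM : ∀ i j, M i j = b.repr (d (x j)) (Fin.castLE hmn i)) :
    ∃ h : Y →ₗ[B] X, h ∘ₗ d = M.det • LinearMap.id ∧ (n = m → d ∘ₗ h = M.det • LinearMap.id) := by
  classical
  let v : Fin n → X := fun i => if hi : (i : ℕ) < m then ∑ k, M.adjugate k ⟨i, hi⟩ • x k else 0
  let h : Y →ₗ[B] X := b.constr B v
  have hv : ∀ i : Fin m, h (b (Fin.castLE hmn i)) = ∑ k, M.adjugate k i • x k := fun i => by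
    show b.constr B v (b _) = _
    rw [Module.Basis.constr_basis]
    simp [v]
  have hdx : ∀ j, h (d (x j)) = M.det • x j := fun j => by
    conv_lhs => rw [← b.sum_repr (d (x j))]
    rw [map_sum]
    have : ∀ i ∈ (Finset.univ : Finset (Fin n)), i ∉ Finset.univ.map ⟨Fin.castLE hmn, Fin.castLE_injective hmn⟩ →
        h (b.repr (d (x j)) i • b i) = 0 := fun i _ hi => by
      rw [map_smul, Module.Basis.constr_basis]
      simp only [v]
      rw [dif_neg, smul_zero]
      exact fun hlt => hi (Finset.mem_map.mpr ⟨⟨i, hlt⟩, Finset.mem_univ _, rfl⟩)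
    rw [← Finset.sum_subset (Finset.subset_univ _) this, Finset.sum_map]
    simp only [Function.Embedding.coeFn_mk, map_smul, hv, ← hM, Finset.smul_sum, smul_smul]
    rw [Finset.sum_comm]
    simp only [← Finset.sum_smul]
    rw [show (fun k => (∑ i, M i j * M.adjugate k i) • x k) = fun k => (M.adjugate * M) k j • x k from
      funext fun k => by rw [Matrix.mul_apply]; exact congrArg (· • x k) (Finset.sum_congr rfl fun i _ => mul_comm _ _),
      Matrix.adjugate_mul]
    simp [Matrix.one_apply, ite_smul]
  refine ⟨h, LinearMap.ext_on_range hx fun j => by simpa using hdx j, fun hnm => ?_⟩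
  subst hnm
  refine b.ext fun i => ?_
  have hi : Fin.castLE hmn i = i := rfl
  show d (h (b i)) = M.det • b i
  rw [← hi, hv, map_sum]
  apply b.repr.injective
  ext l
  simp only [map_sum, map_smul, Finsupp.coe_finsetSum, Finset.sum_apply, Finsupp.smul_apply, smul_eq_mul]
  rw [show (∑ k, M.adjugate k i * b.repr (d (x k)) l) = (M * M.adjugate) l i by
    rw [Matrix.mul_apply]
    exact Finset.sum_congr rfl fun k _ => by rw [hM, mul_comm]; rfl,
    Matrix.mul_adjugate, Module.Basis.repr_self]
  simp [Matrix.one_apply, Finsupp.single_apply, eq_comm]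

end Lin

section Cat

variable {B : Type u} [CommRing B] {X Y : Type u} [AddCommGroup X] [Module B X] [AddCommGroup Y] [Module B Y]
  (d : X →ₗ[B] Y)

/-- A null homotopy of a scalar kills it in the derived category. -/
theorem smul_id_eq_zero {K : Dual.D B} (e : DRing.toD (dbl d) ≅ K) (s : Y →ₗ[B] X) (g : B)
    (h1 : s ∘ₗ d = g • LinearMap.id) (h2 : d ∘ₗ s = g • LinearMap.id) : g • 𝟙 K = 0 := by
  obtain ⟨H⟩ := nonempty_homotopy d d ((1 - g) • LinearMap.id) ((1 - g) • LinearMap.id) LinearMap.id LinearMap.id
    (by rw [LinearMap.comp_smul, LinearMap.smul_comp, LinearMap.comp_id, LinearMap.id_comp])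
    (by rw [LinearMap.comp_id, LinearMap.id_comp]) s
    (by rw [h1, LinearMap.id_comp, sub_smul, one_smul, sub_sub_cancel])
    (by rw [h2, LinearMap.id_comp, sub_smul, one_smul, sub_sub_cancel])
  have he : dblMap d d ((1 - g) • LinearMap.id) ((1 - g) • LinearMap.id)
      (by rw [LinearMap.comp_smul, LinearMap.smul_comp, LinearMap.comp_id, LinearMap.id_comp]) ≫
      dblMap d d LinearMap.id LinearMap.id (by rw [LinearMap.comp_id, LinearMap.id_comp]) =
        (1 - g) • 𝟙 (dbl d) := by
    refine HomologicalComplex.from_double_hom_ext ?_ ?_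
    · simp only [HomologicalComplex.comp_f, dblMap, HomologicalComplex.mkHomFromDouble_f₀, Category.assoc,
        Iso.inv_hom_id_assoc, HomologicalComplex.smul_f_apply, HomologicalComplex.id_f]
      rw [← cancel_epi (HomologicalComplex.doubleXIso₀ (ModuleCat.ofHom d) rel10).inv,
        ← cancel_mono (HomologicalComplex.doubleXIso₀ (ModuleCat.ofHom d) rel10).hom]
      simp only [Category.assoc, Iso.inv_hom_id_assoc, Linear.comp_smul, Linear.smul_comp, Iso.inv_hom_id,
        Category.comp_id]
      rfl
    · simp only [HomologicalComplex.comp_f, dblMap, HomologicalComplex.mkHomFromDouble_f₁, Category.assoc,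
        Iso.inv_hom_id_assoc, HomologicalComplex.smul_f_apply, HomologicalComplex.id_f]
      rw [← cancel_epi (HomologicalComplex.doubleXIso₁ (ModuleCat.ofHom d) rel10 (by omega)).inv,
        ← cancel_mono (HomologicalComplex.doubleXIso₁ (ModuleCat.ofHom d) rel10 (by omega)).hom]
      simp only [Category.assoc, Iso.inv_hom_id_assoc, Linear.comp_smul, Linear.smul_comp, Iso.inv_hom_id,
        Category.comp_id]
      rfl
  have h3 := congrArg DerivedCategory.Qh.map (HomotopyCategory.eq_of_homotopy _ _ H)
  have h4 : DerivedCategory.Q.map ((1 - g) • 𝟙 (dbl d)) = DerivedCategory.Q.map (𝟙 (dbl d)) := by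
    rw [← he, ← NatIso.naturality_1 (DerivedCategory.quotientCompQhIso (ModuleCat.{u} B)),
      ← NatIso.naturality_1 (DerivedCategory.quotientCompQhIso (ModuleCat.{u} B)) (𝟙 (dbl d))]
    simp only [Functor.comp_map]
    rw [h3]
  rw [Functor.map_smul, CategoryTheory.Functor.map_id, sub_smul, one_smul, sub_eq_self] at h4
  rw [← cancel_epi e.hom, comp_zero, Linear.comp_smul, Category.comp_id, ← Category.id_comp e.hom,
    ← Linear.smul_comp, h4, zero_comp]

/-- A left partial homotopy inverse of a scalar kills it on `Ext¹`. -/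
theorem smul_ext_eq_zero [Module.Projective B Y] {K : Dual.D B} (e : DRing.toD (dbl d) ≅ K) (s : Y →ₗ[B] X) (g : B)
    (h1 : s ∘ₗ d = g • LinearMap.id) (N : Type u) [AddCommGroup N] [Module B N]
    (φ : K ⟶ (Dual.inD B N)⟦(1 : ℤ)⟧) : g • φ = 0 := by
  let p := HomologicalComplex.doubleXIso₀ (ModuleCat.ofHom d) rel10
  let q := HomologicalComplex.doubleXIso₁ (ModuleCat.ofHom d) rel10 (show (-1 : ℤ) ≠ 0 by omega)
  haveI : (dbl d).IsStrictlyLE 0 := (CochainComplex.isStrictlyLE_iff _ _).2 fun i hi =>
    HomologicalComplex.isZero_double_X _ _ i (by omega) (by omega)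
  haveI : (dbl d).IsStrictlyGE (-1) := (CochainComplex.isStrictlyGE_iff _ _).2 fun i hi =>
    HomologicalComplex.isZero_double_X _ _ i (by omega) (by omega)
  haveI : Projective (ModuleCat.of B Y) := (IsProjective.iff_projective _).1 inferInstance
  haveI : Projective ((dbl d).X 0) := Projective.of_iso q.symm inferInstance
  refine (Groth.L10.TwoTerm.smul_iff e g).2 ⟨q.hom ≫ ModuleCat.ofHom s ≫ p.inv, ?_⟩ N φ
  rw [HomologicalComplex.double_d _ _ (by omega : (-1 : ℤ) ≠ 0)]
  simp only [Category.assoc, q, p, Iso.inv_hom_id_assoc]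
  rw [← cancel_epi p.inv, ← cancel_mono p.hom]
  simp only [p, Category.assoc, Iso.inv_hom_id_assoc, Linear.comp_smul, Linear.smul_comp, Iso.inv_hom_id,
    Category.comp_id]
  rw [← ModuleCat.ofHom_comp, h1]
  rfl

end Cat

section Main

variable {A : Type u} [CommRing A] {n m : ℕ}

/-- The Jacobian minor and the naive cotangent complex of a quotient of a polynomial ring. -/
theorem main (hmn : m ≤ n) (f : Fin m → MvPolynomial (Fin n) A) :
    ∃ (g : MvPolynomial (Fin n) A ⧸ Ideal.span (Set.range f)),
      g = Ideal.Quotient.mk _ (Matrix.det (Matrix.of (fun i j : Fin m => MvPolynomial.pderiv (Fin.castLE hmn i) (f j)))) ∧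
      (∀ (N : Type u) [AddCommGroup N] [Module (MvPolynomial (Fin n) A ⧸ Ideal.span (Set.range f)) N]
        (φ : LCI.NL A (MvPolynomial (Fin n) A ⧸ Ideal.span (Set.range f)) ⟶
          (Dual.inD (MvPolynomial (Fin n) A ⧸ Ideal.span (Set.range f)) N)⟦(1 : ℤ)⟧), g • φ = 0) ∧
      (n = m → g • 𝟙 (LCI.NL A (MvPolynomial (Fin n) A ⧸ Ideal.span (Set.range f))) = 0) := by
  let B := MvPolynomial (Fin n) A ⧸ Ideal.span (Set.range f)
  let π : MvPolynomial (Fin n) A →ₐ[A] B := Ideal.Quotient.mkₐ A _
  have hπ : Function.Surjective π := Ideal.Quotient.mk_surjective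
  let G := gens π hπ
  have hker : G.toExtension.ker = Ideal.span (Set.range f) := by
    ext a
    show algebraMap G.toExtension.Ring B a = 0 ↔ _
    rw [algebraMap_gens π hπ a]
    exact Ideal.Quotient.eq_zero_iff_mem
  let x : Fin m → G.toExtension.Cotangent := fun j =>
    Extension.Cotangent.mk ⟨f j, hker.ge (Ideal.subset_span ⟨j, rfl⟩)⟩
  have hx : Submodule.span B (Set.range x) = ⊤ :=
    Extension.Cotangent.span_eq_top_of_span_eq_ker (P := G.toExtension) f hker.symm
  let M : Matrix (Fin m) (Fin m) B :=
    (Matrix.of fun i j : Fin m => MvPolynomial.pderiv (Fin.castLE hmn i) (f j)).map π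
  obtain ⟨h, h1, h2⟩ := exists_adjugate_homotopy G.toExtension.cotangentComplex hmn x hx G.cotangentSpaceBasis M
    (fun i j => by
      show _ = G.cotangentSpaceBasis.repr (G.toExtension.cotangentComplex (x j)) (Fin.castLE hmn i)
      rw [Extension.cotangentComplex_mk, Generators.cotangentSpaceBasis_repr_one_tmul]
      show π _ = MvPolynomial.aeval (fun i => π (MvPolynomial.X i)) _
      rw [show MvPolynomial.aeval (fun i => π (MvPolynomial.X i)) = π from MvPolynomial.algHom_ext (by simp)]
      rfl)
  obtain ⟨e⟩ := nonempty_iso_NL G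
  haveI : Module.Free B G.toExtension.CotangentSpace := Module.Free.of_basis G.cotangentSpaceBasis
  have hdet : M.det = π (Matrix.det (Matrix.of fun i j : Fin m => MvPolynomial.pderiv (Fin.castLE hmn i) (f j))) :=
    (π.toRingHom.map_det _).symm
  exact ⟨M.det, hdet, fun N _ _ φ => smul_ext_eq_zero _ e h _ h1 N φ,
    fun hnm => smul_id_eq_zero _ e h _ h1 (h2 hnm)⟩

end Main

end Groth.L07.NLJacobian
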