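import Groth.Agent.L07.RegularFlat
import Mathlib.Algebra.Module.Torsion.Basic
import Mathlib.RingTheory.Ideal.Quotient.Operations
import Mathlib.RingTheory.Ideal.Quotient.PowTransition

/-! Flatness over a quotient ring in terms of a sequence regular on that quotient. -/

namespace Groth.L07.RegFlat

open RingTheory.Sequence

universe u

set_option maxHeartbeats 1600000 in
theorem flat_quotient_iff {A : Type u} [CommRing A] [IsNoetherianRing A] (R : Ideal A) (fs : List A)
    (hrad : ∀ a ∈ fs, a ∈ (⊥ : Ideal A).jacobson) (hreg : IsWeaklyRegular (A ⧸ R) fs)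
    {N : Type*} [AddCommGroup N] [Module A N] [Module (A ⧸ R) N] [IsScalarTower A (A ⧸ R) N]
    [Module.Finite A N] {J : Ideal A} (hJ : J = R ⊔ Ideal.ofList fs) :
    Module.Flat (A ⧸ R) N ↔
      Module.Flat (A ⧸ J) (N ⧸ (J • (⊤ : Submodule A N))) ∧ IsWeaklyRegular N fs := by
  have hRJ : R ≤ J := hJ ▸ le_sup_left
  letI algC : Algebra (A ⧸ R) (A ⧸ J) := (Ideal.Quotient.factor hRJ).toAlgebra
  letI modN' : Module (A ⧸ R) (N ⧸ (J • (⊤ : Submodule A N))) :=
    Module.compHom _ (Ideal.Quotient.factor hRJ)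
  haveI : IsScalarTower (A ⧸ R) (A ⧸ J) (N ⧸ (J • (⊤ : Submodule A N))) :=
    IsScalarTower.of_algebraMap_smul fun _ _ => rfl
  have hmk : ∀ (a : A) (n : N), Ideal.Quotient.mk R a • n = a • n := fun a n =>
    algebraMap_smul (A ⧸ R) a n
  let π : N →ₗ[A ⧸ R] N ⧸ (J • (⊤ : Submodule A N)) :=
    { toFun := Submodule.mkQ _
      map_add' := map_add _
      map_smul' := fun b n => by
        obtain ⟨a, rfl⟩ := Ideal.Quotient.mk_surjective b
        rw [hmk, map_smul]
        rfl }
  have hfs : IsWeaklyRegular N fs ↔ IsWeaklyRegular N (fs.map (algebraMap A (A ⧸ R))) :=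
    (isWeaklyRegular_map_algebraMap_iff (A ⧸ R) N fs).symm
  have hB : IsWeaklyRegular (A ⧸ R) (fs.map (algebraMap A (A ⧸ R))) :=
    (isWeaklyRegular_map_algebraMap_iff (A ⧸ R) (A ⧸ R) fs).mpr hreg
  have hI : Ideal.ofList (fs.map (algebraMap A (A ⧸ R))) =
      (Ideal.ofList fs).map (Ideal.Quotient.mk R) := by rw [Ideal.map_ofList]; rfl
  have hrad' : Ideal.ofList (fs.map (algebraMap A (A ⧸ R))) ≤ (⊥ : Ideal (A ⧸ R)).jacobson := by
    rw [hI, Ideal.map_le_iff_le_comap, Ideal.ofList, Ideal.span_le]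
    intro a ha
    rw [SetLike.mem_coe, Ideal.mem_comap, Ideal.mem_jacobson_bot]
    intro y
    obtain ⟨y, rfl⟩ := Ideal.Quotient.mk_surjective y
    rw [← map_mul, ← map_one (Ideal.Quotient.mk R), ← map_add]
    exact (Ideal.mem_jacobson_bot.mp (hrad a ha) y).map _
  have hker : RingHom.ker (algebraMap (A ⧸ R) (A ⧸ J)) =
      Ideal.ofList (fs.map (algebraMap A (A ⧸ R))) := by
    show RingHom.ker (Ideal.Quotient.factor hRJ) = _
    rw [hI, Ideal.Quotient.factor_ker, hJ, Ideal.map_sup, Ideal.map_quotient_self, bot_sup_eq]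
  haveI : Module.Finite (A ⧸ R) N := Module.Finite.of_restrictScalars_finite A (A ⧸ R) N
  haveI : IsNoetherianRing (A ⧸ R) :=
    isNoetherianRing_of_surjective A _ (Ideal.Quotient.mk R) Ideal.Quotient.mk_surjective
  rw [hfs]
  have hsurj : Function.Surjective (algebraMap (A ⧸ R) (A ⧸ J)) := Ideal.Quotient.factor_surjective hRJ
  refine flat_iff (C := A ⧸ J) (fs.map (algebraMap A (A ⧸ R))) hrad' hB hsurj hker π
    (Submodule.mkQ_surjective _) ?_
  apply le_antisymm
  · intro n hn
    have hn' : n ∈ J • (⊤ : Submodule A N) := by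
      rw [← Submodule.ker_mkQ (J • (⊤ : Submodule A N))]; exact hn
    refine Submodule.smul_induction_on hn' (fun a ha v _ => ?_) (fun a b ha hb => add_mem ha hb)
    rw [← hmk]
    refine Submodule.smul_mem_smul ?_ Submodule.mem_top
    rw [← hker, RingHom.mem_ker]
    exact Ideal.Quotient.eq_zero_iff_mem.mpr ha
  · rw [Submodule.smul_le]
    intro b hb n _
    obtain ⟨a, rfl⟩ := Ideal.Quotient.mk_surjective b
    rw [← hker, RingHom.mem_ker] at hb
    rw [hmk]
    show Submodule.mkQ (J • (⊤ : Submodule A N)) (a • n) = 0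
    rw [Submodule.mkQ_apply, Submodule.Quotient.mk_eq_zero]
    exact Submodule.smul_mem_smul (Ideal.Quotient.eq_zero_iff_mem.mp hb) Submodule.mem_top

end Groth.L07.RegFlat
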