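import Groth.Agent.L07.GeomNormalAt
import Groth.Agent.L07.GeomReducedDescent
import Groth.Agent.L07.ChevalleyNorm
import Groth.Agent.L06.UnibranchNormal
import Groth.Agent.L06.NormalTensorFlat
import Groth.Agent.L20.FlatStalk
import Groth.Agent.S2730
import Groth.Agent.S5923

/-!
Geometric unibranchness ascends along normal morphisms of finite presentation.
-/

universe u

open CategoryTheory CategoryTheory.Limits AlgebraicGeometry TensorProduct

namespace Groth.L07.GeomNormalAt

set_option autoImplicit false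
set_option linter.style.haveILetI false
set_option maxSynthPendingDepth 3
set_option synthInstance.maxHeartbeats 400000
set_option backward.isDefEq.respectTransparency.types false
set_option backward.isDefEq.respectTransparency false

/-- Normality at every prime makes a normal homomorphism. -/
theorem isNormalHom_of_forall {A B : Type u} [CommRing A] [CommRing B] [Algebra A B] [Module.Flat A B]
    (h : ∀ P : Ideal B, P.IsPrime → GeomNormAt A P) : EGA4.IsNormalHom A B := by
  refine ⟨‹_›, fun p _ => ?_⟩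
  intro K _ _ _
  letI : Algebra A K := ((algebraMap p.ResidueField K).comp (algebraMap A p.ResidueField)).toAlgebra
  haveI : IsScalarTower A p.ResidueField K := IsScalarTower.of_algebraMap_eq' rfl
  have hker : RingHom.ker (algebraMap A K) = p := by
    rw [IsScalarTower.algebraMap_eq A p.ResidueField K, RingHom.ker_comp_of_injective _ (RingHom.injective _),
      Ideal.ker_algebraMap_residueField]
  have hn : EGA4.IsNormalRing (B ⊗[A] K) := by
    intro Q _
    let P := Q.comap (Algebra.TensorProduct.includeLeftRingHom : B →+* B ⊗[A] K)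
    have hP : RingHom.ker (algebraMap A K) = P.comap (algebraMap A B) := by
      have h1 : Q.comap (Algebra.TensorProduct.includeRight : K →ₐ[A] B ⊗[A] K).toRingHom = ⊥ :=
        Ideal.eq_bot_of_prime _
      have hc : ((Algebra.TensorProduct.includeLeftRingHom : B →+* B ⊗[A] K)).comp (algebraMap A B) =
          (Algebra.TensorProduct.includeRight : K →ₐ[A] B ⊗[A] K).toRingHom.comp (algebraMap A K) :=
        Algebra.TensorProduct.includeLeftRingHom_comp_algebraMap
      show _ = Ideal.comap _ (Ideal.comap _ Q)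
      rw [Ideal.comap_comap, hc, ← Ideal.comap_comap, h1]
      rfl
    exact h P inferInstance K hP Q rfl
  refine Groth.L06.NormalAscent.isNormalRing_of_ringEquiv ?_ hn
  exact (Algebra.TensorProduct.comm A B K).toRingEquiv.trans
    (Algebra.TensorProduct.cancelBaseChange A p.ResidueField K K B).symm.toRingEquiv

/-- Geometric unibranchness of local rings at normal points. -/
theorem isGeomUnibranch_stalk {X Y : Scheme.{u}} (f : X ⟶ Y) [LocallyOfFinitePresentation f] (x : X)
    (hY : CAlg2.IsGeomUnibranch (Y.presheaf.stalk (f x))) (hflat : (f.stalkMap x).hom.Flat)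
    (hnorm : Groth.L07.GeomRk.GeomAt (f.fiberToSpecResidueField (f.base x))
      (fun (K : Type u) (_ : Field K) (_ : Algebra (Y.residueField (f.base x)) K) => Module.Finite (Y.residueField (f.base x)) K)
      (fun S _ => IsDomain S ∧ IsIntegrallyClosed S) (f.asFiber x)) :
    CAlg2.IsGeomUnibranch (X.presheaf.stalk x) := by
  classical
  -- affine charts inside the flat locus
  obtain ⟨V, hV, hyV, -⟩ := exists_isAffineOpen_mem_and_subset (X := Y) (x := f x) (U := ⊤) trivial
  let O : X.Opens := ⟨{z | (f.stalkMap z).hom.Flat}, Groth.L20.isOpen_flat_stalkMap f⟩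
  obtain ⟨W, hW, hxW, hle⟩ := exists_isAffineOpen_mem_and_subset (X := X) (x := x) (U := f ⁻¹ᵁ V ⊓ O) ⟨hyV, hflat⟩
  have e : W ≤ f ⁻¹ᵁ V := fun z hz => (hle hz).1
  let A : Type u := Γ(Y, V)
  let R : Type u := Γ(X, W)
  letI : Algebra A R := (f.appLE V W e).hom.toAlgebra
  have halg : algebraMap A R = (f.appLE V W e).hom := rfl
  haveI : Algebra.FinitePresentation A R :=
    RingHom.finitePresentation_algebraMap.mp (f.finitePresentation_appLE hV hW e)
  haveI : Module.Flat A R := by
    refine Module.flat_of_isLocalized_maximal (R := A) (S := R) (M := R)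
      (fun P _ => LocalizedModule P.primeCompl R) (fun P _ => LocalizedModule.mkLinearMap _ _) ?_
    intro P _
    let z := hW.fromSpec ⟨P, inferInstance⟩
    have hz : z ∈ W := hW.range_fromSpec.subset ⟨_, rfl⟩
    have hPz : (hW.primeIdealOf ⟨z, hz⟩).asIdeal = P :=
      congrArg PrimeSpectrum.asIdeal (Groth.L07.FlatGeomReduced.fromSpec_eq hW ⟨P, inferInstance⟩ z hz rfl).symm
    have h := (Groth.L20.flat_stalkMap_iff f hV hW e hz).mp (hle hz).2
    exact Groth.L07.GeomRk.congr_prime
      (T := fun P' _ => Module.Flat A (LocalizedModule P'.primeCompl R)) hPz h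
  -- normality at the prime of the chart
  have w : Spec.map (CommRingCat.ofHom (algebraMap A R)) ≫ hV.fromSpec = hW.fromSpec ≫ f := by
    rw [← IsAffineOpen.SpecMap_appLE_fromSpec f hV hW e, halg]; rfl
  let q := hW.primeIdealOf ⟨x, hxW⟩
  have hall : ∀ z, z = x → Groth.L07.GeomRk.GeomAt (f.fiberToSpecResidueField (f.base z)) (fun _ _ _ => True)
      (fun S _ => IsDomain S ∧ IsIntegrallyClosed S) (f.asFiber z) := by
    rintro z rfl
    exact (Groth.L07.GeomRk.normal_iff f z _ fun _ _ _ _ => trivial).2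
      ((Groth.L07.GeomRk.normal_iff f z _ fun _ _ _ h => h).1 hnorm)
  have hq : GeomNormAt A q.asIdeal :=
    geomNormAt_of_geomAt f hW.fromSpec hV.fromSpec w q (hall _ (hW.fromSpec_primeIdealOf ⟨x, hxW⟩))
  -- a noetherian model
  obtain ⟨A₁, _, B₁, _, _, _, _, ⟨ε⟩⟩ := Groth.L07.FlatGeomReduced.exists_flat_model A R
  have hq' : GeomNormAt A (q.asIdeal.comap ε.toAlgHom.toRingHom) := by
    refine geomNormAt_congr ε.symm (q.asIdeal.comap ε.toAlgHom.toRingHom) ?_
    have heq : (q.asIdeal.comap ε.toAlgHom.toRingHom).comap ε.symm.toAlgHom.toRingHom = q.asIdeal := by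
      ext z
      show ε (ε.symm z) ∈ q.asIdeal ↔ z ∈ q.asIdeal
      rw [ε.apply_symm_apply]
    intro L _ _ hL Q _ hQ
    exact hq L (hL.trans (by rw [heq])) Q (hQ.trans heq)
  let incl : B₁ →+* A ⊗[A₁] B₁ := (Algebra.TensorProduct.includeRight : B₁ →ₐ[A₁] A ⊗[A₁] B₁).toRingHom
  let q₁ : PrimeSpectrum B₁ := ⟨(q.asIdeal.comap ε.toAlgHom.toRingHom).comap incl, inferInstance⟩
  have hq₁ : GeomNormAt A₁ q₁.asIdeal := geomNormAt_descend _ hq'
  let f₁ : Spec (CommRingCat.of B₁) ⟶ Spec (CommRingCat.of A₁) := Spec.map (CommRingCat.ofHom (algebraMap A₁ B₁))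
  haveI : Algebra.FinitePresentation A₁ B₁ := Algebra.FinitePresentation.of_finiteType.mp inferInstance
  haveI : LocallyOfFinitePresentation f₁ := (HasRingHomProperty.Spec_iff (P := @LocallyOfFinitePresentation)).mpr
    (RingHom.finitePresentation_algebraMap.mpr inferInstance)
  haveI : Flat f₁ := (HasRingHomProperty.Spec_iff (P := @Flat)).mpr (RingHom.flat_algebraMap_iff.mpr inferInstance)
  have hq₁' : Groth.L07.GeomRk.GeomAt (f₁.fiberToSpecResidueField (f₁.base q₁)) (fun _ _ _ => True)
      (fun S _ => IsDomain S ∧ IsIntegrallyClosed S) (f₁.asFiber q₁) :=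
    geomAt_of_geomNormAt f₁ (𝟙 _) (𝟙 _) (by simp [f₁]) q₁ hq₁
  have hnb := fun h => PrimeSpectrum.isBasis_basic_opens.exists_subset_of_mem_open (a := q₁) h
    (Groth.Agent.S5923.result f₁)
  obtain ⟨_, ⟨_, ⟨g, rfl⟩, rfl⟩, hgq, hsub⟩ :=
    hnb ⟨Flat.stalkMap f₁ q₁, fun K _ _ _ x' hx' => hq₁' K trivial x' hx'⟩
  -- the normal homomorphism
  let Bg := Localization.Away g
  haveI : Module.Flat A₁ Bg := by
    haveI : Module.Flat B₁ Bg := IsLocalization.flat _ (Submonoid.powers g)
    exact Module.Flat.trans A₁ B₁ Bg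
  haveI : Algebra.FiniteType B₁ Bg := IsLocalization.finiteType_of_monoid_fg (Submonoid.powers g) _
  haveI : Algebra.FiniteType A₁ Bg := Algebra.FiniteType.trans ‹Algebra.FiniteType A₁ B₁› ‹_›
  haveI : IsNoetherianRing Bg := Algebra.FiniteType.isNoetherianRing A₁ Bg
  let i₁ : Spec (CommRingCat.of Bg) ⟶ Spec (CommRingCat.of B₁) := Spec.map (CommRingCat.ofHom (algebraMap B₁ Bg))
  have w₁ : Spec.map (CommRingCat.ofHom (algebraMap A₁ Bg)) ≫ 𝟙 _ = i₁ ≫ f₁ := by
    rw [Category.comp_id, ← Spec.map_comp, IsScalarTower.algebraMap_eq A₁ B₁ Bg]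
    rfl
  haveI : IsOpenImmersion i₁ := IsOpenImmersion.of_isLocalization g
  have hN : EGA4.IsNormalHom A₁ Bg := by
    refine isNormalHom_of_forall fun P hP => ?_
    let z : PrimeSpectrum Bg := ⟨P, hP⟩
    have hz : i₁ z ∈ (PrimeSpectrum.basicOpen g : Set (PrimeSpectrum B₁)) := by
      rw [← PrimeSpectrum.localization_away_comap_range Bg g]
      exact ⟨z, rfl⟩
    exact geomNormAt_of_geomAt f₁ i₁ (𝟙 _) w₁ z
      ((Groth.L07.GeomRk.normal_iff f₁ _ _ fun _ _ _ _ => trivial).2
        ((Groth.L07.GeomRk.normal_iff f₁ _ _ fun _ _ _ h => h).1 (hsub hz).2))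
  -- comparison with the local ring
  let Sy : Type u := Y.presheaf.stalk (f x)
  let Sx : Type u := X.presheaf.stalk x
  let gY : A →+* Sy := (Y.presheaf.germ V (f x) (e hxW)).hom
  let gX : R →+* Sx := (X.presheaf.germ W x hxW).hom
  have hcomm : (f.stalkMap x).hom.comp gY = gX.comp (algebraMap A R) := by
    have h : Y.presheaf.germ V (f x) (e hxW) ≫ f.stalkMap x = f.appLE V W e ≫ X.presheaf.germ W x hxW := by
      rw [Scheme.Hom.germ_stalkMap, Scheme.Hom.appLE, Category.assoc, TopCat.Presheaf.germ_res]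
    rw [halg]
    exact congrArg CommRingCat.Hom.hom h
  letI : Algebra R Sx := X.presheaf.algebra_section_stalk ⟨x, hxW⟩
  haveI hloc : IsLocalization.AtPrime Sx q.asIdeal := hW.isLocalization_stalk ⟨x, hxW⟩
  letI : Algebra A₁ Sy := (gY.comp (algebraMap A₁ A)).toAlgebra
  letI : Algebra A₁ Sx := ((f.stalkMap x).hom.comp (gY.comp (algebraMap A₁ A))).toAlgebra
  let g' : R := ε ((1 : A) ⊗ₜ g)
  have hg' : g' ∉ q.asIdeal := fun h => hgq h
  have hunit : IsUnit (gX g') := IsLocalization.map_units Sx (⟨g', hg'⟩ : q.asIdeal.primeCompl)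
  let b₁ : B₁ →+* Sx := gX.comp (ε.toAlgHom.toRingHom.comp incl)
  have hb₁ : ∀ b, b₁ b = gX (ε ((1 : A) ⊗ₜ b)) := fun b => rfl
  let lg : Bg →+* Sx := IsLocalization.Away.lift g (g := b₁) hunit
  have hlg : ∀ b, lg (algebraMap B₁ Bg b) = b₁ b := fun b => IsLocalization.Away.lift_eq g hunit b
  let lA : Bg →ₐ[A₁] Sx := { lg with
    commutes' := fun a => by
      show lg (algebraMap A₁ Bg a) = (f.stalkMap x).hom (gY (algebraMap A₁ A a))
      rw [IsScalarTower.algebraMap_apply A₁ B₁ Bg, hlg, hb₁, ← RingHom.comp_apply, hcomm, RingHom.comp_apply]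
      congr 1
      rw [← ε.commutes, Algebra.TensorProduct.algebraMap_apply, Algebra.algebraMap_self, RingHom.id_apply,
        Algebra.algebraMap_eq_smul_one, Algebra.algebraMap_eq_smul_one a (A := A), smul_tmul] }
  let sA : Sy →ₐ[A₁] Sx := { (f.stalkMap x).hom with commutes' := fun a => rfl }
  let T := Sy ⊗[A₁] Bg
  let θ : T →ₐ[A₁] Sx := Algebra.TensorProduct.lift sA lA (fun _ _ => Commute.all _ _)
  let gA : A →ₐ[A₁] Sy := { gY with commutes' := fun a => rfl }
  let ι : R →+* T := (Algebra.TensorProduct.map gA (IsScalarTower.toAlgHom A₁ B₁ Bg)).toRingHom.comp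
    ε.symm.toAlgHom.toRingHom
  have hι : ∀ a b, ι (ε (a ⊗ₜ b)) = gY a ⊗ₜ algebraMap B₁ Bg b := by
    intro a b
    show Algebra.TensorProduct.map gA _ (ε.symm (ε (a ⊗ₜ b))) = _
    rw [ε.symm_apply_apply]
    rfl
  have hθ : ∀ r, θ (ι r) = gX r := by
    intro r
    obtain ⟨t, rfl⟩ := ε.surjective r
    induction t using TensorProduct.induction_on with
    | zero => simp
    | add s t hs ht => simp only [map_add, hs, ht]
    | tmul a b =>
      rw [hι, Algebra.TensorProduct.lift_tmul]
      show (f.stalkMap x).hom (gY a) * lg (algebraMap B₁ Bg b) = _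
      rw [hlg, hb₁, ← RingHom.comp_apply, hcomm, RingHom.comp_apply, ← map_mul, ← ε.commutes a,
        ← map_mul, Algebra.TensorProduct.algebraMap_apply, Algebra.TensorProduct.tmul_mul_tmul,
        Algebra.algebraMap_self, RingHom.id_apply, mul_one, one_mul]
  let p := hV.primeIdealOf ⟨f x, e hxW⟩
  letI : Algebra A Sy := Y.presheaf.algebra_section_stalk ⟨f x, e hxW⟩
  haveI : IsLocalization.AtPrime Sy p.asIdeal := hV.isLocalization_stalk ⟨f x, e hxW⟩
  have hfrac : ∀ t : T, ∃ s r : R, IsUnit (gX s) ∧ t * ι s = ι r := by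
    intro t
    induction t using TensorProduct.induction_on with
    | zero => exact ⟨1, 0, by simp, by simp⟩
    | tmul b c =>
      obtain ⟨a, a', hab⟩ := IsLocalization.exists_mk'_eq p.asIdeal.primeCompl b
      obtain ⟨c₁, c', hc'⟩ := IsLocalization.exists_mk'_eq (Submonoid.powers g) c
      refine ⟨ε ((a' : A) ⊗ₜ (c' : B₁)), ε (a ⊗ₜ c₁), ?_, ?_⟩
      · rw [← hθ, hι, Algebra.TensorProduct.lift_tmul]
        refine IsUnit.mul (IsUnit.map _ ?_) (IsUnit.map _ (IsLocalization.map_units Bg c'))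
        exact IsLocalization.map_units Sy a'
      · rw [hι, hι, Algebra.TensorProduct.tmul_mul_tmul, ← hab, ← hc']
        congr 1
        · exact IsLocalization.mk'_spec Sy a a'
        · exact IsLocalization.mk'_spec Bg c₁ c'
    | add t t' ht ht' =>
      obtain ⟨s, r, hs, h⟩ := ht
      obtain ⟨s', r', hs', h'⟩ := ht'
      refine ⟨s * s', r * s' + r' * s, by rw [map_mul]; exact hs.mul hs', ?_⟩
      rw [map_mul, map_add, map_mul, map_mul, ← h, ← h']
      ring
  let qT : Ideal T := (IsLocalRing.maximalIdeal Sx).comap θ.toRingHom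
  haveI : qT.IsPrime := Ideal.IsPrime.comap _
  letI : Algebra T Sx := θ.toRingHom.toAlgebra
  haveI : IsLocalization.AtPrime Sx qT := by
    refine ⟨fun s => ?_, fun z => ?_, fun {t t'} h => ?_⟩
    · by_contra hs
      exact s.2 ((IsLocalRing.mem_maximalIdeal _).mpr hs)
    · obtain ⟨r, s, rfl⟩ := IsLocalization.exists_mk'_eq q.asIdeal.primeCompl z
      have hs : ι (s : R) ∉ qT := fun h =>
        (IsLocalRing.mem_maximalIdeal _).mp h (by rw [show θ.toRingHom (ι s) = gX s from hθ _]; exact IsLocalization.map_units Sx s)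
      refine ⟨⟨ι r, ⟨ι s, hs⟩⟩, ?_⟩
      show _ * θ (ι s) = θ (ι r)
      rw [hθ, hθ]
      exact IsLocalization.mk'_spec Sx r s
    · obtain ⟨s, r, hs, hr⟩ := hfrac t
      obtain ⟨s', r', hs', hr'⟩ := hfrac t'
      have heq : gX (r * s') = gX (r' * s) := by
        rw [map_mul, map_mul, ← hθ r, ← hθ r', ← hr, ← hr', map_mul θ, map_mul θ, hθ, hθ]
        have h' : θ t = θ t' := h
        rw [h']; ring
      obtain ⟨c, hc⟩ := IsLocalization.exists_of_eq (M := q.asIdeal.primeCompl) (S := Sx) heq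
      have hu : ι ((c : R) * s * s') ∉ qT := fun h =>
        (IsLocalRing.mem_maximalIdeal _).mp h (by
          rw [show θ.toRingHom (ι ((c : R) * s * s')) = gX ((c : R) * s * s') from hθ _, map_mul, map_mul]
          exact ((IsLocalization.map_units Sx c).mul hs).mul hs')
      refine ⟨⟨ι ((c : R) * s * s'), hu⟩, ?_⟩
      show ι _ * t = ι _ * t'
      have h1 := congrArg ι hc
      rw [map_mul, map_mul, map_mul, map_mul, ← hr, ← hr'] at h1
      rw [map_mul, map_mul]
      linear_combination h1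
  have hqT : qT.comap (algebraMap Sy T) = IsLocalRing.maximalIdeal Sy := by
    ext b
    show θ (b ⊗ₜ 1) ∈ IsLocalRing.maximalIdeal Sx ↔ _
    rw [Algebra.TensorProduct.lift_tmul, map_one, mul_one, IsLocalRing.mem_maximalIdeal, IsLocalRing.mem_maximalIdeal]
    exact not_congr (isUnit_map_iff (f.stalkMap x).hom b)
  have hT := (Groth.Agent.S2730.result A₁ Bg hN Sy hY qT hqT).1
  let E := IsLocalization.algEquiv qT.primeCompl (Localization.AtPrime qT) Sx
  exact Groth.L07.Chevalley.isGeomUnibranch_of_surjective E.toRingEquiv.toRingHom E.surjective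
    (fun z hz => by rw [show z = 0 from E.injective (hz.trans (map_zero E).symm)]; exact Ideal.zero_mem _) hT

end Groth.L07.GeomNormalAt
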