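import Mathlib.RingTheory.Ideal.KrullsHeightTheorem
import Mathlib.RingTheory.Flat.Basic
import Mathlib.RingTheory.Polynomial.Quotient
import Mathlib.RingTheory.Polynomial.Basic
import Mathlib.RingTheory.Ideal.GoingDown

/-!
One-dimensional quotients of local rings and generizations of the special fibre of affine space.
-/

universe u

namespace Groth.L07.OpenFibreDim

/-- A Noetherian local domain in which some element lies in every nonzero prime has at most one
nonzero prime. -/
theorem eq_maximalIdeal_of_forall_mem {R : Type u} [CommRing R] [IsNoetherianRing R] [IsLocalRing R]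
    [IsDomain R] {c : R} (hc : ∀ Q : Ideal R, Q.IsPrime → Q ≠ ⊥ → c ∈ Q)
    (hc0 : c ≠ 0) (Q : Ideal R) [Q.IsPrime] (hQ : Q ≠ ⊥) : Q = IsLocalRing.maximalIdeal R := by
  classical
  by_contra hne
  have hQm : Q < IsLocalRing.maximalIdeal R :=
    lt_of_le_of_ne (IsLocalRing.le_maximalIdeal (Ideal.IsPrime.ne_top inferInstance)) hne
  have hfin := Ideal.finite_minimalPrimes_of_isNoetherianRing R (Ideal.span {c})
  have hnot : ¬ ((IsLocalRing.maximalIdeal R : Set R) ⊆
      ⋃ P ∈ (↑hfin.toFinset : Set (Ideal R)), (P : Set R)) := by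
    rw [Ideal.subset_union_prime (f := fun P : Ideal R => P) ⊥ ⊥ fun P hP _ _ =>
      ((Set.Finite.mem_toFinset _).mp hP).1.1]
    rintro ⟨P, hP, hle⟩
    rw [Set.Finite.mem_toFinset] at hP
    haveI := hP.1.1
    have hPm : P = IsLocalRing.maximalIdeal R :=
      (IsLocalRing.le_maximalIdeal (Ideal.IsPrime.ne_top inferInstance)).antisymm hle
    have hcQ : Ideal.span {c} ≤ Q := (Ideal.span_singleton_le_iff_mem _).mpr (hc Q inferInstance hQ)
    exact hQm.not_ge (hPm ▸ hP.2 ⟨inferInstance, hcQ⟩ (hQm.le.trans hPm.ge))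
  obtain ⟨b, hbm, hb⟩ := Set.not_subset.mp hnot
  simp only [Set.mem_iUnion, not_exists] at hb
  obtain ⟨P, hPmin, -⟩ := Ideal.exists_minimalPrimes_le (I := Ideal.span {b}) (J := IsLocalRing.maximalIdeal R)
    ((Ideal.span_singleton_le_iff_mem _).mpr hbm)
  haveI := hPmin.1.1
  have hPh : P.height ≤ 1 := Ideal.height_le_one_of_isPrincipal_of_mem_minimalPrimes (Ideal.span {b}) P hPmin
  have hb0 : b ≠ 0 := by
    rintro rfl
    obtain ⟨P', hP', -⟩ := Ideal.exists_minimalPrimes_le (I := Ideal.span {c}) (J := Q)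
      ((Ideal.span_singleton_le_iff_mem _).mpr (hc Q inferInstance hQ))
    exact hb P' (Finset.mem_coe.mpr ((Set.Finite.mem_toFinset _).mpr hP')) P'.zero_mem
  have hP0 : P ≠ ⊥ := fun e => hb0 (by
    have := hPmin.1.2 (Ideal.mem_span_singleton_self b)
    rwa [e, Ideal.mem_bot] at this)
  obtain ⟨P', hP', hP'P⟩ := Ideal.exists_minimalPrimes_le (I := Ideal.span {c}) (J := P)
    ((Ideal.span_singleton_le_iff_mem _).mpr (hc P inferInstance hP0))
  haveI := hP'.1.1
  rcases hP'P.eq_or_lt with e | hlt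
  · exact hb P' (Finset.mem_coe.mpr ((Set.Finite.mem_toFinset _).mpr hP')) (e ▸ hPmin.1.2 (Ideal.mem_span_singleton_self b))
  · have hP'0 : (⊥ : Ideal R) < P' := bot_lt_iff_ne_bot.mpr fun e => hc0 (by
      have := hP'.1.2 (Ideal.mem_span_singleton_self c)
      rwa [e, Ideal.mem_bot] at this)
    haveI : (⊥ : Ideal R).IsPrime := Ideal.isPrime_bot
    have h1 := Ideal.height_add_one_le_of_lt_of_isPrime hP'0
    have h2 := Ideal.height_add_one_le_of_lt_of_isPrime hlt
    have h3 : ((2 : ℕ) : ℕ∞) ≤ P.height := by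
      refine le_trans ?_ h2
      calc ((2 : ℕ) : ℕ∞) = (0 + 1) + 1 := by norm_num
        _ ≤ ((⊥ : Ideal R).height + 1) + 1 := by gcongr; exact zero_le
        _ ≤ P'.height + 1 := by gcongr
    have h4 : ((2 : ℕ) : ℕ∞) ≤ ((1 : ℕ) : ℕ∞) := by simpa using h3.trans hPh
    exact absurd (Nat.cast_le.mp h4) (by norm_num)

/-- Over a one-dimensional local domain, a nonzero prime of the polynomial ring inside the extension
of the maximal ideal is that extension. -/
theorem eq_map_maximalIdeal {R : Type u} [CommRing R] [IsNoetherianRing R] [IsLocalRing R] [IsDomain R]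
    (hdim : ∀ Q : Ideal R, Q.IsPrime → Q ≠ ⊥ → Q = IsLocalRing.maximalIdeal R)
    {σ : Type u} [Finite σ] (P : Ideal (MvPolynomial σ R)) [P.IsPrime]
    (hP : P ≠ ⊥) (hle : P ≤ (IsLocalRing.maximalIdeal R).map MvPolynomial.C) :
    P = (IsLocalRing.maximalIdeal R).map MvPolynomial.C := by
  let m := IsLocalRing.maximalIdeal R
  let M : Ideal (MvPolynomial σ R) := m.map MvPolynomial.C
  have hM : M = RingHom.ker (MvPolynomial.map (σ := σ) (Ideal.Quotient.mk m)) := by
    rw [MvPolynomial.ker_map, Ideal.mk_ker]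
  haveI : M.IsPrime := hM ▸ RingHom.ker_isPrime _
  by_contra hne
  haveI : M.LiesOver m := ⟨by
    ext x
    rw [Ideal.mem_comap]
    rw [hM, RingHom.mem_ker, MvPolynomial.algebraMap_eq, MvPolynomial.map_C, map_eq_zero_iff _ (MvPolynomial.C_injective _ _),
      Ideal.Quotient.eq_zero_iff_mem]⟩
  haveI : Algebra.HasGoingDown R (MvPolynomial σ R) := inferInstance
  have h := Ideal.height_eq_height_add_of_liesOver_of_hasGoingDown m M
  have e : M.map (Ideal.Quotient.mk (m.map (algebraMap R (MvPolynomial σ R)))) = ⊥ := by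
    rw [MvPolynomial.algebraMap_eq]
    exact Ideal.map_quotient_self _
  haveI : IsDomain (MvPolynomial σ R ⧸ m.map (algebraMap R (MvPolynomial σ R))) := by
    rw [Ideal.Quotient.isDomain_iff_prime, MvPolynomial.algebraMap_eq]
    infer_instance
  rw [e, Ideal.height_bot, add_zero] at h
  have hm : m.height ≤ 1 := by
    by_contra hlt
    rw [not_le] at hlt
    by_cases hm0 : m = ⊥
    · rw [hm0, Ideal.height_bot] at hlt
      exact absurd hlt (by simp)
    · obtain ⟨x, hx, hx0⟩ := Submodule.exists_mem_ne_zero_of_ne_bot hm0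
      have hmin : m ∈ (Ideal.span {x}).minimalPrimes :=
        ⟨⟨inferInstance, (Ideal.span_singleton_le_iff_mem _).mpr hx⟩, fun Q hQ _ =>
          (hdim Q hQ.1 fun e => hx0 (by
            have := hQ.2 (Ideal.mem_span_singleton_self x)
            rwa [e, Ideal.mem_bot] at this)).ge⟩
      exact absurd (Ideal.height_le_one_of_isPrincipal_of_mem_minimalPrimes (Ideal.span {x}) m hmin) hlt.not_ge
  haveI : (⊥ : Ideal (MvPolynomial σ R)).IsPrime := Ideal.isPrime_bot
  have h1 := Ideal.height_add_one_le_of_lt_of_isPrime (bot_lt_iff_ne_bot.mpr hP)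
  have h2 := Ideal.height_add_one_le_of_lt_of_isPrime (lt_of_le_of_ne hle hne)
  have h3 : ((2 : ℕ) : ℕ∞) ≤ M.height := by
    refine le_trans ?_ h2
    calc ((2 : ℕ) : ℕ∞) = (0 + 1) + 1 := by norm_num
      _ ≤ ((⊥ : Ideal (MvPolynomial σ R)).height + 1) + 1 := by gcongr; exact zero_le
      _ ≤ P.height + 1 := by gcongr
  rw [h] at h3
  have h4 : ((2 : ℕ) : ℕ∞) ≤ ((1 : ℕ) : ℕ∞) := by simpa using h3.trans hm
  exact absurd (Nat.cast_le.mp h4) (by norm_num)

end Groth.L07.OpenFibreDim
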