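import Groth.Agent.L07.ClassGroupUFD
import Groth.Agent.L15.Ref.FreeLocus
import Groth.Agent.L15.Ref.InvDiv
import Groth.Agent.L03.ShStab.ExtTwistPn
import Groth.Agent.L21.Extend.Main
import Groth.Agent.L16.ProjSpace.Twist
import Groth.Agent.S5103

/-! # Principal hypersurfaces, factoriality and triviality of Picard groups -/

set_option autoImplicit false
set_option linter.style.haveILetI false
set_option maxSynthPendingDepth 3
set_option backward.isDefEq.respectTransparency false
set_option backward.isDefEq.respectTransparency.types false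

universe u

open CategoryTheory AlgebraicGeometry TopologicalSpace IsLocalRing

namespace Groth.L07.PicTFAE

open Groth.L15.CDivLib Groth.L07.DivPrincipal

variable {X : Scheme.{u}} [IsIntegral X] [IsLocallyNoetherian X]

/-- Every prime cycle of codimension one is principal. -/
def PrimesPrincipal (X : Scheme.{u}) [IsIntegral X] [IsLocallyNoetherian X] : Prop :=
  ∀ x₀ : X, Order.coheight x₀ = 1 → ∃ f : X.functionField, f ≠ 0 ∧
    Scheme.ord f x₀ = 1 ∧ ∀ x : X, x ≠ x₀ → Order.coheight x = 1 → Scheme.ord f x = 0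

theorem isNormal_of_ufd (hufd : ∀ x : X, UniqueFactorizationMonoid (X.presheaf.stalk x)) :
    Pi1.IsNormalScheme X := fun x => by
  haveI := hufd x
  exact ⟨inferInstance, inferInstance⟩

theorem ufd_of_primes (hX : Pi1.IsNormalScheme X) (h : PrimesPrincipal X) (x : X) :
    UniqueFactorizationMonoid (X.presheaf.stalk x) := by
  refine Groth.L07.LocFactorial.ufm_of_height_one fun P hP hP1 => ?_
  let q : Spec (X.presheaf.stalk x) := ⟨P, hP⟩
  let z := X.fromSpecStalk x q
  have hzx : z ⤳ x := by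
    have h1 : z ∈ Set.range (X.fromSpecStalk x) := ⟨q, rfl⟩
    rwa [Scheme.range_fromSpecStalk] at h1
  have hker : RingHom.ker (Cyc.specMap x z hzx) = P := ker_specMap_fromSpecStalk q hzx
  have hz1 : Order.coheight z = 1 := by
    have h1 := height_ker_specMap hzx
    rw [hker, hP1] at h1
    exact_mod_cast h1.symm
  obtain ⟨f, hf, hf1, hf0⟩ := h z hz1
  obtain ⟨a, -, ha⟩ := Groth.L07.ClassGroup.exists_generator_of_ord hX hzx hz1 hf
    fun w _ hc => ⟨fun e => by rw [e]; exact hf1, fun e => hf0 w e hc⟩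
  exact ⟨a, hker.symm.trans ha⟩

theorem am_eta (a : X.functionField) : am (genericPoint ↥X) a = a :=
  congr($(TopCat.Presheaf.stalkSpecializes_refl X.presheaf (genericPoint ↥X)) a)

theorem am_germ_eta {U : X.Opens} {x : X} (hx : x ∈ U) (hη : genericPoint ↥X ∈ U) (a : Γ(X, U)) :
    am x (X.presheaf.germ U x hx a) = X.presheaf.germ U (genericPoint ↥X) hη a :=
  (am_germ hx hη a).trans (am_eta _)

theorem ord_eq_one_of_span (hX : Pi1.IsNormalScheme X) {z : X} (hc : Order.coheight z = 1)
    {g : X.presheaf.stalk z} (hm : maximalIdeal (X.presheaf.stalk z) = Ideal.span {g}) :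
    Scheme.ord (am z g) z = 1 := by
  haveI := isDVR_of_coheight hX hc
  haveI : Ring.KrullDimLE 1 (X.presheaf.stalk z) := krullDimLE_of_coheight_le hc.le
  have hirr : Irreducible g := (IsDiscreteValuationRing.irreducible_iff_uniformizer _).2 hm
  rw [Scheme.ord_eq_iff hc ((map_ne_zero_iff _ (am_injective z)).2 hirr.ne_zero)]
  show Ring.ordFrac (X.presheaf.stalk z) (am z g) = _
  rw [Ring.ordFrac_eq_ord _ hirr.ne_zero, Ring.ordMonoidWithZeroHom_eq_coe _
    (mem_nonZeroDivisors_of_ne_zero hirr.ne_zero) (n := 1) (by rw [Ring.ord_of_irreducible hirr]; rfl)]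
  rfl

theorem primes_of_sections
    (h : ∀ ζ : X, Order.coheight ζ = 1 → ∃ g : Γ(X, ⊤),
      (∀ (x : X) (h : ζ ⤳ x),
        (maximalIdeal (X.presheaf.stalk ζ)).comap (X.presheaf.stalkSpecializes h).hom =
          Ideal.span {X.presheaf.germ ⊤ x trivial g}) ∧
      ∀ x : X, ¬ ζ ⤳ x → IsUnit (X.presheaf.germ ⊤ x trivial g)) :
    Pi1.IsNormalScheme X ∧ PrimesPrincipal X := by
  have hufd : ∀ x : X, UniqueFactorizationMonoid (X.presheaf.stalk x) := by
    intro x
    refine Groth.L07.LocFactorial.ufm_of_height_one fun P hP hP1 => ?_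
    let q : Spec (X.presheaf.stalk x) := ⟨P, hP⟩
    let z := X.fromSpecStalk x q
    have hzx : z ⤳ x := by
      have h1 : z ∈ Set.range (X.fromSpecStalk x) := ⟨q, rfl⟩
      rwa [Scheme.range_fromSpecStalk] at h1
    have hker : RingHom.ker (Cyc.specMap x z hzx) = P := ker_specMap_fromSpecStalk q hzx
    have hz1 : Order.coheight z = 1 := by
      have h1 := height_ker_specMap hzx
      rw [hker, hP1] at h1
      exact_mod_cast h1.symm
    obtain ⟨g, hg, -⟩ := h z hz1
    exact ⟨_, by rw [← hker, Groth.L07.LocFactorial.ker_specMap_eq hzx]; exact hg x hzx⟩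
  refine ⟨isNormal_of_ufd hufd, fun x₀ hx₀ => ?_⟩
  obtain ⟨g, hg, hgu⟩ := h x₀ hx₀
  have hm : maximalIdeal (X.presheaf.stalk x₀) = Ideal.span {X.presheaf.germ ⊤ x₀ trivial g} := by
    have h1 := hg x₀ specializes_rfl
    rw [TopCat.Presheaf.stalkSpecializes_refl] at h1
    exact h1
  have hord1 := ord_eq_one_of_span (isNormal_of_ufd hufd) hx₀ hm
  refine ⟨X.presheaf.germ ⊤ (genericPoint ↥X) trivial g, fun h0 => ?_, ?_, fun x hne hc => ?_⟩
  · rw [am_germ_eta (U := ⊤) trivial trivial g, h0] at hord1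
    simp at hord1
  · rw [← am_germ_eta (U := ⊤) trivial trivial g]; exact hord1
  · rw [← am_germ_eta (x := x) (U := ⊤) trivial trivial g]
    refine ord_eq_zero_of_isUnit (hgu x fun hsp => ?_)
    -- two points of codimension one, one specializing to the other, are equal
    refine hne (ker_specMap_injective specializes_rfl hsp ?_)
    haveI : Ring.KrullDimLE 1 (X.presheaf.stalk x) := krullDimLE_of_coheight_le hc.le
    have hmx : ∀ {z : X} (hz : z ⤳ x), Order.coheight z = 1 →
        RingHom.ker (Cyc.specMap x z hz) = maximalIdeal (X.presheaf.stalk x) := fun hz hc' =>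
      IsLocalRing.eq_maximalIdeal (Ring.krullDimLE_one_iff_of_noZeroDivisors.1 inferInstance _
        (ker_ne_bot hz hc') (RingHom.ker_isPrime _))
    rw [hmx _ hc, hmx _ hx₀]

theorem sections_of_primes (hX : Pi1.IsNormalScheme X) (h : PrimesPrincipal X) (ζ : X)
    (hζ : Order.coheight ζ = 1) :
    ∃ g : Γ(X, ⊤),
      (∀ (x : X) (h : ζ ⤳ x),
        (maximalIdeal (X.presheaf.stalk ζ)).comap (X.presheaf.stalkSpecializes h).hom =
          Ideal.span {X.presheaf.germ ⊤ x trivial g}) ∧
      ∀ x : X, ¬ ζ ⤳ x → IsUnit (X.presheaf.germ ⊤ x trivial g) := by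
  obtain ⟨f, hf, hf1, hf0⟩ := h ζ hζ
  have hnn : ∀ z : X, Order.coheight z = 1 → 0 ≤ Scheme.ord f z := by
    intro z hz
    by_cases e : z = ζ
    · rw [e, hf1]; decide
    · rw [hf0 z e hz]
  obtain ⟨n, hn⟩ := Groth.L15.Ref.exists_section hX Groth.L16.CohClosedPush.isCoh_structure
    Groth.L15.Ref.isReflexive_structureModule (W := ⊤)
    ((f : X.presheaf.stalk (genericPoint ↥X)) • Groth.L21.RR.one X (genericPoint ↥X)) fun z _ hz => by
      haveI := isDVR_of_coheight hX hz
      rw [← Groth.L15.Ref.toEta_one z]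
      exact Groth.L15.Ref.smul_gen_mem_range hz _ fun _ => hnn z hz
  let g : Γ(X, ⊤) := n
  have hg : X.presheaf.germ ⊤ (genericPoint ↥X) trivial g = f := by
    have h1 := hn trivial
    rw [show n = (show Γ(Coh.structureModule X, ⊤) from g) from rfl, Groth.L15.Ref.structure_germ_eq] at h1
    exact (Groth.L21.RR.bijective_smul_one (genericPoint ↥X)).1 h1
  have ham : ∀ x : X, am x (X.presheaf.germ ⊤ x trivial g) = f := fun x =>
    (am_germ_eta (U := ⊤) trivial trivial g).trans hg
  refine ⟨g, fun x hx => ?_, fun x hx => ?_⟩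
  · obtain ⟨a, ha, hP⟩ := Groth.L07.ClassGroup.exists_generator_of_ord hX hx hζ hf
      fun w _ hc => ⟨fun e => by rw [e]; exact hf1, fun e => hf0 w e hc⟩
    rw [← Groth.L07.LocFactorial.ker_specMap_eq hx, hP, am_injective x ((ham x).trans ha.symm)]
  · obtain ⟨b, hb⟩ := exists_am_of_ord_nonneg hX x (1 / Units.mk0 (G₀ := X.functionField) f hf) fun z hz hc => by
      rw [ord_units_div, Units.val_one, ord_one]
      show 0 ≤ 0 - Scheme.ord f z
      rw [hf0 z (fun e => hx (e ▸ hz)) hc]
      decide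
    refine IsUnit.of_mul_eq_one b (am_injective x ?_)
    rw [map_mul, ham x, hb, map_one, Units.val_div_eq_div_val, Units.val_one, Units.val_mk0, mul_one_div,
      div_self hf]

theorem picTrivial_of_primes [CompactSpace X] (hX : Pi1.IsNormalScheme X) (h : PrimesPrincipal X)
    (L : X.Modules) (hL : PicF.IsInvertible L) : Nonempty (L ≅ Coh.structureModule X) := by
  classical
  obtain ⟨v, hv⟩ := Groth.L15.Ref.exists_gen_eta (Groth.L15.Ref.isRef1_of_isInvertible hL).2.2
  let s : Cyc.secFibre L (genericPoint ↥X) := Submodule.Quotient.mk v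
  have hs : s ≠ 0 := fun h0 => by
    have h1 : v = 0 := (Groth.L15.SecOrd.mk_bijective L).1 (h0.trans (Submodule.Quotient.mk_zero _).symm)
    exact one_ne_zero (α := X.functionField) (hv.1 (a₁ := 1) (a₂ := 0) (by simp only [h1, smul_zero]))
  obtain ⟨D, hD0, hD⟩ := (Groth.Agent.S16087.result X hX).1 L (Groth.L15.Ref.isRef1_of_isInvertible hL) s hs
  have hfin : {z : X | D z ≠ 0}.Finite := by
    choose t ht hfin using fun z : X => D.supportLocallyFiniteWithinDomain' z trivial
    obtain ⟨T, -, hT⟩ := isCompact_univ.elim_nhds_subcover t fun z _ => ht z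
    refine ((Finset.finite_toSet T).biUnion fun z _ => hfin z).subset fun z hz => ?_
    obtain ⟨i, hi, hzi⟩ := Set.mem_iUnion₂.1 (hT (Set.mem_univ z))
    exact Set.mem_biUnion hi ⟨hzi, hz⟩
  have key : ∀ T : Finset X, (∀ z ∈ T, Order.coheight z = 1) → ∃ k : CDiv.KUnits X,
      ∀ z : X, Order.coheight z = 1 → Scheme.ord (k : X.functionField) z = if z ∈ T then D z else 0 := by
    intro T
    induction T using Finset.induction with
    | empty => exact fun _ => ⟨1, fun z _ => by rw [Units.val_one, ord_one, if_neg (Finset.notMem_empty z)]⟩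
    | insert w T hw ih =>
      intro hT
      obtain ⟨k, hk⟩ := ih fun z hz => hT z (Finset.mem_insert_of_mem hz)
      obtain ⟨f, hf, hf1, hf0⟩ := h w (hT w (Finset.mem_insert_self w T))
      refine ⟨(Units.mk0 (G₀ := X.functionField) f hf) ^ D w * k, fun z hz => ?_⟩
      rw [ord_units_mul, ord_units_zpow, Units.val_mk0, hk z hz]
      by_cases e : z = w
      · subst e
        rw [hf1, mul_one, if_neg hw, add_zero, if_pos (Finset.mem_insert_self z T)]
      · rw [hf0 z e hz, mul_zero, zero_add]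
        simp [Finset.mem_insert, e]
  obtain ⟨k, hk⟩ := key hfin.toFinset fun z hz => by
    by_contra hc
    exact (hfin.mem_toFinset.1 hz) (hD0 z hc)
  refine Groth.Agent.S5103.result X hX L hL s hs (k : X.functionField) k.ne_zero fun x hx => ?_
  rw [hk x hx]
  refine (hD x hx).symm.trans ?_
  split_ifs with hm
  · rfl
  · by_contra hne
    exact hm (hfin.mem_toFinset.2 hne)

theorem nonempty_iso_of_isEmpty (Y : Scheme.{u}) [IsEmpty Y] (L : Y.Modules) :
    Nonempty (L ≅ Coh.structureModule Y) := by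
  haveI hΓ : ∀ V : Y.Opens, Subsingleton Γ(Y, V) := fun V => by
    rw [show V = ⊥ from Opens.ext (Set.eq_empty_of_forall_notMem fun y _ => isEmptyElim y)]
    infer_instance
  haveI := Groth.L16.isIso_homOfSection (M := L) (0 : Γ(L, ⊤)) fun V => by
    haveI : Subsingleton Γ(L, V) := Module.subsingleton Γ(Y, V) _
    exact ⟨fun a b _ => Subsingleton.elim a b, fun b => ⟨0, Subsingleton.elim _ _⟩⟩
  exact ⟨(asIso (Groth.L16.homOfSection L (0 : Γ(L, ⊤)))).symm⟩

theorem picTrivial_open (hufd : ∀ x : X, UniqueFactorizationMonoid (X.presheaf.stalk x))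
    (hpic : ∀ L : X.Modules, PicF.IsInvertible L → Nonempty (L ≅ Coh.structureModule X))
    (U : X.Opens) (L : (U : Scheme.{u}).Modules) (hL : PicF.IsInvertible L) :
    Nonempty (L ≅ Coh.structureModule (U : Scheme.{u})) := by
  by_cases hne : (U : Set X).Nonempty
  swap
  · haveI : IsEmpty (U : Scheme.{u}) := ⟨fun y => hne ⟨y.1, y.2⟩⟩
    exact nonempty_iso_of_isEmpty _ L
  let M := (Scheme.Modules.pushforward U.ι).obj L
  have htop : U.ι ''ᵁ ⊤ = U := U.ι_image_top
  have hs : Groth.L21.Extend.SupportedOn M U := htop ▸ Groth.L14.ParaF.supportedOn_push U.ι (Groth.L14.ParaF.supportedOn_top L)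
  have hg : Groth.L21.Extend.GenOn M U := htop ▸ Groth.L14.ParaF.genOn_push U.ι (Groth.L14.ParaF.isInvertible_iff.1 hL)
  have hd : Dense (U : Set X) := U.2.dense hne
  obtain ⟨φ⟩ := hpic _ (Groth.L21.Extend.isInvertible_extMod hs hg hd fun x _ => hufd x)
  haveI := Groth.L21.Extend.isIso_restrict_extι hs hg hd (le_refl U)
  obtain ⟨W, e, hW⟩ : ∃ (W : X.Opens) (e : Γ(Groth.L21.Extend.extMod hs hg hd, W)),
      U ≤ W ∧ Groth.L21.Extend.IsGen (Groth.L21.Extend.extMod hs hg hd) W e := by
    obtain ⟨e, he⟩ := Groth.L21.Extend.exists_gen_of_iso (Groth.L21.Extend.extMod hs hg hd)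
      (O := ⊤) ((Scheme.Modules.restrictFunctor (⊤ : X.Opens).ι).mapIso φ ≪≫
        (Groth.L21.Extend.exists_iso_of_isGen (Coh.structureModule X) (e := (show Γ(Coh.structureModule X, ⊤) from (1 : Γ(X, ⊤))))
          (fun V h => by
            refine ⟨fun a b hab => ?_, fun b => ⟨b, ?_⟩⟩
            · have : ∀ c : Γ(X, V), c • Groth.L21.Extend.rs (Coh.structureModule X) h (show Γ(Coh.structureModule X, ⊤) from (1 : Γ(X, ⊤))) = (show Γ(Coh.structureModule X, V) from c) := fun c => by
                show c * X.presheaf.map (homOfLE h).op 1 = c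
                rw [map_one, mul_one]
              exact ((this a).symm.trans hab).trans (this b)
            · show (show Γ(X, V) from b) * X.presheaf.map (homOfLE h).op 1 = (show Γ(X, V) from b)
              rw [map_one, mul_one])).some)
    exact ⟨⊤, e, le_top, he⟩
  obtain ⟨ψ⟩ := Groth.L21.Extend.exists_iso_of_isGen _ (hW.2.restrict _ hW.1)
  exact ⟨((Scheme.Modules.restrictFunctorAdjCounitIso U.ι).app L).symm ≪≫
    (asIso ((Scheme.Modules.restrictFunctor U.ι).map (Groth.L21.Extend.extι hs hg hd))).symm ≪≫ ψ⟩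

theorem primes_of_picTrivial_open (hX : Pi1.IsNormalScheme X)
    (hpic : ∀ (U : X.Opens) (L : (U : Scheme.{u}).Modules),
      PicF.IsInvertible L → Nonempty (L ≅ Coh.structureModule (U : Scheme.{u}))) : PrimesPrincipal X := by
  classical
  intro x₀ hx₀
  let Z : X → ℤ := fun z => if z = x₀ then 1 else 0
  have hZ0 : ∀ x : X, Order.coheight x ≠ 1 → Z x = 0 := fun x hx => if_neg fun (e : x = x₀) => hx (by rw [e]; exact hx₀)
  let D : AlgebraicCycle X ℤ :=
    { toFun := Z
      supportWithinDomain' := fun _ _ => Set.mem_univ _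
      supportLocallyFiniteWithinDomain' := fun x _ => ⟨Set.univ, Filter.univ_mem,
        (Set.finite_singleton x₀).subset fun z hz => by_contra fun h => hz.2 (if_neg h)⟩ }
  obtain ⟨F, hF, s, hs, hsd⟩ := (Groth.Agent.S16087.result X hX).2 D hZ0
  obtain ⟨s', rfl⟩ := Submodule.mkQ_surjective _ s
  have hs' : s' ≠ 0 := fun h => hs (by rw [h, map_zero])
  have hbij := Groth.L15.Ref.bijective_smul_of_ne_zero hF.2.2 hs'
  let U : X.Opens := ⟨{x | FlatMod.IsFlatAt F x}, Groth.L15.Ref.isOpen_flatAt F hF.1⟩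
  have hmemU : ∀ x, PrincipalAt Z x → x ∈ U := fun x hp => by
    obtain ⟨u, hu⟩ := Groth.L07.ClassGroup.exists_stalk_generator hX hF hs' (Z := Z) (fun z hz => hsd z hz) x hp
    exact Module.Flat.of_linearEquiv (LinearEquiv.ofBijective (LinearMap.toSpanSingleton _ _ u) hu).symm
  have hηU : genericPoint ↥X ∈ U := hmemU _ ⟨1, one_ne_zero, fun z hc hz =>
    absurd ((hz.antisymm (genericPoint_specializes z)).eq) (ne_genericPoint_of_coheight_eq_one hc)⟩
  have hfl := Groth.L15.Ref.isFinLocFree_restrict F hF.1 U fun x hx => hx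
  have hinv : PicF.IsInvertible (F.restrict U.ι) := by
    refine Groth.L03.ShStab.ExtTwistPn.isInvertible_of_rank_one fun y => ?_
    obtain ⟨W, n, hyW, ⟨e⟩⟩ := hfl y
    have hη : genericPoint ↥X ∈ U.ι ''ᵁ W :=
      ((genericPoint_spec ↥X).mem_open_set_iff (U.ι ''ᵁ W).isOpen).mpr ⟨_, trivial, ⟨y, hyW, rfl⟩⟩
    obtain ⟨w, hw, hwη⟩ := hη
    obtain ⟨b⟩ := Groth.L15.Ref.exists_basis_stalk_of_iso (W.ι ≫ U.ι)
      ((Scheme.Modules.restrictFunctorComp W.ι U.ι).app F ≪≫ e) (⟨w, hw⟩ : W)
    have hrank : ∀ z : X, z = genericPoint ↥X → ∀ (_ : Module.Basis (Fin n) (X.presheaf.stalk z) (F.presheaf.stalk z)), n = 1 := by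
      rintro z rfl b'
      let b1 : Module.Basis (Fin 1) (X.presheaf.stalk (genericPoint ↥X)) (F.presheaf.stalk (genericPoint ↥X)) :=
        (Module.Basis.singleton (Fin 1) _).map (LinearEquiv.ofBijective (LinearMap.toSpanSingleton _ _ s') hbij)
      simpa using Fintype.card_congr (b'.indexEquiv b1)
    obtain rfl := hrank _ hwη b
    exact ⟨W, hyW, ⟨e⟩⟩
  obtain ⟨φ⟩ := hpic U _ hinv
  obtain ⟨e, he⟩ := Groth.L21.Extend.exists_gen_of_iso F φ
  have he' : Groth.L18.Frame.IsFrame F U e := he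
  obtain ⟨r, hr⟩ := Groth.L15.SecOrd.exists_smul_germ he' hηU s'
  have hr0 : (r : X.functionField) ≠ 0 := fun h => hs' (by rw [← hr, show r = 0 from h, zero_smul])
  have hord : ∀ z : X, Order.coheight z = 1 → Z z = Scheme.ord (r : X.functionField) z := by
    intro z hz
    have hzU : z ∈ U := hmemU z (principalAt_of_coheight_le_one hX Z z (by
      rw [ringKrullDim_stalk_eq_coheight, hz]; rfl))
    refine (hsd z hz).trans ?_
    rw [← hr]
    exact Groth.L15.SecOrd.secOrdAt_eq hz _ he' hzU hηU r hr0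
  refine ⟨r, hr0, ?_, fun x hne hx => ?_⟩
  · rw [← hord x₀ hx₀]; exact if_pos rfl
  · rw [← hord x hx]; exact if_neg hne

end Groth.L07.PicTFAE
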