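import Groth.Agent.L06.NormallyFlatDim
import Groth.Agent.L06.SupportStalk
import Groth.Agent.L22.Cyc.OrdGen
import Groth.Agent.L15.SecOrd
import Mathlib.RingTheory.TensorProduct.Quotient
import Mathlib.AlgebraicGeometry.Morphisms.ClosedImmersion

/-! Ranks of the graded pieces of a normally flat module are invariant under specialization. -/

set_option autoImplicit false
set_option maxSynthPendingDepth 3
set_option backward.isDefEq.respectTransparency false
set_option backward.isDefEq.respectTransparency.types false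
set_option linter.all false
noncomputable section
universe u
open IsLocalRing TensorProduct CategoryTheory AlgebraicGeometry

namespace Groth.L07.PoincareConst

/-- the fibre dimension of a graded piece -/
abbrev D (A : Type u) [CommRing A] [IsLocalRing A] (K : Ideal A) (M : Type u) [AddCommGroup M] [Module A M]
    (i : ℕ) : ℕ :=
  Module.finrank (A ⧸ maximalIdeal A)
    ((↥(K ^ i • (⊤ : Submodule A M)) ⧸ (K • (⊤ : Submodule A ↥(K ^ i • (⊤ : Submodule A M))))) ⧸
      (maximalIdeal A • (⊤ : Submodule A (↥(K ^ i • (⊤ : Submodule A M)) ⧸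
        (K • (⊤ : Submodule A ↥(K ^ i • (⊤ : Submodule A M))))))))

theorem finrank_of_equiv {A : Type u} [CommRing A] [IsLocalRing A] (K : Ideal A) (hK : K ≤ maximalIdeal A)
    (G : Type u) [AddCommGroup G] [Module A G] {a : ℕ} (e : G ≃ₗ[A] (Fin a → A ⧸ K)) :
    Module.finrank (A ⧸ maximalIdeal A) (G ⧸ (maximalIdeal A • (⊤ : Submodule A G))) = a := by
  classical
  let q : (A ⧸ K) →ₗ[A] A ⧸ maximalIdeal A := Submodule.factor hK
  let φ : G →ₗ[A] (Fin a → A ⧸ maximalIdeal A) :=
    (LinearMap.pi fun i => q ∘ₗ LinearMap.proj i) ∘ₗ e.toLinearMap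
  have hφ : Function.Surjective φ := by
    intro z
    choose w hw using fun i => Submodule.factor_surjective hK (z i)
    refine ⟨e.symm w, funext fun i => ?_⟩
    show q (e (e.symm w) i) = z i
    rw [e.apply_symm_apply]
    exact hw i
  have hker : LinearMap.ker φ = maximalIdeal A • (⊤ : Submodule A G) := by
    refine le_antisymm (fun x hx => ?_) (Submodule.smul_le.2 fun r hr x _ => ?_)
    · choose c hc using fun i => Submodule.Quotient.mk_surjective _ (e x i)
      have hcm : ∀ i, c i ∈ maximalIdeal A := fun i => by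
        have h1 : φ x i = 0 := congrFun hx i
        have h2 : φ x i = q (e x i) := rfl
        rw [h2, ← hc i] at h1
        exact Ideal.Quotient.eq_zero_iff_mem.1 h1
      have hx' : x = ∑ i, c i • e.symm (Pi.single i (Submodule.Quotient.mk 1)) := by
        apply e.injective
        rw [map_sum]
        simp only [map_smul, e.apply_symm_apply]
        funext j
        rw [Finset.sum_apply, Finset.sum_eq_single j (fun b _ hb => by simp [Pi.single_eq_of_ne hb.symm])
          (by simp)]
        rw [Pi.smul_apply, Pi.single_eq_same, ← Submodule.Quotient.mk_smul, smul_eq_mul, mul_one, hc]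
      rw [hx']
      exact Submodule.sum_mem _ fun i _ => Submodule.smul_mem_smul (hcm i) Submodule.mem_top
    · rw [LinearMap.mem_ker, map_smul]
      funext i
      show r • φ x i = 0
      obtain ⟨d, hd⟩ := Submodule.Quotient.mk_surjective _ (φ x i)
      rw [← hd, ← Submodule.Quotient.mk_smul]
      exact Ideal.Quotient.eq_zero_iff_mem.2 (Ideal.mul_mem_right _ _ hr)
  let ψ : (G ⧸ (maximalIdeal A • (⊤ : Submodule A G))) →ₗ[A] (Fin a → A ⧸ maximalIdeal A) :=
    Submodule.liftQ _ φ hker.ge
  have hψ : Function.Bijective ψ := ⟨by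
      rw [← LinearMap.ker_eq_bot]
      exact Submodule.ker_liftQ_eq_bot' _ _ hker.symm,
    fun z => by obtain ⟨x, hx⟩ := hφ z; exact ⟨Submodule.Quotient.mk x, hx⟩⟩
  let Ψ := LinearMap.extendScalarsOfSurjective (S := A ⧸ maximalIdeal A) Ideal.Quotient.mk_surjective ψ
  rw [(LinearEquiv.ofBijective Ψ hψ).finrank_eq, Module.finrank_fintype_fun_eq_card, Fintype.card_fin]

theorem localized_smul_top {A : Type u} [CommRing A] {B : Type u} [CommRing B] [Algebra A B] (S : Submonoid A)
    [IsLocalization S B] (J : Ideal A) {N NB : Type u} [AddCommGroup N] [Module A N] [AddCommGroup NB] [Module A NB]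
    [Module B NB] [IsScalarTower A B NB] (g : N →ₗ[A] NB) [IsLocalizedModule S g] :
    (J • (⊤ : Submodule A N)).localized' B S g = J.map (algebraMap A B) • ⊤ := by
  rw [Submodule.localized'_smul, Submodule.localized'_top, Submodule.localized'_eq_span]
  rfl

/-- localization keeps the ranks -/
theorem D_localized {A : Type u} [CommRing A] [IsNoetherianRing A] [IsLocalRing A] (K : Ideal A) (hK : K ≠ ⊤)
    (M : Type u) [AddCommGroup M] [Module A M] [Module.Finite A M] (hM : EGA4.IsNormallyFlat K M)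
    {B : Type u} [CommRing B] [IsLocalRing B] [Algebra A B] (S : Submonoid A) [IsLocalization S B]
    (K' : Ideal B) (hKK : K' = K.map (algebraMap A B)) (hK' : K' ≠ ⊤)
    (MB : Type u) [AddCommGroup MB] [Module A MB] [Module B MB] [IsScalarTower A B MB]
    (g : M →ₗ[A] MB) [IsLocalizedModule S g] (i : ℕ) :
    D B K' MB i = D A K M i := by
  obtain ⟨a, ⟨e⟩⟩ := Groth.L06.NormallyFlatDim.exists_basis K M hK hM i
  rw [show D A K M i = a from finrank_of_equiv K (le_maximalIdeal hK) _ e]
  have key : ∀ PB : Submodule B MB, (K ^ i • (⊤ : Submodule A M)).localized' B S g = PB →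
      Nonempty ((↥PB ⧸ (K' • (⊤ : Submodule B ↥PB))) ≃ₗ[B] (Fin a → B ⧸ K')) := by
    rintro _ rfl
    let g' := Submodule.toLocalized' B S g (K ^ i • (⊤ : Submodule A M))
    have hJ : (K • (⊤ : Submodule A ↥(K ^ i • (⊤ : Submodule A M)))).localized' B S g' = K' • ⊤ :=
      (localized_smul_top S K g').trans (by rw [hKK])
    let φ := ((Submodule.quotEquivOfEq _ _ hJ).toLinearMap.restrictScalars A) ∘ₗ
      Submodule.toLocalizedQuotient' B S g' (K • (⊤ : Submodule A ↥(K ^ i • (⊤ : Submodule A M))))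
    haveI : IsLocalizedModule S φ := IsLocalizedModule.of_linearEquiv S
      (Submodule.toLocalizedQuotient' B S g' (K • (⊤ : Submodule A ↥(K ^ i • (⊤ : Submodule A M)))))
      ((Submodule.quotEquivOfEq _ _ hJ).restrictScalars A)
    have hφ : IsBaseChange B φ := IsLocalizedModule.isBaseChange S B φ
    refine ⟨hφ.equiv.symm.trans ((AlgebraTensorModule.congr (LinearEquiv.refl B B) e).trans
      ((TensorProduct.piRight A B B fun _ : Fin a => A ⧸ K).trans
        (LinearEquiv.piCongrRight fun _ => ?_)))⟩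
    exact ((Algebra.TensorProduct.quotIdealMapEquivTensorQuot B K).symm.toLinearEquiv).trans
      ((Submodule.quotEquivOfEq _ _ hKK).symm)
  obtain ⟨e'⟩ := key (K' ^ i • ⊤) ((localized_smul_top S (K ^ i) g).trans (by rw [hKK, Ideal.map_pow]))
  exact finrank_of_equiv K' (le_maximalIdeal hK') _ e'

/-- the rank of a graded piece at a specialization equals the rank at the point -/
theorem D_eq_of_specializes {X : Scheme.{u}} [IsLocallyNoetherian X] (𝓘 : X.IdealSheafData)
    (F : X.Modules) (hF : Coh.IsCoh F) {η y : ↥𝓘.subscheme} (h : η ⤳ y)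
    [IsDomain ↑(𝓘.subscheme.presheaf.stalk y)]
    (hnf : EGA4.IsNormallyFlat (RingHom.ker (𝓘.subschemeι.stalkMap y).hom) ↑(F.presheaf.stalk (𝓘.subschemeι y)))
    (i : ℕ) :
    D ↑(X.presheaf.stalk (𝓘.subschemeι η)) (RingHom.ker (𝓘.subschemeι.stalkMap η).hom)
        ↑(F.presheaf.stalk (𝓘.subschemeι η)) i =
      D ↑(X.presheaf.stalk (𝓘.subschemeι y)) (RingHom.ker (𝓘.subschemeι.stalkMap y).hom)
        ↑(F.presheaf.stalk (𝓘.subschemeι y)) i := by
  haveI : Coh.IsQCoh F := hF.1
  let ι := 𝓘.subschemeι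
  have hX : ι η ⤳ ι y := h.map ι.continuous
  letI := (X.presheaf.stalkSpecializes hX).hom.toAlgebra
  letI : Module (X.presheaf.stalk (ι y)) (F.presheaf.stalk (ι η)) :=
    Module.compHom _ (X.presheaf.stalkSpecializes hX).hom
  haveI : IsScalarTower (X.presheaf.stalk (ι y)) (X.presheaf.stalk (ι η)) (F.presheaf.stalk (ι η)) :=
    IsScalarTower.of_algebraMap_smul fun _ _ => rfl
  let g : F.presheaf.stalk (ι y) →ₗ[X.presheaf.stalk (ι y)] F.presheaf.stalk (ι η) :=
    { toFun := fun v => F.presheaf.stalkSpecializes hX v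
      map_add' := fun a b => map_add _ a b
      map_smul' := fun r v => Groth.L15.SecOrd.stalkSpecializes_smul F hX r v }
  haveI : (RingHom.ker (Cyc.specMap (ι y) (ι η) hX)).IsPrime := RingHom.ker_isPrime _
  haveI hloc : IsLocalization.AtPrime (X.presheaf.stalk (ι η)) (RingHom.ker (Cyc.specMap (ι y) (ι η) hX)) :=
    Groth.L22.Cyc.isLocalization_stalkSpecializes hX
  obtain ⟨U, hU, hyU, -⟩ := exists_isAffineOpen_mem_and_subset (x := ι y) (U := (⊤ : X.Opens)) trivial
  have hηU : ι η ∈ U := hX.mem_open U.2 hyU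
  haveI hg : IsLocalizedModule (RingHom.ker (Cyc.specMap (ι y) (ι η) hX)).primeCompl g := by
    letI := X.presheaf.algebra_section_stalk (⟨ι y, hyU⟩ : U)
    letI : Algebra Γ(X, U) (X.presheaf.stalk (ι η)) := X.presheaf.algebra_section_stalk (⟨ι η, hηU⟩ : U)
    haveI : IsScalarTower Γ(X, U) (X.presheaf.stalk (ι y)) (X.presheaf.stalk (ι η)) :=
      IsScalarTower.of_algebraMap_eq' (congrArg CommRingCat.Hom.hom
        (X.presheaf.germ_stalkSpecializes (hy := hyU) hX)).symm
    letI := Groth.L20.ModStalk.stalkModule F hyU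
    letI := Groth.L20.ModStalk.stalkModule F hηU
    haveI := hU.isLocalization_stalk ⟨ι y, hyU⟩
    haveI : IsLocalization.AtPrime (X.presheaf.stalk (ι η)) (hU.primeIdealOf ⟨ι η, hηU⟩).asIdeal :=
      hU.isLocalization_stalk ⟨ι η, hηU⟩
    haveI := Groth.L20.ModStalk.isLocalizedModule_germ F hU hyU
    haveI := Groth.L20.ModStalk.isLocalizedModule_germ F hU hηU
    haveI : IsScalarTower Γ(X, U) (X.presheaf.stalk (ι y)) (F.presheaf.stalk (ι y)) :=
      IsScalarTower.of_algebraMap_smul fun _ _ => rfl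
    haveI : IsScalarTower Γ(X, U) (X.presheaf.stalk (ι η)) (F.presheaf.stalk (ι η)) :=
      IsScalarTower.of_algebraMap_smul fun _ _ => rfl
    haveI : IsScalarTower Γ(X, U) (X.presheaf.stalk (ι y)) (F.presheaf.stalk (ι η)) :=
      IsScalarTower.of_algebraMap_smul fun r v => by
        show algebraMap (X.presheaf.stalk (ι y)) (X.presheaf.stalk (ι η))
          (algebraMap Γ(X, U) (X.presheaf.stalk (ι y)) r) • v = _
        rw [← IsScalarTower.algebraMap_apply]
        rfl
    have hy : IsBaseChange (X.presheaf.stalk (ι y)) (Groth.L20.ModStalk.germₗ F hyU) :=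
      IsLocalizedModule.isBaseChange (hU.primeIdealOf ⟨ι y, hyU⟩).asIdeal.primeCompl _ _
    have he : IsBaseChange (X.presheaf.stalk (ι η)) (Groth.L20.ModStalk.germₗ F hηU) :=
      IsLocalizedModule.isBaseChange (hU.primeIdealOf ⟨ι η, hηU⟩).asIdeal.primeCompl _ _
    have hc : (g.restrictScalars Γ(X, U)) ∘ₗ Groth.L20.ModStalk.germₗ F hyU =
        Groth.L20.ModStalk.germₗ F hηU :=
      LinearMap.ext fun m => TopCat.Presheaf.germ_stalkSpecializes_apply F.presheaf (hy := hyU) hX m
    rw [isLocalizedModule_iff_isBaseChange (RingHom.ker (Cyc.specMap (ι y) (ι η) hX)).primeCompl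
      (X.presheaf.stalk (ι η)) g]
    exact IsBaseChange.of_comp hy (hc ▸ he)
  haveI : Module.Finite (X.presheaf.stalk (ι y)) (F.presheaf.stalk (ι y)) :=
    Groth.L06.SupportStalk.finite_stalk F hF _
  haveI : IsNoetherianRing (X.presheaf.stalk (ι y)) := inferInstance
  refine D_localized _ (RingHom.ker_ne_top _) _ hnf (RingHom.ker (Cyc.specMap (ι y) (ι η) hX)).primeCompl
    _ ?_ (RingHom.ker_ne_top _) _ g i
  letI := (𝓘.subscheme.presheaf.stalkSpecializes h).hom.toAlgebra
  haveI : (RingHom.ker (Cyc.specMap y η h)).IsPrime := RingHom.ker_isPrime _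
  haveI := Groth.L22.Cyc.isLocalization_stalkSpecializes h
  have hcomm : ∀ a, ι.stalkMap η (X.presheaf.stalkSpecializes hX a) =
      𝓘.subscheme.presheaf.stalkSpecializes h (ι.stalkMap y a) := fun a =>
    Scheme.Hom.stalkSpecializes_stalkMap_apply ι η y h a
  refine le_antisymm (fun s hs => ?_) (Ideal.map_le_iff_le_comap.2 fun a ha => ?_)
  · obtain ⟨⟨a, b⟩, hab⟩ := IsLocalization.surj (RingHom.ker (Cyc.specMap (ι y) (ι η) hX)).primeCompl s
    have hinj : Function.Injective (𝓘.subscheme.presheaf.stalkSpecializes h) :=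
      IsLocalization.injective (𝓘.subscheme.presheaf.stalk η)
        (Ideal.primeCompl_le_nonZeroDivisors (RingHom.ker (Cyc.specMap y η h)))
    have ha : a ∈ RingHom.ker (𝓘.subschemeι.stalkMap y).hom := by
      rw [RingHom.mem_ker]
      apply hinj
      rw [map_zero]
      refine (hcomm a).symm.trans ?_
      have h1 := congrArg (ι.stalkMap η).hom hab
      rw [map_mul, RingHom.mem_ker.1 hs, zero_mul] at h1
      exact h1.symm
    obtain ⟨v, hv⟩ := (IsLocalization.map_units (X.presheaf.stalk (ι η)) b :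
      IsUnit (algebraMap (X.presheaf.stalk (ι y)) (X.presheaf.stalk (ι η)) b))
    rw [show s = algebraMap (X.presheaf.stalk (ι y)) (X.presheaf.stalk (ι η)) a * ↑v⁻¹ by
      rw [Units.eq_mul_inv_iff_mul_eq, hv]; exact hab]
    exact Ideal.mul_mem_right _ _ (Ideal.mem_map_of_mem _ ha)
  · show (ι.stalkMap η).hom (X.presheaf.stalkSpecializes hX a) = 0
    refine (hcomm a).trans ?_
    rw [show ι.stalkMap y a = 0 from ha, map_zero]

end Groth.L07.PoincareConst
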