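import Mathlib.Topology.Constructible
import Mathlib.Topology.LocallyClosed
import Mathlib.Topology.Sets.Opens

/-!
Quasi-constructible, constructible and locally constructible subsets under quasi-homeomorphisms.
-/

set_option autoImplicit false
set_option linter.style.haveILetI false
set_option linter.unusedSectionVars false
set_option linter.unusedVariables false

universe u

open Topology Set

namespace Groth.L07.QCons

variable {X Y : Type u} [TopologicalSpace X] [TopologicalSpace Y]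

/-- A finite union of locally closed subsets. -/
def QC (Z : Set X) : Prop := ∃ T : Set (Set X), T.Finite ∧ (∀ t ∈ T, IsLocallyClosed t) ∧ Z = ⋃₀ T

/-- Locally a finite union of locally closed subsets. -/
def LQC (Z : Set X) : Prop := ∀ x : X, ∃ U : Set X, IsOpen U ∧ x ∈ U ∧ QC (U ∩ Z)

theorem qc_of_lc {t : Set X} (ht : IsLocallyClosed t) : QC t :=
  ⟨{t}, finite_singleton t, fun s hs => (mem_singleton_iff.mp hs) ▸ ht, (sUnion_singleton t).symm⟩

theorem qc_of_open {U : Set X} (h : IsOpen U) : QC U :=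
  qc_of_lc ⟨U, univ, h, isClosed_univ, (inter_univ U).symm⟩

theorem QC.union {A B : Set X} (hA : QC A) (hB : QC B) : QC (A ∪ B) := by
  obtain ⟨S, hS, hSl, rfl⟩ := hA
  obtain ⟨T, hT, hTl, rfl⟩ := hB
  exact ⟨S ∪ T, hS.union hT, fun t ht => ht.elim (hSl t) (hTl t), (sUnion_union S T).symm⟩

theorem QC.inter {A B : Set X} (hA : QC A) (hB : QC B) : QC (A ∩ B) := by
  obtain ⟨S, hS, hSl, rfl⟩ := hA
  obtain ⟨T, hT, hTl, rfl⟩ := hB
  refine ⟨(fun p : Set X × Set X => p.1 ∩ p.2) '' (S ×ˢ T), (hS.prod hT).image _, ?_, ?_⟩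
  · rintro _ ⟨⟨a, b⟩, ⟨ha, hb⟩, rfl⟩
    exact (hSl a ha).inter (hTl b hb)
  · ext x
    constructor
    · rintro ⟨⟨a, ha, hxa⟩, b, hb, hxb⟩
      exact ⟨_, ⟨(a, b), ⟨ha, hb⟩, rfl⟩, hxa, hxb⟩
    · rintro ⟨_, ⟨⟨a, b⟩, ⟨ha, hb⟩, rfl⟩, hxa, hxb⟩
      exact ⟨⟨a, ha, hxa⟩, b, hb, hxb⟩

theorem QC.compl {A : Set X} (hA : QC A) : QC Aᶜ := by
  obtain ⟨S, hS, hSl, rfl⟩ := hA
  induction S, hS using Set.Finite.induction_on with
  | empty => simpa using qc_of_open (X := X) isOpen_univ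
  | @insert a S _ _ ih =>
    rw [sUnion_insert, compl_union]
    obtain ⟨O, C, hO, hC, rfl⟩ := hSl a (mem_insert a S)
    refine QC.inter ?_ (ih fun t ht => hSl t (mem_insert_of_mem _ ht))
    rw [compl_inter]
    exact (qc_of_lc ⟨univ, Oᶜ, isOpen_univ, hO.isClosed_compl, (univ_inter _).symm⟩).union
      (qc_of_open hC.isOpen_compl)

theorem QC.preimage {f : X → Y} (hf : Continuous f) {A : Set Y} (hA : QC A) : QC (f ⁻¹' A) := by
  obtain ⟨S, hS, hSl, rfl⟩ := hA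
  refine ⟨Set.preimage f '' S, hS.image _, ?_, ?_⟩
  · rintro _ ⟨t, ht, rfl⟩; exact (hSl t ht).preimage hf
  · rw [Set.preimage_sUnion, sUnion_image]

theorem qc_image {f : X → Y} (hf : IsOpenEmbedding f) {A : Set X} (hA : QC A) : QC (f '' A) := by
  obtain ⟨S, hS, hSl, rfl⟩ := hA
  refine ⟨image f '' S, hS.image _, ?_, image_sUnion⟩
  rintro _ ⟨t, ht, rfl⟩
  exact (hSl t ht).image hf.isInducing ⟨range f, univ, hf.isOpen_range, isClosed_univ, (inter_univ _).symm⟩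

theorem QC.lqc {A : Set X} (hA : QC A) : LQC A :=
  fun x => ⟨univ, isOpen_univ, mem_univ x, by rwa [univ_inter]⟩

/-- The subspace form of local quasi-constructibility. -/
theorem lqc_iff_sub {Z : Set X} :
    LQC Z ↔ ∀ x : X, ∃ V : Set X, IsOpen V ∧ x ∈ V ∧ QC (Subtype.val ⁻¹' Z : Set V) := by
  refine forall_congr' fun x => exists_congr fun V => and_congr_right fun hV => and_congr_right fun _ => ?_
  constructor
  · intro h
    have := h.preimage (f := (Subtype.val : V → X)) continuous_subtype_val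
    rwa [preimage_inter, Subtype.coe_preimage_self, univ_inter] at this
  · intro h
    have := qc_image hV.isOpenEmbedding_subtypeVal h
    rwa [Subtype.image_preimage_coe] at this

theorem LQC.preimage {f : X → Y} (hf : Continuous f) {A : Set Y} (hA : LQC A) : LQC (f ⁻¹' A) :=
  fun x => let ⟨U, hU, hx, h⟩ := hA (f x); ⟨f ⁻¹' U, hU.preimage hf, hx, h.preimage hf⟩

theorem IsConstructible.qc {A : Set X} (hA : IsConstructible A) : QC A := by
  induction hA using IsConstructible.empty_union_induction with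
  | open_retrocompact U hUopen _ => exact qc_of_open hUopen
  | union s hs t ht hs' ht' => exact hs'.union ht'
  | compl s hs hs' => exact hs'.compl

theorem IsLocallyConstructible.lqc {A : Set X} (hA : IsLocallyConstructible A) : LQC A :=
  lqc_iff_sub.mpr fun x => let ⟨U, hx, hU, h⟩ := hA x; ⟨U, hU, mem_of_mem_nhds hx, IsConstructible.qc h⟩

section Dense

variable {f : X → Y} (hd : ∀ t : Set Y, IsLocallyClosed t → t.Nonempty → ∃ x, f x ∈ t)

include hd

theorem eq_of_preimage {A B : Set Y} (hA : LQC A) (hB : LQC B) (h : f ⁻¹' A = f ⁻¹' B) : A = B := by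
  suffices ∀ A B : Set Y, LQC A → LQC B → f ⁻¹' A = f ⁻¹' B → A ⊆ B from
    subset_antisymm (this A B hA hB h) (this B A hB hA h.symm)
  intro A B hA hB h y hy
  by_contra hyB
  obtain ⟨U, hU, hyU, hUA⟩ := hA y
  obtain ⟨V, hV, hyV, hVB⟩ := hB y
  obtain ⟨T, -, hTl, hT⟩ := (hUA.inter hVB.compl).inter (qc_of_open hV)
  obtain ⟨t, ht, hyt⟩ := hT.subset ⟨⟨⟨hyU, hy⟩, fun hh => hyB hh.2⟩, hyV⟩
  obtain ⟨x, hx⟩ := hd t (hTl t ht) ⟨y, hyt⟩
  obtain ⟨⟨⟨-, hxA⟩, hxB⟩, hxV⟩ := hT.ge ⟨t, ht, hx⟩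
  exact hxB ⟨hxV, (Set.ext_iff.mp h x).mp hxA⟩

theorem eq_univ_of_preimage {A : Set Y} (hA : IsOpen A) (h : f ⁻¹' A = univ) : A = univ :=
  eq_of_preimage hd (qc_of_open hA).lqc (qc_of_open isOpen_univ).lqc (by rw [h, preimage_univ])

end Dense

section QuasiHomeo

variable {f : X → Y} (hf : Continuous f) (hd : ∀ t : Set Y, IsLocallyClosed t → t.Nonempty → ∃ x, f x ∈ t)
  (ho : ∀ O : Set X, IsOpen O → ∃ O' : Set Y, IsOpen O' ∧ f ⁻¹' O' = O)

theorem dense_of_injective {f : X → Y}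
    (h : ∀ U V : Set Y, IsOpen U → IsOpen V → f ⁻¹' U = f ⁻¹' V → U = V)
    (t : Set Y) (ht : IsLocallyClosed t) (hne : t.Nonempty) : ∃ x, f x ∈ t := by
  by_contra hn
  push Not at hn
  obtain ⟨O, C, hO, hC, rfl⟩ := ht
  obtain ⟨y, hyO, hyC⟩ := hne
  have := h O (O ∩ Cᶜ) hO (hO.inter hC.isOpen_compl) (by
    ext x; exact ⟨fun hx => ⟨hx, fun hc => hn x ⟨hx, hc⟩⟩, fun hx => hx.1⟩)
  exact ((Set.ext_iff.mp this y).mp hyO).2 hyC

include ho

theorem exists_lc {t : Set X} (ht : IsLocallyClosed t) : ∃ t' : Set Y, IsLocallyClosed t' ∧ f ⁻¹' t' = t := by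
  obtain ⟨O, C, hO, hC, rfl⟩ := ht
  obtain ⟨O', hO', rfl⟩ := ho O hO
  obtain ⟨C', hC', he⟩ := ho Cᶜ hC.isOpen_compl
  refine ⟨O' ∩ C'ᶜ, ⟨O', C'ᶜ, hO', hC'.isClosed_compl, rfl⟩, ?_⟩
  rw [preimage_inter, preimage_compl, he, compl_compl]

theorem exists_qc {A : Set X} (hA : QC A) : ∃ A' : Set Y, QC A' ∧ f ⁻¹' A' = A := by
  obtain ⟨S, hS, hSl, rfl⟩ := hA
  choose g hg hg' using fun t : S => exists_lc ho (hSl t.1 t.2)
  haveI := hS.to_subtype
  refine ⟨⋃₀ range g, ⟨range g, finite_range g, forall_mem_range.mpr hg, rfl⟩, ?_⟩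
  rw [sUnion_range, preimage_iUnion, sUnion_eq_iUnion]
  exact iUnion_congr hg'

include hd

/-- Glue local lifts. -/
theorem glue {A : Set X} (V : X → Set Y) (Q : X → Set Y) (hV : ∀ x, IsOpen (V x)) (hxV : ∀ x, f x ∈ V x)
    (hQ : ∀ x, QC (Q x)) (hQV : ∀ x, f ⁻¹' (Q x) = f ⁻¹' V x ∩ A) :
    ∃ A' : Set Y, f ⁻¹' A' = A ∧ (∀ x, V x ∩ A' = V x ∩ Q x) ∧ ∀ y, ∃ x, y ∈ V x := by
  refine ⟨⋃ x, V x ∩ Q x, ?_, fun x => ?_, fun y => ?_⟩
  · ext z
    rw [preimage_iUnion]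
    constructor
    · rintro ⟨_, ⟨x, rfl⟩, h1, h2⟩
      exact ((Set.ext_iff.mp (hQV x) z).mp h2).2
    · exact fun hz => mem_iUnion.mpr ⟨z, hxV z, (Set.ext_iff.mp (hQV z) z).mpr ⟨hxV z, hz⟩⟩
  · refine subset_antisymm ?_ fun y hy => ⟨hy.1, mem_iUnion.mpr ⟨x, hy⟩⟩
    rintro y ⟨hy, hy'⟩
    obtain ⟨x', h1, h2⟩ := mem_iUnion.mp hy'
    have e := eq_of_preimage hd (((qc_of_open (hV x)).inter (qc_of_open (hV x'))).inter (hQ x')).lqc
      (((qc_of_open (hV x)).inter (qc_of_open (hV x'))).inter (hQ x)).lqc (by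
        ext z
        simp only [preimage_inter, hQV, mem_inter_iff]
        tauto)
    exact ⟨hy, ((Set.ext_iff.mp e y).mp ⟨⟨hy, h1⟩, h2⟩).2⟩
  · have h := eq_univ_of_preimage hd (isOpen_iUnion hV)
      (eq_univ_of_forall fun x => mem_iUnion.mpr ⟨x, hxV x⟩)
    exact mem_iUnion.mp (h.symm ▸ mem_univ y)

theorem exists_lqc {A : Set X} (hA : LQC A) : ∃ A' : Set Y, LQC A' ∧ f ⁻¹' A' = A := by
  choose U hU hxU hUA using hA
  choose V hV hVU using fun x => ho (U x) (hU x)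
  choose Q hQ hQA using fun x => exists_qc ho (hUA x)
  obtain ⟨A', h1, h2, h3⟩ := glue hd ho V Q hV (fun x => by
    show x ∈ f ⁻¹' V x
    rw [hVU]; exact hxU x) hQ (fun x => by rw [hQA, hVU])
  refine ⟨A', fun y => ?_, h1⟩
  obtain ⟨x, hx⟩ := h3 y
  exact ⟨V x, hV x, hx, h2 x ▸ (qc_of_open (hV x)).inter (hQ x)⟩

include hf

theorem isCompact_open_iff {U : Set Y} (hU : IsOpen U) : IsCompact U ↔ IsCompact (f ⁻¹' U) := by
  constructor <;> intro hc <;> refine isCompact_of_finite_subcover fun {ι} O hO hcov => ?_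
  · choose V hV hVO using fun i => ho (O i) (hO i)
    have e : U = U ∩ ⋃ i, V i := eq_of_preimage hd (qc_of_open hU).lqc
      (qc_of_open (hU.inter (isOpen_iUnion hV))).lqc (by
        rw [preimage_inter, preimage_iUnion, iUnion_congr hVO, inter_eq_left.mpr hcov])
    obtain ⟨t, ht⟩ := hc.elim_finite_subcover V hV (e ▸ inter_subset_right)
    refine ⟨t, fun x hx => ?_⟩
    obtain ⟨i, hi, hxi⟩ := mem_iUnion₂.mp (ht hx)
    exact mem_iUnion₂.mpr ⟨i, hi, hVO i ▸ hxi⟩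
  · obtain ⟨t, ht⟩ := hc.elim_finite_subcover (fun i => f ⁻¹' O i) (fun i => (hO i).preimage hf)
      (by rw [← preimage_iUnion]; exact preimage_mono hcov)
    refine ⟨t, ?_⟩
    have hO' : IsOpen (⋃ i ∈ t, O i) := isOpen_biUnion fun i _ => hO i
    have e : U = U ∩ ⋃ i ∈ t, O i := eq_of_preimage hd (qc_of_open hU).lqc
      (qc_of_open (hU.inter hO')).lqc (by
        simp only [preimage_inter, preimage_iUnion₂]
        exact (inter_eq_left.mpr ht).symm)
    exact e ▸ inter_subset_right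

theorem isRetrocompact_iff {U : Set Y} (hU : IsOpen U) : IsRetrocompact U ↔ IsRetrocompact (f ⁻¹' U) := by
  constructor
  · intro h V hc hV
    obtain ⟨V', hV', rfl⟩ := ho V hV
    exact (isCompact_open_iff hf hd ho (hU.inter hV')).mp (h ((isCompact_open_iff hf hd ho hV').mpr hc) hV')
  · intro h V hc hV
    exact (isCompact_open_iff hf hd ho (hU.inter hV)).mpr
      (h ((isCompact_open_iff hf hd ho hV).mp hc) (hV.preimage hf))

theorem constructible_preimage {A : Set Y} (hA : IsConstructible A) : IsConstructible (f ⁻¹' A) :=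
  hA.preimage hf fun _ hs h => (isRetrocompact_iff hf hd ho hs).mp h

theorem exists_constructible {A : Set X} (hA : IsConstructible A) :
    ∃ A' : Set Y, IsConstructible A' ∧ f ⁻¹' A' = A := by
  induction hA using IsConstructible.empty_union_induction with
  | open_retrocompact U hUopen hUcomp =>
    obtain ⟨U', hU', rfl⟩ := ho U hUopen
    exact ⟨U', ((isRetrocompact_iff hf hd ho hU').mpr hUcomp).isConstructible hU', rfl⟩
  | union s hs t ht hs' ht' =>
    obtain ⟨a, ha, rfl⟩ := hs'; obtain ⟨b, hb, rfl⟩ := ht'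
    exact ⟨a ∪ b, ha.union hb, preimage_union⟩
  | compl s hs hs' =>
    obtain ⟨a, ha, rfl⟩ := hs'
    exact ⟨aᶜ, ha.compl, preimage_compl⟩

end QuasiHomeo

section Restrict

variable {f : X → Y} (hd : ∀ t : Set Y, IsLocallyClosed t → t.Nonempty → ∃ x, f x ∈ t)
  (ho : ∀ O : Set X, IsOpen O → ∃ O' : Set Y, IsOpen O' ∧ f ⁻¹' O' = O) {V : Set Y} (hV : IsOpen V)

include hd hV in
theorem restrict_dense (t : Set V) (ht : IsLocallyClosed t) (hne : t.Nonempty) :
    ∃ x, V.restrictPreimage f x ∈ t := by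
  obtain ⟨T, hT, hT'⟩ := qc_image hV.isOpenEmbedding_subtypeVal (qc_of_lc ht)
  obtain ⟨y, hy⟩ := hne
  obtain ⟨s, hs, hys⟩ := hT'.2.subset (mem_image_of_mem _ hy)
  obtain ⟨x, hx⟩ := hd s (hT'.1 s hs) ⟨_, hys⟩
  obtain ⟨z, hz, he⟩ := hT'.2.ge ⟨s, hs, hx⟩
  have hxV : f x ∈ V := he ▸ z.2
  exact ⟨⟨x, hxV⟩, (show V.restrictPreimage f ⟨x, hxV⟩ = z from Subtype.ext he.symm) ▸ hz⟩

include ho in
theorem restrict_open (O : Set (f ⁻¹' V)) (hO : IsOpen O) :
    ∃ O' : Set V, IsOpen O' ∧ V.restrictPreimage f ⁻¹' O' = O := by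
  obtain ⟨P, hP, rfl⟩ := isOpen_induced_iff.mp hO
  obtain ⟨P', hP', rfl⟩ := ho P hP
  exact ⟨Subtype.val ⁻¹' P', hP'.preimage continuous_subtype_val, rfl⟩

end Restrict

section LocallyConstructible

variable {f : X → Y} (hf : Continuous f) (hd : ∀ t : Set Y, IsLocallyClosed t → t.Nonempty → ∃ x, f x ∈ t)
  (ho : ∀ O : Set X, IsOpen O → ∃ O' : Set Y, IsOpen O' ∧ f ⁻¹' O' = O)

include hf hd ho

theorem locallyConstructible_preimage {A : Set Y} (hA : IsLocallyConstructible A) :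
    IsLocallyConstructible (f ⁻¹' A) := by
  intro x
  obtain ⟨V, hxV, hV, h⟩ := hA (f x)
  exact ⟨f ⁻¹' V, hf.continuousAt hxV, hV.preimage hf,
    constructible_preimage (hf.restrictPreimage) (restrict_dense hd hV) (restrict_open ho) h⟩

theorem exists_locallyConstructible {A : Set X} (hA : IsLocallyConstructible A) :
    ∃ A' : Set Y, IsLocallyConstructible A' ∧ f ⁻¹' A' = A := by
  choose U hxU hU hUA using hA
  choose V hV hVU using fun x => ho (U x) (hU x)
  have step : ∀ x, ∃ C : Set (V x), IsConstructible C ∧ f ⁻¹' (Subtype.val '' C) = f ⁻¹' V x ∩ A := by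
    intro x
    have h := hUA x
    rw [← hVU x] at h
    obtain ⟨C, hC, hCA⟩ := exists_constructible hf.restrictPreimage (restrict_dense hd (hV x))
      (restrict_open ho) h
    refine ⟨C, hC, ?_⟩
    ext z
    constructor
    · rintro ⟨c, hc, he⟩
      have hz : f z ∈ V x := he ▸ c.2
      refine ⟨hz, ?_⟩
      refine (Set.ext_iff.mp hCA ⟨z, hz⟩).mp ?_
      show (V x).restrictPreimage f ⟨z, hz⟩ ∈ C
      rw [show (V x).restrictPreimage f ⟨z, hz⟩ = c from Subtype.ext he.symm]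
      exact hc
    · rintro ⟨hz, hzA⟩
      exact ⟨_, (Set.ext_iff.mp hCA ⟨z, hz⟩).mpr hzA, rfl⟩
  choose C hC hCA using step
  obtain ⟨A', h1, h2, h3⟩ := glue hd ho V (fun x => Subtype.val '' C x) hV (fun x => by
    show x ∈ f ⁻¹' V x
    rw [hVU]; exact mem_of_mem_nhds (hxU x))
    (fun x => qc_image (hV x).isOpenEmbedding_subtypeVal (IsConstructible.qc (hC x))) hCA
  refine ⟨A', fun y => ?_, h1⟩
  obtain ⟨x, hx⟩ := h3 y
  refine ⟨V x, (hV x).mem_nhds hx, hV x, ?_⟩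
  have e : (Subtype.val ⁻¹' A' : Set (V x)) = C x := by
    ext c
    refine Iff.trans ?_ (Subtype.val_injective.mem_set_image)
    exact ⟨fun h => ((Set.ext_iff.mp (h2 x) c.1).mp ⟨c.2, h⟩).2,
      fun h => ((Set.ext_iff.mp (h2 x) c.1).mpr ⟨c.2, h⟩).2⟩
  exact e ▸ hC x

end LocallyConstructible

end Groth.L07.QCons
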