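import Mathlib.Topology.Sheaves.Skyscraper
import Mathlib.Topology.Sheaves.SheafOfFunctions
import Mathlib.Topology.Sheaves.SheafCondition.UniqueGluing
import Mathlib.CategoryTheory.Sites.DenseSubsite.SheafEquiv
import Mathlib.CategoryTheory.Adjunction.FullyFaithful
import Mathlib.Algebra.Category.Grp.Limits
import Mathlib.Algebra.Category.Grp.FilteredColimits
import Mathlib.Algebra.Category.Grp.Zero
import Mathlib.Data.ZMod.Basic
import Mathlib.Algebra.Category.Grp.Colimits
import Mathlib.Algebra.Category.Grp.Abelian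
import Mathlib.CategoryTheory.Sites.DenseSubsite.Basic
import Mathlib.CategoryTheory.Sites.CoverPreserving
import Mathlib.CategoryTheory.Sites.Equivalence
import Mathlib.Tactic.TFAE

/-!
A continuous map of topological spaces induces a bijection on opens iff the inverse image
functor on sheaves of sets (resp. abelian groups) is an equivalence.
-/

set_option autoImplicit false
set_option linter.style.haveILetI false
universe u
open CategoryTheory CategoryTheory.Limits TopologicalSpace Opposite TopCat

namespace Groth.L07.QuasiHomeoSheaves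

variable {X₀ X : TopCat.{u}} (f : X₀ ⟶ X)

lemma map_isEquivalence
    (h : Function.Bijective (fun U : Opens X => (Opens.map f).obj U)) :
    (Opens.map f).IsEquivalence where
  faithful := ⟨fun _ => Subsingleton.elim _ _⟩
  full := ⟨fun {U V} g => by
    refine ⟨homOfLE ?_, Subsingleton.elim _ _⟩
    have : U ⊓ V = U := h.1 (Opens.ext (Set.inter_eq_left.mpr g.le))
    exact inf_eq_left.mp this⟩
  essSurj := ⟨fun V => ⟨(h.2 V).choose, ⟨eqToIso (h.2 V).choose_spec⟩⟩⟩

lemma map_isDenseSubsite
    (h : Function.Bijective (fun U : Opens X => (Opens.map f).obj U)) :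
    (Opens.map f).IsDenseSubsite (Opens.grothendieckTopology X)
      (Opens.grothendieckTopology X₀) := by
  haveI := map_isEquivalence f h
  refine { functorPushforward_mem_iff := fun {U S} => ?_ }
  constructor
  · intro hS
    let W : Opens X := sSup {V | ∃ g : V ⟶ U, S g}
    have hW : W ≤ U := sSup_le fun V ⟨g, _⟩ => g.le
    have e : (Opens.map f).obj W = (Opens.map f).obj U := by
      refine le_antisymm (leOfHom ((Opens.map f).map (homOfLE hW))) fun x hx => ?_
      obtain ⟨V, g, ⟨Z, a, b, hb, -⟩, hxV⟩ := hS x hx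
      exact Opens.mem_sSup.mpr ⟨Z, ⟨a, hb⟩, b.le hxV⟩
    intro y hy
    rw [← h.1 e] at hy
    obtain ⟨V, ⟨g, hg⟩, hyV⟩ := Opens.mem_sSup.mp hy
    exact ⟨V, g, hg, hyV⟩
  · intro hS x hx
    obtain ⟨V, g, hg, hV⟩ := hS (f x) hx
    exact ⟨(Opens.map f).obj V, (Opens.map f).map g, ⟨V, g, 𝟙 _, hg, (Category.id_comp _).symm⟩, hV⟩

/-- If the push-forward of sheaves is essentially surjective then `f⁻¹` is injective on opens. -/
lemma injective_of_essSurj {C : Type (u + 1)} [Category.{u} C] [HasTerminal C]
    (A : C) (hA : IsTerminal A → False) [hE : (Sheaf.pushforward C f).EssSurj] :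
    Function.Injective (fun U : Opens X => (Opens.map f).obj U) := by
  classical
  suffices key : ∀ U V : Opens X, U ≤ V → (Opens.map f).obj U = (Opens.map f).obj V → V ≤ U by
    intro U V e
    have e' : (Opens.map f).obj (U ⊓ V) = (Opens.map f).obj U := by
      ext x
      have := congrArg (fun W : Opens X₀ => x ∈ W) e
      simp only [eq_iff_iff] at this
      exact ⟨fun h => h.1, fun h => ⟨h, this.mp h⟩⟩
    exact le_antisymm ((key _ _ inf_le_left e').trans inf_le_right)
      ((key _ _ inf_le_right (e'.trans e)).trans inf_le_left)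
  intro U V hUV e y hyV
  by_contra hyU
  let S : Sheaf C X := skyscraperSheaf y A
  obtain ⟨G, ⟨i⟩⟩ := hE.mem_essImage S
  haveI : IsIso ((Opens.map f).map (homOfLE hUV)) :=
    ⟨eqToHom e.symm, Subsingleton.elim _ _, Subsingleton.elim _ _⟩
  let i' := (Sheaf.forget C X).mapIso i
  have hiso : IsIso (((Sheaf.pushforward C f).obj G).obj.map (homOfLE hUV).op) :=
    inferInstanceAs (IsIso (G.obj.map ((Opens.map f).map (homOfLE hUV)).op))
  haveI : IsIso ((skyscraperPresheaf y A).map (homOfLE hUV).op) :=
    (NatIso.isIso_map_iff i' (homOfLE hUV).op).mp hiso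
  refine hA ?_
  have hT : IsTerminal ((skyscraperPresheaf y A).obj (op U)) :=
    terminalIsTerminal.ofIso (eqToIso (if_neg hyU).symm)
  exact hT.ofIso ((asIso ((skyscraperPresheaf y A).map (homOfLE hUV).op)).symm ≪≫
    eqToIso (if_pos hyV))

/-- If the push-forward is full and `G` vanishes on subsets of `V`, then, at the image of a point
of `V`, the germ maps of `f_* G` factor through a terminal object. -/
lemma germ_factors {C : Type (u + 1)} [Category.{u} C] [HasTerminal C] [HasColimits C]
    [hF : (Sheaf.pushforward C f).Full] (G : Sheaf C X₀) (V : Opens X₀)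
    (hG : ∀ W, W ≤ V → IsTerminal (G.obj.obj (op W))) (x : X₀) (hx : x ∈ V) (U : Opens X)
    (hU : f x ∈ U) :
    ∃ (T : C) (_ : IsTerminal T) (a : ((Sheaf.pushforward C f).obj G).obj.obj (op U) ⟶ T) (c : T ⟶ _),
      TopCat.Presheaf.germ ((Sheaf.pushforward C f).obj G).obj U (f x) hU = a ≫ c := by
  classical
  let F : Presheaf C X := ((Sheaf.pushforward C f).obj G).obj
  let A := F.stalk (f x)
  let S : Sheaf C X₀ := skyscraperSheaf x A
  let ψ : (Sheaf.pushforward C f).obj G ⟶ (Sheaf.pushforward C f).obj S :=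
    ObjectProperty.homMk
      { app := fun W => if h : x ∈ (Opens.map f).obj W.unop then
            F.germ W.unop (f x) h ≫ eqToHom (if_pos h).symm
          else (terminalIsTerminal.ofIso (eqToIso (if_neg h).symm)).from _
        naturality := fun W W' i => by
          by_cases h : x ∈ (Opens.map f).obj W'.unop
          · have h' : x ∈ (Opens.map f).obj W.unop := i.unop.le h
            change F.map i ≫ dite _ _ _ = dite _ _ _ ≫ dite _ _ _
            erw [dif_pos h, dif_pos h', dif_pos (show x ∈ unop ((Opens.map f).op.obj W') from h),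
              Category.assoc, eqToHom_trans, ← Category.assoc, F.germ_res' i (f x) h]
          · exact (terminalIsTerminal.ofIso (eqToIso (if_neg h).symm)).hom_ext _ _ }
  obtain ⟨φ, hφ⟩ := hF.map_surjective ψ
  let W₀ := (Opens.map f).obj U
  let W₁ := W₀ ⊓ V
  have hx₁ : x ∈ W₁ := ⟨hU, hx⟩
  have h1 : φ.hom.app (op W₀) = ψ.hom.app (op U) := by rw [← hφ]; rfl
  have h2 : ψ.hom.app (op U) = F.germ U (f x) hU ≫ eqToHom (if_pos hU).symm := dif_pos hU
  have h3 := φ.hom.naturality (homOfLE (inf_le_left : W₁ ≤ W₀)).op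
  have h4 : S.obj.map (homOfLE (inf_le_left : W₁ ≤ W₀)).op =
      eqToHom ((if_pos hU).trans (if_pos hx₁).symm) := dif_pos hx₁
  refine ⟨_, hG W₁ inf_le_right, G.obj.map (homOfLE (inf_le_left : W₁ ≤ W₀)).op,
    φ.hom.app (op W₁) ≫ eqToHom (if_pos hx₁), ?_⟩
  refine Eq.symm ((Category.assoc _ _ _).symm.trans ?_)
  erw [h3, h1, h2, h4]
  erw [Category.assoc, Category.assoc, eqToHom_trans, eqToHom_trans]
  exact Category.comp_id _

variable (Z : Set X₀)

/-- Functions on a subset, as a presheaf on the whole space. -/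
abbrev funSheafTypes : Sheaf (Type u) X₀ :=
  TopCat.sheafToTypes X₀ fun x => PLift (x ∈ Z) → ULift.{u} (ZMod 2)

/-- `ZMod 2`-valued functions on a subset, as a presheaf of abelian groups. -/
def funPresheafAb : Presheaf AddCommGrpCat.{u} X₀ where
  obj U := AddCommGrpCat.of (∀ x : U.unop, PLift (x.1 ∈ Z) → ULift.{u} (ZMod 2))
  map {U V} i := AddCommGrpCat.ofHom
    (AddMonoidHom.mk' (fun g (x : V.unop) => g (i.unop x)) fun _ _ => rfl)

/-- `ZMod 2`-valued functions on a subset, as a sheaf of abelian groups. -/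
def funSheafAb : Sheaf AddCommGrpCat.{u} X₀ :=
  ⟨funPresheafAb Z, (Presheaf.isSheaf_iff_isSheaf_comp' (forget AddCommGrpCat) _).mpr
    (Presheaf.toTypes_isSheaf X₀ fun x => PLift (x ∈ Z) → ULift.{u} (ZMod 2))⟩

theorem tfae :
    [Function.Bijective (fun U : Opens X => (Opens.map f).obj U),
      (Sheaf.pullback (Type u) f).IsEquivalence,
      (Sheaf.pullback AddCommGrpCat.{u} f).IsEquivalence].TFAE := by
  classical
  tfae_have 1 → 2 := by
    intro h
    haveI := map_isDenseSubsite f h
    haveI : (Sheaf.pushforward (Type u) f).IsEquivalence :=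
      inferInstanceAs ((Opens.map f).sheafPushforwardContinuous _ _ _).IsEquivalence
    exact (Sheaf.pullbackPushforwardAdjunction (Type u) f).isEquivalence_left_of_isEquivalence_right
  tfae_have 1 → 3 := by
    intro h
    haveI := map_isDenseSubsite f h
    haveI : (Sheaf.pushforward AddCommGrpCat.{u} f).IsEquivalence :=
      inferInstanceAs ((Opens.map f).sheafPushforwardContinuous _ _ _).IsEquivalence
    exact (Sheaf.pullbackPushforwardAdjunction AddCommGrpCat.{u} f
      ).isEquivalence_left_of_isEquivalence_right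
  tfae_have 2 → 1 := by
    intro h
    haveI := (Sheaf.pullbackPushforwardAdjunction (Type u) f
      ).isEquivalence_right_of_isEquivalence_left
    refine ⟨injective_of_essSurj f (ULift.{u} (ZMod 2)) fun hT => ?_, fun V => ?_⟩
    · haveI := Types.isTerminalEquivUnique _ hT
      exact zero_ne_one (α := ZMod 2)
        (congrArg ULift.down (Subsingleton.elim (α := ULift.{u} (ZMod 2)) (ULift.up 0) (ULift.up.{u} 1)))
    let Z : Set X₀ := (↑V : Set X₀)ᶜ
    let W : Opens X := sSup {U | (Opens.map f).obj U ≤ V}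
    refine ⟨W, le_antisymm ?_ fun x hx => ?_⟩
    · intro x hx
      obtain ⟨U, hU, hxU⟩ := Opens.mem_sSup.mp hx
      exact hU hxU
    by_contra hxW
    let F : Presheaf (Type u) X := ((Sheaf.pushforward (Type u) f).obj (funSheafTypes Z)).obj
    have hG : ∀ W', W' ≤ V → IsTerminal ((funSheafTypes Z).obj.obj (op W')) := fun W' hW' =>
      (Types.isTerminalEquivUnique _).symm
        { default := fun _ _ => ⟨0⟩
          uniq := fun g => funext fun z => funext fun hz => absurd (hW' z.2) hz.down }
    obtain ⟨T, hT, a, c, e⟩ := germ_factors f (funSheafTypes Z) V hG x hx ⊤ (Opens.mem_top _)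
    haveI := Types.isTerminalEquivUnique _ hT
    have e2 := F.germ_eq (f x) (Opens.mem_top _) (Opens.mem_top _) (fun _ _ => ⟨0⟩) (fun _ _ => ⟨1⟩) (by
      rw [e]; exact congrArg c (Subsingleton.elim _ _))
    obtain ⟨U, hxU, iU, iV, h01⟩ := e2
    refine hxW (Opens.mem_sSup.mpr ⟨U, fun z hz => ?_, hxU⟩)
    by_contra hzV
    exact zero_ne_one (α := ZMod 2) (congrArg ULift.down (congrFun (congrFun h01 ⟨z, hz⟩) ⟨hzV⟩))
  tfae_have 3 → 1 := by
    intro h
    haveI := (Sheaf.pullbackPushforwardAdjunction AddCommGrpCat.{u} f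
      ).isEquivalence_right_of_isEquivalence_left
    refine ⟨injective_of_essSurj f (AddCommGrpCat.of (ULift.{u} (ZMod 2))) fun hT => ?_, fun V => ?_⟩
    · haveI := AddCommGrpCat.subsingleton_of_isZero (IsZero.of_iso (isZero_zero _)
        (hT.uniqueUpToIso HasZeroObject.zeroIsTerminal))
      exact zero_ne_one (α := ZMod 2)
        (congrArg ULift.down (Subsingleton.elim (α := ULift.{u} (ZMod 2)) (ULift.up 0) (ULift.up.{u} 1)))
    let Z : Set X₀ := (↑V : Set X₀)ᶜ
    let W : Opens X := sSup {U | (Opens.map f).obj U ≤ V}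
    refine ⟨W, le_antisymm ?_ fun x hx => ?_⟩
    · intro x hx
      obtain ⟨U, hU, hxU⟩ := Opens.mem_sSup.mp hx
      exact hU hxU
    by_contra hxW
    let F : Presheaf AddCommGrpCat.{u} X := ((Sheaf.pushforward AddCommGrpCat.{u} f).obj (funSheafAb Z)).obj
    have hG : ∀ W', W' ≤ V → IsTerminal ((funSheafAb Z).obj.obj (op W')) := fun W' hW' => by
      haveI : Subsingleton ((funPresheafAb Z).obj (op W')) :=
        ⟨fun g g' => funext fun z => funext fun hz => absurd (hW' z.2) hz.down⟩
      exact (AddCommGrpCat.isZero_of_subsingleton ((funPresheafAb Z).obj (op W'))).isTerminal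
    obtain ⟨T, hT, a, c, e⟩ := germ_factors f (funSheafAb Z) V hG x hx ⊤ (Opens.mem_top _)
    haveI := AddCommGrpCat.subsingleton_of_isZero (IsZero.of_iso (isZero_zero _)
        (hT.uniqueUpToIso HasZeroObject.zeroIsTerminal))
    have e2 := F.germ_eq (f x) (Opens.mem_top _) (Opens.mem_top _) (fun _ _ => ⟨0⟩) (fun _ _ => ⟨1⟩) (by
      rw [e]; exact congrArg c.hom (Subsingleton.elim _ _))
    obtain ⟨U, hxU, iU, iV, h01⟩ := e2
    refine hxW (Opens.mem_sSup.mpr ⟨U, fun z hz => ?_, hxU⟩)
    by_contra hzV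
    exact zero_ne_one (α := ZMod 2) (congrArg ULift.down (congrFun (congrFun h01 ⟨z, hz⟩) ⟨hzV⟩))
  tfae_finish

end Groth.L07.QuasiHomeoSheaves
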