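import Groth.Agent.L07.QuasiSmoothNoeth
import Groth.Agent.L07.H1Flat
import Groth.Agent.L07.SyntAlg

/-!
An algebra with a retraction cut out by a quasi-regular sequence is smooth along the retraction.
-/

set_option autoImplicit false
set_option linter.style.haveILetI false
set_option maxSynthPendingDepth 3
universe u

open TensorProduct

namespace Groth.L07.QuasiSmooth

/-- A polynomial is congruent to its value modulo the linear forms at the point. -/
theorem sub_C_eval_mem {d : ℕ} {R : Type u} [CommRing R] (e : Fin d → R) (P : MvPolynomial (Fin d) R) :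
    P - MvPolynomial.C (MvPolynomial.eval e P) ∈
      Ideal.span (Set.range fun i => MvPolynomial.X i - MvPolynomial.C (e i)) := by
  induction P using MvPolynomial.induction_on with
  | C a => simp
  | add p q hp hq => rw [map_add, map_add, add_sub_add_comm]; exact add_mem hp hq
  | mul_X p i hp =>
    rw [map_mul, MvPolynomial.eval_X, map_mul,
      show p * MvPolynomial.X i - MvPolynomial.C (MvPolynomial.eval e p) * MvPolynomial.C (e i) =
        (p - MvPolynomial.C (MvPolynomial.eval e p)) * MvPolynomial.X i +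
          MvPolynomial.C (MvPolynomial.eval e p) * (MvPolynomial.X i - MvPolynomial.C (e i)) by ring]
    exact add_mem (Ideal.mul_mem_right _ _ hp) (Ideal.mul_mem_left _ _ (Ideal.subset_span ⟨i, rfl⟩))

/-- The base change of a presented model. -/
theorem exists_baseChange_equiv {R₀ R A : Type u} [CommRing R₀] [CommRing R] [CommRing A] [Algebra R₀ R]
    [Algebra R A] [Algebra R₀ A] [IsScalarTower R₀ R A] {d : ℕ} (π : MvPolynomial (Fin d) R →ₐ[R] A)
    (hπ : Function.Surjective π) (K₀ : Ideal (MvPolynomial (Fin d) R₀))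
    (hK : ∀ P ∈ RingHom.ker π.toRingHom, P ∈ K₀.map (MvPolynomial.map (algebraMap R₀ R)))
    (ψ : (MvPolynomial (Fin d) R₀ ⧸ K₀) →ₐ[R₀] A)
    (hψ : ∀ P, ψ (Ideal.Quotient.mk K₀ P) = π (MvPolynomial.map (algebraMap R₀ R) P)) :
    ∃ Φ : R ⊗[R₀] (MvPolynomial (Fin d) R₀ ⧸ K₀) ≃ₐ[R] A, ∀ a, Φ (1 ⊗ₜ a) = ψ a := by
  let Φ : R ⊗[R₀] (MvPolynomial (Fin d) R₀ ⧸ K₀) →ₐ[R] A :=
    Algebra.TensorProduct.lift (Algebra.ofId R A) ψ fun _ _ => Commute.all _ _
  have hΦ : ∀ r a, Φ (r ⊗ₜ a) = algebraMap R A r * ψ a := fun r a => Algebra.TensorProduct.lift_tmul _ _ _ r a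
  let η : MvPolynomial (Fin d) R →ₐ[R] R ⊗[R₀] (MvPolynomial (Fin d) R₀ ⧸ K₀) :=
    MvPolynomial.aeval fun i => (1 : R) ⊗ₜ[R₀] Ideal.Quotient.mk K₀ (MvPolynomial.X i)
  have hη : ∀ P : MvPolynomial (Fin d) R₀,
      η (MvPolynomial.map (algebraMap R₀ R) P) = (1 : R) ⊗ₜ[R₀] Ideal.Quotient.mk K₀ P := fun P => by
    induction P using MvPolynomial.induction_on with
    | C a =>
      rw [MvPolynomial.map_C, MvPolynomial.aeval_C, Algebra.TensorProduct.algebraMap_apply, Algebra.algebraMap_self_apply,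
        show Ideal.Quotient.mk K₀ (MvPolynomial.C a) = algebraMap R₀ _ a from rfl,
        Algebra.algebraMap_eq_smul_one, Algebra.algebraMap_eq_smul_one, TensorProduct.smul_tmul]
    | add p q hp hq => rw [map_add, map_add, hp, hq, map_add, TensorProduct.tmul_add]
    | mul_X p i hp =>
      rw [map_mul, map_mul, hp, MvPolynomial.map_X, map_mul, MvPolynomial.aeval_X,
        Algebra.TensorProduct.tmul_mul_tmul, one_mul]
  have hηker : ∀ P ∈ RingHom.ker π.toRingHom, η P = 0 := fun P hP => by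
    have h1 : K₀.map (MvPolynomial.map (algebraMap R₀ R)) ≤ RingHom.ker η :=
      Ideal.map_le_iff_le_comap.mpr fun Q hQ => by
        rw [Ideal.mem_comap, RingHom.mem_ker, hη, Ideal.Quotient.eq_zero_iff_mem.mpr hQ, TensorProduct.tmul_zero]
    exact RingHom.mem_ker.mp (h1 (hK P hP))
  have hπΦ : Φ.comp η = π := MvPolynomial.algHom_ext fun i => by
    show Φ (η (MvPolynomial.X i)) = _
    rw [MvPolynomial.aeval_X, hΦ, map_one, one_mul, hψ, MvPolynomial.map_X]
  have hsurj : Function.Surjective Φ := fun a => by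
    obtain ⟨P, rfl⟩ := hπ a
    exact ⟨η P, DFunLike.congr_fun hπΦ P⟩
  have hηsurj : Function.Surjective η := by
    rw [← AlgHom.range_eq_top, eq_top_iff]
    rintro z -
    induction z using TensorProduct.induction_on with
    | zero => exact zero_mem _
    | tmul r a =>
      obtain ⟨P, rfl⟩ := Ideal.Quotient.mk_surjective a
      refine ⟨MvPolynomial.C r * MvPolynomial.map (algebraMap R₀ R) P, ?_⟩
      show η _ = _
      rw [map_mul, hη, MvPolynomial.aeval_C, Algebra.TensorProduct.algebraMap_apply, Algebra.algebraMap_self_apply,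
        Algebra.TensorProduct.tmul_mul_tmul, one_mul, mul_one]
    | add x y hx hy => exact add_mem hx hy
  have hΦinj : Function.Injective Φ := (injective_iff_map_eq_zero _).mpr fun z hz => by
    obtain ⟨P, rfl⟩ := hηsurj z
    refine hηker P (RingHom.mem_ker.mpr ?_)
    show π P = 0
    rw [← hπΦ]
    exact hz
  exact ⟨AlgEquiv.ofBijective Φ ⟨hΦinj, hsurj⟩, fun a => by
    show Φ (1 ⊗ₜ a) = _
    rw [hΦ, map_one, one_mul]⟩

/-- A Noetherian model of the data. -/
theorem exists_model {R A : Type u} [CommRing R] [CommRing A] [Algebra R A] [Algebra.FinitePresentation R A]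
    (ε : A →ₐ[R] R) {c : ℕ} (g : Fin c → A) (hg : CAlgX.IsQuasiRegular g)
    (hker : RingHom.ker ε = Ideal.span (Set.range g)) :
    ∃ (R₀ : Type u) (_ : CommRing R₀) (_ : IsNoetherianRing R₀) (_ : Algebra R₀ R) (A₀ : Type u) (_ : CommRing A₀)
      (_ : Algebra R₀ A₀) (_ : Algebra.FiniteType R₀ A₀) (ε₀ : A₀ →ₐ[R₀] R₀) (g₀ : Fin c → A₀)
      (Φ : (R ⊗[R₀] A₀) ≃ₐ[R] A), CAlgX.IsQuasiRegular g₀ ∧ RingHom.ker ε₀ = Ideal.span (Set.range g₀) ∧
        ∀ a, ε (Φ (1 ⊗ₜ a)) = algebraMap R₀ R (ε₀ a) := by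
  classical
  obtain ⟨d, π, hπ, hkπ⟩ := Algebra.FinitePresentation.out (R := R) (A := A)
  obtain ⟨s, hs⟩ := hkπ
  choose G hG using fun j => hπ (g j)
  let e : Fin d → R := fun i => ε (π (MvPolynomial.X i))
  -- the linear forms lie in the ideal of the lifts and the relations
  let L := Ideal.span (Set.range G ∪ (s : Set (MvPolynomial (Fin d) R)))
  have hL : L = (Ideal.span (Set.range g)).comap π.toRingHom := by
    have h1 : Ideal.span (Set.range g) = (Ideal.span (Set.range G)).map π.toRingHom := by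
      rw [Ideal.map_span, ← Set.range_comp]
      exact congrArg Ideal.span (congrArg Set.range (funext fun j => (hG j).symm))
    rw [h1, Ideal.comap_map_of_surjective π.toRingHom hπ, ← RingHom.ker_eq_comap_bot]
    show Ideal.span _ = _
    rw [Ideal.span_union]
    exact congrArg₂ (· ⊔ ·) rfl hs
  have hX : ∀ i, MvPolynomial.X i - MvPolynomial.C (e i) ∈ L := fun i => by
    rw [hL, Ideal.mem_comap, ← hker, RingHom.mem_ker]
    show ε (π (MvPolynomial.X i - MvPolynomial.C (e i))) = 0
    rw [map_sub, map_sub, ← MvPolynomial.algebraMap_eq, π.commutes, ε.commutes, Algebra.algebraMap_self_apply]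
    exact sub_self _
  let T : Finset (MvPolynomial (Fin d) R) := Finset.univ.image G ∪ s
  have hT : L = Ideal.span (T : Set (MvPolynomial (Fin d) R)) := by
    simp only [T, L, Finset.coe_union, Finset.coe_image, Finset.coe_univ, Set.image_univ]
  have hw : ∀ i, ∃ w : MvPolynomial (Fin d) R → MvPolynomial (Fin d) R,
      ∑ t ∈ T, w t * t = MvPolynomial.X i - MvPolynomial.C (e i) := fun i => by
    have h := hX i
    rw [hT, Ideal.span] at h
    obtain ⟨w, -, hw⟩ := Submodule.mem_span_finset.1 h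
    exact ⟨w, hw⟩
  choose w hw using hw
  let polys : Finset (MvPolynomial (Fin d) R) := T ∪ Finset.univ.biUnion fun i => T.image (w i)
  let W : Finset R := polys.biUnion MvPolynomial.coeffs ∪ Finset.univ.image e
  let R₀ := Algebra.adjoin ℤ (W : Set R)
  haveI : IsNoetherianRing R₀ := by
    haveI : Algebra.FiniteType ℤ R₀ := R₀.fg_iff_finiteType.mp ⟨W, rfl⟩
    exact Algebra.FiniteType.isNoetherianRing ℤ R₀
  have hW : ∀ a ∈ W, a ∈ Set.range (algebraMap R₀ R) := fun a ha => ⟨⟨a, Algebra.subset_adjoin ha⟩, rfl⟩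
  have hinj : Function.Injective (MvPolynomial.map (σ := Fin d) (algebraMap R₀ R)) :=
    MvPolynomial.map_injective _ Subtype.val_injective
  have hlift : ∀ p ∈ polys, ∃ p' : MvPolynomial (Fin d) R₀, MvPolynomial.map (algebraMap R₀ R) p' = p :=
    fun p hp => Groth.L07.H1Flat.exists_map_eq hW p
      ((Finset.subset_biUnion_of_mem MvPolynomial.coeffs hp).trans Finset.subset_union_left)
  choose! lft hlft using hlift
  choose e₀ he₀ using fun i => hW (e i) (Finset.mem_union_right _ (Finset.mem_image_of_mem e (Finset.mem_univ i)))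
  have hTp : ∀ t ∈ T, t ∈ polys := fun t ht => Finset.mem_union_left _ ht
  have hsT : ∀ t ∈ s, t ∈ T := fun t ht => Finset.mem_union_right _ ht
  have hGT : ∀ j, G j ∈ T := fun j => Finset.mem_union_left _ (Finset.mem_image_of_mem G (Finset.mem_univ j))
  let K₀ : Ideal (MvPolynomial (Fin d) R₀) := Ideal.span (lft '' (s : Set (MvPolynomial (Fin d) R)))
  let g₀ : Fin c → MvPolynomial (Fin d) R₀ ⧸ K₀ := fun j => Ideal.Quotient.mk K₀ (lft (G j))
  have heval : ∀ P : MvPolynomial (Fin d) R₀,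
      algebraMap R₀ R (MvPolynomial.eval e₀ P) = ε (π (MvPolynomial.map (algebraMap R₀ R) P)) := fun P => by
    induction P using MvPolynomial.induction_on with
    | C a =>
      rw [MvPolynomial.eval_C, MvPolynomial.map_C, ← MvPolynomial.algebraMap_eq, π.commutes, ε.commutes,
        Algebra.algebraMap_self_apply]
    | add p q hp hq => rw [map_add, map_add, map_add, map_add, map_add, hp, hq]
    | mul_X p i hp => rw [map_mul, map_mul, map_mul, map_mul, map_mul, MvPolynomial.eval_X, hp, he₀, MvPolynomial.map_X]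
  have hK₀ : ∀ P ∈ K₀, MvPolynomial.aeval (R := R₀) e₀ P = 0 := fun P hP => by
    refine Submodule.span_induction (p := fun P _ => MvPolynomial.aeval (R := R₀) e₀ P = 0) ?_ (map_zero _)
      (fun a b _ _ ha hb => by rw [map_add, ha, hb, add_zero])
      (fun r a _ ha => by rw [smul_eq_mul, map_mul, ha, mul_zero]) hP
    rintro _ ⟨t, ht, rfl⟩
    apply Subtype.val_injective
    rw [MvPolynomial.aeval_eq_eval]
    show algebraMap R₀ R (MvPolynomial.eval e₀ (lft t)) = _
    rw [heval, hlft t (hTp t (hsT t ht)), show π t = 0 from RingHom.mem_ker.mp (hs ▸ Ideal.subset_span ht), map_zero]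
    rfl
  let ε₀ : (MvPolynomial (Fin d) R₀ ⧸ K₀) →ₐ[R₀] R₀ := Ideal.Quotient.liftₐ K₀ (MvPolynomial.aeval e₀) hK₀
  let ψ : (MvPolynomial (Fin d) R₀ ⧸ K₀) →ₐ[R₀] A :=
    Ideal.Quotient.liftₐ K₀ ((π.restrictScalars R₀).comp (MvPolynomial.mapAlgHom (Algebra.ofId R₀ R))) fun P hP => by
      refine Submodule.span_induction
        (p := fun P _ => ((π.restrictScalars R₀).comp (MvPolynomial.mapAlgHom (Algebra.ofId R₀ R))) P = 0) ?_ (map_zero _)
        (fun a b _ _ ha hb => by rw [map_add, ha, hb, add_zero])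
        (fun r a _ ha => by rw [smul_eq_mul, map_mul, ha, mul_zero]) hP
      rintro _ ⟨t, ht, rfl⟩
      show π (MvPolynomial.map (algebraMap R₀ R) (lft t)) = 0
      rw [hlft t (hTp t (hsT t ht))]
      exact RingHom.mem_ker.mp (hs ▸ Ideal.subset_span ht)
  have hψ : ∀ P, ψ (Ideal.Quotient.mk K₀ P) = π (MvPolynomial.map (algebraMap R₀ R) P) := fun P => rfl
  have hεψ : ∀ a, ε (ψ a) = algebraMap R₀ R (ε₀ a) := fun a => by
    obtain ⟨P, rfl⟩ := Ideal.Quotient.mk_surjective a
    rw [hψ, ← heval]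
    show _ = algebraMap R₀ R (MvPolynomial.aeval e₀ P)
    rw [MvPolynomial.aeval_eq_eval]
  have hψg : ∀ j, ψ (g₀ j) = g j := fun j => by
    show π (MvPolynomial.map (algebraMap R₀ R) (lft (G j))) = _
    rw [hlft _ (hTp _ (hGT j)), hG]
  have hker₀ : RingHom.ker ε₀ = Ideal.span (Set.range g₀) := by
    refine le_antisymm (fun a ha => ?_) (Ideal.span_le.mpr ?_)
    · obtain ⟨P, rfl⟩ := Ideal.Quotient.mk_surjective a
      have h0 : MvPolynomial.eval e₀ P = 0 := by
        have : MvPolynomial.aeval (R := R₀) e₀ P = 0 := RingHom.mem_ker.mp ha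
        rwa [MvPolynomial.aeval_eq_eval] at this
      have h1 := sub_C_eval_mem e₀ P
      rw [h0, map_zero, sub_zero] at h1
      have h2 : Ideal.span (Set.range fun i => MvPolynomial.X i - MvPolynomial.C (e₀ i)) ≤
          Ideal.span (lft '' (T : Set (MvPolynomial (Fin d) R))) := by
        rw [Ideal.span_le]
        rintro _ ⟨i, rfl⟩
        show MvPolynomial.X i - MvPolynomial.C (e₀ i) ∈ Ideal.span (lft '' (T : Set (MvPolynomial (Fin d) R)))
        have h3 : MvPolynomial.X i - MvPolynomial.C (e₀ i) = ∑ t ∈ T, lft (w i t) * lft t := hinj (by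
          rw [map_sub, MvPolynomial.map_X, MvPolynomial.map_C, he₀, map_sum, ← hw i]
          refine Finset.sum_congr rfl fun t ht => ?_
          rw [map_mul, hlft t (hTp t ht), hlft (w i t) (Finset.mem_union_right _
            (Finset.mem_biUnion.mpr ⟨i, Finset.mem_univ i, Finset.mem_image_of_mem _ ht⟩))])
        rw [h3]
        exact Ideal.sum_mem _ fun t ht => Ideal.mul_mem_left _ _ (Ideal.subset_span ⟨t, ht, rfl⟩)
      have h4 := Ideal.mem_map_of_mem (Ideal.Quotient.mk K₀) (h2 h1)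
      refine (Ideal.map_le_iff_le_comap.mpr (Ideal.span_le.mpr ?_)) h4
      rintro _ ⟨t, ht, rfl⟩
      rcases Finset.mem_union.mp ht with ht | ht
      · obtain ⟨j, -, rfl⟩ := Finset.mem_image.mp ht
        exact Ideal.subset_span ⟨j, rfl⟩
      · refine SetLike.mem_coe.mpr (Ideal.mem_comap.mpr ?_)
        rw [Ideal.Quotient.eq_zero_iff_mem.mpr (show lft t ∈ K₀ from Ideal.subset_span (Set.mem_image_of_mem lft ht))]
        exact zero_mem _
    · rintro _ ⟨j, rfl⟩
      rw [SetLike.mem_coe, RingHom.mem_ker]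
      apply Subtype.val_injective
      show algebraMap R₀ R (ε₀ (g₀ j)) = _
      rw [← hεψ, hψg, RingHom.mem_ker.mp (hker ▸ Ideal.subset_span ⟨j, rfl⟩ : g j ∈ RingHom.ker ε)]
      rfl
  have hqr : CAlgX.IsQuasiRegular g₀ := by
    intro n P hP hval m
    rw [← hker₀, RingHom.mem_ker]
    apply Subtype.val_injective
    show algebraMap R₀ R (ε₀ (MvPolynomial.coeff m P)) = _
    rw [← hεψ]
    have h1 : MvPolynomial.eval g (MvPolynomial.map ψ.toRingHom P) ∈ Ideal.span (Set.range g) ^ (n + 1) := by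
      have h2 : (Ideal.span (Set.range g₀)).map ψ.toRingHom = Ideal.span (Set.range g) := by
        rw [Ideal.map_span, ← Set.range_comp]
        exact congrArg Ideal.span (congrArg Set.range (funext hψg))
      have h3 := Ideal.mem_map_of_mem ψ.toRingHom hval
      rw [Ideal.map_pow, h2] at h3
      convert h3 using 1
      rw [MvPolynomial.eval_map, show g = fun j => ψ.toRingHom (g₀ j) from funext fun j => (hψg j).symm]
      exact (MvPolynomial.eval₂_comp ψ.toRingHom g₀ P).symm
    have h4 := hg n (MvPolynomial.map ψ.toRingHom P) (hP.map ψ.toRingHom) h1 m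
    rw [MvPolynomial.coeff_map, ← hker] at h4
    exact RingHom.mem_ker.mp h4
  haveI : Algebra.FiniteType R₀ (MvPolynomial (Fin d) R₀ ⧸ K₀) :=
    Algebra.FiniteType.of_surjective (Ideal.Quotient.mkₐ R₀ K₀) Ideal.Quotient.mk_surjective
  obtain ⟨Φ, hΦ⟩ := exists_baseChange_equiv π hπ K₀ (fun P hP => by
      rw [← hs] at hP
      refine (Ideal.span_le.mpr fun u hu => ?_) hP
      rw [SetLike.mem_coe, ← hlft u (hTp u (hsT u hu))]
      exact Ideal.mem_map_of_mem _ (show lft u ∈ K₀ from Ideal.subset_span (Set.mem_image_of_mem lft hu))) ψ hψ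
  refine ⟨R₀, inferInstance, inferInstance, inferInstance, MvPolynomial (Fin d) R₀ ⧸ K₀, inferInstance, inferInstance,
    inferInstance, ε₀, g₀, Φ, hqr, hker₀, fun a => ?_⟩
  rw [hΦ, hεψ]

/-- A retraction cut out by a quasi-regular sequence lies in the smooth locus. -/
theorem isSmoothAt_of_quasiRegular {R A : Type u} [CommRing R] [CommRing A] [Algebra R A]
    [Algebra.FinitePresentation R A] (ε : A →ₐ[R] R) {c : ℕ} (g : Fin c → A) (hg : CAlgX.IsQuasiRegular g)
    (hker : RingHom.ker ε = Ideal.span (Set.range g)) (q : Ideal A) [q.IsPrime] (hq : RingHom.ker ε ≤ q) :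
    Algebra.IsSmoothAt R q := by
  obtain ⟨R₀, _, _, _, A₀, _, _, _, ε₀, g₀, Φ, hqr, hker₀, hcomm⟩ := exists_model ε g hg hker
  haveI : Algebra.FinitePresentation R₀ A₀ := Algebra.FinitePresentation.of_finiteType.mp inferInstance
  let ι : A₀ →+* A := Φ.toRingEquiv.toRingHom.comp (Algebra.TensorProduct.includeRight : A₀ →ₐ[R₀] R ⊗[R₀] A₀).toRingHom
  let q₀ := q.comap ι
  haveI : q₀.IsPrime := Ideal.IsPrime.comap _
  have hq₀ : RingHom.ker ε₀ ≤ q₀ := fun a ha => hq (by
    rw [RingHom.mem_ker]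
    show ε (Φ (1 ⊗ₜ a)) = 0
    rw [hcomm, RingHom.mem_ker.mp ha, map_zero])
  haveI := isSmoothAt_noetherian ε₀ g₀ hqr hker₀ q₀ hq₀
  obtain ⟨h, hh, hsm⟩ := Algebra.IsSmoothAt.exists_notMem_smooth R₀ q₀
  haveI := hsm
  haveI : Algebra.Smooth R (R ⊗[R₀] Localization.Away h) := inferInstance
  haveI : Algebra.Smooth R (Localization.Away ((1 : R) ⊗ₜ[R₀] h)) :=
    Algebra.Smooth.of_equiv (IsLocalization.Away.tensorProductEquivTMulRight R₀ R h (Localization.Away h))
  obtain ⟨e⟩ := Groth.L07.SyntAlg.nonempty_awayCongr Φ ((1 : R) ⊗ₜ[R₀] h)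
  haveI : Algebra.Smooth R (Localization.Away (Φ ((1 : R) ⊗ₜ[R₀] h))) := Algebra.Smooth.of_equiv e
  exact Algebra.basicOpen_subset_smoothLocus_iff_smooth.mpr inferInstance
    (show (⟨q, inferInstance⟩ : PrimeSpectrum A) ∈ PrimeSpectrum.basicOpen (Φ ((1 : R) ⊗ₜ[R₀] h)) from hh)

end Groth.L07.QuasiSmooth
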