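import Groth.Agent.L02.SchDom.Apply
import Groth.Prelude.Def_CInt

/-!
Schematically dense opens and flat morphisms locally of finite presentation (EGA IV 11.10.5).
-/

universe u

open CategoryTheory CategoryTheory.Limits AlgebraicGeometry TopologicalSpace

namespace Groth.L07.SchDenseFlat

set_option linter.style.haveILetI false
set_option backward.isDefEq.respectTransparency.types false

variable {X : Scheme.{u}}

theorem app_ι_eq_zero_iff (U W : X.Opens) (t : Γ(X, W)) :
    U.ι.app W t = 0 ↔ X.presheaf.map (homOfLE (inf_le_left : W ⊓ U ≤ W)).op t = 0 := by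
  have e : U.ι ''ᵁ (U.ι ⁻¹ᵁ W) = W ⊓ U := by
    rw [Scheme.Hom.image_preimage_eq_opensRange_inf, Scheme.Opens.opensRange_ι, inf_comm]
  rw [Scheme.Opens.ι_app]
  refine (map_eq_zero_iff (X.presheaf.map (eqToHom e.symm).op).hom ?_).symm.trans ?_
  · exact (ConcreteCategory.bijective_of_isIso (X.presheaf.map (eqToHom e.symm).op)).injective
  · erw [← CommRingCat.comp_apply, ← Functor.map_comp]
    rfl

theorem isSchematicallyDense_iff_dom (U : X.Opens) :
    CInt.IsSchematicallyDense U ↔ Groth.L02.SchDom.Dom (fun _ : PUnit.{u + 1} => U.ι) := by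
  refine ⟨fun h W t ht => ?_, fun h W => ?_⟩
  · exact h W (((app_ι_eq_zero_iff U W t).mp (ht ⟨⟩)).trans (map_zero _).symm)
  · rw [injective_iff_map_eq_zero]
    exact fun t ht => h W t fun _ => (app_ι_eq_zero_iff U W t).mpr ht

theorem isSchematicallyDense_preimage {X' : Scheme.{u}} (f : X' ⟶ X) [Flat f]
    [LocallyOfFinitePresentation f] (V : X.Opens) (hV : CInt.IsSchematicallyDense V) :
    CInt.IsSchematicallyDense (f ⁻¹ᵁ V) := by
  have H := ((isSchematicallyDense_iff_dom V).mp hV).pullback_flat_lfp f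
  refine (isSchematicallyDense_iff_dom _).mpr fun W t ht => H W t fun i => ?_
  have hP := isPullback_morphismRestrict f V
  have hfac : pullback.snd V.ι f = (hP.isoPullback.inv) ≫ (f ⁻¹ᵁ V).ι :=
    hP.isoPullback_inv_snd.symm
  change (pullback.snd V.ι f).app W t = 0
  rw [Scheme.Hom.congr_app hfac W, CommRingCat.comp_apply, Scheme.Hom.comp_app]
  refine (congrArg _ ((congrArg (hP.isoPullback.inv.app ((f ⁻¹ᵁ V).ι ⁻¹ᵁ W)) (ht i)).trans
    (map_zero _))).trans (map_zero _)

end Groth.L07.SchDenseFlat
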