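import Groth.Agent.L07.SchDenseExt
import Groth.Agent.L07.SchDenseFlat
import Groth.Agent.L23.SchemeFacts
import Mathlib.AlgebraicGeometry.Sites.Fpqc
import Mathlib.AlgebraicGeometry.Morphisms.UniversallyOpen

/-!
Descent of domains of definition of pseudo-morphisms (EGA IV 20.3.11).
-/

universe u

open CategoryTheory CategoryTheory.Limits AlgebraicGeometry TopologicalSpace

namespace Groth.L07.RatDescent

set_option linter.style.haveILetI false

/-- Agreement on the overlap, for test schemes. -/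
theorem agree_of_homOfLE {X Y : Scheme.{u}} {U V : X.Opens} (h : (U : Scheme.{u}) ⟶ Y)
    (v : (V : Scheme.{u}) ⟶ Y)
    (hv : X.homOfLE (inf_le_right : U ⊓ V ≤ V) ≫ v = X.homOfLE (inf_le_left : U ⊓ V ≤ U) ≫ h)
    {T : Scheme.{u}} (a : T ⟶ V) (b : T ⟶ U) (e : a ≫ V.ι = b ≫ U.ι) : a ≫ v = b ≫ h := by
  have hr : Set.range (a ≫ V.ι) ⊆ Set.range (U ⊓ V).ι := by
    rw [Scheme.Opens.range_ι]
    rintro _ ⟨t, rfl⟩
    refine ⟨?_, (a t).2⟩
    rw [e]
    exact (b t).2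
  let c := IsOpenImmersion.lift (U ⊓ V).ι (a ≫ V.ι) hr
  have ha : c ≫ X.homOfLE (inf_le_right : U ⊓ V ≤ V) = a := by
    rw [← cancel_mono V.ι, Category.assoc, Scheme.homOfLE_ι, IsOpenImmersion.lift_fac]
  have hb : c ≫ X.homOfLE (inf_le_left : U ⊓ V ≤ U) = b := by
    rw [← cancel_mono U.ι, Category.assoc, Scheme.homOfLE_ι, IsOpenImmersion.lift_fac, e]
  rw [← ha, ← hb, Category.assoc, hv, Category.assoc]

/-- Extension of a morphism from a schematically dense open descends along an fppf covering. -/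
theorem exists_descend {V V' Y S : Scheme.{u}} (pY : Y ⟶ S) [IsSeparated pY] (q : V ⟶ S) (p : V' ⟶ V)
    [Flat p] [LocallyOfFinitePresentation p] [Surjective p] (W : V.Opens) (hW : CInt.IsSchematicallyDense W)
    (h : (W : Scheme.{u}) ⟶ Y) (g' : V' ⟶ Y) (hg'S : g' ≫ pY = p ≫ q)
    (hg' : (p ⁻¹ᵁ W).ι ≫ g' = (p ∣_ W) ≫ h) :
    ∃ v : V ⟶ Y, W.ι ≫ v = h ∧ v ≫ pY = q := by
  have hw : ∀ {Z : Scheme.{u}} (a b : Z ⟶ V'), a ≫ p = b ≫ p → a ≫ g' = b ≫ g' := by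
    have h0 : pullback.fst p p ≫ g' = pullback.snd p p ≫ g' := by
      refine Groth.L07.SchDenseExt.eq_of_schDense pY
        (Groth.L07.SchDenseFlat.isSchematicallyDense_preimage (pullback.fst p p ≫ p) W hW) _ _ ?_ ?_
      · rw [Category.assoc, Category.assoc, hg'S, pullback.condition_assoc]
      · let W₂ := (pullback.fst p p ≫ p) ⁻¹ᵁ W
        have hW₂ : W₂ = (pullback.snd p p) ⁻¹ᵁ (p ⁻¹ᵁ W) := by
          simp only [W₂, ← Scheme.Hom.comp_preimage, pullback.condition]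
        have key : ∀ (r : pullback p p ⟶ V') (hr : W₂ ≤ r ⁻¹ᵁ (p ⁻¹ᵁ W)),
            W₂.ι ≫ r ≫ g' = r.resLE (p ⁻¹ᵁ W) W₂ hr ≫ (p ∣_ W) ≫ h := fun r hr => by
          rw [← hg', Scheme.Hom.resLE_comp_ι_assoc]
        rw [key _ le_rfl, key _ hW₂.le, ← Category.assoc, ← Category.assoc (Scheme.Hom.resLE _ _ _ hW₂.le)]
        refine congrArg (· ≫ h) ((cancel_mono W.ι).mp ?_)
        simp only [Category.assoc, morphismRestrict_ι]
        erw [Scheme.Hom.resLE_comp_ι_assoc, Scheme.Hom.resLE_comp_ι_assoc, pullback.condition]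
    intro Z a b hab
    have h1 := congrArg (pullback.lift a b hab ≫ ·) h0
    simp only [pullback.lift_fst_assoc, pullback.lift_snd_assoc] at h1
    exact h1
  refine ⟨EffectiveEpi.desc p g' hw, ?_, ?_⟩
  · haveI : Surjective (p ∣_ W) := MorphismProperty.of_isPullback (P := @Surjective)
      (isPullback_morphismRestrict p W).flip ‹_›
    haveI : Flat (p ∣_ W) := MorphismProperty.of_isPullback (P := @Flat)
      (isPullback_morphismRestrict p W).flip ‹_›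
    haveI : LocallyOfFinitePresentation (p ∣_ W) := MorphismProperty.of_isPullback (P := @LocallyOfFinitePresentation)
      (isPullback_morphismRestrict p W).flip ‹_›
    rw [← cancel_epi (p ∣_ W), morphismRestrict_ι_assoc, EffectiveEpi.fac]
    exact hg'
  · rw [← cancel_epi p, ← Category.assoc, EffectiveEpi.fac]
    exact hg'S

theorem extends_nhd {X X' Y S : Scheme.{u}} (pX : X ⟶ S) (pY : Y ⟶ S)
    [IsSeparated pY] (U : X.Opens) (hU : CInt.IsSchematicallyDense U) (h : (U : Scheme.{u}) ⟶ Y)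
    (f : X' ⟶ X) [Flat f] [LocallyOfFinitePresentation f] (x' : X')
    (V' : X'.Opens) (hx' : x' ∈ V') (v' : (V' : Scheme.{u}) ⟶ Y) (hv'S : v' ≫ pY = V'.ι ≫ f ≫ pX)
    (hv' : X'.homOfLE (inf_le_right : f ⁻¹ᵁ U ⊓ V' ≤ V') ≫ v' =
      X'.homOfLE (inf_le_left : f ⁻¹ᵁ U ⊓ V' ≤ f ⁻¹ᵁ U) ≫ (f ∣_ U) ≫ h) :
    ∃ (V : X.Opens) (v : (V : Scheme.{u}) ⟶ Y), f x' ∈ V ∧ v ≫ pY = V.ι ≫ pX ∧
      X.homOfLE (inf_le_right : U ⊓ V ≤ V) ≫ v = X.homOfLE (inf_le_left : U ⊓ V ≤ U) ≫ h := by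
  let V : X.Opens := ⟨f '' (V' : Set X'), f.isOpenMap _ V'.2⟩
  have hle : V' ≤ f ⁻¹ᵁ V := fun y hy => ⟨y, hy, rfl⟩
  let p := f.resLE V V' hle
  have hp : p ≫ V.ι = V'.ι ≫ f := Scheme.Hom.resLE_comp_ι _ _
  haveI : Flat p := inferInstanceAs (Flat (f.resLE V V' hle))
  haveI : LocallyOfFinitePresentation p := by
    haveI : LocallyOfFinitePresentation (V'.ι ≫ f) := inferInstance
    rw [← hp] at this
    exact Groth.L23.lfp_of_comp_lft p V.ι this
  haveI : Surjective p := ⟨fun y => by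
    obtain ⟨z, hz, hzy⟩ := y.2
    refine ⟨⟨z, hz⟩, Subtype.ext ?_⟩
    have h1 : V.ι (p ⟨z, hz⟩) = f z := congrArg (fun k : (V' : Scheme.{u}) ⟶ X => k ⟨z, hz⟩) hp
    exact h1.trans hzy⟩
  let W := V.ι ⁻¹ᵁ U
  let a : ((p ⁻¹ᵁ W) : Scheme.{u}) ⟶ V' := (p ⁻¹ᵁ W).ι
  have hr : Set.range (a ≫ V'.ι) ⊆ Set.range (f ⁻¹ᵁ U).ι := by
    rw [Scheme.Opens.range_ι]
    rintro _ ⟨t, rfl⟩
    have ht : V.ι (p (a t)) ∈ U := t.2
    rw [← Scheme.Hom.comp_apply, hp] at ht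
    exact ht
  let b := IsOpenImmersion.lift (f ⁻¹ᵁ U).ι (a ≫ V'.ι) hr
  have hb : b ≫ (f ⁻¹ᵁ U).ι = a ≫ V'.ι := IsOpenImmersion.lift_fac _ _ _
  obtain ⟨v, hv, hvS⟩ := exists_descend pY (V.ι ≫ pX) p W (Groth.Agent.NeronL.schDense_restrict hU V)
    ((V.ι ∣_ U) ≫ h) v' (by rw [hv'S, ← Category.assoc, ← hp, Category.assoc])
    (by
      rw [agree_of_homOfLE ((f ∣_ U) ≫ h) v' hv' a b hb.symm, ← Category.assoc, ← Category.assoc]
      refine congrArg (· ≫ h) ((cancel_mono U.ι).mp ?_)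
      rw [Category.assoc, morphismRestrict_ι, reassoc_of% hb, Category.assoc, morphismRestrict_ι,
        morphismRestrict_ι_assoc, hp])
  refine ⟨V, v, ⟨x', hx', rfl⟩, hvS, ?_⟩
  have hr2 : Set.range (X.homOfLE (inf_le_right : U ⊓ V ≤ V)) ⊆ Set.range W.ι := by
    rw [Scheme.Opens.range_ι]
    rintro _ ⟨t, rfl⟩
    show V.ι (X.homOfLE inf_le_right t) ∈ U
    rw [← Scheme.Hom.comp_apply, Scheme.homOfLE_ι]
    exact t.2.1
  rw [← IsOpenImmersion.lift_fac W.ι (X.homOfLE (inf_le_right : U ⊓ V ≤ V)) hr2, Category.assoc, hv,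
    ← Category.assoc]
  refine congrArg (· ≫ h) ((cancel_mono U.ι).mp ?_)
  rw [Category.assoc, morphismRestrict_ι, IsOpenImmersion.lift_fac_assoc, Scheme.homOfLE_ι, Scheme.homOfLE_ι]

end Groth.L07.RatDescent
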