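import Mathlib.RingTheory.ZariskisMainTheorem
import Mathlib.AlgebraicGeometry.Morphisms.FiniteType
import Mathlib.AlgebraicGeometry.Morphisms.Separated
import Mathlib.AlgebraicGeometry.Morphisms.UniversallyOpen
import Groth.Agent.S2266

/-!
Extension of sections to a normal point isolated in the fibre of the closure of the graph
(via Zariski's main theorem).
-/

universe u

open CategoryTheory AlgebraicGeometry Limits TopologicalSpace

namespace Groth.L07.RatNormal

set_option maxSynthPendingDepth 3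
set_option backward.isDefEq.respectTransparency.types false
set_option backward.isDefEq.respectTransparency false

theorem exists_mul_mem_of_isIntegral {A B : Type u} [CommRing A] [CommRing B] [IsDomain A] [IsDomain B]
    [Algebra A B] (S : Submonoid A) (hS : S ≤ nonZeroDivisors A) (L : Type u) [CommRing L] [Algebra A L]
    [IsLocalization S L] [IsIntegrallyClosed L] (hinj : Function.Injective (algebraMap A B)) (b : B)
    (hb0 : ∃ a s : A, s ≠ 0 ∧ algebraMap A B s * b = algebraMap A B a) (hb : IsIntegral A b) :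
    ∃ s a : A, s ∈ S ∧ algebraMap A B s * b = algebraMap A B a := by
  have : IsDomain L := IsLocalization.isDomain_of_le_nonZeroDivisors L hS
  let := IsLocalization.localizationAlgebraOfSubmonoidLe L (FractionRing A) S (nonZeroDivisors A) hS
  have : IsScalarTower A L (FractionRing A) :=
    IsLocalization.localization_isScalarTower_of_submonoid_le L (FractionRing A) S (nonZeroDivisors A) hS
  have : IsFractionRing L (FractionRing A) :=
    IsFractionRing.isFractionRing_of_isDomain_of_isLocalization S L (FractionRing A)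
  have hinjM : Function.Injective (Algebra.ofId A (FractionRing B)) := by
    show Function.Injective (algebraMap A (FractionRing B))
    rw [IsScalarTower.algebraMap_eq A B (FractionRing B)]
    exact (IsFractionRing.injective B (FractionRing B)).comp hinj
  let φ : FractionRing A →ₐ[A] FractionRing B := IsFractionRing.liftAlgHom (R := A) (A := A) hinjM
  obtain ⟨a₀, s₀, hs₀, he⟩ := hb0
  let k : FractionRing A := algebraMap A (FractionRing A) a₀ / algebraMap A (FractionRing A) s₀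
  have hφk : φ k = algebraMap B (FractionRing B) b := by
    have h0 : algebraMap A (FractionRing B) s₀ ≠ 0 :=
      fun h => hs₀ (hinjM (h.trans (map_zero (Algebra.ofId A (FractionRing B))).symm))
    show φ (algebraMap A (FractionRing A) a₀ / algebraMap A (FractionRing A) s₀) = _
    rw [map_div₀, AlgHom.commutes, AlgHom.commutes, div_eq_iff h0, mul_comm]
    rw [IsScalarTower.algebraMap_apply A B (FractionRing B),
      IsScalarTower.algebraMap_apply A B (FractionRing B) s₀, ← map_mul, he]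
  have hk : IsIntegral A k := by
    refine (isIntegral_algHom_iff φ φ.toRingHom.injective).mp ?_
    rw [hφk]
    exact hb.algebraMap
  obtain ⟨l, hl⟩ := IsIntegrallyClosed.algebraMap_eq_of_integral (R := L) (K := FractionRing A)
    (hk.tower_top (A := L))
  obtain ⟨⟨a, s⟩, hls⟩ := IsLocalization.surj S l
  refine ⟨s, a, s.2, IsFractionRing.injective B (FractionRing B) ?_⟩
  have h1 : k * algebraMap A (FractionRing A) s = algebraMap A (FractionRing A) a := by
    rw [← hl, IsScalarTower.algebraMap_apply A L (FractionRing A),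
      IsScalarTower.algebraMap_apply A L (FractionRing A) a, ← map_mul, hls]
  have h2 := congrArg φ h1
  rw [map_mul, AlgHom.commutes, AlgHom.commutes, hφk] at h2
  rw [map_mul, ← IsScalarTower.algebraMap_apply, ← IsScalarTower.algebraMap_apply, mul_comm]
  exact h2

/-- A finite type birational extension of domains, quasi-finite at a prime over a normal point, is an
isomorphism after inverting an element outside that point. -/
theorem exists_away_bijective {A B : Type u} [CommRing A] [CommRing B] [IsDomain A] [IsDomain B]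
    [Algebra A B] [Algebra.FiniteType A B] (hinj : Function.Injective (algebraMap A B))
    (hfrac : ∀ b : B, ∃ a s : A, s ≠ 0 ∧ algebraMap A B s * b = algebraMap A B a)
    (q : Ideal B) [q.IsPrime] [Algebra.QuasiFiniteAt A q]
    (hn : IsIntegrallyClosed (Localization.AtPrime (q.comap (algebraMap A B)))) :
    ∃ t : A, t ∉ q.comap (algebraMap A B) ∧
      Function.Bijective (Localization.awayMap (algebraMap A B) t) := by
  classical
  set p := q.comap (algebraMap A B) with hp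
  have hp' : p.IsPrime := Ideal.IsPrime.comap _
  have hint : ∀ b : B, IsIntegral A b →
      ∃ s a : A, s ∉ p ∧ algebraMap A B s * b = algebraMap A B a := fun b hb =>
    exists_mul_mem_of_isIntegral p.primeCompl p.primeCompl_le_nonZeroDivisors
      (Localization.AtPrime p) hinj b (hfrac b) hb
  obtain ⟨r, hr, hrint, H⟩ := Algebra.zariskisMainProperty_iff.mp
    (Algebra.ZariskisMainProperty.of_finiteType (R := A) q)
  obtain ⟨s, a, hs, he⟩ := hint r hrint
  have ha : a ∉ p := fun h =>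
    ((Ideal.IsPrime.mem_or_mem ‹q.IsPrime›) (he ▸ h : algebraMap A B s * r ∈ q)).elim hs hr
  have hall : ∀ b : B, ∃ t c : A, t ∉ p ∧ algebraMap A B t * b = algebraMap A B c := by
    intro b
    obtain ⟨m, hm⟩ := H b
    obtain ⟨s₁, a₁, hs₁, he₁⟩ := hint _ hm
    refine ⟨a ^ m * s₁, s ^ m * a₁, fun h => (hp'.mem_or_mem h).elim
      (fun h' => ha (hp'.mem_of_pow_mem _ h')) hs₁, ?_⟩
    rw [map_mul, map_mul, map_pow, map_pow, ← he, mul_pow, ← he₁]
    ring
  obtain ⟨S, hS⟩ := Algebra.FiniteType.out (R := A) (A := B)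
  choose t c ht hc using hall
  refine ⟨∏ g ∈ S, t g, fun h => ?_, ?_, ?_⟩
  · obtain ⟨g, -, hg⟩ := hp'.prod_mem_iff.mp h
    exact ht g hg
  · exact IsLocalization.map_injective_of_injective _ _ _ hinj
  · rw [Localization.awayMap_surjective_iff]
    set T := ∏ g ∈ S, t g
    intro b
    have hb : b ∈ Algebra.adjoin A (S : Set B) := by rw [hS]; trivial
    induction hb using Algebra.adjoin_induction with
    | mem g hg =>
      have hg' : g ∈ S := hg
      refine ⟨c g * ∏ g' ∈ S.erase g, t g', 1, ?_⟩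
      rw [map_mul, ← hc g, pow_one]
      show _ = algebraMap A B (∏ g' ∈ S, t g') * g
      rw [← Finset.mul_prod_erase _ _ hg', map_mul]
      ring
    | algebraMap a' => exact ⟨a', 0, by simp⟩
    | add x y _ _ hx hy =>
      obtain ⟨b₁, m₁, h₁⟩ := hx
      obtain ⟨b₂, m₂, h₂⟩ := hy
      refine ⟨T ^ m₂ * b₁ + T ^ m₁ * b₂, m₁ + m₂, ?_⟩
      rw [map_add, map_mul, map_mul, h₁, h₂, map_pow, map_pow, pow_add]
      ring
    | mul x y _ _ hx hy =>
      obtain ⟨b₁, m₁, h₁⟩ := hx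
      obtain ⟨b₂, m₂, h₂⟩ := hy
      refine ⟨b₁ * b₂, m₁ + m₂, ?_⟩
      rw [map_mul, h₁, h₂, pow_add]
      ring

/-- Affine, integral form: a birational finite type separated morphism is a local isomorphism at a
point isolated in its fibre over a normal point. -/
theorem exists_section_affine {X G : Scheme.{u}} [IsAffine X] [IsIntegral X] [IsIntegral G]
    (p : G ⟶ X) [LocallyOfFiniteType p] (U : X.Opens) (σ : (U : Scheme.{u}) ⟶ G)
    (hσ : σ ≫ p = U.ι) [IsDominant σ] (z : G)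
    (hn : IsIntegrallyClosed (X.presheaf.stalk (p z))) (W₀ : G.Opens) (hzW : z ∈ W₀)
    (hiso : ∀ w ∈ W₀, p w = p z → w = z) :
    ∃ (V : X.Opens) (hxV : p z ∈ V) (s : (V : Scheme.{u}) ⟶ G), s ≫ p = V.ι ∧ s ⟨p z, hxV⟩ = z := by
  obtain ⟨W, hW, hzW', hWW₀⟩ := exists_isAffineOpen_mem_and_subset hzW
  have hX : IsAffineOpen (⊤ : X.Opens) := isAffineOpen_top X
  let φc : Γ(X, ⊤) ⟶ Γ(G, W) := p.appLE ⊤ W le_top
  let φ : Γ(X, ⊤) →+* Γ(G, W) := φc.hom
  algebraize [φ]
  have : Algebra.FiniteType Γ(X, ⊤) Γ(G, W) := p.finiteType_appLE hX hW le_top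
  have : Nonempty ((⊤ : X.Opens) : Scheme.{u}) := ⟨⟨p z, trivial⟩⟩
  have : Nonempty (W : Scheme.{u}) := ⟨⟨z, hzW'⟩⟩
  -- birationality
  have : Nonempty (U : Scheme.{u}) := by
    obtain ⟨u, -⟩ := σ.denseRange.exists_mem_open isOpen_univ ⟨z, trivial⟩
    exact ⟨u⟩
  obtain ⟨u, hu⟩ := σ.denseRange.exists_mem_open W.2 ⟨z, hzW'⟩
  obtain ⟨D, ⟨f, rfl⟩, huD, hD⟩ : ∃ D : X.Opens, (∃ f : Γ(X, ⊤), X.basicOpen f = D) ∧ U.ι u ∈ D ∧
      D ≤ U.ι ''ᵁ (σ ⁻¹ᵁ W) := by
    obtain ⟨f, hf, huf⟩ := hX.exists_basicOpen_le (V := U.ι ''ᵁ (σ ⁻¹ᵁ W))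
      ⟨U.ι u, u, hu, rfl⟩ trivial
    exact ⟨_, ⟨f, rfl⟩, huf, hf⟩
  have hDU : X.basicOpen f ≤ U := hD.trans (by rintro _ ⟨w, -, rfl⟩; exact w.2)
  let τ : (X.basicOpen f : Scheme.{u}) ⟶ G := X.homOfLE hDU ≫ σ
  have hτ : τ ≫ p = (X.basicOpen f).ι := by
    rw [Category.assoc, hσ, Scheme.homOfLE_ι]
  have : IsDominant τ := by
    have : IsDominant (X.homOfLE hDU) := by
      refine ⟨?_⟩
      have : AlgebraicGeometry.IsIntegral (U : Scheme.{u}) := isIntegral_of_isOpenImmersion U.ι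
      refine IsOpen.dense ?_ ?_
      · exact (X.homOfLE hDU).isOpenEmbedding.isOpen_range
      · exact ⟨_, ⟨U.ι u, huD⟩, rfl⟩
    infer_instance
  have hτW : (⊤ : (X.basicOpen f : Scheme.{u}).Opens) ≤ τ ⁻¹ᵁ W := by
    rintro ⟨v, hv⟩ -
    obtain ⟨w, hw, hwv⟩ := hD hv
    show σ (X.homOfLE hDU ⟨v, hv⟩) ∈ W
    have : X.homOfLE hDU ⟨v, hv⟩ = w := Subtype.ext (by simpa using hwv.symm)
    rw [this]
    exact hw
  let ψ : Γ(G, W) ⟶ Γ(X, X.basicOpen f) := τ.appLE W ⊤ hτW ≫ (X.basicOpen f).topIso.hom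
  have hψinj : Function.Injective ψ.hom := by
    have : Function.Injective (τ.appLE W ⊤ hτW).hom := by
      rw [injective_iff_map_eq_zero]
      intro b hb
      by_contra hb0
      have hne : (G.basicOpen b : Set G).Nonempty := by
        rw [Set.nonempty_iff_ne_empty]
        intro h
        exact hb0 (eq_zero_of_basicOpen_eq_bot b (TopologicalSpace.Opens.ext h))
      obtain ⟨v, hv⟩ := τ.denseRange.exists_mem_open (G.basicOpen b).2 hne
      have hv' : v ∈ (X.basicOpen f : Scheme.{u}).basicOpen ((τ.appLE W ⊤ hτW) b) := by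
        rw [Scheme.basicOpen_appLE]
        exact ⟨trivial, hv⟩
      rw [hb, Scheme.basicOpen_zero] at hv'
      exact hv'
    exact (ConcreteCategory.bijective_of_isIso (X.basicOpen f).topIso.hom).1.comp this
  have hψ : φc ≫ ψ = X.presheaf.map (homOfLE le_top).op := by
    simp only [φc, ψ, ← Category.assoc, Scheme.Hom.appLE_comp_appLE]
    simp only [hτ, Scheme.Opens.ι_appLE, Scheme.Opens.topIso, eqToIso.hom, Functor.mapIso_hom, ← Functor.map_comp]
    congr 1
  have hloc := hX.isLocalization_basicOpen f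
  have hresinj : Function.Injective (X.presheaf.map (homOfLE (le_top : X.basicOpen f ≤ ⊤)).op).hom := by
    have : Nonempty (X.basicOpen f : Scheme.{u}) := ⟨⟨_, huD⟩⟩
    exact map_injective_of_isIntegral X _
  have hψ' : ∀ a, ψ.hom (φ a) = (X.presheaf.map (homOfLE (le_top : X.basicOpen f ≤ ⊤)).op).hom a :=
    fun a => congrArg (fun g => g.hom a) hψ
  have hinj : Function.Injective (algebraMap Γ(X, ⊤) Γ(G, W)) := by
    intro a a' h
    apply hresinj
    rw [← hψ', ← hψ']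
    exact congrArg ψ.hom h
  have hf0 : f ≠ 0 := by
    rintro rfl
    rw [Scheme.basicOpen_zero] at huD
    exact huD
  have hfrac : ∀ b : Γ(G, W), ∃ a s : Γ(X, ⊤), s ≠ 0 ∧
      algebraMap Γ(X, ⊤) Γ(G, W) s * b = algebraMap Γ(X, ⊤) Γ(G, W) a := by
    intro b
    obtain ⟨⟨a, ⟨_, n, rfl⟩⟩, h⟩ := IsLocalization.surj (Submonoid.powers f) (ψ.hom b)
    refine ⟨a, f ^ n, pow_ne_zero _ hf0, hψinj ?_⟩
    show ψ.hom (φ (f ^ n) * b) = ψ.hom (φ a)
    rw [map_mul, hψ', hψ', mul_comm]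
    exact h
  -- quasi-finiteness at `z`
  let q : Ideal Γ(G, W) := (hW.primeIdealOf ⟨z, hzW'⟩).asIdeal
  have : q.IsPrime := (hW.primeIdealOf ⟨z, hzW'⟩).2
  have hcomm : Spec.map φc ≫ hX.fromSpec = hW.fromSpec ≫ p := hX.SpecMap_appLE_fromSpec p hW le_top
  have hqf : Algebra.QuasiFiniteAt Γ(X, ⊤) q := by
    refine Algebra.QuasiFiniteAt.of_isOpen_singleton_fiber (hW.primeIdealOf ⟨z, hzW'⟩) ?_
    convert isOpen_univ
    refine Set.eq_univ_iff_forall.mpr ?_
    rintro ⟨q', hq'⟩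
    refine Subtype.ext (hW.fromSpec.isOpenEmbedding.injective ?_)
    rw [hW.fromSpec_primeIdealOf]
    have h1 : p (hW.fromSpec q') = p (hW.fromSpec (hW.primeIdealOf ⟨z, hzW'⟩)) := by
      rw [← Scheme.Hom.comp_apply, ← Scheme.Hom.comp_apply, ← hcomm, Scheme.Hom.comp_apply, Scheme.Hom.comp_apply]
      exact congrArg hX.fromSpec hq'
    rw [hW.fromSpec_primeIdealOf] at h1
    refine hiso _ (hWW₀ ?_) h1
    have : hW.fromSpec q' ∈ Set.range hW.fromSpec := ⟨q', rfl⟩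
    rwa [hW.range_fromSpec] at this
  have hpq : (hX.primeIdealOf ⟨p z, trivial⟩).asIdeal = q.comap (algebraMap Γ(X, ⊤) Γ(G, W)) :=
    (congrArg PrimeSpectrum.asIdeal
      (IsAffineOpen.comap_primeIdealOf_appLE (f := p) ⊤ hX W hW le_top hzW')).symm
  have hn' : IsIntegrallyClosed (Localization.AtPrime (q.comap (algebraMap Γ(X, ⊤) Γ(G, W)))) := by
    letI := TopCat.Presheaf.algebra_section_stalk X.presheaf (U := ⊤) ⟨p z, trivial⟩
    have h0 := hX.isLocalization_stalk ⟨p z, trivial⟩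
    rw [IsLocalization.AtPrime] at h0
    have h1 : IsLocalization (q.comap (algebraMap Γ(X, ⊤) Γ(G, W))).primeCompl (X.presheaf.stalk (p z)) := by
      convert h0 using 2 <;> exact hpq.symm
    exact IsIntegrallyClosed.of_equiv
      (IsLocalization.algEquiv (q.comap (algebraMap Γ(X, ⊤) Γ(G, W))).primeCompl
        (X.presheaf.stalk (p z)) _).toRingEquiv
  obtain ⟨t, htq, hbij⟩ := exists_away_bijective hinj hfrac q hn'
  have hxt : p z ∈ X.basicOpen t := by
    have h := hX.fromSpec_preimage_basicOpen (f := t)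
    have h' := hX.fromSpec_primeIdealOf ⟨p z, trivial⟩
    refine (congrArg (· ∈ X.basicOpen t) h').mp ?_
    show hX.primeIdealOf ⟨p z, trivial⟩ ∈ hX.fromSpec ⁻¹ᵁ X.basicOpen t
    rw [h]
    show t ∉ (hX.primeIdealOf ⟨p z, trivial⟩).asIdeal
    rw [hpq]
    exact htq
  have := hX.isLocalization_basicOpen t
  let Lt := Γ(X, X.basicOpen t)
  let Mt := Localization.Away (algebraMap Γ(X, ⊤) Γ(G, W) t)
  let m : Lt →+* Mt := IsLocalization.Away.map Lt Mt (algebraMap Γ(X, ⊤) Γ(G, W)) t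
  have hm : Function.Bijective m := by
    let e := IsLocalization.algEquiv (Submonoid.powers t) Lt (Localization.Away t)
    have : m = (Localization.awayMap (algebraMap Γ(X, ⊤) Γ(G, W)) t).comp e.toRingEquiv.toRingHom := by
      apply IsLocalization.ringHom_ext (Submonoid.powers t)
      ext a
      show m (algebraMap Γ(X, ⊤) Lt a) =
        Localization.awayMap (algebraMap Γ(X, ⊤) Γ(G, W)) t (e (algebraMap Γ(X, ⊤) Lt a))
      rw [AlgEquiv.commutes]
      simp [m, IsLocalization.Away.map, Localization.awayMap]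
      rfl
    rw [this]
    exact hbij.comp e.bijective
  let χ : Γ(G, W) ⟶ Γ(X, X.basicOpen t) :=
    CommRingCat.ofHom ((RingEquiv.ofBijective m hm).symm.toRingHom.comp (algebraMap _ Mt))
  have hχ : φc ≫ χ = X.presheaf.map (homOfLE (le_top : X.basicOpen t ≤ ⊤)).op := by
    ext a
    show (RingEquiv.ofBijective m hm).symm (algebraMap _ Mt (algebraMap Γ(X, ⊤) Γ(G, W) a)) = algebraMap Γ(X, ⊤) Lt a
    rw [RingEquiv.symm_apply_eq]
    simp [m, IsLocalization.Away.map]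
  have hVa : IsAffineOpen (X.basicOpen t) := hX.basicOpen t
  let s : (X.basicOpen t : Scheme.{u}) ⟶ G := hVa.isoSpec.hom ≫ Spec.map χ ≫ hW.fromSpec
  have hs : s ≫ p = (X.basicOpen t).ι := by
    simp only [s, Category.assoc]
    rw [← hcomm, ← Spec.map_comp_assoc, hχ, hX.map_fromSpec hVa, hVa.isoSpec_hom_fromSpec]
  refine ⟨_, hxt, s, hs, hiso _ (hWW₀ ?_) ?_⟩
  · have : s ⟨p z, hxt⟩ ∈ Set.range hW.fromSpec := ⟨_, rfl⟩
    rwa [hW.range_fromSpec] at this
  · rw [← Scheme.Hom.comp_apply, hs]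
    rfl

/-- A section defined on an open subset extends to a normal point at which the closure of its graph
has an isolated point in the fibre. -/
theorem extends_of_isolated {X P : Scheme.{u}} (q : P ⟶ X) [LocallyOfFiniteType q] [IsSeparated q]
    (U : X.Opens) (σ : (U : Scheme.{u}) ⟶ P) (hσ : σ ≫ q = U.ι) (z : P)
    (hz : z ∈ closure (Set.range σ)) (x : X) (hx : q z = x)
    (V₀ : X.Opens) (hxV₀ : x ∈ V₀) [AlgebraicGeometry.IsIntegral (V₀ : Scheme.{u})]
    (hn : IsIntegrallyClosed (X.presheaf.stalk x)) (W₀ : P.Opens) (hzW : z ∈ W₀)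
    (hiso : ∀ w ∈ W₀, w ∈ closure (Set.range σ) → q w = x → w = z) :
    ∃ (V : X.Opens) (hxV : x ∈ V) (s : (V : Scheme.{u}) ⟶ P), V ≤ V₀ ∧ s ≫ q = V.ι ∧
      s ⟨x, hxV⟩ = z ∧
      X.homOfLE (inf_le_right : U ⊓ V ≤ V) ≫ s = X.homOfLE (inf_le_left : U ⊓ V ≤ U) ≫ σ := by
  subst hx
  obtain ⟨V1, hV1, hxV1, hV1₀⟩ := exists_isAffineOpen_mem_and_subset hxV₀
  have : IsAffine (V1 : Scheme.{u}) := hV1
  have : Nonempty (V1 : Scheme.{u}) := ⟨⟨q z, hxV1⟩⟩
  have : AlgebraicGeometry.IsIntegral (V1 : Scheme.{u}) :=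
    isIntegral_of_isOpenImmersion (X.homOfLE hV1₀)
  have hU : ∃ u : (U : Scheme.{u}), (U.ι u : X) ∈ V1 := by
    obtain ⟨_, ho, u, rfl⟩ := mem_closure_iff.mp hz _ (q ⁻¹ᵁ V1).2 hxV1
    refine ⟨u, ?_⟩
    rw [← hσ]
    exact ho
  obtain ⟨u₀, hu₀⟩ := hU
  obtain ⟨U1, hU1, hu1, hU1U⟩ := exists_isAffineOpen_mem_and_subset
    (show (⟨U.ι u₀, hu₀⟩ : (V1 : Scheme.{u})) ∈ V1.ι ⁻¹ᵁ U from u₀.2)
  have : IsAffine (U1 : Scheme.{u}) := hU1
  have : Nonempty (U1 : Scheme.{u}) := ⟨⟨_, hu1⟩⟩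
  have : AlgebraicGeometry.IsIntegral (U1 : Scheme.{u}) := isIntegral_of_isOpenImmersion U1.ι
  have hrU : Set.range (U1.ι ≫ V1.ι) ⊆ Set.range U.ι := by
    rintro _ ⟨v, rfl⟩
    rw [Scheme.Opens.range_ι]
    exact hU1U v.2
  let k := IsOpenImmersion.lift U.ι (U1.ι ≫ V1.ι) hrU
  have hk : k ≫ U.ι = U1.ι ≫ V1.ι := IsOpenImmersion.lift_fac _ _ _
  let a := k ≫ σ
  have ha : a ≫ q = U1.ι ≫ V1.ι := by simp only [a, Category.assoc, hσ, hk]
  have hra : Set.range a ⊆ Set.range (q ⁻¹ᵁ V1).ι := by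
    rintro _ ⟨v, rfl⟩
    rw [Scheme.Opens.range_ι]
    show q (a v) ∈ V1
    rw [← Scheme.Hom.comp_apply, ha]
    exact (U1.ι v).2
  let a1 := IsOpenImmersion.lift (q ⁻¹ᵁ V1).ι a hra
  have ha1 : a1 ≫ (q ⁻¹ᵁ V1).ι = a := IsOpenImmersion.lift_fac _ _ _
  let q1 := q ∣_ V1
  have hq1 : a1 ≫ q1 = U1.ι := by
    rw [← cancel_mono V1.ι, Category.assoc, morphismRestrict_ι, ← Category.assoc, ha1, ha]
  have : QuasiCompact a1 := by
    have : QuasiCompact (a1 ≫ q1) := by
      rw [hq1]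
      infer_instance
    exact QuasiCompact.of_comp a1 q1
  let G := a1.image
  obtain ⟨hred, hirr⟩ := Groth.Agent.S2266.result a1
  have : IsReduced G := hred
  have : IrreducibleSpace G := hirr inferInstance inferInstance
  have : AlgebraicGeometry.IsIntegral G := isIntegral_of_irreducibleSpace_of_isReduced _
  let p := a1.imageι ≫ q1
  have hp : a1.toImage ≫ p = U1.ι := by
    simp only [p, Scheme.Hom.toImage_imageι_assoc, hq1]
  have hrange : Set.range a1.imageι = closure (Set.range a1) :=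
    (Scheme.IdealSheafData.range_subschemeι _).trans a1.support_ker
  have hclos : ∀ w : G, (q ⁻¹ᵁ V1).ι (a1.imageι w) ∈ closure (Set.range σ) := by
    intro w
    have h1 : a1.imageι w ∈ closure (Set.range a1) := hrange ▸ ⟨w, rfl⟩
    refine closure_mono ?_ ((image_closure_subset_closure_image
      (q ⁻¹ᵁ V1).ι.continuous) ⟨_, h1, rfl⟩)
    rintro _ ⟨_, ⟨v, rfl⟩, rfl⟩
    refine ⟨k v, ?_⟩
    rw [← Scheme.Hom.comp_apply, ← Scheme.Hom.comp_apply, ha1]
  obtain ⟨zG, hzG⟩ : ∃ zG : G, (q ⁻¹ᵁ V1).ι (a1.imageι zG) = z := by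
    have hz1 : (⟨z, hxV1⟩ : (q ⁻¹ᵁ V1 : P.Opens)) ∈ closure (Set.range a1) := by
      rw [mem_closure_iff]
      intro O hO hzO
      have hO' := (q ⁻¹ᵁ V1).ι.isOpenEmbedding.isOpenMap O hO
      obtain ⟨_, ⟨o, ho, hou⟩, u, rfl⟩ := mem_closure_iff.mp hz _ hO' ⟨_, hzO, rfl⟩
      let S : Set (V1 : Scheme.{u}) := V1.ι ⁻¹' (U.ι '' (σ ⁻¹' ((q ⁻¹ᵁ V1).ι '' O)))
      have hS : IsOpen S :=
        (U.ι.isOpenEmbedding.isOpenMap _ (hO'.preimage σ.continuous)).preimage V1.ι.continuous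
      have huV : U.ι u ∈ V1 := by
        rw [← hσ, Scheme.Hom.comp_apply, ← hou]
        exact o.2
      obtain ⟨v, ⟨u', ⟨o', ho', ho''⟩, hu'⟩, hv1⟩ := nonempty_preirreducible_inter hS U1.2
        ⟨⟨_, huV⟩, u, ⟨o, ho, hou⟩, rfl⟩ ⟨_, hu1⟩
      refine ⟨o', ho', ⟨v, hv1⟩, (q ⁻¹ᵁ V1).ι.isOpenEmbedding.injective ?_⟩
      rw [ho'', ← Scheme.Hom.comp_apply, ha1]
      show σ (k ⟨v, hv1⟩) = σ u'
      congr 1
      apply U.ι.isOpenEmbedding.injective
      rw [← Scheme.Hom.comp_apply, hk, hu']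
      rfl
    rw [← hrange] at hz1
    obtain ⟨zG, hzG⟩ := hz1
    exact ⟨zG, by rw [hzG]; rfl⟩
  have hval : ∀ w : G, V1.ι (p w) = q ((q ⁻¹ᵁ V1).ι (a1.imageι w)) := by
    intro w
    simp only [p, q1, ← Scheme.Hom.comp_apply, Category.assoc, morphismRestrict_ι]
  have hn1 : IsIntegrallyClosed ((V1 : Scheme.{u}).presheaf.stalk (p zG)) := by
    have e := (asIso (V1.ι.stalkMap (p zG))).commRingCatIsoToRingEquiv
    have : IsIntegrallyClosed (X.presheaf.stalk (V1.ι (p zG))) := by rw [hval, hzG]; exact hn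
    exact IsIntegrallyClosed.of_equiv e
  obtain ⟨V, hxV, s', hs', hs'z⟩ := exists_section_affine p U1 a1.toImage hp zG hn1
    (a1.imageι ⁻¹ᵁ (q ⁻¹ᵁ V1).ι ⁻¹ᵁ W₀) (by show _ ∈ W₀; rw [hzG]; exact hzW)
    (fun w hw hpw => by
      apply a1.imageι.isClosedEmbedding.injective
      apply (q ⁻¹ᵁ V1).ι.isOpenEmbedding.injective
      rw [hzG]
      refine hiso _ hw (hclos w) ?_
      rw [← hval, hpw, hval, hzG])
  -- agreement on `V ⊓ U1`
  let T : (V1 : Scheme.{u}).Opens := V ⊓ U1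
  let f : (T : Scheme.{u}) ⟶ G := Scheme.homOfLE _ inf_le_left ≫ s'
  let g : (T : Scheme.{u}) ⟶ G := Scheme.homOfLE _ inf_le_right ≫ a1.toImage
  have hf : f ≫ p = T.ι := by simp only [f, Category.assoc, hs', Scheme.homOfLE_ι]
  have hg : g ≫ p = T.ι := by simp only [g, Category.assoc, hp, Scheme.homOfLE_ι]
  have hrT : ∀ r : (T : Scheme.{u}) ⟶ G, r ≫ p = T.ι → Set.range r ⊆ Set.range (p ⁻¹ᵁ T).ι := by
    rintro r hr _ ⟨v, rfl⟩
    rw [Scheme.Opens.range_ι]
    show p (r v) ∈ T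
    rw [← Scheme.Hom.comp_apply, hr]
    exact v.2
  have hfg : f = g := by
    let fT := IsOpenImmersion.lift (p ⁻¹ᵁ T).ι f (hrT f hf)
    let gT := IsOpenImmersion.lift (p ⁻¹ᵁ T).ι g (hrT g hg)
    have hfT : fT ≫ (p ⁻¹ᵁ T).ι = f := IsOpenImmersion.lift_fac _ _ _
    have hgT : gT ≫ (p ⁻¹ᵁ T).ι = g := IsOpenImmersion.lift_fac _ _ _
    have hfp : fT ≫ p ∣_ T = 𝟙 _ := by
      rw [← cancel_mono T.ι, Category.assoc, morphismRestrict_ι, ← Category.assoc, hfT, hf, Category.id_comp]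
    have hgp : gT ≫ p ∣_ T = 𝟙 _ := by
      rw [← cancel_mono T.ι, Category.assoc, morphismRestrict_ι, ← Category.assoc, hgT, hg, Category.id_comp]
    have : IsDominant gT := by
      refine ⟨dense_iff_inter_open.mpr fun O hO ⟨o, ho⟩ => ?_⟩
      obtain ⟨v, o', ho', hv⟩ := a1.toImage.denseRange.exists_mem_open
        ((p ⁻¹ᵁ T).ι.isOpenEmbedding.isOpenMap O hO) ⟨_, o, ho, rfl⟩
      have hvT : (v.1 : (V1 : Scheme.{u})) ∈ T := by
        have h2 : p (a1.toImage v) ∈ T := by rw [← hv]; exact o'.2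
        rw [← Scheme.Hom.comp_apply, hp] at h2
        exact h2
      refine ⟨o', ho', ⟨v.1, hvT⟩, (p ⁻¹ᵁ T).ι.isOpenEmbedding.injective ?_⟩
      rw [← Scheme.Hom.comp_apply, hgT, hv]
      simp only [g, Scheme.Hom.comp_apply]
      congr 1
      exact Subtype.ext (by simp)
    have key : (p ∣_ T) ≫ g = (p ⁻¹ᵁ T).ι := by
      refine ext_of_isDominant_of_isSeparated p ?_ gT ?_
      · rw [Category.assoc, hg, morphismRestrict_ι]
      · rw [← Category.assoc, hgp, Category.id_comp, hgT]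
    rw [← hfT, ← key, ← Category.assoc, hfp, Category.id_comp]
  -- the extension
  let s : ((V1.ι ''ᵁ V) : Scheme.{u}) ⟶ P :=
    (V1.ι.isoImage V).inv ≫ s' ≫ a1.imageι ≫ (q ⁻¹ᵁ V1).ι
  have hxV' : q z ∈ V1.ι ''ᵁ V := ⟨p zG, hxV, (hval zG).trans (congrArg (fun w => q w) hzG)⟩
  have hs : s ≫ q = (V1.ι ''ᵁ V).ι := by
    simp only [s, Category.assoc]
    rw [← morphismRestrict_ι, show a1.imageι ≫ q1 ≫ V1.ι = p ≫ V1.ι from (Category.assoc _ _ _).symm,
      reassoc_of% hs', Scheme.Hom.isoImage_inv_ι]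
  refine ⟨V1.ι ''ᵁ V, hxV', s, fun v hv => hV1₀ (by obtain ⟨w, -, rfl⟩ := hv; exact w.2), hs, ?_, ?_⟩
  · have h1 : (V1.ι.isoImage V).inv ⟨q z, hxV'⟩ = ⟨p zG, hxV⟩ := by
      apply Subtype.ext
      apply V1.ι.isOpenEmbedding.injective
      show ((V1.ι.isoImage V).inv ≫ V.ι ≫ V1.ι) ⟨q z, hxV'⟩ = V1.ι (p zG)
      rw [Scheme.Hom.isoImage_inv_ι, hval, hzG]
      rfl
    simp only [s, Scheme.Hom.comp_apply, h1, hs'z, hzG]
  · have hrι : Set.range (T.ι ≫ V1.ι) ⊆ Set.range (U ⊓ V1.ι ''ᵁ V).ι := by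
      rintro _ ⟨v, rfl⟩
      rw [Scheme.Opens.range_ι]
      exact ⟨hU1U v.2.2, ⟨v.1, v.2.1, rfl⟩⟩
    let ι := IsOpenImmersion.lift (U ⊓ V1.ι ''ᵁ V).ι (T.ι ≫ V1.ι) hrι
    have hι : ι ≫ (U ⊓ V1.ι ''ᵁ V).ι = T.ι ≫ V1.ι := IsOpenImmersion.lift_fac _ _ _
    have : IsReduced (U ⊓ V1.ι ''ᵁ V : X.Opens) :=
      isReduced_of_isOpenImmersion (X.homOfLE (show U ⊓ V1.ι ''ᵁ V ≤ V1 from
        inf_le_right.trans (by rintro _ ⟨w, -, rfl⟩; exact w.2)))
    have : IsDominant ι := by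
      refine ⟨dense_iff_inter_open.mpr fun O hO ⟨o, ho⟩ => ?_⟩
      let S : Set (V1 : Scheme.{u}) := V1.ι ⁻¹' ((U ⊓ V1.ι ''ᵁ V).ι '' O)
      obtain ⟨w, hw, hwo⟩ := (o.2.2 : (U ⊓ V1.ι ''ᵁ V).ι o ∈ V1.ι ''ᵁ V)
      obtain ⟨v, ⟨o', ho', hov⟩, hvT⟩ := nonempty_preirreducible_inter
        ((((U ⊓ V1.ι ''ᵁ V).ι.isOpenEmbedding.isOpenMap O hO)).preimage V1.ι.continuous) T.2
        ⟨w, o, ho, hwo.symm⟩ (nonempty_preirreducible_inter V.2 U1.2 ⟨_, hxV⟩ ⟨_, hu1⟩)
      refine ⟨o', ho', ⟨v, hvT⟩, (U ⊓ V1.ι ''ᵁ V).ι.isOpenEmbedding.injective ?_⟩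
      rw [← Scheme.Hom.comp_apply, hι, hov]
      rfl
    refine ext_of_isDominant_of_isSeparated q ?_ ι ?_
    · simp only [Category.assoc, hs, hσ, Scheme.homOfLE_ι]
    · have e1 : ι ≫ X.homOfLE inf_le_right =
          Scheme.homOfLE _ inf_le_left ≫ (V1.ι.isoImage V).hom := by
        rw [← cancel_mono (V1.ι ''ᵁ V).ι, Category.assoc, Category.assoc, Scheme.homOfLE_ι, hι,
          Scheme.Hom.isoImage_hom_ι, Scheme.homOfLE_ι_assoc]
      have e2 : ι ≫ X.homOfLE inf_le_left = Scheme.homOfLE _ inf_le_right ≫ k := by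
        rw [← cancel_mono U.ι, Category.assoc, Category.assoc, Scheme.homOfLE_ι, hι, hk,
          Scheme.homOfLE_ι_assoc]
      rw [reassoc_of% e1, reassoc_of% e2]
      simp only [s, Iso.hom_inv_id_assoc]
      rw [← Category.assoc (Scheme.homOfLE _ _) s']
      change f ≫ _ = _
      rw [hfg]
      simp only [g, Category.assoc, Scheme.Hom.toImage_imageι_assoc, ha1, a]

end Groth.L07.RatNormal
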