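import Groth.Agent.L07.RatDescent
import Groth.Agent.L02.SchDom.Basic
import Mathlib.AlgebraicGeometry.SpreadingOut
import Mathlib.AlgebraicGeometry.Properties

/-!
Pseudo-morphisms and local rings (EGA IV 20.2.9): tools.
-/

universe u

open CategoryTheory CategoryTheory.Limits AlgebraicGeometry TopologicalSpace

namespace Groth.L07.RatStalk

set_option linter.style.haveILetI false
set_option maxSynthPendingDepth 3
set_option backward.isDefEq.respectTransparency.types false
set_option backward.isDefEq.respectTransparency false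

open Groth.L02.SchDom

/-- A reduced scheme with locally finitely many irreducible components is germ-injective. -/
theorem isGermInjectiveAt_of_finite {X : Scheme.{u}} [IsReduced X] {x : X} {W : X.Opens} (hxW : x ∈ W)
    (hW : {Z : Set ↥X | Z ∈ irreducibleComponents ↥X ∧ (Z ∩ (W : Set ↥X)).Nonempty}.Finite) :
    X.IsGermInjectiveAt x := by
  let T := {Z : Set ↥X | Z ∈ irreducibleComponents ↥X ∧ (Z ∩ (W : Set ↥X)).Nonempty ∧ x ∉ Z}
  have hT : T.Finite := hW.subset fun Z hZ => ⟨hZ.1, hZ.2.1⟩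
  have hc : IsClosed (⋃₀ T) := by
    rw [Set.sUnion_eq_biUnion]
    exact hT.isClosed_biUnion fun Z hZ => isClosed_of_mem_irreducibleComponents Z hZ.1
  let N : X.Opens := ⟨(⋃₀ T)ᶜ, hc.isOpen_compl⟩
  have hxN : x ∈ W ⊓ N := ⟨hxW, by rintro ⟨Z, hZ, hxZ⟩; exact hZ.2.2 hxZ⟩
  obtain ⟨_, ⟨V, hV, rfl⟩, hxV, hVle⟩ :=
    X.isBasis_affineOpens.exists_subset_of_mem_open hxN (W ⊓ N).2
  refine ⟨⟨V, hxV, hV, ?_⟩⟩
  rw [injective_iff_map_eq_zero]
  intro s hs
  obtain ⟨O, hxO, i₁, i₂, he⟩ := X.presheaf.germ_eq x hxV hxV s 0 (hs.trans (map_zero _).symm)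
  apply eq_zero_of_basicOpen_eq_bot
  rw [← Opens.not_nonempty_iff_eq_bot]
  rintro ⟨y, hy⟩
  have hyV : y ∈ V := X.basicOpen_le s hy
  let Z := irreducibleComponent y
  have hxZ : x ∈ Z := by
    by_contra h
    exact (hVle hyV).2 ⟨Z, ⟨irreducibleComponent_mem_irreducibleComponents y,
      ⟨y, mem_irreducibleComponent, (hVle hyV).1⟩, h⟩, mem_irreducibleComponent⟩
  obtain ⟨z, -, hz1, hz2⟩ := isIrreducible_irreducibleComponent.isPreirreducible (X.basicOpen s : Set X) (O : Set X)
    (X.basicOpen s).2 O.2 ⟨y, mem_irreducibleComponent, hy⟩ ⟨x, hxZ, hxO⟩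
  have h0 : X.presheaf.map i₁.op s = 0 := by rw [he, map_zero]
  have h1 : X.basicOpen (X.presheaf.map i₁.op s) = O ⊓ X.basicOpen s := X.basicOpen_res s i₁.op
  rw [h0, Scheme.basicOpen_zero] at h1
  exact (h1.ge ⟨hz2, hz1⟩ : z ∈ (⊥ : X.Opens))

/-- The local scheme at a point with injective germ is schematically dense in the affine open. -/
theorem dom_fromSpecStalkOfMem {X : Scheme.{u}} {x : X} {V : X.Opens} (hV : IsAffineOpen V) (hx : x ∈ V)
    (H : Function.Injective (X.presheaf.germ V x hx)) :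
    Dom (fun _ : PUnit.{u + 1} => V.fromSpecStalkOfMem x hx) := by
  have h1 : Dom (fun _ : PUnit.{u + 1} => Spec.map (X.presheaf.germ V x hx)) :=
    (dom_spec_iff _).mpr fun h s hs => by
      obtain ⟨n, hn⟩ := hs ⟨⟩
      exact ⟨n, H (hn.trans (map_zero _).symm)⟩
  refine h1.chart hV.isoSpec.hom (fun _ : PUnit.{u + 1} => V.fromSpecStalkOfMem x hx) id (fun _ => 𝟙 _) (fun _ => ?_)
    fun i z _ => ⟨⟨⟩, Subsingleton.elim _ _, ⟨z, rfl⟩⟩
  rw [Category.id_comp]
  exact (V.fromSpecStalkOfMem_toSpecΓ x hx).symm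

/-- Morphisms into a separated scheme which agree on a schematically dominant scheme are equal. -/
theorem eq_of_dom {T X Y S : Scheme.{u}} (pY : Y ⟶ S) [IsSeparated pY] (q : T ⟶ X)
    (hq : Dom (fun _ : PUnit.{u + 1} => q)) (a b : X ⟶ Y) (h : a ≫ pY = b ≫ pY) (hab : q ≫ a = q ≫ b) :
    a = b := by
  let p := pullback.lift a b h
  let c := pullback.fst p (pullback.diagonal pY)
  haveI : IsClosedImmersion c := inferInstance
  let l : T ⟶ pullback p (pullback.diagonal pY) := pullback.lift q (q ≫ a) (by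
    apply pullback.hom_ext
    · simp only [p, Category.assoc, pullback.diagonal_fst, Category.comp_id]
      erw [pullback.lift_fst]
    · simp only [p, Category.assoc, pullback.diagonal_snd, Category.comp_id]
      erw [pullback.lift_snd]
      exact hab.symm)
  haveI : IsIso c := IsClosedImmersion.isIso_of_ker_eq c (𝟙 X) c (Category.comp_id _) (by
    have hl : l ≫ c = q := pullback.lift_fst _ _ _
    refine le_antisymm (fun V s hs => ?_) fun V s hs => ?_
    · rw [Scheme.Hom.ker_apply, RingHom.mem_ker] at hs ⊢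
      have h0 : s = 0 := hq V.1 s fun _ => by
        rw [Scheme.Hom.congr_app hl.symm V.1, CommRingCat.comp_apply, Scheme.Hom.comp_app,
          CommRingCat.comp_apply, hs, map_zero, map_zero]
      rw [h0]; exact map_zero _
    · rw [Scheme.Hom.ker_apply, RingHom.mem_ker] at hs ⊢
      have h0 : s = 0 := hs
      rw [h0]; exact map_zero _)
  have h0 := pullback.condition (f := p) (g := pullback.diagonal pY)
  have ha := congrArg (· ≫ pullback.fst pY pY) h0
  have hb := congrArg (· ≫ pullback.snd pY pY) h0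
  simp only [Category.assoc, pullback.diagonal_fst, pullback.diagonal_snd, Category.comp_id, p,
    pullback.lift_fst, pullback.lift_snd] at ha hb
  exact (cancel_epi c).mp (ha.trans hb.symm)

/-- A morphism on an affine open agrees with a pseudo-morphism as soon as it does at the local ring. -/
theorem agree_of_agree_stalk {X Y S : Scheme.{u}} (pX : X ⟶ S) (pY : Y ⟶ S) [IsSeparated pY] (U : X.Opens)
    (h : (U : Scheme.{u}) ⟶ Y) (hh : h ≫ pY = U.ι ≫ pX) {x : X} {V : X.Opens} (hV : IsAffineOpen V)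
    (hx : x ∈ V) (H : Function.Injective (X.presheaf.germ V x hx)) (v : (V : Scheme.{u}) ⟶ Y)
    (hvS : v ≫ pY = V.ι ≫ pX) (w : Spec (X.presheaf.stalk x) ⟶ Y) (hw : V.fromSpecStalkOfMem x hx ≫ v = w)
    (hag : pullback.fst (X.fromSpecStalk x) U.ι ≫ w = pullback.snd (X.fromSpecStalk x) U.ι ≫ h) :
    X.homOfLE (inf_le_right : U ⊓ V ≤ V) ≫ v = X.homOfLE (inf_le_left : U ⊓ V ≤ U) ≫ h := by
  let e := X.homOfLE (inf_le_right : U ⊓ V ≤ V)
  let j := V.fromSpecStalkOfMem x hx
  haveI : IsOpenImmersion e := inferInstance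
  have hdom : Dom (fun _ : PUnit.{u + 1} => pullback.snd j e) :=
    (dom_fromSpecStalkOfMem hV hx H).chart e _ id (fun _ => pullback.fst j e) (fun _ => pullback.condition)
      fun i z hz => ⟨⟨⟩, Subsingleton.elim _ _, by
        have h1 : z ∈ Set.range (pullback.fst j e) := by
          rw [Scheme.Pullback.range_fst]; exact hz
        simpa using h1⟩
  refine eq_of_dom pY _ hdom _ _ ?_ ?_
  · rw [Category.assoc, Category.assoc, hvS, hh, Scheme.homOfLE_ι_assoc, Scheme.homOfLE_ι_assoc]
  · let r : pullback j e ⟶ pullback (X.fromSpecStalk x) U.ι :=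
      pullback.lift (pullback.fst j e) (pullback.snd j e ≫ X.homOfLE (inf_le_left : U ⊓ V ≤ U)) (by
        rw [← V.fromSpecStalkOfMem_ι x hx, pullback.condition_assoc]
        simp only [e, Category.assoc, Scheme.homOfLE_ι])
    have h2 := congrArg (r ≫ ·) hag
    simp only [r, pullback.lift_fst_assoc, pullback.lift_snd_assoc, Category.assoc] at h2
    rw [← h2, ← hw, pullback.condition_assoc]

end Groth.L07.RatStalk
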