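import Groth.Agent.L07.GeomReducedScheme
import Groth.Agent.L20.ThickeningTopology
import Mathlib.AlgebraicGeometry.Morphisms.UniversallyOpen

/-!
Passing to the reduced base.
-/

universe u

open TensorProduct PrimeSpectrum

namespace Groth.L07.FlatGeomReduced

set_option autoImplicit false
set_option linter.style.haveILetI false
set_option maxSynthPendingDepth 3
set_option synthInstance.maxHeartbeats 400000

variable {R C : Type u} [CommRing R] [CommRing C] [Algebra R C] (I : Ideal R)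

theorem includeRight_quot_surjective :
    Function.Surjective (Algebra.TensorProduct.includeRight : C →ₐ[R] (R ⧸ I) ⊗[R] C) := by
  intro z
  induction z using TensorProduct.induction_on with
  | zero => exact ⟨0, map_zero _⟩
  | tmul a c =>
    obtain ⟨r, rfl⟩ := Ideal.Quotient.mk_surjective a
    exact ⟨r • c, by rw [Algebra.TensorProduct.includeRight_apply, tmul_smul, smul_tmul']; congr 1; simp [Algebra.smul_def]⟩
  | add x y hx hy =>
    obtain ⟨a, rfl⟩ := hx
    obtain ⟨b, rfl⟩ := hy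
    exact ⟨a + b, map_add _ _ _⟩

/-- A prime whose contraction contains the ideal lifts to the base change. -/
theorem exists_over_quot (𝔮 : Ideal C) [𝔮.IsPrime] (h : I ≤ 𝔮.comap (algebraMap R C)) :
    ∃ (𝔮' : Ideal ((R ⧸ I) ⊗[R] C)) (_ : 𝔮'.IsPrime),
      𝔮'.comap (Algebra.TensorProduct.includeRight : C →ₐ[R] (R ⧸ I) ⊗[R] C).toRingHom = 𝔮 := by
  let a : R ⧸ I →ₐ[R] C ⧸ 𝔮 := Ideal.Quotient.liftₐ I (Algebra.ofId R (C ⧸ 𝔮)) fun r hr => by
    show algebraMap R (C ⧸ 𝔮) r = 0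
    rw [IsScalarTower.algebraMap_apply R C (C ⧸ 𝔮)]
    exact Ideal.Quotient.eq_zero_iff_mem.mpr (h hr)
  let θ : (R ⧸ I) ⊗[R] C →ₐ[R] C ⧸ 𝔮 :=
    Algebra.TensorProduct.lift a (Ideal.Quotient.mkₐ R 𝔮) (fun _ _ => Commute.all _ _)
  refine ⟨RingHom.ker θ.toRingHom, RingHom.ker_isPrime _, ?_⟩
  ext c
  simp [θ, Ideal.Quotient.eq_zero_iff_mem]

/-- Flatness over the reduced base at a point with geometrically reduced fibre. -/
theorem flat_quot_nilradical [IsNoetherianRing R] [Algebra.FiniteType R C] (𝔮 : Ideal C) [𝔮.IsPrime]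
    (hred : GeomRedAt R 𝔮)
    (hopen : ∀ (𝔷 : Ideal C) [𝔷.IsPrime], 𝔷 ≤ 𝔮 →
      𝔷.comap (algebraMap R C) = 𝔮.comap (algebraMap R C) →
      (∀ q' : Ideal C, q'.IsPrime → q' ≤ 𝔷 → q'.comap (algebraMap R C) = 𝔷.comap (algebraMap R C) → q' = 𝔷) →
      ∀ (B : Type u) [CommRing B] [IsDomain B] [IsDiscreteValuationRing B] [Algebra R B]
        (P : PrimeSpectrum (C ⊗[R] B)), P.asIdeal.comap Algebra.TensorProduct.includeLeftRingHom = 𝔷 →
        P.asIdeal.comap (Algebra.TensorProduct.includeRight : B →ₐ[R] C ⊗[R] B).toRingHom = IsLocalRing.maximalIdeal B →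
        EGA43.IsOpenAt (PrimeSpectrum.comap (Algebra.TensorProduct.includeRight : B →ₐ[R] C ⊗[R] B).toRingHom) P)
    (𝔮' : Ideal ((R ⧸ nilradical R) ⊗[R] C)) [𝔮'.IsPrime]
    (h𝔮' : 𝔮'.comap (Algebra.TensorProduct.includeRight : C →ₐ[R] (R ⧸ nilradical R) ⊗[R] C).toRingHom = 𝔮) :
    Module.Flat (R ⧸ nilradical R) (Localization.AtPrime 𝔮') ∧ GeomRedAt (R ⧸ nilradical R) 𝔮' := by
  let R₁ := R ⧸ nilradical R
  let C₁ := R₁ ⊗[R] C
  let j : C →+* C₁ := (Algebra.TensorProduct.includeRight : C →ₐ[R] C₁).toRingHom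
  have hj : Function.Surjective j := includeRight_quot_surjective _
  have hjc : ∀ (P : Ideal C₁), (P.comap (algebraMap R₁ C₁)).comap (algebraMap R R₁) =
      (P.comap j).comap (algebraMap R C) := fun P => by
    rw [Ideal.comap_comap, Ideal.comap_comap]
    congr 1
    exact ((Algebra.TensorProduct.includeRight : C →ₐ[R] C₁).comp_algebraMap).symm ▸
      (IsScalarTower.algebraMap_eq R R₁ C₁).symm
  have hq : Function.Surjective (algebraMap R R₁) := Ideal.Quotient.mk_surjective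
  have hred' : GeomRedAt R₁ 𝔮' := geomRedAt_baseChange 𝔮' (by
    intro L _ _ hL Q _ hQ
    exact hred L (hL.trans (by rw [h𝔮'])) Q (hQ.trans h𝔮'))
  haveI : _root_.IsReduced R₁ := (Ideal.isRadical_iff_quotient_reduced _).mp (Ideal.radical_isRadical _)
  haveI : _root_.IsReduced (Localization.AtPrime (𝔮'.comap (algebraMap R₁ C₁))) :=
    isReduced_localizationPreserves (𝔮'.comap (algebraMap R₁ C₁)).primeCompl _ inferInstance
  refine ⟨flat_of_geomReduced 𝔮' hred' fun 𝔷' _ hle h𝔷 hgen B _ _ _ _ P hP hPm => ?_, hred'⟩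
  letI : Algebra R B := ((algebraMap R₁ B).comp (algebraMap R R₁)).toAlgebra
  haveI : IsScalarTower R R₁ B := IsScalarTower.of_algebraMap_eq' rfl
  obtain ⟨σ, hσ⟩ := exists_baseChange_equiv (R₀ := R) (R := R₁) (C₀ := C) B
  let P₀ : PrimeSpectrum (C ⊗[R] B) := PrimeSpectrum.comap σ.toRingHom P
  have h1 : P₀.asIdeal.comap Algebra.TensorProduct.includeLeftRingHom = 𝔷'.comap j := by
    rw [← hP]
    ext c
    show σ (c ⊗ₜ 1) ∈ P.asIdeal ↔ (j c) ⊗ₜ[R₁] (1 : B) ∈ P.asIdeal
    rw [hσ]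
    rfl
  have hr : (Algebra.TensorProduct.includeRight : B →ₐ[R₁] C₁ ⊗[R₁] B).toRingHom =
      σ.toRingHom.comp (Algebra.TensorProduct.includeRight : B →ₐ[R] C ⊗[R] B).toRingHom := by
    refine RingHom.ext fun b => ?_
    show (1 : C₁) ⊗ₜ[R₁] b = σ (1 ⊗ₜ b)
    rw [hσ]
    rfl
  have h := hopen (𝔷'.comap j) (h𝔮' ▸ Ideal.comap_mono hle) (by rw [← hjc, h𝔷, hjc, h𝔮']) (fun q hq' hqle hqc => by
    haveI := hq'
    obtain ⟨q'', _, hq''⟩ := exists_over_quot (nilradical R) q (fun r hr =>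
      (show r ∈ q.comap (algebraMap R C) from by
        rw [Ideal.mem_comap]
        exact nilradical_le_prime q (mem_nilradical.mpr ((mem_nilradical.mp hr).map (algebraMap R C)))))
    subst hq''
    refine congrArg (Ideal.comap j) (hgen q'' inferInstance (fun z hz => ?_) ?_)
    · obtain ⟨c, rfl⟩ := hj z
      exact hqle hz
    · exact Ideal.comap_injective_of_surjective _ hq (by rw [hjc, hjc]; exact hqc))
    B P₀ h1 (by
      rw [← hPm, hr]
      rfl)
  intro U hU
  have h' := h (PrimeSpectrum.comap σ.toRingHom '' U)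
    ((PrimeSpectrum.isHomeomorph_comap_of_bijective (f := σ.toRingHom) σ.bijective).isOpenMap.image_mem_nhds hU)
  have e : ∀ z, PrimeSpectrum.comap (Algebra.TensorProduct.includeRight : B →ₐ[R₁] C₁ ⊗[R₁] B).toRingHom z =
      PrimeSpectrum.comap (Algebra.TensorProduct.includeRight : B →ₐ[R] C ⊗[R] B).toRingHom (PrimeSpectrum.comap σ.toRingHom z) :=
    fun z => by rw [hr, PrimeSpectrum.comap_comp]; rfl
  rw [Set.image_congr (fun z _ => e z), e P, ← Set.image_image]
  exact h'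

end Groth.L07.FlatGeomReduced
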