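import Groth.Agent.L07.AssFibreProd
import Groth.Agent.L03.GeomReduced2
import Groth.Agent.L25.GeomIrred
import Groth.Agent.L03.ShStab.TwistFlat

/-!
Reduced and integral modules under extension of the base field.
-/

set_option autoImplicit false
set_option maxSynthPendingDepth 3
set_option synthInstance.maxHeartbeats 400000
set_option linter.style.haveILetI false
set_option backward.isDefEq.respectTransparency false
set_option backward.isDefEq.respectTransparency.types false

universe u

open CategoryTheory CategoryTheory.Limits AlgebraicGeometry TopologicalSpace IsLocalRing TensorProduct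

noncomputable section

namespace Groth.L07.ReducedModBC

open Groth.L07.AssTensor

/-- A local ring of length one. -/
theorem length_self_of_isField {R : Type u} [CommRing R] (h : IsField R) : Module.length R R = 1 := by
  letI := h.toField
  exact Module.length_eq_one R R

/-- In a reduced `A ⊗ B` an associated point has length one. -/
theorem length_stalk_of_reduced {k A B : Type u} [Field k] [CommRing A] [IsDomain A] [Algebra k A] [CommRing B]
    [IsDomain B] [Algebra k B] {W : Scheme.{u}} (e : W ≅ Spec (CommRingCat.of (A ⊗[k] B)))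
    [_root_.IsReduced (A ⊗[k] B)] {t : W}
    (ht : t ∈ AssSch.Ass (Coh.structureModule W)) :
    Module.length (W.presheaf.stalk t) (W.presheaf.stalk t) = 1 := by
  haveI : IsReduced (Spec (CommRingCat.of (A ⊗[k] B))) := inferInstance
  haveI : IsReduced W := isReduced_of_isOpenImmersion e.hom
  have hfield : IsField (W.presheaf.stalk t) := by
    have huniq : ∀ P : PrimeSpectrum (W.presheaf.stalk t), P.asIdeal = maximalIdeal _ := fun P => by
      have h1 : W.fromSpecStalk t P ⤳ t := (Scheme.range_fromSpecStalk (X := W) (x := t)).le ⟨_, rfl⟩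
      exact congrArg PrimeSpectrum.asIdeal ((W.fromSpecStalk t).isEmbedding.injective
        ((eq_of_specializes_spec e h1 ht).trans Scheme.fromSpecStalk_closedPoint.symm))
    rw [IsLocalRing.isField_iff_maximalIdeal_eq, eq_bot_iff]
    intro a ha
    have h2 : a ∈ nilradical (W.presheaf.stalk t) := by
      rw [nilradical_eq_sInf, Ideal.mem_sInf]
      intro P hP
      rw [show P = maximalIdeal _ from huniq ⟨P, hP⟩]
      exact ha
    exact (mem_nilradical.mp h2).eq_zero
  exact length_self_of_isField hfield

/-- For an artinian ring, all points are associated, and length one everywhere means reduced. -/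
theorem artinian_spec {R : Type u} [CommRing R] [IsArtinianRing R] {W : Scheme.{u}} (e : W ≅ Spec (CommRingCat.of R)) :
    (∀ t : W, t ∈ AssSch.Ass (Coh.structureModule W)) ∧
      ((∀ t : W, Module.length (W.presheaf.stalk t) (W.presheaf.stalk t) = 1) → _root_.IsReduced R) := by
  constructor
  · intro t
    have huniq : ∀ P : PrimeSpectrum (W.presheaf.stalk t), P.asIdeal = maximalIdeal _ := fun P => by
      have h1 : W.fromSpecStalk t P ⤳ t := (Scheme.range_fromSpecStalk (X := W) (x := t)).le ⟨_, rfl⟩
      have h2 : (e.hom (W.fromSpecStalk t P)).asIdeal ≤ (e.hom t).asIdeal :=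
        (PrimeSpectrum.le_iff_specializes _ _).mpr (h1.map e.hom.continuous)
      haveI : (e.hom (W.fromSpecStalk t P)).asIdeal.IsMaximal := IsArtinianRing.isMaximal_of_isPrime _
      have h3 : W.fromSpecStalk t P = t := e.hom.isOpenEmbedding.injective
        (PrimeSpectrum.ext (Ideal.IsMaximal.eq_of_le ‹_› (e.hom t).2.ne_top h2))
      exact congrArg PrimeSpectrum.asIdeal ((W.fromSpecStalk t).isEmbedding.injective
        (h3.trans Scheme.fromSpecStalk_closedPoint.symm))
    haveI : IsNoetherianRing (W.presheaf.stalk t) :=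
      isNoetherianRing_of_preimmersion e.hom t
    obtain ⟨P, hP⟩ := associatedPrimes.nonempty (W.presheaf.stalk t) (W.presheaf.stalk t)
    have h4 : P = maximalIdeal _ := huniq ⟨P, hP.isPrime⟩
    exact (mem_ass_structure_iff t).mpr (h4 ▸ hP)
  · intro h
    haveI : IsReduced W := @isReduced_of_isReduced_stalk _ fun t => by
      have h1 := Module.length_eq_one_iff.mp (h t)
      haveI : IsSimpleOrder (Ideal (W.presheaf.stalk t)) := h1.toIsSimpleOrder
      have h2 : maximalIdeal (W.presheaf.stalk t) = ⊥ :=
        (eq_bot_or_eq_top _).resolve_right (maximalIdeal.isMaximal _).ne_top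
      letI := (IsLocalRing.isField_iff_maximalIdeal_eq.mpr h2).toField
      infer_instance
    haveI : IsReduced (Spec (CommRingCat.of R)) := isReduced_of_isOpenImmersion e.inv
    exact (affine_isReduced_iff (CommRingCat.of R)).1 inferInstance

variable {k : Type u} [Field k] {X : Scheme.{u}} [IsLocallyNoetherian X] (f : X ⟶ Spec (CommRingCat.of k))

/-- The residue field as a `k`-algebra. -/
abbrev resAlg (x : X) : Algebra k (X.residueField x) :=
  (Spec.preimage (X.fromSpecResidueField x ≫ f)).hom.toAlgebra

/-- The fibre of `X ⊗ K ⟶ X` over `x`. -/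
def fibreIso (K : Type u) [Field K] [Algebra k K] (x : X) :
    letI := resAlg f x
    (FBase.bcπ f K).fiber x ≅ Spec (CommRingCat.of (X.residueField x ⊗[k] K)) :=
  letI := resAlg f x
  pullbackSymmetry _ _ ≪≫
    pullbackRightPullbackFstIso f (Spec.map (CommRingCat.ofHom (algebraMap k K))) (X.fromSpecResidueField x) ≪≫
    pullback.congrHom (Spec.map_preimage (X.fromSpecResidueField x ≫ f)).symm rfl ≪≫
    pullbackSpecIso k (X.residueField x) K

variable (F : X.Modules) (K : Type u) [Field K] [Algebra k K] [IsLocallyNoetherian (FBase.bc f K)]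

/-- The associated points and lengths of `F ⊗ K`. -/
theorem bc_stalk (x : X) (t : ↥((FBase.bcπ f K).fiber x)) :
    ((FBase.bcπ f K).fiberι x t ∈ AssSch.Ass ((Scheme.Modules.pullback (FBase.bcπ f K)).obj F) ↔
      x ∈ AssSch.Ass F ∧ t ∈ AssSch.Ass (Coh.structureModule ((FBase.bcπ f K).fiber x))) ∧
    (IsFiniteLength (X.presheaf.stalk x) (F.presheaf.stalk x) →
      Module.length ((FBase.bc f K).presheaf.stalk ((FBase.bcπ f K).fiberι x t))
          (((Scheme.Modules.pullback (FBase.bcπ f K)).obj F).presheaf.stalk ((FBase.bcπ f K).fiberι x t)) =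
        Module.length (X.presheaf.stalk x) (F.presheaf.stalk x) *
          Module.length (((FBase.bcπ f K).fiber x).presheaf.stalk t) (((FBase.bcπ f K).fiber x).presheaf.stalk t)) := by
  haveI : Flat (Spec.map (CommRingCat.ofHom (algebraMap k K))) :=
    (HasRingHomProperty.Spec_iff (P := @Flat)).mpr (RingHom.flat_algebraMap_iff.mpr inferInstance)
  haveI : Flat (FBase.bcπ f K) := MorphismProperty.pullback_fst _ _ inferInstance
  have hx : (FBase.bcπ f K) ((FBase.bcπ f K).fiberι x t) = x := ((FBase.bcπ f K).fiberHomeo x t).2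
  have hW : IsPullback ((FBase.bcπ f K).fiberι x) ((FBase.bcπ f K).fiberToSpecResidueField x) (FBase.bcπ f K)
      (X.fromSpecResidueField x) := IsPullback.of_hasPullback _ _
  refine ⟨(mem_ass_pullback_iff (FBase.bcπ f K) F _).trans (and_congr (by rw [hx])
    (mem_ass_fibre_iff _ (FBase.bcπ f K) x _ hW t).symm), fun hF => ?_⟩
  rw [length_pullback (FBase.bcπ f K) F _ (by rw [hx]; exact hF), ← length_fibre _ (FBase.bcπ f K) x _ hW t, hx]

/-- Every point of `X ⊗ K` lies in a fibre. -/
theorem exists_fibre (z : ↥(FBase.bc f K)) :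
    ∃ t, (FBase.bcπ f K).fiberι (FBase.bcπ f K z) t = z :=
  ⟨_, (FBase.bcπ f K).fiberι_asFiber z⟩

theorem noEmbedded_bc (hne : AssSch.NoEmbedded F) :
    AssSch.NoEmbedded ((Scheme.Modules.pullback (FBase.bcπ f K)).obj F) := by
  intro z hz z' hz' hsp
  obtain ⟨t, ht⟩ := exists_fibre f K z
  obtain ⟨t', ht'⟩ := exists_fibre f K z'
  have h1 := (bc_stalk f F K _ t).1.mp (by rw [ht]; exact hz)
  have h2 := (bc_stalk f F K _ t').1.mp (by rw [ht']; exact hz')
  have hx := hne _ h1.1 _ h2.1 (hsp.map (FBase.bcπ f K).continuous)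
  clear h2
  generalize FBase.bcπ f K z' = x' at hx t' ht'
  subst hx
  letI := resAlg f (FBase.bcπ f K z)
  have hs : t' ⤳ t := ((FBase.bcπ f K).fiberι (FBase.bcπ f K z)).isEmbedding.isInducing.specializes_iff.mp
    (by rw [ht, ht']; exact hsp)
  rw [← ht, ← ht', eq_of_specializes_spec (fibreIso f K (FBase.bcπ f K z)) hs h1.2]

theorem isReducedMod_bc (hF : AssSch.IsReducedMod F)
    (hg : ∀ x ∈ AssSch.Ass F, letI := resAlg f x; Algebra.IsGeometricallyReduced k (X.residueField x)) :
    AssSch.IsReducedMod ((Scheme.Modules.pullback (FBase.bcπ f K)).obj F) := by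
  refine ⟨noEmbedded_bc f F K hF.1, fun z hz => ?_⟩
  obtain ⟨t, ht⟩ := exists_fibre f K z
  generalize FBase.bcπ f K z = x at t ht
  subst ht
  obtain ⟨hx, htA⟩ := (bc_stalk f F K x t).1.mp hz
  letI := resAlg f x
  haveI := hg x hx
  haveI : _root_.IsReduced (K ⊗[k] X.residueField x) := Groth.L03.GeomReduced2.isReduced_of_isGeometricallyReduced K
  haveI : _root_.IsReduced (X.residueField x ⊗[k] K) :=
    isReduced_of_injective (Algebra.TensorProduct.comm k (X.residueField x) K).toAlgHom
      (Algebra.TensorProduct.comm k (X.residueField x) K).injective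
  rw [(bc_stalk f F K x t).2 (Module.length_ne_top_iff.mp (by rw [hF.2 x hx]; simp)), hF.2 x hx,
    length_stalk_of_reduced (fibreIso f K x) htA, one_mul]

omit [IsLocallyNoetherian (FBase.bc f K)] in
theorem isLocallyNoetherian_bc [FiniteDimensional k K] : IsLocallyNoetherian (FBase.bc f K) := by
  haveI : IsFinite (Spec.map (CommRingCat.ofHom (algebraMap k K))) :=
    (IsFinite.SpecMap_iff _).2 (RingHom.finite_algebraMap.mpr inferInstance)
  haveI : LocallyOfFiniteType (FBase.bcπ f K) := MorphismProperty.pullback_fst _ _ inferInstance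
  exact LocallyOfFiniteType.isLocallyNoetherian (FBase.bcπ f K)

theorem isArtinian_tensor (x : X) [FiniteDimensional k K] :
    letI := resAlg f x
    IsArtinianRing (X.residueField x ⊗[k] K) := by
  letI := resAlg f x
  exact IsArtinianRing.of_finite (X.residueField x) _

theorem isReduced_of_isReducedMod_bc [FiniteDimensional k K] {x : X} (hx : x ∈ AssSch.Ass F)
    (hx1 : Module.length (X.presheaf.stalk x) (F.presheaf.stalk x) = 1)
    (hK : ∀ z ∈ AssSch.Ass ((Scheme.Modules.pullback (FBase.bcπ f K)).obj F),
      Module.length ((FBase.bc f K).presheaf.stalk z)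
        (((Scheme.Modules.pullback (FBase.bcπ f K)).obj F).presheaf.stalk z) = 1) :
    letI := resAlg f x
    _root_.IsReduced (X.residueField x ⊗[k] K) := by
  letI := resAlg f x
  haveI := isArtinian_tensor f K x
  obtain ⟨hall, hred⟩ := artinian_spec (fibreIso f K x)
  refine hred fun t => ?_
  have h := hK _ ((bc_stalk f F K x t).1.mpr ⟨hx, hall t⟩)
  rwa [(bc_stalk f F K x t).2 (Module.length_ne_top_iff.mp (by rw [hx1]; simp)), hx1, one_mul] at h

omit K in
theorem bc_self_iff :
    (∀ z, z ∈ AssSch.Ass ((Scheme.Modules.pullback (FBase.bcπ f k)).obj F) ↔ FBase.bcπ f k z ∈ AssSch.Ass F) ∧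
    (∀ z, Module.length ((FBase.bc f k).presheaf.stalk z)
        (((Scheme.Modules.pullback (FBase.bcπ f k)).obj F).presheaf.stalk z) =
      Module.length (X.presheaf.stalk (FBase.bcπ f k z)) (F.presheaf.stalk (FBase.bcπ f k z))) ∧
    Function.Bijective (FBase.bcπ f k) ∧ ∀ z z', FBase.bcπ f k z ⤳ FBase.bcπ f k z' → z ⤳ z' := by
  haveI : IsIso (Spec.map (CommRingCat.ofHom (algebraMap k k))) := by
    rw [show CommRingCat.ofHom (algebraMap k k) = 𝟙 (CommRingCat.of k) from rfl, Spec.map_id]
    infer_instance
  haveI : IsIso (FBase.bcπ f k) :=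
    inferInstanceAs (IsIso (pullback.fst f (Spec.map (CommRingCat.ofHom (algebraMap k k)))))
  exact ⟨fun z => (pullback_stalk_iff (FBase.bcπ f k) z F).1, fun z => (pullback_stalk_iff (FBase.bcπ f k) z F).2,
    (FBase.bcπ f k).homeomorph.bijective,
    fun z z' h => (FBase.bcπ f k).homeomorph.isInducing.specializes_iff.mp h⟩

omit K in
theorem isReducedMod_of_self (h : AssSch.IsReducedMod ((Scheme.Modules.pullback (FBase.bcπ f k)).obj F)) :
    AssSch.IsReducedMod F := by
  obtain ⟨h1, h2, hb, hs⟩ := bc_self_iff f F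
  refine ⟨fun x hx y hy hsp => ?_, fun x hx => ?_⟩
  · obtain ⟨z, rfl⟩ := hb.2 x
    obtain ⟨w, rfl⟩ := hb.2 y
    rw [h.1 z ((h1 z).mpr hx) w ((h1 w).mpr hy) (hs _ _ hsp)]
  · obtain ⟨z, rfl⟩ := hb.2 x
    rw [← h2]
    exact h.2 z ((h1 z).mpr hx)

omit K in
/-- Geometric reducedness of the residue fields at associated points. -/
theorem geomRed_of_forall
    (H : ∀ (k' : Type u) [Field k'] [Algebra k k'] [FiniteDimensional k k'] [IsPurelyInseparable k k'],
      AssSch.IsReducedMod ((Scheme.Modules.pullback (FBase.bcπ f k')).obj F)) :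
    AssSch.IsReducedMod F ∧
      ∀ x ∈ AssSch.Ass F, letI := resAlg f x; Algebra.IsGeometricallyReduced k (X.residueField x) := by
  have hF := isReducedMod_of_self f F (H k)
  refine ⟨hF, fun x hx => ?_⟩
  letI := resAlg f x
  refine Groth.L03.GeomReduced2.isGeometricallyReduced_of_purelyInseparable k _ fun k' _ _ _ _ => ?_
  haveI := isLocallyNoetherian_bc f k'
  haveI := isReduced_of_isReducedMod_bc f F k' hx (hF.2 x hx) (H k').2
  exact isReduced_of_injective (Algebra.TensorProduct.comm k k' (X.residueField x)).toAlgHom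
    (Algebra.TensorProduct.comm k k' (X.residueField x)).injective

omit K in
theorem isReducedMod_iff :
    (∀ (k' : Type u) [Field k'] [Algebra k k'] [FiniteDimensional k k'] [IsPurelyInseparable k k'],
        AssSch.IsReducedMod ((Scheme.Modules.pullback (FBase.bcπ f k')).obj F)) ↔
      ∀ (K : Type u) [Field K] [Algebra k K] [IsLocallyNoetherian (FBase.bc f K)],
        AssSch.IsReducedMod ((Scheme.Modules.pullback (FBase.bcπ f K)).obj F) := by
  constructor
  · intro H K _ _ _
    obtain ⟨hF, hg⟩ := geomRed_of_forall f F H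
    exact isReducedMod_bc f F K hF hg
  · intro H k' _ _ _ _
    haveI := isLocallyNoetherian_bc f k'
    exact H k'

omit K in
/-- A domain after every finite extension stays a domain after every extension. -/
theorem isDomain_tensor_of_finite {A : Type u} [CommRing A] [IsDomain A] [Algebra k A]
    (H : ∀ (L : Type u) [Field L] [Algebra k L] [FiniteDimensional k L], IsDomain (A ⊗[k] L))
    (K : Type u) [Field K] [Algebra k K] : IsDomain (A ⊗[k] K) := by
  let Ω := AlgebraicClosure k
  haveI : IsDomain (A ⊗[k] Ω) := by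
    haveI : Nontrivial (A ⊗[k] Ω) := by
      haveI := H k
      have hi : Function.Injective ((Algebra.ofId k Ω).toLinearMap.lTensor A) :=
        Module.Flat.lTensor_preserves_injective_linearMap _ (algebraMap k Ω).injective
      exact hi.nontrivial
    haveI : NoZeroDivisors (A ⊗[k] Ω) := by
      refine ⟨fun {a b} hab => ?_⟩
      obtain ⟨L, hL, a', ha⟩ := Groth.L03.GeomReduced.exists_finite_mem_range k A Ω (Algebra.TensorProduct.comm k A Ω a)
      obtain ⟨M, hM, b', hb⟩ := Groth.L03.GeomReduced.exists_finite_mem_range k A Ω (Algebra.TensorProduct.comm k A Ω b)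
      haveI := hL
      haveI := hM
      let N := L ⊔ M
      haveI : Module.Finite k N := IntermediateField.finiteDimensional_sup L M
      haveI := H N
      haveI : IsDomain (N ⊗[k] A) := (Algebra.TensorProduct.comm k N A).toMulEquiv.isDomain _
      let ιN := Algebra.TensorProduct.map N.val (AlgHom.id k A)
      have hinj : Function.Injective ιN :=
        Module.Flat.rTensor_preserves_injective_linearMap N.val.toLinearMap N.val.injective
      let a₁ := Algebra.TensorProduct.map (IntermediateField.inclusion (le_sup_left : L ≤ N)) (AlgHom.id k A) a'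
      let b₁ := Algebra.TensorProduct.map (IntermediateField.inclusion (le_sup_right : M ≤ N)) (AlgHom.id k A) b'
      have key : ∀ (L' : IntermediateField k Ω) (h : L' ≤ N) (v : L' ⊗[k] A),
          ιN (Algebra.TensorProduct.map (IntermediateField.inclusion h) (AlgHom.id k A) v) =
            Algebra.TensorProduct.map L'.val (AlgHom.id k A) v := fun L' h v => by
        induction v using TensorProduct.induction_on with
        | zero => simp
        | tmul p q => rfl
        | add p q hp hq => rw [map_add, map_add, hp, hq, map_add]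
      have h1 : ιN a₁ = Algebra.TensorProduct.comm k A Ω a := (key L le_sup_left a').trans ha
      have h2 : ιN b₁ = Algebra.TensorProduct.comm k A Ω b := (key M le_sup_right b').trans hb
      have h3 : a₁ * b₁ = 0 := hinj (by rw [map_mul, h1, h2, ← map_mul, hab, map_zero, map_zero])
      rcases mul_eq_zero.mp h3 with h4 | h4
      · exact Or.inl ((Algebra.TensorProduct.comm k A Ω).injective (by rw [← h1, h4, map_zero, map_zero]))
      · exact Or.inr ((Algebra.TensorProduct.comm k A Ω).injective (by rw [← h2, h4, map_zero, map_zero]))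
    exact NoZeroDivisors.to_isDomain _
  -- a common extension of `K` and the algebraic closure
  let L := AlgebraicClosure K
  letI : Algebra Ω L := (IsAlgClosed.lift : Ω →ₐ[k] L).toRingHom.toAlgebra
  haveI : IsScalarTower k Ω L := IsScalarTower.of_algebraMap_eq fun r => ((IsAlgClosed.lift : Ω →ₐ[k] L).commutes r).symm
  haveI : IsDomain (Ω ⊗[k] A) := (Algebra.TensorProduct.comm k Ω A).toMulEquiv.isDomain _
  haveI : IsDomain (L ⊗[Ω] (Ω ⊗[k] A)) := Groth.L25.GeomIrred.isDomain_tensorProduct
  haveI : IsDomain (L ⊗[k] A) :=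
    (Algebra.TensorProduct.cancelBaseChange k Ω L L A).symm.toMulEquiv.isDomain _
  haveI : IsDomain (A ⊗[k] L) := (Algebra.TensorProduct.comm k A L).toMulEquiv.isDomain _
  exact (Module.Flat.lTensor_preserves_injective_linearMap (M := A) (IsScalarTower.toAlgHom k K L).toLinearMap
    (algebraMap K L).injective).isDomain
      (Algebra.TensorProduct.map (AlgHom.id k A) (IsScalarTower.toAlgHom k K L)).toRingHom

/-- The property of being an integral module. -/
abbrev IsIntegralMod {Z : Scheme.{u}} (M : Z.Modules) : Prop :=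
  ∃ x, AssSch.Ass M = {x} ∧ Module.length (Z.presheaf.stalk x) (M.presheaf.stalk x) = 1

omit K in
theorem isIntegralMod_iff :
    (∀ (k' : Type u) [Field k'] [Algebra k k'] [FiniteDimensional k k'],
        IsIntegralMod ((Scheme.Modules.pullback (FBase.bcπ f k')).obj F)) ↔
      ∀ (K : Type u) [Field K] [Algebra k K] [IsLocallyNoetherian (FBase.bc f K)],
        IsIntegralMod ((Scheme.Modules.pullback (FBase.bcπ f K)).obj F) := by
  constructor
  · intro H
    obtain ⟨h1, h2, hb, -⟩ := bc_self_iff f F
    obtain ⟨z₀, hz₀, hlz⟩ := H k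
    have hx₀ : FBase.bcπ f k z₀ ∈ AssSch.Ass F := (h1 z₀).mp (by rw [hz₀]; rfl)
    rw [h2] at hlz
    generalize FBase.bcπ f k z₀ = x₀ at hx₀ hlz
    have hAss : AssSch.Ass F = {x₀} := by
      refine Set.eq_singleton_iff_unique_mem.mpr ⟨hx₀, fun x hx => ?_⟩
      obtain ⟨z, rfl⟩ := hb.2 x
      obtain ⟨z', rfl⟩ := hb.2 x₀
      have e1 := (h1 z).mpr hx
      have e2 := (h1 z').mpr hx₀
      rw [hz₀] at e1 e2
      rw [Set.mem_singleton_iff.mp e1, Set.mem_singleton_iff.mp e2]
    letI := resAlg f x₀
    have hdom : ∀ (L : Type u) [Field L] [Algebra k L] [FiniteDimensional k L],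
        IsDomain (X.residueField x₀ ⊗[k] L) := by
      intro L _ _ _
      haveI := isLocallyNoetherian_bc f L
      haveI := isArtinian_tensor f L x₀
      obtain ⟨z, hz, hl⟩ := H L
      haveI := isReduced_of_isReducedMod_bc f F L hx₀ hlz
        (fun w hw => by rw [hz] at hw; rw [Set.mem_singleton_iff.mp hw]; exact hl)
      have hsub : Subsingleton ↥((FBase.bcπ f L).fiber x₀) := ⟨fun a b => by
        have ha := (bc_stalk f F L x₀ a).1.mpr ⟨hx₀, (artinian_spec (fibreIso f L x₀)).1 a⟩
        have hb := (bc_stalk f F L x₀ b).1.mpr ⟨hx₀, (artinian_spec (fibreIso f L x₀)).1 b⟩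
        rw [hz] at ha hb
        exact ((FBase.bcπ f L).fiberι x₀).isEmbedding.injective
          ((Set.mem_singleton_iff.mp ha).trans (Set.mem_singleton_iff.mp hb).symm)⟩
      haveI : Subsingleton (PrimeSpectrum (X.residueField x₀ ⊗[k] L)) :=
        (fibreIso f L x₀).hom.homeomorph.toEquiv.symm.subsingleton
      haveI : Nontrivial (X.residueField x₀ ⊗[k] L) :=
        (Algebra.TensorProduct.includeLeft_injective (R := k) (S := X.residueField x₀) (A := X.residueField x₀)
          (B := L) (algebraMap k L).injective).nontrivial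
      have hbot : (⊥ : Ideal (X.residueField x₀ ⊗[k] L)).IsPrime := by
        obtain ⟨P, hP⟩ := Ideal.exists_maximal (X.residueField x₀ ⊗[k] L)
        have : P = ⊥ := by
          rw [eq_bot_iff, ← Ideal.zero_eq_bot, ← nilradical_eq_zero (X.residueField x₀ ⊗[k] L), nilradical_eq_sInf]
          refine le_sInf fun Q hQ => ?_
          exact (congrArg PrimeSpectrum.asIdeal (Subsingleton.elim
            (⟨P, hP.isPrime⟩ : PrimeSpectrum (X.residueField x₀ ⊗[k] L)) ⟨Q, hQ⟩)).le
        exact this ▸ hP.isPrime
      haveI : NoZeroDivisors (X.residueField x₀ ⊗[k] L) := ⟨fun h => by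
        rcases hbot.mem_or_mem (Submodule.mem_bot _ |>.mpr h) with h' | h'
        · exact Or.inl ((Submodule.mem_bot _).mp h')
        · exact Or.inr ((Submodule.mem_bot _).mp h')⟩
      exact NoZeroDivisors.to_isDomain _
    intro K _ _ _
    haveI := isDomain_tensor_of_finite hdom K
    haveI : IsIntegral (Spec (CommRingCat.of (X.residueField x₀ ⊗[k] K))) := inferInstance
    let W := (FBase.bcπ f K).fiber x₀
    let e := fibreIso f K x₀
    have hgen : ∃ t : W, t ∈ AssSch.Ass (Coh.structureModule W) ∧ ∀ t', t ⤳ t' := by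
      haveI : Nonempty ↥W := ⟨e.inv (genericPoint _)⟩
      haveI : IsIntegral W := IsIntegral.of_isIso e.inv
      refine ⟨genericPoint W, (mem_ass_structure_iff _).mpr ?_, fun t' => genericPoint_specializes t'⟩
      letI : Field (W.presheaf.stalk (genericPoint W)) := inferInstanceAs (Field W.functionField)
      rw [show maximalIdeal (W.presheaf.stalk (genericPoint W)) = ⊥ from
        IsLocalRing.isField_iff_maximalIdeal_eq.mp (Field.toIsField _)]
      refine ⟨Ideal.bot_prime, 1, ?_⟩
      symm
      rw [Ideal.radical_eq_iff.mpr ?_]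
      · ext a; simp [Submodule.mem_colon_singleton]
      · rw [show (⊥ : Submodule _ _).colon {(1 : W.presheaf.stalk (genericPoint W))} = ⊥ by
          ext a; simp [Submodule.mem_colon_singleton]]
        exact Ideal.IsPrime.isRadical Ideal.bot_prime
    obtain ⟨t, htA, ht⟩ := hgen
    refine ⟨(FBase.bcπ f K).fiberι x₀ t, Set.eq_singleton_iff_unique_mem.mpr
      ⟨(bc_stalk f F K x₀ t).1.mpr ⟨hx₀, htA⟩, fun z hz => ?_⟩, ?_⟩
    · obtain ⟨t', ht'⟩ := exists_fibre f K z
      generalize FBase.bcπ f K z = x at t' ht'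
      subst ht'
      obtain ⟨hx, hA'⟩ := (bc_stalk f F K x t').1.mp hz
      rw [hAss] at hx
      subst hx
      rw [eq_of_specializes_spec e (ht t') hA']
    · rw [(bc_stalk f F K x₀ t).2 (Module.length_ne_top_iff.mp (by rw [hlz]; simp)), hlz,
        length_stalk_of_reduced e htA, one_mul]
  · intro H k' _ _ _
    haveI := isLocallyNoetherian_bc f k'
    exact H k'

set_option maxHeartbeats 1000000 in
omit K in
/-- Exterior tensor product of a geometrically reduced and a reduced module. -/
theorem isReducedMod_tens {Y : Scheme.{u}} [IsLocallyNoetherian Y] (g : Y ⟶ Spec (CommRingCat.of k))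
    [IsLocallyNoetherian (pullback f g)] (G : Y.Modules) (hG : Coh.IsQCoh G)
    (hFgr : ∀ (k' : Type u) [Field k'] [Algebra k k'] [FiniteDimensional k k'] [IsPurelyInseparable k k'],
      AssSch.IsReducedMod ((Scheme.Modules.pullback (FBase.bcπ f k')).obj F))
    (hGr : AssSch.IsReducedMod G) :
    AssSch.IsReducedMod (tens f g F G) := by
  haveI := hG
  obtain ⟨hF, hg⟩ := geomRed_of_forall f F hFgr
  have hGfl : FlatMod.IsFlatOver g G := Groth.L03.ShStab.TwistFlat.isFlatOver_field g G
  have hbot : ∀ s : Spec (CommRingCat.of k), maximalIdeal ((Spec (CommRingCat.of k)).presheaf.stalk s) = ⊥ := fun s => by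
    letI : Algebra k ((Spec (CommRingCat.of k)).presheaf.stalk s) :=
      StructureSheaf.stalkAlgebra (CommRingCat.of k) s
    haveI : IsLocalization.AtPrime ((Spec (CommRingCat.of k)).presheaf.stalk s) s.asIdeal :=
      StructureSheaf.IsLocalization.to_stalk (CommRingCat.of k) s
    rw [← IsLocalization.AtPrime.map_eq_maximalIdeal s.asIdeal ((Spec (CommRingCat.of k)).presheaf.stalk s),
      show s.asIdeal = ⊥ from (Ideal.eq_bot_or_top _).resolve_right s.2.ne_top, Ideal.map_bot]
  have hAssS : ∀ s : Spec (CommRingCat.of k), s ∈ AssSch.Ass (Coh.structureModule (Spec (CommRingCat.of k))) := fun s => by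
    rw [mem_ass_structure_iff, hbot s]
    refine ⟨(hbot s) ▸ (maximalIdeal.isMaximal _).isPrime, 1, ?_⟩
    rw [show (⊥ : Submodule _ _).colon {(1 : (Spec (CommRingCat.of k)).presheaf.stalk s)} = ⊥ by
      ext a; simp [Submodule.mem_colon_singleton]]
    exact (Ideal.IsPrime.isRadical (hbot s ▸ (maximalIdeal.isMaximal _).isPrime)).radical.symm
  refine ⟨noEmbedded_tens_aux f g F G hGfl hF.1 fun z hz z' hz' hsp _ =>
    hGr.1 _ (snd_mem_ass f g F G hGfl (fun x _ => hAssS _) z hz) _
      (snd_mem_ass f g F G hGfl (fun x _ => hAssS _) z' hz') (hsp.map (pullback.snd f g).continuous),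
    fun z hz => ?_⟩
  obtain ⟨t, ht⟩ := exists_pairMap f g z
  obtain ⟨y', hy'⟩ := exists_data f g z
  generalize pullback.fst f g z = x at t ht y' hy'
  generalize pullback.snd f g z = y at t ht hy'
  subst ht
  obtain ⟨hx, hy'A, htA⟩ := (mem_ass_tens_iff f g F G hGfl x y' y hy' t).mp hz
  have hyA : g.fiberι (f x) y' ∈ AssSch.Ass G := (mem_ass_flat_iff g G hGfl _ y').mpr ⟨hAssS _, hy'A⟩
  have hly : Module.length ((g.fiber (f x)).presheaf.stalk y')
      (((Scheme.Modules.pullback (g.fiberι (f x))).obj G).presheaf.stalk y') = 1 := by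
    rw [(fibre_iff g G (f x) y' rfl).2, ← hGr.2 _ hyA]
    exact (Submodule.quotEquivOfEqBot _ (by rw [hbot, Ideal.map_bot, Submodule.bot_smul])).length_eq
  rw [(tens_stalk f g F G hGfl x y' y hy' t).2 (Module.length_ne_top_iff.mp (by rw [hF.2 x hx]; simp))
      (Module.length_ne_top_iff.mp (by rw [hly]; simp)), hF.2 x hx, hly, one_mul, one_mul]
  letI := resAlg f x
  letI := (Spec.preimage (Y.fromSpecResidueField y ≫ g)).hom.toAlgebra
  haveI := hg x hx
  haveI : _root_.IsReduced (Y.residueField y ⊗[k] X.residueField x) :=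
    Groth.L03.GeomReduced2.isReduced_of_isGeometricallyReduced (Y.residueField y)
  haveI : _root_.IsReduced (X.residueField x ⊗[k] Y.residueField y) :=
    isReduced_of_injective (Algebra.TensorProduct.comm k (X.residueField x) (Y.residueField y)).toAlgHom
      (Algebra.TensorProduct.comm k (X.residueField x) (Y.residueField y)).injective
  have e₁ : X.fromSpecResidueField x ≫ f = Spec.map (CommRingCat.ofHom (algebraMap k (X.residueField x))) :=
    (Spec.map_preimage (X.fromSpecResidueField x ≫ f)).symm
  have e₂ : Y.fromSpecResidueField y ≫ g = Spec.map (CommRingCat.ofHom (algebraMap k (Y.residueField y))) :=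
    (Spec.map_preimage (Y.fromSpecResidueField y ≫ g)).symm
  let e : pullback (X.fromSpecResidueField x ≫ f) (Y.fromSpecResidueField y ≫ g) ≅
      Spec (CommRingCat.of (X.residueField x ⊗[k] Y.residueField y)) :=
    pullback.congrHom e₁ e₂ ≪≫ pullbackSpecIso k (X.residueField x) (Y.residueField y)
  exact length_stalk_of_reduced e htA

end Groth.L07.ReducedModBC
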