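import Groth.Agent.L07.KoszulIdealDescent

/-! Ideals which are Koszul-regular at a prime. -/

set_option autoImplicit false
set_option linter.style.haveILetI false
set_option maxSynthPendingDepth 3

universe u

open CategoryTheory CategoryTheory.Limits
open Groth.L04.Koszul

namespace Groth.L07.KoszulIdeal

variable {A B : Type u} [CommRing A] [CommRing B]

/-- `I` is generated by a Koszul-regular sequence near `p`. -/
def RegAt (I p : Ideal A) : Prop := ∃ g ∉ p, ∃ l : List A, SeqOn I g l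

theorem isKoszulRegularIdeal_iff {I : Ideal A} :
    LCI.IsKoszulRegularIdeal I ↔ ∀ (p : Ideal A) [p.IsPrime], I ≤ p → RegAt I p :=
  ⟨fun h p _ hp => exists_seqOn h p hp, fun h => isKoszulRegularIdeal_of_seqOn h⟩

theorem map_le_map_of_pow {L : Type u} [CommRing L] (φ : A →+* L) {I J : Ideal A} {h : A} (hu : IsUnit (φ h))
    (e : ∀ x ∈ I, ∃ k : ℕ, h ^ k * x ∈ J) : I.map φ ≤ J.map φ := by
  refine Ideal.map_le_iff_le_comap.mpr fun x hx => ?_
  obtain ⟨k, hk⟩ := e x hx
  exact ((J.map φ).unit_mul_mem_iff_mem (hu.pow k)).mp (by rw [← map_pow, ← map_mul]; exact Ideal.mem_map_of_mem φ hk)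

theorem RegAt.congr {I J p : Ideal A} [p.IsPrime] {h : A} (hh : h ∉ p) (e : ∀ x ∈ I, ∃ k : ℕ, h ^ k * x ∈ J)
    (e' : ∀ x ∈ J, ∃ k : ℕ, h ^ k * x ∈ I) (H : RegAt I p) : RegAt J p := by
  obtain ⟨g, hg, l, hl⟩ := H
  let L := Localization.Away (g * h)
  have hu : ∀ x, x ∣ g * h → IsUnit (algebraMap A L x) := fun x hx =>
    isUnit_of_dvd_unit (map_dvd _ hx) (IsLocalization.Away.algebraMap_isUnit (g * h))
  have hug := hu g (dvd_mul_right g h)
  have huh := hu h (dvd_mul_left h g)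
  obtain ⟨l', -, hl'⟩ := exists_seqOn_of_away (I := J)
    (hl.regular (algebraMap A L) (RingHom.flat_algebraMap_iff.mpr (IsLocalization.flat _ (Submonoid.powers (g * h)))) hug)
    ((le_antisymm (map_le_map_of_pow _ huh e') (map_le_map_of_pow _ huh e)).trans (hl.map_eq _ hug))
  exact ⟨g * h, fun hm => (‹p.IsPrime›.mem_or_mem hm).elim hg hh, l', hl'⟩

theorem RegAt.map {I : Ideal A} (φ : A →+* B) (hφ : φ.Flat) (q : Ideal B) (H : RegAt I (q.comap φ)) :
    RegAt (I.map φ) q := by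
  obtain ⟨g, hg, l, hl⟩ := H
  exact ⟨φ g, hg, _, hl.map φ hφ⟩

/-- Descent of regularity at a prime along a flat map open on spectra. -/
theorem regAt_descend (φ : A →+* B) (hφ : φ.Flat) (ho : IsOpenMap (PrimeSpectrum.comap φ))
    (I : Ideal A) (q : Ideal B) [q.IsPrime] (hIp : I ≤ q.comap φ) (H : RegAt (I.map φ) q) :
    RegAt I (q.comap φ) := by
  classical
  obtain ⟨gB, hgB, l, hl1, hl2, hl3⟩ := H
  choose T hT hyT using fun y : {y // y ∈ l} => Submodule.mem_span_finite_of_mem_span (hl1 y.1 y.2)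
  choose T' hT' hTT' using fun y : {y // y ∈ l} => Finset.subset_set_image_iff.mp (hT y)
  let T₀ : Finset A := Finset.univ.biUnion T'
  let I₁ : Ideal A := Ideal.span T₀
  have hI₁ : I₁ ≤ I := Ideal.span_le.mpr fun x hx => by
    obtain ⟨y, -, hy⟩ := Finset.mem_biUnion.mp (Finset.mem_coe.mp hx)
    exact hT' y hy
  have hlI₁ : ∀ y ∈ l, y ∈ I₁.map φ := fun y hy => by
    refine (Submodule.span_le.mpr ?_) (hyT ⟨y, hy⟩)
    rw [← hTT' ⟨y, hy⟩, Finset.coe_image]
    rintro _ ⟨x, hx, rfl⟩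
    exact Ideal.mem_map_of_mem φ (Ideal.subset_span (Finset.mem_biUnion.mpr ⟨_, Finset.mem_univ _, hx⟩))
  have hseq : SeqOn (I₁.map φ) gB l := ⟨hlI₁, fun x hx => hl2 x (Ideal.map_mono hI₁ hx), hl3⟩
  obtain ⟨g₁, hg₁, l₁, hl₁⟩ := exists_seqOn_of_isOpenMap φ hφ ho I₁ ⟨T₀, rfl⟩ q (hI₁.trans hIp) hgB hseq
  have hopen := ho _ (PrimeSpectrum.basicOpen gB).2
  obtain ⟨_, ⟨h, rfl⟩, hqh, hsub⟩ := PrimeSpectrum.isTopologicalBasis_basic_opens.exists_subset_of_mem_open
    (Set.mem_image_of_mem _ (show (⟨q, inferInstance⟩ : PrimeSpectrum B) ∈ ((PrimeSpectrum.basicOpen gB) : Set (PrimeSpectrum B)) from hgB)) hopen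
  refine RegAt.congr hqh (fun x hx => ⟨0, by simpa using hI₁ hx⟩) (fun x hx => ?_) ⟨g₁, hg₁, l₁, hl₁⟩
  let a : Ideal A := Submodule.comap (LinearMap.toSpanSingleton A A x) I₁
  suffices h ∈ a.radical by
    obtain ⟨k, hk⟩ := this
    exact ⟨k, by simpa [a, LinearMap.toSpanSingleton_apply] using hk⟩
  by_contra hn
  obtain ⟨p', ⟨hpr, hap⟩, hhp⟩ : ∃ p' : Ideal A, (p'.IsPrime ∧ a ≤ p') ∧ h ∉ p' := by
    rw [Ideal.radical_eq_sInf, Ideal.mem_sInf] at hn
    push Not at hn
    obtain ⟨p', hp', hh'⟩ := hn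
    exact ⟨p', ⟨hp'.2, hp'.1⟩, hh'⟩
  obtain ⟨⟨q', hq'⟩, hgq', e⟩ := hsub (show (⟨p', hpr⟩ : PrimeSpectrum A) ∈ _ from hhp)
  obtain rfl : q'.comap φ = p' := congrArg PrimeSpectrum.asIdeal e
  let L := Localization.AtPrime (q'.comap φ)
  let M := Localization.AtPrime q'
  let α := Localization.localRingHom (q'.comap φ) q' φ rfl
  letI := α.toAlgebra
  haveI : Module.FaithfullyFlat L M := faithfullyFlat_localRingHom φ hφ q'
  have hx1 : algebraMap A L x ∈ I₁.map (algebraMap A L) := by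
    rw [← Ideal.comap_map_eq_self_of_faithfullyFlat (B := M) (I₁.map (algebraMap A L)), Ideal.mem_comap, Ideal.map_map]
    show α (algebraMap A L x) ∈ I₁.map (α.comp (algebraMap A L))
    rw [Localization.localRingHom_to_map,
      show α.comp (algebraMap A L) = (algebraMap B M).comp φ from
        RingHom.ext fun r => Localization.localRingHom_to_map _ q' φ rfl r,
      ← Ideal.map_map]
    refine map_le_map_of_pow (algebraMap B M) (IsLocalization.map_units M (⟨gB, hgq'⟩ : q'.primeCompl)) (I := I.map φ)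
      (J := I₁.map φ) (fun y hy => ?_) (Ideal.mem_map_of_mem _ (Ideal.mem_map_of_mem φ hx))
    obtain ⟨k, hk⟩ := hl2 y hy
    exact ⟨k, (Ideal.span_le.mpr fun z hz => hlI₁ z hz : Ideal.ofList l ≤ I₁.map φ) hk⟩
  obtain ⟨t, ht, htx⟩ :=
    (IsLocalization.algebraMap_mem_map_algebraMap_iff (q'.comap φ).primeCompl L I₁ x).mp hx1
  exact ht (hap (show t ∈ a by simpa [a, LinearMap.toSpanSingleton_apply] using htx))

/-- The converse of `isKoszulRegularSeq_append`. -/
theorem isKoszulRegularSeq_of_append {C : Type u} [CommRing C] (σ : A →+* C) (hσ : Function.Surjective σ)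
    (fs gs : List A) (hker : RingHom.ker σ = Ideal.ofList fs) (hf : LCI.IsKoszulRegularSeq A fs)
    (hg : LCI.IsKoszulRegularSeq A (gs ++ fs)) : LCI.IsKoszulRegularSeq C (gs.map σ) := by
  rw [Groth.L07.KoszulPerm.isKoszulRegularSeq_iff] at hf hg ⊢
  intro n hn
  obtain ⟨π, hπ⟩ := Groth.L07.KoszulAppend.exists_augmentation (ModuleCat.of A A) fs hf gs
  have hI : (Ideal.ofList fs • ⊤ : Submodule A A) = RingHom.ker σ := by
    rw [hker, Ideal.smul_eq_mul, Ideal.mul_top]
  let Q := A ⧸ (Ideal.ofList fs • ⊤ : Submodule A A)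
  let e : Q ≃+ C := (Submodule.quotEquivOfEq _ _ hI).toAddEquiv.trans
    (RingHom.quotientKerEquivOfSurjective hσ).toAddEquiv
  have he : ∀ (b : A) (m : Q), e (b • m) = σ b • e m := by
    intro b m
    obtain ⟨a, rfl⟩ := Submodule.Quotient.mk_surjective _ m
    exact map_mul σ b a
  refine Groth.L07.KoszulBC.isZero_transfer σ (ModuleCat.of A Q) (ModuleCat.of C C) e he gs n ?_
  haveI := ModuleCat.isZero_iff_subsingleton.1 (hg n hn)
  exact ModuleCat.isZero_iff_subsingleton.2 (subsingleton_of_forall_eq 0 fun y => by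
    obtain ⟨x, rfl⟩ := (hπ n).2 y
    rw [Subsingleton.elim x 0, map_zero])

/-- Localising a surjection at one element. -/
theorem away_map {C : Type u} [CommRing C] (σ : A →+* C) (hσ : Function.Surjective σ) (a : A) :
    ∃ τ : Localization.Away a →+* Localization.Away (σ a), Function.Surjective τ ∧
      τ.comp (algebraMap A _) = (algebraMap C _).comp σ ∧
      RingHom.ker τ = (RingHom.ker σ).map (algebraMap A (Localization.Away a)) := by
  let τ := IsLocalization.Away.map (Localization.Away a) (Localization.Away (σ a)) σ a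
  have hc : ∀ x, τ (algebraMap A _ x) = algebraMap C _ (σ x) := fun x => IsLocalization.map_eq _ x
  refine ⟨τ, ?_, RingHom.ext hc, le_antisymm (fun z hz => ?_) (Ideal.map_le_iff_le_comap.mpr fun c hc' => ?_)⟩
  · intro y
    obtain ⟨c, ⟨_, k, rfl⟩, rfl⟩ := IsLocalization.exists_mk'_eq (Submonoid.powers (σ a)) y
    obtain ⟨b, rfl⟩ := hσ c
    refine ⟨IsLocalization.mk' _ b (⟨a ^ k, k, rfl⟩ : Submonoid.powers a), ?_⟩
    rw [IsLocalization.eq_mk'_iff_mul_eq]
    show τ _ * algebraMap C _ ((σ a) ^ k) = _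
    rw [← map_pow σ, ← hc, ← map_mul, IsLocalization.mk'_spec, hc]
  · obtain ⟨c, s, rfl⟩ := IsLocalization.exists_mk'_eq (Submonoid.powers a) z
    rw [IsLocalization.mk'_mem_map_algebraMap_iff (Submonoid.powers a)]
    have h0 : algebraMap C (Localization.Away (σ a)) (σ c) = 0 := by
      rw [← hc, ← IsLocalization.mk'_spec (M := Submonoid.powers a) (Localization.Away a) c s, map_mul,
        RingHom.mem_ker.mp hz, zero_mul]
    obtain ⟨⟨_, k, rfl⟩, hk⟩ := (IsLocalization.map_eq_zero_iff (Submonoid.powers (σ a)) _ _).mp h0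
    exact ⟨a ^ k, ⟨k, rfl⟩, by rw [RingHom.mem_ker, map_mul, map_pow]; exact hk⟩
  · rw [Ideal.mem_comap, RingHom.mem_ker, hc, RingHom.mem_ker.mp hc', map_zero]

end Groth.L07.KoszulIdeal
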