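import Groth.Agent.L07.RegAt
import Groth.Agent.L07.KoszulVars
import Mathlib.Algebra.TrivSqZeroExt.Basic
import Mathlib.RingTheory.LocalRing.ResidueField.Ideal

/-! Regularity of an ideal and of its preimage in a polynomial ring. -/

set_option autoImplicit false
set_option linter.style.haveILetI false
set_option maxSynthPendingDepth 3

universe u

open MvPolynomial

namespace Groth.L07.KoszulIdeal

variable {R : Type u} [CommRing R] {n : ℕ}

theorem ker_constantCoeff : RingHom.ker (constantCoeff (R := R) (σ := Fin n)) =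
    Ideal.ofList (List.ofFn fun i => (X i : MvPolynomial (Fin n) R)) := by
  refine le_antisymm (fun f hf => ?_) (Ideal.span_le.mpr fun f hf => ?_)
  · have : f ∈ Ideal.span ((X (R := R)) '' (Set.univ : Set (Fin n))) := by
      rw [mem_ideal_span_X_image]
      intro m hm
      by_contra! hne
      have hm0 : m = 0 := Finsupp.ext fun i => by simpa using hne i trivial
      subst hm0
      exact (mem_support_iff.mp hm) ((RingHom.mem_ker (f := constantCoeff (R := R) (σ := Fin n))).mp hf)
    refine (Ideal.span_le.mpr ?_) this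
    rintro _ ⟨i, -, rfl⟩
    exact Ideal.subset_span ((List.mem_ofFn' _ _).mpr ⟨i, rfl⟩)
  · obtain ⟨i, rfl⟩ := (List.mem_ofFn' _ _).mp hf
    exact RingHom.mem_ker.mpr (constantCoeff_X R i)

theorem comap_constantCoeff (I : Ideal R) :
    I.comap (constantCoeff (R := R) (σ := Fin n)) =
      I.map C ⊔ Ideal.ofList (List.ofFn fun i => (X i : MvPolynomial (Fin n) R)) := by
  rw [← ker_constantCoeff]
  refine le_antisymm (fun f hf => ?_) (sup_le (Ideal.map_le_iff_le_comap.mpr fun x hx => ?_) fun f hf => ?_)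
  · refine Submodule.mem_sup.mpr ⟨C (constantCoeff f), Ideal.mem_map_of_mem C hf, f - C (constantCoeff f), ?_, by ring⟩
    rw [RingHom.mem_ker, map_sub, constantCoeff_C, sub_self]
  · rw [Ideal.mem_comap, Ideal.mem_comap, constantCoeff_C]; exact hx
  · rw [Ideal.mem_comap, RingHom.mem_ker.mp hf]; exact zero_mem I

theorem regAt_comap_constantCoeff_of (I p : Ideal R) (H : RegAt I p) :
    RegAt (I.comap (constantCoeff (R := R) (σ := Fin n))) (p.comap constantCoeff) := by
  obtain ⟨g, hg, l, hl⟩ := H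
  let A := MvPolynomial (Fin n) R
  let a : A := C g
  let M := Localization.Away a
  obtain ⟨τ, hτs, hτ, hτk⟩ := away_map (constantCoeff (R := R) (σ := Fin n))
    (fun x => ⟨C x, constantCoeff_C _ x⟩) a
  let fs := (List.ofFn fun i => (X i : A)).map (algebraMap A M)
  let gs := (l.map C).map (algebraMap A M)
  have hga : constantCoeff a = g := constantCoeff_C _ g
  have hgs : gs.map τ = l.map (algebraMap R (Localization.Away (constantCoeff a))) := by
    rw [List.map_map, List.map_map]
    refine List.map_congr_left fun x _ => ?_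
    show τ (algebraMap A M (C x)) = _
    rw [show τ (algebraMap A M (C x)) = _ from RingHom.congr_fun hτ (C x), RingHom.comp_apply]
    exact congrArg _ (constantCoeff_C _ x)
  have hker : RingHom.ker τ = Ideal.ofList fs := by rw [hτk, ker_constantCoeff, Ideal.map_ofList]
  have hfs : LCI.IsKoszulRegularSeq M fs := Groth.L07.KoszulFlat.isKoszulRegularSeq_map _
    (RingHom.flat_algebraMap_iff.mpr (IsLocalization.flat _ (Submonoid.powers a))) _
    (Groth.L07.KoszulVars.isKoszulRegularSeq_X R n)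
  have hgreg : LCI.IsKoszulRegularSeq (Localization.Away (constantCoeff a)) (gs.map τ) := by
    rw [hgs]
    exact hl.regular _ (RingHom.flat_algebraMap_iff.mpr (IsLocalization.flat _ (Submonoid.powers (constantCoeff a))))
      (by rw [← hga]; exact IsLocalization.Away.algebraMap_isUnit _)
  have happ := Groth.L07.KoszulAppend.isKoszulRegularSeq_append τ hτs fs gs hker hfs hgreg
  obtain ⟨l', -, hl'⟩ := exists_seqOn_of_away (I := I.comap (constantCoeff (R := R) (σ := Fin n))) happ (by
    rw [comap_constantCoeff, Ideal.map_sup, Ideal.ofList_append, Ideal.map_ofList, Ideal.map_map]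
    congr 1
    rw [map_eq ((algebraMap A M).comp C) (IsLocalization.Away.algebraMap_isUnit a) hl.1 hl.2.1]
    show _ = Ideal.ofList ((l.map C).map (algebraMap A M))
    rw [List.map_map, RingHom.coe_comp])
  exact ⟨a, fun e => hg (hga ▸ e), l', hl'⟩

/-- Lifting one variable to first order. -/
theorem exists_firstOrder (p : Ideal R) [p.IsPrime] (i : Fin n) :
    ∃ τ : Localization.AtPrime (p.comap (constantCoeff (R := R) (σ := Fin n))) →+* TrivSqZeroExt p.ResidueField p.ResidueField,
      (∀ x ∈ p, τ (algebraMap (MvPolynomial (Fin n) R) _ (C x)) = 0) ∧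
      (∀ j, j ≠ i → τ (algebraMap (MvPolynomial (Fin n) R) _ (X j)) = 0) ∧
      τ (algebraMap (MvPolynomial (Fin n) R) _ (X i)) ≠ 0 := by
  classical
  let κ := p.ResidueField
  let T := TrivSqZeroExt κ κ
  let θ : MvPolynomial (Fin n) R →+* T :=
    eval₂Hom ((TrivSqZeroExt.inlHom κ κ).comp (algebraMap R κ)) fun j => if j = i then TrivSqZeroExt.inr 1 else 0
  have hfst : ∀ f, (θ f).fst = algebraMap R κ (constantCoeff f) := by
    have : (TrivSqZeroExt.fstHom κ κ κ).toRingHom.comp θ = (algebraMap R κ).comp constantCoeff :=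
      MvPolynomial.ringHom_ext (fun r => by simp [θ]) fun j => by by_cases h : j = i <;> simp [θ, h]
    exact fun f => RingHom.congr_fun this f
  have hu : ∀ y : (p.comap (constantCoeff (R := R) (σ := Fin n))).primeCompl, IsUnit (θ y) := fun y => by
    rw [TrivSqZeroExt.isUnit_iff_isUnit_fst, hfst, isUnit_iff_ne_zero]
    intro h0
    exact y.2 (show constantCoeff (y : MvPolynomial (Fin n) R) ∈ p from Ideal.algebraMap_residueField_eq_zero.mp h0)
  refine ⟨IsLocalization.lift hu, fun x hx => ?_, fun j hj => ?_, ?_⟩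
  · rw [IsLocalization.lift_eq]
    show θ (C x) = 0
    simp only [θ, eval₂Hom_C, RingHom.comp_apply]
    rw [Ideal.algebraMap_residueField_eq_zero.mpr hx, map_zero]
  · rw [IsLocalization.lift_eq]
    simp [θ, hj]
  · rw [IsLocalization.lift_eq]
    intro h0
    simpa [θ] using congrArg TrivSqZeroExt.snd h0

theorem exists_den (p : Ideal R) [p.IsPrime] (f₀ l₁ : List R)
    (e : Ideal.ofList (l₁.map (algebraMap R (Localization.AtPrime p))) =
      Ideal.ofList (f₀.map (algebraMap R (Localization.AtPrime p)))) :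
    ∃ t ∉ p, ∀ x ∈ Ideal.ofList f₀, t * x ∈ Ideal.ofList l₁ := by
  classical
  have hden : ∀ x ∈ f₀, ∃ t ∉ p, t * x ∈ Ideal.ofList l₁ := fun x hx => by
    obtain ⟨t, ht, h'⟩ := (IsLocalization.algebraMap_mem_map_algebraMap_iff p.primeCompl (Localization.AtPrime p)
      (Ideal.ofList l₁) x).mp (by
        rw [Ideal.map_ofList, e]
        exact Ideal.subset_span (List.mem_map.mpr ⟨x, hx, rfl⟩))
    exact ⟨t, ht, h'⟩
  choose t ht htx using hden
  refine ⟨∏ x ∈ f₀.toFinset.attach, t x.1 (List.mem_toFinset.mp x.2),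
    (show _ ∈ p.primeCompl from Submonoid.prod_mem _ fun x _ => ht _ _), fun x hx => ?_⟩
  refine (Ideal.span_le.mpr fun y hy => ?_ : Ideal.ofList f₀ ≤ Submodule.comap
    (LinearMap.mulLeft R (∏ x ∈ f₀.toFinset.attach, t x.1 (List.mem_toFinset.mp x.2))) (Ideal.ofList l₁)) hx
  show _ * y ∈ Ideal.ofList l₁
  obtain ⟨c, hc⟩ : t y hy ∣ ∏ x ∈ f₀.toFinset.attach, t x.1 (List.mem_toFinset.mp x.2) :=
    Finset.dvd_prod_of_mem (fun x : {x // x ∈ f₀.toFinset} => t x.1 (List.mem_toFinset.mp x.2))
      (Finset.mem_attach _ ⟨y, List.mem_toFinset.mpr hy⟩)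
  rw [hc, mul_right_comm]
  exact Ideal.mul_mem_right _ _ (htx y hy)

/-- Few generators of `I` at `p` from generators of its preimage. -/
theorem exists_short_gens (p : Ideal R) [p.IsPrime] (f₀ : List R) (hf₀ : ∀ x ∈ f₀, x ∈ p)
    (h : List (Localization.AtPrime (p.comap (constantCoeff (R := R) (σ := Fin n)))))
    (eh : Ideal.ofList h = Ideal.ofList (((f₀.map C) ++ List.ofFn fun i => (X i : MvPolynomial (Fin n) R)).map
      (algebraMap (MvPolynomial (Fin n) R) _))) :
    ∃ l₁ : List R, (∀ x ∈ l₁, x ∈ f₀) ∧ l₁.length + n ≤ h.length ∧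
      Ideal.ofList (l₁.map (algebraMap R (Localization.AtPrime p))) =
        Ideal.ofList (f₀.map (algebraMap R (Localization.AtPrime p))) := by
  classical
  let A := MvPolynomial (Fin n) R
  let P := p.comap (constantCoeff (R := R) (σ := Fin n))
  let M := Localization.AtPrime P
  let L := Localization.AtPrime p
  let ρ : M →+* L := Localization.localRingHom P p constantCoeff rfl
  have hρ : ∀ f, ρ (algebraMap A M f) = algebraMap R L (constantCoeff f) :=
    fun f => Localization.localRingHom_to_map P p _ rfl f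
  obtain ⟨F', hmem, hlen, hgen⟩ := exists_sublist h _ eh
  let y : Fin n → M := fun i => algebraMap A M (X i)
  have hcases : ∀ z ∈ F', (∃ x ∈ f₀, algebraMap A M (C x) = z) ∨ ∃ i, y i = z := fun z hz => by
    obtain ⟨w, hw, rfl⟩ := List.mem_map.mp (hmem z hz)
    rcases List.mem_append.mp hw with hw | hw
    · obtain ⟨x, hx, rfl⟩ := List.mem_map.mp hw
      exact Or.inl ⟨x, hx, rfl⟩
    · obtain ⟨i, rfl⟩ := (List.mem_ofFn' _ _).mp hw
      exact Or.inr ⟨i, rfl⟩
  have hyF : ∀ i, y i ∈ F' ∧ ∀ j, y j = y i → j = i := fun i => by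
    obtain ⟨τ, hτC, hτj, hτi⟩ := exists_firstOrder (n := n) p i
    refine ⟨?_, fun j e => ?_⟩
    · by_contra hne
      have hle : Ideal.ofList F' ≤ RingHom.ker τ := Ideal.span_le.mpr fun z hz => by
        rcases hcases z hz with ⟨x, hx, rfl⟩ | ⟨j, rfl⟩
        · exact hτC x (hf₀ x hx)
        · exact hτj j fun e => hne (e ▸ hz)
      rw [hgen] at hle
      exact hτi (hle (Ideal.subset_span (List.mem_map.mpr
        ⟨X i, List.mem_append_right _ ((List.mem_ofFn' _ _).mpr ⟨i, rfl⟩), rfl⟩)))
    · by_contra hji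
      exact hτi (by show τ (y i) = 0; rw [← e]; exact hτj j hji)
  let N₀ := F'.filter fun z => decide (ρ z ≠ 0)
  have hNC : ∀ z ∈ N₀, ∃ x ∈ f₀, algebraMap A M (C x) = z := fun z hz => by
    obtain ⟨hzF, hz0⟩ := List.mem_filter.mp hz
    rcases hcases z hzF with h1 | ⟨i, rfl⟩
    · exact h1
    · exact absurd (by simp [y, hρ] : ρ (y i) = 0) (of_decide_eq_true hz0)
  choose pre hpre hpre' using hNC
  refine ⟨N₀.pmap pre fun _ hz => hz, fun x hx => ?_, ?_, ?_⟩
  · obtain ⟨z, hz, rfl⟩ := List.mem_pmap.mp hx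
    exact hpre z hz
  · have h1 : n ≤ (F'.filter fun z => !decide (ρ z ≠ 0)).length := by
      have hinj : Function.Injective y := fun i j e => (hyF j).2 i e
      calc n = (Finset.univ.image y).card := by rw [Finset.card_image_of_injective _ hinj, Finset.card_univ, Fintype.card_fin]
        _ ≤ (F'.filter fun z => !decide (ρ z ≠ 0)).toFinset.card := by
          refine Finset.card_le_card fun z hz => ?_
          obtain ⟨i, -, rfl⟩ := Finset.mem_image.mp hz
          rw [List.mem_toFinset, List.mem_filter]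
          exact ⟨(hyF i).1, by simp [y, hρ]⟩
        _ ≤ _ := List.toFinset_card_le _
    have h2 := List.length_eq_length_filter_add (l := F') (fun z => decide (ρ z ≠ 0))
    rw [List.length_pmap]
    show N₀.length + n ≤ _
    have h3 : N₀.length + (F'.filter fun z => !decide (ρ z ≠ 0)).length = F'.length := h2.symm
    omega
  · refine le_antisymm (Ideal.span_mono ?_) ?_
    · intro z hz
      obtain ⟨x, hx, rfl⟩ := List.mem_map.mp (show z ∈ _ from hz)
      obtain ⟨w, hw, rfl⟩ := List.mem_pmap.mp hx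
      exact List.mem_map.mpr ⟨_, hpre w hw, rfl⟩
    · have e1 := congrArg (Ideal.map ρ) hgen
      rw [Ideal.map_ofList, Ideal.map_ofList] at e1
      refine le_trans (le_trans (Ideal.span_mono fun z hz => ?_) e1.ge) (Ideal.span_le.mpr fun z hz => ?_)
      · obtain ⟨x, hx, rfl⟩ := List.mem_map.mp (show z ∈ _ from hz)
        exact List.mem_map.mpr ⟨algebraMap A M (C x),
          List.mem_map.mpr ⟨C x, List.mem_append_left _ (List.mem_map.mpr ⟨x, hx, rfl⟩), rfl⟩,
          by rw [hρ, constantCoeff_C]⟩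
      · obtain ⟨w, hw, rfl⟩ := List.mem_map.mp (show z ∈ _ from hz)
        by_cases h0 : ρ w = 0
        · rw [h0]; exact zero_mem _
        · have hw' : w ∈ N₀ := List.mem_filter.mpr ⟨hw, by simpa using h0⟩
          refine Ideal.subset_span (List.mem_map.mpr ⟨pre w hw', List.mem_pmap.mpr ⟨w, hw', rfl⟩, ?_⟩)
          conv_rhs => rw [← hpre' w hw', hρ, constantCoeff_C]

theorem regAt_of_comap_constantCoeff (I p : Ideal R) [p.IsPrime] (hIp : I ≤ p)
    (H : RegAt (I.comap (constantCoeff (R := R) (σ := Fin n))) (p.comap constantCoeff)) : RegAt I p := by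
  obtain ⟨G, hG, l', hl'⟩ := H
  let A := MvPolynomial (Fin n) R
  let ev : A →+* R := constantCoeff
  let P := p.comap ev
  let M := Localization.AtPrime P
  let Xs : List A := List.ofFn fun i => X i
  let f₀ := l'.map ev
  have hf₀ : ∀ x ∈ f₀, x ∈ I := fun x hx => by
    obtain ⟨f, hf, rfl⟩ := List.mem_map.mp hx
    exact hl'.1 f hf
  have hgenI : ∀ x ∈ I, ∃ k : ℕ, ev G ^ k * x ∈ Ideal.ofList f₀ := fun x hx => by
    obtain ⟨k, hk⟩ := hl'.2.1 (C x) (by rw [Ideal.mem_comap, constantCoeff_C]; exact hx)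
    have := Ideal.mem_map_of_mem ev hk
    rw [map_mul, map_pow, Ideal.map_ofList, show ev (C x) = x from constantCoeff_C _ x] at this
    exact ⟨k, this⟩
  let G₁ : A := C (ev G)
  have gen : ∀ {L : Type u} [CommRing L] (φ : A →+* L) (l₂ : List R) (g : R), IsUnit (φ (C g)) →
      (∀ x ∈ l₂, x ∈ I) → (∀ x ∈ I, ∃ k : ℕ, g ^ k * x ∈ Ideal.ofList l₂) →
      (I.comap ev).map φ = Ideal.ofList ((l₂.map C ++ Xs).map φ) := by
    intro L _ φ l₂ g hu h1 h2
    rw [comap_constantCoeff, Ideal.map_sup, List.map_append, Ideal.ofList_append, Ideal.map_ofList, Ideal.map_map,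
      map_eq (φ.comp C) hu h1 h2, List.map_map, RingHom.coe_comp]
  have huG : IsUnit (algebraMap A M G) := IsLocalization.map_units M (⟨G, hG⟩ : P.primeCompl)
  have huG₁ : IsUnit (algebraMap A M G₁) := IsLocalization.map_units M
    (⟨G₁, fun e => hG (show ev G ∈ p from (constantCoeff_C (Fin n) (ev G)) ▸ (e : ev (C (ev G)) ∈ p))⟩ : P.primeCompl)
  obtain ⟨l₁, hl₁, hlen, hgen⟩ := exists_short_gens p f₀ (fun x hx => hIp (hf₀ x hx))
    (l'.map (algebraMap A M)) ((hl'.map_eq _ huG).symm.trans (gen _ f₀ (ev G) huG₁ hf₀ hgenI))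
  rw [List.length_map] at hlen
  obtain ⟨t, ht, htI⟩ := exists_den p f₀ l₁ hgen
  let g₂ : R := ev G * t
  have hl₁I : ∀ x ∈ l₁, x ∈ I := fun x hx => hf₀ x (hl₁ x hx)
  have hgen₂ : ∀ x ∈ I, ∃ k : ℕ, g₂ ^ k * x ∈ Ideal.ofList l₁ := fun x hx => by
    obtain ⟨k, hk⟩ := hgenI x hx
    refine ⟨k + 1, ?_⟩
    rw [show g₂ ^ (k + 1) * x = ev G * t ^ k * (t * (ev G ^ k * x)) by ring]
    exact Ideal.mul_mem_left _ _ (htI _ hk)
  let K := G * C g₂
  let M' := Localization.Away K
  have hu : ∀ x, x ∣ K → IsUnit (algebraMap A M' x) := fun x hx =>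
    isUnit_of_dvd_unit (map_dvd _ hx) (IsLocalization.Away.algebraMap_isUnit K)
  have hreg : LCI.IsKoszulRegularSeq M' ((l₁.map C ++ Xs).map (algebraMap A M')) := by
    refine Groth.L07.KoszulDescent.isKoszulRegularSeq_of_length_le
      (hl'.regular _ (RingHom.flat_algebraMap_iff.mpr (IsLocalization.flat _ (Submonoid.powers K))) (hu G (dvd_mul_right _ _)))
      ((hl'.map_eq _ (hu G (dvd_mul_right _ _))).symm.trans (gen _ l₁ g₂ (hu _ (dvd_mul_left _ _)) hl₁I hgen₂)) ?_
    simpa [Xs] using hlen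
  obtain ⟨τ, hτs, hτ, hτk⟩ := away_map ev (fun x => ⟨C x, constantCoeff_C _ x⟩) K
  have h4 := isKoszulRegularSeq_of_append τ hτs (Xs.map (algebraMap A M')) ((l₁.map C).map (algebraMap A M'))
    (by rw [hτk, ker_constantCoeff, Ideal.map_ofList])
    (Groth.L07.KoszulFlat.isKoszulRegularSeq_map _
      (RingHom.flat_algebraMap_iff.mpr (IsLocalization.flat _ (Submonoid.powers K))) _
      (Groth.L07.KoszulVars.isKoszulRegularSeq_X R n))
    (by rw [← List.map_append]; exact hreg)
  have e4 : ((l₁.map C).map (algebraMap A M')).map τ = l₁.map (algebraMap R (Localization.Away (ev K))) := by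
    rw [List.map_map, List.map_map]
    refine List.map_congr_left fun x _ => ?_
    show τ (algebraMap A M' (C x)) = _
    rw [show τ (algebraMap A M' (C x)) = _ from RingHom.congr_fun hτ (C x), RingHom.comp_apply,
      show ev (C x) = x from constantCoeff_C _ x]
  rw [e4] at h4
  refine ⟨ev K, ?_, l₁, hl₁I, fun x hx => ?_, h4⟩
  · rw [map_mul, show ev (C g₂) = g₂ from constantCoeff_C _ g₂]
    exact fun e => ((inferInstance : p.IsPrime).mem_or_mem e).elim hG
      fun e => ((inferInstance : p.IsPrime).mem_or_mem e).elim hG ht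
  · obtain ⟨k, hk⟩ := hgen₂ x hx
    refine ⟨k, ?_⟩
    rw [map_mul, show ev (C g₂) = g₂ from constantCoeff_C _ g₂, mul_pow, mul_assoc]
    exact Ideal.mul_mem_left _ _ hk

/-- Regularity of an ideal and of its preimage in a polynomial ring agree. -/
theorem regAt_comap_constantCoeff_iff (I p : Ideal R) [p.IsPrime] (hIp : I ≤ p) :
    RegAt (I.comap (constantCoeff (R := R) (σ := Fin n))) (p.comap constantCoeff) ↔ RegAt I p :=
  ⟨regAt_of_comap_constantCoeff I p hIp, regAt_comap_constantCoeff_of I p⟩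

end Groth.L07.KoszulIdeal
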