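import Groth.Agent.L07.TransSeq
import Groth.Agent.L02.InjFlat.System
import Mathlib.RingTheory.Regular.Flat
import Mathlib.AlgebraicGeometry.Morphisms.Affine
import Mathlib.RingTheory.Flat.Localization

/-!
Transversal regularity of sequences of global sections, point by point.
-/

set_option autoImplicit false
set_option linter.style.haveILetI false
set_option maxSynthPendingDepth 3
set_option backward.isDefEq.respectTransparency false
set_option backward.isDefEq.respectTransparency.types false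

universe u

open CategoryTheory CategoryTheory.Limits AlgebraicGeometry TensorProduct RingTheory.Sequence

namespace Groth.L07.TransPoint

section Alg

variable {A B : Type u} [CommRing A] [CommRing B] [Algebra A B]

theorem transReg_congr {B' : Type u} [CommRing B'] [Algebra A B'] (e : B ≃ₐ[A] B') {l : List B}
    (h : RegImm.IsTransRegularSeq A B l) : RegImm.IsTransRegularSeq A B' (l.map e) := by
  have key : ∀ l' : List B, Ideal.ofList (l'.map e) = (Ideal.ofList l').map e.toAlgHom :=
    fun l' => (Ideal.map_ofList e.toAlgHom.toRingHom l').symm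
  refine ⟨?_, fun j hj => ?_⟩
  · rw [Groth.L07.TransSeq.isWeaklyRegular_iff_elem]
    intro i hi b hb
    rw [List.length_map] at hi
    obtain ⟨b, rfl⟩ := e.surjective b
    rw [← List.map_take, key, List.getElem_map, ← map_mul] at hb
    rw [← List.map_take, key]
    obtain ⟨w, hw, hwb⟩ := (Ideal.mem_map_iff_of_surjective e.toAlgHom e.surjective).mp hb
    rw [show w = l[i] * b from e.injective hwb] at hw
    exact Ideal.mem_map_of_mem _ ((Groth.L07.TransSeq.isWeaklyRegular_iff_elem l).mp h.1 i hi b hw)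
  · rw [List.length_map] at hj
    haveI := h.2 j hj
    exact Module.Flat.of_linearEquiv (Ideal.quotientEquivAlg (Ideal.ofList (l.take j)) _ e
      (by rw [← List.map_take, key]; rfl)).symm.toLinearEquiv

theorem transReg_localization {l : List B} (h : RegImm.IsTransRegularSeq A B l) (T : Submonoid B)
    (L : Type u) [CommRing L] [Algebra A L] [Algebra B L] [IsScalarTower A B L] [IsLocalization T L] :
    RegImm.IsTransRegularSeq A L (l.map (algebraMap B L)) := by
  refine ⟨h.1.of_isLocalization L T, fun j hj => ?_⟩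
  rw [List.length_map] at hj
  let K : Submodule B B := Ideal.ofList (l.take j)
  have hK : K.localized' L T (Algebra.linearMap B L) = Ideal.ofList ((l.map (algebraMap B L)).take j) := by
    rw [Submodule.localized'_eq_span, ← List.map_take, ← Ideal.map_ofList (algebraMap B L) (l.take j)]
    rfl
  haveI : Module.Flat A (B ⧸ K) := h.2 j hj
  haveI : Module.Flat A (LocalizedModule T (B ⧸ K)) := by
    rw [Groth.L20.flat_localizedModule_iff_forall]
    intro J z hz
    exact ⟨1, T.one_mem, by
      rw [one_smul]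
      exact Module.Flat.lTensor_preserves_injective_linearMap J.subtype J.injective_subtype (hz.trans (map_zero _).symm)⟩
  let e := (Submodule.quotEquivOfEq _ _ hK.symm).restrictScalars B ≪≫ₗ
    (IsLocalizedModule.iso T (Submodule.toLocalizedQuotient' L T (Algebra.linearMap B L) K)).symm
  exact Module.Flat.of_linearEquiv (e.restrictScalars A)

theorem transReg_of_localized {l : List B}
    (h : ∀ (P : Ideal B) [P.IsMaximal],
      RegImm.IsTransRegularSeq A (Localization.AtPrime P) (l.map (algebraMap B (Localization.AtPrime P)))) :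
    RegImm.IsTransRegularSeq A B l := by
  refine ⟨?_, fun j hj => ?_⟩
  · rw [Groth.L07.TransSeq.isWeaklyRegular_iff_elem]
    intro i hi b hb
    refine Ideal.mem_of_localization_maximal fun P hP => ?_
    have h' := Ideal.mem_map_of_mem (algebraMap B (Localization.AtPrime P)) hb
    rw [Ideal.map_ofList, List.map_take, map_mul] at h'
    rw [Ideal.map_ofList, List.map_take]
    refine (Groth.L07.TransSeq.isWeaklyRegular_iff_elem _).mp (h P).1 i (by simpa using hi) _ ?_
    rw [List.getElem_map]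
    exact h'
  · let K : Submodule B B := Ideal.ofList (l.take j)
    refine Module.flat_of_isLocalized_maximal (R := A) (S := B) (M := B ⧸ K)
      (fun P _ => Localization.AtPrime P ⧸ K.localized' (Localization.AtPrime P) P.primeCompl (Algebra.linearMap B (Localization.AtPrime P)))
      (fun P _ => Submodule.toLocalizedQuotient' (Localization.AtPrime P) P.primeCompl (Algebra.linearMap B (Localization.AtPrime P)) K)
      fun P _ => ?_
    have hK : K.localized' (Localization.AtPrime P) P.primeCompl (Algebra.linearMap B _) =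
        Ideal.ofList ((l.map (algebraMap B (Localization.AtPrime P))).take j) := by
      rw [Submodule.localized'_eq_span, ← List.map_take, ← Ideal.map_ofList (algebraMap B _) (l.take j)]
      rfl
    haveI := (h P).2 j (by simpa using hj)
    exact Module.Flat.of_linearEquiv ((Submodule.quotEquivOfEq _ _ hK).restrictScalars A)

theorem transReg_iff_base (A' : Type u) [CommRing A'] [Algebra A A'] [Algebra A' B] [IsScalarTower A A' B]
    (T : Submonoid A) [IsLocalization T A'] (l : List B) :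
    RegImm.IsTransRegularSeq A B l ↔ RegImm.IsTransRegularSeq A' B l :=
  and_congr_right fun _ => forall₂_congr fun _ _ => (Module.flat_iff_of_isLocalization A' T _).symm

theorem transReg_iff_stalks {ι : Type*} (P : ι → Ideal B) (hP : ∀ i, (P i).IsPrime)
    (hsurj : ∀ Q : Ideal B, Q.IsMaximal → ∃ i, P i = Q)
    (L : ι → Type u) [∀ i, CommRing (L i)] [∀ i, Algebra A (L i)] [∀ i, Algebra B (L i)]
    [∀ i, IsScalarTower A B (L i)] [∀ i, haveI := hP i; IsLocalization.AtPrime (L i) (P i)] (l : List B) :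
    RegImm.IsTransRegularSeq A B l ↔
      ∀ i, RegImm.IsTransRegularSeq A (L i) (l.map (algebraMap B (L i))) := by
  refine ⟨fun h i => haveI := hP i; transReg_localization h (P i).primeCompl (L i), fun h => ?_⟩
  refine transReg_of_localized fun Q hQ => ?_
  obtain ⟨i, rfl⟩ := hsurj Q hQ
  haveI := hP i
  let e := (IsLocalization.algEquiv (P i).primeCompl (L i) (Localization.AtPrime (P i))).restrictScalars A
  have h' := transReg_congr e (h i)
  rw [List.map_map] at h'
  convert h' using 2
  funext b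
  exact (AlgEquiv.commutes (IsLocalization.algEquiv (P i).primeCompl (L i) (Localization.AtPrime (P i))) b).symm

theorem transReg_pushout_iff {R R' B₀ B' : Type u} [CommRing R] [CommRing R'] [CommRing B₀] [CommRing B']
    [Algebra R R'] [Algebra R B₀] [Algebra R B'] [Algebra R' B'] [Algebra B₀ B'] [IsScalarTower R R' B']
    [IsScalarTower R B₀ B'] [Algebra.IsPushout R R' B₀ B'] (l : List B₀) :
    RegImm.IsTransRegularSeq R' B' (l.map (algebraMap B₀ B')) ↔
      RegImm.IsTransRegularSeq R' (R' ⊗[R] B₀)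
        (l.map (Algebra.TensorProduct.includeRight (R := R) (A := R') (B := B₀))) := by
  let e := Algebra.IsPushout.equiv R R' B₀ B'
  have he : ∀ b : B₀, e ((Algebra.TensorProduct.includeRight (R := R) (A := R') (B := B₀)) b) = algebraMap B₀ B' b :=
    fun b => by simp [e, Algebra.IsPushout.equiv_tmul]
  constructor <;> intro h
  · have h' := transReg_congr e.symm h
    rw [List.map_map] at h'
    convert h' using 2
    funext b
    exact ((e.symm_apply_eq).mpr (he b).symm).symm
  · have h' := transReg_congr e h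
    rw [List.map_map] at h'
    convert h' using 2
    funext b
    exact (he b).symm

end Alg

variable {X S : Scheme.{u}}

/-- Restrictions of global sections. -/
noncomputable abbrev resList (fs : List Γ(X, ⊤)) (U : X.Opens) : List Γ(X, U) :=
  fs.map fun f => (X.presheaf.map (homOfLE (le_top : U ≤ ⊤)).op).hom f

/-- A sequence of global sections is transversally regular relative to the base at a point. -/
def TRAt (g : X ⟶ S) (fs : List Γ(X, ⊤)) (x : X) : Prop :=
  letI := (g.stalkMap x).hom.toAlgebra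
  RegImm.IsTransRegularSeq (S.presheaf.stalk (g x)) (X.presheaf.stalk x)
    (fs.map fun f => (X.presheaf.germ ⊤ x trivial).hom f)

theorem pair_iff (g : X ⟶ S) (fs : List Γ(X, ⊤)) {U : X.Opens} (hU : IsAffineOpen U) {V : S.Opens}
    (hV : IsAffineOpen V) (e : U ≤ g ⁻¹ᵁ V) :
    (letI := (g.appLE V U e).hom.toAlgebra
     RegImm.IsTransRegularSeq Γ(S, V) Γ(X, U) (resList fs U)) ↔ ∀ x ∈ U, TRAt g fs x := by
  letI := (g.appLE V U e).hom.toAlgebra
  letI : ∀ x : U, Algebra Γ(X, U) (X.presheaf.stalk x.1) := fun x => X.presheaf.algebra_section_stalk x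
  letI : ∀ x : U, Algebra Γ(S, V) (S.presheaf.stalk (g x.1)) :=
    fun x => S.presheaf.algebra_section_stalk ⟨g x.1, e x.2⟩
  letI : ∀ x : U, Algebra (S.presheaf.stalk (g x.1)) (X.presheaf.stalk x.1) :=
    fun x => (g.stalkMap x.1).hom.toAlgebra
  letI : ∀ x : U, Algebra Γ(S, V) (X.presheaf.stalk x.1) :=
    fun x => ((algebraMap Γ(X, U) (X.presheaf.stalk x.1)).comp (algebraMap Γ(S, V) Γ(X, U))).toAlgebra
  haveI : ∀ x : U, IsScalarTower Γ(S, V) Γ(X, U) (X.presheaf.stalk x.1) :=
    fun x => IsScalarTower.of_algebraMap_eq fun _ => rfl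
  haveI : ∀ x : U, IsScalarTower Γ(S, V) (S.presheaf.stalk (g x.1)) (X.presheaf.stalk x.1) := fun x =>
    IsScalarTower.of_algebraMap_eq fun a => by
      show (g.appLE V U e ≫ X.presheaf.germ U x.1 x.2) a = (S.presheaf.germ V (g x.1) (e x.2) ≫ g.stalkMap x.1) a
      rw [Scheme.Hom.germ_stalkMap, Scheme.Hom.appLE, Category.assoc, TopCat.Presheaf.germ_res]
  haveI : ∀ x : U, IsLocalization.AtPrime (X.presheaf.stalk x.1) (hU.primeIdealOf x).asIdeal :=
    fun x => hU.isLocalization_stalk x
  rw [transReg_iff_stalks (fun x : U => (hU.primeIdealOf x).asIdeal) (fun x => (hU.primeIdealOf x).isPrime)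
    (fun Q hQ => ?_) (fun x : U => X.presheaf.stalk x.1) (resList fs U)]
  · have hpt : ∀ x : U, RegImm.IsTransRegularSeq Γ(S, V) (X.presheaf.stalk x.1)
        ((resList fs U).map (algebraMap Γ(X, U) (X.presheaf.stalk x.1))) ↔ TRAt g fs x.1 := by
      intro x
      haveI := hV.isLocalization_stalk ⟨g x.1, e x.2⟩
      rw [transReg_iff_base (S.presheaf.stalk (g x.1)) (hV.primeIdealOf ⟨g x.1, e x.2⟩).asIdeal.primeCompl,
        List.map_map, TRAt]
      refine iff_of_eq (congrArg _ (List.map_congr_left fun f _ => ?_))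
      exact X.presheaf.germ_res_apply _ _ x.2 f
    exact ⟨fun h x hx => (hpt ⟨x, hx⟩).mp (h ⟨x, hx⟩), fun h x => (hpt x).mpr (h x.1 x.2)⟩
  · obtain ⟨x, hx⟩ : ∃ x : U, hU.primeIdealOf x = ⟨Q, hQ.isPrime⟩ :=
      ⟨⟨hU.fromSpec ⟨Q, hQ.isPrime⟩, hU.range_fromSpec.le ⟨_, rfl⟩⟩, hU.fromSpec.isOpenEmbedding.injective (by
        rw [hU.fromSpec_primeIdealOf])⟩
    exact ⟨x, by rw [hx]⟩

/-- Transversal regularity on all pairs of affine opens amounts to transversal regularity at all points. -/
theorem forall_iff (g : X ⟶ S) (fs : List Γ(X, ⊤)) :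
    (∀ (U : X.affineOpens) (V : S.affineOpens) (e : U.1 ≤ g ⁻¹ᵁ V.1),
      @RegImm.IsTransRegularSeq Γ(S, V.1) Γ(X, U.1) _ _ (g.appLE V.1 U.1 e).hom.toAlgebra (resList fs U.1)) ↔
    ∀ x : X, TRAt g fs x := by
  refine ⟨fun h x => ?_, fun h U V e => (pair_iff g fs U.2 V.2 e).mpr fun x _ => h x⟩
  obtain ⟨V, hV, hxV, -⟩ := exists_isAffineOpen_mem_and_subset (U := (⊤ : S.Opens)) (x := g x) trivial
  obtain ⟨U, hU, hxU, e⟩ := exists_isAffineOpen_mem_and_subset (U := g ⁻¹ᵁ V) (x := x) hxV
  exact (pair_iff g fs hU hV e).mp (h ⟨U, hU⟩ ⟨V, hV⟩ e) x hxU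

/-- Base change, on a pair of affine opens: transversal regularity becomes regularity in the tensor product. -/
theorem pullback_pair_iff {X' S' : Scheme.{u}} {g : X ⟶ S} {g' : X' ⟶ S'} {q : X' ⟶ X} {h : S' ⟶ S}
    (sq : IsPullback q g' g h) (fs : List Γ(X, ⊤)) {U : X.Opens} (hU : IsAffineOpen U) {W : S.Opens}
    (hW : IsAffineOpen W) (eU : U ≤ g ⁻¹ᵁ W) (hW' : IsAffineOpen (h ⁻¹ᵁ W)) :
    (letI := (g.appLE W U eU).hom.toAlgebra
     letI := (h.appLE W (h ⁻¹ᵁ W) le_rfl).hom.toAlgebra
     RegImm.IsTransRegularSeq Γ(S', h ⁻¹ᵁ W) (Γ(S', h ⁻¹ᵁ W) ⊗[Γ(S, W)] Γ(X, U))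
      ((resList fs U).map (Algebra.TensorProduct.includeRight (R := Γ(S, W)) (A := Γ(S', h ⁻¹ᵁ W)) (B := Γ(X, U))))) ↔
    ∀ x' ∈ q ⁻¹ᵁ U, TRAt g' (fs.map fun f => q.appTop.hom f) x' := by
  obtain ⟨hP, hpo⟩ := Groth.L02.InjFlat.affine_square sq hW hU hW' eU le_rfl
  letI := (g.appLE W U eU).hom.toAlgebra
  letI := (h.appLE W (h ⁻¹ᵁ W) le_rfl).hom.toAlgebra
  let P : X'.Opens := q ⁻¹ᵁ U ⊓ g' ⁻¹ᵁ (h ⁻¹ᵁ W)
  letI algU : Algebra Γ(X, U) Γ(X', P) := (q.appLE U P inf_le_left).hom.toAlgebra
  letI algS : Algebra Γ(S', h ⁻¹ᵁ W) Γ(X', P) := (g'.appLE (h ⁻¹ᵁ W) P inf_le_right).hom.toAlgebra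
  letI : Algebra Γ(S, W) Γ(X', P) := (g.appLE W U eU ≫ q.appLE U P inf_le_left).hom.toAlgebra
  haveI : IsScalarTower Γ(S, W) Γ(X, U) Γ(X', P) := IsScalarTower.of_algebraMap_eq fun _ => rfl
  haveI : IsScalarTower Γ(S, W) Γ(S', h ⁻¹ᵁ W) Γ(X', P) :=
    IsScalarTower.of_algebraMap_eq fun r => congr($(hpo.w) r)
  haveI : Algebra.IsPushout Γ(S, W) Γ(S', h ⁻¹ᵁ W) Γ(X, U) Γ(X', P) :=
    CommRingCat.isPushout_iff_isPushout.mp hpo.flip
  rw [← transReg_pushout_iff (B' := Γ(X', P))]
  have hl : (resList fs U).map (algebraMap Γ(X, U) Γ(X', P)) = resList (fs.map fun f => q.appTop.hom f) P := by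
    simp only [resList, List.map_map]
    refine List.map_congr_left fun f _ => ?_
    show (X.presheaf.map _ ≫ q.appLE U P _) f = (q.appTop ≫ X'.presheaf.map _) f
    rw [Scheme.Hom.map_appLE, Scheme.Hom.appTop, Scheme.Hom.appLE]
  rw [hl]
  have hPU : P = q ⁻¹ᵁ U := inf_eq_left.mpr fun x hx => by
    show (g' ≫ h) x ∈ W
    rw [← sq.w]
    exact eU hx
  rw [pair_iff g' _ hP hW' inf_le_right]
  exact forall_congr' fun x => imp_congr_left (SetLike.ext_iff.mp hPU x)

/-- Transversal regularity is stable under affine base change. -/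
theorem baseChange {X' S' : Scheme.{u}} {g : X ⟶ S} {g' : X' ⟶ S'} {q : X' ⟶ X} {h : S' ⟶ S} [IsAffineHom h]
    (sq : IsPullback q g' g h) (fs : List Γ(X, ⊤)) (O : X.Opens) (hO : ∀ x ∈ O, TRAt g fs x) :
    ∀ x' ∈ q ⁻¹ᵁ O, TRAt g' (fs.map fun f => q.appTop.hom f) x' := by
  intro x' hx'
  obtain ⟨W, hW, hxW, -⟩ := exists_isAffineOpen_mem_and_subset (U := (⊤ : S.Opens)) (x := g (q x')) trivial
  obtain ⟨U, hU, hxU, e⟩ := exists_isAffineOpen_mem_and_subset (U := O ⊓ g ⁻¹ᵁ W) (x := q x') ⟨hx', hxW⟩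
  have eU : U ≤ g ⁻¹ᵁ W := fun y hy => (e hy).2
  refine (pullback_pair_iff sq fs hU hW eU (hW.preimage h)).mp ?_ x' hxU
  letI := (g.appLE W U eU).hom.toAlgebra
  letI := (h.appLE W (h ⁻¹ᵁ W) le_rfl).hom.toAlgebra
  exact Groth.L07.TransSeq.transReg_baseChange ((pair_iff g fs hU hW eU).mpr fun y hy => hO y (e hy).1) _

end Groth.L07.TransPoint
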