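import Groth.Agent.L07.RegSpread
import Groth.Agent.L07.TransSeq
import Groth.Agent.L07.TransPoint
import Groth.Agent.L19.Limit.Flat
import Groth.Agent.L22.LocalDim
import Groth.Agent.L19.Limit.BaseChange
import Mathlib.RingTheory.Regular.Flat
import Mathlib.RingTheory.Flat.FaithfullyFlat.Algebra
import Mathlib.AlgebraicGeometry.Morphisms.Flat
import Mathlib.AlgebraicGeometry.Noetherian

/-!
Weakly regular sequences of global sections, point by point.
-/

set_option autoImplicit false
set_option linter.style.haveILetI false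
set_option maxSynthPendingDepth 3
set_option backward.isDefEq.respectTransparency false
set_option backward.isDefEq.respectTransparency.types false

universe u

open CategoryTheory CategoryTheory.Limits AlgebraicGeometry RingTheory.Sequence
open Groth.L07.TransPoint (resList)

namespace Groth.L07.WRegPoint

variable {X Y : Scheme.{u}}

/-- Weak regularity of a sequence of global sections at a point. -/
def WAt (fs : List Γ(X, ⊤)) (x : X) : Prop :=
  IsWeaklyRegular (X.presheaf.stalk x) (fs.map fun f => (X.presheaf.germ ⊤ x trivial).hom f)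

theorem germ_resList (fs : List Γ(X, ⊤)) {U : X.Opens} {x : X} (hx : x ∈ U) :
    (resList fs U).map (X.presheaf.germ U x hx).hom = fs.map fun f => (X.presheaf.germ ⊤ x trivial).hom f := by
  rw [List.map_map]
  exact List.map_congr_left fun f _ => X.presheaf.germ_res_apply _ x hx f

theorem affine_iff (fs : List Γ(X, ⊤)) {U : X.Opens} (hU : IsAffineOpen U) :
    IsWeaklyRegular Γ(X, U) (resList fs U) ↔ ∀ x ∈ U, WAt fs x := by
  letI : ∀ x : U, Algebra Γ(X, U) (X.presheaf.stalk x.1) := fun x => X.presheaf.algebra_section_stalk x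
  haveI : ∀ x : U, IsLocalization.AtPrime (X.presheaf.stalk x.1) (hU.primeIdealOf x).asIdeal :=
    fun x => hU.isLocalization_stalk x
  refine ⟨fun h x hx => ?_, fun h => ?_⟩
  · have h' := h.of_isLocalization (X.presheaf.stalk (⟨x, hx⟩ : U).1) (hU.primeIdealOf ⟨x, hx⟩).asIdeal.primeCompl
    rw [show (resList fs U).map (algebraMap Γ(X, U) (X.presheaf.stalk (⟨x, hx⟩ : U).1)) = _ from germ_resList fs hx] at h'
    exact h'
  · rw [Groth.L07.TransSeq.isWeaklyRegular_iff_elem]
    intro i hi b hb
    refine Ideal.mem_of_localization_maximal fun P hP => ?_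
    obtain ⟨x, hx⟩ : ∃ x : U, hU.primeIdealOf x = ⟨P, hP.isPrime⟩ :=
      ⟨⟨hU.fromSpec ⟨P, hP.isPrime⟩, hU.range_fromSpec.le ⟨_, rfl⟩⟩, hU.fromSpec.isOpenEmbedding.injective (by
        rw [hU.fromSpec_primeIdealOf])⟩
    obtain rfl : P = (hU.primeIdealOf x).asIdeal := by rw [hx]
    let e := IsLocalization.algEquiv (hU.primeIdealOf x).asIdeal.primeCompl (X.presheaf.stalk x.1)
      (Localization.AtPrime (hU.primeIdealOf x).asIdeal)
    have hw0 : IsWeaklyRegular (X.presheaf.stalk x.1) ((resList fs U).map (algebraMap Γ(X, U) (X.presheaf.stalk x.1))) :=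
      (germ_resList fs x.2).symm ▸ (h x.1 x.2 : IsWeaklyRegular _ _)
    have hw := (Groth.L07.TransSeq.isWeaklyRegular_iff_elem _).mp hw0 i (by simpa [resList] using hi)
      (algebraMap Γ(X, U) (X.presheaf.stalk x.1) b)
    have hmem : algebraMap Γ(X, U) (X.presheaf.stalk x.1) b ∈
        Ideal.ofList (((resList fs U).map (algebraMap Γ(X, U) (X.presheaf.stalk x.1))).take i) := by
      refine hw ?_
      rw [List.getElem_map, ← map_mul, ← List.map_take, ← Ideal.map_ofList]
      exact Ideal.mem_map_of_mem _ hb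
    rw [← List.map_take, ← Ideal.map_ofList] at hmem
    have h2 := Ideal.mem_map_of_mem (e.toRingEquiv.toRingHom) hmem
    rw [Ideal.map_map] at h2
    convert h2 using 1
    · congr 1
      exact RingHom.ext fun r => (e.commutes r).symm
    · exact (e.commutes b).symm

theorem forall_iff (fs : List Γ(X, ⊤)) :
    (∀ U : X.affineOpens, IsWeaklyRegular Γ(X, U.1) (resList fs U.1)) ↔ ∀ x : X, WAt fs x := by
  refine ⟨fun h x => ?_, fun h U => (affine_iff fs U.2).mpr fun x _ => h x⟩
  obtain ⟨U, hU, hxU, -⟩ := exists_isAffineOpen_mem_and_subset (U := (⊤ : X.Opens)) (x := x) trivial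
  exact (affine_iff fs hU).mp (h ⟨U, hU⟩) x hxU

variable (f : X ⟶ Y) [Flat f]

omit [Flat f] in
theorem pullback_list (fs : List Γ(Y, ⊤)) (x : X) :
    (fs.map fun a => (Y.presheaf.germ ⊤ (f x) trivial).hom a).map (f.stalkMap x).hom =
      (fs.map fun a => f.appTop.hom a).map fun b => (X.presheaf.germ ⊤ x trivial).hom b := by
  simp only [List.map_map]
  refine List.map_congr_left fun a _ => ?_
  show (Y.presheaf.germ ⊤ (f x) trivial ≫ f.stalkMap x) a = (f.appTop ≫ X.presheaf.germ ⊤ x trivial) a
  rw [Scheme.Hom.germ_stalkMap]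
  rfl

/-- Weak regularity at a point is insensitive to flat morphisms. -/
theorem wAt_iff_of_flat (fs : List Γ(Y, ⊤)) (x : X) :
    WAt (fs.map fun a => f.appTop.hom a) x ↔ WAt fs (f x) := by
  letI := (f.stalkMap x).hom.toAlgebra
  haveI : Module.Flat (Y.presheaf.stalk (f x)) (X.presheaf.stalk x) := Flat.stalkMap f x
  haveI : IsLocalHom (algebraMap (Y.presheaf.stalk (f x)) (X.presheaf.stalk x)) := f.toLRSHom.prop x
  haveI : Module.FaithfullyFlat (Y.presheaf.stalk (f x)) (X.presheaf.stalk x) :=
    Module.FaithfullyFlat.of_flat_of_isLocalHom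
  rw [WAt, WAt, ← pullback_list]
  refine ⟨fun h => ?_, fun h => h.of_flat⟩
  rw [Groth.L07.TransSeq.isWeaklyRegular_iff_elem] at h ⊢
  intro i hi b hb
  have h' := h i (by simpa using hi) (algebraMap _ (X.presheaf.stalk x) b)
  rw [List.getElem_map] at h'
  rw [← List.map_take, ← Ideal.map_ofList] at h'
  have h'' := h' (by
    rw [show (f.stalkMap x).hom _ = algebraMap _ (X.presheaf.stalk x) _ from rfl, ← map_mul]
    exact Ideal.mem_map_of_mem _ hb)
  rw [← Ideal.comap_map_eq_self_of_faithfullyFlat (B := X.presheaf.stalk x)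
    (Ideal.ofList (List.take i (fs.map fun a => (Y.presheaf.germ ⊤ (f x) trivial).hom a)))]
  exact h''

omit [Flat f] in
/-- The locus of weak regularity on a locally noetherian scheme is open. -/
theorem exists_nhd [IsLocallyNoetherian X] (fs : List Γ(X, ⊤)) (x : X) (h : WAt fs x) :
    ∃ W : X.Opens, x ∈ W ∧ ∀ y ∈ W, WAt fs y := by
  obtain ⟨U, hU, hxU, -⟩ := exists_isAffineOpen_mem_and_subset (U := (⊤ : X.Opens)) (x := x) trivial
  haveI : IsNoetherianRing Γ(X, U) := IsLocallyNoetherian.component_noetherian ⟨U, hU⟩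
  letI := X.presheaf.algebra_section_stalk ⟨x, hxU⟩
  haveI : IsLocalization.AtPrime (X.presheaf.stalk x) (hU.primeIdealOf ⟨x, hxU⟩).asIdeal :=
    hU.isLocalization_stalk ⟨x, hxU⟩
  obtain ⟨g, hg, hT⟩ := Groth.L07.RegSeq.exists_away_isWeaklyRegular (resList fs U)
    (hU.primeIdealOf ⟨x, hxU⟩).asIdeal (X.presheaf.stalk x) (by
      rw [show (resList fs U).map (algebraMap Γ(X, U) (X.presheaf.stalk x)) = _ from germ_resList fs hxU]
      exact h)
  letI := hU.isLocalization_basicOpen g
  refine ⟨X.basicOpen g, (Groth.L22.LocalDim.mem_basicOpen_iff hU hxU g).2 hg,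
    (affine_iff fs (hU.basicOpen g)).mp ?_⟩
  convert hT Γ(X, X.basicOpen g) g inferInstance dvd_rfl using 1
  rw [List.map_map]
  refine List.map_congr_left fun a _ => ?_
  show _ = (X.presheaf.map _ ≫ X.presheaf.map _) a
  rw [← Functor.map_comp]
  rfl

end Groth.L07.WRegPoint
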