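import Groth.Agent.L07.TransImmLimit
import Groth.Agent.L07.WRegPoint

/-!
Regular immersions descend along limits with affine flat transition morphisms.
-/

set_option autoImplicit false
set_option linter.style.haveILetI false
set_option maxSynthPendingDepth 3
set_option backward.isDefEq.respectTransparency false
set_option backward.isDefEq.respectTransparency.types false
set_option backward.defeqAttrib.useBackward true

universe u

open CategoryTheory CategoryTheory.Limits AlgebraicGeometry RingTheory.Sequence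
open Groth.L19.LimMod Groth.L19.Limit Groth.L07.TransImmLimit

namespace Groth.L07.RegImmLimit

theorem descend_ff {R S : Type u} [CommRing R] [CommRing S] [Algebra R S] [Module.FaithfullyFlat R S]
    {l : List R} (h : IsWeaklyRegular S (l.map (algebraMap R S))) : IsWeaklyRegular R l := by
  rw [Groth.L07.TransSeq.isWeaklyRegular_iff_elem] at h ⊢
  intro i hi b hb
  have h' := h i (by simpa using hi) (algebraMap R S b)
  rw [List.getElem_map, ← List.map_take, ← Ideal.map_ofList] at h'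
  rw [← Ideal.comap_map_eq_self_of_faithfullyFlat (B := S) (Ideal.ofList (l.take i))]
  exact h' (by rw [← map_mul]; exact Ideal.mem_map_of_mem _ hb)

variable {X Y : Scheme.{u}} (f : X ⟶ Y)

/-- Weak regularity on an affine open passes down along a flat morphism to a noetherian neighbourhood. -/
theorem exists_nhd_noetherian [Flat f] [IsLocallyNoetherian Y] {O : Y.Opens} (hO : IsAffineOpen O)
    {T : X.Opens} (hT : IsAffineOpen T) (e : T ≤ f ⁻¹ᵁ O) (l : List Γ(Y, O))
    (h : IsWeaklyRegular Γ(X, T) (l.map (f.appLE O T e).hom)) (p : X) (hp : p ∈ T) :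
    ∃ (O' : Y.Opens) (_ : IsAffineOpen O') (hle : O' ≤ O), f p ∈ O' ∧
      IsWeaklyRegular Γ(Y, O') (l.map (Y.presheaf.map (homOfLE hle).op).hom) := by
  haveI : IsNoetherianRing Γ(Y, O) := IsLocallyNoetherian.component_noetherian ⟨O, hO⟩
  letI := Y.presheaf.algebra_section_stalk (⟨f p, e hp⟩ : O)
  letI := X.presheaf.algebra_section_stalk (⟨p, hp⟩ : T)
  haveI : IsLocalization.AtPrime (Y.presheaf.stalk (f p)) (hO.primeIdealOf ⟨f p, e hp⟩).asIdeal :=
    hO.isLocalization_stalk ⟨f p, e hp⟩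
  haveI : IsLocalization.AtPrime (X.presheaf.stalk p) (hT.primeIdealOf ⟨p, hp⟩).asIdeal :=
    hT.isLocalization_stalk ⟨p, hp⟩
  letI := (f.stalkMap p).hom.toAlgebra
  haveI : Module.Flat (Y.presheaf.stalk (f p)) (X.presheaf.stalk p) := Flat.stalkMap f p
  haveI : IsLocalHom (algebraMap (Y.presheaf.stalk (f p)) (X.presheaf.stalk p)) := f.toLRSHom.prop p
  haveI : Module.FaithfullyFlat (Y.presheaf.stalk (f p)) (X.presheaf.stalk p) :=
    Module.FaithfullyFlat.of_flat_of_isLocalHom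
  have hst : IsWeaklyRegular (Y.presheaf.stalk (f p)) (l.map (Y.presheaf.germ O (f p) (e hp)).hom) := by
    refine descend_ff (S := X.presheaf.stalk p) ?_
    have h' := h.of_isLocalization (X.presheaf.stalk (⟨p, hp⟩ : T).1) (hT.primeIdealOf ⟨p, hp⟩).asIdeal.primeCompl
    rw [List.map_map] at h' ⊢
    convert h' using 1
    refine List.map_congr_left fun b _ => ?_
    show (Y.presheaf.germ O (f p) (e hp) ≫ f.stalkMap p) b = (f.appLE O T e ≫ X.presheaf.germ T p hp) b
    rw [Scheme.Hom.germ_stalkMap, Scheme.Hom.appLE, Category.assoc, TopCat.Presheaf.germ_res]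
  obtain ⟨g, hg, hloc⟩ := Groth.L07.RegSeq.exists_away_isWeaklyRegular l
    (hO.primeIdealOf ⟨f p, e hp⟩).asIdeal (Y.presheaf.stalk (⟨f p, e hp⟩ : O).1) hst
  letI := hO.isLocalization_basicOpen g
  exact ⟨Y.basicOpen g, hO.basicOpen g, Y.basicOpen_le g, (Groth.L22.LocalDim.mem_basicOpen_iff hO (e hp) g).2 hg,
    hloc Γ(Y, Y.basicOpen g) g inferInstance dvd_rfl⟩

/-- Weak regularity on an affine open descends along a faithfully flat affine morphism. -/
theorem descend_surjective [Flat f] [Surjective f] {O : Y.Opens} (hO : IsAffineOpen O)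
    (hT : IsAffineOpen (f ⁻¹ᵁ O)) (l : List Γ(Y, O))
    (h : IsWeaklyRegular Γ(X, f ⁻¹ᵁ O) (l.map (f.appLE O (f ⁻¹ᵁ O) le_rfl).hom)) :
    IsWeaklyRegular Γ(Y, O) l := by
  letI := (f.appLE O (f ⁻¹ᵁ O) le_rfl).hom.toAlgebra
  haveI : Module.FaithfullyFlat Γ(Y, O) Γ(X, f ⁻¹ᵁ O) := by
    show (f.appLE O (f ⁻¹ᵁ O) le_rfl).hom.FaithfullyFlat
    rw [RingHom.FaithfullyFlat.iff_flat_and_comap_surjective]
    refine ⟨Flat.flat_appLE f hO hT le_rfl, fun q => ?_⟩
    obtain ⟨x', hx'⟩ := f.surjective (hO.fromSpec q)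
    have hx'mem : x' ∈ f ⁻¹ᵁ O := by
      show f x' ∈ O
      rw [hx']
      exact Groth.L22.LocalDim.fromSpec_mem hO q
    refine ⟨hT.primeIdealOf ⟨x', hx'mem⟩, hO.fromSpec.isOpenEmbedding.injective ?_⟩
    show hO.fromSpec (Spec.map _ _) = _
    rw [← hx']
    have := congr(($(hO.SpecMap_appLE_fromSpec f hT le_rfl)) (hT.primeIdealOf ⟨x', hx'mem⟩))
    rw [Scheme.Hom.comp_apply, Scheme.Hom.comp_apply, hT.fromSpec_primeIdealOf] at this
    exact this
  exact descend_ff h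

variable {I : Type u} [SmallCategory I] [IsCofiltered I] {D : I ⥤ Scheme.{u}} {c : Cone D}
  [∀ (i j : I) (φ : i ⟶ j), IsAffineHom (D.map φ)] {i : I} {Z₀ Z : Scheme.{u}} {f₀ : Z₀ ⟶ D.obj i}
  {qZ : Z ⟶ Z₀} {g : Z ⟶ c.pt}

/-- The projection of the limit. -/
abbrev pr (c : Cone D) (j : I) : c.pt ⟶ D.obj j := c.π.app j

/-- Regularity of an immersion at a point descends to a stage, given descent of finite generation and
of weak regularity. -/
theorem exists_stage_regularAt [IsImmersion f₀] (hc : IsLimit c) (hZ : IsPullback qZ g f₀ (c.π.app i))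
    (hfg : ∀ (k : Over i) (O : (D.obj k.left).Opens), IsAffineOpen O →
      IsClosedImmersion (pullback.fst (D.map k.hom) f₀ ∣_ O) →
      (RingHom.ker ((pullback.fst (D.map k.hom) f₀).app O).hom).FG)
    (hdesc : ∀ (j : I) (O : (D.obj j).Opens), IsAffineOpen O → ∀ (l : List Γ(D.obj j, O)),
      IsWeaklyRegular Γ(c.pt, pr c j ⁻¹ᵁ O) (l.map ((pr c j).appLE O (pr c j ⁻¹ᵁ O) le_rfl).hom) →
      ∀ p ∈ pr c j ⁻¹ᵁ O, ∃ (O' : (D.obj j).Opens) (_ : IsAffineOpen O') (hle : O' ≤ O), pr c j p ∈ O' ∧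
        IsWeaklyRegular Γ(D.obj j, O') (l.map ((D.obj j).presheaf.map (homOfLE hle).op).hom))
    (z : Z) (h : RegImm.IsRegularImmersionAt RegImm.Kind.regular g z) :
    ∃ k : Over i, RegImm.IsRegularImmersionAt RegImm.Kind.regular (pullback.fst (D.map k.hom) f₀)
      (toStage hZ k z) := by
  obtain ⟨⟨U, hU⟩, hzU, hcl, rs, hrs, hker⟩ := h
  obtain ⟨W, hzW, hclW⟩ := Groth.L07.RegImmAt.exists_isClosedImmersion_restrict f₀ (qZ z)
  obtain ⟨U₀, hU₀, hzU₀, hU₀W⟩ := exists_isAffineOpen_mem_and_subset (U := W) hzW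
  have hcl₀ := Groth.L07.RegImmAt.restrict_closed f₀ (show U₀ ≤ W from hU₀W) hclW
  haveI : ∀ k, IsAffineHom (c.π.app k) := fun k => isAffineHom_π_app D c hc k
  have hzP : g z ∈ c.π.app i ⁻¹ᵁ U₀ := by
    show c.π.app i (g z) ∈ U₀
    rw [show c.π.app i (g z) = f₀ (qZ z) from (congrArg (fun m : Z ⟶ D.obj i => m z) hZ.w).symm]
    exact hzU₀
  obtain ⟨b, hbU, hzb⟩ := (hU₀.preimage (c.π.app i)).exists_basicOpen_le ⟨g z, hzU⟩ hzP
  obtain ⟨k, x, hx⟩ := exists_lift_function D c hc hU₀ b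
  let O : (D.obj k.left).Opens := (D.obj k.left).basicOpen x
  have hO : IsAffineOpen O := (hU₀.preimage (D.map k.hom)).basicOpen x
  have hOle : O ≤ D.map k.hom ⁻¹ᵁ U₀ := (D.obj k.left).basicOpen_le x
  have sqid : ∀ {A B : Scheme.{u}} (m : A ⟶ B), IsPullback m (𝟙 A) (𝟙 B) m := fun m =>
    IsPullback.of_vert_isIso ⟨by simp⟩
  obtain ⟨hclO, -⟩ := ker_baseChange (sqid (D.map k.hom)) (IsPullback.of_hasPullback (D.map k.hom) f₀).flip
    hU₀ hU₀ le_rfl hcl₀ hO hOle hO hOle le_rfl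
  let K := RingHom.ker ((pullback.fst (D.map k.hom) f₀).app O).hom
  have hK : K.FG := hfg k O hO hclO
  let T : c.pt.Opens := pr c k.left ⁻¹ᵁ O
  have hT : IsAffineOpen T := hO.preimage _
  have hTb : T = c.pt.basicOpen b := by
    rw [← hx, toLim_apply]
    refine Eq.trans ?_ (Scheme.basicOpen_appLE (X := c.pt) (f := pr c k.left) _ _ _ x).symm
    refine (inf_eq_right.mpr ?_).symm
    rw [π_preimage D c k.hom U₀]
    exact fun y hy => hOle hy
  have hTU : T ≤ U := hTb.le.trans hbU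
  have hzT : g z ∈ T := hTb.ge hzb
  have sqk : ∀ k : Over i, IsPullback (toStage hZ k) g (pullback.fst (D.map k.hom) f₀) (c.π.app k.left) := fun k => by
    refine IsPullback.of_right ?_ (toStage_fst hZ k) (IsPullback.of_hasPullback (D.map k.hom) f₀).flip
    rw [toStage_snd, c.w]
    exact hZ
  obtain ⟨hclT, hkT⟩ := ker_baseChange (sqid (c.π.app k.left)) (sqk k) hO hO le_rfl hclO hT le_rfl hT le_rfl le_rfl
  obtain ⟨-, hkT'⟩ := Groth.L07.RegImmAt.ker_restrict hU hT hTU hcl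
  let lT : List Γ(c.pt, T) := rs.map (c.pt.presheaf.map (homOfLE hTU).op).hom
  have hgen : Ideal.ofList lT = K.map (algebraMap Γ(D.obj k.left, O) (LimRing D c O)) := by
    rw [hker, Ideal.map_ofList] at hkT'
    exact hkT'.symm.trans hkT
  have hwT : IsWeaklyRegular Γ(c.pt, T) lT := by
    letI := (c.pt.presheaf.map (homOfLE hTU).op).hom.toAlgebra
    haveI : Module.Flat Γ(c.pt, U) Γ(c.pt, T) := by
      have := Flat.flat_appLE (𝟙 c.pt) hU hT hTU
      simp only [Scheme.Hom.appLE, Scheme.Hom.id_app, Category.id_comp] at this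
      exact this
    exact hrs.toIsWeaklyRegular.of_flat
  obtain ⟨j, lj, hlj, hgenj⟩ := exists_list_stage D c hc hO hK lT hgen
  let k' : Over i := Over.mk (j.hom ≫ k.hom)
  let μ : k' ⟶ k := Over.homMk j.hom
  let O₁ : (D.obj j.left).Opens := D.map j.hom ⁻¹ᵁ O
  have hO₁ : IsAffineOpen O₁ := hO.preimage _
  obtain ⟨hclO₁, hkO₁⟩ := ker_baseChange (sqid (D.map j.hom)) (isPullback_map_fst f₀ μ) hO hO le_rfl hclO
    hO₁ le_rfl hO₁ le_rfl le_rfl
  have hk₁ : RingHom.ker ((pullback.fst (D.map k'.hom) f₀).app O₁).hom = Ideal.ofList lj := hkO₁.trans hgenj.symm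
  have hq : T = pr c j.left ⁻¹ᵁ O₁ := π_preimage D c j.hom O
  have hzO₁ : g z ∈ pr c j.left ⁻¹ᵁ O₁ := hq.le hzT
  have hw₁ : IsWeaklyRegular Γ(c.pt, pr c j.left ⁻¹ᵁ O₁)
      (lj.map ((pr c j.left).appLE O₁ (pr c j.left ⁻¹ᵁ O₁) le_rfl).hom) := by
    letI := (c.pt.presheaf.map (homOfLE hq.ge).op).hom.toAlgebra
    haveI : Module.Flat Γ(c.pt, T) Γ(c.pt, pr c j.left ⁻¹ᵁ O₁) := by
      have := Flat.flat_appLE (𝟙 c.pt) hT (hO₁.preimage (pr c j.left)) hq.ge
      simp only [Scheme.Hom.appLE, Scheme.Hom.id_app, Category.id_comp] at this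
      exact this
    have h' := hwT.of_flat (S := Γ(c.pt, pr c j.left ⁻¹ᵁ O₁))
    convert h' using 1
    rw [← hlj, List.map_map]
    refine List.map_congr_left fun y _ => ?_
    show _ = ((pr c j.left).appLE O₁ T hq.le ≫ c.pt.presheaf.map _) y
    rw [Scheme.Hom.appLE_map]
  obtain ⟨O', hO', hle, hzO', hw'⟩ := hdesc j.left O₁ hO₁ lj hw₁ (g z) hzO₁
  obtain ⟨hcl', hk'⟩ := Groth.L07.RegImmAt.ker_restrict hO₁ hO' hle hclO₁
  have hkl : RingHom.ker ((pullback.fst (D.map k'.hom) f₀).app O').hom =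
      Ideal.ofList (lj.map ((D.obj j.left).presheaf.map (homOfLE hle).op).hom) := by
    rw [hk', hk₁]
    exact Ideal.map_ofList _ _
  refine ⟨k', ⟨O', hO'⟩, ?_, hcl', lj.map ((D.obj j.left).presheaf.map (homOfLE hle).op).hom, ⟨hw', ?_⟩, hkl⟩
  · show (toStage hZ k' ≫ pullback.fst (D.map k'.hom) f₀) z ∈ O'
    rw [toStage_fst]
    exact hzO'
  · rw [smul_eq_mul, Ideal.mul_top]
    haveI : Nonempty (pullback.fst (D.map k'.hom) f₀ ⁻¹ᵁ O').toScheme := ⟨⟨toStage hZ k' z, by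
      show (toStage hZ k' ≫ pullback.fst (D.map k'.hom) f₀) z ∈ O'
      rw [toStage_fst]
      exact hzO'⟩⟩
    haveI := Scheme.component_nontrivial (pullback (D.map k'.hom) f₀) (pullback.fst (D.map k'.hom) f₀ ⁻¹ᵁ O')
    exact fun h => RingHom.ker_ne_top _ (hkl.trans h.symm)

/-- Regular immersions descend to a stage, given the descent properties. -/
theorem exists_stage_regular [IsImmersion f₀] [CompactSpace Z₀] (hc : IsLimit c)
    (hflat : ∀ (j l : I) (m : j ⟶ l), Flat (D.map m)) (hZ : IsPullback qZ g f₀ (c.π.app i))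
    (hfg : ∀ (k : Over i) (O : (D.obj k.left).Opens), IsAffineOpen O →
      IsClosedImmersion (pullback.fst (D.map k.hom) f₀ ∣_ O) →
      (RingHom.ker ((pullback.fst (D.map k.hom) f₀).app O).hom).FG)
    (hdesc : ∀ (j : I) (O : (D.obj j).Opens), IsAffineOpen O → ∀ (l : List Γ(D.obj j, O)),
      IsWeaklyRegular Γ(c.pt, pr c j ⁻¹ᵁ O) (l.map ((pr c j).appLE O (pr c j ⁻¹ᵁ O) le_rfl).hom) →
      ∀ p ∈ pr c j ⁻¹ᵁ O, ∃ (O' : (D.obj j).Opens) (_ : IsAffineOpen O') (hle : O' ≤ O), pr c j p ∈ O' ∧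
        IsWeaklyRegular Γ(D.obj j, O') (l.map ((D.obj j).presheaf.map (homOfLE hle).op).hom))
    (h : RegImm.IsRegularImmersion RegImm.Kind.regular g) :
    ∃ k : Over i, RegImm.IsRegularImmersion RegImm.Kind.regular (pullback.fst (D.map k.hom) f₀) := by
  by_contra hne
  let E := bcDiagram D f₀
  let Bad : ∀ k : Over i, Set (E.obj k) := fun k =>
    {z | ¬ RegImm.IsRegularImmersionAt RegImm.Kind.regular (pullback.fst (D.map k.hom) f₀) z}
  haveI : ∀ {j l : Over i} (m : j ⟶ l), IsAffineHom (E.map m) := fun m => inferInstance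
  have hclosed : ∀ k, IsClosed (Bad k) := fun k => by
    refine isOpen_compl_iff.mp ?_
    rw [isOpen_iff_forall_mem_open]
    intro z hz
    obtain ⟨U, hzU, hrest⟩ := not_not.mp hz
    exact ⟨pullback.fst (D.map k.hom) f₀ ⁻¹' (U.1 : Set (D.obj k.left)), fun y hy hbad => hbad ⟨U, hy, hrest⟩,
      U.1.2.preimage (pullback.fst (D.map k.hom) f₀).continuous, hzU⟩
  have hnon : ∀ k, (Bad k).Nonempty := fun k => by
    by_contra he
    exact hne ⟨k, MorphismProperty.pullback_fst _ _ inferInstance, fun z => by_contra fun hz => he ⟨z, hz⟩⟩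
  haveI : ∀ k : Over i, CompactSpace (E.obj k) := fun k => by
    haveI : IsAffineHom (pullback.snd (D.map k.hom) f₀) := MorphismProperty.pullback_snd _ _ inferInstance
    exact QuasiCompact.compactSpace_of_compactSpace (pullback.snd (D.map k.hom) f₀)
  obtain ⟨z, hz⟩ := exists_mem_of_isClosed_of_nonempty E (sqCone hZ) (isLimitSqCone hc hZ) Bad hclosed hnon
    (fun k => (hclosed k).isCompact) (fun {j l} m y hy hl => hy (by
      haveI : Flat (D.map m.left) := hflat _ _ _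
      have sq := isPullback_map_fst f₀ m
      obtain ⟨⟨U, hU⟩, hyU, hcl, rs, hrs, hker⟩ := hl
      have hyU' : pullback.fst (D.map j.hom) f₀ y ∈ D.map m.left ⁻¹ᵁ U := by
        show (pullback.fst (D.map j.hom) f₀ ≫ D.map m.left) y ∈ U
        rw [← sq.w]
        exact hyU
      obtain ⟨hcl', hk'⟩ := ker_baseChange (IsPullback.of_vert_isIso ⟨by simp⟩ : IsPullback (D.map m.left) (𝟙 _) (𝟙 _) (D.map m.left))
        sq hU hU le_rfl hcl (hU.preimage _) le_rfl (hU.preimage _) le_rfl le_rfl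
      refine ⟨⟨_, hU.preimage _⟩, hyU', hcl', rs.map ((D.map m.left).appLE U _ le_rfl).hom,
        Groth.L03.RegImmFlat.seq_map _ (Flat.flat_appLE _ hU (hU.preimage _) le_rfl) _ rs hrs ?_, ?_⟩
      · rw [← Ideal.map_ofList, ← hker, ← hk']
        haveI : Nonempty (pullback.fst (D.map j.hom) f₀ ⁻¹ᵁ (D.map m.left ⁻¹ᵁ U)).toScheme := ⟨⟨y, hyU'⟩⟩
        haveI := Scheme.component_nontrivial (pullback (D.map j.hom) f₀) (pullback.fst (D.map j.hom) f₀ ⁻¹ᵁ (D.map m.left ⁻¹ᵁ U))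
        exact RingHom.ker_ne_top _
      · rw [hk', hker, Ideal.map_ofList]))
  obtain ⟨k, hk⟩ := exists_stage_regularAt hc hZ hfg hdesc z (h.2 z)
  exact hz k hk

end Groth.L07.RegImmLimit
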