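import Groth.Agent.L07.RegImmAt
import Groth.Agent.L07.WRegLimit
import Mathlib.RingTheory.Localization.Away.AdjoinRoot
import Mathlib.RingTheory.Regular.Flat
import Mathlib.RingTheory.Localization.Algebra

/-! # Regular immersions into affine space: presentations by regular sequences in one more variable -/

set_option autoImplicit false
set_option linter.style.haveILetI false
set_option maxSynthPendingDepth 3

universe u

open CategoryTheory AlgebraicGeometry RingTheory.Sequence

namespace Groth.L07.RegImmPresent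

theorem isWeaklyRegular_self_iff {S : Type u} [CommRing S] (rs : List S) :
    IsWeaklyRegular S rs ↔ ∀ (i : ℕ) (h : i < rs.length) (a : S),
      rs[i] * a ∈ Ideal.ofList (rs.take i) → a ∈ Ideal.ofList (rs.take i) := by
  rw [Groth.L07.RegSeq.isWeaklyRegular_iff_mem]
  simp only [smul_eq_mul, Ideal.mul_top]

theorem ofList_eq_comap {S T : Type u} [CommRing S] [CommRing T] (φ : S →+* T)
    (hφ : Function.Surjective φ) {t : S} (hker : RingHom.ker φ = Ideal.span {t}) (l : List S) :
    Ideal.ofList (t :: l) = (Ideal.ofList (l.map φ)).comap φ := by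
  rw [← Ideal.map_ofList, Ideal.comap_map_of_surjective φ hφ, Ideal.ofList_cons, sup_comm]
  congr 1
  exact hker.symm

theorem isWeaklyRegular_cons {S T : Type u} [CommRing S] [CommRing T] (φ : S →+* T)
    (hφ : Function.Surjective φ) {t : S} (hker : RingHom.ker φ = Ideal.span {t})
    (hnzd : ∀ a, t * a = 0 → a = 0) {l : List S} (h : IsWeaklyRegular T (l.map φ)) :
    IsWeaklyRegular S (t :: l) := by
  rw [isWeaklyRegular_self_iff] at h ⊢
  intro i hi a ha
  cases i with
  | zero =>
    simp only [List.take_zero, Ideal.ofList_nil, Ideal.mem_bot, List.getElem_cons_zero] at ha ⊢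
    exact hnzd a ha
  | succ i =>
    simp only [List.take_succ_cons, List.getElem_cons_succ, ofList_eq_comap φ hφ hker,
      Ideal.mem_comap, map_mul] at ha ⊢
    have hi' : i < (l.map φ).length := by simpa using hi
    have h' := h i hi' (φ a)
    rw [List.getElem_map, ← List.map_take] at h'
    exact h' ha

theorem presentation (A : Type u) [CommRing A] (n : ℕ) (I : Ideal (MvPolynomial (Fin n) A))
    (q : PrimeSpectrum (MvPolynomial (Fin n) A ⧸ I)) (h : MvPolynomial (Fin n) A)
    (hh : Ideal.Quotient.mk I h ∉ q.asIdeal)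
    (L : Type u) [CommRing L] [Algebra (MvPolynomial (Fin n) A) L] [IsLocalization.Away h L]
    (rs : List L) (hrs : IsWeaklyRegular L rs)
    (hI : I.map (algebraMap (MvPolynomial (Fin n) A) L) = Ideal.ofList rs) :
    ∃ (d : ℕ) (P : Fin d → MvPolynomial (Fin (n + 1)) A),
      IsRegular (MvPolynomial (Fin (n + 1)) A) (List.ofFn P) ∧
      Nonempty (Localization.Away (Ideal.Quotient.mk I h) ≃ₐ[A]
        (MvPolynomial (Fin (n + 1)) A ⧸ Ideal.ofList (List.ofFn P))) := by
  classical
  let e : L ≃ₐ[MvPolynomial (Fin n) A] Localization.Away h :=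
    IsLocalization.algEquiv (Submonoid.powers h) L (Localization.Away h)
  let rs0 : List (Localization.Away h) := rs.map e
  have hrs0 : IsWeaklyRegular (Localization.Away h) rs0 := by
    letI : Algebra L (Localization.Away h) := e.toRingEquiv.toRingHom.toAlgebra
    haveI : Module.Flat L (Localization.Away h) :=
      RingHom.flat_algebraMap_iff.mp (RingHom.Flat.of_bijective e.bijective)
    exact hrs.of_flat
  have hI0 : I.map (algebraMap (MvPolynomial (Fin n) A) (Localization.Away h)) = Ideal.ofList rs0 := by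
    have h1 := congrArg (Ideal.map (e.toRingEquiv.toRingHom : L →+* Localization.Away h)) hI
    rw [Ideal.map_map, Ideal.map_ofList] at h1
    rw [show (algebraMap (MvPolynomial (Fin n) A) (Localization.Away h)) =
      (e.toRingEquiv.toRingHom : L →+* Localization.Away h).comp
        (algebraMap (MvPolynomial (Fin n) A) L) from RingHom.ext fun x => (e.commutes x).symm]
    exact h1
  let p : Polynomial (MvPolynomial (Fin n) A) := Polynomial.C h * Polynomial.X - 1
  let ψ : Polynomial (MvPolynomial (Fin n) A) →ₐ[MvPolynomial (Fin n) A] Localization.Away h :=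
    (Localization.awayEquivAdjoin h).symm.toAlgHom.comp (AdjoinRoot.mkₐ p)
  have hψ : Function.Surjective ψ :=
    (Localization.awayEquivAdjoin h).symm.surjective.comp AdjoinRoot.mk_surjective
  have hψ0 : ∀ x, ψ x = 0 ↔ p ∣ x := fun x =>
    (map_eq_zero_iff _ (Localization.awayEquivAdjoin h).symm.injective).trans AdjoinRoot.mk_eq_zero
  let ε := MvPolynomial.finSuccEquiv A n
  let φ : MvPolynomial (Fin (n + 1)) A →ₐ[A] Localization.Away h :=
    (ψ.restrictScalars A).comp ε.toAlgHom
  have hφ : Function.Surjective φ := hψ.comp ε.surjective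
  let t : MvPolynomial (Fin (n + 1)) A := ε.symm p
  have hkerφ : RingHom.ker φ.toRingHom = Ideal.span {t} := by
    ext x
    rw [RingHom.mem_ker, Ideal.mem_span_singleton, ← map_dvd_iff ε.toMulEquiv]
    show ψ (ε x) = 0 ↔ ε t ∣ ε x
    rw [hψ0, show ε t = p from ε.apply_symm_apply p]
  have hnzd : ∀ a, t * a = 0 → a = 0 := fun a ha => by
    have h1 : p * ε a = 0 := by rw [← ε.apply_symm_apply p, ← map_mul]; exact (congrArg ε ha).trans (map_zero ε)
    have h2 : ∀ k, (ε a).coeff k = 0 := by
      have h3 : ε a = Polynomial.C h * Polynomial.X * ε a := by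
        rw [sub_mul, one_mul, sub_eq_zero] at h1
        exact h1.symm
      intro k
      induction k with
      | zero => rw [h3, mul_assoc, Polynomial.coeff_C_mul, Polynomial.coeff_X_mul_zero, mul_zero]
      | succ k ih => rw [h3, mul_assoc, Polynomial.coeff_C_mul, Polynomial.coeff_X_mul, ih, mul_zero]
    exact ε.injective ((Polynomial.ext fun k => (h2 k).trans (Polynomial.coeff_zero k).symm).trans (map_zero ε).symm)
  choose P' hP' using fun i => hφ (rs0.get i)
  have hmap : (List.ofFn P').map φ.toRingHom = rs0 := by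
    rw [List.map_ofFn]
    exact (congrArg List.ofFn (funext hP')).trans (List.ofFn_get rs0)
  have hlist : List.ofFn (Fin.cons t P' : Fin (rs0.length + 1) → MvPolynomial (Fin (n + 1)) A) = t :: List.ofFn P' := by
    rw [List.ofFn_succ, Fin.cons_zero]
    simp only [Fin.cons_succ]
  haveI : IsLocalization.Away (Ideal.Quotient.mkₐ A I h) (Localization.Away (Ideal.Quotient.mk I h)) :=
    inferInstanceAs (IsLocalization.Away (Ideal.Quotient.mk I h) _)
  let μ : Localization.Away h →ₐ[A] Localization.Away (Ideal.Quotient.mk I h) :=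
    IsLocalization.Away.mapₐ (Localization.Away h) (Localization.Away (Ideal.Quotient.mk I h))
      (Ideal.Quotient.mkₐ A I) h
  have hμ : Function.Surjective μ := by
    refine (IsLocalization.Away.map_surjective_iff (S := Localization.Away h) (Localization.Away (Ideal.Quotient.mk I h))
      (Ideal.Quotient.mkₐ A I).toRingHom h).mpr ?_
    intro a
    obtain ⟨b, rfl⟩ := Ideal.Quotient.mk_surjective a
    exact ⟨b, 0, by simp⟩
  have hkerμ : RingHom.ker μ.toRingHom = Ideal.ofList rs0 := by
    refine Eq.trans ?_ ((congrArg (Ideal.map _) (Ideal.mk_ker (I := I))).trans hI0)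
    exact IsLocalization.ker_map (M := Submonoid.powers h) (S := Localization.Away h)
      (T := Submonoid.powers (Ideal.Quotient.mk I h)) (Q := Localization.Away (Ideal.Quotient.mk I h))
      (g := Ideal.Quotient.mk I) (Submonoid.map_powers _ h)
  let Φ := μ.comp φ
  have hΦ : Function.Surjective Φ := hμ.comp hφ
  have hkerΦ : RingHom.ker Φ.toRingHom = Ideal.ofList (t :: List.ofFn P') := by
    rw [ofList_eq_comap φ.toRingHom hφ hkerφ, hmap, ← hkerμ, RingHom.comap_ker]
    rfl
  haveI : Nontrivial (Localization.Away (Ideal.Quotient.mk I h)) := by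
    refine not_subsingleton_iff_nontrivial.mp fun hs => ?_
    obtain ⟨k, hk⟩ := (IsLocalization.subsingleton_iff (S := Localization.Away (Ideal.Quotient.mk I h))
      (M := Submonoid.powers (Ideal.Quotient.mk I h))).mp hs
    have hk' : Ideal.Quotient.mk I h ^ k = 0 := hk
    exact hh (q.isPrime.mem_of_pow_mem k (by rw [hk']; exact q.asIdeal.zero_mem))
  refine ⟨rs0.length + 1, Fin.cons t P', ⟨?_, ?_⟩, ⟨?_⟩⟩
  · rw [hlist]
    refine isWeaklyRegular_cons φ.toRingHom hφ hkerφ hnzd ?_
    rw [hmap]
    exact hrs0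
  · intro htop
    rw [smul_eq_mul, Ideal.mul_top, hlist, ← hkerΦ] at htop
    exact RingHom.ker_ne_top _ htop.symm
  · exact ((Ideal.quotientEquivAlgOfEq A (show Ideal.ofList (List.ofFn (Fin.cons t P')) = RingHom.ker Φ from
      hlist ▸ hkerΦ.symm)).trans (Ideal.quotientKerAlgEquivOfSurjective hΦ)).symm

theorem ker_appTop_spec {R S : Type u} [CommRing R] [CommRing S] (f : R →+* S) :
    RingHom.ker ((Spec.map (CommRingCat.ofHom f)).app ⊤).hom =
      (RingHom.ker f).map (Scheme.ΓSpecIso (CommRingCat.of R)).inv.hom := by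
  have hn : ∀ a : R, ((Spec.map (CommRingCat.ofHom f)).app ⊤).hom
      ((Scheme.ΓSpecIso (CommRingCat.of R)).inv.hom a) = (Scheme.ΓSpecIso (CommRingCat.of S)).inv.hom (f a) :=
    fun a => (ConcreteCategory.congr_hom (Scheme.ΓSpecIso_inv_naturality (CommRingCat.ofHom f)) a).symm
  refine le_antisymm (fun x hx => ?_) (Ideal.map_le_iff_le_comap.mpr fun a ha => ?_)
  · obtain ⟨a, rfl⟩ := (ConcreteCategory.bijective_of_isIso (Scheme.ΓSpecIso (CommRingCat.of R)).inv).2 x
    refine Ideal.mem_map_of_mem _ ((RingHom.mem_ker).mpr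
      ((map_eq_zero_iff _ (ConcreteCategory.bijective_of_isIso (Scheme.ΓSpecIso (CommRingCat.of S)).inv).1).mp ?_))
    rw [← hn]
    exact hx
  · show _ = 0
    rw [hn, RingHom.mem_ker.mp ha, map_zero]
    rfl

/-- A regular immersion of affine schemes is cut out by a weakly regular sequence in some localisation near each point. -/
theorem exists_away_seq {R S : Type u} [CommRing R] [CommRing S] (f : R →+* S) (hf : Function.Surjective f)
    (q : PrimeSpectrum S) (h : RegImm.IsRegularImmersionAt .regular (Spec.map (CommRingCat.ofHom f)) q) :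
    ∃ r : R, f r ∉ q.asIdeal ∧ ∃ (L : Type u) (_ : CommRing L) (_ : Algebra R L),
      IsLocalization.Away r L ∧ ∃ rs : List L, IsWeaklyRegular L rs ∧
        (RingHom.ker f).map (algebraMap R L) = Ideal.ofList rs := by
  obtain ⟨⟨U, hU⟩, hxU, hclU, rs, hrs, hker⟩ := h
  obtain ⟨g, g', e, hxg⟩ := exists_basicOpen_le_affine_inter (isAffineOpen_top _) hU
    ((Spec.map (CommRingCat.ofHom f)) q) ⟨trivial, hxU⟩
  obtain ⟨r, rfl⟩ := (ConcreteCategory.bijective_of_isIso (Scheme.ΓSpecIso (CommRingCat.of R)).inv).2 g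
  refine ⟨r, ?_, ?_⟩
  · rw [basicOpen_eq_of_affine] at hxg
    exact hxg
  haveI : IsClosedImmersion (Spec.map (CommRingCat.ofHom f)) := IsClosedImmersion.spec_of_surjective _ hf
  have hD := (isAffineOpen_top _).basicOpen ((Scheme.ΓSpecIso (CommRingCat.of R)).inv r)
  have hleU : (Spec (CommRingCat.of R)).basicOpen ((Scheme.ΓSpecIso (CommRingCat.of R)).inv r) ≤ U :=
    e.trans_le (Scheme.basicOpen_le _ g')
  obtain ⟨-, hk1⟩ := Groth.L07.RegImmAt.ker_restrict (i := Spec.map (CommRingCat.ofHom f)) (isAffineOpen_top _) hD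
    le_top inferInstance
  obtain ⟨-, hk2⟩ := Groth.L07.RegImmAt.ker_restrict hU hD hleU hclU
  refine ⟨Γ(Spec (CommRingCat.of R), (Spec (CommRingCat.of R)).basicOpen ((Scheme.ΓSpecIso (CommRingCat.of R)).inv r)),
    inferInstance, ((Scheme.ΓSpecIso (CommRingCat.of R)).inv ≫
      (Spec (CommRingCat.of R)).presheaf.map (homOfLE le_top).op).hom.toAlgebra, ?_,
    rs.map ((Spec (CommRingCat.of R)).presheaf.map (homOfLE hleU).op).hom, ?_, ?_⟩
  · have h0 := @IsLocalization.isLocalization_of_base_ringEquiv _ _ (Submonoid.powers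
        ((Scheme.ΓSpecIso (CommRingCat.of R)).inv r))
      Γ(Spec (CommRingCat.of R), (Spec (CommRingCat.of R)).basicOpen ((Scheme.ΓSpecIso (CommRingCat.of R)).inv r))
      _ _ _ _ ((isAffineOpen_top _).isLocalization_basicOpen _) (Scheme.ΓSpecIso (CommRingCat.of R)).commRingCatIsoToRingEquiv
    rw [Submonoid.map_powers] at h0
    have hr : (Scheme.ΓSpecIso (CommRingCat.of R)).commRingCatIsoToRingEquiv ((Scheme.ΓSpecIso (CommRingCat.of R)).inv r) = r :=
      (Scheme.ΓSpecIso (CommRingCat.of R)).inv_hom_id_apply r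
    rw [hr] at h0
    exact h0
  · letI := ((Spec (CommRingCat.of R)).presheaf.map (homOfLE hleU).op).hom.toAlgebra
    haveI : IsLocalization.Away g' Γ(Spec (CommRingCat.of R),
        (Spec (CommRingCat.of R)).basicOpen ((Scheme.ΓSpecIso (CommRingCat.of R)).inv r)) :=
      hU.isLocalization_of_eq_basicOpen g' (homOfLE hleU) e
    exact hrs.toIsWeaklyRegular.of_isLocalization _ (Submonoid.powers g')
  · rw [← Ideal.map_ofList, ← hker, ← hk2, hk1, ker_appTop_spec, Ideal.map_map]
    rfl

end Groth.L07.RegImmPresent
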