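import Groth.Prelude.Def_DRing2
import Groth.Agent.L28.TorFacts
import Mathlib.LinearAlgebra.ExteriorAlgebra.Basis
import Mathlib.LinearAlgebra.CliffordAlgebra.Contraction
import Mathlib.LinearAlgebra.TensorProduct.Quotient

/-! An obstruction to lifting a relation forces infinite Tor-dimension: the square of the differential
of a lifted resolution acts with degree two on `Tor (-, R / I)`. -/

namespace Groth.L07.RelationLift

open TensorProduct CategoryTheory CategoryTheory.Limits

set_option linter.style.haveILetI false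

universe u

variable {R' R : Type u} [CommRing R'] [CommRing R] [Algebra R' R] (f : R')

section Lifted

variable (S : Type u) [AddCommGroup S] [Module R' S]

/-- A stage of the lifted resolution: generators and the submodule still to be covered. -/
structure Stage (R' : Type u) [CommRing R'] where
  /-- The generators. -/
  κ : Type u
  /-- The submodule to cover. -/
  K : Submodule R' (κ →₀ R')

/-- The multiples of `f`. -/
abbrev fSub (M : Type u) [AddCommGroup M] [Module R' M] : Submodule R' M :=
  LinearMap.range (LinearMap.lsmul R' M f)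

/-- The map covering the submodule of a stage. -/
noncomputable def Stage.cover (s : Stage R') : (↥s.K →₀ R') →ₗ[R'] (s.κ →₀ R') :=
  Finsupp.linearCombination R' (Subtype.val : ↥s.K → (s.κ →₀ R'))

/-- The next stage. -/
noncomputable def Stage.next (s : Stage R') : Stage R' :=
  ⟨↥s.K, (fSub f (s.κ →₀ R')).comap s.cover⟩

/-- The stages. -/
noncomputable def stage : ℕ → Stage R'
  | 0 => ⟨S, LinearMap.ker (Finsupp.linearCombination R' (id : S → S))⟩
  | i + 1 => (stage i).next f

/-- The terms. -/
abbrev F (i : ℕ) : Type u := (stage f S i).κ →₀ R'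

/-- The lifted differential. -/
noncomputable def d (i : ℕ) : F f S (i + 1) →ₗ[R'] F f S i := (stage f S i).cover

/-- The augmentation. -/
noncomputable def ε : F f S 0 →ₗ[R'] S := Finsupp.linearCombination R' (id : S → S)

theorem range_d (i : ℕ) : LinearMap.range (d f S i) = (stage f S i).K := by
  show LinearMap.range (Finsupp.linearCombination R' (Subtype.val : ↥(stage f S i).K → _)) = _
  rw [Finsupp.range_linearCombination, Subtype.range_coe_subtype]
  exact Submodule.span_eq _

theorem K_succ (i : ℕ) : (stage f S (i + 1)).K = (fSub f (F f S i)).comap (d f S i) := rfl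

theorem K_zero : (stage f S 0).K = LinearMap.ker (ε f S) := rfl

theorem ε_surjective : Function.Surjective (ε f S) := Finsupp.linearCombination_surjective _ Function.surjective_id

theorem exists_dd (i : ℕ) (y : F f S (i + 2)) : ∃ z, d f S i (d f S (i + 1) y) = f • z := by
  have h : d f S (i + 1) y ∈ (stage f S (i + 1)).K := range_d f S (i + 1) ▸ ⟨y, rfl⟩
  rw [K_succ] at h
  obtain ⟨z, hz⟩ := h
  exact ⟨z, hz.symm⟩

/-- A linear map with values in the multiples of `f` kills what `f` kills. -/
theorem eq_zero_of_smul_eq_zero {κ N : Type u} [AddCommGroup N] [Module R' N]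
    (L : (κ →₀ R') →ₗ[R'] N) (hL : ∀ x, ∃ z, L x = f • z) (u : κ →₀ R') (hu : f • u = 0) : L u = 0 := by
  rw [← Finsupp.sum_single u, Finsupp.sum, map_sum]
  refine Finset.sum_eq_zero fun j _ => ?_
  obtain ⟨z, hz⟩ := hL (Finsupp.single j 1)
  rw [show Finsupp.single j (u j) = u j • Finsupp.single j (1 : R') by simp, map_smul, hz, smul_smul,
    mul_comm, show f * u j = 0 from DFunLike.congr_fun hu j, zero_smul]

/-- The boundary condition. -/
def Bd (i : ℕ) (x : F f S i) : Prop := ∃ y : F f S (i + 1), f • x = f • d f S i y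

/-- The operator of degree two preserves boundaries. -/
theorem bd_descend {i : ℕ} {x : F f S (i + 2)} {x' : F f S i}
    (hx : d f S i (d f S (i + 1) x) = f • x') (h : Bd f S (i + 2) x) : Bd f S i x' := by
  obtain ⟨y, hy⟩ := h
  have h0 := eq_zero_of_smul_eq_zero f (d f S i ∘ₗ d f S (i + 1)) (exists_dd f S i) (x - d f S (i + 2) y)
    (by rw [smul_sub, hy, sub_self])
  rw [map_sub, sub_eq_zero, LinearMap.comp_apply, LinearMap.comp_apply, hx] at h0
  obtain ⟨z, hz⟩ := exists_dd f S (i + 1) y
  exact ⟨z, by rw [h0, hz, map_smul]⟩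

/-- A complex of free modules maps to the lifted resolution, commuting with the differentials. -/
theorem exists_map {D : Type u} [AddCommGroup D] [Module R' D] [Module.Projective R' D]
    (dD : D →ₗ[R'] D) (hdd : ∀ x, ∃ z, dD (dD x) = f • z) (aug : D →ₗ[R'] S)
    (haug : ∀ x, aug (dD x) = 0) :
    ∃ φ : ∀ i, D →ₗ[R'] F f S i, (∀ x, ε f S (φ 0 x) = aug x) ∧
      ∀ i x, d f S i (φ (i + 1) x) = φ i (dD x) := by
  obtain ⟨φ₀, hφ₀⟩ := Module.projective_lifting_property (ε f S) aug (ε_surjective f S)
  have hlift : ∀ (i : ℕ) (ψ : D →ₗ[R'] F f S i), (∀ x, ψ (dD x) ∈ (stage f S i).K) →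
      ∃ χ : D →ₗ[R'] F f S (i + 1), ∀ x, d f S i (χ x) = ψ (dD x) := by
    intro i ψ hψ
    obtain ⟨χ, hχ⟩ := Module.projective_lifting_property (d f S i).rangeRestrict
      ((ψ ∘ₗ dD).codRestrict (LinearMap.range (d f S i)) fun x => by
        rw [range_d]; exact hψ x) (LinearMap.surjective_rangeRestrict _)
    exact ⟨χ, fun x => congrArg Subtype.val (LinearMap.congr_fun hχ x)⟩
  let T : ℕ → Type u := fun i => {ψ : D →ₗ[R'] F f S i // ∀ x, ψ (dD x) ∈ (stage f S i).K}
  have hstep : ∀ (i : ℕ) (ψ : T i), ∃ χ : T (i + 1), ∀ x, d f S i (χ.1 x) = ψ.1 (dD x) := by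
    intro i ψ
    obtain ⟨χ, hχ⟩ := hlift i ψ.1 ψ.2
    refine ⟨⟨χ, fun x => ?_⟩, hχ⟩
    rw [K_succ, Submodule.mem_comap, hχ]
    obtain ⟨z, hz⟩ := hdd x
    rw [hz, map_smul]
    exact ⟨_, rfl⟩
  choose next hnext using hstep
  let t₀ : T 0 := ⟨φ₀, fun x => by
    rw [K_zero, LinearMap.mem_ker, ← LinearMap.comp_apply, hφ₀, haug]⟩
  exact ⟨fun i => (Nat.rec (motive := T) t₀ next i).1, fun x => LinearMap.congr_fun hφ₀ x,
    fun i x => hnext i _ x⟩

end Lifted

section Tor

variable (S : Type u) [AddCommGroup S] [Module R' S] [Module R S] [IsScalarTower R' R S]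

/-- Reduction modulo `f`. -/
noncomputable def red (κ : Type u) : (κ →₀ R') →ₗ[R'] (κ →₀ R) :=
  Finsupp.mapRange.linearMap (Algebra.linearMap R' R)

theorem red_single {κ : Type u} (j : κ) (c : R') :
    red (R := R) κ (Finsupp.single j c) = Finsupp.single j (algebraMap R' R c) := by
  simp [red]

variable (hπ : Function.Surjective (algebraMap R' R))
  (hker : RingHom.ker (algebraMap R' R) = Ideal.span {f})
include hπ

theorem red_surjective (κ : Type u) : Function.Surjective (red (R' := R') (R := R) κ) :=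
  Finsupp.mapRange_surjective _ (map_zero _) hπ

include hker
omit hπ in
theorem exists_eq_smul {κ : Type u} {x : κ →₀ R'} (h : red (R := R) κ x = 0) : ∃ z, x = f • z := by
  suffices x ∈ fSub f (κ →₀ R') by
    obtain ⟨z, hz⟩ := this
    exact ⟨z, hz.symm⟩
  rw [← Finsupp.sum_single x]
  refine Submodule.sum_mem _ fun j _ => ?_
  have h1 : x j ∈ RingHom.ker (algebraMap R' R) := DFunLike.congr_fun h j
  rw [hker, Ideal.mem_span_singleton'] at h1
  obtain ⟨a, ha⟩ := h1
  exact ⟨Finsupp.single j a, by simp [← ha, mul_comm]⟩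

omit hπ in
theorem red_smul_eq_zero {κ : Type u} (z : κ →₀ R') : red (R := R) κ (f • z) = 0 := by
  rw [map_smul, ← algebraMap_smul R f,
    RingHom.mem_ker.mp (hker.ge (Ideal.mem_span_singleton_self f)), zero_smul]

/-- The reduced differential. -/
noncomputable def dbar (i : ℕ) : ((stage f S (i + 1)).κ →₀ R) →ₗ[R] ((stage f S i).κ →₀ R) :=
  Finsupp.linearCombination R fun j => red _ (d f S i (Finsupp.single j 1))

omit hπ hker in
theorem dbar_red (i : ℕ) (x : F f S (i + 1)) :
    dbar (R := R) f S i (red _ x) = red _ (d f S i x) := by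
  rw [← Finsupp.sum_single x, Finsupp.sum, map_sum, map_sum, map_sum, map_sum]
  refine Finset.sum_congr rfl fun j _ => ?_
  rw [red_single, dbar, Finsupp.linearCombination_single, algebraMap_smul, ← map_smul, ← map_smul,
    Finsupp.smul_single, smul_eq_mul, mul_one]

/-- The reduced augmentation. -/
noncomputable def εbar : ((stage f S 0).κ →₀ R) →ₗ[R] S := Finsupp.linearCombination R (id : S → S)

omit hπ hker in
theorem εbar_red (x : F f S 0) : εbar (R := R) f S (red _ x) = ε f S x := by
  have key : ∀ z : S →₀ R', Finsupp.linearCombination R (id : S → S) (red (R := R) S z) =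
      Finsupp.linearCombination R' (id : S → S) z := by
    intro z
    induction z using Finsupp.induction_linear with
    | zero => rw [map_zero, map_zero, map_zero]
    | add a b ha hb => rw [map_add, map_add, map_add, ha, hb]
    | single j c =>
      rw [red_single, Finsupp.linearCombination_single, Finsupp.linearCombination_single, algebraMap_smul]
  exact key x

variable {S}

theorem mem_range_dbar_iff (i : ℕ) (x : F f S i) :
    red _ x ∈ LinearMap.range (dbar (R := R) f S i) ↔ x ∈ (stage f S i).K := by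
  constructor
  · rintro ⟨y, hy⟩
    obtain ⟨y, rfl⟩ := red_surjective hπ _ y
    rw [dbar_red] at hy
    obtain ⟨z, hz⟩ := exists_eq_smul f hker (x := x - d f S i y) (by rw [map_sub, hy, sub_self])
    have hd : d f S i y ∈ (stage f S i).K := range_d f S i ▸ ⟨y, rfl⟩
    have hf : f • z ∈ (stage f S i).K := by
      cases i with
      | zero =>
        rw [K_zero, LinearMap.mem_ker, map_smul, ← algebraMap_smul R f,
          RingHom.mem_ker.mp (hker.ge (Ideal.mem_span_singleton_self f)), zero_smul]
      | succ i => rw [K_succ, Submodule.mem_comap, map_smul]; exact ⟨_, rfl⟩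
    rw [show x = d f S i y + f • z by rw [← hz]; abel]
    exact add_mem hd hf
  · intro hx
    rw [← range_d] at hx
    obtain ⟨y, rfl⟩ := hx
    exact ⟨red _ y, dbar_red f S i y⟩

omit hπ hker in
theorem dd_bar (hker : RingHom.ker (algebraMap R' R) = Ideal.span {f})
    (hπ : Function.Surjective (algebraMap R' R)) (i : ℕ) :
    dbar (R := R) f S i ∘ₗ dbar f S (i + 1) = 0 := by
  refine LinearMap.ext fun y => ?_
  obtain ⟨y, rfl⟩ := red_surjective hπ _ y
  obtain ⟨z, hz⟩ := exists_dd f S i y
  rw [LinearMap.comp_apply, dbar_red, dbar_red, hz, red_smul_eq_zero f hker, LinearMap.zero_apply]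

/-- Vanishing of Tor makes the cycles boundaries. -/
theorem bd_of_isZero_tor (I : Ideal R) (hI : ∀ a : R', f * a = 0 → algebraMap R' R a ∈ I)
    (hI' : ∀ r ∈ I, ∃ a, f * a = 0 ∧ algebraMap R' R a = r) (hf : f * f = 0) (i : ℕ)
    (h : IsZero (((CategoryTheory.Tor (ModuleCat.{u} R) (i + 1)).obj (ModuleCat.of R S)).obj
      (ModuleCat.of R (R ⧸ I))))
    (x : F f S (i + 1)) (hx : f • d f S i x = 0) : Bd f S (i + 1) x := by
  classical
  let X : ℕ → ModuleCat.{u} R := fun j => ModuleCat.of R ((stage f S j).κ →₀ R)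
  let D : ∀ j, X (j + 1) ⟶ X j := fun j => ModuleCat.ofHom (dbar f S j)
  let P : ChainComplex (ModuleCat.{u} R) ℕ :=
    ChainComplex.of X D (fun j => ModuleCat.hom_ext (dd_bar f hker hπ j))
  have hd : ∀ j, P.d (j + 1) j = D j := fun j => ChainComplex.of_d X D j
  have hP : Groth.L28.Balance.IsRes P (ModuleCat.ofHom (εbar f S) : P.X 0 ⟶ ModuleCat.of R S) := by
    refine ⟨Finsupp.linearCombination_surjective _ Function.surjective_id, ?_, fun j => ?_, fun j => ?_⟩
    · rw [hd]
      intro y
      obtain ⟨y, rfl⟩ := red_surjective hπ _ y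
      exact (iff_of_eq (congrArg (· = 0) (εbar_red f S y))).trans (mem_range_dbar_iff f hπ hker 0 y).symm
    · rw [hd, hd]
      intro y
      obtain ⟨y, rfl⟩ := red_surjective hπ _ y
      refine Iff.trans ?_ (mem_range_dbar_iff f hπ hker (j + 1) y).symm
      rw [K_succ, Submodule.mem_comap]
      show dbar f S j (red _ y) = 0 ↔ _
      rw [dbar_red]
      exact ⟨fun hy => (exists_eq_smul f hker hy).imp fun _ h => h.symm,
        fun ⟨z, hz⟩ => hz ▸ red_smul_eq_zero f hker z⟩
    · show Module.Flat R ((stage f S j).κ →₀ R)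
      infer_instance
  obtain ⟨e⟩ := Groth.L28.TorFacts.nonempty_iso_left (N := ModuleCat.of R (R ⧸ I)) P
    (ModuleCat.ofHom (εbar f S)) hP (i + 1)
  have hzero := (Groth.L28.HomElt.isZero_homology_iff (i := i + 2) (k := i)
    ((ComplexShape.down ℕ).prev_eq' rfl) ((ComplexShape.down ℕ).next_eq' rfl)).mp (h.of_iso e.symm)
  have hdT : ∀ (j : ℕ) (w : ((stage f S (j + 1)).κ →₀ R) ⊗[R] (R ⧸ I)),
      ((((MonoidalCategory.tensorRight (ModuleCat.of R (R ⧸ I))).mapHomologicalComplex
        (ComplexShape.down ℕ)).obj P).d (j + 1) j) w = (dbar f S j).rTensor (R ⧸ I) w := by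
    intro j w
    rw [Functor.mapHomologicalComplex_obj_d, hd]
    rfl
  -- zero after tensoring means coefficients in `I`
  have hone : ∀ (j : ℕ) (u : F f S j),
      red (R := R) _ u ⊗ₜ[R] (1 : R ⧸ I) = 0 ↔ f • u = 0 := by
    intro j u
    have hmem : red (R := R) _ u ⊗ₜ[R] (1 : R ⧸ I) = 0 ↔
        red (R := R) _ u ∈ I • (⊤ : Submodule R ((stage f S j).κ →₀ R)) := by
      rw [← (TensorProduct.comm R _ _).map_eq_zero_iff, TensorProduct.comm_tmul]
      exact SetLike.ext_iff.mp (LinearMap.ker_tensorProductMk _) _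
    rw [hmem]
    constructor
    · intro hu
      obtain ⟨v, hv, hv'⟩ : ∃ v : F f S j, f • v = 0 ∧ red (R := R) _ v = red _ u := by
        refine Submodule.smul_induction_on hu (fun r hr m _ => ?_) ?_
        · obtain ⟨a, ha, rfl⟩ := hI' r hr
          obtain ⟨m, rfl⟩ := red_surjective hπ _ m
          exact ⟨a • m, by rw [smul_smul, ha, zero_smul], by rw [map_smul, algebraMap_smul]⟩
        · rintro _ _ ⟨a, ha, rfl⟩ ⟨b, hb, rfl⟩
          exact ⟨a + b, by rw [smul_add, ha, hb, add_zero], map_add _ _ _⟩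
      obtain ⟨z, hz⟩ := exists_eq_smul f hker (x := u - v) (by rw [map_sub, hv', sub_self])
      rw [show u = v + f • z by rw [← hz]; abel, smul_add, hv, smul_smul, hf, zero_smul, add_zero]
    · intro hu
      rw [← Finsupp.sum_single (red (R := R) _ u)]
      refine Submodule.sum_mem _ fun k _ => ?_
      rw [show Finsupp.single k (red (R := R) _ u k) =
        red (R := R) _ u k • Finsupp.single k (1 : R) by simp]
      exact Submodule.smul_mem_smul (hI _ (DFunLike.congr_fun hu k)) trivial
  obtain ⟨w, hw⟩ := hzero (red (R := R) _ x ⊗ₜ[R] (1 : R ⧸ I)) (by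
    rw [hdT, LinearMap.rTensor_tmul, dbar_red]
    exact (hone i _).mpr hx)
  obtain ⟨y, rfl⟩ : ∃ y : F f S (i + 2), red (R := R) _ y ⊗ₜ[R] (1 : R ⧸ I) = w := by
    obtain ⟨y, hy⟩ := TensorProduct.mk_surjective R _ (R ⧸ I) Ideal.Quotient.mk_surjective
      (TensorProduct.comm R ((stage f S (i + 2)).κ →₀ R) (R ⧸ I) w)
    obtain ⟨y, rfl⟩ := red_surjective hπ _ y
    exact ⟨y, (TensorProduct.comm R _ _).injective hy⟩
  refine ⟨y, ?_⟩
  rw [hdT, LinearMap.rTensor_tmul, dbar_red] at hw
  rw [← sub_eq_zero, ← smul_sub, ← hone (i + 1), map_sub, TensorProduct.sub_tmul, hw, sub_self]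

end Tor

section Koszul

open ExteriorAlgebra

variable {P : Type u} [CommRing P] [Algebra R' P] {m : ℕ} (f' r' : Fin m → P)

/-- The exterior algebra. -/
abbrev Ext (P : Type u) [CommRing P] (m : ℕ) : Type u := ExteriorAlgebra P (Fin m → P)

/-- The Koszul differential. -/
noncomputable def dK : Ext P m →ₗ[P] Ext P m :=
  CliffordAlgebra.contractLeft (Fintype.linearCombination P f')

/-- Multiplication by the relation. -/
noncomputable def mulρ : Ext P m →ₗ[P] Ext P m := LinearMap.mulLeft P (ExteriorAlgebra.ι P r')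

variable (R') in
/-- The Koszul complex with a divided power variable of degree two, unrolled. -/
noncomputable def dD : (ℕ →₀ Ext P m) →ₗ[R'] (ℕ →₀ Ext P m) :=
  (Finsupp.lsum P fun k => Finsupp.lsingle k ∘ₗ dK f' +
    if k = 0 then 0 else Finsupp.lsingle (k - 1) ∘ₗ mulρ r').restrictScalars R'

theorem dD_single_zero (w : Ext P m) :
    dD R' f' r' (Finsupp.single 0 w) = Finsupp.single 0 (dK f' w) := by
  simp [dD]

theorem dD_single_succ (k : ℕ) (w : Ext P m) :
    dD R' f' r' (Finsupp.single (k + 1) w) =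
      Finsupp.single (k + 1) (dK f' w) + Finsupp.single k (ExteriorAlgebra.ι P r' * w) := by
  simp [dD, mulρ]

theorem dK_mul (w : Ext P m) : dK f' (ExteriorAlgebra.ι P r' * w) =
    (∑ j, r' j * f' j) • w - ExteriorAlgebra.ι P r' * dK f' w := by
  rw [dK, CliffordAlgebra.contractLeft_ι_mul, Fintype.linearCombination_apply]
  rfl

theorem dD_dD_zero (w : Ext P m) : dD R' f' r' (dD R' f' r' (Finsupp.single 0 w)) = 0 := by
  rw [dD_single_zero, dD_single_zero, dK, CliffordAlgebra.contractLeft_contractLeft, Finsupp.single_zero]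

theorem dD_dD_succ (k : ℕ) (w : Ext P m) : dD R' f' r' (dD R' f' r' (Finsupp.single (k + 1) w)) =
    Finsupp.single k ((∑ j, r' j * f' j) • w) := by
  have h1 : dK f' (dK f' w) = 0 := CliffordAlgebra.contractLeft_contractLeft _ _
  rw [dD_single_succ, map_add, dD_single_succ, h1, Finsupp.single_zero, zero_add]
  cases k with
  | zero => rw [dD_single_zero, ← Finsupp.single_add, dK_mul, add_sub_cancel]
  | succ k =>
    rw [dD_single_succ, ← mul_assoc, ExteriorAlgebra.ι_sq_zero, zero_mul, Finsupp.single_zero,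
      add_zero, ← Finsupp.single_add, dK_mul, add_sub_cancel]

theorem inv_dK_mem (w : Ext P m) :
    ExteriorAlgebra.algebraMapInv (dK f' w) ∈ Ideal.span (Set.range f') := by
  induction w using CliffordAlgebra.left_induction with
  | algebraMap c => simp [dK]
  | add a b ha hb => rw [map_add, map_add]; exact add_mem ha hb
  | ι_mul b a _ =>
    rw [dK, CliffordAlgebra.contractLeft_ι_mul, map_sub, map_smul, map_mul,
      show ExteriorAlgebra.algebraMapInv (CliffordAlgebra.ι (0 : QuadraticForm P (Fin m → P)) a) = (0 : P) by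
        simp [ExteriorAlgebra.algebraMapInv], zero_mul, sub_zero, smul_eq_mul]
    refine Ideal.mul_mem_right _ _ ?_
    rw [Fintype.linearCombination_apply]
    exact Submodule.sum_mem _ fun j _ => Ideal.mul_mem_left _ _ (Ideal.subset_span ⟨j, rfl⟩)

end Koszul

end Groth.L07.RelationLift
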