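import Groth.Agent.L07.SectionComp
import Groth.Agent.L07.UnivOpenPointwise
import Groth.Agent.L23.FibreDimBC

/-!
Section components under base change, and universal openness from constant dimension (EGA IV 15.6.3).
-/

universe u

open CategoryTheory CategoryTheory.Limits AlgebraicGeometry Topology TopologicalSpace

namespace Groth.L07.SectionComp

set_option autoImplicit false
set_option linter.style.haveILetI false
set_option maxSynthPendingDepth 3
set_option backward.isDefEq.respectTransparency.types false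
set_option backward.isDefEq.respectTransparency false

open Groth.L07.Equidim

variable {X Y X' Y' : Scheme.{u}} (f : X ⟶ Y) (g : Y ⟶ X) {f' : X' ⟶ Y'} {p : X' ⟶ X} {t : Y' ⟶ Y}
  (sq : IsPullback p f' f t) (g' : Y' ⟶ X')

include sq in
theorem fibre_preimage_eq (hg : g ≫ f = 𝟙 Y) (hg' : g' ≫ f' = 𝟙 Y') (hgp : g' ≫ p = t ≫ g) (w : Y')
    (hpre : _root_.IsPreconnected
      (p.base ⁻¹' connectedComponentIn (f.base ⁻¹' {t w}) (g.base (t w)) ∩ f'.base ⁻¹' {w})) :
    connectedComponentIn (f'.base ⁻¹' {w}) (g'.base w) =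
      p.base ⁻¹' connectedComponentIn (f.base ⁻¹' {t w}) (g.base (t w)) ∩ f'.base ⁻¹' {w} := by
  have hpg : p (g' w) = g (t w) := by rw [← Scheme.Hom.comp_apply, hgp, Scheme.Hom.comp_apply]
  refine Set.Subset.antisymm (fun x hx => ⟨?_, apply_of_mem f' g' hx⟩) ?_
  · refine mem_of_preconnected f g (mem_comp f g hg (t w))
      (p.base '' connectedComponentIn (f'.base ⁻¹' {w}) (g'.base w))
      (isPreconnected_connectedComponentIn.image _ (Scheme.Hom.continuous _).continuousOn)
      ⟨_, mem_comp f' g' hg' w, hpg⟩ ?_ ⟨x, hx, rfl⟩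
    rintro _ ⟨a, ha, rfl⟩
    show f (p a) = t w
    rw [← Scheme.Hom.comp_apply, sq.w, Scheme.Hom.comp_apply, apply_of_mem f' g' ha]
  · refine mem_of_preconnected f' g' (mem_comp f' g' hg' w) _ hpre ⟨?_, apply_section f' g' hg' w⟩
      Set.inter_subset_right
    show p (g' w) ∈ connectedComponentIn (f.base ⁻¹' {t w}) (g.base (t w))
    rw [hpg]; exact mem_comp f g hg _

include sq in
theorem isIrreducible_fibre_preimage (w : Y')
    (hgeom : ∀ (K : Type u) [Field K] [Algebra (IsLocalRing.ResidueField (Y.presheaf.stalk (t w))) K],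
      IsIrreducible ((FBase.bcπ (f.fiberToSpecResidueField (t w)) K ≫ f.fiberι (t w)).base ⁻¹'
        connectedComponentIn (f.base ⁻¹' {t w}) (g.base (t w)))) :
    IsIrreducible (p.base ⁻¹' connectedComponentIn (f.base ⁻¹' {t w}) (g.base (t w)) ∩ f'.base ⁻¹' {w}) := by
  letI : Algebra (IsLocalRing.ResidueField (Y.presheaf.stalk (t w))) (Y'.residueField w) :=
    (t.residueFieldMap w).hom.toAlgebra
  have H := isPullback_fiberToSpecResidueField_of_isPullback sq w
  let m : f'.fiber w ⟶ f.fiber (t w) :=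
    pullback.map _ _ _ _ p (Spec.map (t.residueFieldMap w)) t sq.w.symm (by simp)
  have h0 : m ≫ f.fiberι (t w) = f'.fiberι w ≫ p := pullback.lift_fst _ _ _
  let C := connectedComponentIn (f.base ⁻¹' {t w}) (g.base (t w))
  have hirr := hgeom (Y'.residueField w)
  let e : f'.fiber w ≅ FBase.bc (f.fiberToSpecResidueField (t w)) (Y'.residueField w) := H.isoPullback
  have he : e.hom ≫ FBase.bcπ (f.fiberToSpecResidueField (t w)) (Y'.residueField w) = m :=
    H.isoPullback_hom_fst
  have hS : p.base ⁻¹' C ∩ f'.base ⁻¹' {w} = (e.inv ≫ f'.fiberι w).base ''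
      ((FBase.bcπ (f.fiberToSpecResidueField (t w)) (Y'.residueField w) ≫ f.fiberι (t w)).base ⁻¹' C) := by
    have key : ∀ b, (FBase.bcπ (f.fiberToSpecResidueField (t w)) (Y'.residueField w) ≫ f.fiberι (t w)).base b =
        p ((e.inv ≫ f'.fiberι w).base b) := fun b => by
      rw [← Scheme.Hom.comp_apply (e.inv ≫ f'.fiberι w) p, Category.assoc, ← h0, ← he, Category.assoc,
        Iso.inv_hom_id_assoc]
    ext x
    constructor
    · rintro ⟨hxC, hxw⟩
      obtain ⟨a, rfl⟩ : x ∈ Set.range (f'.fiberι w).base := by rw [f'.range_fiberι]; exact hxw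
      have hid : (e.inv ≫ f'.fiberι w).base (e.hom.base a) = (f'.fiberι w).base a :=
        congrArg (fun φ : f'.fiber w ⟶ X' => φ.base a) (Iso.hom_inv_id_assoc e (f'.fiberι w))
      refine ⟨e.hom.base a, ?_, hid⟩
      show _ ∈ C
      rw [key, hid]
      exact hxC
    · rintro ⟨b, hb, rfl⟩
      refine ⟨show p _ ∈ C from key b ▸ hb, ?_⟩
      rw [Scheme.Hom.comp_apply]
      exact apply_fiberι f' w _
  rw [hS]
  exact hirr.image _ (Scheme.Hom.continuous _).continuousOn

include sq in
/-- Geometrically irreducible section components commute with base change. -/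
theorem baseChange_geom (hg : g ≫ f = 𝟙 Y) (hg' : g' ≫ f' = 𝟙 Y') (hgp : g' ≫ p = t ≫ g) [LocallyOfFiniteType f]
    (w : Y')
    (hgeom : ∀ (K : Type u) [Field K] [Algebra (IsLocalRing.ResidueField (Y.presheaf.stalk (t w))) K],
      IsIrreducible ((FBase.bcπ (f.fiberToSpecResidueField (t w)) K ≫ f.fiberι (t w)).base ⁻¹'
        connectedComponentIn (f.base ⁻¹' {t w}) (g.base (t w)))) :
    connectedComponentIn (f'.base ⁻¹' {w}) (g'.base w) =
      p.base ⁻¹' connectedComponentIn (f.base ⁻¹' {t w}) (g.base (t w)) ∩ f'.base ⁻¹' {w} ∧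
    IsIrreducible (connectedComponentIn (f'.base ⁻¹' {w}) (g'.base w)) ∧
    topologicalKrullDim ↥(connectedComponentIn (f'.base ⁻¹' {w}) (g'.base w)) =
      topologicalKrullDim ↥(connectedComponentIn (f.base ⁻¹' {t w}) (g.base (t w))) := by
  have hS := isIrreducible_fibre_preimage f g sq w hgeom
  have he := fibre_preimage_eq f g sq g' hg hg' hgp w hS.isPreirreducible.isPreconnected
  haveI : LocallyOfFiniteType f' := MorphismProperty.of_isPullback sq ‹LocallyOfFiniteType f›
  refine ⟨he, he ▸ hS, ?_⟩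
  rw [dim_eq_fibreDimAt_section f' g' hg' (he ▸ hS),
    dim_eq_fibreDimAt_section f g hg (isIrreducible_of_geom f g (t w) hgeom),
    Groth.L23.fibreDimAt_of_isPullback sq, ← Scheme.Hom.comp_apply, hgp, Scheme.Hom.comp_apply]

/-- Universal openness along section components of locally constant dimension. -/
theorem isUnivOpenAt_of_dim_const [IsLocallyNoetherian Y] [LocallyOfFiniteType f] (hg : g ≫ f = 𝟙 Y)
    (hgi : ∀ (y : Y) (K : Type u) [Field K] [Algebra (IsLocalRing.ResidueField (Y.presheaf.stalk y)) K],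
      IsIrreducible ((FBase.bcπ (f.fiberToSpecResidueField y) K ≫ f.fiberι y).base ⁻¹'
        connectedComponentIn (f.base ⁻¹' {y}) (g.base y)))
    (y : Y) (hc : ∀ z, z ⤳ y → topologicalKrullDim ↥(connectedComponentIn (f.base ⁻¹' {z}) (g.base z)) =
      topologicalKrullDim ↥(connectedComponentIn (f.base ⁻¹' {y}) (g.base y)))
    (x : X) (hx : x ∈ connectedComponentIn (f.base ⁻¹' {y}) (g.base y)) : EGA43.IsUnivOpenAt f x := by
  refine (Groth.L07.UnivOpenPointwise.isUnivOpenAt_iff_dvr f x).mpr fun A _ _ _ t ht x' hx1 hx2 => ?_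
  have sq := IsPullback.of_hasPullback f t
  let g' : Spec (CommRingCat.of A) ⟶ pullback f t :=
    pullback.lift (t ≫ g) (𝟙 _) (by rw [Category.assoc, hg, Category.comp_id, Category.id_comp])
  have hg' : g' ≫ pullback.snd f t = 𝟙 _ := pullback.lift_snd _ _ _
  have hgp : g' ≫ pullback.fst f t = t ≫ g := pullback.lift_fst _ _ _
  set c := IsLocalRing.closedPoint A
  let η : ↥(Spec (CommRingCat.of A)) := (⟨⊥, Ideal.isPrime_bot⟩ : PrimeSpectrum A)
  have hηc : η ⤳ c := (PrimeSpectrum.le_iff_specializes (⟨⊥, Ideal.isPrime_bot⟩ : PrimeSpectrum A) c).mp bot_le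
  have hne : η ≠ c := fun e =>
    IsDiscreteValuationRing.not_a_field A (congrArg PrimeSpectrum.asIdeal e).symm
  obtain ⟨hec, hic, hdc⟩ := baseChange_geom f g sq g' hg hg' hgp c (hgi _)
  obtain ⟨heη, hiη, hdη⟩ := baseChange_geom f g sq g' hg hg' hgp η (hgi _)
  have hfx : f x = y := apply_of_mem f g hx
  have htc : t.base c = y := ht.trans hfx
  have hx'c : x' ∈ connectedComponentIn ((pullback.snd f t).base ⁻¹' {c}) (g'.base c) := by
    rw [hec]
    refine ⟨?_, hx2⟩
    show (pullback.fst f t).base x' ∈ connectedComponentIn (f.base ⁻¹' {t.base c}) (g.base (t.base c))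
    rw [hx1, htc]; exact hx
  obtain ⟨ζ, hfζ, hCe, hζC, -⟩ := exists_generic (pullback.snd f t) g' hiη
  have hζg : ζ ⤳ g' η := specializes_iff_mem_closure.mpr (hCe ▸ mem_comp _ g' hg' η).1
  have hd : topologicalKrullDim ↥(connectedComponentIn ((pullback.snd f t).base ⁻¹' {c}) (g'.base c)) ≤
      fdim (pullback.snd f t) ζ := by
    have e : fdim (pullback.snd f t) ζ =
        topologicalKrullDim ↥(connectedComponentIn ((pullback.snd f t).base ⁻¹' {η}) (g'.base η)) := by
      rw [hCe, fdim, hfζ]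
    rw [e, hdc, hdη, htc, hc (t η) (htc ▸ hηc.map t.continuous)]
  refine ⟨ζ, specializes_iff_mem_closure.mpr (subset_closure_of_dim_le (pullback.snd f t) g' hg' hηc hζg hic hd hx'c),
    fun h => hne (hfζ.symm.trans h)⟩

end Groth.L07.SectionComp
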