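import Groth.Agent.L07.SectionCompBC
import Groth.Agent.L22.GeomConn.Main

/-!
Section components commute with base change: a connected component with a rational point is
geometrically connected.
-/

universe u

open CategoryTheory CategoryTheory.Limits AlgebraicGeometry Topology TopologicalSpace

namespace Groth.L07.SectionComp

set_option autoImplicit false
set_option linter.style.haveILetI false
set_option maxSynthPendingDepth 3
set_option backward.isDefEq.respectTransparency.types false
set_option backward.isDefEq.respectTransparency false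

open Groth.L07.Equidim Groth.L22.GeomConn

variable {X Y X' Y' : Scheme.{u}} (f : X ⟶ Y) (g : Y ⟶ X)

theorem exists_rational_point (hg : g ≫ f = 𝟙 Y) (y : Y) :
    ∃ σ : Spec (Y.residueField y) ⟶ f.fiber y, σ ≫ f.fiberToSpecResidueField y = 𝟙 _ ∧
      ∀ a, f.fiberι y (σ a) = g y := by
  refine ⟨pullback.lift (Y.fromSpecResidueField y ≫ g) (𝟙 _) (by
    rw [Category.assoc, hg, Category.comp_id, Category.id_comp]), pullback.lift_snd _ _ _, fun a => ?_⟩
  rw [← Scheme.Hom.comp_apply, Scheme.Hom.fiberι, pullback.lift_fst, Scheme.Hom.comp_apply,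
    Scheme.fromSpecResidueField_apply]

theorem comp_eq_image (y : Y) (c : f.fiber y) (hc : f.fiberι y c = g y) :
    connectedComponentIn (f.base ⁻¹' {y}) (g.base y) = (f.fiberι y).base '' connectedComponent c := by
  have hF : g.base y ∈ f.base ⁻¹' {y} := by rw [← hc]; exact apply_fiberι f y c
  refine Set.Subset.antisymm ?_ ?_
  · have hsub : connectedComponentIn (f.base ⁻¹' {y}) (g.base y) ⊆ Set.range (f.fiberι y).base := by
      rw [f.range_fiberι]; exact connectedComponentIn_subset _ _
    rw [← Set.image_preimage_eq_of_subset hsub]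
    refine Set.image_mono (IsPreconnected.subset_connectedComponent ?_ ?_)
    · rw [← (f.fiberι y).isEmbedding.isInducing.isPreconnected_image, Set.image_preimage_eq_of_subset hsub]
      exact isPreconnected_connectedComponentIn
    · show f.fiberι y c ∈ connectedComponentIn (f.base ⁻¹' {y}) (g.base y)
      rw [hc]; exact mem_connectedComponentIn hF
  · refine (isPreconnected_connectedComponent.image _ (Scheme.Hom.continuous _).continuousOn).subset_connectedComponentIn
      ⟨c, mem_connectedComponent, hc⟩ ?_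
    rintro _ ⟨a, -, rfl⟩
    exact apply_fiberι f y a

variable {f' : X' ⟶ Y'} {p : X' ⟶ X} {t : Y' ⟶ Y} (sq : IsPullback p f' f t) (g' : Y' ⟶ X')

include sq in
theorem isPreconnected_fibre_preimage (hg : g ≫ f = 𝟙 Y) (w : Y') :
    _root_.IsPreconnected
      (p.base ⁻¹' connectedComponentIn (f.base ⁻¹' {t w}) (g.base (t w)) ∩ f'.base ⁻¹' {w}) := by
  let k : Type u := IsLocalRing.ResidueField (Y.presheaf.stalk (t w))
  let K : Type u := Y'.residueField w
  letI : Algebra k K := (t.residueFieldMap w).hom.toAlgebra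
  have H := isPullback_fiberToSpecResidueField_of_isPullback sq w
  let m : f'.fiber w ⟶ f.fiber (t w) :=
    pullback.map _ _ _ _ p (Spec.map (t.residueFieldMap w)) t sq.w.symm (by simp)
  have h0 : m ≫ f.fiberι (t w) = f'.fiberι w ≫ p := pullback.lift_fst _ _ _
  obtain ⟨σ, hσ, hσg⟩ := exists_rational_point f g hg (t w)
  let π : f.fiber (t w) ⟶ Spec (CommRingCat.of k) := f.fiberToSpecResidueField (t w)
  let c : f.fiber (t w) := σ (IsLocalRing.closedPoint k)
  let e : f'.fiber w ≅ FBase.bc π K := H.isoPullback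
  have he : e.hom ≫ FBase.bcπ π K = m := H.isoPullback_hom_fst
  -- the fibre over the rational point
  let σ' : Spec (CommRingCat.of k) ⟶ f.fiber (t w) := σ
  have hσ' : σ' ≫ π = 𝟙 _ := hσ
  let xK : Spec (CommRingCat.of K) ⟶ pullback π (specMap k K) :=
    pullback.lift (specMap k K ≫ σ') (𝟙 _) (by rw [Category.assoc, hσ', Category.comp_id, Category.id_comp])
  have hsq : IsPullback (specMap k K) xK σ' (pullback.fst π (specMap k K)) := by
    refine IsPullback.of_bot ?_ (pullback.lift_fst _ _ _).symm (IsPullback.of_hasPullback π (specMap k K))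
    rw [pullback.lift_snd, hσ']
    exact IsPullback.of_vert_isIso ⟨by simp⟩
  have hfib : (FBase.bcπ π K).base ⁻¹' {c} ⊆ Set.range xK.base := by
    intro z hz
    have : z ∈ (pullback.fst π (specMap k K)).base ⁻¹' Set.range σ'.base := ⟨IsLocalRing.closedPoint k, hz.symm⟩
    rwa [← Scheme.Pullback.range_snd, ← hsq.isoPullback_inv_snd, Scheme.Hom.comp_base,
      TopCat.coe_comp, Set.range_comp, Set.range_eq_univ.2 (show Function.Surjective hsq.isoPullback.inv.base from hsq.isoPullback.inv.homeomorph.surjective),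
      Set.image_univ] at this
  have hconn := isConnected_preimage_of_fibre π K c (Set.range xK.base)
    (Set.subsingleton_range (α := Spec (CommRingCat.of K)) xK.base).isPreconnected hfib
  have hC := comp_eq_image f g (t w) c (hσg _)
  have key : ∀ b, (f.fiberι (t w)).base ((FBase.bcπ π K).base b) = p ((e.inv ≫ f'.fiberι w).base b) := fun b => by
    show ((FBase.bcπ π K) ≫ f.fiberι (t w)).base b = ((e.inv ≫ f'.fiberι w) ≫ p).base b
    rw [Category.assoc, ← h0, ← he, Category.assoc, Iso.inv_hom_id_assoc]
  have hS : p.base ⁻¹' connectedComponentIn (f.base ⁻¹' {t w}) (g.base (t w)) ∩ f'.base ⁻¹' {w} =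
      (e.inv ≫ f'.fiberι w).base '' ((FBase.bcπ π K).base ⁻¹' connectedComponent c) := by
    ext x
    constructor
    · rintro ⟨hxC, hxw⟩
      obtain ⟨a, rfl⟩ : x ∈ Set.range (f'.fiberι w).base := by rw [f'.range_fiberι]; exact hxw
      have hid : (e.inv ≫ f'.fiberι w).base (e.hom.base a) = (f'.fiberι w).base a :=
        congrArg (fun φ : f'.fiber w ⟶ X' => φ.base a) (Iso.hom_inv_id_assoc e (f'.fiberι w))
      refine ⟨e.hom.base a, ?_, hid⟩
      obtain ⟨d, hd, hde⟩ := hC.le hxC
      show (FBase.bcπ π K).base (e.hom.base a) ∈ connectedComponent c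
      have : (FBase.bcπ π K).base (e.hom.base a) = d :=
        (f.fiberι (t w)).isEmbedding.injective ((key _).trans ((congrArg p.base hid).trans hde.symm))
      rw [this]; exact hd
    · rintro ⟨b, hb, rfl⟩
      refine ⟨show p _ ∈ connectedComponentIn (f.base ⁻¹' {t w}) (g.base (t w)) from
        key b ▸ hC.ge ⟨_, hb, rfl⟩, ?_⟩
      rw [Scheme.Hom.comp_apply]
      exact apply_fiberι f' w _
  rw [hS]
  exact hconn.isPreconnected.image _ (Scheme.Hom.continuous _).continuousOn

include sq in
/-- Section components commute with base change. -/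
theorem baseChange_comp (hg : g ≫ f = 𝟙 Y) (hg' : g' ≫ f' = 𝟙 Y') (hgp : g' ≫ p = t ≫ g) (w : Y') :
    connectedComponentIn (f'.base ⁻¹' {w}) (g'.base w) =
      p.base ⁻¹' connectedComponentIn (f.base ⁻¹' {t w}) (g.base (t w)) ∩ f'.base ⁻¹' {w} :=
  fibre_preimage_eq f g sq g' hg hg' hgp w (isPreconnected_fibre_preimage f g sq hg w)

include sq in
theorem sectionComponents_baseChange (hg : g ≫ f = 𝟙 Y) (hg' : g' ≫ f' = 𝟙 Y') (hgp : g' ≫ p = t ≫ g) :
    MoreMor.sectionComponents f' g' = p.base ⁻¹' MoreMor.sectionComponents f g := by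
  ext x
  have h := baseChange_comp f g sq g' hg hg' hgp (f' x)
  have hfx : f (p x) = t (f' x) := by rw [← Scheme.Hom.comp_apply, sq.w, Scheme.Hom.comp_apply]
  show x ∈ connectedComponentIn (f'.base ⁻¹' {f' x}) (g'.base (f' x)) ↔ p x ∈ MoreMor.sectionComponents f g
  rw [h, mem_sectionComponents_iff f g hfx]
  exact ⟨fun hx => hx.1, fun hx => ⟨hx, rfl⟩⟩

end Groth.L07.SectionComp
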