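import Groth.Agent.L07.SectionCompSpread
import Groth.Agent.L07.Spread.SchemeIrred

/-!
Geometric irreducibility of section components: base change and spreading.
-/

universe u

open CategoryTheory CategoryTheory.Limits AlgebraicGeometry

namespace Groth.L07.SectionComp

set_option autoImplicit false
set_option linter.style.haveILetI false
set_option maxSynthPendingDepth 3
set_option backward.isDefEq.respectTransparency.types false
set_option backward.isDefEq.respectTransparency false

variable {X Y X' Y' : Scheme.{u}} (f : X ⟶ Y) (g : Y ⟶ X)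

/-- The section component over a point is geometrically irreducible, tested on field valued points. -/
def GeomIrredAt (y : Y) : Prop :=
  ∀ (K : Type u) [Field K] (t : Spec (CommRingCat.of K) ⟶ Y), (∀ c, t c = y) →
    IsIrreducible ((pullback.fst f t).base ⁻¹' connectedComponentIn (f.base ⁻¹' {y}) (g.base y))

theorem geomIrredAt_iff (y : Y) : GeomIrredAt f g y ↔
    ∀ (K : Type u) [Field K] [Algebra (IsLocalRing.ResidueField (Y.presheaf.stalk y)) K],
      IsIrreducible ((FBase.bcπ (f.fiberToSpecResidueField y) K ≫ f.fiberι y).base ⁻¹'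
        connectedComponentIn (f.base ⁻¹' {y}) (g.base y)) := by
  let k : Type u := IsLocalRing.ResidueField (Y.presheaf.stalk y)
  constructor
  · intro h K _ _
    let x : Spec (CommRingCat.of K) ⟶ Spec (Y.residueField y) := Spec.map (CommRingCat.ofHom (algebraMap k K))
    let e : FBase.bc (f.fiberToSpecResidueField y) K ≅ pullback f (x ≫ Y.fromSpecResidueField y) :=
      pullbackLeftPullbackSndIso f (Y.fromSpecResidueField y) x
    have he : FBase.bcπ (f.fiberToSpecResidueField y) K ≫ f.fiberι y = e.hom ≫ pullback.fst f _ :=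
      (pullbackLeftPullbackSndIso_hom_fst f (Y.fromSpecResidueField y) x).symm
    have h' := h K (x ≫ Y.fromSpecResidueField y) fun c => by
      rw [Scheme.Hom.comp_apply]; exact Scheme.fromSpecResidueField_apply y _
    rw [he, Scheme.Hom.comp_base, TopCat.coe_comp, Set.preimage_comp]
    have heq : ∀ S : Set (pullback f (x ≫ Y.fromSpecResidueField y) : Scheme.{u}), e.hom.base ⁻¹' S = e.inv.base '' S := fun S => by
      ext a
      refine ⟨fun ha => ⟨e.hom a, ha, by rw [← Scheme.Hom.comp_apply, e.hom_inv_id]; rfl⟩, ?_⟩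
      rintro ⟨b, hb, rfl⟩
      show e.hom (e.inv b) ∈ S
      rw [← Scheme.Hom.comp_apply, e.inv_hom_id]
      exact hb
    rw [heq]
    exact h'.image e.inv.base e.inv.continuous.continuousOn
  · intro h K _ t ht
    obtain ⟨⟨z, φ⟩, rfl⟩ := (Scheme.SpecToEquivOfField _ _).symm.surjective t
    obtain rfl : z = y := by
      rw [← ht (⟨⊥, Ideal.isPrime_bot⟩ : PrimeSpectrum K)]
      show z = (Spec.map φ ≫ Y.fromSpecResidueField z) _
      rw [Scheme.Hom.comp_apply, Scheme.fromSpecResidueField_apply]
    letI : Algebra k K := φ.hom.toAlgebra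
    let e : FBase.bc (f.fiberToSpecResidueField z) K ≅ pullback f (Spec.map φ ≫ Y.fromSpecResidueField z) :=
      pullbackLeftPullbackSndIso f (Y.fromSpecResidueField z) (Spec.map φ)
    have he : FBase.bcπ (f.fiberToSpecResidueField z) K ≫ f.fiberι z = e.hom ≫ pullback.fst f _ :=
      (pullbackLeftPullbackSndIso_hom_fst f (Y.fromSpecResidueField z) (Spec.map φ)).symm
    have h' := (h K).image e.hom.base e.hom.continuous.continuousOn
    rw [he, Scheme.Hom.comp_base, TopCat.coe_comp, Set.preimage_comp, Set.image_preimage_eq _ e.hom.surjective] at h'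
    exact h'

variable {f' : X' ⟶ Y'} {p : X' ⟶ X} {τ : Y' ⟶ Y} (sq : IsPullback p f' f τ) (g' : Y' ⟶ X')

include sq in
/-- Geometric irreducibility of section components is invariant under base change. -/
theorem geomIrredAt_baseChange_iff (hg : g ≫ f = 𝟙 Y) (hg' : g' ≫ f' = 𝟙 Y') (hgp : g' ≫ p = τ ≫ g) (w : Y') :
    GeomIrredAt f' g' w ↔ GeomIrredAt f g (τ w) := by
  have hC := baseChange_comp f g sq g' hg hg' hgp w
  constructor
  · intro h K _ t ht
    obtain ⟨n, hn₁, hn₂⟩ := Scheme.Pullback.exists_preimage_pullback (f := t) (g := τ)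
      (⟨⊥, Ideal.isPrime_bot⟩ : PrimeSpectrum K) w (ht _)
    let P := pullback t τ
    let a : Spec (P.residueField n) ⟶ Spec (CommRingCat.of K) := P.fromSpecResidueField n ≫ pullback.fst t τ
    let b : Spec (P.residueField n) ⟶ Y' := P.fromSpecResidueField n ≫ pullback.snd t τ
    have hab : a ≫ t = b ≫ τ := by simp [a, b, P, pullback.condition]
    have h' := h (P.residueField n) b fun c => by
      rw [Scheme.Hom.comp_apply]
      exact (congrArg (pullback.snd t τ) (Scheme.fromSpecResidueField_apply n c)).trans hn₂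
    let q : pullback f' b ⟶ pullback f t := pullback.lift (pullback.fst f' b ≫ p) (pullback.snd f' b ≫ a) (by
      rw [Category.assoc, Category.assoc, hab, sq.w, pullback.condition_assoc])
    have hq : q ≫ pullback.fst f t = pullback.fst f' b ≫ p := pullback.lift_fst _ _ _
    have hsq : IsPullback q (pullback.snd f' b) (pullback.snd f t) a :=
      IsPullback.of_right (by rw [hq, hab]; exact (IsPullback.of_hasPullback f' b).paste_horiz sq)
        (pullback.lift_snd _ _ _) (IsPullback.of_hasPullback f t)
    haveI : Surjective a := ⟨fun c => ⟨(⟨⊥, Ideal.isPrime_bot⟩ : PrimeSpectrum (P.residueField n)),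
      Subsingleton.elim (α := PrimeSpectrum K) _ _⟩⟩
    haveI : Surjective q := MorphismProperty.of_isPullback hsq.flip ‹Surjective a›
    have himg := h'.image q.base q.continuous.continuousOn
    have e : (pullback.fst f' b).base ⁻¹' connectedComponentIn (f'.base ⁻¹' {w}) (g'.base w) =
        q.base ⁻¹' ((pullback.fst f t).base ⁻¹' connectedComponentIn (f.base ⁻¹' {τ w}) (g.base (τ w))) := by
      rw [hC, Set.preimage_inter, ← Set.preimage_comp, ← Set.preimage_comp, ← TopCat.coe_comp, ← TopCat.coe_comp,
        ← Scheme.Hom.comp_base, ← Scheme.Hom.comp_base, ← hq]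
      refine (Set.inter_eq_left.mpr ?_).trans (by rw [Scheme.Hom.comp_base, TopCat.coe_comp, Set.preimage_comp])
      intro z _
      show f' (pullback.fst f' b z) = w
      rw [← Scheme.Hom.comp_apply, pullback.condition, Scheme.Hom.comp_apply, Scheme.Hom.comp_apply]
      exact (congrArg (pullback.snd t τ) (Scheme.fromSpecResidueField_apply n _)).trans hn₂
    rw [e, Set.image_preimage_eq _ q.surjective] at himg
    exact himg
  · intro h K _ t ht
    have hsq : IsPullback (pullback.fst f' t ≫ p) (pullback.snd f' t) f (t ≫ τ) :=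
      (IsPullback.of_hasPullback f' t).paste_horiz sq
    have h' := (h K (t ≫ τ) fun c => by rw [Scheme.Hom.comp_apply, ht]).image hsq.isoPullback.inv.base
      hsq.isoPullback.inv.continuous.continuousOn
    have e : (pullback.fst f' t).base ⁻¹' connectedComponentIn (f'.base ⁻¹' {w}) (g'.base w) =
        hsq.isoPullback.inv.base '' ((pullback.fst f (t ≫ τ)).base ⁻¹' connectedComponentIn (f.base ⁻¹' {τ w}) (g.base (τ w))) := by
      rw [← hsq.isoPullback_inv_fst, Scheme.Hom.comp_base, TopCat.coe_comp, Set.preimage_comp,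
        Set.image_preimage_eq _ hsq.isoPullback.inv.surjective, hC, Set.preimage_inter, Scheme.Hom.comp_base,
        TopCat.coe_comp, Set.preimage_comp, Set.inter_eq_left]
      intro z _
      show f' (pullback.fst f' t z) = w
      rw [← Scheme.Hom.comp_apply, pullback.condition, Scheme.Hom.comp_apply, ht]
    rw [e]
    exact h'

/-- Geometric irreducibility of the section component spreads from the generic point. -/
theorem geomIrredAt_near_generic [IrreducibleSpace Y] [LocallyOfFiniteType f] [QuasiCompact f] (hg : g ≫ f = 𝟙 Y)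
    (h : GeomIrredAt f g (genericPoint Y)) :
    ∃ V : Y.Opens, genericPoint Y ∈ V ∧ ∀ y ∈ V, GeomIrredAt f g y := by
  obtain ⟨V₁, hξ₁, C, R, hC, -, hiff⟩ := exists_opens_sectionComponents_clopen f g hg
  let I := Scheme.IdealSheafData.vanishingIdeal (X := X) ⟨C, hC⟩
  have hr : Set.range I.subschemeι = C := by
    rw [Scheme.IdealSheafData.range_subschemeι, Scheme.IdealSheafData.coe_support_vanishingIdeal]; rfl
  have hpre : ∀ (K : Type u) [Field K] (t : Spec (CommRingCat.of K) ⟶ Y) (y : Y), (∀ c, t c = y) → y ∈ V₁ →
      (pullback.fst f t).base ⁻¹' C = (pullback.fst f t).base ⁻¹' connectedComponentIn (f.base ⁻¹' {y}) (g.base y) := by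
    intro K _ t y ht hy
    ext z
    have hfz : f (pullback.fst f t z) = y := by
      rw [← Scheme.Hom.comp_apply, pullback.condition, Scheme.Hom.comp_apply, ht]
    exact (hiff _ (hfz.symm ▸ hy)).1.symm.trans (mem_sectionComponents_iff f g hfz)
  have key : ∀ (K : Type u) [Field K] (t : Spec (CommRingCat.of K) ⟶ Y),
      IrreducibleSpace (pullback (I.subschemeι ≫ f) t : Scheme.{u}) ↔ IsIrreducible ((pullback.fst f t).base ⁻¹' C) := by
    intro K _ t
    let j := pullback.snd I.subschemeι (pullback.fst f t)
    have hjr : Set.range j = (pullback.fst f t).base ⁻¹' C := by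
      rw [Scheme.Pullback.range_snd, hr]
    rw [← (pullbackRightPullbackFstIso f t I.subschemeι).hom.homeomorph.irreducibleSpace_iff, ← hjr,
      j.isEmbedding.toHomeomorph.irreducibleSpace_iff]
    exact ⟨fun _ => IsIrreducible.of_subtype, fun h => Subtype.irreducibleSpace h⟩
  obtain ⟨V₂, ⟨η, hη⟩, hV₂⟩ := Spread.exists_geometrically_restrict (P := fun Z => IrreducibleSpace Z)
    (I.subschemeι ≫ f) (by
      rw [geometrically_iff_of_isClosedUnderIsomorphisms]
      intro K _ x
      have ht : ∀ c, (x ≫ Y.fromSpecResidueField (genericPoint Y)) c = genericPoint Y := fun c => by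
        rw [Scheme.Hom.comp_apply]; exact Scheme.fromSpecResidueField_apply _ _
      haveI := (key K _).mpr (hpre K _ _ ht hξ₁ ▸ h K _ ht)
      exact (pullbackLeftPullbackSndIso (I.subschemeι ≫ f) (Y.fromSpecResidueField (genericPoint Y)) x).hom.homeomorph.irreducibleSpace_iff.mpr
        inferInstance)
    fun A _ _ X' g _ _ hgen => by
      let Ω := AlgebraicClosure (FractionRing A)
      have hΩ : Function.Injective (algebraMap A Ω) := by
        rw [IsScalarTower.algebraMap_eq A (FractionRing A) Ω]
        exact (algebraMap (FractionRing A) Ω).injective.comp (IsFractionRing.injective A _)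
      haveI : Algebra.IsAlgebraic A Ω :=
        (IsFractionRing.comap_isAlgebraic_iff (A := A) (K := FractionRing A) (C := Ω)).mpr inferInstance
      haveI := hgen Ω hΩ
      exact Spread.exists_forall_irreducibleSpace g Ω hΩ
  refine ⟨V₁ ⊓ V₂, ⟨hξ₁, ((genericPoint_spec Y).specializes (Set.mem_univ η)).mem_open V₂.isOpen hη⟩,
    fun y hy K _ t ht => ?_⟩
  rw [← hpre K t y ht hy.1, ← key]
  have hrg : Set.range t ⊆ Set.range V₂.ι := by
    rintro _ ⟨c, rfl⟩
    rw [Scheme.Opens.range_ι, ht]; exact hy.2
  have hsq := isPullback_morphismRestrict (I.subschemeι ≫ f) V₂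
  haveI : IrreducibleSpace (pullback ((I.subschemeι ≫ f) ∣_ V₂) (IsOpenImmersion.lift V₂.ι t hrg) : Scheme.{u}) :=
    pullback_of_geometrically hV₂ K _
  let e : pullback ((I.subschemeι ≫ f) ∣_ V₂) (IsOpenImmersion.lift V₂.ι t hrg) ≅ pullback (I.subschemeι ≫ f) t :=
    ((IsPullback.of_hasPullback _ _).paste_horiz hsq.flip).isoPullback ≪≫
      pullback.congrHom rfl (IsOpenImmersion.lift_fac _ _ _)
  exact e.hom.homeomorph.irreducibleSpace_iff.mp inferInstance

end Groth.L07.SectionComp
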