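import Groth.Agent.L07.SectionCompSpread
import Groth.Agent.L06.Constr

/-!
Neighbourhoods in the union of the section components.
-/

universe u

open CategoryTheory CategoryTheory.Limits AlgebraicGeometry Topology

namespace Groth.L07.SectionComp

set_option autoImplicit false
set_option linter.style.haveILetI false
set_option maxSynthPendingDepth 3
set_option backward.isDefEq.respectTransparency.types false
set_option backward.isDefEq.respectTransparency false

variable {X Y : Scheme.{u}} (f : X ⟶ Y) (g : Y ⟶ X)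

/-- Each point of a section component is linked to the section inside a quasi-compact open. -/
theorem exists_qc_open_mem [LocallyOfFiniteType f] (hg : g ≫ f = 𝟙 Y) {y : Y} {z : X}
    (hz : z ∈ connectedComponentIn (f.base ⁻¹' {y}) (g.base y)) :
    ∃ W : X.Opens, IsCompact (W : Set X) ∧ g y ∈ W ∧ z ∈ W ∧
      z ∈ connectedComponentIn ((W : Set X) ∩ f.base ⁻¹' {y}) (g.base y) := by
  classical
  haveI : LocallyOfFiniteType (f.fiberToSpecResidueField y) := MorphismProperty.pullback_snd _ _ inferInstance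
  haveI : IsLocallyNoetherian (f.fiber y) := LocallyOfFiniteType.isLocallyNoetherian (f.fiberToSpecResidueField y)
  obtain ⟨σ, hσ, hσg⟩ := exists_rational_point f g hg y
  let c := σ (IsLocalRing.closedPoint (Y.residueField y))
  let ι := f.fiberι y
  have hc : ι c = g y := hσg _
  let M : Set (f.fiber y) := {a | ∃ W : X.Opens, IsCompact (W : Set X) ∧ g y ∈ W ∧ ι a ∈ W ∧
    ι a ∈ connectedComponentIn ((W : Set X) ∩ f.base ⁻¹' {y}) (g.base y)}
  -- the local pieces
  have hloc : ∀ a : f.fiber y, ∃ K : Set (f.fiber y), IsOpen K ∧ a ∈ K ∧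
      ∀ b ∈ K, (a ∈ M → b ∈ M) ∧ (b ∈ M → a ∈ M) := by
    intro a
    obtain ⟨_, ⟨U, hU, rfl⟩, haU, -⟩ := X.isBasis_affineOpens.exists_subset_of_mem_open (Set.mem_univ (ι a)) isOpen_univ
    let P : (f.fiber y).Opens := ι ⁻¹ᵁ U
    let K : Set (f.fiber y) := P.ι '' connectedComponent (⟨a, haU⟩ : P)
    have hK : IsOpen K := P.ι.isOpenEmbedding.isOpenMap _ (Groth.L04.SupportSh.isOpen_connectedComponent _)
    have hKU : ι '' K ⊆ (U : Set X) ∩ f.base ⁻¹' {y} := by
      rintro _ ⟨_, ⟨b, -, rfl⟩, rfl⟩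
      exact ⟨b.2, (Set.ext_iff.mp (f.range_fiberι y) _).mp ⟨_, rfl⟩⟩
    have hKpre : _root_.IsPreconnected (ι '' K) :=
      (isPreconnected_connectedComponent.image _ P.ι.continuous.continuousOn).image _ ι.continuous.continuousOn
    refine ⟨K, hK, ⟨_, mem_connectedComponent, rfl⟩, fun b hb => ?_⟩
    have key : ∀ a₁ ∈ K, ∀ a₂ ∈ K, a₁ ∈ M → a₂ ∈ M := by
      rintro a₁ h₁ a₂ h₂ ⟨W, hW, hgW, haW, hcomp⟩
      refine ⟨W ⊔ U, hW.union hU.isCompact, Or.inl hgW, Or.inr (hKU ⟨a₂, h₂, rfl⟩).1, ?_⟩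
      have hsub : connectedComponentIn ((W : Set X) ∩ f.base ⁻¹' {y}) (g.base y) ∪ ι '' K ⊆
          ((W ⊔ U : X.Opens) : Set X) ∩ f.base ⁻¹' {y} := by
        rintro w (hw | hw)
        · exact ⟨Or.inl (connectedComponentIn_subset _ _ hw).1, (connectedComponentIn_subset _ _ hw).2⟩
        · exact ⟨Or.inr (hKU hw).1, (hKU hw).2⟩
      have hu : _root_.IsPreconnected (connectedComponentIn ((W : Set X) ∩ f.base ⁻¹' {y}) (g.base y) ∪ ι '' K) :=
        IsPreconnected.union (ι a₁) hcomp ⟨a₁, h₁, rfl⟩ isPreconnected_connectedComponentIn hKpre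
      exact hu.subset_connectedComponentIn (Or.inl (mem_connectedComponentIn ⟨hgW, apply_section f g hg y⟩)) hsub
        (Or.inr ⟨a₂, h₂, rfl⟩)
    exact ⟨key a ⟨_, mem_connectedComponent, rfl⟩ b hb, key b hb a ⟨_, mem_connectedComponent, rfl⟩⟩
  have hM : IsClopen M := by
    refine ⟨isOpen_compl_iff.mp (isOpen_iff_forall_mem_open.mpr fun a ha => ?_),
      isOpen_iff_forall_mem_open.mpr fun a ha => ?_⟩
    · obtain ⟨K, hK, haK, h⟩ := hloc a
      exact ⟨K, fun b hb hbM => ha ((h b hb).2 hbM), hK, haK⟩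
    · obtain ⟨K, hK, haK, h⟩ := hloc a
      exact ⟨K, fun b hb => (h b hb).1 ha, hK, haK⟩
  have hcM : c ∈ M := by
    obtain ⟨_, ⟨U, hU, rfl⟩, hgU, -⟩ := X.isBasis_affineOpens.exists_subset_of_mem_open (Set.mem_univ (g y)) isOpen_univ
    exact ⟨U, hU.isCompact, hgU, hc.symm ▸ hgU, hc.symm ▸ mem_connectedComponentIn ⟨hgU, apply_section f g hg y⟩⟩
  rw [comp_eq_image f g y c hc] at hz
  obtain ⟨a, ha, rfl⟩ := hz
  exact hM.connectedComponent_subset hcM ha

/-- The union of the section components is a neighbourhood of each point all of whose generisations lie in it. -/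
theorem mem_nhds_sectionComponents [IsLocallyNoetherian Y] [LocallyOfFiniteType f] (hg : g ≫ f = 𝟙 Y) {x : X}
    (h : ∀ z, z ⤳ x → z ∈ MoreMor.sectionComponents f g) : MoreMor.sectionComponents f g ∈ 𝓝 x := by
  haveI : IsLocallyNoetherian X := LocallyOfFiniteType.isLocallyNoetherian f
  obtain ⟨N, hN, hxN, -⟩ := exists_isAffineOpen_mem_and_subset (X := X) (x := x) (U := ⊤) trivial
  haveI : CompactSpace (N : Scheme.{u}) := isCompact_iff_compactSpace.mp hN.isCompact
  haveI : IsNoetherian (N : Scheme.{u}) := ⟨⟩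
  suffices hsuff : N.ι ⁻¹' MoreMor.sectionComponents f g ∈ 𝓝 (⟨x, hxN⟩ : N) by
    have h2 : N.ι '' (N.ι ⁻¹' MoreMor.sectionComponents f g) ∈ 𝓝 (N.ι ⟨x, hxN⟩) :=
      N.ι.isOpenEmbedding.isOpenMap.image_mem_nhds hsuff
    exact Filter.mem_of_superset h2 (Set.image_preimage_subset _ _)
  haveI : TopologicalSpace.NoetherianSpace ↥N := inferInstanceAs (TopologicalSpace.NoetherianSpace (N : Scheme.{u}))
  refine Groth.L06.Constr.mem_nhds_of_forall_irreducible (X := (N : Scheme.{u})) fun T hT hTi hxT => ?_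
  obtain ⟨ζ, hζ⟩ : ∃ ζ, IsGenericPoint ζ T := QuasiSober.sober hTi hT
  set z := N.ι ζ
  have hzS : z ∈ MoreMor.sectionComponents f g := h z ((hζ.specializes hxT).map N.ι.continuous)
  obtain ⟨W, hW, hgW, hzW, hzc⟩ := exists_qc_open_mem f g hg
    (show z ∈ connectedComponentIn (f.base ⁻¹' {f z}) (g.base (f z)) from hzS)
  obtain ⟨V, hV, hzV, hVg⟩ :=
    exists_isAffineOpen_mem_and_subset (X := Y) (x := f z) (U := g ⁻¹ᵁ W) hgW
  -- the restricted morphism
  let t := V.ι
  let W' : (f ⁻¹ᵁ V : Scheme.{u}).Opens := (f ⁻¹ᵁ V).ι ⁻¹ᵁ W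
  let f' : (W' : Scheme.{u}) ⟶ V := W'.ι ≫ (f ∣_ V)
  let p : (W' : Scheme.{u}) ⟶ X := W'.ι ≫ (f ⁻¹ᵁ V).ι
  have hf' : ∀ a : W', t (f' a) = f (p a) := fun a => by
    rw [← Scheme.Hom.comp_apply, ← Scheme.Hom.comp_apply]
    simp [t, f', p]
  have hrgV : Set.range (V.ι ≫ g) ⊆ Set.range p := by
    rintro _ ⟨v, rfl⟩
    refine ⟨⟨⟨(V.ι ≫ g) v, show f (g (V.ι v)) ∈ V by rw [apply_section f g hg]; exact v.2⟩, hVg v.2⟩, rfl⟩
  let g' : (V : Scheme.{u}) ⟶ W' := IsOpenImmersion.lift p (V.ι ≫ g) hrgV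
  have hg'p : g' ≫ p = V.ι ≫ g := IsOpenImmersion.lift_fac _ _ _
  have hpf : p ≫ f = f' ≫ V.ι := by simp [p, f']
  have hg' : g' ≫ f' = 𝟙 _ := by
    rw [← cancel_mono V.ι, Category.assoc, ← hpf, ← Category.assoc, hg'p, Category.assoc, hg, Category.comp_id,
      Category.id_comp]
  haveI : IsLocallyNoetherian (V : Scheme.{u}) := inferInstance
  haveI : LocallyOfFiniteType f' := inferInstance
  haveI : CompactSpace (W' : Scheme.{u}) := by
    haveI : CompactSpace (V : Scheme.{u}) := isCompact_iff_compactSpace.mp hV.isCompact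
    haveI : IsNoetherian (V : Scheme.{u}) := ⟨⟩
    haveI : QuasiSeparatedSpace X := inferInstance
    have hr : Set.range p = (W : Set X) ∩ f.base ⁻¹' (V : Set Y) := by
      ext w
      refine ⟨?_, fun hw => ⟨⟨⟨w, hw.2⟩, hw.1⟩, rfl⟩⟩
      rintro ⟨a, rfl⟩
      exact ⟨a.2, a.1.2⟩
    refine isCompact_univ_iff.mp (p.isOpenEmbedding.isInducing.isCompact_iff.mpr ?_)
    rw [Set.image_univ, hr]
    haveI : CompactSpace (W : Scheme.{u}) := isCompact_iff_compactSpace.mp hW
    haveI : IsNoetherian (W : Scheme.{u}) := ⟨⟩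
    have hcpt : IsCompact (W.ι ⁻¹' (f.base ⁻¹' (V : Set Y))) := TopologicalSpace.NoetherianSpace.isCompact _
    have := hcpt.image W.ι.continuous
    rwa [Set.image_preimage_eq_inter_range, Scheme.Opens.range_ι, Set.inter_comm] at this
  haveI : QuasiCompact f' := by
    haveI : IsAffine (V : Scheme.{u}) := hV
    exact (quasiCompact_iff_compactSpace f').mpr inferInstance
  -- the point
  let z' : W' := ⟨⟨z, hzV⟩, hzW⟩
  obtain ⟨O, hO, C, R, hC, -, hiff⟩ := exists_piece_clopen f' g' hg' (f' z')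
  have hrgp : ∀ (S : Set X) (v : V), S ⊆ (W : Set X) ∩ f.base ⁻¹' {t v} → S ⊆ Set.range p := fun S v hS w hw =>
    ⟨⟨⟨w, show f w ∈ V by rw [show f w = t v from (hS hw).2]; exact v.2⟩, (hS hw).1⟩, rfl⟩
  have hsub : ∀ a : W', a ∈ MoreMor.sectionComponents f' g' → p a ∈ MoreMor.sectionComponents f g := by
    intro a ha
    refine mem_of_preconnected f g (mem_comp f g hg (f (p a))) (p '' connectedComponentIn (f'.base ⁻¹' {f' a}) (g'.base (f' a)))
      (isPreconnected_connectedComponentIn.image _ p.continuous.continuousOn)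
      ⟨_, mem_comp f' g' hg' _, by rw [← Scheme.Hom.comp_apply, hg'p, Scheme.Hom.comp_apply, ← hf']⟩ ?_ ⟨a, ha, rfl⟩
    rintro _ ⟨b, hb, rfl⟩
    show f (p b) = f (p a)
    rw [← hf', ← hf', apply_of_mem f' g' hb]
  have hzC : z' ∈ MoreMor.sectionComponents f' g' := by
    let S := connectedComponentIn ((W : Set X) ∩ f.base ⁻¹' {f z}) (g.base (f z))
    have hS : S ⊆ Set.range p := hrgp S (f' z') ((connectedComponentIn_subset _ _).trans (by rw [hf']; exact le_rfl))
    have hpre : _root_.IsPreconnected (p ⁻¹' S) := by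
      rw [← p.isEmbedding.isInducing.isPreconnected_image, Set.image_preimage_eq_of_subset hS]
      exact isPreconnected_connectedComponentIn
    refine mem_of_preconnected f' g' (mem_comp f' g' hg' (f' z')) (p ⁻¹' S) hpre ?_ ?_ (show p z' ∈ S from hzc)
    · show p (g' (f' z')) ∈ S
      rw [← Scheme.Hom.comp_apply, hg'p, Scheme.Hom.comp_apply, show t (f' z') = f z from hf' z']
      exact mem_connectedComponentIn ⟨hgW, apply_section f g hg _⟩
    · intro b hb
      refine V.ι.isOpenEmbedding.injective ?_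
      show t (f' b) = t (f' z')
      rw [hf', hf']
      exact (connectedComponentIn_subset _ _ hb).2
  -- the neighbourhood
  let U₀ : X.Opens := p ''ᵁ (f' ⁻¹ᵁ O)
  refine ⟨N.ι ⁻¹' (U₀ : Set X), U₀.isOpen.preimage N.ι.continuous, ⟨ζ, ⟨z', hO, rfl⟩, hζ.mem⟩, ?_⟩
  rintro w ⟨⟨b, hbO, hb⟩, hwT⟩
  show N.ι w ∈ MoreMor.sectionComponents f g
  rw [← hb]
  have hsp : z' ⤳ b := p.isEmbedding.isInducing.specializes_iff.mp (by
    show z ⤳ p b
    rw [show p b = N.ι w from hb]; exact (hζ.specializes hwT).map N.ι.continuous)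
  refine hsub b ((hiff b hbO (specializes_iff_mem_closure.mp (hsp.map f'.continuous))).1.mpr ?_)
  exact hsp.mem_closed hC ((hiff z' hO (subset_closure rfl)).1.mp hzC)

end Groth.L07.SectionComp
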