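import Groth.Agent.L07.SectionCompGI
import Groth.Agent.L07.SectionCompConstr
import Groth.Agent.L07.SectionCompBC
import Groth.Agent.L19.Limit.Cons

/-!
Noetherian models preserving geometrically irreducible section components of constant dimension.
-/

universe u

open CategoryTheory CategoryTheory.Limits AlgebraicGeometry Topology Opposite

namespace Groth.L07.SectionComp

set_option autoImplicit false
set_option linter.style.haveILetI false
set_option maxSynthPendingDepth 3
set_option backward.isDefEq.respectTransparency.types false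
set_option backward.isDefEq.respectTransparency false

variable {X Y : Scheme.{u}} (f : X ⟶ Y) (g : Y ⟶ X)

/-- The points with geometrically irreducible component of given dimension near a given one in its closure. -/
theorem exists_opens_good [LocallyOfFiniteType f] [QuasiCompact f] (hg : g ≫ f = 𝟙 Y) {y : Y}
    (h : GeomIrredAt f g y) :
    ∃ O : Y.Opens, y ∈ O ∧ ∀ z ∈ O, y ⤳ z →
      GeomIrredAt f g z ∧ FlatMor.fibreDimAt f (g z) = FlatMor.fibreDimAt f (g y) := by
  obtain ⟨d, hd⟩ := Groth.L07.OpenEquiv.exists_nat_fibreDimAt f (g y)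
  let I := Scheme.IdealSheafData.vanishingIdeal (X := Y) ⟨closure {y}, isClosed_closure⟩
  let i := I.subschemeι
  have hr : Set.range i = closure {y} := by
    rw [Scheme.IdealSheafData.range_subschemeι, Scheme.IdealSheafData.coe_support_vanishingIdeal]; rfl
  haveI : IrreducibleSpace (I.subscheme : Scheme.{u}) := by
    have : IsIrreducible (Set.range i) := hr ▸ isIrreducible_singleton.closure
    haveI := Subtype.irreducibleSpace this
    exact i.isEmbedding.toHomeomorph.irreducibleSpace_iff.mpr inferInstance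
  obtain ⟨y₀, hy₀⟩ : y ∈ Set.range i := hr ▸ subset_closure rfl
  have hgen : i (genericPoint I.subscheme) = y := by
    have h1 : i (genericPoint I.subscheme) ⤳ y :=
      hy₀ ▸ ((genericPoint_spec _).specializes (Set.mem_univ y₀)).map i.continuous
    have h2 : y ⤳ i (genericPoint I.subscheme) := specializes_iff_mem_closure.mpr (hr ▸ ⟨_, rfl⟩)
    exact (h1.antisymm h2).eq
  let g' : I.subscheme ⟶ pullback f i :=
    pullback.lift (i ≫ g) (𝟙 _) (by rw [Category.assoc, hg, Category.comp_id, Category.id_comp])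
  have hinv := geomIrredAt_baseChange_iff f g (IsPullback.of_hasPullback f i) g' hg (pullback.lift_snd _ _ _)
    (pullback.lift_fst _ _ _)
  obtain ⟨V, hV, hVgi⟩ := geomIrredAt_near_generic (pullback.snd f i) g' (pullback.lift_snd _ _ _)
    ((hinv _).mpr (hgen.symm ▸ h))
  obtain ⟨O, hO, hOV⟩ := i.isEmbedding.isInducing.isOpen_iff.mp V.isOpen
  let L : Y.Opens := ⟨g.base ⁻¹' {x | FlatMor.fibreDimAt f x ≤ d},
    (Groth.L07.FibreDim.isOpen_fibreDimAt_le f d).preimage g.continuous⟩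
  refine ⟨⟨O, hO⟩ ⊓ L, ⟨?_, hd.le⟩, fun z hz hyz => ?_⟩
  · show y ∈ O
    rw [← hgen]
    exact (Set.ext_iff.mp hOV _).mpr hV
  · obtain ⟨b, rfl⟩ : z ∈ Set.range i := hr ▸ specializes_iff_mem_closure.mp hyz
    refine ⟨(hinv b).mp (hVgi b ((Set.ext_iff.mp hOV b).mp hz.1)), le_antisymm (hd ▸ hz.2) ?_⟩
    obtain ⟨e, he⟩ := Groth.L07.OpenEquiv.exists_nat_fibreDimAt f (g (i b))
    rw [he]
    exact (hyz.map g.continuous).mem_open (Groth.L07.FibreDim.isOpen_fibreDimAt_le f e) he.le

/-- A noetherian model whose section components are all geometrically irreducible of the given dimension. -/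
theorem exists_model_good {A : Type u} [CommRing A] {X : Scheme.{u}} (f : X ⟶ Spec (CommRingCat.of A))
    [LocallyOfFinitePresentation f] [QuasiCompact f] [QuasiSeparated f] (g : Spec (CommRingCat.of A) ⟶ X)
    (hg : g ≫ f = 𝟙 _) (d : WithBot ℕ∞) (hgi : ∀ s, GeomIrredAt f g s)
    (hd : ∀ s, FlatMor.fibreDimAt f (g s) = d) :
    ∃ (A₁ : Subalgebra ℤ A) (_ : A₁.FG) (X₁ : Scheme.{u}) (f₁ : X₁ ⟶ Spec (CommRingCat.of ↥A₁)) (p : X ⟶ X₁)
      (g₁ : Spec (CommRingCat.of ↥A₁) ⟶ X₁), LocallyOfFinitePresentation f₁ ∧ QuasiCompact f₁ ∧ g₁ ≫ f₁ = 𝟙 _ ∧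
        IsPullback p f f₁ (Spec.map (CommRingCat.ofHom (algebraMap (↥A₁) A))) ∧
        g ≫ p = Spec.map (CommRingCat.ofHom (algebraMap (↥A₁) A)) ≫ g₁ ∧
        ∀ z, GeomIrredAt f₁ g₁ z ∧ FlatMor.fibreDimAt f₁ (g₁ z) = d := by
  obtain ⟨A₁, hA₁, X₁, f₁, p, g₁, h1, h2, hg₁, sq, hgp⟩ := exists_section_model f g hg
  haveI := h1
  haveI := h2
  haveI : Algebra.FiniteType ℤ A₁ := A₁.fg_iff_finiteType.mp hA₁
  haveI : IsNoetherianRing A₁ := Algebra.FiniteType.isNoetherianRing ℤ A₁
  let τ := Spec.map (CommRingCat.ofHom (algebraMap (↥A₁) A))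
  have hτ : ∀ s, GeomIrredAt f₁ g₁ (τ s) ∧ FlatMor.fibreDimAt f₁ (g₁ (τ s)) = d := fun s => by
    refine ⟨(geomIrredAt_baseChange_iff f₁ g₁ sq g hg₁ hg hgp s).mp (hgi s), ?_⟩
    rw [← hd s, Groth.L23.fibreDimAt_of_isPullback sq, ← Scheme.Hom.comp_apply g p, hgp]
    exact rfl
  choose O hO hOgood using fun s => exists_opens_good f₁ g₁ hg₁ (hτ s).1
  let S₁ : Scheme.{u} := Spec (CommRingCat.of ↥A₁)
  haveI : IsNoetherian S₁ := ⟨⟩
  let T : Spec (CommRingCat.of A) → Set S₁ := fun s => (O s : Set S₁) ∩ closure {τ s}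
  have hT : ∀ s, IsLocallyConstructible (T s) := fun s =>
    ((Groth.L06.Constr.isConstructible_of_isOpen (O s).isOpen).inter
      (Groth.L06.Constr.isConstructible_of_isClosed isClosed_closure)).isLocallyConstructible
  let D := Groth.L05.ModelFG.specDiagram A
  let c := Groth.L05.ModelFG.specCone A
  let i : (Groth.L05.ModelFG.FG A)ᵒᵖ := op ⟨A₁, hA₁⟩
  haveI : CompactSpace (D.obj i) := inferInstanceAs (CompactSpace S₁)
  obtain ⟨j, φ, hj⟩ := Groth.L19.Limit.exists_preimage_eq_empty (D := D) (Groth.L05.ModelFG.isLimitSpecCone A)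
    (i := i) (C := ⋂ s, (T s)ᶜ) (Groth.L19.Limit.CC.iInter fun s => Groth.L19.Limit.cc_compl_of_isLocallyConstructible (hT s))
    (Set.eq_empty_iff_forall_notMem.mpr fun s hs => (Set.mem_iInter.mp hs s) ⟨hO s, subset_closure rfl⟩)
  let A₂ := j.unop.1
  let ι : Spec (CommRingCat.of ↥A₂) ⟶ S₁ := D.map φ
  let π : Spec (CommRingCat.of A) ⟶ Spec (CommRingCat.of ↥A₂) :=
    Spec.map (CommRingCat.ofHom (algebraMap (↥A₂) A))
  have hπ : π ≫ ι = τ := c.w φ
  let g₂ : Spec (CommRingCat.of ↥A₂) ⟶ pullback f₁ ι :=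
    pullback.lift (ι ≫ g₁) (𝟙 _) (by rw [Category.assoc, hg₁, Category.comp_id, Category.id_comp])
  refine ⟨A₂, j.unop.2, pullback f₁ ι, pullback.snd f₁ ι,
    pullback.lift p (f ≫ π) (by rw [Category.assoc, hπ]; exact sq.w), g₂,
    MorphismProperty.pullback_snd _ _ h1, MorphismProperty.pullback_snd _ _ h2, pullback.lift_snd _ _ _, ?_, ?_,
    fun z => ?_⟩
  · exact IsPullback.of_right (by
      show IsPullback _ f f₁ (π ≫ ι)
      rw [pullback.lift_fst, hπ]
      exact sq) (pullback.lift_snd _ _ _) (IsPullback.of_hasPullback f₁ ι)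
  · apply pullback.hom_ext
    · show _ = (π ≫ g₂) ≫ _
      rw [Category.assoc, pullback.lift_fst, Category.assoc, pullback.lift_fst, ← Category.assoc, hπ]
      exact hgp
    · show _ = (π ≫ g₂) ≫ _
      rw [Category.assoc, pullback.lift_snd, Category.assoc, pullback.lift_snd, ← Category.assoc, hg,
        Category.id_comp, Category.comp_id]
  · obtain ⟨s, hs⟩ : ∃ s, ι z ∈ T s := by
      by_contra hne
      exact Set.eq_empty_iff_forall_notMem.mp hj z (Set.mem_iInter.mpr fun s hs => hne ⟨s, hs⟩)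
    obtain ⟨hgi', hd'⟩ := hOgood s (ι z) hs.1 (specializes_iff_mem_closure.mpr hs.2)
    refine ⟨(geomIrredAt_baseChange_iff f₁ g₁ (IsPullback.of_hasPullback f₁ ι) g₂ hg₁ (pullback.lift_snd _ _ _)
      (pullback.lift_fst _ _ _) z).mpr hgi', ?_⟩
    rw [Groth.L23.fibreDimAt_of_isPullback (IsPullback.of_hasPullback f₁ ι), ← Scheme.Hom.comp_apply,
      show g₂ ≫ pullback.fst f₁ ι = ι ≫ g₁ from pullback.lift_fst _ _ _, Scheme.Hom.comp_apply, hd', (hτ s).2]

end Groth.L07.SectionComp
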