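import Groth.Agent.L07.SectionCompConn
import Groth.Agent.L07.Spread.Conn
import Groth.Agent.L07.Spread.Base
import Groth.Agent.L04.SupportSh.Components

/-!
Section components near the generic point of an irreducible base (EGA IV 15.6.5).
-/

universe u

open CategoryTheory CategoryTheory.Limits AlgebraicGeometry

namespace Groth.L07.SectionComp

set_option autoImplicit false
set_option linter.style.haveILetI false
set_option maxSynthPendingDepth 3
set_option backward.isDefEq.respectTransparency.types false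
set_option backward.isDefEq.respectTransparency false

variable {X Y : Scheme.{u}} (f : X ⟶ Y) (g : Y ⟶ X)

/-- Over a nonempty open of an irreducible base the section components are an open and closed piece. -/
theorem exists_opens_sectionComponents_clopen [IrreducibleSpace Y] [LocallyOfFiniteType f] [QuasiCompact f]
    (hg : g ≫ f = 𝟙 Y) :
    ∃ V : Y.Opens, genericPoint Y ∈ V ∧ ∃ C R : Set X, IsClosed C ∧ IsClosed R ∧
      ∀ x, f x ∈ V → ((x ∈ MoreMor.sectionComponents f g ↔ x ∈ C) ∧ (x ∈ R ↔ x ∉ C)) := by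
  let ξ := genericPoint Y
  let ι := f.fiberι ξ
  haveI : IsLocallyNoetherian (f.fiber ξ) := by
    haveI : LocallyOfFiniteType (f.fiberToSpecResidueField ξ) := MorphismProperty.pullback_snd _ _ inferInstance
    exact LocallyOfFiniteType.isLocallyNoetherian (f.fiberToSpecResidueField ξ)
  obtain ⟨σ, hσ, hσg⟩ := exists_rational_point f g hg ξ
  let c := σ (IsLocalRing.closedPoint (Y.residueField ξ))
  have hCc : connectedComponentIn (f.base ⁻¹' {ξ}) (g.base ξ) = ι '' connectedComponent c :=
    comp_eq_image f g ξ c (hσg _)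
  let C : Set X := closure (ι '' connectedComponent c)
  let R : Set X := closure (ι '' (connectedComponent c)ᶜ)
  have hcl : ∀ S : Set (f.fiber ξ), IsClosed S → ι ⁻¹' closure (ι '' S) = S := fun S hS =>
    ((ι.isEmbedding.isInducing.closure_eq_preimage_closure_image S).symm).trans hS.closure_eq
  have hC := hcl (connectedComponent c) isClosed_connectedComponent
  have hR := hcl _ (Groth.L04.SupportSh.isOpen_connectedComponent c).isClosed_compl
  have hfib : ∀ x, f x = ξ → ∃ z, ι z = x := fun x hx => by
    have : x ∈ Set.range ι := by rw [f.range_fiberι]; exact hx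
    exact this
  -- covering
  obtain ⟨V₁, hξ₁, hV₁⟩ := Spread.exists_preimage_subset_of_generic f (C ∪ R) (isClosed_closure.union isClosed_closure)
    fun x hx => by
      obtain ⟨z, rfl⟩ := hfib x hx
      by_cases hz : z ∈ connectedComponent c
      · exact Or.inl (subset_closure ⟨z, hz, rfl⟩)
      · exact Or.inr (subset_closure ⟨z, hz, rfl⟩)
  -- disjointness
  obtain ⟨V₂, hξ₂, hV₂⟩ := Spread.exists_opens_disjoint_of_generic f (C ∩ R) (isClosed_closure.inter isClosed_closure)
    fun x hx hfx => by
      obtain ⟨z, rfl⟩ := hfib x hfx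
      exact (show z ∈ (connectedComponent c)ᶜ from hR ▸ hx.2) (show z ∈ connectedComponent c from hC ▸ hx.1)
  -- the section lands in the piece
  have hsec : ∀ y, g y ∈ C := fun y => by
    refine ((genericPoint_spec Y).specializes (Set.mem_univ y)).map g.continuous |>.mem_closed isClosed_closure ?_
    exact subset_closure ⟨c, mem_connectedComponent, hσg _⟩
  -- connectedness
  let I := Scheme.IdealSheafData.vanishingIdeal (X := X) ⟨C, isClosed_closure⟩
  have hr : Set.range I.subschemeι = C := by
    rw [Scheme.IdealSheafData.range_subschemeι, Scheme.IdealSheafData.coe_support_vanishingIdeal]; rfl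
  have hη : geometrically (fun Z => ConnectedSpace Z) ((I.subschemeι ≫ f).fiberToSpecResidueField ξ) := by
    rw [geometrically_iff_of_isClosedUnderIsomorphisms]
    intro K _ x
    let t := x ≫ Y.fromSpecResidueField ξ
    have ht : ∀ w, t w = ξ := fun w => by
      rw [Scheme.Hom.comp_apply]; exact Scheme.fromSpecResidueField_apply ξ _
    let g' : Spec (CommRingCat.of K) ⟶ pullback f t :=
      pullback.lift (t ≫ g) (𝟙 _) (by rw [Category.assoc, hg, Category.comp_id, Category.id_comp])
    let p := pullback.fst f t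
    let w : Spec (CommRingCat.of K) := IsLocalRing.closedPoint K
    have huniv : (pullback.snd f t).base ⁻¹' {w} = Set.univ :=
      Set.eq_univ_of_forall fun z => Subsingleton.elim (α := PrimeSpectrum K) _ _
    have hpre : p ⁻¹' C = connectedComponentIn ((pullback.snd f t).base ⁻¹' {w}) (g'.base w) := by
      rw [baseChange_comp f g (IsPullback.of_hasPullback f t) g' hg (pullback.lift_snd _ _ _)
        (pullback.lift_fst _ _ _) w, huniv, Set.inter_univ, ht, hCc]
      ext z
      show p z ∈ C ↔ p z ∈ ι '' connectedComponent c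
      refine ⟨fun hz => ?_, fun hz => subset_closure hz⟩
      obtain ⟨a, ha⟩ := hfib (p z) (by
        rw [← Scheme.Hom.comp_apply, pullback.condition, Scheme.Hom.comp_apply, ht])
      exact ⟨a, by rw [← hC, Set.mem_preimage, ha]; exact hz, ha⟩
    have hconn : _root_.IsConnected (Set.range (pullback.snd I.subschemeι p)) := by
      rw [Scheme.Pullback.range_snd, hr, hpre]
      exact ⟨⟨_, mem_connectedComponentIn (by rw [huniv]; trivial)⟩, isPreconnected_connectedComponentIn⟩
    haveI : ConnectedSpace (pullback I.subschemeι p : Scheme.{u}) :=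
      (pullback.snd I.subschemeι p).isEmbedding.toHomeomorph.connectedSpace_iff.mpr
        (isConnected_iff_connectedSpace.mp hconn)
    exact ((pullbackLeftPullbackSndIso (I.subschemeι ≫ f) (Y.fromSpecResidueField ξ) x) ≪≫
      (pullbackRightPullbackFstIso f t I.subschemeι).symm).hom.homeomorph.connectedSpace_iff.mpr inferInstance
  obtain ⟨V₃, ⟨η, hη₃⟩, hV₃⟩ := Spread.exists_geometrically_restrict (P := fun Z => ConnectedSpace Z)
    (I.subschemeι ≫ f) hη fun A _ _ X' h _ _ hgen => by
      let Ω := AlgebraicClosure (FractionRing A)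
      have hΩ : Function.Injective (algebraMap A Ω) := by
        rw [IsScalarTower.algebraMap_eq A (FractionRing A) Ω]
        exact (algebraMap (FractionRing A) Ω).injective.comp (IsFractionRing.injective A _)
      haveI : Algebra.IsAlgebraic A Ω :=
        (IsFractionRing.comap_isAlgebraic_iff (A := A) (K := FractionRing A) (C := Ω)).mpr inferInstance
      haveI := hgen Ω hΩ
      exact Spread.exists_forall_connectedSpace h Ω hΩ
  haveI : GeometricallyConnected ((I.subschemeι ≫ f) ∣_ V₃) := ⟨hV₃⟩
  have hξ₃ : ξ ∈ V₃ := ((genericPoint_spec Y).specializes (Set.mem_univ η)).mem_open V₃.isOpen hη₃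
  refine ⟨V₁ ⊓ V₂ ⊓ V₃, ⟨⟨hξ₁, hξ₂⟩, hξ₃⟩, C, R, isClosed_closure, isClosed_closure, fun x hx => ?_⟩
  obtain ⟨⟨hx₁, hx₂⟩, hx₃⟩ := hx
  have hnot : ∀ u, f u = f x → u ∈ C → u ∉ R := fun u hu hc hr' => hV₂ u ⟨hc, hr'⟩ (hu ▸ hx₂)
  have hor : ∀ u, f u = f x → u ∈ C ∨ u ∈ R := fun u hu => hV₁ u (hu ▸ hx₁)
  refine ⟨⟨fun hxS => ?_, fun hxC => ?_⟩, fun hr' hc => hnot x rfl hc hr', fun hc => (hor x rfl).resolve_left hc⟩
  · have hK : connectedComponentIn (f.base ⁻¹' {f x}) (g.base (f x)) ⊆ C := by
      intro u hu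
      rcases hor u (apply_of_mem f g hu) with h | h
      · exact h
      exfalso
      obtain ⟨v, hv, hvC, hvR⟩ := isPreconnected_closed_iff.mp
        (isPreconnected_connectedComponentIn (F := f.base ⁻¹' {f x}) (x := g.base (f x))) C R isClosed_closure
        isClosed_closure (fun v hv => hor v (apply_of_mem f g hv)) ⟨g (f x), mem_comp f g hg _, hsec _⟩ ⟨u, hu, h⟩
      exact hnot v (apply_of_mem f g hv) hvC hvR
    exact hK hxS
  · let j := ((I.subschemeι ≫ f) ⁻¹ᵁ V₃).ι ≫ I.subschemeι
    have himg : ∀ u, f u = f x → u ∈ C →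
        u ∈ j '' (((I.subschemeι ≫ f) ∣_ V₃) ⁻¹' {(⟨f x, hx₃⟩ : V₃)}) := by
      intro u hu huC
      obtain ⟨a, rfl⟩ : u ∈ Set.range I.subschemeι := hr ▸ huC
      refine ⟨⟨a, show (I.subschemeι ≫ f) a ∈ V₃ by rw [Scheme.Hom.comp_apply, hu]; exact hx₃⟩, ?_, rfl⟩
      refine Subtype.ext ?_
      refine (morphismRestrict_base_coe (I.subschemeι ≫ f) V₃ _).trans ?_
      show (I.subschemeι ≫ f) a = f x
      rw [Scheme.Hom.comp_apply]
      exact hu
    refine mem_of_preconnected f g (mem_comp f g hg (f x))
      (j '' (((I.subschemeι ≫ f) ∣_ V₃) ⁻¹' {(⟨f x, hx₃⟩ : V₃)}))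
      ((Scheme.Hom.isConnected_preimage_singleton ((I.subschemeι ≫ f) ∣_ V₃) _).isPreconnected.image _
        j.continuous.continuousOn)
      (himg _ (apply_section f g hg _) (hsec _)) ?_ (himg x rfl hxC)
    rintro _ ⟨a, ha, rfl⟩
    show f (j a) = f x
    have := (morphismRestrict_base_coe (I.subschemeι ≫ f) V₃ a).symm.trans
      (congrArg Subtype.val (ha : ((I.subschemeι ≫ f) ∣_ V₃) a = ⟨f x, hx₃⟩))
    exact this

/-- Over an open piece of the closure of a point the section components are open and closed. -/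
theorem exists_piece_clopen [LocallyOfFiniteType f] [QuasiCompact f] (hg : g ≫ f = 𝟙 Y) (y : Y) :
    ∃ O : Y.Opens, y ∈ O ∧ ∃ C R : Set X, IsClosed C ∧ IsClosed R ∧
      ∀ x, f x ∈ O → f x ∈ closure ({y} : Set Y) →
        ((x ∈ MoreMor.sectionComponents f g ↔ x ∈ C) ∧ (x ∈ R ↔ x ∉ C)) := by
  let I := Scheme.IdealSheafData.vanishingIdeal (X := Y) ⟨closure {y}, isClosed_closure⟩
  let i := I.subschemeι
  have hr : Set.range i = closure {y} := by
    rw [Scheme.IdealSheafData.range_subschemeι, Scheme.IdealSheafData.coe_support_vanishingIdeal]; rfl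
  haveI : IrreducibleSpace (I.subscheme : Scheme.{u}) := by
    have : IsIrreducible (Set.range i) := hr ▸ isIrreducible_singleton.closure
    haveI := Subtype.irreducibleSpace this
    exact i.isEmbedding.toHomeomorph.irreducibleSpace_iff.mpr inferInstance
  obtain ⟨y₀, hy₀⟩ : y ∈ Set.range i := hr ▸ subset_closure rfl
  have hgen : i (genericPoint I.subscheme) = y := by
    have h1 : i (genericPoint I.subscheme) ⤳ y :=
      hy₀ ▸ ((genericPoint_spec _).specializes (Set.mem_univ y₀)).map i.continuous
    have h2 : y ⤳ i (genericPoint I.subscheme) := specializes_iff_mem_closure.mpr (hr ▸ ⟨_, rfl⟩)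
    exact (h1.antisymm h2).eq
  let p := pullback.fst f i
  let g' : I.subscheme ⟶ pullback f i :=
    pullback.lift (i ≫ g) (𝟙 _) (by rw [Category.assoc, hg, Category.comp_id, Category.id_comp])
  obtain ⟨V, hV, C, R, hC, hR, hCR⟩ := exists_opens_sectionComponents_clopen (pullback.snd f i) g' (pullback.lift_snd _ _ _)
  have hsc := sectionComponents_baseChange f g (IsPullback.of_hasPullback f i) g' hg (pullback.lift_snd _ _ _)
    (pullback.lift_fst _ _ _)
  obtain ⟨O, hO, hOV⟩ := i.isEmbedding.isInducing.isOpen_iff.mp V.isOpen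
  refine ⟨⟨O, hO⟩, ?_, p '' C, p '' R, p.isClosedEmbedding.isClosedMap _ hC, p.isClosedEmbedding.isClosedMap _ hR,
    fun x hxO hxy => ?_⟩
  · show y ∈ O
    rw [← hgen]
    exact (Set.ext_iff.mp hOV _).mpr hV
  · obtain ⟨b, hb⟩ : f x ∈ Set.range i := hr ▸ hxy
    obtain ⟨z, hz, hzb⟩ := Scheme.Pullback.exists_preimage_pullback (f := f) (g := i) x b hb.symm
    have hzV : pullback.snd f i z ∈ V := by
      rw [hzb]; exact (Set.ext_iff.mp hOV b).mp (show i b ∈ O from hb ▸ hxO)
    subst hz
    have hinj := p.isClosedEmbedding.injective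
    rw [hinj.mem_set_image, hinj.mem_set_image]
    obtain ⟨h1, h2⟩ := hCR z hzV
    rw [hsc] at h1
    exact ⟨h1, h2⟩

end Groth.L07.SectionComp
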