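import Groth.Agent.L07.ModSep.Scheme
import Groth.Agent.L18.IdealModule
import Groth.Agent.L29.DCoh.PCQCoh
import Mathlib.RingTheory.Regular.RegularSequence

/-!
Conormal module of the zero locus of a regular section.
-/

universe u

open CategoryTheory CategoryTheory.Limits AlgebraicGeometry TopologicalSpace Opposite
open scoped TensorProduct

namespace Groth.L07.SectionConormal

set_option linter.style.haveILetI false
set_option maxSynthPendingDepth 3
set_option backward.isDefEq.respectTransparency.types false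
set_option backward.isDefEq.respectTransparency false

/-- Relations of a weakly regular sequence have coefficients in its ideal. -/
theorem coeff_mem_of_relation {A : Type u} [CommRing A] : ∀ {n : ℕ} (f : Fin n → A),
    RingTheory.Sequence.IsWeaklyRegular A (List.ofFn f) → ∀ a : Fin n → A, ∑ k, a k * f k = 0 →
      ∀ k, a k ∈ Ideal.span (Set.range f) := by
  intro n
  induction n with
  | zero => exact fun _ _ _ _ k => k.elim0
  | succ n ih =>
    intro f hf a ha
    rw [List.ofFn_succ', List.concat_eq_append, RingTheory.Sequence.isWeaklyRegular_append_iff] at hf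
    obtain ⟨hL, hx⟩ := hf
    rw [RingTheory.Sequence.isWeaklyRegular_singleton_iff] at hx
    let g : Fin n → A := fun k => f k.castSucc
    have hgI : Ideal.span (Set.range g) ≤ Ideal.span (Set.range f) :=
      Ideal.span_mono (by rintro _ ⟨k, rfl⟩; exact ⟨_, rfl⟩)
    have hofList : Ideal.ofList (List.ofFn g) = Ideal.span (Set.range g) := by
      unfold Ideal.ofList
      congr 1
      ext; simp [List.mem_ofFn]
    rw [Fin.sum_univ_castSucc] at ha
    have hlast : a (Fin.last n) ∈ Ideal.span (Set.range g) := by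
      have h1 := @hx (Submodule.Quotient.mk (a (Fin.last n))) 0 (by
        show f (Fin.last n) • (Submodule.Quotient.mk (a (Fin.last n))) = f (Fin.last n) • (0 : A ⧸ (Ideal.ofList (List.ofFn g) • ⊤ : Submodule A A))
        rw [smul_zero, ← Submodule.Quotient.mk_smul, Submodule.Quotient.mk_eq_zero]
        rw [smul_eq_mul, Ideal.mul_top, hofList, smul_eq_mul, mul_comm, eq_neg_of_add_eq_zero_right ha]
        exact neg_mem (Ideal.sum_mem _ fun k _ => Ideal.mul_mem_left _ _ (Ideal.subset_span ⟨k, rfl⟩)))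
      rw [Submodule.Quotient.mk_eq_zero, smul_eq_mul, Ideal.mul_top, hofList] at h1
      exact h1
    obtain ⟨c, hc⟩ := (Ideal.mem_span_range_iff_exists_fun).mp hlast
    have h2 := ih g hL (fun k => a k.castSucc + c k * f (Fin.last n)) (by
      rw [← hc, Finset.sum_mul] at ha
      rw [← ha, ← Finset.sum_add_distrib]
      exact Finset.sum_congr rfl fun k _ => by simp only [g]; ring)
    intro k
    induction k using Fin.lastCases with
    | last => exact hgI hlast
    | cast k =>
      have h3 := sub_mem (hgI (h2 k)) (Ideal.mul_mem_left (Ideal.span (Set.range f)) (c k)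
        (Ideal.subset_span ⟨Fin.last n, rfl⟩))
      rwa [add_sub_cancel_right] at h3

/-- Coefficients of an element of the square of the ideal lie in the ideal. -/
theorem coeff_mem_of_mem_sq {A : Type u} [CommRing A] {n : ℕ} (f : Fin n → A)
    (hf : RingTheory.Sequence.IsWeaklyRegular A (List.ofFn f)) (a : Fin n → A)
    (ha : ∑ k, a k * f k ∈ Ideal.span (Set.range f) * Ideal.span (Set.range f)) :
    ∀ k, a k ∈ Ideal.span (Set.range f) := by
  obtain ⟨b, hb, hab⟩ : ∃ b : Fin n → A, (∀ k, b k ∈ Ideal.span (Set.range f)) ∧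
      ∑ k, a k * f k = ∑ k, b k * f k := by
    refine Submodule.mul_induction_on ha (fun p hp q hq => ?_) fun x y ⟨b, hb, hx⟩ ⟨c, hc, hy⟩ => ?_
    · obtain ⟨c, hc⟩ := (Ideal.mem_span_range_iff_exists_fun).mp hq
      exact ⟨fun k => p * c k, fun k => Ideal.mul_mem_right _ _ hp, by
        rw [← hc, Finset.mul_sum]; exact Finset.sum_congr rfl fun k _ => (mul_assoc _ _ _).symm⟩
    · exact ⟨b + c, fun k => add_mem (hb k) (hc k), by
        rw [hx, hy, ← Finset.sum_add_distrib]; exact Finset.sum_congr rfl fun k _ => by simp [add_mul]⟩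
  have h0 : ∑ k, (a k - b k) * f k = 0 := by
    simp only [sub_mul, Finset.sum_sub_distrib, hab, sub_self]
  intro k
  simpa using add_mem (coeff_mem_of_relation f hf _ h0 k) (hb k)

variable {X Y : Scheme.{u}}

theorem mono_of_injective {M N : X.Modules} (φ : M ⟶ N) (h : ∀ V, Function.Injective (φ.app V)) : Mono φ := by
  refine ⟨fun {Z} a b hab => ?_⟩
  ext V z
  exact h V congr($(congrArg (fun ψ => Scheme.Modules.Hom.app ψ V) hab) z)

theorem isIso_pullback_map {n : ℕ} (E : X.Modules) [Coh.IsQCoh E] (s : E ⟶ Coh.structureModule X)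
    (hs : ∀ x : X, ∃ U : X.affineOpens, x ∈ U.1 ∧
      ∃ b : Module.Basis (Fin n) Γ(X, U.1) (E.val.obj (op U.1)),
        RingTheory.Sequence.IsWeaklyRegular Γ(X, U.1)
          (show List Γ(X, U.1) from List.ofFn fun k => (s.val.app (op U.1)).hom (b k)))
    (i : Y ⟶ X) [IsClosedImmersion i] (t : E ⟶ ClSub.idealMod i.ker) [Epi t]
    (hts : t ≫ ClSub.idealModι i.ker = s) :
    IsIso ((Scheme.Modules.pullback i).map t) := by
  let ψ := (Scheme.Modules.pullback i).map t
  haveI : Epi ψ := inferInstanceAs (Epi ((Scheme.Modules.pullback i).map t))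
  haveI : Coh.IsQCoh ((Scheme.Modules.pullback i).obj E) := Groth.L16.AffineBC.isQCoh_pullback i E
  haveI : Coh.IsQCoh ((Scheme.Modules.pullback i).obj (ClSub.idealMod i.ker)) :=
    Groth.L16.AffineBC.isQCoh_pullback i _
  have key : Groth.L07.ModSep.MSep (fun _ : PUnit.{u + 1} => ψ) := by
    haveI : ∀ _ : PUnit.{u + 1}, Coh.IsQCoh ((Scheme.Modules.pullback i).obj (ClSub.idealMod i.ker)) :=
      fun _ => inferInstance
    refine Groth.L07.ModSep.msep_of_affine _ fun y => ?_
    obtain ⟨⟨U, hU⟩, hyU, b, hreg⟩ := hs (i y)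
    have hV : IsAffineOpen (i ⁻¹ᵁ U) := hU.preimage i
    refine ⟨i ⁻¹ᵁ U, hV, hyU, fun h x hx => ?_⟩
    obtain ⟨m, hm⟩ := hx ⟨⟩
    refine ⟨m, ?_⟩
    rw [← map_smul] at hm
    generalize h ^ m • x = z at hm ⊢
    letI : Algebra Γ(X, U) Γ(Y, i ⁻¹ᵁ U) := (i.appLE U (i ⁻¹ᵁ U) le_rfl).hom.toAlgebra
    letI := Module.compHom Γ((Scheme.Modules.pullback i).obj E, i ⁻¹ᵁ U) (i.appLE U (i ⁻¹ᵁ U) le_rfl).hom
    letI := Module.compHom Γ((Scheme.Modules.pullback i).obj (ClSub.idealMod i.ker), i ⁻¹ᵁ U)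
      (i.appLE U (i ⁻¹ᵁ U) le_rfl).hom
    haveI : IsScalarTower Γ(X, U) Γ(Y, i ⁻¹ᵁ U) Γ((Scheme.Modules.pullback i).obj E, i ⁻¹ᵁ U) :=
      IsScalarTower.of_algebraMap_smul fun _ _ => rfl
    haveI : IsScalarTower Γ(X, U) Γ(Y, i ⁻¹ᵁ U) Γ((Scheme.Modules.pullback i).obj (ClSub.idealMod i.ker), i ⁻¹ᵁ U) :=
      IsScalarTower.of_algebraMap_smul fun _ _ => rfl
    have hbE := Groth.L16.AffineBC.isBaseChange_pull i E hU hV (le_refl (i ⁻¹ᵁ U))
    have hbI := Groth.L16.AffineBC.isBaseChange_pull i (ClSub.idealMod i.ker) hU hV (le_refl (i ⁻¹ᵁ U))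
    have hsurj : Function.Surjective (algebraMap Γ(X, U) Γ(Y, i ⁻¹ᵁ U)) := by
      have := i.app_surjective U hU
      rwa [Scheme.Hom.app_eq_appLE] at this
    have hker : RingHom.ker (algebraMap Γ(X, U) Γ(Y, i ⁻¹ᵁ U)) = i.ker.ideal ⟨U, hU⟩ := by
      rw [Scheme.Hom.ker_apply, Scheme.Hom.app_eq_appLE]
      rfl
    -- every section of the pullback comes from `E`
    obtain ⟨e, rfl⟩ : ∃ e, Groth.L16.AffineBC.pullRes i E (le_refl (i ⁻¹ᵁ U)) e = z := by
      obtain ⟨w, rfl⟩ := hbE.equiv.surjective z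
      obtain ⟨e, rfl⟩ : ∃ e, (1 : Γ(Y, i ⁻¹ᵁ U)) ⊗ₜ[Γ(X, U)] e = w := by
        clear hm
        induction w with
        | zero => exact ⟨0, TensorProduct.tmul_zero _ _⟩
        | tmul c e =>
          obtain ⟨c, rfl⟩ := hsurj c
          exact ⟨c • e, by rw [TensorProduct.tmul_smul, TensorProduct.smul_tmul', Algebra.smul_def, mul_one]⟩
        | add p q hp hq =>
          obtain ⟨p', rfl⟩ := hp
          obtain ⟨q', rfl⟩ := hq
          exact ⟨p' + q', TensorProduct.tmul_add _ _ _⟩
      exact ⟨e, by rw [IsBaseChange.equiv_tmul, one_smul]⟩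
    let τ := Groth.L07.ModSep.secLin t U
    let f : Fin n → Γ(X, U) := fun k => (s.val.app (op U)).hom (b k)
    let I := Ideal.span (Set.range f)
    have hsι : ∀ w, (ClSub.idealModι i.ker).app U (τ w) = s.app U w := fun w =>
      congr($(congrArg (fun ψ => Scheme.Modules.Hom.app ψ U) hts) w)
    have hsb : ∀ w, (show Γ(X, U) from s.app U w) = ∑ k, (b.repr w) k * f k := fun w => by
      conv_lhs => rw [← b.sum_repr w]
      exact (map_sum (s.val.app (op U)).hom _ _).trans
        (Finset.sum_congr rfl fun k _ => ((s.val.app (op U)).hom.map_smul _ _))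
    have hideal : i.ker.ideal ⟨U, hU⟩ = I := by
      ext a
      rw [Groth.L18.IdealModule.mem_ideal_iff i.ker hU]
      refine ⟨?_, fun ha => ?_⟩
      · rintro ⟨m, rfl⟩
        obtain ⟨w, rfl⟩ := Groth.L16.AffineBC.surjective_app_of_epi t hU m
        show (show Γ(X, U) from (ClSub.idealModι i.ker).app U (τ w)) ∈ I
        rw [hsι, hsb]
        exact Ideal.sum_mem _ fun k _ => Ideal.mul_mem_left _ _ (Ideal.subset_span ⟨k, rfl⟩)
      · obtain ⟨c, hc⟩ := (Ideal.mem_span_range_iff_exists_fun).mp ha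
        refine ⟨τ (∑ k, c k • b k), ?_⟩
        rw [hsι, hsb, b.repr_sum_self]
        exact hc
    -- the image of `e` dies in the conormal module
    have h1 : (1 : Γ(Y, i ⁻¹ᵁ U)) ⊗ₜ[Γ(X, U)] τ e = 0 := by
      apply hbI.equiv.injective
      rw [IsBaseChange.equiv_tmul, one_smul, map_zero]
      exact (Groth.L07.ModSep.pullRes_natural i t (le_refl (i ⁻¹ᵁ U)) e).symm.trans hm
    have h2 : τ e ∈ i.ker.ideal ⟨U, hU⟩ • (⊤ : Submodule Γ(X, U) Γ(ClSub.idealMod i.ker, U)) := by
      rw [← hker, ← Submodule.Quotient.mk_eq_zero]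
      let ea := (Ideal.quotientKerAlgEquivOfSurjective (f := Algebra.ofId Γ(X, U) Γ(Y, i ⁻¹ᵁ U)) hsurj).symm
      have h3 := congrArg ((TensorProduct.congr ea.toLinearEquiv
        (LinearEquiv.refl Γ(X, U) Γ(ClSub.idealMod i.ker, U))).trans
          (TensorProduct.quotTensorEquivQuotSMul Γ(ClSub.idealMod i.ker, U) _)) h1
      rw [map_zero, LinearEquiv.trans_apply, TensorProduct.congr_tmul, LinearEquiv.refl_apply,
        AlgEquiv.toLinearEquiv_apply, map_one] at h3
      erw [TensorProduct.quotTensorEquivQuotSMul_mk_tmul] at h3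
      rw [one_smul] at h3
      exact h3
    have h4 : (show Γ(X, U) from s.app U e) ∈ I * I := by
      rw [← hsι, ← hideal]
      refine Submodule.smul_induction_on (p := fun m => (show Γ(X, U) from (ClSub.idealModι i.ker).app U m) ∈ _)
        h2 (fun r hr m _ => ?_) fun m m' hm hm' => ?_
      · rw [Scheme.Modules.Hom.app_smul]
        exact Ideal.mul_mem_mul hr ((Groth.L18.IdealModule.mem_ideal_iff i.ker hU _).mpr ⟨m, rfl⟩)
      · rw [map_add]; exact add_mem hm hm'
    rw [hsb] at h4
    have h5 := coeff_mem_of_mem_sq f hreg _ h4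
    conv_lhs => rw [← b.sum_repr e, map_sum]
    refine Finset.sum_eq_zero fun k _ => ?_
    erw [map_smul]
    rw [← IsScalarTower.algebraMap_smul Γ(Y, i ⁻¹ᵁ U)]
    have h6 : algebraMap Γ(X, U) Γ(Y, i ⁻¹ᵁ U) (b.repr e k) = 0 := by
      rw [← RingHom.mem_ker, hker, hideal]; exact h5 k
    rw [h6, zero_smul]
  haveI : Mono ψ := mono_of_injective ψ fun V => (injective_iff_map_eq_zero _).mpr fun z hz => key V z fun _ => hz
  exact isIso_of_mono_of_epi ψ

end Groth.L07.SectionConormal
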