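import Groth.Agent.L27.AlgebraMisc
import Mathlib.RingTheory.Flat.Localization
import Mathlib.RingTheory.Localization.BaseChange
import Mathlib.RingTheory.Filtration
import Mathlib.RingTheory.AdicCompletion.Basic
import Mathlib.RingTheory.Ideal.AssociatedPrime.Finiteness
import Mathlib.RingTheory.Regular.IsSMulRegular
import Mathlib.LinearAlgebra.TensorProduct.Quotient

/-! Flatness from flatness modulo an ideal and at finitely many primes. -/

namespace Groth.L07.SepFlat

open TensorProduct

set_option linter.style.haveILetI false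

universe u

variable {A : Type u} [CommRing A] (M : Type u) [AddCommGroup M] [Module A M]

/-- Kernels of injections tensored with `M` are killed by elements of `T`. -/
def Killed (T : Set A) : Prop :=
  ∀ (X Y : Type u) [AddCommGroup X] [Module A X] [AddCommGroup Y] [Module A Y] (f : X →ₗ[A] Y),
    Function.Injective f → ∀ z, f.rTensor M z = 0 → ∃ t ∈ T, t • z = 0

/-- Elements outside all the primes of `S` kill the kernels if `M` is flat at `S`. -/
theorem killed_of_flat_localization (S : Finset (Ideal A)) (hprime : ∀ p ∈ S, p.IsPrime)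
    (hflat : ∀ (p : Ideal A) [p.IsPrime], p ∈ S →
      Module.Flat (Localization.AtPrime p) (LocalizedModule p.primeCompl M)) :
    Killed M {t | ∀ p ∈ S, t ∉ p} := by
  intro X Y _ _ _ _ f hf z hz
  classical
  have key : ∀ p ∈ S, ∃ s : A, s ∉ p ∧ s • z = 0 := by
    intro p hp
    haveI := hprime p hp
    haveI := hflat p hp
    haveI : Module.Flat A (LocalizedModule p.primeCompl M) :=
      Module.Flat.trans A (Localization.AtPrime p) _
    let g := LocalizedModule.mkLinearMap p.primeCompl M
    haveI : IsLocalizedModule p.primeCompl (AlgebraTensorModule.rTensor A X g) := inferInstance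
    have hcomm : ∀ w, f.lTensor M (TensorProduct.comm A X M w) =
        TensorProduct.comm A Y M (f.rTensor M w) := by
      intro w
      induction w using TensorProduct.induction_on with
      | zero => simp
      | tmul x m => simp
      | add a b ha hb => simp [ha, hb]
    have hswap : ∀ w, f.lTensor (LocalizedModule p.primeCompl M) (g.rTensor X w) =
        g.rTensor Y (f.lTensor M w) := fun w => by
      rw [← LinearMap.comp_apply, LinearMap.lTensor_comp_rTensor, ← LinearMap.rTensor_comp_lTensor]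
      rfl
    have h0 : g.rTensor X (TensorProduct.comm A X M z) = 0 := by
      refine Module.Flat.lTensor_preserves_injective_linearMap f hf ?_
      rw [hswap, hcomm, hz, map_zero, map_zero, map_zero]
    obtain ⟨⟨s, hs⟩, hsz⟩ :=
      (IsLocalizedModule.eq_zero_iff p.primeCompl (AlgebraTensorModule.rTensor A X g)).mp h0
    refine ⟨s, hs, (TensorProduct.comm A X M).injective ?_⟩
    rw [map_smul, map_zero]
    exact hsz
  by_contra hcon
  push Not at hcon
  have hsub : ((⊥ : Submodule A _).colon {z} : Set A) ⊆ ⋃ p ∈ (↑S : Set (Ideal A)), (p : Set A) := by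
    intro t ht
    by_contra ht'
    simp only [Set.mem_iUnion, not_exists] at ht'
    exact hcon t (fun p hp => ht' p hp) (by simpa [Submodule.mem_colon] using ht)
  obtain ⟨p, hp, hle⟩ := (Ideal.subset_union_prime ⊥ ⊥ fun p hp _ _ => hprime p hp).mp hsub
  obtain ⟨s, hs, hsz⟩ := key p hp
  exact hs (hle (by simpa [Submodule.mem_colon] using hsz))

variable {M}

/-- Compatibility of extension of scalars along `A → A'` with tensoring a map. -/
theorem cancelBaseChange_rTensor {A' : Type u} [CommRing A'] [Algebra A A'] {X Y : Type u}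
    [AddCommGroup X] [Module A X] [Module A' X] [IsScalarTower A A' X]
    [AddCommGroup Y] [Module A Y] [Module A' Y] [IsScalarTower A A' Y] (f : X →ₗ[A'] Y)
    (w : X ⊗[A'] (A' ⊗[A] M)) :
    AlgebraTensorModule.cancelBaseChange A A' A' Y M (f.rTensor (A' ⊗[A] M) w) =
      (f.restrictScalars A).rTensor M (AlgebraTensorModule.cancelBaseChange A A' A' X M w) := by
  induction w using TensorProduct.induction_on with
  | zero => simp
  | add a b ha hb => simp only [map_add, ha, hb]
  | tmul x y =>
    induction y using TensorProduct.induction_on with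
    | zero => simp
    | add a b ha hb => simp only [tmul_add, map_add, ha, hb]
    | tmul a m => simp

theorem Killed.baseChange {T : Set A} (h : Killed M T) (A' : Type u) [CommRing A'] [Algebra A A'] :
    Killed (A' ⊗[A] M) (algebraMap A A' '' T) := by
  intro X Y _ _ _ _ f hf z hz
  letI : Module A X := Module.compHom X (algebraMap A A')
  letI : Module A Y := Module.compHom Y (algebraMap A A')
  haveI : IsScalarTower A A' X := IsScalarTower.of_compHom A A' X
  haveI : IsScalarTower A A' Y := IsScalarTower.of_compHom A A' Y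
  obtain ⟨t, ht, htz⟩ := h X Y (f.restrictScalars A) hf
    (AlgebraTensorModule.cancelBaseChange A A' A' X M z)
    (by rw [← cancelBaseChange_rTensor, hz, map_zero])
  refine ⟨_, ⟨t, ht, rfl⟩, (AlgebraTensorModule.cancelBaseChange A A' A' X M).injective ?_⟩
  rw [map_smul, map_zero, algebraMap_smul, htz]

/-- Injections of modules killed by `I` stay injective after `⊗ M` if `M / IM` is flat. -/
theorem rTensor_injective_of_flat_mod (I : Ideal A) [Module.Flat (A ⧸ I) ((A ⧸ I) ⊗[A] M)]
    {X Y : Type u} [AddCommGroup X] [Module A X] [AddCommGroup Y] [Module A Y] (f : X →ₗ[A] Y)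
    (hX : ∀ a ∈ I, ∀ x : X, a • x = 0) (hY : ∀ a ∈ I, ∀ y : Y, a • y = 0)
    (hf : Function.Injective f) : Function.Injective (f.rTensor M) := by
  letI : Module (A ⧸ I) X := Module.IsTorsionBySet.module (fun x a => hX a a.2 x)
  letI : Module (A ⧸ I) Y := Module.IsTorsionBySet.module (fun y a => hY a a.2 y)
  haveI : IsScalarTower A (A ⧸ I) X := Module.IsTorsionBySet.isScalarTower _
  haveI : IsScalarTower A (A ⧸ I) Y := Module.IsTorsionBySet.isScalarTower _
  let f' : X →ₗ[A ⧸ I] Y := f.extendScalarsOfSurjective Ideal.Quotient.mk_surjective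
  have h1 := Module.Flat.rTensor_preserves_injective_linearMap
    (M := (A ⧸ I) ⊗[A] M) f' hf
  intro a b hab
  obtain ⟨a, rfl⟩ := (AlgebraTensorModule.cancelBaseChange A (A ⧸ I) (A ⧸ I) X M).surjective a
  obtain ⟨b, rfl⟩ := (AlgebraTensorModule.cancelBaseChange A (A ⧸ I) (A ⧸ I) X M).surjective b
  refine congrArg _ (h1 ((AlgebraTensorModule.cancelBaseChange A (A ⧸ I) (A ⧸ I) Y M).injective ?_))
  rw [cancelBaseChange_rTensor, cancelBaseChange_rTensor]
  exact hab

theorem rTensor_lsmul (X : Type u) [AddCommGroup X] [Module A X] (t : A) (w : X ⊗[A] M) :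
    (LinearMap.lsmul A X t).rTensor M w = t • w := by
  induction w using TensorProduct.induction_on with
  | zero => simp
  | tmul x m => simp [smul_tmul']
  | add a b ha hb => rw [map_add, ha, hb, smul_add]

/-- The core statement: a nilpotent filtration with `T`-torsion free quotients. -/
theorem flat_of_chain (I : ℕ → Ideal A) (hanti : Antitone I) (hmul : ∀ k, I 1 * I k ≤ I (k + 1))
    {N : ℕ} (hN : I N = ⊥) (T : Set A)
    (htors : ∀ t ∈ T, ∀ k, 1 ≤ k → ∀ a ∈ I k, t * a ∈ I (k + 1) → a ∈ I (k + 1))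
    (hker : Killed M T) [Module.Flat (A ⧸ I 1) ((A ⧸ I 1) ⊗[A] M)] : Module.Flat A M := by
  have hreg : ∀ j k, 1 ≤ k → N ≤ k + j → ∀ t ∈ T, ∀ z : ↥(I k) ⊗[A] M, t • z = 0 → z = 0 := by
    intro j
    induction j with
    | zero =>
      intro k _ hk t _ z _
      haveI : Subsingleton ↥(I k) :=
        Submodule.subsingleton_iff_eq_bot.mpr (le_bot_iff.mp (hN ▸ hanti (by simpa using hk)))
      exact Subsingleton.elim _ _
    | succ j ih =>
      intro k hk1 hk t ht z hz
      let ι : ↥(I (k + 1)) →ₗ[A] ↥(I k) := Submodule.inclusion (hanti k.le_succ)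
      have hex : Function.Exact ι ((LinearMap.range ι).mkQ) := LinearMap.exact_map_mkQ_range ι
      have hsurj := Submodule.mkQ_surjective (LinearMap.range ι)
      have hQ : ∀ a ∈ I 1, ∀ q : ↥(I k) ⧸ LinearMap.range ι, a • q = 0 := by
        intro a ha q
        obtain ⟨⟨x, hx⟩, rfl⟩ := (LinearMap.range ι).mkQ_surjective q
        rw [← map_smul, Submodule.mkQ_apply, Submodule.Quotient.mk_eq_zero]
        exact ⟨⟨a * x, hmul k (Ideal.mul_mem_mul ha hx)⟩, rfl⟩
      have hinj : Function.Injective (LinearMap.lsmul A (↥(I k) ⧸ LinearMap.range ι) t) := by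
        rw [injective_iff_map_eq_zero]
        intro q hq
        obtain ⟨⟨x, hx⟩, rfl⟩ := (LinearMap.range ι).mkQ_surjective q
        rw [LinearMap.lsmul_apply, ← map_smul, Submodule.mkQ_apply, Submodule.Quotient.mk_eq_zero] at hq
        obtain ⟨⟨y, hy⟩, hy'⟩ := hq
        rw [Submodule.mkQ_apply, Submodule.Quotient.mk_eq_zero]
        have hy'' : y = t * x := congrArg Subtype.val hy'
        exact ⟨⟨x, htors t ht k hk1 x hx (hy'' ▸ hy)⟩, rfl⟩
      have h1 : (LinearMap.range ι).mkQ.rTensor M z = 0 := by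
        apply rTensor_injective_of_flat_mod (I 1) _ hQ hQ hinj
        rw [map_zero, rTensor_lsmul, ← map_smul, hz, map_zero]
      obtain ⟨w, rfl⟩ := (rTensor_exact M hex hsurj z).mp h1
      obtain ⟨s, hs, hsw⟩ := hker _ _ ι (Submodule.inclusion_injective _) (t • w)
        (by rw [map_smul, hz])
      have h2 : t • w = 0 := ih (k + 1) (by omega) (by omega) s hs _ hsw
      rw [ih (k + 1) (by omega) (by omega) t ht w h2, map_zero]
  have hnil : IsNilpotent (I 1) := by
    have h : ∀ k, I 1 ^ (k + 1) ≤ I (k + 1) := by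
      intro k
      induction k with
      | zero => rw [pow_one]
      | succ k ih =>
        rw [pow_succ']
        exact (Ideal.mul_mono_right ih).trans (hmul _)
    exact ⟨N + 1, by rw [Ideal.zero_eq_bot, ← le_bot_iff, ← hN]; exact (h N).trans (hanti N.le_succ)⟩
  refine (Groth.L27.AlgebraMisc.flat_iff_of_nilpotent A (I 1) M hnil).mpr ⟨inferInstance, ?_⟩
  rw [injective_iff_map_eq_zero]
  intro z hz
  obtain ⟨t, ht, htz⟩ := hker _ _ _ Subtype.val_injective z hz
  exact hreg N 1 le_rfl (by omega) t ht z htz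

/-- Flatness passes to quotients by larger ideals. -/
theorem flat_tower (A₁ A₂ : Type u) [CommRing A₁] [CommRing A₂] [Algebra A A₁] [Algebra A A₂]
    [Algebra A₁ A₂] [IsScalarTower A A₁ A₂] [Module.Flat A₁ (A₁ ⊗[A] M)] :
    Module.Flat A₂ (A₂ ⊗[A] M) := by
  haveI : Module.Flat A₂ (A₂ ⊗[A₁] (A₁ ⊗[A] M)) := inferInstance
  exact Module.Flat.of_linearEquiv (AlgebraTensorModule.cancelBaseChange A A₁ A₂ A₂ M).symm

/-- The chain criterion modulo an ideal. -/
theorem flat_quotient_of_chain (J : Ideal A) [Module.Flat (A ⧸ J) ((A ⧸ J) ⊗[A] M)]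
    (I : ℕ → Ideal A) (hanti : Antitone I) (hmul : ∀ k, I 1 * I k ≤ I (k + 1)) (hJ : J ≤ I 1)
    (N : ℕ) (T : Set A)
    (htors : ∀ t ∈ T, ∀ k, 1 ≤ k → k < N → ∀ a ∈ I k, t * a ∈ I (k + 1) → a ∈ I (k + 1))
    (hker : Killed M T) : Module.Flat (A ⧸ I N) ((A ⧸ I N) ⊗[A] M) := by
  let π : A →+* A ⧸ I N := Ideal.Quotient.mk (I N)
  let I' : ℕ → Ideal (A ⧸ I N) := fun k => (I (min k N)).map π
  have hmem : ∀ k ≤ N, ∀ a, π a ∈ I' k ↔ a ∈ I k := by
    intro k hk a
    show π a ∈ (I (min k N)).map π ↔ _
    rw [min_eq_left hk, Ideal.mem_quotient_iff_mem (hanti hk)]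
  have hbot : I' N = ⊥ := by
    show (I (min N N)).map π = ⊥
    rw [min_self, Ideal.map_quotient_self]
  haveI : Module.Flat ((A ⧸ I N) ⧸ I' 1) (((A ⧸ I N) ⧸ I' 1) ⊗[A ⧸ I N] ((A ⧸ I N) ⊗[A] M)) := by
    let g : A ⧸ J →+* (A ⧸ I N) ⧸ I' 1 := Ideal.Quotient.lift J (algebraMap A _) fun a ha => by
      rw [IsScalarTower.algebraMap_apply A (A ⧸ I N), Ideal.Quotient.algebraMap_eq,
        Ideal.Quotient.eq_zero_iff_mem]
      exact Ideal.mem_map_of_mem _ (hanti (min_le_left 1 N) (hJ ha))
    letI := g.toAlgebra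
    haveI : IsScalarTower A (A ⧸ J) ((A ⧸ I N) ⧸ I' 1) :=
      IsScalarTower.of_algebraMap_eq fun r => rfl
    haveI : Module.Flat (A ⧸ J) ((A ⧸ J) ⊗[A] M) := inferInstance
    haveI := flat_tower (A := A) (M := M) (A ⧸ J) ((A ⧸ I N) ⧸ I' 1)
    exact Module.Flat.of_linearEquiv
      (AlgebraTensorModule.cancelBaseChange A (A ⧸ I N) ((A ⧸ I N) ⧸ I' 1) ((A ⧸ I N) ⧸ I' 1) M)
  refine flat_of_chain I' (fun a b hab => Ideal.map_mono (hanti (by omega))) (fun k => ?_) hbot
    (π '' T) ?_ (hker.baseChange (A ⧸ I N))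
  · rcases Nat.lt_or_ge k N with hk | hk
    · show (I (min 1 N)).map π * (I (min k N)).map π ≤ (I (min (k + 1) N)).map π
      rw [min_eq_left (show 1 ≤ N by omega), min_eq_left hk.le, min_eq_left (show k + 1 ≤ N by omega),
        ← Ideal.map_mul]
      exact Ideal.map_mono (hmul k)
    · refine Ideal.mul_le_right.trans (le_of_eq ?_)
      show (I (min k N)).map π = (I (min (k + 1) N)).map π
      rw [min_eq_right hk, min_eq_right (hk.trans k.le_succ)]
  · rintro _ ⟨t, ht, rfl⟩ k hk x hx htx
    obtain ⟨a, rfl⟩ := Ideal.Quotient.mk_surjective x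
    rcases Nat.lt_or_ge k N with hk' | hk'
    · rw [← map_mul, hmem _ hk'] at htx
      exact (hmem _ hk' a).mpr (htors t ht k hk hk' a ((hmem k hk'.le a).mp hx) htx)
    · have h1 : I' (k + 1) = I' k := by
        show (I (min (k + 1) N)).map π = (I (min k N)).map π
        rw [min_eq_right hk', min_eq_right (hk'.trans k.le_succ)]
      exact h1 ▸ hx

/-- An ideally separated module is flat if it is flat modulo small ideals. -/
theorem flat_of_ideallySeparated [IsNoetherianRing A] (J : Ideal A)
    (hsep : ∀ a : Ideal A, IsHausdorff J (↥a ⊗[A] M))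
    (h : ∀ n, ∃ L : Ideal A, L ≤ J ^ n ∧ Module.Flat (A ⧸ L) ((A ⧸ L) ⊗[A] M)) :
    Module.Flat A M := by
  rw [Module.Flat.iff_rTensor_injective']
  intro a
  rw [injective_iff_map_eq_zero]
  intro z hz
  refine (hsep a).haus' z fun n => ?_
  rw [SModEq.zero]
  obtain ⟨k, hk⟩ := J.exists_pow_inf_eq_pow_smul a
  obtain ⟨L, hL, hflat⟩ := h (n + k)
  let P : Submodule A ↥a := Submodule.comap a.subtype L
  let q : (↥a ⧸ P) →ₗ[A] A ⧸ L := Submodule.mapQ P L a.subtype le_rfl
  have hq : Function.Injective q := by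
    rw [← LinearMap.ker_eq_bot, Submodule.ker_mapQ, Submodule.mkQ_map_self]
  have h0 : P.mkQ.rTensor M z = 0 := by
    haveI := hflat
    apply rTensor_injective_of_flat_mod L q ?_ ?_ hq
    · rw [map_zero, ← LinearMap.comp_apply, ← LinearMap.rTensor_comp,
        show q ∘ₗ P.mkQ = L.mkQ ∘ₗ a.subtype from Submodule.mapQ_mkQ P L a.subtype,
        LinearMap.rTensor_comp, LinearMap.comp_apply, hz, map_zero]
    · intro r hr x
      obtain ⟨x, rfl⟩ := P.mkQ_surjective x
      rw [← map_smul, Submodule.mkQ_apply, Submodule.Quotient.mk_eq_zero]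
      exact L.mul_mem_right _ hr
    · intro r hr x
      obtain ⟨x, rfl⟩ := L.mkQ_surjective x
      rw [← map_smul, Submodule.mkQ_apply, Submodule.Quotient.mk_eq_zero]
      exact L.mul_mem_right _ hr
  obtain ⟨w, rfl⟩ := (rTensor_exact M (LinearMap.exact_subtype_mkQ P) P.mkQ_surjective z).mp h0
  clear hz h0
  induction w using TensorProduct.induction_on with
  | zero => simp
  | add x y hx hy => rw [map_add]; exact add_mem hx hy
  | tmul x m =>
    rw [LinearMap.rTensor_tmul, Submodule.subtype_apply]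
    have hx : ((x : ↥a) : A) ∈ J ^ n • a := by
      have h1 : ((x : ↥a) : A) ∈ J ^ (n + k) • (⊤ : Submodule A A) ⊓ a :=
        ⟨by rw [smul_eq_mul, Ideal.mul_top]; exact hL x.2, (x : ↥a).2⟩
      rw [hk (n + k) (Nat.le_add_left _ _), Nat.add_sub_cancel] at h1
      exact Submodule.smul_mono le_rfl inf_le_right h1
    obtain ⟨y, hy, hyx⟩ : ∃ y ∈ J ^ n • (⊤ : Submodule A ↥a), a.subtype y = ((x : ↥a) : A) := by
      rw [← Submodule.mem_map, Submodule.map_smul'', Submodule.map_subtype_top]; exact hx
    obtain rfl : y = (x : ↥a) := Subtype.ext hyx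
    have := Submodule.mem_map_of_mem (f := (TensorProduct.mk A (↥a) M).flip m) hy
    rw [Submodule.map_smul''] at this
    exact Submodule.smul_mono le_rfl le_top this

end Groth.L07.SepFlat
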