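import Groth.Agent.L07.SyntKoszul
import Groth.Agent.L07.OpenDim
import Groth.Agent.L07.CIBaseChange
import Groth.Agent.L01.Regular
import Groth.Agent.L06.FormSmoothIso
import Groth.Agent.L06.RegularSeqCodim
import Groth.Agent.L22.Cyc.Mult

/-! # Codimension of a smooth closed subscheme of a smooth scheme -/

set_option autoImplicit false
set_option linter.style.haveILetI false
set_option maxSynthPendingDepth 3
set_option backward.isDefEq.respectTransparency false
set_option backward.isDefEq.respectTransparency.types false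

universe u

open CategoryTheory CategoryTheory.Limits AlgebraicGeometry IsLocalRing

namespace Groth.L07.SmoothCodim

theorem exists_generators {A L Q : Type u} [CommRing A] [CommRing L] [CommRing Q] [IsLocalRing A]
    [IsLocalRing L] [IsLocalRing Q] [IsNoetherianRing L] [Algebra A L] [Algebra A Q] [Module.Flat A Q]
    [IsLocalHom (algebraMap A L)] [IsLocalHom (algebraMap A Q)]
    [IsRegularLocalRing (EGA4.FibRing A L)] [IsRegularLocalRing (EGA4.FibRing A Q)]
    (b : L →ₐ[A] Q) (hb : Function.Surjective b) (d : ℕ) (hd : ringKrullDim (EGA4.FibRing A L) = d) :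
    ∃ s : Finset L, s.card ≤ d ∧ RingHom.ker b.toRingHom = Ideal.span (s : Set L) := by
  classical
  let J := RingHom.ker b.toRingHom
  let μ : L →+* EGA4.FibRing A L := Ideal.Quotient.mk (EGA4.mB A L)
  have hmB : (EGA4.mB A L).map b.toRingHom = EGA4.mB A Q := by
    rw [EGA4.mB, EGA4.mB, Ideal.map_map]
    exact congrArg (fun φ => Ideal.map φ (maximalIdeal A)) b.comp_algebraMap
  let π : EGA4.FibRing A L →+* EGA4.FibRing A Q :=
    Ideal.quotientMap (EGA4.mB A Q) b.toRingHom (Ideal.map_le_iff_le_comap.mp hmB.le)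
  have hπ : Function.Surjective π := by
    intro y
    obtain ⟨y, rfl⟩ := Ideal.Quotient.mk_surjective y
    obtain ⟨x, rfl⟩ := hb y
    exact ⟨Ideal.Quotient.mk _ x, rfl⟩
  have hker : RingHom.ker π = J.map μ := by
    ext x
    obtain ⟨x, rfl⟩ := Ideal.Quotient.mk_surjective x
    rw [RingHom.mem_ker, show π (Ideal.Quotient.mk _ x) = Ideal.Quotient.mk _ (b x) from rfl,
      Ideal.Quotient.eq_zero_iff_mem, ← hmB]
    show x ∈ ((EGA4.mB A L).map b.toRingHom).comap b.toRingHom ↔ x ∈ (J.map μ).comap μ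
    rw [Ideal.comap_map_of_surjective b.toRingHom hb, Ideal.comap_map_of_surjective μ Ideal.Quotient.mk_surjective,
      ← RingHom.ker_eq_comap_bot, ← RingHom.ker_eq_comap_bot, Ideal.mk_ker, sup_comm]
  have hreg : IsRegularLocalRing (EGA4.FibRing A L ⧸ RingHom.ker π) :=
    IsRegularLocalRing.of_ringEquiv (RingHom.quotientKerEquivOfSurjective hπ).symm
  obtain ⟨l₁, l₂, hlen, -, hl⟩ := Groth.L01.exists_lists_of_regular_quotient d _ hd _ hreg
  have hlift : ∀ y ∈ l₁.toFinset, ∃ x ∈ J, μ x = y := fun y hy => by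
    have h : y ∈ J.map μ := by rw [← hker, hl]; exact Ideal.subset_span (List.mem_toFinset.mp hy)
    exact (Ideal.mem_map_iff_of_surjective μ Ideal.Quotient.mk_surjective).mp h
  choose! g hgJ hgμ using hlift
  let s : Finset L := l₁.toFinset.image g
  have hsJ : Ideal.span (s : Set L) ≤ J := Ideal.span_le.mpr fun x hx => by
    obtain ⟨y, hy, rfl⟩ := Finset.mem_image.mp (Finset.mem_coe.mp hx)
    exact hgJ y hy
  refine ⟨s, ?_, le_antisymm ?_ hsJ⟩
  · refine Finset.card_image_le.trans ((List.toFinset_card_le _).trans ?_)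
    simp only [List.length_append] at hlen
    omega
  have hgen : RingHom.ker π ≤ (Ideal.span (s : Set L)).map μ := by
    rw [hl]
    exact Ideal.span_le.mpr fun y hy => hgμ y (List.mem_toFinset.mpr hy) ▸
      Ideal.mem_map_of_mem μ (Ideal.subset_span (Finset.mem_image_of_mem g (List.mem_toFinset.mpr hy)))
  refine Submodule.le_of_le_smul_of_le_jacobson_bot (IsNoetherian.noetherian J)
    (IsLocalRing.maximalIdeal_le_jacobson ⊥) fun x hx => ?_
  have h1 : x ∈ Ideal.span (s : Set L) ⊔ EGA4.mB A L := by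
    have h : μ x ∈ (Ideal.span (s : Set L)).map μ := hgen (by rw [hker]; exact Ideal.mem_map_of_mem μ hx)
    rw [← Ideal.mem_comap, Ideal.comap_map_of_surjective μ Ideal.Quotient.mk_surjective,
      ← RingHom.ker_eq_comap_bot, Ideal.mk_ker] at h
    exact h
  obtain ⟨a, ha, c, hc, rfl⟩ := Submodule.mem_sup.mp h1
  refine Submodule.add_mem_sup ha ?_
  have hcJ : c ∈ J := (add_sub_cancel_left a c) ▸ J.sub_mem hx (hsJ ha)
  rw [smul_eq_mul]
  refine Ideal.mul_mono_left ?_ (Groth.L06.FormSmoothAdic.ker_inf_map_le b hb (maximalIdeal A) ⟨hcJ, hc⟩)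
  exact Ideal.map_le_iff_le_comap.mpr fun r hr => map_nonunit (algebraMap A L) r hr

/-- Some generization in `Y` of `y` has absolute codimension at most the relative codimension at `y`. -/
theorem exists_dim_le {X Y S : Scheme.{u}} [IsLocallyNoetherian X] (f : X ⟶ S) [Smooth f] (i : Y ⟶ X)
    [IsClosedImmersion i] [Smooth (i ≫ f)] (y : Y) :
    ∃ y' : Y, ringKrullDim (X.presheaf.stalk (i.base y')) ≤ ringKrullDim (CInt.fiberStalk f (i.base y)) := by
  let A := S.presheaf.stalk (f (i y))
  let L := X.presheaf.stalk (i y)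
  let Q := Y.presheaf.stalk y
  letI : Algebra A L := (f.stalkMap (i y)).hom.toAlgebra
  letI : Algebra A Q := ((i ≫ f).stalkMap y).hom.toAlgebra
  let b : L →ₐ[A] Q :=
    { (i.stalkMap y).hom with
      commutes' := fun r => by
        show i.stalkMap y (f.stalkMap (i y) r) = (i ≫ f).stalkMap y r
        rw [Scheme.Hom.stalkMap_comp]
        rfl }
  have hb : Function.Surjective b := i.stalkMap_surjective y
  haveI : Module.Flat A Q := Flat.stalkMap (i ≫ f) y
  haveI : IsLocalHom (algebraMap A L) := inferInstanceAs (IsLocalHom (f.stalkMap (i y)).hom)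
  haveI : IsLocalHom (algebraMap A Q) := inferInstanceAs (IsLocalHom ((i ≫ f).stalkMap y).hom)
  haveI : IsRegularLocalRing (EGA4.FibRing A L) := by
    haveI : Smooth (f.fiberToSpecResidueField (f (i y))) :=
      inferInstanceAs (Smooth (pullback.snd f (S.fromSpecResidueField (f (i y)))))
    haveI := @Groth.L07.SyntKoszul.isRegularLocalRing_of_smooth _ _ _ (f.fiberToSpecResidueField (f (i y))) ‹_›
      (f.asFiber (i y))
    obtain ⟨e⟩ := Groth.L07.CIScheme.exists_fiberStalkEquiv f (f (i y)) (f.asFiber (i y)) (i y) (f.fiberι_asFiber _)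
    exact IsRegularLocalRing.of_ringEquiv e.symm
  haveI : IsRegularLocalRing (EGA4.FibRing A Q) := by
    haveI : Smooth ((i ≫ f).fiberToSpecResidueField ((i ≫ f) y)) :=
      inferInstanceAs (Smooth (pullback.snd (i ≫ f) (S.fromSpecResidueField ((i ≫ f) y))))
    haveI := @Groth.L07.SyntKoszul.isRegularLocalRing_of_smooth _ _ _ ((i ≫ f).fiberToSpecResidueField ((i ≫ f) y))
      ‹_› ((i ≫ f).asFiber y)
    obtain ⟨e⟩ := Groth.L07.CIScheme.exists_fiberStalkEquiv (i ≫ f) ((i ≫ f) y) ((i ≫ f).asFiber y) y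
      ((i ≫ f).fiberι_asFiber _)
    exact IsRegularLocalRing.of_ringEquiv e.symm
  obtain ⟨d, hd⟩ := Groth.L01.exists_dim_eq_nat (R := EGA4.FibRing A L)
  obtain ⟨s, hs, hker⟩ := exists_generators b hb d hd
  have hne : Ideal.span (s : Set L) ≠ ⊤ := hker ▸ RingHom.ker_ne_top b.toRingHom
  obtain ⟨P, hP⟩ := Ideal.nonempty_minimalPrimes hne
  haveI := hP.isPrime
  let q : PrimeSpectrum L := ⟨P, hP.isPrime⟩
  have hq : q ∈ Set.range (PrimeSpectrum.comap b.toRingHom) := by
    rw [range_comap_of_surjective _ _ hb, PrimeSpectrum.mem_zeroLocus, hker]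
    exact hP.1.2
  obtain ⟨q', hq'⟩ := hq
  refine ⟨Y.fromSpecStalk y q', ?_⟩
  have e : i.base (Y.fromSpecStalk y q') = X.fromSpecStalk (i y) q :=
    (congrArg (fun m : Spec (Y.presheaf.stalk y) ⟶ X => m q')
      (Scheme.SpecMap_stalkMap_fromSpecStalk i (x := y))).symm.trans (congrArg (fun z => X.fromSpecStalk (i y) z) hq')
  rw [e, Groth.L06.RegularSeqCodim.dim_stalk_fromSpecStalk]
  have h1 : ringKrullDim (CInt.fiberStalk f (i.base y)) = d :=
    (Groth.L07.OpenDim.fibre_ringKrullDim f (i y)).trans hd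
  rw [h1]
  exact_mod_cast (Ideal.height_le_card_of_mem_minimalPrimes_span_finset hP).trans (Nat.cast_le.mpr hs)

end Groth.L07.SmoothCodim
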