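import Groth.Agent.L02.CAlg.QFSlice.FibreStalk
import Groth.Agent.L21.Smooth.Scheme
import Groth.Agent.L04.CMLoc
import Groth.Prelude.Def_CInt

/-!
Depth of the local rings of the source of a smooth morphism is at least the dimension of the fibre.
-/

set_option autoImplicit false
set_option linter.style.haveILetI false
set_option backward.isDefEq.respectTransparency.types false
universe u

open CategoryTheory CategoryTheory.Limits AlgebraicGeometry TopologicalSpace

namespace Groth.L07.SmoothFibreDepth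

theorem natCast_le_depth_stalk {X S : Scheme.{u}} (f : X ⟶ S) [Smooth f] (x : X) (n : ℕ)
    (hx : (n : WithBot ℕ∞) ≤ ringKrullDim ↑(CInt.fiberStalk f x)) :
    (n : ℕ∞) ≤ LocCoh.depth (X.presheaf.stalk x) (X.presheaf.stalk x) := by
  haveI : Smooth (f.fiberToSpecResidueField (f.base x)) :=
    MorphismProperty.pullback_snd f _ inferInstance
  haveI := @Groth.L21.Smooth.regular_stalk _ _ _ (f.fiberToSpecResidueField (f.base x)) this (f.asFiber x)
  haveI := Groth.L04.isCohenMacaulayLocalRing_of_regular ((f.fiber (f.base x)).presheaf.stalk (f.asFiber x))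
  have h2 : (n : ℕ∞) ≤ LocCoh.depth ((f.fiber (f.base x)).presheaf.stalk (f.asFiber x))
      ((f.fiber (f.base x)).presheaf.stalk (f.asFiber x)) := by
    rw [← WithBot.coe_le_coe, ← LocCoh.IsCohenMacaulayLocalRing.supportDim_eq_depth,
      Module.supportDim_self_eq_ringKrullDim]
    exact hx
  obtain ⟨e, hs, hlen, hmem, hreg, -⟩ := L02.CAlg.QFSlice.exists_fibre_regular f x n h2
  obtain ⟨U, hU, hxU, hs', -, hmap, hreg', -⟩ :=
    L02.CAlg.QFSlice.exists_slice f x (AlgebraicGeometry.Flat.stalkMap f x) hs hmem hreg ⊤ trivial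
  letI : Algebra Γ(X, U) (X.presheaf.stalk x) :=
    (X.presheaf.germ U x hxU).hom.toAlgebra
  haveI : IsLocalization.AtPrime (X.presheaf.stalk x) (hU.primeIdealOf ⟨x, hxU⟩).asIdeal :=
    hU.isLocalization_stalk ⟨x, hxU⟩
  haveI : Module.Flat Γ(X, U) (X.presheaf.stalk x) :=
    IsLocalization.flat _ (hU.primeIdealOf ⟨x, hxU⟩).asIdeal.primeCompl
  have hr := RingTheory.Sequence.IsWeaklyRegular.of_flat (S := X.presheaf.stalk x) hreg'
  rw [RingHom.algebraMap_toAlgebra, hmap] at hr
  have hne : IsLocalRing.maximalIdeal (X.presheaf.stalk x) •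
      (⊤ : Submodule (X.presheaf.stalk x) (X.presheaf.stalk x)) ≠ ⊤ := by
    rw [smul_eq_mul, Ideal.mul_top]
    exact (IsLocalRing.maximalIdeal.isMaximal _).ne_top
  refine le_trans ?_ (show (hs.length : ℕ∞) ≤ _ from ?_)
  · exact_mod_cast hlen
  · rw [LocCoh.depth, LocCoh.idealDepth, if_neg hne]
    exact le_iSup₂_of_le hs ⟨hr, hmem⟩ le_rfl

end Groth.L07.SmoothFibreDepth
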