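import Groth.Agent.L07.RedBase
import Mathlib.RingTheory.Smooth.Fiber
import Mathlib.RingTheory.Smooth.StandardSmoothOfFree
import Groth.Agent.L03.GeomReduced

/-!
Smoothness at the generic points of fibres with geometrically reduced local rings.
-/

universe u

open TensorProduct

namespace Groth.L07.FlatGeomReduced

set_option autoImplicit false
set_option linter.style.haveILetI false
set_option maxSynthPendingDepth 3
set_option synthInstance.maxHeartbeats 400000

variable {R C : Type u} [CommRing R] [CommRing C] [Algebra R C]

/-- Smoothness at the generic point of a fibre with geometrically reduced local ring. -/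
theorem isSmoothAt_of_geomRedAt_generic [Algebra.FinitePresentation R C] (q : Ideal C) [q.IsPrime]
    [Module.Flat R (Localization.AtPrime q)] (hred : GeomRedAt R q)
    (hmin : ∀ q' : Ideal C, q'.IsPrime → q' ≤ q → q'.comap (algebraMap R C) = q.comap (algebraMap R C) → q' = q) :
    Algebra.IsSmoothAt R q := by
  let p := q.comap (algebraMap R C)
  haveI : q.LiesOver p := ⟨rfl⟩
  let Rp := Localization.AtPrime p
  let Sp := Localization (Algebra.algebraMapSubmonoid C p.primeCompl)
  let Sq := Localization.AtPrime q
  letI := Localization.AtPrime.algebraOfLiesOver p q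
  let f : Sp →ₐ[C] Sq := IsLocalization.liftAlgHom (M := Algebra.algebraMapSubmonoid C p.primeCompl)
        (f := Algebra.ofId _ _) (by
      rintro ⟨_, x, hx, rfl⟩
      exact IsLocalization.map_units (M := q.primeCompl) Sq ⟨algebraMap _ _ x, hx⟩)
  algebraize [f.toRingHom]
  haveI : IsScalarTower R Sp Sq := .to₁₃₄ _ C _ _
  haveI : IsScalarTower Rp Sp Sq := .of_algebraMap_eq' <| by
    apply IsLocalization.ringHom_ext p.primeCompl
    simp only [RingHom.comp_assoc, ← IsScalarTower.algebraMap_eq]
  haveI : IsLocalization (Algebra.algebraMapSubmonoid Sp q.primeCompl) Sq :=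
    .isLocalization_of_submonoid_le _ _ (Algebra.algebraMapSubmonoid C p.primeCompl) _
    (by rintro _ ⟨x, hx, rfl⟩; exact hx)
  haveI : Algebra.FinitePresentation Rp Sp := by
    have : Algebra.IsPushout R Rp C Sp :=
      .symm <| Algebra.isPushout_of_isLocalization p.primeCompl _ _ _
    exact .equiv (Algebra.IsPushout.equiv R Rp C Sp)
  haveI : Module.Flat Rp Sq :=
    (Module.flat_iff_of_isLocalization Rp p.primeCompl Sq).mpr inferInstance
  haveI : IsLocalHom (algebraMap Rp Sq) := inferInstance
  let k := IsLocalRing.ResidueField Rp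
  let T := k ⊗[Rp] Sq
  let K := AlgebraicClosure k
  haveI : Algebra.IsGeometricallyReduced k T := by
    haveI : _root_.IsReduced (Sq ⊗[R] K) := isReduced_algClosure q hred p rfl
    haveI : _root_.IsReduced (K ⊗[R] Sq) := isReduced_of_injective (Algebra.TensorProduct.comm R K Sq)
      (Algebra.TensorProduct.comm R K Sq).injective
    haveI : IsScalarTower R Rp K := IsScalarTower.of_algebraMap_eq fun r => rfl
    let e := Algebra.TensorProduct.equivOfCompatibleSMul R Rp R K Sq
    haveI : _root_.IsReduced (K ⊗[Rp] Sq) := isReduced_of_injective e e.injective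
    rw [Algebra.isGeometricallyReduced_field_iff]
    exact isReduced_of_injective (Algebra.TensorProduct.cancelBaseChange Rp k K K Sq)
      (Algebra.TensorProduct.cancelBaseChange Rp k K K Sq).injective
  haveI : _root_.IsReduced T := Algebra.isReduced_of_isGeometricallyReduced k
  let ρ : Sq →+* T := (Algebra.TensorProduct.includeRight : Sq →ₐ[Rp] T).toRingHom
  have hρ : Function.Surjective ρ := includeRight_quot_surjective (R := Rp) (C := Sq) (IsLocalRing.maximalIdeal Rp)
  have hprime : ∀ P : Ideal T, P.IsPrime → P.comap ρ = IsLocalRing.maximalIdeal Sq := fun P hP => by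
    haveI := hP
    have h1 : (P.comap ρ).comap (algebraMap C Sq) ≤ q := fun c hc => by
      by_contra hn
      exact (Ideal.IsPrime.comap ρ (K := P)).ne_top
        (Ideal.eq_top_of_isUnit_mem _ hc (IsLocalization.map_units Sq (⟨c, hn⟩ : q.primeCompl)))
    have h2 : ((P.comap ρ).comap (algebraMap C Sq)).comap (algebraMap R C) = p := by
      refine le_antisymm (Ideal.comap_mono h1) fun r hr => ?_
      show ρ (algebraMap C Sq (algebraMap R C r)) ∈ P
      rw [← IsScalarTower.algebraMap_apply R C Sq, IsScalarTower.algebraMap_apply R Rp Sq]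
      have h0 : ρ (algebraMap Rp Sq (algebraMap R Rp r)) = 0 := by
        rw [show ρ (algebraMap Rp Sq (algebraMap R Rp r)) = algebraMap Rp T (algebraMap R Rp r) from
          (Algebra.TensorProduct.includeRight : Sq →ₐ[Rp] T).commutes _, IsScalarTower.algebraMap_apply Rp k T,
          show algebraMap Rp k (algebraMap R Rp r) = 0 from (IsLocalRing.residue_eq_zero_iff _).mpr
            ((IsLocalization.AtPrime.to_map_mem_maximal_iff Rp p r).mpr hr), map_zero]
      rw [h0]
      exact zero_mem _
    have h3 := hmin _ inferInstance h1 h2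
    rw [← IsLocalization.map_comap q.primeCompl Sq (P.comap ρ), ← Localization.AtPrime.map_eq_maximalIdeal]
    exact congrArg _ h3
  haveI : Nontrivial T := by
    haveI : Module.FaithfullyFlat Rp Sq := Module.FaithfullyFlat.of_flat_of_isLocalHom
    exact inferInstance
  have hfield : IsField T := by
    refine ⟨exists_pair_ne T, mul_comm, fun {a} ha => ?_⟩
    by_contra hcon
    refine ha (IsNilpotent.eq_zero (nilpotent_iff_mem_prime.mpr fun P hP => ?_))
    obtain ⟨s, rfl⟩ := hρ a
    show s ∈ P.comap ρ
    rw [hprime P hP, IsLocalRing.mem_maximalIdeal]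
    intro hu
    exact hcon ⟨_, (hu.map ρ).unit.mul_inv⟩
  haveI : Algebra.FormallySmooth k T := by
    letI := hfield.toField
    exact (Groth.L03.GeomReduced.formallySmooth_iff k T).2 inferInstance
  haveI := Algebra.FormallySmooth.of_formallySmooth_residueField_tensor
    (R := Rp) (S := Sq) (P := Sp) (Algebra.algebraMapSubmonoid _ q.primeCompl)
  exact .comp R Rp Sq

end Groth.L07.FlatGeomReduced
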