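import Groth.Agent.L12.RegLift
import Groth.Agent.L11.IntTh.CokerDet
import Mathlib.RingTheory.KrullDimension.NonZeroDivisors
import Mathlib.RingTheory.Ideal.MinimalPrime.Noetherian
import Mathlib.RingTheory.Regular.RegularSequence

/-!
Lifting a system of parameters of a Cohen–Macaulay localization.
-/

set_option autoImplicit false
set_option linter.style.haveILetI false
universe u

open IsLocalRing RingTheory.Sequence
open scoped nonZeroDivisors

namespace Groth.L07.SopLift

set_option backward.isDefEq.respectTransparency false in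
/-- An element outside every minimal prime drops the dimension. -/
theorem dim_quotient_succ_le {R : Type u} [CommRing R] {r : R} (hr : ∀ P ∈ minimalPrimes R, r ∉ P) :
    ringKrullDim (R ⧸ Ideal.span {r}) + 1 ≤ ringKrullDim R := by
  by_cases hr' : Ideal.span {r} = ⊤
  · rw [hr', ringKrullDim_eq_bot_of_subsingleton]
    simp
  have : Nonempty (PrimeSpectrum.zeroLocus (R := R) (Ideal.span {r})) := by
    rwa [Set.nonempty_coe_sort, Set.nonempty_iff_ne_empty, ne_eq,
      PrimeSpectrum.zeroLocus_empty_iff_eq_top]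
  have := Ideal.Quotient.nontrivial_iff.mpr hr'
  have := (Ideal.Quotient.mk (Ideal.span {r})).domain_nontrivial
  rw [ringKrullDim_quotient, Order.krullDim_eq_iSup_length, ringKrullDim,
    Order.krullDim_eq_iSup_length, ← WithBot.coe_one, ← WithBot.coe_add,
    ENat.iSup_add, WithBot.coe_le_coe, iSup_le_iff]
  intro l
  obtain ⟨p, hp, hp'⟩ := Ideal.exists_minimalPrimes_le (J := l.head.1.asIdeal) bot_le
  let p' : PrimeSpectrum R := ⟨p, hp.1.1⟩
  have hp' : p' < l.head := lt_of_le_of_ne hp' fun h ↦ hr p hp (show r ∈ p by simpa [← h] using l.head.2)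
  refine le_trans ?_ (le_iSup _ ((l.map Subtype.val (fun _ _ ↦ id)).cons p' hp'))
  simp

/-- The dimension drop, for a quotient. -/
theorem dim_quotient_sup_succ_le {R : Type u} [CommRing R] (I : Ideal R) {r : R}
    (hr : ∀ P ∈ I.minimalPrimes, r ∉ P) :
    ringKrullDim (R ⧸ (I ⊔ Ideal.span {r})) + 1 ≤ ringKrullDim (R ⧸ I) := by
  have e := DoubleQuot.quotQuotEquivQuotSup I (Ideal.span {r})
  rw [← ringKrullDim_eq_of_ringEquiv e, Ideal.map_span, Set.image_singleton]
  refine dim_quotient_succ_le fun P hP hmem => hr (P.comap (Ideal.Quotient.mk I)) ?_ hmem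
  haveI := hP.1.1
  refine ⟨⟨Ideal.IsPrime.comap _, fun a ha => ?_⟩, fun Q hQ hle => ?_⟩
  · rw [Ideal.mem_comap, Ideal.Quotient.eq_zero_iff_mem.mpr ha]; exact zero_mem _
  · haveI := hQ.1
    haveI : (Q.map (Ideal.Quotient.mk I)).IsPrime :=
      Ideal.map_isPrime_of_surjective Ideal.Quotient.mk_surjective (by rw [Ideal.mk_ker]; exact hQ.2)
    have hle' : Q.map (Ideal.Quotient.mk I) ≤ P := Ideal.map_le_iff_le_comap.mpr hle
    refine (Ideal.comap_mono (hP.2 ⟨inferInstance, bot_le⟩ hle')).trans ?_
    rw [Ideal.comap_map_of_surjective _ Ideal.Quotient.mk_surjective, ← RingHom.ker_eq_comap_bot, Ideal.mk_ker,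
      sup_eq_left.mpr hQ.2]

variable {A : Type u} [CommRing A] [IsNoetherianRing A] (p : Ideal A) [p.IsPrime]

/-- A prime containing a contracted ideal and minimal over a smaller one generating the same ideal. -/
theorem le_of_minimal (J : Ideal (Localization.AtPrime p)) (hJ : J ≠ ⊤) (I : Ideal A)
    (hI : I ≤ J.comap (algebraMap A (Localization.AtPrime p))) (P : Ideal A) (hP : P ∈ I.minimalPrimes)
    (hJP : J.comap (algebraMap A (Localization.AtPrime p)) ≤ P) : P ≤ p := by
  haveI := hP.1.1
  obtain ⟨Q, hQ, hQP⟩ := Ideal.exists_minimalPrimes_le hJP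
  have hPQ : P ≤ Q := hP.2 ⟨hQ.1.1, hI.trans hQ.1.2⟩ hQP
  refine hPQ.trans fun a ha => ?_
  by_contra hap
  obtain ⟨b, hb, hab⟩ := Ideal.exists_mul_mem_of_mem_minimalPrimes hQ ha
  rw [Ideal.mem_comap, map_mul] at hab
  exact hb ((Ideal.mul_unit_mem_iff_mem J (IsLocalization.map_units (Localization.AtPrime p) (⟨a, hap⟩ : p.primeCompl))).mp
    (mul_comm (algebraMap A (Localization.AtPrime p) a) _ ▸ hab))

variable [IsLocalRing A] [LocCoh.IsCohenMacaulayLocalRing (Localization.AtPrime p)] {s : ℕ}

/-- The ideal of the first `k` parameters. -/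
noncomputable abbrev firstIdeal (t : Fin s → Localization.AtPrime p) (k : ℕ) : Ideal (Localization.AtPrime p) :=
  Ideal.span (t '' {j : Fin s | (j : ℕ) < k})

omit [IsNoetherianRing A] [IsLocalRing A] [LocCoh.IsCohenMacaulayLocalRing (Localization.AtPrime p)] in
theorem map_span_eq (t : Fin s → Localization.AtPrime p) {k : ℕ} (hk : k ≤ s) (x a : Fin k → A)
    (ha : ∀ i, a i ∉ p)
    (hcong : ∀ i : Fin k, algebraMap A (Localization.AtPrime p) (x i) -
      algebraMap A (Localization.AtPrime p) (a i) * t (Fin.castLE hk i) ∈ firstIdeal p t i) :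
    (Ideal.span (Set.range x)).map (algebraMap A (Localization.AtPrime p)) = firstIdeal p t k := by
  have hmono : ∀ i j : ℕ, i ≤ j → firstIdeal p t i ≤ firstIdeal p t j := fun i j hij =>
    Ideal.span_mono (Set.image_mono fun z hz => lt_of_lt_of_le hz hij)
  rw [Ideal.map_span]
  refine le_antisymm (Ideal.span_le.mpr ?_) (Ideal.span_le.mpr ?_)
  · rintro _ ⟨_, ⟨i, rfl⟩, rfl⟩
    have h1 : algebraMap A (Localization.AtPrime p) (a i) * t (Fin.castLE hk i) ∈ firstIdeal p t k :=
      Ideal.mul_mem_left _ _ (Ideal.subset_span ⟨_, i.2, rfl⟩)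
    simpa using add_mem (hmono i k i.2.le (hcong i)) h1
  · suffices H : ∀ m : ℕ, ∀ j : Fin s, (j : ℕ) < m → (j : ℕ) < k →
        t j ∈ Ideal.span (algebraMap A (Localization.AtPrime p) '' Set.range x) by
      rintro _ ⟨j, hj, rfl⟩
      exact H _ j (Nat.lt_succ_self _) hj
    intro m
    induction m with
    | zero => exact fun j hj => absurd hj (Nat.not_lt_zero _)
    | succ m ih =>
      intro j hjm hjk
      let i : Fin k := ⟨j, hjk⟩
      have hij : Fin.castLE hk i = j := rfl
      have h1 : firstIdeal p t i ≤ Ideal.span (algebraMap A (Localization.AtPrime p) '' Set.range x) :=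
        Ideal.span_le.mpr (by
          rintro _ ⟨j', hj', rfl⟩
          have hj'' : (j' : ℕ) < j := hj'
          exact ih j' (by omega) (by omega))
      have h2 := sub_mem (Ideal.subset_span ⟨x i, ⟨i, rfl⟩, rfl⟩ :
        algebraMap A (Localization.AtPrime p) (x i) ∈ Ideal.span (algebraMap A (Localization.AtPrime p) '' Set.range x))
        (h1 (hcong i))
      rw [sub_sub_cancel, hij] at h2
      exact (Ideal.unit_mul_mem_iff_mem _ (IsLocalization.map_units (Localization.AtPrime p) (⟨a i, ha i⟩ : p.primeCompl))).mp h2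

theorem exists_lift (hs : ringKrullDim (Localization.AtPrime p) = s) (t : Fin s → Localization.AtPrime p)
    (ht : ∀ i, t i ∈ maximalIdeal (Localization.AtPrime p))
    (hsop : ringKrullDim (Localization.AtPrime p ⧸ Ideal.span (Set.range t)) = 0) :
    ∃ x a : Fin s → A, (∀ i, x i ∈ p) ∧ (∀ i, a i ∉ p) ∧
      ringKrullDim (A ⧸ Ideal.span (Set.range x)) + (s : WithBot ℕ∞) = ringKrullDim A ∧
      ∀ i : Fin s, algebraMap A (Localization.AtPrime p) (x i) -
          algebraMap A (Localization.AtPrime p) (a i) * t i ∈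
        Ideal.span (t '' {j : Fin s | j < i}) := by
  classical
  have hreg : IsWeaklyRegular (Localization.AtPrime p) (List.ofFn t) := by
    refine Groth.L12.RegLift.isWeaklyRegular_of_dim _ (fun y hy => ?_) ?_
    · obtain ⟨i, rfl⟩ := (List.mem_ofFn' t y).mp hy
      exact ht i
    · rw [show Ideal.ofList (List.ofFn t) = Ideal.span (Set.range t) by
        simp only [Ideal.ofList, List.mem_ofFn']; rfl, hsop, hs, List.length_ofFn, zero_add]
  -- a parameter lies in no minimal prime of the ideal of the previous ones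
  have hnot : ∀ (k : Fin s), ∀ P ∈ (firstIdeal p t k).minimalPrimes, t k ∉ P := by
    intro k P hP
    have h1 := hreg.regular_mod_prev k (by simp [k.2])
    rw [List.getElem_ofFn] at h1
    have hk : Ideal.ofList ((List.ofFn t).take k) = firstIdeal p t k := by
      refine congrArg Ideal.span (Set.ext fun y => ?_)
      simp only [Set.mem_image, Set.mem_setOf_eq, List.mem_take_iff_getElem, List.getElem_ofFn, List.length_ofFn]
      exact ⟨fun ⟨i, hi, e⟩ => ⟨⟨i, lt_of_lt_of_le hi (min_le_right _ _)⟩, lt_of_lt_of_le hi (min_le_left _ _), e⟩,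
        fun ⟨i, hi, e⟩ => ⟨i, lt_min hi i.2, e⟩⟩
    refine h1.notMem_of_mem_minimalPrimes ?_
    rw [smul_eq_mul, Ideal.mul_top, Ideal.annihilator_quotient, hk]
    exact hP
  have hne : ∀ k : ℕ, firstIdeal p t k ≠ ⊤ := fun k =>
    ne_top_of_le_ne_top (maximalIdeal.isMaximal (Localization.AtPrime p)).ne_top
      (Ideal.span_le.mpr fun y ⟨i, _, e⟩ => e ▸ ht i)
  have key : ∀ k : ℕ, ∀ hk : k ≤ s, ∃ x a : Fin k → A, (∀ i, x i ∈ p) ∧ (∀ i, a i ∉ p) ∧
      (∀ i : Fin k, algebraMap A (Localization.AtPrime p) (x i) -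
        algebraMap A (Localization.AtPrime p) (a i) * t (Fin.castLE hk i) ∈ firstIdeal p t i) ∧
      ringKrullDim (A ⧸ Ideal.span (Set.range x)) + (k : WithBot ℕ∞) ≤ ringKrullDim A := by
    intro k
    induction k with
    | zero =>
      intro hk
      exact ⟨Fin.elim0, Fin.elim0, fun i => i.elim0, fun i => i.elim0, fun i => i.elim0, by
        simpa using ringKrullDim_quotient_le _⟩
    | succ k ih =>
      intro hk
      obtain ⟨x, a, hx, ha, hcong, hdim⟩ := ih (Nat.le_of_succ_le hk)
      let I := Ideal.span (Set.range x)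
      let k' : Fin s := ⟨k, hk⟩
      have hmap : I.map (algebraMap A (Localization.AtPrime p)) = firstIdeal p t k :=
        map_span_eq p t (Nat.le_of_succ_le hk) x a ha hcong
      obtain ⟨⟨y, c, hc⟩, hyc⟩ := IsLocalization.surj p.primeCompl (t k')
      have hyc' : algebraMap A (Localization.AtPrime p) c * t k' = algebraMap A _ y := by rw [mul_comm]; exact hyc
      have hyp : y ∈ p := by
        refine (IsLocalization.AtPrime.to_map_mem_maximal_iff (Localization.AtPrime p) p y).mp ?_
        rw [← hyc']
        exact Ideal.mul_mem_left _ _ (ht k')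
      let J := (firstIdeal p t k).comap (algebraMap A (Localization.AtPrime p))
      have hIJ : I ≤ J := Ideal.map_le_iff_le_comap.mp hmap.le
      have hJp : J ≤ p := fun z hz =>
        (IsLocalization.AtPrime.to_map_mem_maximal_iff (Localization.AtPrime p) p z).mp
          (IsLocalRing.le_maximalIdeal (hne k) hz)
      have hfin := Ideal.finite_minimalPrimes_of_isNoetherianRing A I
      obtain ⟨z, hz, havoid⟩ := Groth.L11.CokerDet.exists_add_notMem hfin.toFinset
        (fun P hP => (hfin.mem_toFinset.mp hP).1.1) y J (fun P hP hyP hJP => by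
          have hP' := hfin.mem_toFinset.mp hP
          haveI := hP'.1.1
          have hPp : P ≤ p := le_of_minimal p (firstIdeal p t k) (hne k) I hIJ P hP' hJP
          have hdisj : Disjoint (p.primeCompl : Set A) (P : Set A) := Set.disjoint_left.mpr fun z hz hzP => hz (hPp hzP)
          have hPr := IsLocalization.isPrime_of_isPrime_disjoint p.primeCompl (Localization.AtPrime p) P inferInstance hdisj
          refine hnot k' (P.map (algebraMap A (Localization.AtPrime p))) ⟨⟨hPr, ?_⟩, fun R hR hRle => ?_⟩ ?_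
          · show firstIdeal p t k ≤ _
            rw [← hmap]
            exact Ideal.map_mono hP'.1.2
          · haveI := hR.1
            have h3 : R.comap (algebraMap A (Localization.AtPrime p)) ≤ P :=
              (Ideal.comap_mono hRle).trans (IsLocalization.comap_map_of_isPrime_disjoint p.primeCompl _ inferInstance hdisj).le
            refine Ideal.map_le_iff_le_comap.mpr (hP'.2 ⟨Ideal.IsPrime.comap _, ?_⟩ h3)
            exact hIJ.trans (Ideal.comap_mono hR.2)
          · refine (Ideal.unit_mul_mem_iff_mem _ (IsLocalization.map_units (Localization.AtPrime p) (⟨c, hc⟩ : p.primeCompl))).mp ?_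
            show algebraMap A (Localization.AtPrime p) c * t k' ∈ _
            rw [hyc']
            exact Ideal.mem_map_of_mem _ hyP)
      refine ⟨Fin.snoc x (y + z), Fin.snoc a c, fun i => ?_, fun i => ?_, fun i => ?_, ?_⟩
      · refine Fin.lastCases ?_ (fun i => ?_) i
        · rw [Fin.snoc_last]; exact add_mem hyp (hJp hz)
        · rw [Fin.snoc_castSucc]; exact hx i
      · refine Fin.lastCases ?_ (fun i => ?_) i
        · rw [Fin.snoc_last]; exact hc
        · rw [Fin.snoc_castSucc]; exact ha i
      · refine Fin.lastCases ?_ (fun i => ?_) i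
        · rw [Fin.snoc_last, Fin.snoc_last, map_add, show Fin.castLE hk (Fin.last k) = k' from rfl, hyc',
            add_sub_cancel_left, Fin.val_last]
          exact hz
        · rw [Fin.snoc_castSucc, Fin.snoc_castSucc]
          exact hcong i
      · have h1 : Ideal.span (Set.range (Fin.snoc x (y + z) : Fin (k + 1) → A)) = I ⊔ Ideal.span {y + z} := by
          rw [Fin.range_snoc, Ideal.span_insert, sup_comm]
        rw [h1, Nat.cast_succ, add_comm (k : WithBot ℕ∞) 1, ← add_assoc]
        exact (add_le_add (dim_quotient_sup_succ_le I fun P hP => havoid P (hfin.mem_toFinset.mpr hP)) le_rfl).trans hdim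
  obtain ⟨x, a, hx, ha, hcong, hdim⟩ := key s le_rfl
  refine ⟨x, a, hx, ha, le_antisymm hdim ?_, fun i => hcong i⟩
  have hsub : (Set.range x) ⊆ (Ring.jacobson A : Set A) := by
    rintro _ ⟨i, rfl⟩
    rw [IsLocalRing.ringJacobson_eq_maximalIdeal]
    exact IsLocalRing.le_maximalIdeal (Ideal.IsPrime.ne_top ‹_›) (hx i)
  refine (ringKrullDim_le_ringKrullDim_quotient_add_encard _ hsub).trans (add_le_add le_rfl ?_)
  have : (Set.range x).encard ≤ s := by
    rw [← Set.image_univ]
    exact (Set.encard_image_le _ _).trans (by simp)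
  exact_mod_cast this

end Groth.L07.SopLift
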