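import Groth.Agent.L07.SyntLCI
import Groth.Agent.L07.QuasiRegular
import Mathlib.RingTheory.LocalProperties.FinitePresentation
import Mathlib.RingTheory.LocalProperties.Projective
import Mathlib.RingTheory.Localization.Module

/-! The conormal module of a syntomic algebra. -/

namespace Groth.L07.SyntConormal

open TensorProduct PrimeSpectrum CategoryTheory CategoryTheory.Limits CohIII
open Groth.L07.CILocus Groth.L07.SyntNhd
open Groth.L07.SyntLCI

set_option linter.style.haveILetI false
set_option maxSynthPendingDepth 3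

universe u

variable {R : Type u} [CommRing R] {n : ℕ}

local notation "Po" => MvPolynomial (Fin n) R

/-- Regular generators near a flat point with complete intersection fibre. -/
theorem exists_regular_nhd (I : Ideal Po) (hI : I.FG) (P : PrimeSpectrum (Po ⧸ I))
    [Module.Flat R (Localization.AtPrime P.asIdeal)] (h : CIAt R P) :
    ∃ (c : ℕ) (f : Fin c → MvPolynomial (Fin n) R) (G : MvPolynomial (Fin n) R),
      G ∉ P.asIdeal.comap (Ideal.Quotient.mk I) ∧ (∀ i, f i ∈ I) ∧
      (∀ y ∈ I, G * y ∈ Ideal.span (Set.range f)) ∧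
      ∀ (w : Ideal (MvPolynomial (Fin n) R)) [w.IsPrime], Ideal.span (Set.range f) ≤ w → G ∉ w →
        RingTheory.Sequence.IsWeaklyRegular (Localization.AtPrime w)
          ((List.ofFn f).map (algebraMap (MvPolynomial (Fin n) R) (Localization.AtPrime w))) := by
  obtain ⟨c, f, hfI, hreg, hgen⟩ := exists_generators I P h
  obtain ⟨g, hg, hgI⟩ := Groth.L07.SyntAlg.exists_mul_mem I hI P f hfI hgen
  let J := Ideal.span (Set.range f)
  have hJI : J ≤ I := Ideal.span_le.mpr (by rintro _ ⟨i, rfl⟩; exact hfI i)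
  set p := comap (algebraMap R (Po ⧸ I)) P
  have hJQ : J.map (θ p) ≤ polPrime I P := (Ideal.map_mono hJI).trans (map_le_polPrime I P)
  have key : ∀ (p₀ : PrimeSpectrum R) (Q : Ideal (MvPolynomial (Fin n) p₀.asIdeal.ResidueField)) [Q.IsPrime],
      J.map (θ p₀) ≤ Q →
      (∀ (q : Ideal (MvPolynomial (Fin n) p₀.asIdeal.ResidueField)) [q.IsPrime],
        J.map (θ p₀) ≤ q → q ≤ Q → (c : ℕ∞) ≤ q.height) →
      ∃ PJ : PrimeSpectrum (Po ⧸ J), PJ.asIdeal.comap (Ideal.Quotient.mk J) = Q.comap (θ p₀) ∧ Good J c PJ := by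
    intro p₀ Q _ h1 h2
    obtain ⟨PJ, hPJ, rfl⟩ := exists_point J p₀ Q h1
    refine ⟨PJ, hPJ, fun q _ h3 h4 => h2 q h3 ?_⟩
    rw [eq_polPrime J PJ Q h1 hPJ.symm]
    exact h4
  obtain ⟨PJ, hPJ, hgood⟩ := key p (polPrime I P) hJQ (fun q _ h1 h2 =>
    Groth.L07.CIField.height_ge_of_regular (θ p ∘ f) (polPrime I P) hreg q
      (le_trans (by rw [Ideal.map_span, ← Set.range_comp]) h1) h2)
  rw [comap_polPrime] at hPJ
  obtain ⟨g₁, hg₁, H⟩ := exists_fibre_dim J PJ (c := c) hgood
  obtain ⟨y₁, rfl⟩ := Ideal.Quotient.mk_surjective g₁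
  let G := g * y₁
  have hG : G ∉ P.asIdeal.comap (Ideal.Quotient.mk I) := fun hm =>
    (Ideal.IsPrime.mem_or_mem inferInstance hm).elim hg fun h' => hg₁ (hPJ.ge h')
  refine ⟨c, f, G, hG, hfI, fun y hy => ?_, fun w _ hJw hGw => ?_⟩
  · rw [show G * y = y₁ * (g * y) by ring]
    exact Ideal.mul_mem_left _ _ (hgI y hy)
  · have hk : RingHom.ker (Ideal.Quotient.mk J) ≤ w := by rwa [Ideal.mk_ker]
    haveI := Ideal.map_isPrime_of_surjective Ideal.Quotient.mk_surjective hk
    have hwc : (w.map (Ideal.Quotient.mk J)).comap (Ideal.Quotient.mk J) = w := by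
      rw [Ideal.comap_map_of_surjective _ Ideal.Quotient.mk_surjective, ← RingHom.ker_eq_comap_bot,
        Ideal.mk_ker, sup_eq_left.mpr hJw]
    exact (Groth.L07.SyntRel.transversal J f rfl ⟨w.map (Ideal.Quotient.mk J), inferInstance⟩ w hwc
      (H _ fun hm => hGw (Ideal.mul_mem_left _ g (hwc.le hm)))).1.toIsWeaklyRegular

/-- Coefficients of a quadratic relation of locally regular generators. -/
theorem exists_pow_mul_mem {B : Type u} [CommRing B] {c : ℕ} (I : Ideal B) (f : Fin c → B) (G : B)
    (hf : ∀ i, f i ∈ I) (hG : ∀ y ∈ I, G * y ∈ Ideal.span (Set.range f))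
    (hreg : ∀ (w : Ideal B) [w.IsPrime], Ideal.span (Set.range f) ≤ w → G ∉ w →
      RingTheory.Sequence.IsWeaklyRegular (Localization.AtPrime w)
        ((List.ofFn f).map (algebraMap B (Localization.AtPrime w))))
    (a : Fin c → B) (ha : ∑ i, a i * f i ∈ I ^ 2) (i : Fin c) : ∃ k : ℕ, G ^ k * a i ∈ I := by
  classical
  by_contra hcon
  push Not at hcon
  let J := Ideal.span (Set.range f)
  have hJI : J ≤ I := Ideal.span_le.mpr (by rintro _ ⟨j, rfl⟩; exact hf j)
  let K := J.colon (Ideal.span {a i} : Ideal B)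
  have hK : ∀ x, x ∈ K ↔ x * a i ∈ J := fun x => by
    refine ⟨fun hx => ?_, fun hx => Submodule.mem_colon.mpr fun z hz => ?_⟩
    · exact Submodule.mem_colon.mp hx _ (Ideal.mem_span_singleton_self _)
    · obtain ⟨w, rfl⟩ := Ideal.mem_span_singleton'.mp hz
      rw [smul_eq_mul, mul_left_comm]
      exact J.mul_mem_left w hx
  obtain ⟨w, hw, hle, hdisj⟩ := Ideal.exists_le_prime_disjoint K (Submonoid.powers G) (by
    rw [Set.disjoint_left]
    rintro x hx ⟨k, rfl⟩
    exact hcon k (hJI ((hK _).mp hx)))
  have hJw : J ≤ w := fun y hy => hle ((hK y).mpr (Ideal.mul_mem_right _ _ hy))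
  have hGw : G ∉ w := fun hm => Set.disjoint_left.mp hdisj hm (Submonoid.mem_powers G)
  have h2 : G ^ 2 * ∑ j, a j * f j ∈ J ^ 2 := by
    have hI2 : Ideal.span {G} * I ≤ J := Ideal.span_singleton_mul_le_iff.mpr hG
    have := Ideal.mul_mem_mul (Ideal.pow_mem_pow (Ideal.mem_span_singleton_self G) 2) ha
    rw [← mul_pow] at this
    exact Ideal.pow_right_mono hI2 2 this
  let L := Localization.AtPrime w
  have hr := hreg w hJw hGw
  rw [List.map_ofFn] at hr
  have hspan : Ideal.span (Set.range (algebraMap B L ∘ f)) = J.map (algebraMap B L) := by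
    rw [Ideal.map_span, ← Set.range_comp]
  have := Groth.L07.QReg.isQuasiRegular_of_isWeaklyRegular hr 1
    (∑ j, MvPolynomial.C (algebraMap B L (G ^ 2 * a j)) * MvPolynomial.X j)
    (MvPolynomial.IsHomogeneous.sum _ _ _ fun j _ => (MvPolynomial.isHomogeneous_X _ j).C_mul _)
    (by
      rw [hspan, ← Ideal.map_pow, show MvPolynomial.eval (algebraMap B L ∘ f)
        (∑ j, MvPolynomial.C (algebraMap B L (G ^ 2 * a j)) * MvPolynomial.X j) =
          algebraMap B L (G ^ 2 * ∑ j, a j * f j) by simp [Finset.mul_sum, mul_assoc]]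
      exact Ideal.mem_map_of_mem _ h2) (Finsupp.single i 1)
  simp only [MvPolynomial.coeff_sum, MvPolynomial.coeff_C_mul, MvPolynomial.coeff_X,
    mul_ite, mul_one, mul_zero, Finset.sum_ite_eq', Finset.mem_univ, if_true,
    Finsupp.single_left_inj one_ne_zero] at this
  rw [hspan] at this
  obtain ⟨s, hs, hsa⟩ := (IsLocalization.algebraMap_mem_map_algebraMap_iff w.primeCompl _ _ _).mp this
  have h3 : s * G ^ 2 ∈ K := (hK _).mpr (by rw [mul_assoc]; exact hsa)
  exact (Ideal.IsPrime.mem_or_mem hw (hle h3)).elim hs fun h4 => hGw (hw.mem_of_pow_mem _ h4)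

/-- A module which is, locally on the base, freely generated is finite projective. -/
theorem finite_projective_of_local_basis {A : Type u} [CommRing A] {M : Type u} [AddCommGroup M] [Module A M]
    (H : ∀ P : Ideal A, P.IsMaximal → ∃ h : A, h ∉ P ∧ ∃ (c : ℕ) (φ : (Fin c → A) →ₗ[A] M),
      (∀ m, ∃ k : ℕ, h ^ k • m ∈ LinearMap.range φ) ∧ (∀ x, φ x = 0 → ∃ k : ℕ, h ^ k • x = 0)) :
    Module.Finite A M ∧ Module.Projective A M := by
  classical
  choose h hhP c φ hs hi using H
  have key : ∀ (P : Ideal A) (hP : P.IsMaximal) (T : Submonoid A), h P hP ∈ T →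
      Module.Free (Localization T) (LocalizedModule T M) ∧ Module.Finite (Localization T) (LocalizedModule T M) := by
    intro P hP T hT
    let ψ := LocalizedModule.map T (φ P hP)
    have hmap : ∀ x (t : T), ψ (LocalizedModule.mk x t) = LocalizedModule.mk (φ P hP x) t := fun x t =>
      LocalizedModule.map_mk _ _ _ _
    have hbij : Function.Bijective ψ := by
      refine ⟨(injective_iff_map_eq_zero ψ).mpr fun z hz => ?_, fun z => ?_⟩
      · induction z using LocalizedModule.induction_on with
        | h x t =>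
          rw [hmap, ← LocalizedModule.zero_mk (1 : T), LocalizedModule.mk_eq] at hz
          obtain ⟨u, hu⟩ := hz
          rw [smul_zero, smul_zero, one_smul] at hu
          obtain ⟨k, hk⟩ := hi P hP ((u : A) • x) (by rw [map_smul]; exact hu)
          rw [← LocalizedModule.zero_mk (1 : T), LocalizedModule.mk_eq]
          refine ⟨⟨h P hP, hT⟩ ^ k * u, ?_⟩
          rw [smul_zero, smul_zero, one_smul, Submonoid.smul_def]
          show (h P hP ^ k * (u : A)) • x = 0
          rw [mul_smul]
          exact hk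
      · induction z using LocalizedModule.induction_on with
        | h m t =>
          obtain ⟨k, x, hx⟩ := hs P hP m
          refine ⟨LocalizedModule.mk x (⟨h P hP, hT⟩ ^ k * t), ?_⟩
          rw [hmap, hx]
          exact LocalizedModule.mk_cancel_common_left (⟨h P hP, hT⟩ ^ k : T) t m
    let e := LinearEquiv.ofBijective ψ hbij
    let b := (Pi.basisFun A (Fin (c P hP))).ofIsLocalizedModule (Localization T) T
      (LocalizedModule.mkLinearMap T (Fin (c P hP) → A))
    exact ⟨Module.Free.of_basis (b.map e), Module.Finite.of_basis (b.map e)⟩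
  let s : Set A := {a | ∃ (P : Ideal A) (hP : P.IsMaximal), h P hP = a}
  have hspan : Ideal.span s = ⊤ := by
    by_contra ht
    obtain ⟨P, hP, hle⟩ := Ideal.exists_le_maximal _ ht
    exact hhP P hP (hle (Ideal.subset_span ⟨P, hP, rfl⟩))
  haveI : Module.FinitePresentation A M := Module.FinitePresentation.of_localizationSpan s hspan fun a => by
    obtain ⟨P, hP, hPa⟩ := a.2
    obtain ⟨h1, h2⟩ := key P hP (Submonoid.powers a.1) (hPa ▸ Submonoid.mem_powers a.1)
    exact Module.finitePresentation_of_projective _ _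
  refine ⟨inferInstance, Module.projective_of_localization_maximal fun P hP => ?_⟩
  obtain ⟨h1, -⟩ := key P hP P.primeCompl (hhP P hP)
  exact Module.Projective.of_free

/-- The localized conormal module of a syntomic basic open is finite projective. -/
theorem finite_projective_cotangent (I : Ideal Po) (hI : I.FG) (g : Po ⧸ I)
    (hg : Synt.IsSyntomic R (Localization.Away g)) :
    Module.Finite (Localization.Away g) (LocalizedModule (Submonoid.powers g) I.Cotangent) ∧
      Module.Projective (Localization.Away g) (LocalizedModule (Submonoid.powers g) I.Cotangent) := by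
  classical
  haveI : Algebra.FinitePresentation R (Po ⧸ I) := Algebra.FinitePresentation.quotient hI
  haveI := hg.2.1
  obtain ⟨hflat, hCI⟩ := Groth.L07.SyntAlg.isSyntomic_iff.mp hg
  haveI := hflat
  let S := MvPolynomial (Fin n) R ⧸ I
  let A := Localization.Away g
  refine finite_projective_of_local_basis fun P hP => ?_
  let P' : PrimeSpectrum A := ⟨P, hP.isPrime⟩
  haveI : Module.Flat R (Localization.AtPrime (comap (algebraMap S A) P').asIdeal) :=
    (Groth.L07.SyntAlg.flat_away g P').mp (Module.Flat.trans R A _)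
  obtain ⟨c, f, G, hG, hfI, hGI, hreg⟩ := exists_regular_nhd I hI (comap (algebraMap S A) P')
    ((Groth.L07.SyntAlg.ciAt_away g P').mp (hCI P'))
  let h : A := algebraMap S A (Ideal.Quotient.mk I G)
  let v : Fin c → LocalizedModule (Submonoid.powers g) I.Cotangent :=
    fun i => LocalizedModule.mk (I.toCotangent ⟨f i, hfI i⟩) 1
  refine ⟨h, hG, c, Fintype.linearCombination A v, fun m => ?_, fun x hx => ?_⟩
  · induction m using LocalizedModule.induction_on with
    | h z t =>
      obtain ⟨⟨y, hy⟩, rfl⟩ := I.toCotangent_surjective z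
      obtain ⟨a, ha⟩ := (Submodule.mem_span_range_iff_exists_fun _).mp (hGI y hy)
      refine ⟨1, LinearMap.mem_range.mpr ⟨fun j => Localization.mk (Ideal.Quotient.mk I (a j)) t, ?_⟩⟩
      have key : ∑ j, (Ideal.Quotient.mk I (a j)) • I.toCotangent ⟨f j, hfI j⟩ =
          (Ideal.Quotient.mk I G) • I.toCotangent ⟨y, hy⟩ := by
        have e1 : (∑ j, a j • (⟨f j, hfI j⟩ : I)) = G • (⟨y, hy⟩ : I) :=
          Subtype.ext (by simpa [AddSubmonoidClass.coe_finsetSum] using ha)
        have e2 := congrArg I.toCotangent e1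
        rw [map_sum, map_smul] at e2
        refine Eq.trans (Finset.sum_congr rfl fun j _ => ?_) e2
        rw [map_smul]
        rfl
      rw [Fintype.linearCombination_apply, pow_one, show h = Localization.mk (Ideal.Quotient.mk I G) 1 from
        (Localization.mk_one_eq_algebraMap _).symm, LocalizedModule.mk_smul_mk, one_mul, ← key]
      refine Eq.trans (Finset.sum_congr rfl fun j _ => ?_)
        (map_sum (⟨⟨fun z => LocalizedModule.mk z t, LocalizedModule.zero_mk t⟩, fun a b => by
          rw [LocalizedModule.mk_add_mk, ← smul_add, LocalizedModule.mk_cancel_common_left]⟩ : I.Cotangent →+ _) _ _).symm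
      refine (LocalizedModule.mk_smul_mk (Ideal.Quotient.mk I (a j)) (I.toCotangent ⟨f j, hfI j⟩) t 1).trans ?_
      rw [mul_one]
      rfl
  · obtain ⟨b, hb⟩ := IsLocalization.exist_integer_multiples_of_finite (Submonoid.powers g) x
    choose r hr using hb
    rw [Fintype.linearCombination_apply] at hx
    have h0 : LocalizedModule.mkLinearMap (Submonoid.powers g) I.Cotangent
        (∑ j, r j • I.toCotangent ⟨f j, hfI j⟩) = 0 := by
      have e : (b : S) • ∑ j, x j • v j = 0 := by rw [hx, smul_zero]
      rw [Finset.smul_sum] at e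
      rw [map_sum, ← e]
      refine Finset.sum_congr rfl fun j _ => ?_
      rw [map_smul, ← smul_assoc, ← hr j, algebraMap_smul]
      rfl
    obtain ⟨t, ht⟩ := (IsLocalizedModule.eq_zero_iff (Submonoid.powers g) _).mp h0
    obtain ⟨T, hT⟩ := Ideal.Quotient.mk_surjective (t : S)
    choose q hq using fun j => Ideal.Quotient.mk_surjective (r j)
    have h1 : ∑ j, (T * q j) * f j ∈ I ^ 2 := by
      have e : I.toCotangent (∑ j, (T * q j) • (⟨f j, hfI j⟩ : I)) = 0 := by
        rw [map_sum, ← ht, Submonoid.smul_def, Finset.smul_sum]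
        refine Finset.sum_congr rfl fun j _ => ?_
        rw [map_smul, ← hT, ← hq j, smul_smul, ← map_mul]
        rfl
      rw [Ideal.toCotangent_eq_zero] at e
      simpa [AddSubmonoidClass.coe_finsetSum] using e
    choose k hk using fun j => exists_pow_mul_mem I f G hfI hGI hreg (fun j => T * q j) h1 j
    refine ⟨Finset.univ.sup k, funext fun j => ?_⟩
    have hz : (Ideal.Quotient.mk I G) ^ Finset.univ.sup k * ((t : S) * r j) = 0 := by
      rw [← hT, ← hq j, ← map_mul, ← map_pow, ← map_mul, Ideal.Quotient.eq_zero_iff_mem,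
        ← Nat.sub_add_cancel (Finset.le_sup (f := k) (Finset.mem_univ j)), pow_add, mul_assoc]
      exact Ideal.mul_mem_left _ _ (hk j)
    have hz' := congrArg (algebraMap S A) hz
    rw [map_zero, map_mul, map_mul, map_pow, hr j, Algebra.smul_def, ← mul_assoc (algebraMap S A t),
      ← mul_assoc, mul_comm (h ^ _), mul_assoc] at hz'
    exact ((IsLocalization.map_units A t).mul (IsLocalization.map_units A b)).mul_right_eq_zero.mp hz'

end Groth.L07.SyntConormal
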