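import Groth.Agent.L07.SyntMor
import Groth.Agent.L24.Alg.SourceFppf

/-! Descent of complete intersection morphisms along fppf covers of the source. -/

namespace Groth.L07.SyntDescent

open CategoryTheory CategoryTheory.Limits AlgebraicGeometry IsLocalRing

set_option linter.style.haveILetI false
set_option maxSynthPendingDepth 3

universe u

/-- Avramov: a complete intersection composite fibre gives complete intersection factors. -/
theorem isCI_fibre_of_comp {A B C : Type u} [CommRing A] [CommRing B] [CommRing C]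
    [IsLocalRing A] [IsLocalRing B] [IsLocalRing C]
    [Algebra A B] [Algebra B C] [Algebra A C] [IsScalarTower A B C] [IsLocalHom (algebraMap A B)]
    [IsLocalHom (algebraMap B C)] [Module.Flat B C] [IsLocalHom (algebraMap A C)]
    [IsNoetherianRing (EGA4.FibRing A B)] [IsNoetherianRing (EGA4.FibRing A C)]
    [IsNoetherianRing (EGA4.FibRing B C)]
    (h : Pi1.IsCompleteIntersection (EGA4.FibRing A C)) :
    Pi1.IsCompleteIntersection (EGA4.FibRing A B) ∧ Pi1.IsCompleteIntersection (EGA4.FibRing B C) := by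
  let Bb := EGA4.FibRing A B
  let Cb := EGA4.FibRing A C
  have hmap : (EGA4.mB A B).map (algebraMap B C) = EGA4.mB A C := by
    show ((maximalIdeal A).map _).map _ = (maximalIdeal A).map _
    rw [Ideal.map_map, ← IsScalarTower.algebraMap_eq]
  let f : Bb →+* Cb := Ideal.quotientMap (EGA4.mB A C) (algebraMap B C) (Ideal.map_le_iff_le_comap.mp hmap.le)
  letI : Algebra Bb Cb := f.toAlgebra
  haveI : IsScalarTower B Bb Cb := IsScalarTower.of_algebraMap_eq fun _ => rfl
  haveI : IsLocalHom (algebraMap Bb Cb) := ⟨fun x hx => by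
    obtain ⟨x, rfl⟩ := Ideal.Quotient.mk_surjective x
    have h1 : IsUnit (Ideal.Quotient.mk (EGA4.mB A C) (algebraMap B C x)) := hx
    haveI : IsLocalHom (Ideal.Quotient.mk (EGA4.mB A C)) := IsLocalHom.of_surjective _ Ideal.Quotient.mk_surjective
    exact ((isUnit_map_iff (algebraMap B C) x).mp ((isUnit_map_iff _ _).mp h1)).map _⟩
  haveI : Module.Flat Bb Cb := Groth.L07.RegFlat.flat_quotient (B := B) (N := C) (EGA4.mB A B) Ideal.Quotient.mk_surjective
    Ideal.mk_ker (N' := Cb) (Ideal.Quotient.mkₐ B (EGA4.mB A C)).toLinearMap Ideal.Quotient.mk_surjective (by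
      rw [Ideal.smul_top_eq_map, hmap]
      ext c
      exact Ideal.Quotient.eq_zero_iff_mem)
  obtain ⟨hAB, hBC⟩ := (Groth.L07.Avramov.isCompleteIntersection_iff Bb (B := Cb)).mp h
  refine ⟨hAB, ?_⟩
  haveI : IsNoetherianRing (EGA4.FibRing Bb Cb) := inferInstanceAs (IsNoetherianRing (Cb ⧸ EGA4.mB Bb Cb))
  have h1 : EGA4.mB Bb Cb = (EGA4.mB B C).map (Ideal.Quotient.mk (EGA4.mB A C)) := by
    show (maximalIdeal Bb).map f = ((maximalIdeal B).map _).map _
    rw [← IsLocalRing.map_maximalIdeal_of_surjective (Ideal.Quotient.mk (EGA4.mB A B)) Ideal.Quotient.mk_surjective,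
      Ideal.map_map, Ideal.map_map]
    rfl
  have h2 : EGA4.mB A C ≤ EGA4.mB B C := by
    rw [← hmap]
    exact Ideal.map_mono (IsLocalRing.map_maximalIdeal_le (algebraMap A B))
  haveI : IsNoetherianRing (EGA4.FibRing B C) :=
    isNoetherianRing_of_ringEquiv _ ((Ideal.quotEquivOfEq h1).trans (DoubleQuot.quotQuotEquivQuotOfLE h2))
  exact Groth.L07.Avramov.isCompleteIntersection_of_ringEquiv
    ((Ideal.quotEquivOfEq h1).trans (DoubleQuot.quotQuotEquivQuotOfLE h2)) hBC

/-- A composite complete intersection morphism with flat, finitely presented, surjective first factor. -/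
theorem isCIMorphism_of_comp {X Y Z : Scheme.{u}} (f : X ⟶ Y) (g : Y ⟶ Z) [Surjective f] [Flat f]
    [LocallyOfFinitePresentation f] (h : CInt.IsCIMorphism (f ≫ g)) :
    CInt.IsCIMorphism g ∧ CInt.IsCIMorphism f := by
  haveI := h.1
  haveI := h.2.1
  haveI hgf : Flat g := Flat.of_stalkMap g fun y => by
    obtain ⟨x, rfl⟩ := f.surjective y
    exact Groth.L19.flat_stalkMap_of_comp f g x (Flat.stalkMap f x) (Flat.stalkMap (f ≫ g) x)
  haveI hgp : LocallyOfFinitePresentation g := Groth.L24.Alg.locallyOfFinitePresentation_of_fppf_comp f g inferInstance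
  haveI : LocallyOfFiniteType f := inferInstance
  haveI : LocallyOfFiniteType g := inferInstance
  haveI : LocallyOfFiniteType (f ≫ g) := inferInstance
  suffices key : ∀ x : X, Pi1.IsCompleteIntersection (CInt.fiberStalk g (f.base x)) ∧
      Pi1.IsCompleteIntersection (CInt.fiberStalk f x) by
    refine ⟨⟨hgf, hgp, fun y => ?_⟩, ⟨inferInstance, inferInstance, fun x => (key x).2⟩⟩
    obtain ⟨x, rfl⟩ := f.surjective y
    exact (key x).1
  intro x
  let y := f.base x
  let z := g.base y
  letI := (f.stalkMap x).hom.toAlgebra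
  letI := (g.stalkMap y).hom.toAlgebra
  letI : Algebra (Z.presheaf.stalk z) (X.presheaf.stalk x) := (((f ≫ g).stalkMap x).hom).toAlgebra
  haveI : IsScalarTower (Z.presheaf.stalk z) (Y.presheaf.stalk y) (X.presheaf.stalk x) :=
    IsScalarTower.of_algebraMap_eq' (congrArg CommRingCat.Hom.hom (Scheme.Hom.stalkMap_comp f g x))
  haveI : Module.Flat (Y.presheaf.stalk y) (X.presheaf.stalk x) := Flat.stalkMap f x
  haveI : IsLocalHom (algebraMap (Y.presheaf.stalk y) (X.presheaf.stalk x)) :=
    inferInstanceAs (IsLocalHom (f.stalkMap x).hom)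
  haveI : IsLocalHom (algebraMap (Z.presheaf.stalk z) (Y.presheaf.stalk y)) :=
    inferInstanceAs (IsLocalHom (g.stalkMap y).hom)
  haveI : IsLocalHom (algebraMap (Z.presheaf.stalk z) (X.presheaf.stalk x)) :=
    inferInstanceAs (IsLocalHom ((f ≫ g).stalkMap x).hom)
  haveI : IsLocallyNoetherian (g.fiber z) := show IsLocallyNoetherian (Limits.pullback g (Z.fromSpecResidueField z)) from
    LocallyOfFiniteType.isLocallyNoetherian (Limits.pullback.snd g (Z.fromSpecResidueField z))
  haveI : IsLocallyNoetherian ((f ≫ g).fiber z) :=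
    show IsLocallyNoetherian (Limits.pullback (f ≫ g) (Z.fromSpecResidueField z)) from
    LocallyOfFiniteType.isLocallyNoetherian (Limits.pullback.snd (f ≫ g) (Z.fromSpecResidueField z))
  haveI : IsLocallyNoetherian (f.fiber y) := show IsLocallyNoetherian (Limits.pullback f (Y.fromSpecResidueField y)) from
    LocallyOfFiniteType.isLocallyNoetherian (Limits.pullback.snd f (Y.fromSpecResidueField y))
  obtain ⟨eg⟩ := Groth.L07.CIScheme.exists_fiberStalkEquiv g z (g.asFiber y) y (g.fiberι_asFiber y)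
  obtain ⟨ef⟩ := Groth.L07.CIScheme.exists_fiberStalkEquiv f y (f.asFiber x) x (f.fiberι_asFiber x)
  obtain ⟨e⟩ := Groth.L07.CIScheme.exists_fiberStalkEquiv (f ≫ g) z ((f ≫ g).asFiber x) x
    ((f ≫ g).fiberι_asFiber x)
  haveI := isNoetherianRing_of_ringEquiv _ eg.symm
  haveI := isNoetherianRing_of_ringEquiv _ ef.symm
  haveI : IsLocallyNoetherian ((f ≫ g).fiber ((f ≫ g).base x)) := Groth.L07.CIBaseChange.isLocallyNoetherian_fiber _ _
  haveI : IsNoetherianRing (CInt.fiberStalk (f ≫ g) x) := inferInstance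
  haveI : IsNoetherianRing (EGA4.FibRing (Z.presheaf.stalk z) (X.presheaf.stalk x)) :=
    isNoetherianRing_of_ringEquiv (CInt.fiberStalk (f ≫ g) x) e.symm
  haveI : IsLocalRing (CInt.fiberStalk (f ≫ g) x) :=
    ((f ≫ g).fiber ((f ≫ g).base x)).toLocallyRingedSpace.isLocalRing _
  have hC : Pi1.IsCompleteIntersection (EGA4.FibRing (Z.presheaf.stalk z) (X.presheaf.stalk x)) :=
    Groth.L07.Avramov.isCompleteIntersection_of_ringEquiv (A := CInt.fiberStalk (f ≫ g) x) e.symm (h.2.2 x)
  have h12 := isCI_fibre_of_comp (A := Z.presheaf.stalk z) (B := Y.presheaf.stalk y) (C := X.presheaf.stalk x) hC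
  obtain ⟨h1, h2⟩ := h12
  exact ⟨Groth.L07.Avramov.isCompleteIntersection_of_ringEquiv (A := EGA4.FibRing (Z.presheaf.stalk z) (Y.presheaf.stalk y)) eg h1,
    Groth.L07.Avramov.isCompleteIntersection_of_ringEquiv (A := EGA4.FibRing (Y.presheaf.stalk y) (X.presheaf.stalk x)) ef h2⟩

end Groth.L07.SyntDescent
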