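import Groth.Agent.L07.Syzygy
import Groth.Agent.L02.Flat
import Groth.Agent.L28.TorFacts
import Mathlib.RingTheory.Flat.EquationalCriterion
import Mathlib.RingTheory.Finiteness.ModuleFinitePresentation
import Mathlib.CategoryTheory.Abelian.Projective.Dimension

/-! Resolutions of flat finitely presented modules by finite free modules, and dimensions. -/

namespace Groth.L07.SyzygyRes

open CategoryTheory CategoryTheory.Limits MonoidalCategory HomologicalComplex TensorProduct
open Groth.L07.FlatDescent

set_option linter.style.haveILetI false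
set_option maxSynthPendingDepth 3

universe u

/-- Finite presentation along a surjection of rings. -/
theorem fp_of_surjective {P B : Type u} [CommRing P] [CommRing B] [Algebra P B]
    (hs : Function.Surjective (algebraMap P B)) (K : Type u) [AddCommGroup K] [Module B K] [Module P K]
    [IsScalarTower P B K] [Module.FinitePresentation P K] : Module.FinitePresentation B K := by
  haveI : Module.FinitePresentation B (B ⊗[P] K) := inferInstance
  let f : B ⊗[P] K →ₗ[B] K := LinearMap.liftBaseChange B LinearMap.id
  refine Module.finitePresentation_of_surjective f (fun x => ⟨1 ⊗ₜ x, by simp [f]⟩) ?_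
  suffices h : LinearMap.ker f = ⊥ by rw [h]; exact Submodule.fg_bot
  have hone : ∀ z : B ⊗[P] K, z = 1 ⊗ₜ f z := by
    intro z
    induction z using TensorProduct.induction_on with
    | zero => simp
    | tmul b x =>
      obtain ⟨p, rfl⟩ := hs b
      simp [f, Algebra.algebraMap_eq_smul_one, TensorProduct.smul_tmul]
    | add a b ha hb => rw [map_add, TensorProduct.tmul_add, ← ha, ← hb]
  exact LinearMap.ker_eq_bot'.mpr fun z hz => by rw [hone z, hz, TensorProduct.tmul_zero]

/-- The kernel of a surjection from a finite free module. -/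
theorem fp_ker {A B M : Type u} [CommRing A] [CommRing B] [Algebra A B]
    [Algebra.FinitePresentation A B] [Module.Flat A B] [AddCommGroup M] [Module B M] [Module A M]
    [IsScalarTower A B M] [Module.FinitePresentation B M] [Module.Flat A M] {m : ℕ}
    (g : (Fin m → B) →ₗ[B] M) (hg : Function.Surjective g) :
    Module.FinitePresentation B (LinearMap.ker g) := by
  classical
  obtain ⟨d, φ, hφ, hker⟩ := Algebra.FinitePresentation.out (R := A) (A := B)
  letI := φ.toRingHom.toAlgebra
  haveI : IsScalarTower A (MvPolynomial (Fin d) A) B :=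
    IsScalarTower.of_algebraMap_eq fun a => (φ.commutes a).symm
  haveI : Module.FinitePresentation (MvPolynomial (Fin d) A) B :=
    Module.finitePresentation_of_surjective (Algebra.linearMap _ B) hφ hker
  letI : Module (MvPolynomial (Fin d) A) M := Module.compHom M φ.toRingHom
  haveI : IsScalarTower (MvPolynomial (Fin d) A) B M :=
    ⟨fun p b m => by rw [Algebra.smul_def, mul_smul]; rfl⟩
  haveI : IsScalarTower A (MvPolynomial (Fin d) A) M :=
    ⟨fun a p m => by
      show φ (a • p) • m = a • φ p • m
      rw [map_smul, smul_assoc]⟩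
  haveI : Module.FinitePresentation (MvPolynomial (Fin d) A) M :=
    Module.FinitePresentation.trans (MvPolynomial (Fin d) A) M B
  let c : F d m A →ₗ[MvPolynomial (Fin d) A] (Fin m → B) :=
    LinearMap.pi fun i => Algebra.linearMap _ B ∘ₗ LinearMap.proj i
  have hc : Function.Surjective c := fun y => by
    choose p hp using fun i => hφ (y i)
    exact ⟨p, funext hp⟩
  let gP : (Fin m → B) →ₗ[MvPolynomial (Fin d) A] M := g.restrictScalars _
  let g' : F d m A →ₗ[MvPolynomial (Fin d) A] M := gP ∘ₗ c
  have hg' : Function.Surjective g' := hg.comp hc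
  haveI : Module.Flat A (F d m A ⧸ LinearMap.ker g') :=
    Module.Flat.of_linearEquiv ((g'.quotKerEquivOfSurjective hg').restrictScalars A)
  haveI := fp_of_flat_quotient (LinearMap.ker g') (Module.FinitePresentation.fg_ker g' hg')
  let r : LinearMap.ker g' →ₗ[MvPolynomial (Fin d) A] LinearMap.ker gP :=
    (c ∘ₗ (LinearMap.ker g').subtype).codRestrict _ fun x => x.2
  have hr : Function.Surjective r := fun y => by
    obtain ⟨x, hx⟩ := hc y
    exact ⟨⟨x, show gP (c x) = 0 by rw [hx]; exact y.2⟩, Subtype.ext hx⟩
  have hckfg : (LinearMap.ker c).FG := by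
    have : LinearMap.ker c = Submodule.pi Set.univ fun _ : Fin m => (RingHom.ker φ.toRingHom : Ideal _) := by
      ext y
      simp [c, funext_iff, Submodule.mem_pi, RingHom.mem_ker, RingHom.algebraMap_toAlgebra]
    rw [this]
    exact Submodule.fg_pi fun _ => hker
  haveI : Module.FinitePresentation (MvPolynomial (Fin d) A) (LinearMap.ker gP) := by
    refine Module.finitePresentation_of_surjective r hr ?_
    refine Submodule.fg_of_fg_map_injective (LinearMap.ker g').subtype (Submodule.injective_subtype _) ?_
    have : (LinearMap.ker r).map (LinearMap.ker g').subtype = LinearMap.ker c := by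
      ext x
      constructor
      · rintro ⟨⟨x, hx⟩, h, rfl⟩
        exact congrArg Subtype.val h
      · intro hx
        refine ⟨⟨x, ?_⟩, Subtype.ext hx, rfl⟩
        show gP (c x) = 0
        rw [LinearMap.mem_ker.mp hx, map_zero]
    rw [this]; exact hckfg
  haveI : Module.FinitePresentation (MvPolynomial (Fin d) A) (LinearMap.ker g) :=
    Module.FinitePresentation.of_equiv
      ({ toFun := fun x => ⟨x.1, x.2⟩
         invFun := fun x => ⟨x.1, x.2⟩
         map_add' := fun _ _ => rfl
         map_smul' := fun _ _ => rfl
         left_inv := fun _ => rfl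
         right_inv := fun _ => rfl } : LinearMap.ker gP ≃ₗ[MvPolynomial (Fin d) A] LinearMap.ker g)
  exact fp_of_surjective hφ (LinearMap.ker g)

variable (A B : Type u) [CommRing A] [CommRing B] [Algebra A B] [Algebra.FinitePresentation A B]
  [Module.Flat A B]

/-- A finitely presented module, flat over the base. -/
structure Syz where
  /-- The module. -/
  K : Type u
  [instAdd : AddCommGroup K]
  [instB : Module B K]
  [instA : Module A K]
  [tower : IsScalarTower A B K]
  [fp : Module.FinitePresentation B K]
  [flat : Module.Flat A K]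

attribute [instance] Syz.instAdd Syz.instB Syz.instA Syz.tower Syz.fp Syz.flat

variable {A B}

/-- The number of generators. -/
noncomputable def num (s : Syz A B) : ℕ := (Module.Finite.exists_fin' B s.K).choose

/-- The generators. -/
noncomputable def gen (s : Syz A B) : (Fin (num s) → B) →ₗ[B] s.K :=
  (Module.Finite.exists_fin' B s.K).choose_spec.choose

theorem gen_surjective (s : Syz A B) : Function.Surjective (gen s) :=
  (Module.Finite.exists_fin' B s.K).choose_spec.choose_spec

/-- The next syzygy. -/
noncomputable def next (s : Syz A B) : Syz A B :=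
  haveI := fp_ker (A := A) (gen s) (gen_surjective s)
  haveI : Module.Flat A (LinearMap.ker (gen s)) :=
    haveI : Module.Flat A (Fin (num s) → B) :=
      Module.Flat.trans A B _
    haveI := flat_ker ((gen s).restrictScalars A) (gen_surjective s)
    Module.Flat.of_linearEquiv
      ({ toFun := fun x => ⟨x.1, x.2⟩
         invFun := fun x => ⟨x.1, x.2⟩
         map_add' := fun _ _ => rfl
         map_smul' := fun _ _ => rfl
         left_inv := fun _ => rfl
         right_inv := fun _ => rfl } :
        LinearMap.ker (gen s) ≃ₗ[A] LinearMap.ker ((gen s).restrictScalars A))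
  { K := LinearMap.ker (gen s) }

variable (A B) in
/-- The syzygies of a module. -/
noncomputable def syz (M : Type u) [AddCommGroup M] [Module B M] [Module A M] [IsScalarTower A B M]
    [Module.FinitePresentation B M] [Module.Flat A M] : ℕ → Syz A B
  | 0 => { K := M }
  | j + 1 => next (syz M j)

section Res

variable {M : Type u} [AddCommGroup M] [Module B M] [Module A M] [IsScalarTower A B M]
  [Module.FinitePresentation B M] [Module.Flat A M]

variable (A M) in
/-- The free terms. -/
noncomputable abbrev X (j : ℕ) : Type u := Fin (num (syz A B M j)) → B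

variable (A M) in
/-- The inclusion of a syzygy. -/
noncomputable def incl (j : ℕ) : (syz A B M (j + 1)).K →ₗ[B] X A (B := B) M j :=
  (LinearMap.ker (gen (syz A B M j))).subtype

theorem incl_injective (j : ℕ) : Function.Injective (incl A (B := B) M j) := Subtype.val_injective

theorem exact_incl (j : ℕ) : Function.Exact (incl A (B := B) M j) (gen (syz A B M j)) :=
  LinearMap.exact_subtype_ker_map (gen (syz A B M j))

variable (A M) in
/-- The differential. -/
noncomputable def diff (j : ℕ) : X A (B := B) M (j + 1) →ₗ[B] X A (B := B) M j :=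
  incl A M j ∘ₗ gen (syz A B M (j + 1))

theorem exact_diff (j : ℕ) : Function.Exact (diff A (B := B) M j) (gen (syz A B M j)) := fun x => by
  constructor
  · intro hx
    obtain ⟨y, rfl⟩ := (exact_incl j x).mp hx
    obtain ⟨z, rfl⟩ := gen_surjective (syz A B M (j + 1)) y
    exact ⟨z, rfl⟩
  · rintro ⟨z, rfl⟩
    exact (exact_incl j _).mpr ⟨_, rfl⟩

theorem exact_diff_diff (j : ℕ) : Function.Exact (diff A (B := B) M (j + 1)) (diff A (B := B) M j) := fun x => by
  rw [show diff A (B := B) M j x = 0 ↔ gen (syz A B M (j + 1)) x = 0 from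
    ⟨fun h => incl_injective j (h.trans (map_zero _).symm), fun h => by simp [diff, h]⟩]
  exact exact_diff (j + 1) x

variable (A M) in
/-- The resolution. -/
noncomputable def cx : ChainComplex (ModuleCat.{u} B) ℕ :=
  ChainComplex.of (fun j => ModuleCat.of B (X A M j)) (fun j => ModuleCat.ofHom (diff A M j))
    (fun j => ModuleCat.hom_ext (LinearMap.ext fun x =>
      (exact_diff_diff (A := A) (B := B) (M := M) j _).mpr ⟨x, rfl⟩))

theorem cx_d (j : ℕ) : (cx A (B := B) M).d (j + 1) j = ModuleCat.ofHom (diff A M j) :=
  ChainComplex.of_d (fun j => ModuleCat.of B (X A M j)) (fun j => ModuleCat.ofHom (diff A M j)) j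

variable (A M) in
/-- The augmentation. -/
noncomputable def aug : (cx A (B := B) M).X 0 ⟶ ModuleCat.of B M :=
  ModuleCat.ofHom (gen (syz A B M 0))

theorem isRes : Groth.L28.Balance.IsRes (cx A (B := B) M) (aug A M) where
  surj := gen_surjective (syz A B M 0)
  exact₀ := by rw [cx_d]; exact exact_diff 0
  exact n := by rw [cx_d, cx_d]; exact exact_diff_diff n
  flat n := show Module.Flat B (Fin (num (syz A B M n)) → B) from Module.Flat.of_free

include A in
/-- The resolution as a projective resolution. -/
theorem exists_projectiveResolution : ∃ P : ProjectiveResolution (ModuleCat.of B M),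
    ∀ n : ℕ, Module.Finite B (P.complex.X n) ∧ Module.Free B (P.complex.X n) := by
  have hproj : ∀ n, CategoryTheory.Projective ((cx A (B := B) M).X n) := fun n =>
    (IsProjective.iff_projective _).mp (inferInstanceAs (Module.Projective B (Fin (num (syz A B M n)) → B)))
  have hd : (cx A (B := B) M).d 1 0 ≫ aug A M = 0 := by
    rw [cx_d]; ext x; exact (exact_diff 0 _).mpr ⟨x, rfl⟩
  let π : cx A (B := B) M ⟶ (ChainComplex.single₀ (ModuleCat.{u} B)).obj (ModuleCat.of B M) :=
    ((cx A (B := B) M).toSingle₀Equiv _).symm ⟨aug A M, hd⟩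
  have hπ : π.f 0 = aug A M := by simp [π]
  have hq : QuasiIso π := by
    refine Groth.L28.HomElt.quasiIso_of_bijective π fun j => ?_
    have hz : ∀ k, Subsingleton (((ChainComplex.single₀ (ModuleCat.{u} B)).obj (ModuleCat.of B M)).X (k + 1)) :=
      fun k => ModuleCat.subsingleton_of_isZero (HomologicalComplex.isZero_single_obj_X _ _ _ _ (Nat.succ_ne_zero k))
    have hp : (ComplexShape.down ℕ).prev j = j + 1 := (ComplexShape.down ℕ).prev_eq' rfl
    cases j with
    | zero =>
      haveI := hz 0
      refine ⟨(Groth.L28.HomElt.injective_homologyMap_iff π hp rfl).mpr fun x w _ he => ?_,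
        (Groth.L28.HomElt.surjective_homologyMap_iff π hp rfl).mpr fun y _ => ?_⟩
      · rw [Subsingleton.elim w 0, map_zero, hπ] at he
        obtain ⟨u, hu⟩ := (isRes.exact₀ x).mp he
        exact ⟨u, hu⟩
      · obtain ⟨x, hx⟩ := gen_surjective (syz A B M 0) y
        refine ⟨x, 0, by simp, ?_⟩
        rw [map_zero, add_zero, hπ]
        exact hx
    | succ k =>
      haveI := hz k
      haveI := hz (k + 1)
      have hn : (ComplexShape.down ℕ).next (k + 1) = k := (ComplexShape.down ℕ).next_eq' rfl
      refine ⟨(Groth.L28.HomElt.injective_homologyMap_iff π hp hn).mpr fun x w hx _ => ?_,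
        (Groth.L28.HomElt.surjective_homologyMap_iff π hp hn).mpr fun y _ =>
          ⟨0, 0, map_zero _, Subsingleton.elim _ _⟩⟩
      obtain ⟨u, hu⟩ := (isRes.exact k x).mp hx
      exact ⟨u, hu⟩
  exact ⟨{ complex := cx A M, projective := hproj, π := π, quasiIso := hq },
    fun n => ⟨inferInstanceAs (Module.Finite B (Fin (num (syz A B M n)) → B)),
      inferInstanceAs (Module.Free B (Fin (num (syz A B M n)) → B))⟩⟩

/-- The short exact sequence of a syzygy. -/
theorem shortExact (j : ℕ) :
    (ShortComplex.mk (ModuleCat.ofHom (incl A (B := B) M j)) (ModuleCat.ofHom (gen (syz A B M j)))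
      (by ext x; exact (exact_incl j _).mpr ⟨x, rfl⟩)).ShortExact where
  exact := (ShortComplex.moduleCat_exact_iff _).mpr fun x hx => (exact_incl j x).mp hx
  mono_f := (ModuleCat.mono_iff_injective _).mpr (incl_injective j)
  epi_g := (ModuleCat.epi_iff_surjective _).mpr (gen_surjective _)

theorem pdLT_iff_flat (j : ℕ) :
    HasProjectiveDimensionLT (ModuleCat.of B M) (j + 1) ↔ Module.Flat B (syz A B M j).K := by
  have key : ∀ j t : ℕ, HasProjectiveDimensionLT (ModuleCat.of B M) (j + t + 1) ↔
      HasProjectiveDimensionLT (ModuleCat.of B (syz A B M j).K) (t + 1) := by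
    intro j
    induction j with
    | zero => intro t; rw [Nat.zero_add]; rfl
    | succ j ih =>
      intro t
      rw [show j + 1 + t + 1 = j + (t + 1) + 1 by omega, ih (t + 1)]
      exact (shortExact j).hasProjectiveDimensionLT_X₃_iff t
        ((IsProjective.iff_projective _).mp (inferInstanceAs (Module.Projective B (Fin (num (syz A B M j)) → B))))
  rw [show j + 1 = j + 0 + 1 from rfl, key j 0, ← projective_iff_hasProjectiveDimensionLT_one,
    ← IsProjective.iff_projective]
  constructor
  · intro h; exact Module.Flat.of_projective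
  · intro h; exact Module.Flat.projective_of_finitePresentation

theorem isZero_tor_succ_iff (j : ℕ) (N : ModuleCat.{u} B) :
    IsZero (((CategoryTheory.Tor (ModuleCat.{u} B) (j + 1)).obj (ModuleCat.of B M)).obj N) ↔
      Function.Injective ((incl A (B := B) M j).rTensor N) := by
  obtain ⟨e⟩ := Groth.L28.TorFacts.nonempty_iso_left (N := N) (cx A M) (aug A M) isRes (j + 1)
  rw [e.isZero_iff, Groth.L28.HomElt.isZero_homology_iff (i := j + 2) (k := j)
    ((ComplexShape.down ℕ).prev_eq' rfl) ((ComplexShape.down ℕ).next_eq' rfl)]
  have hd : ∀ i (x : X A (B := B) M (i + 1) ⊗[B] N),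
      (((tensorRight N).mapHomologicalComplex (ComplexShape.down ℕ)).obj (cx A M)).d (i + 1) i x =
        (diff A M i).rTensor N x := fun i x => by
    show ((cx A (B := B) M).d (i + 1) i ▷ N) x = _
    rw [cx_d]; rfl
  constructor
  · intro h
    rw [injective_iff_map_eq_zero]
    intro y hy
    obtain ⟨x, rfl⟩ := LinearMap.rTensor_surjective (N : Type u) (gen_surjective (syz A B M (j + 1))) y
    have hx : (diff A M j).rTensor N x = 0 := by
      rw [diff, LinearMap.rTensor_comp, LinearMap.comp_apply, hy]
    obtain ⟨z, hz⟩ := h x ((hd j x).trans hx)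
    rw [← hz]
    have := hd (j + 1) z
    exact (congrArg ((gen (syz A B M (j + 1))).rTensor N) this).trans (by
      rw [← LinearMap.comp_apply, ← LinearMap.rTensor_comp,
        show gen (syz A B M (j + 1)) ∘ₗ diff A M (j + 1) = 0 from
          LinearMap.ext fun v => (exact_diff (j + 1) _).mpr ⟨v, rfl⟩,
        LinearMap.rTensor_zero, LinearMap.zero_apply])
  · intro h x hx
    have h1 : (gen (syz A B M (j + 1))).rTensor N x = 0 := h (by
      rw [map_zero, ← LinearMap.comp_apply, ← LinearMap.rTensor_comp]
      exact (hd j x).symm.trans hx)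
    obtain ⟨z, hz⟩ := (rTensor_exact (N : Type u) (exact_diff (A := A) (B := B) (M := M) (j + 1))
      (gen_surjective _) x).mp h1
    exact ⟨z, (hd (j + 1) z).trans hz⟩

theorem forall_isZero_tor_succ_iff (j : ℕ) :
    (∀ N : ModuleCat.{u} B,
      IsZero (((CategoryTheory.Tor (ModuleCat.{u} B) (j + 1)).obj (ModuleCat.of B M)).obj N)) ↔
      Module.Flat B (syz A B M j).K := by
  simp only [isZero_tor_succ_iff (A := A)]
  constructor
  · intro h
    exact Groth.L02.flat_of_exact_of_rTensor_quotient (incl A M j) (gen (syz A B M j)) (exact_incl j)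
      (gen_surjective _) fun I _ => h (ModuleCat.of B (B ⧸ I))
  · intro h N
    have h1 := LinearMap.lTensor_injective_of_exact_of_flat (P := (syz A B M j).K) (gen (syz A B M j))
      (gen_surjective _) (incl A M j) (incl_injective j) (exact_incl j) (N : Type u)
    intro a b hab
    refine (TensorProduct.comm B _ _).injective (h1 ?_)
    have hnat : ∀ v, (incl A (B := B) M j).lTensor N (TensorProduct.comm B _ _ v) =
        TensorProduct.comm B _ _ ((incl A (B := B) M j).rTensor N v) := fun v => by
      induction v using TensorProduct.induction_on with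
      | zero => simp
      | tmul a b => simp
      | add a b ha hb => simp [ha, hb]
    rw [hnat, hnat, hab]

include A in
theorem forall_isZero_tor_zero_iff :
    (∀ N : ModuleCat.{u} B,
      IsZero (((CategoryTheory.Tor (ModuleCat.{u} B) 0).obj (ModuleCat.of B M)).obj N)) ↔
      Subsingleton M := by
  have hiff : ∀ N : ModuleCat.{u} B,
      IsZero (((CategoryTheory.Tor (ModuleCat.{u} B) 0).obj (ModuleCat.of B M)).obj N) ↔
        Function.Surjective ((diff A (B := B) M 0).rTensor N) := by
    intro N
    obtain ⟨e⟩ := Groth.L28.TorFacts.nonempty_iso_left (N := N) (cx A (B := B) M) (aug A M) isRes 0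
    rw [e.isZero_iff, Groth.L28.HomElt.isZero_homology_iff (i := 1) (k := 0)
      ((ComplexShape.down ℕ).prev_eq' rfl) ChainComplex.next_nat_zero]
    have hd : ∀ x : X A (B := B) M 1 ⊗[B] N,
        (((tensorRight N).mapHomologicalComplex (ComplexShape.down ℕ)).obj (cx A M)).d 1 0 x =
          (diff A M 0).rTensor N x := fun x => by
      show ((cx A (B := B) M).d 1 0 ▷ N) x = _
      rw [cx_d]; rfl
    constructor
    · intro h y
      obtain ⟨x, hx⟩ := h y (by simp)
      exact ⟨x, (hd x).symm.trans hx⟩
    · intro h y _
      obtain ⟨x, hx⟩ := h y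
      exact ⟨x, (hd x).trans hx⟩
  simp only [hiff]
  constructor
  · intro h
    refine ⟨fun a b => ?_⟩
    suffices ∀ v : M, v = 0 by rw [this a, this b]
    intro v
    obtain ⟨x, rfl⟩ := gen_surjective (syz A B M 0) v
    obtain ⟨z, hz⟩ := h (ModuleCat.of B B) (x ⊗ₜ (1 : B))
    have h1 := congrArg (TensorProduct.rid B _) hz
    have hnat : ∀ z, TensorProduct.rid B _ ((diff A (B := B) M 0).rTensor B z) =
        diff A M 0 (TensorProduct.rid B _ z) := fun z => by
      induction z using TensorProduct.induction_on with
      | zero => simp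
      | tmul a b => simp
      | add a b ha hb => simp [ha, hb]
    erw [hnat, TensorProduct.rid_tmul, one_smul] at h1
    exact (exact_diff 0 x).mpr ⟨_, h1⟩
  · intro h N
    refine LinearMap.rTensor_surjective (N : Type u) fun y => ?_
    exact (exact_diff 0 y).mp (Subsingleton.elim (α := M) _ _)

include A in
theorem pdLT_iff_tor (i : ℕ) :
    HasProjectiveDimensionLT (ModuleCat.of B M) i ↔ ∀ N : ModuleCat.{u} B,
      IsZero (((CategoryTheory.Tor (ModuleCat.{u} B) i).obj (ModuleCat.of B M)).obj N) := by
  cases i with
  | zero =>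
    rw [forall_isZero_tor_zero_iff (A := A), hasProjectiveDimensionLT_zero_iff_isZero,
      ModuleCat.isZero_iff_subsingleton]
  | succ j => rw [forall_isZero_tor_succ_iff (A := A), pdLT_iff_flat (A := A)]

end Res

theorem projectiveDimension_le_of_forall {C : Type*} [Category C] [Abelian C] (X : C) (c : WithBot ℕ∞)
    (h : ∀ i : ℕ, c < i → HasProjectiveDimensionLT X i) : projectiveDimension X ≤ c :=
  sInf_le h

end Groth.L07.SyzygyRes
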