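import Groth.Agent.L07.DiagRes
import Groth.Agent.L07.FibreRes
import Groth.Agent.L20.LocalCriterion
import Mathlib.RingTheory.Regular.ProjectiveDimension

/-! Tor over the base of modules finite over a flat algebra. -/

namespace Groth.L07.TorFlat

open CategoryTheory CategoryTheory.Limits MonoidalCategory TensorProduct Groth.L07.DiagRes

set_option linter.style.haveILetI false
set_option maxSynthPendingDepth 3

universe u

variable {A C : Type u} [CommRing A] [CommRing C] [Algebra A C] [IsNoetherianRing C] [Module.Flat A C]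
  (M : Type u) [AddCommGroup M] [Module C M] [Module A M] [IsScalarTower A C M] [Module.Finite C M]

theorem isZero_tor_iff (n : ℕ) (N : ModuleCat.{u} A) :
    IsZero (((CategoryTheory.Tor (ModuleCat.{u} A) (n + 1)).obj (ModuleCat.of A M)).obj N) ↔
      Function.Injective (((Z (E := C) M n).subtype.restrictScalars A).rTensor N) := by
  let X : ℕ → ModuleCat.{u} A := fun j => ModuleCat.of A (F (E := C) M j)
  let D : ∀ j, X (j + 1) ⟶ X j := fun j => ModuleCat.ofHom ((d (E := C) M j).restrictScalars A)
  have hdd : ∀ j, d (E := C) M j ∘ₗ d M (j + 1) = 0 := fun j => by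
    refine LinearMap.ext fun x => ?_
    have : d (E := C) M (j + 1) x ∈ LinearMap.ker (d (E := C) M j) := by
      rw [ker_d, ← range_d]; exact ⟨x, rfl⟩
    exact this
  let P : ChainComplex (ModuleCat.{u} A) ℕ := ChainComplex.of X D (fun j => ModuleCat.hom_ext
    (LinearMap.ext fun x => LinearMap.congr_fun (hdd j) x))
  have hd : ∀ j, P.d (j + 1) j = D j := fun j => ChainComplex.of_d X D j
  have hexd : ∀ j, Function.Exact (d (E := C) M (j + 1)) (d M j) := fun j =>
    LinearMap.exact_iff.mpr ((ker_d M j).trans (range_d M (j + 1)).symm)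
  have hP : Groth.L28.Balance.IsRes P
      (ModuleCat.ofHom ((eps (E := C) M).restrictScalars A) : P.X 0 ⟶ ModuleCat.of A M) := by
    refine ⟨eps_surjective M, ?_, fun j => ?_, fun j => ?_⟩
    · rw [hd]
      show Function.Exact (d (E := C) M 0) (eps (E := C) M)
      exact LinearMap.exact_iff.mpr ((ker_eps (E := C) M).trans (range_d M 0).symm)
    · rw [hd, hd]
      exact hexd j
    · exact (Module.Flat.trans A C _ : Module.Flat A (F (E := C) M j))
  obtain ⟨e⟩ := Groth.L28.TorFacts.nonempty_iso_left (N := N) P _ hP (n + 1)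
  rw [e.isZero_iff, Groth.L28.HomElt.isZero_homology_iff (i := n + 2) (k := n)
    ((ComplexShape.down ℕ).prev_eq' rfl) ((ComplexShape.down ℕ).next_eq' rfl)]
  have hdT : ∀ (j : ℕ) (v : (F (E := C) M (j + 1)) ⊗[A] N),
      (((MonoidalCategory.tensorRight N).mapHomologicalComplex (ComplexShape.down ℕ)).obj P).d (j + 1) j v =
        ((d (E := C) M j).restrictScalars A).rTensor N v := by
    intro j v
    rw [Functor.mapHomologicalComplex_obj_d, hd]
    rfl
  let c : F (E := C) M (n + 1) →ₗ[C] ↥(Z (E := C) M n) :=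
    (d M n).codRestrict _ fun x => (range_d (E := C) M n).le ⟨x, rfl⟩
  have hc : Function.Surjective (c.restrictScalars A) := fun z => by
    obtain ⟨x, hx⟩ := (range_d M n).ge z.2
    exact ⟨x, Subtype.ext hx⟩
  have hexc : Function.Exact ((d (E := C) M (n + 1)).restrictScalars A) (c.restrictScalars A) := fun x => by
    refine Iff.trans ?_ (hexd n x)
    exact Subtype.ext_iff
  have hdc : ∀ v, ((d (E := C) M n).restrictScalars A).rTensor N v =
      ((Z (E := C) M n).subtype.restrictScalars A).rTensor N ((c.restrictScalars A).rTensor N v) := fun v => by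
    rw [← LinearMap.rTensor_comp_apply]
    rfl
  constructor
  · intro h
    rw [injective_iff_map_eq_zero]
    intro y hy
    obtain ⟨x, rfl⟩ := LinearMap.rTensor_surjective (N : Type u) hc y
    obtain ⟨z, hz⟩ := h x ((hdT n x).trans ((hdc x).trans hy))
    rw [hdT] at hz
    rw [← hz]
    exact (rTensor_exact (N : Type u) hexc hc).apply_apply_eq_zero z
  · intro h x hx
    rw [hdT, hdc] at hx
    obtain ⟨z, hz⟩ := (rTensor_exact (N : Type u) hexc hc x).mp ((injective_iff_map_eq_zero _).mp h _ hx)
    exact ⟨z, (hdT (n + 1) z).trans hz⟩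

/-- The syzygy modules. -/
abbrev Q (n : ℕ) : Type u := F (E := C) M n ⧸ Z (E := C) M n

omit [Module A M] [IsScalarTower A C M] in
theorem flat_Z (n : ℕ) (h : Module.Flat A (Q (C := C) M n)) : Module.Flat A (Z (E := C) M n) := by
  haveI := h
  haveI : Module.Flat A (F (E := C) M n) := Module.Flat.trans A C _
  haveI := Groth.L07.FlatDescent.flat_ker ((Z (E := C) M n).mkQ.restrictScalars A) (Submodule.mkQ_surjective _)
  let K := LinearMap.ker ((Z (E := C) M n).mkQ.restrictScalars A)
  let e : ↥(Z (E := C) M n) ≃ₗ[A] ↥K :=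
    { toFun := fun x => ⟨x.1, (Submodule.Quotient.mk_eq_zero _).mpr x.2⟩
      invFun := fun x => ⟨x.1, (Submodule.Quotient.mk_eq_zero _).mp x.2⟩
      map_add' := fun _ _ => rfl
      map_smul' := fun _ _ => rfl
      left_inv := fun _ => rfl
      right_inv := fun _ => rfl }
  exact Module.Flat.of_linearEquiv e

theorem isZero_tor_of_flat (n : ℕ) (h : Module.Flat A (Q (C := C) M n)) :
    ∀ p, n < p → ∀ N : ModuleCat.{u} A,
      IsZero (((CategoryTheory.Tor (ModuleCat.{u} A) p).obj (ModuleCat.of A M)).obj N) := by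
  have hstep : ∀ k, Module.Flat A (Q (C := C) M (n + k)) := by
    intro k
    induction k with
    | zero => exact h
    | succ k ih =>
      obtain ⟨e⟩ := stepEquiv (E := C) M (n + k)
      haveI := flat_Z M (n + k) ih
      exact Module.Flat.of_linearEquiv (e.restrictScalars A)
  intro p hp N
  obtain ⟨k, rfl⟩ : ∃ k, p = n + k + 1 := ⟨p - n - 1, by omega⟩
  rw [isZero_tor_iff (C := C)]
  haveI := hstep k
  let P := Q (C := C) M (n + k)
  have h1 := LinearMap.lTensor_injective_of_exact_of_flat (P := P) ((Z (E := C) M (n + k)).mkQ.restrictScalars A)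
    (Submodule.mkQ_surjective _) ((Z (E := C) M (n + k)).subtype.restrictScalars A) Subtype.val_injective
    (LinearMap.exact_subtype_mkQ _) (N : Type u)
  exact (LinearMap.lTensor_inj_iff_rTensor_inj (N : Type u) _).mp h1

theorem hasTorDimLE_of_flat (n : ℕ) (h : Module.Flat A (Q (C := C) M n)) : DRing.HasTorDimLE A n M := by
  intro N _ _ p hp
  exact ModuleCat.subsingleton_of_isZero (isZero_tor_of_flat M n h p hp (ModuleCat.of A N))

/-- The local criterion for a syzygy. -/
theorem flat_of_tor_residue [IsLocalRing A] [IsNoetherianRing A] [IsLocalRing C]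
    [IsLocalHom (algebraMap A C)] (n : ℕ) (κ : Type u) [AddCommGroup κ] [Module A κ]
    (e : κ ≃ₗ[A] A ⧸ IsLocalRing.maximalIdeal A)
    (h : IsZero (((CategoryTheory.Tor (ModuleCat.{u} A) (n + 1)).obj (ModuleCat.of A M)).obj (ModuleCat.of A κ))) :
    Module.Flat A (Q (C := C) M n) := by
  rw [isZero_tor_iff (C := C)] at h
  let m := IsLocalRing.maximalIdeal A
  let Fn := F (E := C) M n
  let ι : ↥(Z (E := C) M n) →ₗ[A] Fn := (Z (E := C) M n).subtype.restrictScalars A
  let π : Fn →ₗ[A] Q (C := C) M n := (Z (E := C) M n).mkQ.restrictScalars A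
  haveI : Module.Flat A Fn := Module.Flat.trans A C _
  have hk : Function.Injective (ι.rTensor (A ⧸ m)) := by
    have hnat : ∀ v, (ι.rTensor (A ⧸ m)) (e.toLinearMap.lTensor _ v) = e.toLinearMap.lTensor _ (ι.rTensor κ v) := by
      intro v
      rw [← LinearMap.comp_apply, ← LinearMap.comp_apply, LinearMap.rTensor_comp_lTensor, LinearMap.lTensor_comp_rTensor]
    intro a b hab
    obtain ⟨a, rfl⟩ := LinearMap.lTensor_surjective _ e.surjective a
    obtain ⟨b, rfl⟩ := LinearMap.lTensor_surjective _ e.surjective b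
    rw [hnat, hnat] at hab
    rw [h ((LinearEquiv.lTensor _ e).injective hab)]
  refine Groth.L20.flat_of_lTensor_maximalIdeal_injective C ?_
  rw [injective_iff_map_eq_zero]
  intro w hw
  obtain ⟨v, rfl⟩ := LinearMap.rTensor_surjective (↥m) (show Function.Surjective π from Submodule.mkQ_surjective _) w
  have hcomm : ∀ v : Fn ⊗[A] ↥m, TensorProduct.rid A _ (m.subtype.lTensor _ (π.rTensor ↥m v)) =
      π (TensorProduct.rid A Fn (m.subtype.lTensor Fn v)) := by
    intro v
    induction v using TensorProduct.induction_on with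
    | zero => simp
    | tmul a b => simp
    | add a b ha hb => simp only [map_add, ha, hb]
  have hmk : ∀ v : Fn ⊗[A] ↥m,
      (TensorProduct.rid A Fn (m.subtype.lTensor Fn v)) ⊗ₜ[A] (Submodule.Quotient.mk 1 : A ⧸ m) = 0 := by
    intro v
    induction v using TensorProduct.induction_on with
    | zero => simp
    | tmul a b =>
      simp only [LinearMap.lTensor_tmul, TensorProduct.rid_tmul, TensorProduct.smul_tmul, Submodule.subtype_apply]
      rw [← Submodule.Quotient.mk_smul, smul_eq_mul, mul_one, (Submodule.Quotient.mk_eq_zero _).mpr b.2,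
        TensorProduct.tmul_zero]
    | add a b ha hb => simp only [map_add, TensorProduct.add_tmul, ha, hb, add_zero]
  have hv : π (TensorProduct.rid A Fn (m.subtype.lTensor Fn v)) = 0 := by
    rw [← hcomm v]
    exact (congrArg _ hw).trans (map_zero _)
  let z : ↥(Z (E := C) M n) := ⟨_, (Submodule.Quotient.mk_eq_zero _).mp hv⟩
  have hz : z ⊗ₜ[A] (Submodule.Quotient.mk 1 : A ⧸ m) = 0 := by
    refine hk ?_
    rw [map_zero, LinearMap.rTensor_tmul]
    exact hmk v
  have hex := lTensor_exact ↥(Z (E := C) M n) (LinearMap.exact_subtype_mkQ m) (Submodule.mkQ_surjective m)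
  obtain ⟨u, hu⟩ := (hex (z ⊗ₜ[A] (1 : A))).mp (by rw [LinearMap.lTensor_tmul]; exact hz)
  have heq : v = ι.rTensor ↥m u := by
    refine Module.Flat.lTensor_preserves_injective_linearMap _ m.injective_subtype ?_
    refine (TensorProduct.rid A Fn).injective ?_
    rw [← LinearMap.comp_apply (m.subtype.lTensor Fn) (ι.rTensor ↥m), LinearMap.lTensor_comp_rTensor,
      ← LinearMap.rTensor_comp_lTensor, LinearMap.comp_apply, hu, LinearMap.rTensor_tmul,
      TensorProduct.rid_tmul, one_smul]
    rfl
  rw [heq, ← LinearMap.rTensor_comp_apply]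
  have h0 : π ∘ₗ ι = 0 := LinearMap.ext fun y => (Submodule.Quotient.mk_eq_zero _).mpr y.2
  rw [h0, LinearMap.rTensor_zero, LinearMap.zero_apply]

omit [Module.Flat A C] [Module A M] [IsScalarTower A C M] in
/-- A resolution from a resolution of a syzygy. -/
theorem res_of_res_Q (n k : ℕ) (h : Res C k (Q (C := C) M n)) : Res C (n + k) M := by
  let e₁ : Q (C := C) M 0 ≃ₗ[C] M := Submodule.quotEquivOfEq _ _ (ker_eps (E := C) M).symm ≪≫ₗ
    (eps (E := C) M).quotKerEquivOfSurjective (eps_surjective M)
  refine res_of_equiv e₁ ?_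
  induction n generalizing k with
  | zero => rwa [Nat.zero_add]
  | succ n ih =>
    rw [show n + 1 + k = n + (k + 1) by omega]
    refine ih (k + 1) ?_
    obtain ⟨e⟩ := stepEquiv (E := C) M n
    exact ⟨_, (Z (E := C) M n).mkQ, Submodule.mkQ_surjective _,
      res_of_equiv (e ≪≫ₗ LinearEquiv.ofEq _ _ (Submodule.ker_mkQ _).symm) h⟩

omit [Module.Flat A C] [Module A M] [IsScalarTower A C M] in
/-- Finite projective dimension makes a syzygy projective. -/
theorem projective_Q (n : ℕ) (h : HasProjectiveDimensionLT (ModuleCat.of C M) (n + 1)) :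
    Module.Projective C (Q (C := C) M n) := by
  have key : ∀ i j, i + j = n → HasProjectiveDimensionLT (ModuleCat.of C (Q (C := C) M i)) (j + 1) := by
    intro i
    induction i with
    | zero =>
      intro j hj
      obtain rfl : j = n := by omega
      exact @hasProjectiveDimensionLT_of_iso _ _ _ _ _ (Submodule.quotEquivOfEq _ _ (ker_eps (E := C) M).symm ≪≫ₗ
        (eps (E := C) M).quotKerEquivOfSurjective (eps_surjective M)).symm.toModuleIso _ h
    | succ i ih =>
      intro j hj
      have hi := ih (j + 1) (by omega)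
      obtain ⟨e⟩ := stepEquiv (E := C) M i
      have hS : (ShortComplex.mk (ModuleCat.ofHom (Z (E := C) M i).subtype)
          (ModuleCat.ofHom (Z (E := C) M i).mkQ) (ModuleCat.hom_ext (LinearMap.ext fun x =>
            (Submodule.Quotient.mk_eq_zero _).mpr x.2))).ShortExact :=
        { exact := (ShortComplex.moduleCat_exact_iff _).mpr fun x hx =>
            ⟨⟨x, (Submodule.Quotient.mk_eq_zero _).mp hx⟩, rfl⟩
          mono_f := (ModuleCat.mono_iff_injective _).mpr Subtype.val_injective
          epi_g := (ModuleCat.epi_iff_surjective _).mpr (Submodule.mkQ_surjective _) }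
      have h1 := (hS.hasProjectiveDimensionLT_X₃_iff j ((IsProjective.iff_projective _).mp
        (inferInstanceAs (Module.Projective C (F (E := C) M i))))).mp hi
      exact @hasProjectiveDimensionLT_of_iso _ _ _ _ _ e.symm.toModuleIso _ h1
  have h2 := key n 0 rfl
  rw [← projective_iff_hasProjectiveDimensionLT_one] at h2
  exact (IsProjective.iff_projective _).mpr h2

theorem hasFiniteTorDim_of_pd (n : ℕ) (h : HasProjectiveDimensionLT (ModuleCat.of C M) (n + 1)) :
    DRing.HasFiniteTorDim A M := by
  haveI := projective_Q M n h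
  haveI : Module.Flat C (Q (C := C) M n) := Module.Flat.of_projective
  exact ⟨n, hasTorDimLE_of_flat (C := C) M n (Module.Flat.trans A C _)⟩

end Groth.L07.TorFlat
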