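import Groth.Agent.L07.TransSeq
import Groth.Agent.L07.RegImmDescent
import Groth.Agent.L14.RegImmStalk.Kinds
import Mathlib.RingTheory.LocalRing.Module
import Mathlib.RingTheory.Flat.FaithfullyFlat.Algebra
import Mathlib.RingTheory.LocalRing.RingHom.Basic

/-!
Transversal regularity from quasi-regularity of the fibre, in algebras of finite presentation.
-/

set_option autoImplicit false
set_option linter.style.haveILetI false
set_option maxSynthPendingDepth 3

universe u

open TensorProduct RingTheory.Sequence

namespace Groth.L07.TransSeq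

section Local

variable {R : Type u} [CommRing R] [IsLocalRing R]

/-- A generating set contains no more than the needed number of generators. -/
theorem exists_subset_generators {I : Ideal R} {G : Set R} (hG : Ideal.span G = I) {h : List R}
    (hh : Ideal.ofList h = I) : ∃ t : List R, (∀ x ∈ t, x ∈ G) ∧ t.length ≤ h.length ∧ Ideal.ofList t = I := by
  classical
  have hfg : I.FG := hh ▸ Submodule.fg_span (List.finite_toSet _)
  haveI : Module.Finite R I := Module.Finite.of_fg hfg
  let k := IsLocalRing.ResidueField R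
  let V := k ⊗[R] I
  haveI : Module.Finite k V := inferInstance
  let G' : Set I := {x | (x : R) ∈ G}
  have hG' : Submodule.span R G' = ⊤ := by
    apply Submodule.map_injective_of_injective (f := I.subtype) Subtype.val_injective
    rw [Submodule.map_span, Submodule.map_top, Submodule.range_subtype]
    conv_rhs => rw [← hG]
    congr 1
    ext x
    exact ⟨fun ⟨y, hy, e⟩ => e ▸ hy, fun hx => ⟨⟨x, hG ▸ Ideal.subset_span hx⟩, hx, rfl⟩⟩
  have hmk : ∀ T : Set I, Submodule.span R T = ⊤ →
      Submodule.span k ((TensorProduct.mk R k I 1) '' T) = ⊤ := by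
    intro T hT
    have h1 := congrArg (Submodule.map (TensorProduct.mk R k I 1)) hT
    rw [Submodule.map_span, IsLocalRing.map_tensorProduct_mk_eq_top.2 rfl] at h1
    rw [← Submodule.restrictScalars_eq_top_iff R, Submodule.restrictScalars_span R k
      Ideal.Quotient.mk_surjective, h1]
  obtain ⟨b, hb, hbspan, hbind⟩ := exists_linearIndependent k ((TensorProduct.mk R k I 1) '' G')
  rw [hmk G' hG'] at hbspan
  have hbfin : b.Finite := hbind.setFinite
  haveI := hbfin.fintype
  have hcard : Fintype.card b ≤ h.length := by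
    have h1 : Fintype.card b = Module.finrank k V := by
      have hbase := Module.Basis.mk hbind (by rw [Subtype.range_coe]; exact hbspan.ge)
      rw [Module.finrank_eq_card_basis hbase]
    let hv : Fin h.length → I := fun i => ⟨h.get i, hh ▸ Ideal.subset_span (List.get_mem h i)⟩
    have hhspan : Submodule.span R (Set.range hv) = ⊤ := by
      apply Submodule.map_injective_of_injective (f := I.subtype) Subtype.val_injective
      rw [Submodule.map_span, Submodule.map_top, Submodule.range_subtype, ← Set.range_comp]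
      conv_rhs => rw [← hh]
      show Ideal.span (Set.range h.get) = _
      rw [Set.range_list_get]
    have h2 : Module.finrank k V ≤ h.length := by
      have h3 := hmk _ hhspan
      rw [← Set.range_comp] at h3
      have h4 := finrank_range_le_card (R := k) (b := (TensorProduct.mk R k I 1) ∘ hv)
      rw [Set.finrank, h3, finrank_top, Fintype.card_fin] at h4
      exact h4
    omega
  choose lift hlift using fun x : b => hb x.2
  refine ⟨(Finset.univ.toList.map fun x : b => (lift x : R)), ?_, ?_, ?_⟩
  · intro x hx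
    obtain ⟨y, -, rfl⟩ := List.mem_map.1 hx
    exact (hlift y).1
  · simpa using hcard
  · have h1 : Submodule.span R (Set.range lift) = ⊤ := by
      rw [← IsLocalRing.map_tensorProduct_mk_eq_top, Submodule.map_span, ← Set.range_comp,
        ← Submodule.restrictScalars_span R k Ideal.Quotient.mk_surjective,
        Submodule.restrictScalars_eq_top_iff]
      rw [show (TensorProduct.mk R k I 1) ∘ lift = Subtype.val from funext fun x => (hlift x).2,
        Subtype.range_coe]
      exact hbspan
    have h2 := congrArg (Submodule.map I.subtype) h1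
    rw [Submodule.map_span, Submodule.map_top, Submodule.range_subtype, ← Set.range_comp] at h2
    refine (congrArg Ideal.span ?_).trans h2
    ext x
    simp

end Local

variable {A B : Type u} [CommRing A] [CommRing B] [Algebra A B] (q : Ideal B) [q.IsPrime]
  (A' : Type u) [Field A'] [Algebra A A'] (P : Ideal (A' ⊗[A] B)) [P.IsPrime]

/-- Weak regularity on the fibre descends from an extension of the residue field. -/
theorem fibre_descend
    (hP : P.comap (Algebra.TensorProduct.includeRight (R := A) (A := A') (B := B)) = q) (l : List B)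
    (h : IsWeaklyRegular (Localization.AtPrime P) (l.map fun b =>
      algebraMap (A' ⊗[A] B) (Localization.AtPrime P) ((1 : A') ⊗ₜ[A] b))) :
    IsWeaklyRegular
      (LocalizedModule q.primeCompl (B ⊗[A] (q.comap (algebraMap A B)).ResidueField)) l := by
  let p := q.comap (algebraMap A B)
  let κ := p.ResidueField
  let S := B ⊗[A] κ
  let M := Algebra.algebraMapSubmonoid S q.primeCompl
  let L := Localization M
  let L' := Localization.AtPrime P
  have hker : p = RingHom.ker (algebraMap A A') := by
    have h1 : (P.comap (algebraMap A' (A' ⊗[A] B))) = ⊥ :=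
      (Ideal.eq_bot_or_top _).resolve_right (Ideal.IsPrime.ne_top inferInstance)
    show q.comap (algebraMap A B) = _
    rw [← hP, RingHom.ker_eq_comap_bot, ← h1]
    ext a
    simp only [Ideal.mem_comap]
    rw [AlgHom.commutes, IsScalarTower.algebraMap_apply A A' (A' ⊗[A] B)]
  let σ : κ →ₐ[A] A' := Ideal.ResidueField.liftₐ p (Algebra.ofId A A') hker.le fun a ha => by
    rw [Submonoid.mem_comap]
    exact isUnit_iff_ne_zero.2 fun h => ha (hker.ge h)
  letI : Algebra κ A' := σ.toRingHom.toAlgebra
  haveI : IsScalarTower A κ A' := IsScalarTower.of_algebraMap_eq fun a => (σ.commutes a).symm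
  let φ : S →+* A' ⊗[A] B :=
    ((Algebra.TensorProduct.cancelBaseChange A κ A' A' B).toRingEquiv.toRingHom.comp
      ((Algebra.TensorProduct.comm κ (κ ⊗[A] B) A').toRingEquiv.toRingHom.comp
        (algebraMap (κ ⊗[A] B) ((κ ⊗[A] B) ⊗[κ] A')))).comp
      (Algebra.TensorProduct.comm A B κ).toRingEquiv.toRingHom
  have hφ : ∀ b : B, φ (algebraMap B S b) = (1 : A') ⊗ₜ[A] b := fun b => by
    simp [φ, S, Algebra.TensorProduct.algebraMap_apply]
  have hφflat : φ.Flat :=
    RingHom.Flat.comp (RingHom.Flat.of_bijective (Algebra.TensorProduct.comm A B κ).toRingEquiv.bijective)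
      (RingHom.Flat.comp (RingHom.Flat.comp (RingHom.flat_algebraMap_iff.mpr inferInstance)
        (RingHom.Flat.of_bijective (Algebra.TensorProduct.comm κ (κ ⊗[A] B) A').toRingEquiv.bijective))
        (RingHom.Flat.of_bijective (Algebra.TensorProduct.cancelBaseChange A κ A' A' B).toRingEquiv.bijective))
  let χ : S →+* L' := (algebraMap (A' ⊗[A] B) L').comp φ
  have hunit : ∀ t : M, IsUnit (χ t) := by
    rintro ⟨_, t, ht, rfl⟩
    show IsUnit (algebraMap (A' ⊗[A] B) L' (φ (algebraMap B S t)))
    rw [hφ]
    exact IsLocalization.map_units L' (⟨_, fun h => ht (hP ▸ h)⟩ : P.primeCompl)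
  let ψ : L →+* L' := IsLocalization.lift (M := M) (g := χ) hunit
  have hψ : ∀ s, ψ (algebraMap S L s) = χ s := fun s => IsLocalization.lift_eq hunit s
  haveI hloc : IsLocalHom ψ := ⟨fun x hx => by
    obtain ⟨n, m, rfl⟩ := IsLocalization.exists_mk'_eq M x
    have hn : IsUnit (χ n) := by
      rw [← hψ, ← IsLocalization.mk'_spec L n m, map_mul, hψ]
      exact hx.mul (hunit m)
    obtain ⟨r, hr, b, hb⟩ := exists_frac (A := A) (B := B) (p := p) n
    have hu : IsUnit (((1 : B) ⊗ₜ[A] algebraMap A κ r) : S) :=
      IsUnit.map (Algebra.TensorProduct.includeRight (R := A) (A := B) (B := κ))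
        (isUnit_iff_ne_zero.2 fun h => hr (Ideal.algebraMap_residueField_eq_zero.1 h))
    have hb' : b ∉ q := fun hbq => by
      have h1 : IsUnit (χ (algebraMap B S b)) := by
        rw [show algebraMap B S b = n * ((1 : B) ⊗ₜ[A] algebraMap A κ r) from hb.symm, map_mul]
        exact hn.mul (hu.map χ)
      rw [show χ (algebraMap B S b) = algebraMap _ L' ((1 : A') ⊗ₜ[A] b) from congrArg (algebraMap _ L') (hφ b)] at h1
      exact (IsLocalization.AtPrime.isUnit_to_map_iff L' P _).1 h1 (by
        rw [← hP] at hbq; exact hbq)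
    have h2 : IsUnit (algebraMap S L (n * ((1 : B) ⊗ₜ[A] algebraMap A κ r))) := by
      rw [show n * ((1 : B) ⊗ₜ[A] algebraMap A κ r) = algebraMap B S b from hb]
      exact IsLocalization.map_units L (⟨algebraMap B S b, ⟨b, hb', rfl⟩⟩ : M)
    rw [map_mul] at h2
    have h3 : IsUnit (algebraMap S L n) := isUnit_of_mul_isUnit_left h2
    rw [← IsLocalization.mk'_spec L n m] at h3
    exact isUnit_of_mul_isUnit_left h3⟩
  haveI : IsLocalRing L := ψ.domain_isLocalRing
  letI : Algebra L L' := ψ.toAlgebra
  letI : Algebra S L' := χ.toAlgebra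
  haveI : IsScalarTower S L L' := IsScalarTower.of_algebraMap_eq fun s => (hψ s).symm
  haveI : IsLocalHom (algebraMap L L') := hloc
  haveI : Module.Flat S L' :=
    RingHom.Flat.comp hφflat (RingHom.flat_algebraMap_iff.mpr (IsLocalization.flat L' P.primeCompl))
  haveI : Module.Flat L L' := (Module.flat_iff_of_isLocalization L M L').2 inferInstance
  haveI : Module.FaithfullyFlat L L' := Module.FaithfullyFlat.of_flat_of_isLocalHom
  haveI := isLocalizedModule_submonoid q S L
  refine ((IsLocalizedModule.iso q.primeCompl (IsScalarTower.toAlgHom B S L).toLinearMap).isWeaklyRegular_congr l).mpr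
    ((isWeaklyRegular_map_algebraMap_iff L L l).mp ?_)
  rw [isWeaklyRegular_iff_elem] at h ⊢
  intro i hi y hy
  rw [List.length_map] at hi
  have hmap : ∀ m : List B, Ideal.ofList (m.map fun b => algebraMap (A' ⊗[A] B) L' ((1 : A') ⊗ₜ[A] b)) =
      (Ideal.ofList (m.map (algebraMap B L))).map ψ := fun m => by
    rw [Ideal.map_ofList, List.map_map]
    congr 1
    refine List.map_congr_left fun b _ => ?_
    rw [Function.comp_apply, IsScalarTower.algebraMap_apply B S L, hψ]
    exact congrArg _ (hφ b).symm
  rw [List.getElem_map, ← List.map_take] at hy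
  rw [← List.map_take, ← Ideal.comap_map_eq_self_of_faithfullyFlat (B := L') (Ideal.ofList _), Ideal.mem_comap]
  have h1 := h i (by simpa using hi) (ψ y)
  rw [List.getElem_map, ← List.map_take, hmap] at h1
  refine h1 ?_
  have h2 := Ideal.mem_map_of_mem ψ hy
  rw [map_mul, IsScalarTower.algebraMap_apply B S L, hψ] at h2
  rw [← hφ]
  exact h2

/-- Generators on the fibre generate near the point, the quotient being flat. -/
theorem exists_notMem_le
    (hP : P.comap (Algebra.TensorProduct.includeRight (R := A) (A := A') (B := B)) = q)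
    {K : Ideal B} (hK : K.FG) [Module.Flat A (B ⧸ K)] (l : List B) (hl : ∀ b ∈ l, b ∈ K)
    (h : K.map ((algebraMap (A' ⊗[A] B) (Localization.AtPrime P)).comp
        (Algebra.TensorProduct.includeRight (R := A) (A := A') (B := B)).toRingHom) ≤
      Ideal.ofList (l.map fun b => algebraMap (A' ⊗[A] B) (Localization.AtPrime P) ((1 : A') ⊗ₜ[A] b))) :
    ∃ g ∉ q, ∀ x ∈ K, g * x ∈ Ideal.ofList l := by
  classical
  let T : Submodule B K := Submodule.comap K.subtype (Ideal.ofList l)
  let W := K ⧸ T
  haveI : Module.Finite B K := Module.Finite.of_fg hK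
  haveI : Module.Finite B W := Module.Finite.of_surjective T.mkQ T.mkQ_surjective
  letI aP : Algebra B P.ResidueField :=
    ((algebraMap (A' ⊗[A] B) P.ResidueField).comp
      (Algebra.TensorProduct.includeRight (R := A) (A := A') (B := B)).toRingHom).toAlgebra
  have haP : ∀ (b : B) (c : P.ResidueField), b • c =
      algebraMap (A' ⊗[A] B) P.ResidueField ((1 : A') ⊗ₜ[A] b) * c := fun b c => Algebra.smul_def b c
  let ι : K →ₗ[A] B := K.subtype.restrictScalars A
  let π : B →ₗ[A] B ⧸ K := (Submodule.mkQ K).restrictScalars A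
  have hinj := LinearMap.lTensor_injective_of_exact_of_flat (P := B ⧸ K) π K.mkQ_surjective ι
    Subtype.val_injective (LinearMap.exact_subtype_mkQ K) A'
  let θ : K → W := T.mkQ
  let Φ : A' ⊗[A] K →+ P.ResidueField ⊗[B] W :=
    TensorProduct.liftAddHom
      { toFun := fun a =>
          { toFun := fun k => algebraMap (A' ⊗[A] B) P.ResidueField (a ⊗ₜ[A] 1) ⊗ₜ[B] θ k
            map_zero' := by simp [θ]
            map_add' := fun x y => by simp [θ, TensorProduct.tmul_add] }
        map_zero' := by ext; simp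
        map_add' := fun x y => by ext k; simp only [map_add, TensorProduct.add_tmul]; rfl }
      (fun r a k => by
        show algebraMap (A' ⊗[A] B) P.ResidueField ((r • a) ⊗ₜ[A] 1) ⊗ₜ[B] θ k =
          algebraMap (A' ⊗[A] B) P.ResidueField (a ⊗ₜ[A] 1) ⊗ₜ[B] θ (r • k)
        rw [show θ (r • k) = algebraMap A B r • θ k by
          show T.mkQ (r • k) = _; rw [← algebraMap_smul B r k, map_smul],
          ← TensorProduct.smul_tmul (algebraMap A B r), haP, ← map_mul, Algebra.TensorProduct.tmul_mul_tmul,
          one_mul, mul_one, TensorProduct.smul_tmul r, Algebra.algebraMap_eq_smul_one (A := B) r])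
  have hΦ : ∀ a k, Φ (a ⊗ₜ k) = algebraMap (A' ⊗[A] B) P.ResidueField (a ⊗ₜ[A] 1) ⊗ₜ[B] θ k := fun _ _ => rfl
  have hone : ∀ x : K, Φ ((1 : A') ⊗ₜ x) = (1 : P.ResidueField) ⊗ₜ[B] θ x := fun x => by
    rw [hΦ, ← Algebra.TensorProduct.one_def, map_one]
  -- multiplication by the fibre ring
  have hmul : ∀ (s : A' ⊗[A] B) (x : K), ∃ z : A' ⊗[A] K, ι.lTensor A' z = s * ((1 : A') ⊗ₜ[A] (x : B)) ∧
      Φ z = algebraMap (A' ⊗[A] B) P.ResidueField s ⊗ₜ[B] θ x := by
    intro s x
    induction s using TensorProduct.induction_on with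
    | zero => exact ⟨0, by simp, by simp⟩
    | tmul a b =>
      refine ⟨a ⊗ₜ (b • x), by simp [ι, Algebra.TensorProduct.tmul_mul_tmul], ?_⟩
      rw [hΦ, show θ (b • x) = b • θ x from map_smul T.mkQ b x, ← TensorProduct.smul_tmul, haP, ← map_mul,
        Algebra.TensorProduct.tmul_mul_tmul, one_mul, mul_one]
    | add s s' hs hs' =>
      obtain ⟨z, hz, hz'⟩ := hs; obtain ⟨w, hw, hw'⟩ := hs'
      exact ⟨z + w, by rw [map_add, hz, hw, add_mul],
        by rw [map_add, hz', hw', map_add, TensorProduct.add_tmul]⟩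
  have hzero : ∀ x : K, (1 : P.ResidueField) ⊗ₜ[B] θ x = 0 := by
    intro x
    have h1 := h (Ideal.mem_map_of_mem _ x.2)
    rw [show (l.map fun b => algebraMap (A' ⊗[A] B) (Localization.AtPrime P) ((1 : A') ⊗ₜ[A] b)) =
        (l.map fun b => (1 : A') ⊗ₜ[A] b).map (algebraMap (A' ⊗[A] B) (Localization.AtPrime P)) from
        (List.map_map ..).symm, ← Ideal.map_ofList, RingHom.comp_apply,
      IsLocalization.algebraMap_mem_map_algebraMap_iff P.primeCompl] at h1
    obtain ⟨m, hm, hmx⟩ := h1
    have key : ∀ w ∈ Ideal.ofList (l.map fun b => (1 : A') ⊗ₜ[A] b), ∀ s : A' ⊗[A] B,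
        ∃ z : A' ⊗[A] K, ι.lTensor A' z = s * w ∧ Φ z = 0 := by
      intro w hw
      refine Submodule.span_induction
        (p := fun w _ => ∀ s : A' ⊗[A] B, ∃ z : A' ⊗[A] K, ι.lTensor A' z = s * w ∧ Φ z = 0)
        ?_ (fun s => ⟨0, by simp, map_zero _⟩) ?_ ?_ hw
      · intro w hw s
        obtain ⟨b, hb, rfl⟩ := List.mem_map.1 hw
        obtain ⟨z, hz1, hz2⟩ := hmul s ⟨b, hl b hb⟩
        refine ⟨z, hz1, ?_⟩
        rw [hz2, show θ ⟨b, hl b hb⟩ = 0 from (Submodule.Quotient.mk_eq_zero T).2
          (Ideal.subset_span hb), TensorProduct.tmul_zero]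
      · intro u v _ _ hu hv s
        obtain ⟨z, hz1, hz2⟩ := hu s
        obtain ⟨w, hw1, hw2⟩ := hv s
        exact ⟨z + w, by rw [map_add, hz1, hw1, mul_add], by rw [map_add, hz2, hw2, add_zero]⟩
      · intro r u _ hu s
        obtain ⟨z, hz1, hz2⟩ := hu (s * r)
        exact ⟨z, by rw [hz1, smul_eq_mul, mul_assoc], hz2⟩
    obtain ⟨z, hz1, hz2⟩ := key _ hmx 1
    obtain ⟨z', hz1', hz2'⟩ := hmul m x
    have he : z' = z := hinj (by rw [hz1', hz1, one_mul]; rfl)
    rw [he, hz2] at hz2'
    have hu : algebraMap (A' ⊗[A] B) P.ResidueField m ≠ 0 := fun e =>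
      hm (Ideal.algebraMap_residueField_eq_zero.1 e)
    have h3 : algebraMap (A' ⊗[A] B) P.ResidueField m • ((1 : P.ResidueField) ⊗ₜ[B] θ x) = 0 := by
      rw [TensorProduct.smul_tmul', smul_eq_mul, mul_one]; exact hz2'.symm
    exact (smul_eq_zero.1 h3).resolve_left hu
  haveI : Subsingleton (P.ResidueField ⊗[B] W) := by
    refine ⟨fun u v => ?_⟩
    have : ∀ u : P.ResidueField ⊗[B] W, u = 0 := fun u => by
      induction u using TensorProduct.induction_on with
      | zero => rfl
      | tmul c w =>
        obtain ⟨x, rfl⟩ := T.mkQ_surjective w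
        rw [show c ⊗ₜ[B] T.mkQ x = c • ((1 : P.ResidueField) ⊗ₜ[B] θ x) by
          rw [TensorProduct.smul_tmul', smul_eq_mul, mul_one], hzero, smul_zero]
      | add a b ha hb => rw [ha, hb, add_zero]
    rw [this u, this v]
  have hsupp : (⟨q, inferInstance⟩ : PrimeSpectrum B) ∉ Module.support B W := by
    rw [Module.mem_support_iff_nontrivial_residueField_tensorProduct]
    let σ : q.ResidueField →ₐ[B] P.ResidueField := Ideal.ResidueField.liftₐ q (Algebra.ofId B P.ResidueField)
      (fun b hb => by
        show algebraMap (A' ⊗[A] B) P.ResidueField ((1 : A') ⊗ₜ[A] b) = 0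
        rw [Ideal.algebraMap_residueField_eq_zero]
        rw [← hP] at hb
        exact hb)
      (fun b hb => by
        refine isUnit_iff_ne_zero.2 fun e => hb ?_
        rw [← hP]
        exact (Ideal.algebraMap_residueField_eq_zero (I := P)).1 e)
    letI : Algebra q.ResidueField P.ResidueField := σ.toRingHom.toAlgebra
    haveI : IsScalarTower B q.ResidueField P.ResidueField :=
      IsScalarTower.of_algebraMap_eq fun b => (σ.commutes b).symm
    intro hn
    haveI : Nontrivial (q.ResidueField ⊗[B] W) := hn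
    haveI : Subsingleton (P.ResidueField ⊗[q.ResidueField] (q.ResidueField ⊗[B] W)) :=
      (TensorProduct.AlgebraTensorModule.cancelBaseChange B q.ResidueField P.ResidueField P.ResidueField W).toEquiv.subsingleton
    exact not_nontrivial _ (Module.FaithfullyFlat.lTensor_nontrivial q.ResidueField P.ResidueField
      (q.ResidueField ⊗[B] W))
  rw [Module.support_eq_zeroLocus, PrimeSpectrum.mem_zeroLocus, Set.not_subset] at hsupp
  obtain ⟨g, hg, hgq⟩ := hsupp
  refine ⟨g, hgq, fun x hx => ?_⟩
  have h1 := Module.mem_annihilator.1 hg (T.mkQ ⟨x, hx⟩)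
  rw [← map_smul, Submodule.mkQ_apply, Submodule.Quotient.mk_eq_zero] at h1
  exact h1

/-- A quasi-regular fibre at the point gives transversally regular generators near the point. -/
theorem exists_trans_of_fibre_local [Algebra.FinitePresentation A B]
    (hflat : Module.Flat A (LocalizedModule q.primeCompl B))
    (hP : P.comap (Algebra.TensorProduct.includeRight (R := A) (A := A') (B := B)) = q)
    {K : Ideal B} (hKq : K ≤ q) (hK : K.FG) [Module.Flat A (B ⧸ K)]
    (h : ∃ h₁ : List (Localization.AtPrime P), RegImm.Kind.quasi.Seq (Localization.AtPrime P) h₁ ∧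
      K.map ((algebraMap (A' ⊗[A] B) (Localization.AtPrime P)).comp
        (Algebra.TensorProduct.includeRight (R := A) (A := A') (B := B)).toRingHom) = Ideal.ofList h₁) :
    ∃ g ∉ q, ∃ l : List B, ∀ (L : Type u) [CommRing L] [Algebra A L] [Algebra B L] [IsScalarTower A B L],
      IsLocalization.Away g L → RegImm.IsTransRegularSeq A L (l.map (algebraMap B L)) ∧
        K.map (algebraMap B L) = Ideal.ofList (l.map (algebraMap B L)) := by
  classical
  let S := A' ⊗[A] B
  let ir : B →+* S := (Algebra.TensorProduct.includeRight (R := A) (A := A') (B := B)).toRingHom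
  let L' := Localization.AtPrime P
  haveI : IsNoetherianRing S := Algebra.FiniteType.isNoetherianRing A' S
  haveI : IsNoetherianRing L' := IsLocalization.isNoetherianRing P.primeCompl L' inferInstance
  have hKP : K.map ir ≤ P := Ideal.map_le_iff_le_comap.2 (hKq.trans hP.ge)
  obtain ⟨h₁, hq', hJ⟩ := h
  let J : Ideal L' := K.map ((algebraMap S L').comp ir)
  have hJne : J ≠ ⊤ := by
    refine ne_top_of_le_ne_top (IsLocalRing.maximalIdeal.isMaximal L').ne_top
      (Ideal.map_le_iff_le_comap.2 fun x hx => ?_)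
    exact (IsLocalization.AtPrime.to_map_mem_maximal_iff L' P _).2 (hKP (Ideal.mem_map_of_mem _ hx))
  have hjac : ∀ (m : List L'), Ideal.ofList m = J → ∀ i, m.get i ∈ Ring.jacobson L' := fun m hm i => by
    rw [← Ideal.jacobson_bot, IsLocalRing.jacobson_eq_maximalIdeal ⊥ bot_ne_top]
    exact IsLocalRing.le_maximalIdeal hJne (hm ▸ Ideal.subset_span (List.get_mem m i))
  have hw : IsWeaklyRegular L' h₁ := by
    have h2 := Groth.Agent.S5803.result L' _ _ (hjac _ hJ.symm) hq'
    rwa [List.ofFn_get] at h2
  have hH : Groth.L07.H1Seq.H1 L' h₁ :=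
    Groth.L14.RegImmStalk.kind_of_isRegular RegImm.Kind.h1 ⟨hw, by
      rw [smul_eq_mul, Ideal.mul_top, ← hJ]; exact hJne.symm⟩
  obtain ⟨t, htG, htlen, ht⟩ := exists_subset_generators (G := ((algebraMap S L').comp ir) '' (K : Set B))
    (I := J) rfl hJ.symm
  choose! pre hpre using htG
  let l := t.map pre
  have hl : ∀ b ∈ l, b ∈ K := fun b hb => by
    obtain ⟨x, hx, rfl⟩ := List.mem_map.1 hb
    exact (hpre x hx).1
  have hlt : (l.map fun b => algebraMap S L' ((1 : A') ⊗ₜ[A] b)) = t := by
    rw [List.map_map]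
    exact (List.map_congr_left fun x hx => (hpre x hx).2).trans (List.map_id _)
  have hreg : IsWeaklyRegular L' (l.map fun b => algebraMap S L' ((1 : A') ⊗ₜ[A] b)) := by
    rw [hlt]
    have h2 : Groth.L07.H1Seq.H1 L' t :=
      Groth.L07.H1Seq.h1_of_length_le hH (hJ.symm.trans ht.symm) htlen
    have h3 := Groth.Agent.S5803.result L' _ _ (hjac _ ht) (Groth.L14.RegImmStalk.isQuasiRegular_of_h1 h2)
    rwa [List.ofFn_get] at h3
  obtain ⟨g₂, hg₂, htr⟩ := exists_away_transReg q l (fun b hb => hKq (hl b hb)) hflat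
    (fibre_descend q A' P hP l hreg)
  obtain ⟨g₃, hg₃, hgen⟩ := exists_notMem_le q A' P hP hK l hl (by
    rw [hlt, ht])
  refine ⟨g₂ * g₃, fun h => ((inferInstance : q.IsPrime).mem_or_mem h).elim hg₂ hg₃, l,
    fun L _ _ _ _ hL => ⟨htr L _ hL (dvd_mul_right g₂ g₃), ?_⟩⟩
  haveI := hL
  rw [← Ideal.map_ofList]
  refine le_antisymm (Ideal.map_le_iff_le_comap.2 fun x hx => ?_)
    (Ideal.map_mono (Ideal.span_le.2 hl))
  have hu : IsUnit (algebraMap B L g₃) :=
    isUnit_of_dvd_unit (map_dvd _ (dvd_mul_left g₃ g₂)) (IsLocalization.Away.algebraMap_isUnit (g₂ * g₃))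
  rw [Ideal.mem_comap, ← Ideal.unit_mul_mem_iff_mem _ hu, ← map_mul]
  exact Ideal.mem_map_of_mem _ (hgen x hx)

/-- A quasi-regular fibre gives transversally regular generators near the point. -/
theorem exists_trans_of_fibre [Algebra.FinitePresentation A B]
    (hflat : Module.Flat A (LocalizedModule q.primeCompl B))
    (hP : P.comap (Algebra.TensorProduct.includeRight (R := A) (A := A') (B := B)) = q)
    {K : Ideal B} (hKq : K ≤ q) (hK : K.FG) [Module.Flat A (B ⧸ K)]
    (h : Groth.L07.RegImmDescent.LocSeq RegImm.Kind.quasi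
      (K.map (Algebra.TensorProduct.includeRight (R := A) (A := A') (B := B)).toRingHom)) :
    ∃ g ∉ q, ∃ l : List B, ∀ (L : Type u) [CommRing L] [Algebra A L] [Algebra B L] [IsScalarTower A B L],
      IsLocalization.Away g L → RegImm.IsTransRegularSeq A L (l.map (algebraMap B L)) ∧
        K.map (algebraMap B L) = Ideal.ofList (l.map (algebraMap B L)) := by
  classical
  let S := A' ⊗[A] B
  let ir : B →+* S := (Algebra.TensorProduct.includeRight (R := A) (A := A') (B := B)).toRingHom
  let L' := Localization.AtPrime P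
  have hKP : K.map ir ≤ P := Ideal.map_le_iff_le_comap.2 (hKq.trans hP.ge)
  obtain ⟨g₁, hg₁, h₁, hh₁, hgen₁⟩ := h P hKP
  let φ : Localization.Away g₁ →+* L' := IsLocalization.Away.lift g₁
    (IsLocalization.map_units L' (⟨g₁, hg₁⟩ : P.primeCompl))
  have hφ : φ.Flat := by
    letI := φ.toAlgebra
    haveI : IsScalarTower S (Localization.Away g₁) L' :=
      IsScalarTower.of_algebraMap_eq fun x => (IsLocalization.Away.lift_eq g₁ _ x).symm
    show Module.Flat (Localization.Away g₁) L'
    exact (Module.flat_iff_of_isLocalization (Localization.Away g₁) (Submonoid.powers g₁) L').2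
      (IsLocalization.flat L' P.primeCompl)
  let J : Ideal L' := K.map ((algebraMap S L').comp ir)
  have hJ : J = Ideal.ofList (h₁.map φ) := by
    have hcomp : φ.comp (algebraMap S (Localization.Away g₁)) = algebraMap S L' :=
      IsLocalization.Away.lift_comp g₁ _
    rw [← Ideal.map_ofList, ← hgen₁, Ideal.map_map, Ideal.map_map]
    show K.map _ = _
    rw [← hcomp]
  have hJne : J ≠ ⊤ := by
    refine ne_top_of_le_ne_top (IsLocalRing.maximalIdeal.isMaximal L').ne_top
      (Ideal.map_le_iff_le_comap.2 fun x hx => ?_)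
    exact (IsLocalization.AtPrime.to_map_mem_maximal_iff L' P _).2 (hKP (Ideal.mem_map_of_mem _ hx))
  have hq' : RegImm.Kind.quasi.Seq L' (h₁.map φ) :=
    Groth.L03.RegImmFlat.seq_map φ hφ _ h₁ hh₁ (hJ ▸ hJne)
  exact exists_trans_of_fibre_local q A' P hflat hP hKq hK ⟨_, hq', hJ⟩

end Groth.L07.TransSeq
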