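import Groth.Agent.S4848
import Groth.Agent.L20.Stage.Tensor
import Groth.Agent.L20.Stage.CompleteIdeal
import Groth.Agent.L02.InjFlat.Open
import Groth.Agent.L07.TransSeq
import Mathlib.RingTheory.Flat.Equalizer
import Mathlib.RingTheory.TensorProduct.Quotient

/-!
Transversally regular sequences along directed colimits of rings.
-/

set_option autoImplicit false
set_option linter.style.haveILetI false
set_option maxSynthPendingDepth 3

universe u

open TensorProduct RingTheory.Sequence

namespace Groth.L07.TransStage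

variable {A₀ : Type u} [CommRing A₀] {ι : Type u} [Preorder ι] {G : ι → Type u} [∀ i, CommRing (G i)]
  [∀ i, Algebra A₀ (G i)] (g : ∀ i j, i ≤ j → G i →ₐ[A₀] G j)
  {A : Type u} [CommRing A] [Algebra A₀ A] [∀ i, Algebra (G i) A] [∀ i, IsScalarTower A₀ (G i) A]
  (hcolim : FlatCA.IsDirectedColimitRing G (fun i j h => (g i j h).toRingHom) A)

include hcolim

theorem flat_mono (X : Type u) [AddCommGroup X] [Module A₀ X] {i j : ι} (h : i ≤ j)
    (hX : Module.Flat (G i) (G i ⊗[A₀] X)) : Module.Flat (G j) (G j ⊗[A₀] X) := by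
  letI := (g i j h).toRingHom.toAlgebra
  haveI : IsScalarTower A₀ (G i) (G j) := IsScalarTower.of_algebraMap_eq fun r => ((g i j h).commutes r).symm
  exact Groth.L20.Stage.flat_tensor_mono hX

/-- An element killed in the limit is killed at a stage. -/
theorem exists_kill (Q : Type u) [CommRing Q] [Algebra A₀ Q] (i : ι) (z : G i ⊗[A₀] Q)
    (hz : Algebra.TensorProduct.map (IsScalarTower.toAlgHom A₀ (G i) A) (AlgHom.id A₀ Q) z = 0) :
    ∃ k, ∃ h : i ≤ k, Algebra.TensorProduct.map (g i k h) (AlgHom.id A₀ Q) z = 0 := by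
  have hgR : ∀ (i j : ι) (h : i ≤ j), (g i j h).toRingHom.comp (algebraMap A₀ (G i)) = algebraMap A₀ (G j) :=
    fun i j h => RingHom.ext (g i j h).commutes
  have e : ∀ {C C' : Type u} [CommRing C] [CommRing C'] [Algebra A₀ C] [Algebra A₀ C'] (φ : C →ₐ[A₀] C')
      (w : C ⊗[A₀] Q), φ.toLinearMap.lTensor Q (TensorProduct.comm A₀ C Q w) =
        TensorProduct.comm A₀ C' Q (Algebra.TensorProduct.map φ (AlgHom.id A₀ Q) w) := by
    intro C C' _ _ _ _ φ w
    induction w using TensorProduct.induction_on with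
    | zero => simp
    | tmul a b => simp
    | add a b ha hb => simp only [map_add, ha, hb]
  obtain ⟨k, h, hk⟩ := Groth.L20.Stage.exists_tensor_kill (fun i j h => (g i j h).toRingHom) hgR hcolim Q i
    (TensorProduct.comm A₀ _ _ z) ((e _ z).trans ((congrArg _ hz).trans (map_zero _)))
  refine ⟨k, h, (TensorProduct.comm A₀ (G k) Q).injective ?_⟩
  rw [← e, map_zero]
  exact hk

/-- A non-zero-divisor with flat quotient is one at some stage. -/
theorem exists_nzd_stage (Q : Type u) [CommRing Q] [Algebra A₀ Q] [Algebra.FinitePresentation A₀ Q] (f : Q) (i : ι)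
    (hflat : Module.Flat (G i) ((G i ⊗[A₀] Q) ⧸ Ideal.span {((1 : G i) ⊗ₜ[A₀] f)}))
    (hreg : ∀ y : A ⊗[A₀] Q, ((1 : A) ⊗ₜ[A₀] f) * y = 0 → y = 0) :
    ∃ k₀, i ≤ k₀ ∧ ∀ k, k₀ ≤ k → ∀ y : G k ⊗[A₀] Q, ((1 : G k) ⊗ₜ[A₀] f) * y = 0 → y = 0 := by
  classical
  obtain ⟨hdir, hne, hid, hcomp, -, -, -⟩ := id hcolim
  let C := G i ⊗[A₀] Q
  let c : C := (1 : G i) ⊗ₜ[A₀] f
  let w : C →ₗ[C] C := LinearMap.mulLeft C c
  have hrange : LinearMap.range w = Ideal.span {c} := by
    ext y
    rw [LinearMap.mem_range, Ideal.mem_span_singleton]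
    exact ⟨fun ⟨x, hx⟩ => ⟨x, hx.symm⟩, fun ⟨x, hx⟩ => ⟨x, hx.symm⟩⟩
  haveI : Module.Flat (G i) (C ⧸ LinearMap.range w) := by
    haveI := hflat
    exact Module.Flat.of_linearEquiv ((Submodule.quotEquivOfEq _ _ hrange).restrictScalars (G i))
  haveI hK : Module.Finite C (LinearMap.ker w) := Groth.L02.InjFlat.finite_ker_of_flat_coker (A := G i) w
  obtain ⟨s, hs⟩ := (Module.Finite.iff_fg.mp hK : (LinearMap.ker w).FG)
  have hkill : ∀ z ∈ s, ∃ k, ∃ h : i ≤ k, Algebra.TensorProduct.map (g i k h) (AlgHom.id A₀ Q) z = 0 := by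
    intro z hz
    refine exists_kill g hcolim Q i z (hreg _ ?_)
    have hz0 : c * z = 0 := LinearMap.mem_ker.mp (show z ∈ LinearMap.ker w from hs.le (Submodule.subset_span hz))
    have h := congrArg (Algebra.TensorProduct.map (IsScalarTower.toAlgHom A₀ (G i) A) (AlgHom.id A₀ Q)) hz0
    simpa [c] using h
  choose kz hiz hkz using hkill
  haveI := hne
  haveI := hdir
  obtain ⟨k₀, hk₀⟩ := Finset.exists_le (insert i (s.attach.image fun z : {x // x ∈ s} => kz z.1 z.2))
  refine ⟨k₀, hk₀ i (Finset.mem_insert_self _ _), fun k hk => ?_⟩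
  have hik : i ≤ k := (hk₀ i (Finset.mem_insert_self _ _)).trans hk
  have hτ : ∀ z ∈ LinearMap.ker w, Algebra.TensorProduct.map (g i k hik) (AlgHom.id A₀ Q) z = 0 := by
    intro z hz
    rw [← hs] at hz
    induction hz using Submodule.span_induction with
    | mem z hz =>
      have hle : kz z hz ≤ k := (hk₀ _ (Finset.mem_insert_of_mem (Finset.mem_image.mpr ⟨⟨z, hz⟩, Finset.mem_attach _ _, rfl⟩))).trans hk
      have h1 : Algebra.TensorProduct.map (g (kz z hz) k hle) (AlgHom.id A₀ Q)
          (Algebra.TensorProduct.map (g i (kz z hz) (hiz z hz)) (AlgHom.id A₀ Q) z) = 0 := by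
        rw [hkz z hz, map_zero]
      rw [← AlgHom.comp_apply, ← Algebra.TensorProduct.map_comp] at h1
      rw [show (g (kz z hz) k hle).comp (g i (kz z hz) (hiz z hz)) = g i k hik from
        AlgHom.coe_ringHom_injective (hcomp i (kz z hz) k (hiz z hz) hle), AlgHom.id_comp] at h1
      exact h1
    | zero => exact map_zero _
    | add a b _ _ ha hb => rw [map_add, ha, hb, add_zero]
    | smul r a _ ha => rw [smul_eq_mul, map_mul, ha, mul_zero]
  intro y hy
  letI := (g i k hik).toRingHom.toAlgebra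
  haveI : IsScalarTower A₀ (G i) (G k) := IsScalarTower.of_algebraMap_eq fun r => ((g i k hik).commutes r).symm
  let θ : (G k ⊗[G i] C) ≃ₗ[G k] (G k ⊗[A₀] Q) := TensorProduct.AlgebraTensorModule.cancelBaseChange A₀ (G i) (G k) (G k) Q
  let wl : C →ₗ[G i] C := w.restrictScalars (G i)
  have hθ : ∀ (a : G k) (z : C), θ (a ⊗ₜ z) = (a ⊗ₜ[A₀] (1 : Q)) * Algebra.TensorProduct.map (g i k hik) (AlgHom.id A₀ Q) z := by
    intro a z
    induction z using TensorProduct.induction_on with
    | zero => simp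
    | tmul b q =>
      simp only [θ, TensorProduct.AlgebraTensorModule.cancelBaseChange_tmul, Algebra.TensorProduct.map_tmul,
        AlgHom.id_apply, Algebra.TensorProduct.tmul_mul_tmul, one_mul]
      erw [TensorProduct.AlgebraTensorModule.cancelBaseChange_tmul]
      rw [Algebra.smul_def, mul_comm]
      rfl
    | add u v hu hv => rw [TensorProduct.tmul_add, map_add, hu, hv, map_add, mul_add]
  have hθw : ∀ x, θ (wl.lTensor (G k) x) = ((1 : G k) ⊗ₜ[A₀] f) * θ x := by
    intro x
    induction x using TensorProduct.induction_on with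
    | zero => simp
    | tmul a z =>
      rw [LinearMap.lTensor_tmul, hθ, hθ]
      show _ * Algebra.TensorProduct.map (g i k hik) (AlgHom.id A₀ Q) (c * z) = _
      rw [map_mul, Algebra.TensorProduct.map_tmul, map_one, AlgHom.id_apply]
      ring
    | add u v hu hv => rw [map_add, map_add, hu, hv, map_add, mul_add]
  obtain ⟨x, rfl⟩ := θ.surjective y
  have hx : wl.lTensor (G k) x = 0 := θ.injective (by rw [hθw, hy, map_zero])
  let K := LinearMap.ker wl
  let wb : (C ⧸ K) →ₗ[G i] C := K.liftQ wl le_rfl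
  have hwb : Function.Injective wb := LinearMap.ker_eq_bot.mp (Submodule.ker_liftQ_eq_bot _ _ _ le_rfl)
  have hex : Function.Exact wb (LinearMap.range wl).mkQ := by
    rw [LinearMap.exact_iff, Submodule.ker_mkQ, Submodule.range_liftQ]
  haveI : Module.Flat (G i) (C ⧸ LinearMap.range wl) := by
    haveI := hflat
    refine Module.Flat.of_linearEquiv
      ((Submodule.quotEquivOfEq (LinearMap.range wl) ((Ideal.span {c}).restrictScalars (G i)) ?_).trans
        (Submodule.Quotient.restrictScalarsEquiv (G i) (Ideal.span {c})))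
    show LinearMap.range (w.restrictScalars (G i)) = _
    rw [LinearMap.range_restrictScalars, hrange]
  have hinj := LinearMap.lTensor_injective_of_exact_of_flat (LinearMap.range wl).mkQ
    (Submodule.mkQ_surjective _) wb hwb hex (G k)
  have hx' : K.mkQ.lTensor (G k) x = 0 := hinj (by
    rw [map_zero, ← LinearMap.comp_apply, ← LinearMap.lTensor_comp, Submodule.liftQ_mkQ]
    exact hx)
  obtain ⟨v, rfl⟩ := (lTensor_exact (G k) (LinearMap.exact_subtype_mkQ K) (Submodule.mkQ_surjective K) x).mp hx'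
  clear hy hx hx'
  induction v using TensorProduct.induction_on with
  | zero => simp
  | tmul a z => rw [LinearMap.lTensor_tmul, hθ, Submodule.subtype_apply, hτ z.1 z.2, mul_zero]
  | add u v hu hv => rw [map_add, map_add, hu, hv, add_zero]

omit hcolim in
/-- Quotients of a base change. -/
theorem exists_quot_equiv (B₀ : Type u) [CommRing B₀] [Algebra A₀ B₀] (C : Type u) [CommRing C] [Algebra A₀ C]
    (l : List B₀) :
    ∃ e : (C ⊗[A₀] (B₀ ⧸ Ideal.ofList l)) ≃ₐ[C] ((C ⊗[A₀] B₀) ⧸ Ideal.ofList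
      (l.map (Algebra.TensorProduct.includeRight (R := A₀) (A := C) (B := B₀)))),
      ∀ a b, e (a ⊗ₜ[A₀] Ideal.Quotient.mk _ b) = Ideal.Quotient.mk _ (a ⊗ₜ[A₀] b) :=
  ⟨(Algebra.TensorProduct.tensorQuotientEquiv (R := A₀) C B₀ C (Ideal.ofList l)).trans
    (Ideal.quotientEquivAlgOfEq C (Ideal.map_ofList
      (Algebra.TensorProduct.includeRight (R := A₀) (A := C) (B := B₀)).toRingHom l)),
    fun a b => by simp <;> rfl⟩

/-- Transversal regularity descends to a stage. -/
theorem exists_transReg_stage {B₀ : Type u} [CommRing B₀] [Algebra A₀ B₀] [Algebra.FinitePresentation A₀ B₀]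
    (l : List B₀)
    (h : RegImm.IsTransRegularSeq A (A ⊗[A₀] B₀) (l.map (Algebra.TensorProduct.includeRight (R := A₀) (A := A) (B := B₀)))) :
    ∃ i, ∀ k, i ≤ k → RegImm.IsTransRegularSeq (G k) (G k ⊗[A₀] B₀)
      (l.map (Algebra.TensorProduct.includeRight (R := A₀) (A := G k) (B := B₀))) := by
  classical
  obtain ⟨hdir, hne, -, -, -, -, -⟩ := id hcolim
  haveI := hdir
  haveI := hne
  have hfl : ∀ j : Fin (l.length + 1), ∃ i, Module.Flat (G i) (G i ⊗[A₀] (B₀ ⧸ Ideal.ofList (l.take j))) := by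
    intro j
    haveI : Module.FinitePresentation B₀ (B₀ ⧸ Ideal.ofList (l.take j)) :=
      Module.finitePresentation_of_surjective (Algebra.linearMap B₀ (B₀ ⧸ Ideal.ofList (l.take j)))
        Ideal.Quotient.mk_surjective (by
          show (LinearMap.ker (Algebra.linearMap B₀ (B₀ ⧸ Ideal.ofList (l.take j)))).FG
          rw [show LinearMap.ker (Algebra.linearMap B₀ (B₀ ⧸ Ideal.ofList (l.take j))) = Ideal.ofList (l.take j) from
            Ideal.mk_ker]
          exact Submodule.fg_span (List.finite_toSet _))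
    refine (Groth.Agent.S4848.result G g A hcolim (B₀ := B₀) (B₀ ⧸ Ideal.ofList (l.take j))).mp ?_
    obtain ⟨e, -⟩ := exists_quot_equiv (A₀ := A₀) B₀ A (l.take j)
    haveI : Module.Flat A ((A ⊗[A₀] B₀) ⧸ Ideal.ofList ((l.take j).map
        (Algebra.TensorProduct.includeRight (R := A₀) (A := A) (B := B₀)))) := by
      rw [List.map_take]
      exact h.2 j (by rw [List.length_map]; omega)
    exact Module.Flat.of_linearEquiv e.toLinearEquiv
  choose ij hij using hfl
  obtain ⟨i₁, hi₁⟩ := Finset.exists_le (Finset.univ.image ij)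
  have hflat : ∀ k, i₁ ≤ k → ∀ j, j ≤ l.length → Module.Flat (G k) (G k ⊗[A₀] (B₀ ⧸ Ideal.ofList (l.take j))) :=
    fun k hk j hj => flat_mono g hcolim _ ((hi₁ _ (Finset.mem_image_of_mem ij (Finset.mem_univ (⟨j, by omega⟩ : Fin _)))).trans hk)
      (hij ⟨j, by omega⟩)
  have hnz : ∀ j : Fin l.length, ∃ k₀, i₁ ≤ k₀ ∧ ∀ k, k₀ ≤ k → ∀ y : G k ⊗[A₀] (B₀ ⧸ Ideal.ofList (l.take j)),
      ((1 : G k) ⊗ₜ[A₀] Ideal.Quotient.mk _ l[(j : ℕ)]) * y = 0 → y = 0 := by
    intro j
    have hle : Ideal.ofList (l.take j) ≤ Ideal.ofList (l.take (j + 1)) := by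
      rw [List.take_succ_eq_append_getElem j.2, Ideal.ofList_append]; exact le_sup_left
    haveI : Algebra.FinitePresentation A₀ (B₀ ⧸ Ideal.ofList (l.take j)) :=
      Algebra.FinitePresentation.quotient (Submodule.fg_span (List.finite_toSet _))
    refine exists_nzd_stage g hcolim _ (Ideal.Quotient.mk _ l[(j : ℕ)]) i₁ ?_ fun y hy => ?_
    · obtain ⟨e, he⟩ := exists_quot_equiv (A₀ := A₀) B₀ (G i₁) (l.take j)
      obtain ⟨e', -⟩ := exists_quot_equiv (A₀ := A₀) B₀ (G i₁) (l.take (j + 1))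
      haveI := hflat i₁ le_rfl (j + 1) j.2
      haveI : Module.Flat (G i₁) ((G i₁ ⊗[A₀] B₀) ⧸ Ideal.ofList ((l.take (j + 1)).map
          (Algebra.TensorProduct.includeRight (R := A₀) (A := G i₁) (B := B₀)))) :=
        Module.Flat.of_linearEquiv e'.symm.toLinearEquiv
      let I₁ := Ideal.ofList ((l.take j).map (Algebra.TensorProduct.includeRight (R := A₀) (A := G i₁) (B := B₀)))
      let I₂ : Ideal (G i₁ ⊗[A₀] B₀) := Ideal.span {(1 : G i₁) ⊗ₜ[A₀] l[(j : ℕ)]}
      have hI : I₁ ⊔ I₂ = Ideal.ofList ((l.take (j + 1)).map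
          (Algebra.TensorProduct.includeRight (R := A₀) (A := G i₁) (B := B₀))) := by
        rw [List.take_succ_eq_append_getElem j.2, List.map_append, Ideal.ofList_append, List.map_singleton,
          Ideal.ofList_singleton]
        rfl
      haveI : Module.Flat (G i₁) ((G i₁ ⊗[A₀] B₀) ⧸ (I₁ ⊔ I₂)) :=
        Module.Flat.of_linearEquiv ((Ideal.quotientEquivAlgOfEq (G i₁) hI).toLinearEquiv)
      exact Module.Flat.of_linearEquiv (((Ideal.quotientEquivAlg _ (I₂.map (Ideal.Quotient.mkₐ (G i₁) I₁)) e (by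
          rw [Ideal.map_span, Ideal.map_span, Set.image_singleton, Set.image_singleton]
          congr 2
          exact (he 1 _).symm)).trans (DoubleQuot.quotQuotEquivQuotSupₐ (G i₁) I₁ I₂))).toLinearEquiv
    · obtain ⟨e, he⟩ := exists_quot_equiv (A₀ := A₀) B₀ A (l.take j)
      refine e.injective ?_
      rw [map_zero]
      obtain ⟨b, hb⟩ := Ideal.Quotient.mk_surjective (e y)
      have h1 := congrArg e hy
      rw [map_mul, he, ← hb, map_zero, ← map_mul, Ideal.Quotient.eq_zero_iff_mem, List.map_take] at h1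
      rw [← hb, Ideal.Quotient.eq_zero_iff_mem, List.map_take]
      refine (Groth.L07.TransSeq.isWeaklyRegular_iff_elem _).mp h.1 j (by rw [List.length_map]; exact j.2) b ?_
      rw [List.getElem_map]
      exact h1
  choose kj hkj hkj' using hnz
  obtain ⟨i₂, hi₂⟩ := Finset.exists_le (insert i₁ (Finset.univ.image kj))
  refine ⟨i₂, fun k hk => ⟨?_, fun j hj => ?_⟩⟩
  · rw [Groth.L07.TransSeq.isWeaklyRegular_iff_elem]
    intro j hj b hb
    rw [List.length_map] at hj
    let J : Fin l.length := ⟨j, hj⟩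
    have hle : kj J ≤ k := (hi₂ _ (Finset.mem_insert_of_mem (Finset.mem_image_of_mem kj (Finset.mem_univ J)))).trans hk
    obtain ⟨e, he⟩ := exists_quot_equiv (A₀ := A₀) B₀ (G k) (l.take j)
    obtain ⟨y, hy⟩ := e.surjective (Ideal.Quotient.mk _ b)
    rw [← List.map_take, ← Ideal.Quotient.eq_zero_iff_mem, ← hy, map_eq_zero_iff _ e.injective]
    refine hkj' J k hle y (e.injective ?_)
    rw [List.getElem_map, ← List.map_take] at hb
    rw [map_mul, map_zero, he, hy, ← map_mul, Ideal.Quotient.eq_zero_iff_mem]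
    exact hb
  · rw [List.length_map] at hj
    obtain ⟨e, -⟩ := exists_quot_equiv (A₀ := A₀) B₀ (G k) (l.take j)
    haveI := hflat k ((hi₂ i₁ (Finset.mem_insert_self _ _)).trans hk) j hj
    rw [← List.map_take]
    exact Module.Flat.of_linearEquiv e.symm.toLinearEquiv

end Groth.L07.TransStage
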