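import Groth.Agent.L07.TransPair
import Groth.Agent.L07.TransStage
import Groth.Agent.L19.LimMod.Sec
import Groth.Agent.L19.Limit.Pullback
import Groth.Agent.L19.Limit.Proper
import Mathlib.CategoryTheory.Presentable.Directed
import Mathlib.CategoryTheory.Filtered.Final

/-!
Transversally regular immersions descend along limits with affine transition morphisms.
-/

set_option autoImplicit false
set_option linter.style.haveILetI false
set_option maxSynthPendingDepth 3
set_option backward.isDefEq.respectTransparency false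
set_option backward.isDefEq.respectTransparency.types false
set_option backward.defeqAttrib.useBackward true

universe u

open CategoryTheory CategoryTheory.Limits AlgebraicGeometry TensorProduct Opposite
open Groth.L07.TransPair Groth.L19.LimMod Groth.L19.Limit

namespace Groth.L07.TransImmLimit

section Stage

variable {I : Type u} [SmallCategory I] [IsCofiltered I] (D : I ⥤ Scheme.{u}) (c : Cone D) (hc : IsLimit c)
  [∀ (i j : I) (f : i ⟶ j), IsAffineHom (D.map f)] {i : I} {U : (D.obj i).Opens}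

theorem trans_trans (U : (D.obj i).Opens) {j k l : Over i} (p : k ⟶ j) (q : l ⟶ k) (x : StageRing D U j) :
    trans D U q (trans D U p x) = trans D U (q ≫ p) x :=
  appLE_comp_apply _ _ _ (D.map_comp q.left p.left).symm _ _ _ x

theorem toLim_trans_apply (U : (D.obj i).Opens) {j k : Over i} (p : k ⟶ j) (x : StageRing D U j) :
    toLim D c U k (trans D U p x) = toLim D c U j x :=
  DFunLike.congr_fun (toLim_trans D c U p) x

include hc in
theorem exists_kill (hU : IsAffineOpen U) (j : Over i) (x : StageRing D U j) (hx : toLim D c U j x = 0) :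
    ∃ (n : Over i) (p : n ⟶ j), trans D U p x = 0 := by
  have hx' : (c.π.app j.left).app (D.map j.hom ⁻¹ᵁ U) x = 0 := by
    rw [← appLE_self (c.π.app j.left) _ le_rfl, ← ro_appLE (c.π.app j.left) (π_preimage D c j.hom U).le
      (π_preimage D c j.hom U).ge x, ← toLim_apply]
    exact (congrArg _ hx).trans (map_zero _)
  obtain ⟨k, f, hk⟩ := exists_app_map_eq_zero_of_isLimit D c hc (hU.preimage _).isCompact x hx'
  refine ⟨Over.mk (f ≫ j.hom), Over.homMk f, ?_⟩
  show (D.map f).appLE _ _ _ x = 0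
  rw [Scheme.Hom.appLE, ConcreteCategory.comp_apply, hk, map_zero]

include hc in
/-- Elements of an extended ideal come from the extended ideal of a stage. -/
theorem exists_lift_mem (hU : IsAffineOpen U) (j : Over i) (J : Ideal (StageRing D U j))
    (y : LimRing D c U) (hy : y ∈ J.map (toLim D c U j).toRingHom) :
    ∃ (n : Over i) (p : n ⟶ j) (y' : StageRing D U n),
      y' ∈ J.map (trans D U p).toRingHom ∧ toLim D c U n y' = y := by
  induction hy using Submodule.span_induction with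
  | mem y hy =>
    obtain ⟨a, ha, rfl⟩ := hy
    exact ⟨j, 𝟙 j, trans D U (𝟙 j) a, Ideal.mem_map_of_mem _ ha, toLim_trans_apply D c U _ a⟩
  | zero => exact ⟨j, 𝟙 j, 0, zero_mem _, map_zero _⟩
  | add a b _ _ ha hb =>
    obtain ⟨n₁, p₁, a', ha', rfl⟩ := ha
    obtain ⟨n₂, p₂, b', hb', rfl⟩ := hb
    obtain ⟨n, q₁, q₂, hq⟩ := IsCofiltered.cospan p₁ p₂
    refine ⟨n, q₁ ≫ p₁, trans D U q₁ a' + trans D U q₂ b', add_mem ?_ ?_, ?_⟩
    · have h := Ideal.mem_map_of_mem (trans D U q₁).toRingHom ha'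
      rw [Ideal.map_map] at h
      rwa [show (trans D U (q₁ ≫ p₁)).toRingHom = (trans D U q₁).toRingHom.comp (trans D U p₁).toRingHom from
        RingHom.ext fun x => (trans_trans D U p₁ q₁ x).symm]
    · have h := Ideal.mem_map_of_mem (trans D U q₂).toRingHom hb'
      rw [Ideal.map_map] at h
      rwa [hq, show (trans D U (q₂ ≫ p₂)).toRingHom = (trans D U q₂).toRingHom.comp (trans D U p₂).toRingHom from
        RingHom.ext fun x => (trans_trans D U p₂ q₂ x).symm]
    · rw [map_add, toLim_trans_apply, toLim_trans_apply]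
  | smul r a _ ha =>
    obtain ⟨n₁, p₁, a', ha', rfl⟩ := ha
    obtain ⟨n₂, r', rfl⟩ := exists_lift_function D c hc hU r
    obtain ⟨n, q₁, q₂, -⟩ := IsCofilteredOrEmpty.cone_objs n₁ n₂
    refine ⟨n, q₁ ≫ p₁, trans D U q₂ r' * trans D U q₁ a', Ideal.mul_mem_left _ _ ?_, ?_⟩
    · have h := Ideal.mem_map_of_mem (trans D U q₁).toRingHom ha'
      rw [Ideal.map_map] at h
      rwa [show (trans D U (q₁ ≫ p₁)).toRingHom = (trans D U q₁).toRingHom.comp (trans D U p₁).toRingHom from
        RingHom.ext fun x => (trans_trans D U p₁ q₁ x).symm]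
    · rw [map_mul, toLim_trans_apply, toLim_trans_apply, smul_eq_mul]

theorem map_trans_eq (U : (D.obj i).Opens) (K : Ideal Γ(D.obj i, U)) {j k : Over i} (p : k ⟶ j) :
    (K.map (algebraMap _ (StageRing D U j))).map (trans D U p).toRingHom = K.map (algebraMap _ (StageRing D U k)) := by
  rw [Ideal.map_map, AlgHom.toRingHom_eq_coe, AlgHom.comp_algebraMap]

include hc in
/-- A list generating an extended finitely generated ideal comes from such a list at a stage. -/
theorem exists_list_stage (hU : IsAffineOpen U) {K : Ideal Γ(D.obj i, U)} (hK : K.FG)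
    (l : List (LimRing D c U)) (hl : Ideal.ofList l = K.map (algebraMap _ (LimRing D c U))) :
    ∃ (j : Over i) (lj : List (StageRing D U j)), lj.map (toLim D c U j) = l ∧
      Ideal.ofList lj = K.map (algebraMap _ (StageRing D U j)) := by
  classical
  let j₀ : Over i := Over.mk (𝟙 i)
  have hB : ∀ l : List (LimRing D c U), (∀ y ∈ l, y ∈ K.map (algebraMap _ (LimRing D c U))) →
      ∃ (j : Over i) (lj : List (StageRing D U j)), lj.map (toLim D c U j) = l ∧
        ∀ x ∈ lj, x ∈ K.map (algebraMap _ (StageRing D U j)) := by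
    intro l
    induction l with
    | nil => exact fun _ => ⟨j₀, [], rfl, by simp⟩
    | cons a t ih =>
      intro h
      obtain ⟨n₁, lt, hlt, hmem⟩ := ih fun y hy => h y (List.mem_cons_of_mem _ hy)
      have ha : a ∈ (K.map (algebraMap _ (StageRing D U j₀))).map (toLim D c U j₀).toRingHom := by
        rw [Ideal.map_map, AlgHom.toRingHom_eq_coe, AlgHom.comp_algebraMap]
        exact h a (List.mem_cons_self ..)
      obtain ⟨n₂, p₂, a', ha', rfl⟩ := exists_lift_mem D c hc hU j₀ _ a ha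
      rw [map_trans_eq] at ha'
      obtain ⟨n, q₁, q₂, -⟩ := IsCofilteredOrEmpty.cone_objs n₁ n₂
      refine ⟨n, trans D U q₂ a' :: lt.map (trans D U q₁), ?_, ?_⟩
      · rw [List.map_cons, toLim_trans_apply, List.map_map, ← hlt]
        congr 1
        exact List.map_congr_left fun x _ => toLim_trans_apply D c U q₁ x
      · intro x hx
        rcases List.mem_cons.mp hx with rfl | hx
        · rw [← map_trans_eq D U K q₂]
          exact Ideal.mem_map_of_mem _ ha'
        · obtain ⟨y, hy, rfl⟩ := List.mem_map.mp hx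
          rw [← map_trans_eq D U K q₁]
          exact Ideal.mem_map_of_mem _ (hmem y hy)
  obtain ⟨j, lj, hlj, hmem⟩ := hB l fun y hy => hl.le (Ideal.subset_span hy)
  obtain ⟨s, hs⟩ := hK
  have hC : ∀ t : Finset Γ(D.obj i, U), t ⊆ s → ∃ (n : Over i) (p : n ⟶ j),
      ∀ a ∈ t, algebraMap _ (StageRing D U n) a ∈ Ideal.ofList (lj.map (trans D U p)) := by
    intro t
    induction t using Finset.induction with
    | empty => exact fun _ => ⟨j, 𝟙 j, by simp⟩
    | insert a t _ ih =>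
      intro hts
      obtain ⟨n₁, p₁, h₁⟩ := ih fun x hx => hts (Finset.mem_insert_of_mem hx)
      have ha : algebraMap _ (LimRing D c U) a ∈ (Ideal.ofList lj).map (toLim D c U j).toRingHom := by
        rw [Ideal.map_ofList, show lj.map (toLim D c U j).toRingHom = l from hlj, hl]
        exact Ideal.mem_map_of_mem _ (hs ▸ Ideal.subset_span (hts (Finset.mem_insert_self ..)))
      obtain ⟨n₂, p₂, y, hy, hye⟩ := exists_lift_mem D c hc hU j _ _ ha
      obtain ⟨n₃, p₃, h₃⟩ := exists_kill D c hc hU n₂ (y - algebraMap _ _ a) (by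
        rw [map_sub, hye, AlgHom.commutes, sub_self])
      obtain ⟨n, q₁, q₂, hq⟩ := IsCofiltered.cospan p₁ (p₃ ≫ p₂)
      refine ⟨n, q₁ ≫ p₁, fun x hx => ?_⟩
      have hcomp : ∀ {m m' : Over i} (u : m ⟶ j) (v : m' ⟶ m),
          (Ideal.ofList (lj.map (trans D U u))).map (trans D U v).toRingHom = Ideal.ofList (lj.map (trans D U (v ≫ u))) := by
        intro m m' u v
        rw [Ideal.map_ofList, List.map_map]
        congr 1
        exact List.map_congr_left fun z _ => trans_trans D U u v z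
      rcases Finset.mem_insert.mp hx with rfl | hx
      · rw [hq, ← Category.assoc, ← hcomp p₂ (q₂ ≫ p₃)]
        have h := Ideal.mem_map_of_mem (trans D U (q₂ ≫ p₃)).toRingHom hy
        rw [Ideal.map_ofList] at h
        convert h using 1
        · rfl
        · show _ = trans D U (q₂ ≫ p₃) y
          rw [← trans_trans, sub_eq_zero.mp ((map_sub _ _ _).symm.trans h₃), AlgHom.commutes, AlgHom.commutes]
      · rw [← hcomp p₁ q₁, ← AlgHom.commutes (trans D U q₁)]
        exact Ideal.mem_map_of_mem _ (h₁ x hx)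
  obtain ⟨n, p, hn⟩ := hC s le_rfl
  refine ⟨n, lj.map (trans D U p), ?_, le_antisymm ?_ ?_⟩
  · rw [List.map_map, ← hlj]
    exact List.map_congr_left fun x _ => toLim_trans_apply D c U p x
  · refine Ideal.span_le.mpr fun x hx => ?_
    obtain ⟨y, hy, rfl⟩ := List.mem_map.mp hx
    rw [← map_trans_eq D U K p]
    exact Ideal.mem_map_of_mem _ (hmem y hy)
  · rw [← hs, Ideal.map_span, Ideal.span_le]
    rintro _ ⟨a, ha, rfl⟩
    exact hn a ha

include hc in
/-- Transversal regularity of a base-changed sequence holds at a stage. -/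
theorem exists_tr_stage {X : Scheme.{u}} (g : X ⟶ D.obj i) [LocallyOfFinitePresentation g] {O : X.Opens}
    (hO : IsAffineOpen O) {W : (D.obj i).Opens} (hW : IsAffineOpen W) (eO : O ≤ g ⁻¹ᵁ W) (l : List Γ(X, O))
    (h : letI := (g.appLE W O eO).hom.toAlgebra
      RegImm.IsTransRegularSeq (LimRing D c W) (LimRing D c W ⊗[Γ(D.obj i, W)] Γ(X, O))
        (l.map (Algebra.TensorProduct.includeRight (R := Γ(D.obj i, W)) (A := LimRing D c W) (B := Γ(X, O))))) :
    ∃ k : Over i, letI := (g.appLE W O eO).hom.toAlgebra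
      RegImm.IsTransRegularSeq (StageRing D W k) (StageRing D W k ⊗[Γ(D.obj i, W)] Γ(X, O))
        (l.map (Algebra.TensorProduct.includeRight (R := Γ(D.obj i, W)) (A := StageRing D W k) (B := Γ(X, O)))) := by
  letI : Algebra Γ(D.obj i, W) Γ(X, O) := (g.appLE W O eO).hom.toAlgebra
  haveI : Algebra.FinitePresentation Γ(D.obj i, W) Γ(X, O) :=
    LocallyOfFinitePresentation.finitePresentation_appLE (f := g) hW hO eO
  obtain ⟨α, _, hα, hne, F, hF⟩ := IsFiltered.exists_directed (Over i)ᵒᵖ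
  haveI := hF
  haveI := hα
  let K : α → Over i := fun a => (F.obj a).unop
  let G : α → Type u := fun a => StageRing D W (K a)
  let m : ∀ a b, a ≤ b → (K b ⟶ K a) := fun a b hab => (F.map (homOfLE hab)).unop
  let τ : ∀ a b, a ≤ b → G a →ₐ[Γ(D.obj i, W)] G b := fun a b hab => trans D W (m a b hab)
  letI : ∀ a, Algebra (G a) (LimRing D c W) := fun a => (toLim D c W (K a)).toRingHom.toAlgebra
  haveI : ∀ a, IsScalarTower Γ(D.obj i, W) (G a) (LimRing D c W) :=
    fun a => IsScalarTower.of_algebraMap_eq fun r => ((toLim D c W (K a)).commutes r).symm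
  have hcolim : FlatCA.IsDirectedColimitRing G (fun a b hab => (τ a b hab).toRingHom) (LimRing D c W) := by
    refine ⟨hα, hne, fun a => RingHom.ext fun x => ?_, fun a b d hab hbd => RingHom.ext fun x => ?_,
      fun a b hab => RingHom.ext fun x => ?_, fun y => ?_, fun a x hx => ?_⟩
    · show trans D W (m a a le_rfl) x = x
      rw [show m a a le_rfl = 𝟙 (K a) by simp only [m, homOfLE_refl, F.map_id]; rfl]
      have aux : ∀ {Z : Scheme.{u}} (φ : Z ⟶ Z), φ = 𝟙 Z → ∀ (V : Z.Opens) (e : V ≤ φ ⁻¹ᵁ V) (y : Γ(Z, V)),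
          φ.appLE V V e y = y := by
        rintro Z φ rfl V e y
        simp only [Scheme.Hom.appLE, Scheme.Hom.id_app, Category.id_comp]
        exact congr($(Z.presheaf.map_id _) y)
      exact aux (D.map (𝟙 (K a).left)) (D.map_id _) _ _ x
    · show trans D W (m b d hbd) (trans D W (m a b hab) x) = trans D W (m a d (hab.trans hbd)) x
      rw [trans_trans, show m b d hbd ≫ m a b hab = m a d (hab.trans hbd) by
        simp only [m, ← unop_comp, ← F.map_comp, homOfLE_comp]]
    · exact toLim_trans_apply D c W (m a b hab) x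
    · obtain ⟨j, x, hx⟩ := exists_lift_function D c hc hW y
      obtain ⟨a, ⟨p⟩⟩ := ((Functor.final_iff_of_isFiltered F).mp hF).1 (op j)
      exact ⟨a, trans D W p.unop x, (toLim_trans_apply D c W p.unop x).trans hx⟩
    · obtain ⟨k', p, hp⟩ := exists_kill D c hc hW (K a) x hx
      obtain ⟨b, ⟨r⟩⟩ := ((Functor.final_iff_of_isFiltered F).mp hF).1 (op k')
      obtain ⟨d, had, hbd⟩ := exists_ge_ge a b
      obtain ⟨e, t, ht⟩ := Functor.Final.exists_coeq (F := F) (p.op ≫ r ≫ F.map (homOfLE hbd)) (F.map (homOfLE had))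
      refine ⟨e, had.trans (leOfHom t), ?_⟩
      show trans D W (m a e (had.trans (leOfHom t))) x = 0
      have hm : m a e (had.trans (leOfHom t)) = ((r ≫ F.map (homOfLE hbd)) ≫ F.map t).unop ≫ p := by
        apply Quiver.Hom.op_inj
        simp only [m, Quiver.Hom.op_unop, op_comp]
        rw [Category.assoc, Category.assoc] at ht
        rw [Category.assoc, ht, ← F.map_comp]
        congr 1
      rw [hm, ← trans_trans, hp, map_zero]
  obtain ⟨a, ha⟩ := Groth.L07.TransStage.exists_transReg_stage τ hcolim l h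
  exact ⟨K a, ha a le_rfl⟩

end Stage

/-- The ideal of an immersion on an affine open over a chart, after base change. -/
theorem ker_baseChange {X S X' S' Z Z' : Scheme.{u}} {g : X ⟶ S} {g' : X' ⟶ S'} {q : X' ⟶ X} {h : S' ⟶ S}
    (sq : IsPullback q g' g h) {i : Z ⟶ X} {i' : Z' ⟶ X'} {gZ : Z' ⟶ Z} (hsq : IsPullback gZ i' i q)
    {U : X.Opens} (hU : IsAffineOpen U) {W : S.Opens} (hW : IsAffineOpen W) (eU : U ≤ g ⁻¹ᵁ W)
    (hcl : IsClosedImmersion (i ∣_ U)) {W' : S'.Opens} (hW' : IsAffineOpen W') (eW : W' ≤ h ⁻¹ᵁ W)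
    {T : X'.Opens} (hT : IsAffineOpen T) (eT : T ≤ q ⁻¹ᵁ U) (eT' : T ≤ g' ⁻¹ᵁ W') :
    IsClosedImmersion (i' ∣_ T) ∧
      RingHom.ker (i'.app T).hom = (RingHom.ker (i.app U).hom).map (q.appLE U T eT).hom := by
  obtain ⟨hP, -, hcl', hk, -⟩ := Groth.L07.TransImm.exists_baseChange_chart sq hsq hU hW eU hcl hW' eW
  obtain ⟨hclT, hkT⟩ := Groth.L07.RegImmAt.ker_restrict hP hT (le_inf eT eT') hcl'
  refine ⟨hclT, ?_⟩
  rw [hkT, hk, Ideal.map_map, ← CommRingCat.hom_comp, Scheme.Hom.appLE_map]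

variable {I : Type u} [SmallCategory I] [IsCofiltered I] {D : I ⥤ Scheme.{u}} {c : Cone D}
  [∀ (i j : I) (f : i ⟶ j), IsAffineHom (D.map f)] {i : I}
  {Z₀ X₀ Z X : Scheme.{u}} {f₀ : Z₀ ⟶ X₀} {g₀ : X₀ ⟶ D.obj i} {qZ : Z ⟶ Z₀} {qX : X ⟶ X₀}
  {f : Z ⟶ X} {g : X ⟶ c.pt}

omit [IsCofiltered I] [∀ (i j : I) (f : i ⟶ j), IsAffineHom (D.map f)] in
theorem isPullback_toStage_fst (hX : IsPullback qX g g₀ (c.π.app i)) (k : Over i) :
    IsPullback (toStage hX k) g (pullback.fst (D.map k.hom) g₀) (c.π.app k.left) := by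
  refine IsPullback.of_right ?_ (toStage_fst hX k) (IsPullback.of_hasPullback (D.map k.hom) g₀).flip
  rw [toStage_snd, c.w]
  exact hX

omit [IsCofiltered I] [∀ (i j : I) (f : i ⟶ j), IsAffineHom (D.map f)] in
theorem isPullback_map_fst (g₀ : X₀ ⟶ D.obj i) {j k : Over i} (φ : k ⟶ j) :
    IsPullback ((bcDiagram D g₀).map φ) (pullback.fst (D.map k.hom) g₀) (pullback.fst (D.map j.hom) g₀)
      (D.map φ.left) := by
  refine IsPullback.of_right ?_ ?_ (IsPullback.of_hasPullback (D.map j.hom) g₀).flip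
  · have h1 : (bcDiagram D g₀).map φ ≫ pullback.snd (D.map j.hom) g₀ = pullback.snd (D.map k.hom) g₀ := by
      simp [bcDiagram]
    rw [h1, ← D.map_comp, Over.w φ]
    exact (IsPullback.of_hasPullback (D.map k.hom) g₀).flip
  · simp [bcDiagram]

/-- Transversal regularity at a point descends to a stage. -/
theorem exists_stage_transAt [LocallyOfFinitePresentation g₀] [IsImmersion f₀] [LocallyOfFinitePresentation f₀]
    (hc : IsLimit c) (hX : IsPullback qX g g₀ (c.π.app i)) (hZ : IsPullback qZ f f₀ qX) (z : Z)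
    (h : RegImm.IsTransRegularImmersionAt g f z) :
    ∃ k : Over i, RegImm.IsTransRegularImmersionAt (pullback.fst (D.map k.hom) g₀) (stageHom (D := D) f₀ g₀ k)
      (toStage (hZ.paste_vert hX) k z) := by
  obtain ⟨⟨U, hU⟩, ⟨V, hV⟩, e, hzU, hcl, rs, htr, hker⟩ := h
  obtain ⟨U₀, W, hU₀, hW, eU₀, -, hzU₀, hcl₀⟩ := Groth.L07.TransImm.exists_chart g₀ f₀ (qZ z) ⊤ trivial
  haveI : ∀ (j l : Over i) (m : j ⟶ l), IsAffineHom ((bcDiagram D g₀).map m) := fun _ _ m => inferInstance
  let k₀ : Over i := Over.mk (𝟙 i)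
  let P₀ : ((bcDiagram D g₀).obj k₀).Opens := pullback.snd (D.map k₀.hom) g₀ ⁻¹ᵁ U₀
  have hP₀ : IsAffineOpen P₀ := hU₀.preimage _
  let E := bcDiagram D g₀
  let cE := sqCone hX
  have hE : IsLimit cE := isLimitSqCone hc hX
  haveI : ∀ k : Over i, IsAffineHom (cE.π.app k) := fun k => isAffineHom_π_app E cE hE k
  have hqX : qX ⁻¹ᵁ U₀ = cE.π.app k₀ ⁻¹ᵁ P₀ := by
    rw [← Scheme.Hom.comp_preimage]
    exact congrArg (· ⁻¹ᵁ U₀) (toStage_snd hX k₀).symm
  have hzP : f z ∈ cE.π.app k₀ ⁻¹ᵁ P₀ := by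
    rw [← hqX]
    show qX (f z) ∈ U₀
    rw [show qX (f z) = f₀ (qZ z) from (congrArg (fun m : Z ⟶ X₀ => m z) hZ.w).symm]
    exact hzU₀
  obtain ⟨b, hbU, hzb⟩ := (hP₀.preimage (cE.π.app k₀)).exists_basicOpen_le ⟨f z, hzU⟩ hzP
  obtain ⟨j, x, hx⟩ := exists_lift_function E cE hE hP₀ b
  obtain ⟨k, pk, rfl⟩ := Over.mk_surjective j
  let q : X ⟶ E.obj k := toStage hX k
  let pk' : E.obj k ⟶ E.obj k₀ := E.map pk
  let O : (E.obj k).Opens := (E.obj k).basicOpen x
  have hO : IsAffineOpen O := (hP₀.preimage pk').basicOpen x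
  have hOle : O ≤ pk' ⁻¹ᵁ P₀ := (E.obj k).basicOpen_le x
  let Wk := D.map k.hom ⁻¹ᵁ W
  have hWk : IsAffineOpen Wk := hW.preimage _
  have hpk : pk' ≫ pullback.snd (D.map k₀.hom) g₀ = pullback.snd (D.map k.hom) g₀ := by
    simp [pk', E, bcDiagram]
  have hOU₀ : O ≤ pullback.snd (D.map k.hom) g₀ ⁻¹ᵁ U₀ := by
    rw [← hpk, Scheme.Hom.comp_preimage]
    exact hOle
  have eO : O ≤ pullback.fst (D.map k.hom) g₀ ⁻¹ᵁ Wk := fun y hy => by
    show (pullback.fst (D.map k.hom) g₀ ≫ D.map k.hom) y ∈ W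
    rw [pullback.condition]
    exact eU₀ (hOU₀ hy)
  -- the immersion at the stage
  obtain ⟨hclO, -⟩ := ker_baseChange (IsPullback.of_hasPullback (D.map k.hom) g₀).flip
    (isPullback_stageHom f₀ g₀ k) hU₀ hW eU₀ hcl₀ hWk le_rfl hO hOU₀ eO
  haveI : LocallyOfFinitePresentation (pullback.fst (D.map k.hom) g₀) :=
    MorphismProperty.pullback_fst _ _ inferInstance
  haveI : LocallyOfFinitePresentation (stageHom (D := D) f₀ g₀ k ≫ pullback.fst (D.map k.hom) g₀) := by
    rw [stageHom_fst]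
    exact MorphismProperty.pullback_fst _ _ inferInstance
  let K := RingHom.ker ((stageHom (D := D) f₀ g₀ k).app O).hom
  have hK : K.FG := Groth.L07.TransImm.fg_ker (pullback.fst (D.map k.hom) g₀) (stageHom (D := D) f₀ g₀ k) hO hWk eO hclO
  -- its preimage in the limit
  let T : X.Opens := q ⁻¹ᵁ O
  have hT : IsAffineOpen T := hO.preimage (cE.π.app k)
  have hTb : T = X.basicOpen b := by
    rw [← hx, toLim_apply]
    refine Eq.trans ?_ (Scheme.basicOpen_appLE (X := X) (f := q) _ _ _ x).symm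
    refine (inf_eq_right.mpr ?_).symm
    rw [π_preimage E cE pk P₀]
    exact fun y hy => hOle hy
  have hTU : T ≤ U := hTb.le.trans hbU
  have hzT : f z ∈ T := hTb.ge hzb
  let Wl := c.π.app k.left ⁻¹ᵁ Wk
  haveI : IsAffineHom (c.π.app k.left) := isAffineHom_π_app D c hc k.left
  have hWl : IsAffineOpen Wl := hWk.preimage _
  have eT : T ≤ g ⁻¹ᵁ Wl := fun y hy => by
    show (g ≫ c.π.app k.left) y ∈ Wk
    rw [← (isPullback_toStage_fst hX k).w]
    exact eO hy
  obtain ⟨-, hkT⟩ := ker_baseChange (isPullback_toStage_fst hX k) (isPullback_toStage hX hZ k) hO hWk eO hclO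
    hWl le_rfl hT le_rfl eT
  obtain ⟨-, hkT'⟩ := Groth.L07.RegImmAt.ker_restrict hU hT hTU hcl
  let lT : List Γ(X, T) := rs.map (X.presheaf.map (homOfLE hTU).op).hom
  have hgen : Ideal.ofList lT = K.map (algebraMap Γ(E.obj k, O) (LimRing E cE O)) := by
    rw [hker, Ideal.map_ofList] at hkT'
    exact hkT'.symm.trans hkT
  have htrT : TR g T Wl eT lT := tr_restrict g hU hT hTU hV hWl e eT htr
  obtain ⟨j', lj, hlj, hgenj⟩ := exists_list_stage E cE hE hO hK lT hgen
  obtain ⟨k', pk₁, rfl⟩ := Over.mk_surjective j'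
  let μ : E.obj k' ⟶ E.obj k := E.map pk₁
  let O' : (E.obj k').Opens := μ ⁻¹ᵁ O
  have hO' : IsAffineOpen O' := hO.preimage μ
  let W' := D.map k'.hom ⁻¹ᵁ W
  have hW' : IsAffineOpen W' := hW.preimage _
  have hWk' : W' ≤ D.map pk₁.left ⁻¹ᵁ Wk := by
    rw [← Scheme.Hom.comp_preimage, ← D.map_comp, Over.w pk₁]
  have eO' : O' ≤ pullback.fst (D.map k'.hom) g₀ ⁻¹ᵁ W' := fun y hy => by
    have hw : pullback.fst (D.map k'.hom) g₀ ≫ D.map k'.hom = μ ≫ pullback.fst (D.map k.hom) g₀ ≫ D.map k.hom := by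
      rw [← Category.assoc, (isPullback_map_fst g₀ pk₁).w, Category.assoc, ← D.map_comp, Over.w pk₁]
    show (pullback.fst (D.map k'.hom) g₀ ≫ D.map k'.hom) y ∈ W
    rw [hw]
    exact eO hy
  obtain ⟨hclO', hkO'⟩ := ker_baseChange (isPullback_map_fst g₀ pk₁) (isPullback_stageHom_map f₀ g₀ pk₁) hO hWk eO
    hclO hW' hWk' hO' le_rfl eO'
  have hkO'' : RingHom.ker ((stageHom (D := D) f₀ g₀ k').app O').hom = Ideal.ofList lj := hkO'.trans hgenj.symm
  let q' : X ⟶ E.obj k' := toStage hX k'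
  let Wl' := c.π.app k'.left ⁻¹ᵁ W'
  haveI : IsAffineHom (c.π.app k'.left) := isAffineHom_π_app D c hc k'.left
  have hWl' : IsAffineOpen Wl' := hW'.preimage _
  haveI : LocallyOfFinitePresentation (pullback.fst (D.map k'.hom) g₀) :=
    MorphismProperty.pullback_fst _ _ inferInstance
  have hq : T = q' ⁻¹ᵁ O' := π_preimage E cE pk₁ O
  have hA := (tr_pullback_iff (isPullback_toStage_fst hX k') hO' hW' eO' hWl' le_rfl lj).mp (by
    have h1 := tr_restrict g hT (Groth.L02.InjFlat.affine_square (isPullback_toStage_fst hX k') hW' hO' hWl' eO' le_rfl).1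
      (inf_le_left.trans hq.ge) hWl hWl' eT inf_le_right htrT
    convert h1 using 1
    rw [← hlj, List.map_map]
    refine List.map_congr_left fun y _ => ?_
    show _ = (q'.appLE O' T hq.le ≫ X.presheaf.map _) y
    rw [Scheme.Hom.appLE_map])
  obtain ⟨m, hm⟩ := exists_tr_stage D c hc (pullback.fst (D.map k'.hom) g₀) hO' hW' eO' lj hA
  let k'' : Over i := Over.mk (m.hom ≫ k'.hom)
  let ν : k'' ⟶ k' := Over.homMk m.hom
  refine ⟨k'', ?_⟩
  have hW'' : IsAffineOpen (D.map m.hom ⁻¹ᵁ W') := hW'.preimage _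
  have htr'' := (tr_pullback_iff (isPullback_map_fst g₀ ν) hO' hW' eO' hW'' le_rfl lj).mpr hm
  have hmaps : ∀ {T₀ T' : Scheme.{u}} {a : T₀ ⟶ D.obj i} {qT : T' ⟶ T₀} {pT : T' ⟶ c.pt}
      (hT : IsPullback qT pT a (c.π.app i)) {j l : Over i} (p : j ⟶ l) (y : T'),
      (bcDiagram D a).map p (toStage hT j y) = toStage hT l y := fun hT j l p y =>
    congrArg (fun mm => mm y) ((sqCone hT).w p)
  have hz'' : stageHom (D := D) f₀ g₀ k' ((bcDiagram D (f₀ ≫ g₀)).map ν (toStage (hZ.paste_vert hX) k'' z)) = q' (f z) := by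
    rw [hmaps]
    exact congrArg (fun mm : Z ⟶ E.obj k' => mm z) (toStage_stageHom hX hZ k')
  have hzO' : q' (f z) ∈ O' := (hq.le hzT :)
  refine transAt_of_chart (isPullback_map_fst g₀ ν) (isPullback_stageHom_map f₀ g₀ ν) hO' hW' eO' hclO' hW'' le_rfl
    lj hkO'' htr'' _ (by rw [hz'']; exact hzO') ?_
  have h2 : stageHom (D := D) f₀ g₀ k'' (toStage (hZ.paste_vert hX) k'' z) = toStage hX k'' (f z) :=
    congrArg (fun mm : Z ⟶ E.obj k'' => mm z) (toStage_stageHom hX hZ k'')
  rw [h2]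
  show (pullback.fst (D.map k''.hom) g₀ ≫ D.map ν.left) (toStage hX k'' (f z)) ∈ W'
  rw [← (isPullback_map_fst g₀ ν).w]
  show pullback.fst (D.map k'.hom) g₀ ((bcDiagram D g₀).map ν (toStage hX k'' (f z))) ∈ W'
  rw [hmaps]
  exact eO' hzO'

/-- Transversally regular immersions descend along limits. -/
theorem exists_stage_trans [LocallyOfFinitePresentation g₀] [IsImmersion f₀] [LocallyOfFinitePresentation f₀]
    [CompactSpace Z₀] (hc : IsLimit c) (hX : IsPullback qX g g₀ (c.π.app i)) (hZ : IsPullback qZ f f₀ qX)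
    (h : RegImm.IsTransRegularImmersion g f) :
    ∃ k : Over i, RegImm.IsTransRegularImmersion (pullback.fst (D.map k.hom) g₀) (stageHom (D := D) f₀ g₀ k) := by
  by_contra hne
  let E := bcDiagram D (f₀ ≫ g₀)
  let Bad : ∀ k : Over i, Set (E.obj k) := fun k =>
    {z | ¬ RegImm.IsTransRegularImmersionAt (pullback.fst (D.map k.hom) g₀) (stageHom (D := D) f₀ g₀ k) z}
  haveI : ∀ {j l : Over i} (m : j ⟶ l), IsAffineHom (E.map m) := fun m => inferInstance
  have hclosed : ∀ k, IsClosed (Bad k) := fun k => by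
    refine isOpen_compl_iff.mp ?_
    rw [isOpen_iff_forall_mem_open]
    intro z hz
    obtain ⟨U, V, e, hzU, hrest⟩ := not_not.mp hz
    exact ⟨stageHom (D := D) f₀ g₀ k ⁻¹ᵁ U.1, fun y hy hbad => hbad ⟨U, V, e, hy, hrest⟩,
      (stageHom (D := D) f₀ g₀ k ⁻¹ᵁ U.1).2, hzU⟩
  have hnon : ∀ k, (Bad k).Nonempty := fun k => by
    by_contra he
    exact hne ⟨k, MorphismProperty.of_isPullback (isPullback_stageHom f₀ g₀ k) inferInstance,
      fun z => by_contra fun hz => he ⟨z, hz⟩⟩
  haveI : ∀ k : Over i, CompactSpace (E.obj k) := fun k => by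
    haveI : IsAffineHom (pullback.snd (D.map k.hom) (f₀ ≫ g₀)) := MorphismProperty.pullback_snd _ _ inferInstance
    exact QuasiCompact.compactSpace_of_compactSpace (pullback.snd (D.map k.hom) (f₀ ≫ g₀))
  obtain ⟨z, hz⟩ := exists_mem_of_isClosed_of_nonempty E (sqCone (hZ.paste_vert hX))
    (isLimitSqCone hc (hZ.paste_vert hX)) Bad hclosed hnon (fun k => (hclosed k).isCompact)
    (fun {j l} m y hy hl => hy (transAt_baseChange (isPullback_map_fst g₀ m) (isPullback_stageHom_map f₀ g₀ m) y hl))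
  obtain ⟨k, hk⟩ := exists_stage_transAt hc hX hZ z (h.2 z)
  exact hz k hk

end Groth.L07.TransImmLimit
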