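import Groth.Agent.L07.TransPoint
import Groth.Agent.L07.TransStage
import Groth.Agent.L19.LimMod.Sec
import Mathlib.CategoryTheory.Presentable.Directed
import Mathlib.CategoryTheory.Filtered.Final

/-!
Transversally regular sequences descend along limits with affine transition morphisms.
-/

set_option autoImplicit false
set_option linter.style.haveILetI false
set_option maxSynthPendingDepth 3
set_option backward.isDefEq.respectTransparency false
set_option backward.isDefEq.respectTransparency.types false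

universe u

open CategoryTheory CategoryTheory.Limits AlgebraicGeometry TensorProduct Opposite
open Groth.L07.TransPoint Groth.L19.LimMod

namespace Groth.L07.TransLimit

/-- Transversal regularity passes to a finer base. -/
theorem pull_step {X₀ S₀ T T' : Scheme.{u}} (g₀ : X₀ ⟶ S₀) (b : T ⟶ S₀) (a : T' ⟶ S₀) (h : T' ⟶ T)
    [IsAffineHom h] (hab : h ≫ b = a) (fs : List Γ(X₀, ⊤)) (O : X₀.Opens)
    (hO : ∀ x ∈ pullback.fst g₀ b ⁻¹ᵁ O,
      TRAt (pullback.snd g₀ b) (fs.map fun f => (pullback.fst g₀ b).appTop.hom f) x) :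
    ∀ x ∈ pullback.fst g₀ a ⁻¹ᵁ O,
      TRAt (pullback.snd g₀ a) (fs.map fun f => (pullback.fst g₀ a).appTop.hom f) x := by
  let q : pullback g₀ a ⟶ pullback g₀ b :=
    pullback.lift (pullback.fst g₀ a) (pullback.snd g₀ a ≫ h) (by rw [Category.assoc, hab, pullback.condition])
  have hq : q ≫ pullback.fst g₀ b = pullback.fst g₀ a := pullback.lift_fst _ _ _
  have sq : IsPullback q (pullback.snd g₀ a) (pullback.snd g₀ b) h := by
    refine IsPullback.of_right ?_ (pullback.lift_snd _ _ _) (IsPullback.of_hasPullback g₀ b)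
    rw [hq, hab]
    exact IsPullback.of_hasPullback g₀ a
  intro x hx
  have h' := baseChange sq _ (pullback.fst g₀ b ⁻¹ᵁ O) hO x (by rw [← Scheme.Hom.comp_preimage, hq]; exact hx)
  rw [List.map_map] at h'
  convert h' using 2
  funext f
  rw [← hq]
  rfl

variable {I : Type u} [SmallCategory I] [IsCofiltered I] (D : I ⥤ Scheme.{u}) (c : Cone D) (hc : IsLimit c)
  [∀ (i j : I) (f : i ⟶ j), IsAffineHom (D.map f)] {i₀ : I} {X₀ : Scheme.{u}} (g₀ : X₀ ⟶ D.obj i₀)
  [LocallyOfFinitePresentation g₀] (fs : List Γ(X₀, ⊤))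

include hc in
/-- On an affine piece. -/
theorem exists_stage_piece {U₀ : X₀.Opens} (hU₀ : IsAffineOpen U₀) {W : (D.obj i₀).Opens} (hW : IsAffineOpen W)
    (eU : U₀ ≤ g₀ ⁻¹ᵁ W)
    (h : ∀ x ∈ pullback.fst g₀ (c.π.app i₀) ⁻¹ᵁ U₀, TRAt (pullback.snd g₀ (c.π.app i₀))
      (fs.map fun f => (pullback.fst g₀ (c.π.app i₀)).appTop.hom f) x) :
    ∃ k : Over i₀, ∀ x ∈ pullback.fst g₀ (D.map k.hom) ⁻¹ᵁ U₀, TRAt (pullback.snd g₀ (D.map k.hom))
      (fs.map fun f => (pullback.fst g₀ (D.map k.hom)).appTop.hom f) x := by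
  haveI := affine_π D c hc i₀
  letI : Algebra Γ(D.obj i₀, W) Γ(X₀, U₀) := (g₀.appLE W U₀ eU).hom.toAlgebra
  haveI : Algebra.FinitePresentation Γ(D.obj i₀, W) Γ(X₀, U₀) :=
    LocallyOfFinitePresentation.finitePresentation_appLE (f := g₀) hW hU₀ eU
  have hA : RegImm.IsTransRegularSeq (LimRing D c W) (LimRing D c W ⊗[Γ(D.obj i₀, W)] Γ(X₀, U₀))
      ((resList fs U₀).map (Algebra.TensorProduct.includeRight (R := Γ(D.obj i₀, W)) (A := LimRing D c W)
        (B := Γ(X₀, U₀)))) :=
    (pullback_pair_iff (IsPullback.of_hasPullback g₀ (c.π.app i₀)) fs hU₀ hW eU (hW.preimage _)).mpr h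
  obtain ⟨α, _, hα, hne, F, hF⟩ := IsFiltered.exists_directed (Over i₀)ᵒᵖ
  haveI := hF
  let K : α → Over i₀ := fun a => (F.obj a).unop
  let G : α → Type u := fun a => StageRing D W (K a)
  let m : ∀ a b, a ≤ b → (K b ⟶ K a) := fun a b hab => (F.map (homOfLE hab)).unop
  let g : ∀ a b, a ≤ b → G a →ₐ[Γ(D.obj i₀, W)] G b := fun a b hab => trans D W (m a b hab)
  letI : ∀ a, Algebra (G a) (LimRing D c W) := fun a => (toLim D c W (K a)).toRingHom.toAlgebra
  haveI : ∀ a, IsScalarTower Γ(D.obj i₀, W) (G a) (LimRing D c W) :=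
    fun a => IsScalarTower.of_algebraMap_eq fun r => ((toLim D c W (K a)).commutes r).symm
  have htrans : ∀ {j k l : Over i₀} (p : k ⟶ j) (q : l ⟶ k) (x : StageRing D W j),
      trans D W q (trans D W p x) = trans D W (q ≫ p) x := fun p q x =>
    appLE_comp_apply _ _ _ (D.map_comp q.left p.left).symm _ _ _ x
  have hcolim : FlatCA.IsDirectedColimitRing G (fun a b hab => (g a b hab).toRingHom) (LimRing D c W) := by
    refine ⟨hα, hne, fun a => RingHom.ext fun x => ?_, fun a b d hab hbd => RingHom.ext fun x => ?_,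
      fun a b hab => RingHom.ext fun x => ?_, fun y => ?_, fun a x hx => ?_⟩
    · show trans D W (m a a le_rfl) x = x
      rw [show m a a le_rfl = 𝟙 (K a) by simp only [m, homOfLE_refl, F.map_id]; rfl]
      have aux : ∀ {Z : Scheme.{u}} (φ : Z ⟶ Z), φ = 𝟙 Z → ∀ (V : Z.Opens) (e : V ≤ φ ⁻¹ᵁ V) (y : Γ(Z, V)),
          φ.appLE V V e y = y := by
        rintro Z φ rfl V e y
        simp only [Scheme.Hom.appLE, Scheme.Hom.id_app, Category.id_comp]
        exact congr($(Z.presheaf.map_id _) y)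
      exact aux (D.map (𝟙 (K a).left)) (D.map_id _) _ _ x
    · show trans D W (m b d hbd) (trans D W (m a b hab) x) = trans D W (m a d (hab.trans hbd)) x
      rw [htrans, show m b d hbd ≫ m a b hab = m a d (hab.trans hbd) by
        simp only [m, ← unop_comp, ← F.map_comp, homOfLE_comp]]
    · exact DFunLike.congr_fun (toLim_trans D c W (m a b hab)) x
    · obtain ⟨j, x, hx⟩ := exists_lift_function D c hc hW y
      obtain ⟨a, ⟨p⟩⟩ := ((Functor.final_iff_of_isFiltered F).mp hF).1 (op j)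
      exact ⟨a, trans D W p.unop x, (DFunLike.congr_fun (toLim_trans D c W p.unop) x).trans hx⟩
    · have hx' : (c.π.app (K a).left).app (D.map (K a).hom ⁻¹ᵁ W) x = 0 := by
        rw [← appLE_self (c.π.app (K a).left) _ le_rfl, ← ro_appLE (c.π.app (K a).left)
          (π_preimage D c (K a).hom W).le (π_preimage D c (K a).hom W).ge x, ← toLim_apply]
        exact (congrArg _ hx).trans (map_zero _)
      obtain ⟨k, f, hk⟩ := exists_app_map_eq_zero_of_isLimit D c hc (hW.preimage _).isCompact x hx'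
      let k' : Over i₀ := Over.mk (f ≫ (K a).hom)
      let p : k' ⟶ K a := Over.homMk f
      have hp : trans D W p x = 0 := by
        show (D.map f).appLE _ _ _ x = 0
        rw [Scheme.Hom.appLE, ConcreteCategory.comp_apply, hk, map_zero]
      obtain ⟨b, ⟨r⟩⟩ := ((Functor.final_iff_of_isFiltered F).mp hF).1 (op k')
      haveI := hα
      obtain ⟨d, had, hbd⟩ := exists_ge_ge a b
      obtain ⟨e, t, ht⟩ := Functor.Final.exists_coeq (F := F) (p.op ≫ r ≫ F.map (homOfLE hbd)) (F.map (homOfLE had))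
      refine ⟨e, had.trans (leOfHom t), ?_⟩
      show trans D W (m a e (had.trans (leOfHom t))) x = 0
      have hm : m a e (had.trans (leOfHom t)) = ((r ≫ F.map (homOfLE hbd)) ≫ F.map t).unop ≫ p := by
        apply Quiver.Hom.op_inj
        simp only [m, Quiver.Hom.op_unop, op_comp]
        rw [Category.assoc, Category.assoc] at ht
        rw [Category.assoc, ht, ← F.map_comp]
        congr 1
      rw [hm, ← htrans, hp, map_zero]
  obtain ⟨a, ha⟩ := Groth.L07.TransStage.exists_transReg_stage g hcolim (resList fs U₀) hA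
  exact ⟨K a, (pullback_pair_iff (IsPullback.of_hasPullback g₀ (D.map (K a).hom)) fs hU₀ hW eU (hW.preimage _)).mp
    (ha a le_rfl)⟩

include hc in
theorem exists_stage [CompactSpace X₀]
    (h : ∀ x : ↥(pullback g₀ (c.π.app i₀)), TRAt (pullback.snd g₀ (c.π.app i₀))
      (fs.map fun f => (pullback.fst g₀ (c.π.app i₀)).appTop.hom f) x) :
    ∃ k : Over i₀, ∀ x : ↥(pullback g₀ (D.map k.hom)), TRAt (pullback.snd g₀ (D.map k.hom))
      (fs.map fun f => (pullback.fst g₀ (D.map k.hom)).appTop.hom f) x := by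
  classical
  have hex : ∀ x : X₀, ∃ (U₀ : X₀.Opens) (k : Over i₀), x ∈ U₀ ∧ ∀ y ∈ pullback.fst g₀ (D.map k.hom) ⁻¹ᵁ U₀,
      TRAt (pullback.snd g₀ (D.map k.hom)) (fs.map fun f => (pullback.fst g₀ (D.map k.hom)).appTop.hom f) y := by
    intro x
    obtain ⟨W, hW, hxW, -⟩ := exists_isAffineOpen_mem_and_subset (U := (⊤ : (D.obj i₀).Opens)) (x := g₀ x) trivial
    obtain ⟨U₀, hU₀, hxU, eU⟩ := exists_isAffineOpen_mem_and_subset (U := g₀ ⁻¹ᵁ W) (x := x) hxW
    obtain ⟨k, hk⟩ := exists_stage_piece D c hc g₀ fs hU₀ hW eU fun y _ => h y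
    exact ⟨U₀, k, hxU, hk⟩
  choose U k hxU hk using hex
  obtain ⟨s, hs⟩ := (isCompact_univ (X := X₀)).elim_finite_subcover (fun x => (U x : Set X₀))
    (fun x => (U x).2) fun x _ => Set.mem_iUnion.2 ⟨x, hxU x⟩
  obtain ⟨l, hl⟩ := IsCofiltered.inf_objs_exists (s.image k)
  refine ⟨l, fun y => ?_⟩
  obtain ⟨x, hx, hyx⟩ := Set.mem_iUnion₂.1 (hs (Set.mem_univ (pullback.fst g₀ (D.map l.hom) y)))
  obtain ⟨m⟩ := hl (Finset.mem_image_of_mem k hx)
  exact pull_step g₀ (D.map (k x).hom) (D.map l.hom) (D.map m.left) (by rw [← D.map_comp, Over.w m]) fs (U x)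
    (hk x) y hyx

end Groth.L07.TransLimit
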