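import Groth.Agent.L07.TransPoint
import Groth.Agent.L07.TransImm

/-!
Transversally regular sequences of sections on affine opens, and transversally regular immersions
under base change.
-/

set_option autoImplicit false
set_option linter.style.haveILetI false
set_option maxSynthPendingDepth 3
set_option backward.isDefEq.respectTransparency false
set_option backward.isDefEq.respectTransparency.types false

universe u

open CategoryTheory CategoryTheory.Limits AlgebraicGeometry TensorProduct RingTheory.Sequence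

namespace Groth.L07.TransPair

open Groth.L07.TransPoint (transReg_congr transReg_iff_base transReg_iff_stalks transReg_pushout_iff)

variable {X S : Scheme.{u}}

/-- Transversal regularity of sections on a pair of opens. -/
def TR (g : X ⟶ S) (U : X.Opens) (V : S.Opens) (e : U ≤ g ⁻¹ᵁ V) (l : List Γ(X, U)) : Prop :=
  letI := (g.appLE V U e).hom.toAlgebra
  RegImm.IsTransRegularSeq Γ(S, V) Γ(X, U) l

theorem tr_stalk_iff (g : X ⟶ S) {U : X.Opens} (hU : IsAffineOpen U) {V : S.Opens} (hV : IsAffineOpen V)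
    (e : U ≤ g ⁻¹ᵁ V) (l : List Γ(X, U)) :
    TR g U V e l ↔ ∀ (x : X) (hx : x ∈ U), letI := (g.stalkMap x).hom.toAlgebra
      RegImm.IsTransRegularSeq (S.presheaf.stalk (g x)) (X.presheaf.stalk x)
        (l.map (X.presheaf.germ U x hx).hom) := by
  letI := (g.appLE V U e).hom.toAlgebra
  letI : ∀ x : U, Algebra Γ(X, U) (X.presheaf.stalk x.1) := fun x => X.presheaf.algebra_section_stalk x
  letI : ∀ x : U, Algebra Γ(S, V) (S.presheaf.stalk (g x.1)) :=
    fun x => S.presheaf.algebra_section_stalk ⟨g x.1, e x.2⟩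
  letI : ∀ x : U, Algebra (S.presheaf.stalk (g x.1)) (X.presheaf.stalk x.1) :=
    fun x => (g.stalkMap x.1).hom.toAlgebra
  letI : ∀ x : U, Algebra Γ(S, V) (X.presheaf.stalk x.1) :=
    fun x => ((algebraMap Γ(X, U) (X.presheaf.stalk x.1)).comp (algebraMap Γ(S, V) Γ(X, U))).toAlgebra
  haveI : ∀ x : U, IsScalarTower Γ(S, V) Γ(X, U) (X.presheaf.stalk x.1) :=
    fun x => IsScalarTower.of_algebraMap_eq fun _ => rfl
  haveI : ∀ x : U, IsScalarTower Γ(S, V) (S.presheaf.stalk (g x.1)) (X.presheaf.stalk x.1) := fun x =>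
    IsScalarTower.of_algebraMap_eq fun a => by
      show (g.appLE V U e ≫ X.presheaf.germ U x.1 x.2) a = (S.presheaf.germ V (g x.1) (e x.2) ≫ g.stalkMap x.1) a
      rw [Scheme.Hom.germ_stalkMap, Scheme.Hom.appLE, Category.assoc, TopCat.Presheaf.germ_res]
  haveI : ∀ x : U, IsLocalization.AtPrime (X.presheaf.stalk x.1) (hU.primeIdealOf x).asIdeal :=
    fun x => hU.isLocalization_stalk x
  show RegImm.IsTransRegularSeq _ _ _ ↔ _
  rw [transReg_iff_stalks (fun x : U => (hU.primeIdealOf x).asIdeal) (fun x => (hU.primeIdealOf x).isPrime)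
    (fun Q hQ => ?_) (fun x : U => X.presheaf.stalk x.1) l]
  · have hpt : ∀ x : U, RegImm.IsTransRegularSeq Γ(S, V) (X.presheaf.stalk x.1)
        (l.map (algebraMap Γ(X, U) (X.presheaf.stalk x.1))) ↔
        RegImm.IsTransRegularSeq (S.presheaf.stalk (g x.1)) (X.presheaf.stalk x.1)
          (l.map (X.presheaf.germ U x.1 x.2).hom) := by
      intro x
      haveI := hV.isLocalization_stalk ⟨g x.1, e x.2⟩
      exact transReg_iff_base (S.presheaf.stalk (g x.1)) (hV.primeIdealOf ⟨g x.1, e x.2⟩).asIdeal.primeCompl _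
    exact ⟨fun h x hx => (hpt ⟨x, hx⟩).mp (h ⟨x, hx⟩), fun h x => (hpt x).mpr (h x.1 x.2)⟩
  · obtain ⟨x, hx⟩ : ∃ x : U, hU.primeIdealOf x = ⟨Q, hQ.isPrime⟩ :=
      ⟨⟨hU.fromSpec ⟨Q, hQ.isPrime⟩, hU.range_fromSpec.le ⟨_, rfl⟩⟩, hU.fromSpec.isOpenEmbedding.injective (by
        rw [hU.fromSpec_primeIdealOf])⟩
    exact ⟨x, by rw [hx]⟩

/-- Smaller open of the source, any base. -/
theorem tr_restrict (g : X ⟶ S) {U U' : X.Opens} (hU : IsAffineOpen U) (hU' : IsAffineOpen U') (hle : U' ≤ U)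
    {V V' : S.Opens} (hV : IsAffineOpen V) (hV' : IsAffineOpen V') (e : U ≤ g ⁻¹ᵁ V) (e' : U' ≤ g ⁻¹ᵁ V')
    {l : List Γ(X, U)} (h : TR g U V e l) : TR g U' V' e' (l.map (X.presheaf.map (homOfLE hle).op).hom) := by
  rw [tr_stalk_iff g hU hV] at h
  rw [tr_stalk_iff g hU' hV']
  intro x hx
  rw [List.map_map]
  convert h x (hle hx) using 2
  funext b
  exact X.presheaf.germ_res_apply _ x hx b

variable {X' S' : Scheme.{u}} {g : X ⟶ S} {g' : X' ⟶ S'} {q : X' ⟶ X} {h : S' ⟶ S}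

/-- Base change on a pair of affine opens, in terms of tensor products. -/
theorem tr_pullback_iff (sq : IsPullback q g' g h) {U : X.Opens} (hU : IsAffineOpen U) {W : S.Opens}
    (hW : IsAffineOpen W) (eU : U ≤ g ⁻¹ᵁ W) {W' : S'.Opens} (hW' : IsAffineOpen W') (eW : W' ≤ h ⁻¹ᵁ W)
    (l : List Γ(X, U)) :
    TR g' (q ⁻¹ᵁ U ⊓ g' ⁻¹ᵁ W') W' inf_le_right (l.map (q.appLE U (q ⁻¹ᵁ U ⊓ g' ⁻¹ᵁ W') inf_le_left).hom) ↔
    (letI := (g.appLE W U eU).hom.toAlgebra
     letI := (h.appLE W W' eW).hom.toAlgebra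
     RegImm.IsTransRegularSeq Γ(S', W') (Γ(S', W') ⊗[Γ(S, W)] Γ(X, U))
      (l.map (Algebra.TensorProduct.includeRight (R := Γ(S, W)) (A := Γ(S', W')) (B := Γ(X, U))))) := by
  obtain ⟨hP, hpo⟩ := Groth.L02.InjFlat.affine_square sq hW hU hW' eU eW
  letI := (g.appLE W U eU).hom.toAlgebra
  letI := (h.appLE W W' eW).hom.toAlgebra
  let P : X'.Opens := q ⁻¹ᵁ U ⊓ g' ⁻¹ᵁ W'
  letI algU : Algebra Γ(X, U) Γ(X', P) := (q.appLE U P inf_le_left).hom.toAlgebra
  letI algS : Algebra Γ(S', W') Γ(X', P) := (g'.appLE W' P inf_le_right).hom.toAlgebra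
  letI : Algebra Γ(S, W) Γ(X', P) := (g.appLE W U eU ≫ q.appLE U P inf_le_left).hom.toAlgebra
  haveI : IsScalarTower Γ(S, W) Γ(X, U) Γ(X', P) := IsScalarTower.of_algebraMap_eq fun _ => rfl
  haveI : IsScalarTower Γ(S, W) Γ(S', W') Γ(X', P) :=
    IsScalarTower.of_algebraMap_eq fun r => congr($(hpo.w) r)
  haveI : Algebra.IsPushout Γ(S, W) Γ(S', W') Γ(X, U) Γ(X', P) :=
    CommRingCat.isPushout_iff_isPushout.mp hpo.flip
  exact transReg_pushout_iff (B' := Γ(X', P)) l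

/-- Base change on a pair of affine opens. -/
theorem tr_baseChange (sq : IsPullback q g' g h) {U : X.Opens} (hU : IsAffineOpen U) {W : S.Opens}
    (hW : IsAffineOpen W) (eU : U ≤ g ⁻¹ᵁ W) {W' : S'.Opens} (hW' : IsAffineOpen W') (eW : W' ≤ h ⁻¹ᵁ W)
    {l : List Γ(X, U)} (hl : TR g U W eU l) :
    TR g' (q ⁻¹ᵁ U ⊓ g' ⁻¹ᵁ W') W' inf_le_right (l.map (q.appLE U (q ⁻¹ᵁ U ⊓ g' ⁻¹ᵁ W') inf_le_left).hom) := by
  rw [tr_pullback_iff sq hU hW eU hW' eW l]
  letI := (g.appLE W U eU).hom.toAlgebra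
  letI := (h.appLE W W' eW).hom.toAlgebra
  exact Groth.L07.TransSeq.transReg_baseChange hl _

/-- A chart gives transversal regularity after base change. -/
theorem transAt_of_chart (sq : IsPullback q g' g h) {Z Z' : Scheme.{u}} {i : Z ⟶ X} {i' : Z' ⟶ X'} {gZ : Z' ⟶ Z}
    (hsq : IsPullback gZ i' i q) {U : X.Opens} (hU : IsAffineOpen U) {W : S.Opens}
    (hW : IsAffineOpen W) (eU : U ≤ g ⁻¹ᵁ W) (hcl : IsClosedImmersion (i ∣_ U))
    {W' : S'.Opens} (hW' : IsAffineOpen W') (eW : W' ≤ h ⁻¹ᵁ W) (l : List Γ(X, U))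
    (hker : RingHom.ker (i.app U).hom = Ideal.ofList l)
    (hl : TR g' (q ⁻¹ᵁ U ⊓ g' ⁻¹ᵁ W') W' inf_le_right (l.map (q.appLE U (q ⁻¹ᵁ U ⊓ g' ⁻¹ᵁ W') inf_le_left).hom))
    (z' : Z') (hzU : i (gZ z') ∈ U) (hzW : g' (i' z') ∈ W') :
    RegImm.IsTransRegularImmersionAt g' i' z' := by
  letI := (g.appLE W U eU).hom.toAlgebra
  letI := (h.appLE W W' eW).hom.toAlgebra
  obtain ⟨hU', -, hcl', hk, -⟩ := Groth.L07.TransImm.exists_baseChange_chart sq hsq hU hW eU hcl hW' eW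
  refine ⟨⟨_, hU'⟩, ⟨W', hW'⟩, inf_le_right, ⟨?_, hzW⟩, hcl', _, hl, ?_⟩
  · show q (i' z') ∈ U
    rw [show q (i' z') = i (gZ z') from (congrArg (fun m : Z' ⟶ X => m z') hsq.w).symm]
    exact hzU
  · rw [hk, hker, Ideal.map_ofList]

/-- Transversal regularity at a point is stable under base change. -/
theorem transAt_baseChange (sq : IsPullback q g' g h) {Z Z' : Scheme.{u}} {i : Z ⟶ X} {i' : Z' ⟶ X'} {gZ : Z' ⟶ Z}
    (hsq : IsPullback gZ i' i q) (z' : Z') (hz : RegImm.IsTransRegularImmersionAt g i (gZ z')) :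
    RegImm.IsTransRegularImmersionAt g' i' z' := by
  obtain ⟨⟨U, hU⟩, ⟨V, hV⟩, e, hzU, hcl, rs, htr, hker⟩ := hz
  have hsV : g' (i' z') ∈ h ⁻¹ᵁ V := by
    show (g' ≫ h) (i' z') ∈ V
    rw [← sq.w]
    show g (q (i' z')) ∈ V
    rw [show q (i' z') = i (gZ z') from (congrArg (fun m : Z' ⟶ X => m z') hsq.w).symm]
    exact e hzU
  obtain ⟨V', hV', hzV', e'⟩ := exists_isAffineOpen_mem_and_subset hsV
  exact transAt_of_chart sq hsq hU hV e hcl hV' e' rs hker (tr_baseChange sq hU hV e hV' e' htr) z' hzU hzV'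

/-- Transversally regular immersions are stable under base change. -/
theorem trans_baseChange (sq : IsPullback q g' g h) {Z Z' : Scheme.{u}} {i : Z ⟶ X} {i' : Z' ⟶ X'} {gZ : Z' ⟶ Z}
    (hsq : IsPullback gZ i' i q) (hi : RegImm.IsTransRegularImmersion g i) :
    RegImm.IsTransRegularImmersion g' i' :=
  ⟨MorphismProperty.of_isPullback hsq hi.1, fun z' => transAt_baseChange sq hsq z' (hi.2 _)⟩

end Groth.L07.TransPair
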