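import Groth.Agent.L07.RedBase
import Groth.Agent.L07.FlatReducedFibres
import Groth.Agent.L07.GeomReducedScheme
import Groth.Agent.L06.FormSmoothIso

/-!
At a generic point of a fibre with geometrically reduced fibre at most one component is universally open over an
irreducible base (EGA IV 15.6.2).
-/

universe u

open TensorProduct

namespace Groth.L07.FlatGeomReduced

set_option autoImplicit false
set_option linter.style.haveILetI false

variable {R C C' : Type u} [CommRing R] [CommRing C] [CommRing C'] [Algebra R C] [Algebra R C']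

/-- At a generic point of a reduced fibre the maximal ideal comes from the base. -/
theorem map_eq_maximalIdeal (𝔷 : Ideal C) [𝔷.IsPrime] (hred : GeomRedAt R 𝔷)
    (hgen : ∀ q' : Ideal C, q'.IsPrime → q' ≤ 𝔷 → q'.comap (algebraMap R C) = 𝔷.comap (algebraMap R C) → q' = 𝔷) :
    (𝔷.comap (algebraMap R C)).map (algebraMap R (Localization.AtPrime 𝔷)) =
      IsLocalRing.maximalIdeal (Localization.AtPrime 𝔷) := by
  let p := 𝔷.comap (algebraMap R C)
  let S := Localization.AtPrime 𝔷
  have hle : p.map (algebraMap R S) ≤ IsLocalRing.maximalIdeal S := by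
    rw [Ideal.map_le_iff_le_comap]
    intro r hr
    show algebraMap R S r ∈ IsLocalRing.maximalIdeal S
    rw [IsScalarTower.algebraMap_apply R C S]
    exact (IsLocalization.AtPrime.to_map_mem_maximal_iff S 𝔷 _).mpr hr
  refine le_antisymm hle ?_
  rw [← (isRadical_map 𝔷 hred).radical, Ideal.radical_eq_sInf]
  refine le_sInf fun Q hQ => ?_
  obtain ⟨hpQ, hQp⟩ := hQ
  haveI := hQp
  have hQz : Q.comap (algebraMap C S) ≤ 𝔷 := fun c hc =>
    (IsLocalization.AtPrime.to_map_mem_maximal_iff S 𝔷 c).mp (IsLocalRing.le_maximalIdeal hQp.ne_top hc)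
  have h := hgen _ (Ideal.IsPrime.comap _) hQz (le_antisymm (Ideal.comap_mono hQz) fun r hr => by
    show algebraMap C S (algebraMap R C r) ∈ Q
    rw [← IsScalarTower.algebraMap_apply]
    exact hpQ (Ideal.mem_map_of_mem _ hr))
  intro a ha
  obtain ⟨c, s, rfl⟩ := IsLocalization.exists_mk'_eq 𝔷.primeCompl a
  rw [IsLocalization.AtPrime.mk'_mem_maximal_iff (Localization.AtPrime 𝔷) 𝔷, ← h] at ha
  rw [IsLocalization.mk'_mem_iff]
  exact ha

/-- Geometric reducedness at a generic point of a fibre passes to closed subschemes through it. -/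
theorem geomRedAt_of_surjective (π : C →ₐ[R] C') (hπ : Function.Surjective π) (𝔷' : Ideal C') [𝔷'.IsPrime]
    (hred : GeomRedAt R (𝔷'.comap π.toRingHom))
    (hgen : ∀ q' : Ideal C, q'.IsPrime → q' ≤ 𝔷'.comap π.toRingHom →
      q'.comap (algebraMap R C) = (𝔷'.comap π.toRingHom).comap (algebraMap R C) → q' = 𝔷'.comap π.toRingHom) :
    GeomRedAt R 𝔷' := by
  intro L _ _ hL Q _ hQ
  let 𝔷 := 𝔷'.comap π.toRingHom
  let πL : C ⊗[R] L →ₐ[R] C' ⊗[R] L := Algebra.TensorProduct.map π (AlgHom.id R L)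
  let Q₀ : Ideal (C ⊗[R] L) := Q.comap πL.toRingHom
  have hp : 𝔷.comap (algebraMap R C) = 𝔷'.comap (algebraMap R C') := by
    show (𝔷'.comap π.toRingHom).comap _ = _
    rw [Ideal.comap_comap]; congr 1; exact π.comp_algebraMap
  have hQ₀ : Q₀.comap Algebra.TensorProduct.includeLeftRingHom = 𝔷 := by
    ext c
    show πL (c ⊗ₜ 1) ∈ Q ↔ π c ∈ 𝔷'
    rw [Algebra.TensorProduct.map_tmul, map_one, ← hQ]
    rfl
  haveI : Q₀.IsPrime := inferInstance
  haveI := hred L (hL.trans hp.symm) Q₀ hQ₀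
  have hker : ∀ j : C, π j = 0 →
      algebraMap (C ⊗[R] L) (Localization.AtPrime Q₀) (j ⊗ₜ[R] 1) = 0 := by
    intro j hj
    have hjz : algebraMap C (Localization.AtPrime 𝔷) j ∈ IsLocalRing.maximalIdeal (Localization.AtPrime 𝔷) :=
      (IsLocalization.AtPrime.to_map_mem_maximal_iff _ 𝔷 j).mpr (show π j ∈ 𝔷' by rw [hj]; exact zero_mem _)
    rw [← map_eq_maximalIdeal 𝔷 hred hgen, IsScalarTower.algebraMap_eq R C, ← Ideal.map_map,
      IsLocalization.algebraMap_mem_map_algebraMap_iff 𝔷.primeCompl] at hjz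
    obtain ⟨s, hs, hsj⟩ := hjz
    have h0 : ∀ a ∈ (𝔷.comap (algebraMap R C)).map (algebraMap R C), a ⊗ₜ[R] (1 : L) = (0 : C ⊗[R] L) := by
      intro a ha
      refine Submodule.span_induction ?_ ?_ ?_ ?_ (hx := ha)
      · rintro _ ⟨r, hr, rfl⟩
        rw [Algebra.algebraMap_eq_smul_one, smul_tmul, ← Algebra.algebraMap_eq_smul_one]
        rw [show algebraMap R L r = 0 from RingHom.mem_ker.mp ((hL.trans hp.symm).ge hr), tmul_zero]
      · exact zero_tmul _ _
      · intro u v _ _ hu hv; rw [add_tmul, hu, hv, add_zero]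
      · intro c u _ hu
        rw [smul_eq_mul, ← one_mul (1 : L), ← Algebra.TensorProduct.tmul_mul_tmul, hu, mul_zero]
    refine (IsLocalization.map_eq_zero_iff Q₀.primeCompl _ _).mpr ⟨⟨s ⊗ₜ 1, fun h => hs (hQ₀.le h)⟩, ?_⟩
    rw [Algebra.TensorProduct.tmul_mul_tmul, one_mul]
    exact h0 _ hsj
  have hπL : Function.Surjective πL := TensorProduct.map_surjective hπ fun x => ⟨x, rfl⟩
  let φ := Localization.localRingHom Q₀ Q πL.toRingHom rfl
  have hφ : Function.Surjective φ := fun a => by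
    obtain ⟨a, s, rfl⟩ := IsLocalization.exists_mk'_eq Q.primeCompl a
    obtain ⟨a, rfl⟩ := hπL a
    obtain ⟨t, ht⟩ := hπL s
    refine ⟨IsLocalization.mk' _ a (⟨t, fun h => s.2 (by rw [← ht]; exact h)⟩ : Q₀.primeCompl), ?_⟩
    simp only [φ, Localization.localRingHom_mk']
    congr 1
    exact Subtype.ext ht
  have hφi : Function.Injective φ := by
    rw [injective_iff_map_eq_zero]
    intro a ha
    obtain ⟨a, s, rfl⟩ := IsLocalization.exists_mk'_eq Q₀.primeCompl a
    simp only [φ, Localization.localRingHom_mk', IsLocalization.mk'_eq_zero_iff] at ha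
    obtain ⟨t, ht⟩ := ha
    obtain ⟨t', ht'⟩ := hπL t
    have hz : πL (t' * a) = 0 := by rw [map_mul, ht']; exact ht
    have hk : t' * a ∈ (RingHom.ker π.toRingHom).map
        (Algebra.TensorProduct.includeLeftRingHom : C →+* C ⊗[R] L) := by
      have := Algebra.TensorProduct.rTensor_ker (R := R) (S := R) (C := L) π hπ
      exact this.le hz
    have h2 : algebraMap (C ⊗[R] L) (Localization.AtPrime Q₀) (t' * a) = 0 := by
      refine RingHom.mem_ker.mp (Ideal.map_le_iff_le_comap.mpr (fun j hj => ?_) hk)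
      exact hker j hj
    rw [map_mul] at h2
    have ht0 : t' ∈ Q₀.primeCompl := fun h => t.2 (by rw [← ht']; exact h)
    have h3 := (IsLocalization.map_units (Localization.AtPrime Q₀) ⟨t', ht0⟩).mul_right_eq_zero.mp h2
    rw [IsLocalization.mk'_eq_zero_iff]
    exact (IsLocalization.map_eq_zero_iff Q₀.primeCompl _ a).mp h3
  exact isReduced_of_injective (RingEquiv.ofBijective φ ⟨hφi, hφ⟩).symm.toRingHom
    (RingEquiv.ofBijective φ ⟨hφi, hφ⟩).symm.injective

/-- Over a base with irreducible spectrum, at a generic point of a fibre where the fibre is geometrically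
reduced and both the morphism and its restriction to a component are universally open, there is no other
component and the generic fibre is geometrically reduced at it. -/
theorem unique_component [IsNoetherianRing R] [(nilradical R).IsPrime] [Algebra.FiniteType R C]
    [Algebra.FiniteType R C'] [IsDomain C'] (π : C →ₐ[R] C') (hπ : Function.Surjective π)
    (hker : RingHom.ker π.toRingHom ∈ minimalPrimes C)
    (𝔷' : Ideal C') [𝔷'.IsPrime]
    (hgen : ∀ q' : Ideal C, q'.IsPrime → q' ≤ 𝔷'.comap π.toRingHom →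
      q'.comap (algebraMap R C) = (𝔷'.comap π.toRingHom).comap (algebraMap R C) → q' = 𝔷'.comap π.toRingHom)
    (hred : GeomRedAt R (𝔷'.comap π.toRingHom))
    (hopen : ∀ (𝔴 : Ideal C) [𝔴.IsPrime], 𝔴 = 𝔷'.comap π.toRingHom →
      ∀ (B : Type u) [CommRing B] [IsDomain B] [IsDiscreteValuationRing B] [Algebra R B]
        (P : PrimeSpectrum (C ⊗[R] B)), P.asIdeal.comap Algebra.TensorProduct.includeLeftRingHom = 𝔴 →
        EGA43.IsOpenAt (PrimeSpectrum.comap (Algebra.TensorProduct.includeRight : B →ₐ[R] C ⊗[R] B).toRingHom) P)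
    (hopen' : ∀ (𝔴 : Ideal C') [𝔴.IsPrime], 𝔴 = 𝔷' →
      ∀ (B : Type u) [CommRing B] [IsDomain B] [IsDiscreteValuationRing B] [Algebra R B]
        (P : PrimeSpectrum (C' ⊗[R] B)), P.asIdeal.comap Algebra.TensorProduct.includeLeftRingHom = 𝔴 →
        EGA43.IsOpenAt (PrimeSpectrum.comap (Algebra.TensorProduct.includeRight : B →ₐ[R] C' ⊗[R] B).toRingHom) P) :
    (∀ P ∈ minimalPrimes C, P ≤ 𝔷'.comap π.toRingHom → P = RingHom.ker π.toRingHom) ∧
      GeomRedAt R (RingHom.ker π.toRingHom) := by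
  let N := nilradical R
  let R₁ := R ⧸ N
  let 𝔷 := 𝔷'.comap π.toRingHom
  haveI : IsDomain R₁ := Ideal.Quotient.isDomain N
  have hnil : ∀ {D : Type u} [CommRing D] [Algebra R D] (P : Ideal D), P.IsPrime → N ≤ P.comap (algebraMap R D) :=
    fun P hP r hr => @nilradical_le_prime _ _ P hP _ (mem_nilradical.mpr ((mem_nilradical.mp hr).map _))
  have hgen' : ∀ q' : Ideal C', q'.IsPrime → q' ≤ 𝔷' →
      q'.comap (algebraMap R C') = 𝔷'.comap (algebraMap R C') → q' = 𝔷' := by
    intro q' hq' hle he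
    refine Ideal.comap_injective_of_surjective π.toRingHom hπ (hgen _ (hq'.comap _) (Ideal.comap_mono hle) ?_)
    rw [Ideal.comap_comap, Ideal.comap_comap, show π.toRingHom.comp (algebraMap R C) = algebraMap R C' from
      π.comp_algebraMap]
    exact he
  have hred' : GeomRedAt R 𝔷' := geomRedAt_of_surjective π hπ 𝔷' hred hgen
  obtain ⟨q', _, hq'⟩ := exists_over_quot N 𝔷' (hnil 𝔷' inferInstance)
  let π₁ : R₁ ⊗[R] C →ₐ[R₁] R₁ ⊗[R] C' := Algebra.TensorProduct.map (AlgHom.id R₁ R₁) π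
  let j : C →+* R₁ ⊗[R] C := (Algebra.TensorProduct.includeRight : C →ₐ[R] R₁ ⊗[R] C).toRingHom
  let j' : C' →+* R₁ ⊗[R] C' := (Algebra.TensorProduct.includeRight : C' →ₐ[R] R₁ ⊗[R] C').toRingHom
  have hj : Function.Surjective j := includeRight_quot_surjective N
  have hπ₁j : π₁.toRingHom.comp j = j'.comp π.toRingHom := RingHom.ext fun c => by
    show π₁ ((1 : R₁) ⊗ₜ[R] c) = (1 : R₁) ⊗ₜ[R] π c
    rfl
  have hπ₁ : Function.Surjective π₁ := fun z => by
    obtain ⟨c', rfl⟩ := includeRight_quot_surjective (C := C') N z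
    obtain ⟨c, rfl⟩ := hπ c'
    exact ⟨j c, RingHom.congr_fun hπ₁j c⟩
  let q := q'.comap π₁.toRingHom
  haveI : q.IsPrime := inferInstance
  have hq : q.comap j = 𝔷 := by
    rw [Ideal.comap_comap, hπ₁j, ← Ideal.comap_comap]
    exact congrArg (Ideal.comap π.toRingHom) hq'
  obtain ⟨hflat, hredq⟩ := flat_quot_nilradical 𝔷 hred (fun 𝔴 _ hle he hg B _ _ _ _ P hP _ =>
    hopen 𝔴 (hgen _ inferInstance hle he) B P hP) q hq
  obtain ⟨hflat', -⟩ := flat_quot_nilradical 𝔷' hred' (fun 𝔴 _ hle he hg B _ _ _ _ P hP _ =>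
    hopen' 𝔴 (hgen' _ inferInstance hle he) B P hP) q' hq'
  haveI := hflat
  haveI := hflat'
  haveI : Algebra.FiniteType R₁ (R₁ ⊗[R] C) := inferInstance
  haveI : IsNoetherianRing (R₁ ⊗[R] C) := Algebra.FiniteType.isNoetherianRing R₁ _
  let O := Localization.AtPrime q
  let O' := Localization.AtPrime q'
  let u : O →ₐ[R₁] O' :=
    { toRingHom := Localization.localRingHom q q' π₁.toRingHom rfl
      commutes' := fun r => by
        show Localization.localRingHom q q' π₁.toRingHom rfl (algebraMap R₁ O r) = algebraMap R₁ O' r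
        rw [IsScalarTower.algebraMap_apply R₁ (R₁ ⊗[R] C) O, Localization.localRingHom_to_map,
          IsScalarTower.algebraMap_apply R₁ (R₁ ⊗[R] C') O']
        exact congrArg _ (π₁.commutes r) }
  have hu : Function.Surjective u := fun a => by
    obtain ⟨a, s, rfl⟩ := IsLocalization.exists_mk'_eq q'.primeCompl a
    obtain ⟨a, rfl⟩ := hπ₁ a
    obtain ⟨t, ht⟩ := hπ₁ s
    refine ⟨IsLocalization.mk' _ a (⟨t, fun h => s.2 (by rw [← ht]; exact h)⟩ : q.primeCompl), ?_⟩
    show Localization.localRingHom q q' π₁.toRingHom rfl _ = _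
    rw [Localization.localRingHom_mk']
    congr 1
    exact Subtype.ext ht
  have hqgen : ∀ Q : Ideal (R₁ ⊗[R] C), Q.IsPrime → Q ≤ q →
      Q.comap (algebraMap R₁ (R₁ ⊗[R] C)) = q.comap (algebraMap R₁ (R₁ ⊗[R] C)) → Q = q := by
    intro Q hQ hle he
    refine Ideal.comap_injective_of_surjective j hj ((hgen _ (hQ.comap _) ((Ideal.comap_mono hle).trans hq.le) ?_).trans hq.symm)
    rw [show (𝔷'.comap π.toRingHom) = q.comap j from hq.symm]
    ext r
    have hjr : j (algebraMap R C r) = algebraMap R₁ (R₁ ⊗[R] C) (algebraMap R R₁ r) :=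
      ((Algebra.TensorProduct.includeRight : C →ₐ[R] R₁ ⊗[R] C).commutes r).trans
        (IsScalarTower.algebraMap_apply R R₁ _ r)
    show j (algebraMap R C r) ∈ Q ↔ j (algebraMap R C r) ∈ q
    rw [hjr]
    exact SetLike.ext_iff.mp he _
  have hmax := map_eq_maximalIdeal q hredq hqgen
  have hinj : Function.Injective u := by
    have hk : RingHom.ker u ≤ IsLocalRing.maximalIdeal O := IsLocalRing.le_maximalIdeal (RingHom.ker_ne_top _)
    have h := Groth.L06.FormSmoothAdic.ker_inf_map_le (A := R₁) (B := O) (B' := O') u hu (q.comap (algebraMap R₁ (R₁ ⊗[R] C)))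
    have h0 : RingHom.ker u = ⊥ := by
      refine Submodule.eq_bot_of_le_smul_of_le_jacobson_bot (R := O) (M := O) (IsLocalRing.maximalIdeal O) (RingHom.ker u)
        (IsNoetherian.noetherian (RingHom.ker u)) ?_ ?_
      · refine le_trans (le_inf le_rfl (hk.trans hmax.ge)) (h.trans ?_)
        rw [hmax, smul_eq_mul]
      · exact (IsLocalRing.jacobson_eq_maximalIdeal (R := Localization.AtPrime q) ⊥ bot_ne_top).ge
    exact (RingHom.injective_iff_ker_eq_bot _).mpr h0
  -- the local ring is a domain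
  let bk : R₁ ⊗[R] C' →ₐ[R] C' := Algebra.TensorProduct.lift
    (Ideal.Quotient.liftₐ N (Algebra.ofId R C') (fun r hr => by
      show algebraMap R C' r = 0
      exact IsNilpotent.eq_zero ((mem_nilradical.mp hr).map _)))
    (AlgHom.id R C') (fun _ _ => Commute.all _ _)
  have hbk : ∀ c, bk (j' c) = c := fun c => by
    show bk ((1 : R₁) ⊗ₜ[R] c) = c
    rw [Algebra.TensorProduct.lift_tmul, map_one, one_mul]; rfl
  have hj'i : Function.Injective bk := fun a b hab => by
    obtain ⟨a, rfl⟩ := includeRight_quot_surjective (C := C') N a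
    obtain ⟨b, rfl⟩ := includeRight_quot_surjective (C := C') N b
    exact congrArg _ ((hbk a).symm.trans (hab.trans (hbk b)))
  haveI : IsDomain (R₁ ⊗[R] C') := hj'i.isDomain bk.toRingHom
  haveI : IsDomain O' := IsLocalization.isDomain_localization (Ideal.primeCompl_le_nonZeroDivisors q')
  haveI : IsDomain O := hinj.isDomain u.toRingHom
  let ξ₁ : Ideal (R₁ ⊗[R] C) := RingHom.ker (algebraMap (R₁ ⊗[R] C) O)
  haveI : ξ₁.IsPrime := RingHom.ker_isPrime _
  have hξle : ∀ P : Ideal (R₁ ⊗[R] C), P.IsPrime → P ≤ q → ξ₁ ≤ P := by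
    intro P hP hle c hc
    obtain ⟨s, hs⟩ := (IsLocalization.map_eq_zero_iff q.primeCompl O c).mp hc
    exact (hP.mem_or_mem (hs ▸ P.zero_mem : (s : R₁ ⊗[R] C) * c ∈ P)).resolve_left fun h => s.2 (hle h)
  have hξq : ξ₁ ≤ q := hξle q inferInstance le_rfl
  have huniq : ∀ P ∈ minimalPrimes C, P ≤ 𝔷 → P = ξ₁.comap j := by
    intro P hP hle
    haveI := hP.1.1
    obtain ⟨P₁, hP₁, hPj⟩ := exists_over_quot N P (hnil P inferInstance)
    have hP₁q : P₁ ≤ q := (Ideal.comap_le_comap_iff_of_surjective j hj _ _).mp (hPj.le.trans (hle.trans hq.ge))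
    refine le_antisymm (hP.2 ⟨inferInstance, bot_le⟩ ?_) ?_
    · exact (Ideal.comap_mono (hξle P₁ hP₁ hP₁q)).trans hPj.le
    · exact (Ideal.comap_mono (hξle P₁ hP₁ hP₁q)).trans hPj.le
  have hξ : RingHom.ker π.toRingHom = ξ₁.comap j :=
    huniq _ hker (Ideal.comap_mono bot_le)
  refine ⟨fun P hP hle => (huniq P hP hle).trans hξ.symm, ?_⟩
  haveI : Algebra.FinitePresentation R₁ (R₁ ⊗[R] C) := Algebra.FinitePresentation.of_finiteType.mp inferInstance
  have h1 := geomRedAt_descend (R₀ := R) ξ₁ (geomRedAt_of_flat q hredq ξ₁ hξq)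
  rw [hξ]
  exact h1

end Groth.L07.FlatGeomReduced
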