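import Groth.Agent.L07.UniqueUnivOpen
import Groth.Agent.L07.FlatGeomReducedScheme
import Groth.Agent.L07.UnivOpenAt
import Groth.Agent.L07.UnivOpenFibre
import Groth.Agent.L07.SectionCompFlat
import Groth.Agent.L07.DimToolkit
import Mathlib.AlgebraicGeometry.IdealSheaf.Functorial

/-!
Scheme form of the uniqueness of a universally open component (EGA IV 15.6.2).
-/

universe u

open CategoryTheory CategoryTheory.Limits AlgebraicGeometry Topology

namespace Groth.L07.UniqueUnivOpen

open Groth.L22 Groth.L07.Equidim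

set_option autoImplicit false
set_option linter.style.haveILetI false
set_option maxSynthPendingDepth 3
set_option backward.isDefEq.respectTransparency.types false
set_option backward.isDefEq.respectTransparency false

variable {X Y : Scheme.{u}} (f : X ⟶ Y)

theorem isPreirreducible_univ_of_isInducing {A B : Type*} [TopologicalSpace A] [TopologicalSpace B] {i : A → B}
    (hi : IsInducing i) (h : IsPreirreducible (Set.range i)) : IsPreirreducible (Set.univ : Set A) := by
  rintro u v hu hv ⟨a, -, ha⟩ ⟨b, -, hb⟩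
  obtain ⟨u', hu', rfl⟩ := hi.isOpen_iff.mp hu
  obtain ⟨v', hv', rfl⟩ := hi.isOpen_iff.mp hv
  obtain ⟨_, ⟨c, rfl⟩, hc⟩ := h u' v' hu' hv' ⟨i a, ⟨a, rfl⟩, ha⟩ ⟨i b, ⟨b, rfl⟩, hb⟩
  exact ⟨c, trivial, hc⟩

/-- A closed subset containing a fibre-maximal point through which the restriction is universally open. -/
theorem component_unique [IrreducibleSpace Y] [IsLocallyNoetherian Y] [LocallyOfFiniteType f] (z : X)
    (hzmax : ∀ z', f z' = f z → z' ⤳ z → z' = z)
    (hred : FBase.IsGeomReducedAt (f.fiberToSpecResidueField (f.base z)) (f.asFiber z))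
    (X' : TopologicalSpace.Closeds X) (hX' : (X' : Set X) ∈ irreducibleComponents (X : Type u))
    (w : ↥(Scheme.IdealSheafData.vanishingIdeal X').subscheme)
    (hw : (Scheme.IdealSheafData.vanishingIdeal X').subschemeι.base w = z)
    (hwopen : EGA43.IsUnivOpenAt ((Scheme.IdealSheafData.vanishingIdeal X').subschemeι ≫ f) w)
    (ξ : X) (hξ : IsGenericPoint ξ (X' : Set X)) :
    (∀ q, q ⤳ z → (∀ r, r ⤳ q → r = q) → q = ξ) ∧
      FBase.IsGeomReducedAt (f.fiberToSpecResidueField (f.base ξ)) (f.asFiber ξ) := by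
  let I := Scheme.IdealSheafData.vanishingIdeal X'
  let ι := I.subschemeι
  let f' := ι ≫ f
  haveI : IsReduced I.subscheme := Groth.L18.isReduced_vanishingIdeal_subscheme X'
  have hrange : Set.range ι.base = (X' : Set X) :=
    I.range_subschemeι.trans (Scheme.IdealSheafData.coe_support_vanishingIdeal (X := X) X')
  have hξmax : ∀ r, r ⤳ ξ → r = ξ := fun r hr => by
    have hsub : (X' : Set X) ⊆ closure {r} :=
      hξ.def ▸ closure_minimal (Set.singleton_subset_iff.2 hr.mem_closure) isClosed_closure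
    exact (show IsGenericPoint r X' from subset_antisymm (hX'.2 isIrreducible_singleton.closure hsub) hsub).eq hξ
  have hξz : ξ ⤳ z := hξ.specializes (hrange.subset ⟨w, hw⟩)
  obtain ⟨V, hV, hyV, -⟩ := exists_isAffineOpen_mem_and_subset (X := Y) (x := f z) (U := ⊤) trivial
  obtain ⟨W, hW, hzW, e⟩ := exists_isAffineOpen_mem_and_subset (X := X) (x := z) (U := f ⁻¹ᵁ V) hyV
  replace e : W ≤ f ⁻¹ᵁ V := e
  haveI : IsNoetherianRing Γ(Y, V) := IsLocallyNoetherian.component_noetherian ⟨V, hV⟩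
  letI := (f.appLE V W e).hom.toAlgebra
  have halg : algebraMap Γ(Y, V) Γ(X, W) = (f.appLE V W e).hom := rfl
  haveI : Algebra.FiniteType Γ(Y, V) Γ(X, W) := RingHom.finiteType_algebraMap.mp (f.finiteType_appLE hV hW e)
  let W' := ι ⁻¹ᵁ W
  have hW' : IsAffineOpen W' := hW.preimage ι
  have e' : W' ≤ f' ⁻¹ᵁ V := fun a ha => e ha
  letI := (f'.appLE V W' e').hom.toAlgebra
  have halg' : algebraMap Γ(Y, V) Γ(I.subscheme, W') = (f'.appLE V W' e').hom := rfl
  haveI : Algebra.FiniteType Γ(Y, V) Γ(I.subscheme, W') :=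
    RingHom.finiteType_algebraMap.mp (f'.finiteType_appLE hV hW' e')
  let π : Γ(X, W) →ₐ[Γ(Y, V)] Γ(I.subscheme, W') :=
    { toRingHom := (ι.app W).hom
      commutes' := fun r => by
        show (f.appLE V W e ≫ ι.app W).hom r = (f'.appLE V W' e').hom r
        rw [Scheme.Hom.app_eq_appLE, Scheme.Hom.appLE_comp_appLE] }
  have hπ : Function.Surjective π := ι.app_surjective W hW
  have hwW : w ∈ W' := show ι.base w ∈ W from hw.symm ▸ hzW
  have hirr : IrreducibleSpace I.subscheme := by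
    haveI : Nonempty I.subscheme := ⟨w⟩
    refine { isPreirreducible_univ := ?_, toNonempty := inferInstance }
    refine isPreirreducible_univ_of_isInducing ι.isEmbedding.isInducing ?_
    rw [hrange]
    exact hX'.1.isPreirreducible
  haveI := hirr
  haveI : IsIntegral I.subscheme := isIntegral_of_irreducibleSpace_of_isReduced _
  haveI : Nonempty W' := ⟨⟨w, hwW⟩⟩
  haveI : IsDomain Γ(I.subscheme, W') := IsIntegral.component_integral W'
  have hpts : ∀ P : PrimeSpectrum Γ(I.subscheme, W'),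
      hW.fromSpec.base (PrimeSpectrum.comap π.toRingHom P) = ι.base (hW'.fromSpec.base P) := fun P => by
    rw [← Scheme.Hom.comp_apply hW'.fromSpec ι, ← IsAffineOpen.SpecMap_appLE_fromSpec ι hW hW' le_rfl,
      ← Scheme.Hom.app_eq_appLE, Scheme.Hom.comp_apply]
    rfl
  have hzP : PrimeSpectrum.comap π.toRingHom (hW'.primeIdealOf ⟨w, hwW⟩) = hW.primeIdealOf ⟨z, hzW⟩ :=
    fromSpec_inj hW (by rw [hpts, hW'.fromSpec_primeIdealOf, hW.fromSpec_primeIdealOf]; exact hw)
  have hzid : (hW'.primeIdealOf ⟨w, hwW⟩).asIdeal.comap π.toRingHom = (hW.primeIdealOf ⟨z, hzW⟩).asIdeal :=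
    congrArg PrimeSpectrum.asIdeal hzP
  have hbase : ∀ q : PrimeSpectrum Γ(X, W), f.base (hW.fromSpec.base q) =
      hV.fromSpec.base (PrimeSpectrum.comap (algebraMap Γ(Y, V) Γ(X, W)) q) := fun q => by
    rw [halg, ← Scheme.Hom.comp_apply, ← IsAffineOpen.SpecMap_appLE_fromSpec f hV hW e, Scheme.Hom.comp_apply]; rfl
  have hsp : ∀ (a b : PrimeSpectrum Γ(X, W)), a.asIdeal ≤ b.asIdeal → hW.fromSpec.base a ⤳ hW.fromSpec.base b :=
    fun a b hab => ((PrimeSpectrum.le_iff_specializes a b).mp hab).map hW.fromSpec.continuous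
  have hgen : ∀ q' : Ideal Γ(X, W), q'.IsPrime → q' ≤ (hW'.primeIdealOf ⟨w, hwW⟩).asIdeal.comap π.toRingHom →
      q'.comap (algebraMap Γ(Y, V) Γ(X, W)) =
        ((hW'.primeIdealOf ⟨w, hwW⟩).asIdeal.comap π.toRingHom).comap (algebraMap Γ(Y, V) Γ(X, W)) →
      q' = (hW'.primeIdealOf ⟨w, hwW⟩).asIdeal.comap π.toRingHom := by
    intro q' hq' hle he
    rw [hzid] at hle he ⊢
    let q : PrimeSpectrum Γ(X, W) := ⟨q', hq'⟩
    have h1 : hW.fromSpec.base q = z := by
      refine hzmax _ ?_ ((hsp q _ hle).trans (specializes_of_eq (hW.fromSpec_primeIdealOf ⟨z, hzW⟩)))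
      refine Eq.trans ?_ (congrArg f.base (hW.fromSpec_primeIdealOf ⟨z, hzW⟩))
      rw [hbase, hbase]
      exact congrArg _ (PrimeSpectrum.ext he)
    exact congrArg PrimeSpectrum.asIdeal (fromSpec_inj hW (h1.trans (hW.fromSpec_primeIdealOf ⟨z, hzW⟩).symm))
  have hfz : EGA43.IsUnivOpenAt f z := hw ▸ Groth.L07.UnivOpenAt.right_of_comp hwopen
  -- the generic point
  let g₀ : PrimeSpectrum Γ(I.subscheme, W') := ⟨⊥, Ideal.isPrime_bot⟩
  have hg₀ : hW.fromSpec.base (PrimeSpectrum.comap π.toRingHom g₀) = ξ := by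
    rw [hpts]
    obtain ⟨a, ha⟩ := hrange.superset hξ.mem
    have haW : a ∈ W' := show ι.base a ∈ W from ha.symm ▸ hξz.mem_open W.isOpen hzW
    refine hξmax _ ?_
    exact ((((PrimeSpectrum.le_iff_specializes g₀ (hW'.primeIdealOf ⟨a, haW⟩)).mp bot_le).map
      hW'.fromSpec.continuous).map ι.continuous).trans
        ((specializes_of_eq (congrArg ι.base (hW'.fromSpec_primeIdealOf ⟨a, haW⟩))).trans (specializes_of_eq ha))
  have hkerI : RingHom.ker π.toRingHom = (PrimeSpectrum.comap π.toRingHom g₀).asIdeal :=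
    RingHom.ker_eq_comap_bot _
  have hker : RingHom.ker π.toRingHom ∈ minimalPrimes Γ(X, W) := by
    refine ⟨⟨RingHom.ker_isPrime _, bot_le⟩, fun Q hQ hle => ?_⟩
    have h1 : hW.fromSpec.base ⟨Q, hQ.1⟩ = ξ :=
      hξmax _ ((hsp ⟨Q, hQ.1⟩ _ (hle.trans hkerI.le)).trans (specializes_of_eq hg₀))
    exact hkerI.trans (congrArg PrimeSpectrum.asIdeal (fromSpec_inj hW (h1.trans hg₀.symm))).symm |>.le
  haveI : (nilradical Γ(Y, V)).IsPrime := isPrime_nilradical hV ⟨f z, hyV⟩
  have hredC : Groth.L07.FlatGeomReduced.GeomRedAt Γ(Y, V) ((hW'.primeIdealOf ⟨w, hwW⟩).asIdeal.comap π.toRingHom) := by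
    rw [hzid]
    exact Groth.L07.FlatGeomReduced.geomRedAt f z hV hW e hzW halg hred
  obtain ⟨huniq, hredξ⟩ := Groth.L07.FlatGeomReduced.unique_component π hπ hker
    (hW'.primeIdealOf ⟨w, hwW⟩).asIdeal hgen hredC
    (fun 𝔴 _ he B _ _ _ _ P hP => by
      refine Groth.L07.FlatGeomReduced.isOpenAt_chart f z hV hW e hzW halg (fun z' hz' _ => ?_) 𝔴
        (he.trans hzid).le (congrArg (Ideal.comap _) (he.trans hzid))
        (fun q' hq' hle heq => by subst he; exact hgen q' hq' hle heq) B P hP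
      have hf' : f ((f.fiberι (f.base z)).base z') = f z := apply_fiberι f (f z) z'
      have hs := (specializes_iff_mem_closure.mpr hz').map (f.fiberι (f.base z)).continuous
      rw [f.fiberι_asFiber] at hs
      rw [hzmax _ hf' hs]
      exact hfz)
    (fun 𝔴 _ he B _ _ _ _ P hP => by
      refine Groth.L07.FlatGeomReduced.isOpenAt_chart f' w hV hW' e' hwW halg' (fun z' hz' _ => ?_) 𝔴
        he.le (congrArg (Ideal.comap _) he) ?_ B P hP
      · have hf' : f (ι.base ((f'.fiberι (f'.base w)).base z')) = f z :=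
          (apply_fiberι f' (f' w) z').trans (by rw [Scheme.Hom.comp_apply, hw])
        have hs := (specializes_iff_mem_closure.mpr hz').map (f'.fiberι (f'.base w)).continuous
        rw [f'.fiberι_asFiber] at hs
        rw [show (f'.fiberι (f'.base w)).base z' = w from
          ι.isEmbedding.injective ((hzmax _ hf' (hw ▸ hs.map ι.continuous)).trans hw.symm)]
        exact hwopen
      · intro q' hq' hle heq
        subst he
        refine Ideal.comap_injective_of_surjective π.toRingHom hπ (hgen _ (hq'.comap _) (Ideal.comap_mono hle) ?_)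
        rw [Ideal.comap_comap, Ideal.comap_comap, show π.toRingHom.comp (algebraMap Γ(Y, V) Γ(X, W)) =
          algebraMap Γ(Y, V) Γ(I.subscheme, W') from π.comp_algebraMap]
        exact heq)
  refine ⟨fun q hqz hqmax => ?_, ?_⟩
  · have hqW : q ∈ W := hqz.mem_open W.isOpen hzW
    have hle : (hW.primeIdealOf ⟨q, hqW⟩).asIdeal ≤ (hW.primeIdealOf ⟨z, hzW⟩).asIdeal := by
      refine (PrimeSpectrum.le_iff_specializes (hW.primeIdealOf ⟨q, hqW⟩) (hW.primeIdealOf ⟨z, hzW⟩)).mpr
        (hW.fromSpec.isEmbedding.isInducing.specializes_iff.mp ?_)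
      rw [hW.fromSpec_primeIdealOf, hW.fromSpec_primeIdealOf]
      exact hqz
    have hmin : (hW.primeIdealOf ⟨q, hqW⟩).asIdeal ∈ minimalPrimes Γ(X, W) := by
      refine ⟨⟨(hW.primeIdealOf ⟨q, hqW⟩).isPrime, bot_le⟩, fun Q hQ hQle => ?_⟩
      have h1 : hW.fromSpec.base ⟨Q, hQ.1⟩ = q :=
        hqmax _ ((hsp ⟨Q, hQ.1⟩ _ hQle).trans (specializes_of_eq (hW.fromSpec_primeIdealOf ⟨q, hqW⟩)))
      exact (congrArg PrimeSpectrum.asIdeal
        (fromSpec_inj hW (h1.trans (hW.fromSpec_primeIdealOf ⟨q, hqW⟩).symm))).ge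
    refine (hW.fromSpec_primeIdealOf ⟨q, hqW⟩).symm.trans (Eq.trans ?_ hg₀)
    exact congrArg hW.fromSpec.base (PrimeSpectrum.ext ((huniq _ hmin (hle.trans hzid.ge)).trans hkerI))
  · have hξW : ξ ∈ W := hξz.mem_open W.isOpen hzW
    refine Groth.L07.FlatGeomReduced.isGeomReducedAt_of_geomRedAt f hV hW e halg ξ hξW ?_
    rw [show (hW.primeIdealOf ⟨ξ, hξW⟩).asIdeal = RingHom.ker π.toRingHom from
      (congrArg PrimeSpectrum.asIdeal (fromSpec_inj hW ((hW.fromSpec_primeIdealOf ⟨ξ, hξW⟩).trans hg₀.symm))).trans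
        hkerI.symm]
    exact hredξ
where
  fromSpec_inj {X : Scheme.{u}} {W : X.Opens} (hW : IsAffineOpen W) {a b : PrimeSpectrum Γ(X, W)}
      (h : hW.fromSpec.base a = hW.fromSpec.base b) : a = b := hW.fromSpec.isOpenEmbedding.injective h
  isPrime_nilradical {Y : Scheme.{u}} [IrreducibleSpace Y] {V : Y.Opens} (hV : IsAffineOpen V) (y : V) :
      (nilradical Γ(Y, V)).IsPrime := by
    have h : IrreducibleSpace (PrimeSpectrum Γ(Y, V)) := by
      haveI : Nonempty (PrimeSpectrum Γ(Y, V)) := ⟨hV.primeIdealOf y⟩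
      refine { isPreirreducible_univ := ?_, toNonempty := inferInstance }
      refine isPreirreducible_univ_of_isInducing hV.fromSpec.isEmbedding.isInducing ?_
      rw [hV.range_fromSpec]
      exact (PreirreducibleSpace.isPreirreducible_univ (X := Y)).open_subset V.isOpen (Set.subset_univ _)
    exact PrimeSpectrum.irreducibleSpace_iff_isPrime_nilradical.mp h

end Groth.L07.UniqueUnivOpen
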