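import Groth.Agent.L07.UnivOpenAt
import Groth.Agent.L19.MonoValuative
import Groth.Agent.L20.UnivOpenAffineSpace
import Groth.Agent.L23.SchemeFacts
import Mathlib.AlgebraicGeometry.Noetherian

/-! Universal openness over locally Noetherian schemes by discrete valuation rings. -/

set_option autoImplicit false
set_option linter.style.haveILetI false
set_option maxSynthPendingDepth 3

universe u

open CategoryTheory CategoryTheory.Limits AlgebraicGeometry Topology

namespace Groth.L07.UnivOpenDVR

/-- The generic point of an irreducible component has a neighbourhood inside the component. -/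
theorem exists_open_subset_component {P : Scheme.{u}} [IsLocallyNoetherian P] {Z : Set P}
    (hZ : Z ∈ irreducibleComponents (P : Type u)) :
    ∃ O : Set P, IsOpen O ∧ O.Nonempty ∧ O ⊆ Z := by
  have hg := hZ.1.isGenericPoint_genericPoint (isClosed_of_mem_irreducibleComponents Z hZ)
  set η := hZ.1.genericPoint
  obtain ⟨_, ⟨W, hW, rfl⟩, hηW, -⟩ := P.isBasis_affineOpens.exists_subset_of_mem_open
    (Set.mem_univ η) isOpen_univ
  haveI : IsNoetherianRing Γ(P, W) := IsLocallyNoetherian.component_noetherian ⟨W, hW⟩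
  haveI : TopologicalSpace.NoetherianSpace (W : Set P) :=
    noetherianSpace_of_isAffineOpen W hW
  let F : Set (Set (W : Set P)) := {C | C ∈ irreducibleComponents ↥(W : Set P) ∧ (⟨η, hηW⟩ : (W : Set P)) ∉ C}
  have hF : F.Finite := TopologicalSpace.NoetherianSpace.finite_irreducibleComponents.subset fun C hC => hC.1
  let O : Set P := Subtype.val '' (⋃₀ F)ᶜ
  refine ⟨O, W.2.isOpenMap_subtype_val _ ?_, ⟨η, ⟨η, hηW⟩, fun ⟨C, hC, hηC⟩ => hC.2 hηC, rfl⟩, ?_⟩
  · rw [Set.sUnion_eq_biUnion]
    exact (hF.isClosed_biUnion fun C hC => isClosed_of_mem_irreducibleComponents C hC.1).isOpen_compl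
  rintro _ ⟨⟨z, hzW⟩, hz, rfl⟩
  let C := irreducibleComponent (⟨z, hzW⟩ : (W : Set P))
  have hηC : (⟨η, hηW⟩ : (W : Set P)) ∈ C := by
    by_contra hc
    exact hz ⟨C, ⟨irreducibleComponent_mem_irreducibleComponents _, hc⟩, mem_irreducibleComponent⟩
  have hCi : IsIrreducible (closure (Subtype.val '' C : Set P)) :=
    (isIrreducible_irreducibleComponent.image _ continuous_subtype_val.continuousOn).closure
  have hsub : Z ⊆ closure (Subtype.val '' C : Set P) := by
    rw [← hg.def]
    exact closure_mono (Set.singleton_subset_iff.mpr ⟨_, hηC, rfl⟩)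
  exact hZ.2 hCi hsub (subset_closure ⟨_, mem_irreducibleComponent, rfl⟩)

/-- An open map into a space with a point in every nonempty open dominates on every component. -/
theorem dense_image_component {P S : Scheme.{u}} [IsLocallyNoetherian P] [IrreducibleSpace S]
    (s : P ⟶ S) (hs : IsOpenMap s.base) {Z : Set P} (hZ : Z ∈ irreducibleComponents (P : Type u)) :
    Dense (s.base '' Z) := by
  obtain ⟨O, hO, ⟨x, hx⟩, hOZ⟩ := exists_open_subset_component hZ
  exact ((hs O hO).dense ⟨_, x, hx, rfl⟩).mono (Set.image_mono hOZ)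

theorem universallyOpen_iff {X Y : Scheme.{u}} [IsLocallyNoetherian Y] (f : X ⟶ Y)
    [LocallyOfFiniteType f] :
    UniversallyOpen f ↔
      ∀ (A : Type u) [CommRing A] [IsDomain A] [IsDiscreteValuationRing A] (g : Spec (CommRingCat.of A) ⟶ Y),
        ∀ Z ∈ irreducibleComponents (↥(pullback f g) : Type u), Dense ((pullback.snd f g).base '' Z) := by
  constructor
  · intro hf A _ _ _ g Z hZ
    haveI : IsLocallyNoetherian (Spec (CommRingCat.of A)) := inferInstance
    haveI : IsLocallyNoetherian (pullback f g) :=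
      LocallyOfFiniteType.isLocallyNoetherian (pullback.snd f g)
    exact dense_image_component _ (pullback.snd f g).isOpenMap hZ
  intro h
  haveI : LocallyOfFinitePresentation f := Groth.L23.lfp_of_lft_locallyNoetherian f
  refine Groth.L20.universallyOpen_of_isOpenMap_affineSpace f fun n => ?_
  let N := ULift.{u} (Fin n)
  haveI : LocallyOfFinitePresentation (AffineSpace.map N f) :=
    MorphismProperty.of_isPullback (AffineSpace.isPullback_map f).flip ‹LocallyOfFinitePresentation f›
  haveI : IsLocallyNoetherian 𝔸(N; Y) := LocallyOfFiniteType.isLocallyNoetherian (𝔸(N; Y) ↘ Y)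
  refine isOpenMap_of_generalizingMap _ fun x' y (hy : y ⤳ (AffineSpace.map N f).base x') => ?_
  by_cases hne : y = (AffineSpace.map N f).base x'
  · exact ⟨x', specializes_rfl, hne.symm⟩
  obtain ⟨W, t, hW, ht₀, ht₁⟩ := Groth.L19.exists_dvr_through hy hne
  let gη := (Spec.map (CommRingCat.ofHom W.subtype)).base (IsLocalRing.closedPoint _)
  have hgen : IsGenericPoint gη (Set.univ : Set ↥(Spec (CommRingCat.of W))) := by
    have hd : DenseRange (PrimeSpectrum.comap (CommRingCat.ofHom W.subtype).hom) :=
      (PrimeSpectrum.denseRange_comap_iff_ker_le_nilRadical _).mpr (by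
        rw [(RingHom.injective_iff_ker_eq_bot _).mp (fun a b hab => Subtype.ext hab)]; exact bot_le)
    refine Set.eq_univ_of_forall fun z => closure_mono ?_ (hd z)
    rintro _ ⟨c, rfl⟩
    rw [Unique.eq_default c, ← Unique.eq_default (IsLocalRing.closedPoint _)]
    rfl
  obtain ⟨p, hp1, hp2⟩ := Scheme.Pullback.exists_preimage_pullback (f := AffineSpace.map N f) (g := t) x'
    (IsLocalRing.closedPoint W) ht₀.symm
  have hP : IsPullback (pullback.fst (AffineSpace.map N f) t ≫ 𝔸(N; X) ↘ X) (pullback.snd _ _) f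
      (t ≫ 𝔸(N; Y) ↘ Y) :=
    (IsPullback.of_hasPullback (AffineSpace.map N f) t).paste_horiz (AffineSpace.isPullback_map f).flip
  let e := hP.isoPullback.hom
  obtain ⟨Z, hZ, hxZ⟩ : ∃ Z ∈ irreducibleComponents ↥(pullback f (t ≫ 𝔸(N; Y) ↘ Y)), e.base p ∈ Z :=
    ⟨irreducibleComponent _, irreducibleComponent_mem_irreducibleComponents _, mem_irreducibleComponent⟩
  have hζ := hZ.1.isGenericPoint_genericPoint (isClosed_of_mem_irreducibleComponents Z hZ)
  set ζ := hZ.1.genericPoint
  let s := pullback.snd f (t ≫ 𝔸(N; Y) ↘ Y)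
  have hd := h W (t ≫ 𝔸(N; Y) ↘ Y) Z hZ
  have hsζ : s.base ζ = gη := by
    have h1 := hζ.image s.continuous
    rw [hd.closure_eq] at h1
    exact h1.eq hgen
  obtain ⟨q, hq⟩ := e.surjective ζ
  refine ⟨(pullback.fst (AffineSpace.map N f) t).base q, ?_, ?_⟩
  · rw [← hp1]
    refine Specializes.map ?_ (Scheme.Hom.continuous _)
    rw [← e.isEmbedding.toIsInducing.specializes_iff, hq]
    exact hζ.specializes hxZ
  · rw [← Scheme.Hom.comp_apply, pullback.condition, Scheme.Hom.comp_apply,
      ← hP.isoPullback_hom_snd, Scheme.Hom.comp_apply, hq]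
    show t.base (s.base ζ) = y
    rw [hsζ]
    exact (Scheme.Hom.comp_apply _ _ _).symm.trans ht₁

end Groth.L07.UnivOpenDVR
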