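import Groth.Agent.L07.QuasiSection
import Groth.Agent.L07.OpenEquiv
import Groth.Agent.L20.IntCover.Subtr
import Groth.Agent.L20.QfRefine.Basic

/-!
Sections of universally open morphisms over local domains in which monic polynomials have roots
(EGA IV 14.5.10).
-/

universe u

open CategoryTheory CategoryTheory.Limits AlgebraicGeometry TopologicalSpace Topology
open scoped TensorProduct

namespace Groth.L07.UnivOpenSection

open Groth.L22 Groth.L07.Equidim Groth.L20 Groth.L20.IntCover

set_option maxSynthPendingDepth 3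
set_option linter.style.haveILetI false
set_option backward.isDefEq.respectTransparency.types false
set_option backward.isDefEq.respectTransparency false

variable {E : Type u}

/-- The base change of a homomorphism out of a polynomial ring. -/
noncomputable def phiBC {A : Type u} [CommRing A] {S : Type u} [CommRing S] [Algebra A S]
    (φ : MvPolynomial E A →ₐ[A] S) (R : Type u) [CommRing R] [Algebra A R] :
    MvPolynomial E R →ₐ[R] R ⊗[A] S :=
  MvPolynomial.aeval fun i => (1 : R) ⊗ₜ[A] φ (MvPolynomial.X i)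

theorem phiBC_map {A : Type u} [CommRing A] {S : Type u} [CommRing S] [Algebra A S]
    (φ : MvPolynomial E A →ₐ[A] S) (R : Type u) [CommRing R] [Algebra A R] :
    (phiBC φ R).toRingHom.comp (MvPolynomial.map (algebraMap A R)) =
      (Algebra.TensorProduct.includeRight (R := A) (A := R) (B := S)).toRingHom.comp φ.toRingHom := by
  refine MvPolynomial.ringHom_ext (fun a => ?_) (fun i => ?_)
  · show phiBC φ R (MvPolynomial.map (algebraMap A R) (MvPolynomial.C a)) = _ ⊗ₜ[A] φ (MvPolynomial.C a)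
    rw [MvPolynomial.map_C, phiBC, MvPolynomial.aeval_C,
      show φ (MvPolynomial.C a) = algebraMap A S a from φ.commutes a,
      Algebra.TensorProduct.algebraMap_apply, Algebra.algebraMap_self, RingHom.id_apply,
      Algebra.algebraMap_eq_smul_one, Algebra.algebraMap_eq_smul_one, TensorProduct.smul_tmul]
  · show phiBC φ R (MvPolynomial.map (algebraMap A R) (MvPolynomial.X i)) = _ ⊗ₜ[A] φ (MvPolynomial.X i)
    rw [MvPolynomial.map_X, phiBC, MvPolynomial.aeval_X]

/-- A prime of a tensor product over a pair of primes. -/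
theorem exists_prime_pair (A R S : Type u) [CommRing A] [CommRing R] [CommRing S] [Algebra A R]
    [Algebra A S] (N : Ideal R) [N.IsPrime] (P : Ideal S) [P.IsPrime]
    (h : N.comap (algebraMap A R) = P.comap (algebraMap A S)) :
    ∃ Q : Ideal (R ⊗[A] S), Q.IsPrime ∧ Q.comap (algebraMap R (R ⊗[A] S)) = N ∧
      Q.comap (Algebra.TensorProduct.includeRight (R := A) (A := R) (B := S)).toRingHom = P := by
  let xN : Spec (CommRingCat.of R) := (⟨N, inferInstance⟩ : PrimeSpectrum R)
  let xP : Spec (CommRingCat.of S) := (⟨P, inferInstance⟩ : PrimeSpectrum S)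
  obtain ⟨z, hz1, hz2⟩ := Scheme.Pullback.exists_preimage_pullback
    (f := Spec.map (CommRingCat.ofHom (algebraMap A R)))
    (g := Spec.map (CommRingCat.ofHom (algebraMap A S))) xN xP (PrimeSpectrum.ext h)
  refine ⟨((pullbackSpecIso A R S).hom z).asIdeal, ((pullbackSpecIso A R S).hom z).2, ?_, ?_⟩
  · have e := congrArg PrimeSpectrum.asIdeal
      (show ((pullbackSpecIso A R S).hom ≫ Spec.map (CommRingCat.ofHom
          (Algebra.TensorProduct.includeLeftRingHom : R →+* R ⊗[A] S))) z = xN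
        from by rw [pullbackSpecIso_hom_fst]; exact hz1)
    exact e
  · have e := congrArg PrimeSpectrum.asIdeal
      (show ((pullbackSpecIso A R S).hom ≫ Spec.map (CommRingCat.ofHom
          (Algebra.TensorProduct.includeRight (R := A) (A := R) (B := S)).toRingHom)) z = xP
        from (congrArg (fun φ => φ z) (pullbackSpecIso_hom_snd A R S)).trans hz2)
    exact e

/-- A prime of the base change over a prime of the base-changed polynomial ring and one upstairs. -/
theorem exists_prime_over {A : Type u} [CommRing A] {S : Type u} [CommRing S] [Algebra A S]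
    (φ : MvPolynomial E A →ₐ[A] S) (R : Type u) [CommRing R] [Algebra A R]
    (N : Ideal (MvPolynomial E R)) [N.IsPrime] (P : Ideal S) [P.IsPrime]
    (h : N.comap (MvPolynomial.map (algebraMap A R)) = P.comap φ.toRingHom) :
    ∃ Q : Ideal (R ⊗[A] S), Q.IsPrime ∧ Q.comap (phiBC φ R).toRingHom = N ∧
      Q.comap (Algebra.TensorProduct.includeRight (R := A) (A := R) (B := S)).toRingHom = P := by
  letI : Algebra (MvPolynomial E A) (MvPolynomial E R) := (MvPolynomial.map (algebraMap A R)).toAlgebra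
  letI : Algebra (MvPolynomial E A) S := φ.toRingHom.toAlgebra
  obtain ⟨Q, hQ, hQN, hQP⟩ := exists_prime_pair (MvPolynomial E A) (MvPolynomial E R) S N P h
  let D := MvPolynomial E R ⊗[MvPolynomial E A] S
  let iR : MvPolynomial E R →+* D := algebraMap (MvPolynomial E R) D
  let iS : S →+* D := (Algebra.TensorProduct.includeRight (R := MvPolynomial E A)
    (A := MvPolynomial E R) (B := S)).toRingHom
  have hcomm : ∀ t : MvPolynomial E A, iS (φ t) = iR (MvPolynomial.map (algebraMap A R) t) := fun t =>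
    (AlgHom.commutes (Algebra.TensorProduct.includeRight (R := MvPolynomial E A)
      (A := MvPolynomial E R) (B := S)) t)
  let gR : R →ₐ[A] D :=
    { toRingHom := iR.comp MvPolynomial.C
      commutes' := fun a => rfl }
  let gS : S →ₐ[A] D :=
    { toRingHom := iS
      commutes' := fun a => by
        show iS (algebraMap A S a) = iR (MvPolynomial.C (algebraMap A R a))
        rw [← φ.commutes a, MvPolynomial.algebraMap_eq, hcomm, MvPolynomial.map_C] }
  let κ : R ⊗[A] S →ₐ[A] D := Algebra.TensorProduct.lift gR gS fun _ _ => Commute.all _ _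
  have hκ : κ.toRingHom.comp (phiBC φ R).toRingHom = iR := by
    refine MvPolynomial.ringHom_ext (fun r => ?_) (fun i => ?_)
    · show κ (phiBC φ R (MvPolynomial.C r)) = _
      rw [phiBC, MvPolynomial.aeval_C, Algebra.TensorProduct.algebraMap_apply, Algebra.algebraMap_self,
        RingHom.id_apply, Algebra.TensorProduct.lift_tmul, map_one, mul_one]
      rfl
    · show κ (phiBC φ R (MvPolynomial.X i)) = _
      rw [phiBC, MvPolynomial.aeval_X, Algebra.TensorProduct.lift_tmul, map_one, one_mul]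
      show iS (φ (MvPolynomial.X i)) = iR (MvPolynomial.X i)
      rw [hcomm, MvPolynomial.map_X]
  refine ⟨Q.comap κ.toRingHom, Ideal.IsPrime.comap _, ?_, ?_⟩
  · rw [Ideal.comap_comap, hκ]; exact hQN
  · rw [Ideal.comap_comap, ← hQP]
    refine congrArg (fun f => Ideal.comap f Q) (RingHom.ext fun s => ?_)
    show κ ((1 : R) ⊗ₜ[A] s) = iS s
    rw [Algebra.TensorProduct.lift_tmul, map_one, one_mul]
    rfl

/-- The base change of a quasi-finite homomorphism out of a polynomial ring. -/
theorem quasiFinite_phiBC {A : Type u} [CommRing A] {S : Type u} [CommRing S] [Algebra A S]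
    (φ : MvPolynomial E A →ₐ[A] S) (hφ : φ.toRingHom.QuasiFinite) (R : Type u) [CommRing R]
    [Algebra A R] : (phiBC φ R).toRingHom.QuasiFinite := by
  letI : Algebra (MvPolynomial E A) (MvPolynomial E R) := (MvPolynomial.map (algebraMap A R)).toAlgebra
  letI : Algebra (MvPolynomial E A) S := φ.toRingHom.toAlgebra
  haveI : Algebra.QuasiFinite (MvPolynomial E A) S := hφ
  letI : Algebra (MvPolynomial E R) (R ⊗[A] S) := (phiBC φ R).toRingHom.toAlgebra
  letI : Algebra (MvPolynomial E A) (R ⊗[A] S) :=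
    ((phiBC φ R).toRingHom.comp (MvPolynomial.map (algebraMap A R))).toAlgebra
  haveI : IsScalarTower (MvPolynomial E A) (MvPolynomial E R) (R ⊗[A] S) :=
    IsScalarTower.of_algebraMap_eq' rfl
  let gS : S →ₐ[MvPolynomial E A] R ⊗[A] S :=
    { toRingHom := (Algebra.TensorProduct.includeRight (R := A) (A := R) (B := S)).toRingHom
      commutes' := fun t => (RingHom.congr_fun (phiBC_map φ R) t).symm }
  let k : MvPolynomial E R ⊗[MvPolynomial E A] S →ₐ[MvPolynomial E R] R ⊗[A] S :=
    Algebra.TensorProduct.lift (Algebra.ofId _ _) gS fun _ _ => Commute.all _ _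
  refine Algebra.QuasiFinite.of_surjective_algHom k fun x => ?_
  induction x using TensorProduct.induction_on with
  | zero => exact ⟨0, map_zero _⟩
  | add a b ha hb =>
    obtain ⟨a', rfl⟩ := ha
    obtain ⟨b', rfl⟩ := hb
    exact ⟨a' + b', map_add _ _ _⟩
  | tmul r s =>
    refine ⟨MvPolynomial.C r ⊗ₜ s, ?_⟩
    rw [Algebra.TensorProduct.lift_tmul]
    show phiBC φ R (MvPolynomial.C r) * ((1 : R) ⊗ₜ[A] s) = r ⊗ₜ[A] s
    rw [phiBC, MvPolynomial.aeval_C, Algebra.TensorProduct.algebraMap_apply, Algebra.algebraMap_self,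
      RingHom.id_apply, Algebra.TensorProduct.tmul_mul_tmul, mul_one, one_mul]

theorem fdim_affineSpace_of_generic {n : Type u} [Finite n] {Y : Scheme.{u}} (p : ↥𝔸(n; Y))
    (hp : ∀ q, (𝔸(n; Y) ↘ Y) q = (𝔸(n; Y) ↘ Y) p → p ⤳ q) :
    fdim (𝔸(n; Y) ↘ Y) p = (Nat.card n : WithBot ℕ∞) := by
  rw [← dim_fiber_affineSpace n Y ((𝔸(n; Y) ↘ Y) p)]
  refine SchemeDim.topologicalKrullDim_eq_of_isEmbedding
    (f := (𝔸(n; Y) ↘ Y).fiberι _) (Scheme.Hom.isEmbedding _) ?_
  rw [Scheme.Hom.range_fiberι, eq_comm, Set.inter_eq_right]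
  exact fun q hq => specializes_iff_mem_closure.mp (hp q hq)

/-- An open morphism over a noetherian domain, quasi-finite over affine space and dominating a fibre
of it, dominates affine space. -/
theorem exists_generic_point [Fintype E] {R S : Type u} [CommRing R] [IsNoetherianRing R] [IsDomain R]
    [CommRing S] [Algebra R S] [Algebra.FiniteType R S]
    (hopen : IsOpenMap (PrimeSpectrum.comap (algebraMap R S)))
    (φ : MvPolynomial E R →ₐ[R] S) (hφ : φ.toRingHom.QuasiFinite) (x0 : Ideal S) [x0.IsPrime]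
    (hx0 : x0.comap φ.toRingHom ≤ (x0.comap (algebraMap R S)).map MvPolynomial.C)
    (h : S) (hh : h ∉ x0) :
    ∃ P : Ideal S, P.IsPrime ∧ h ∉ P ∧ P.comap φ.toRingHom = ⊥ := by
  classical
  let f : Spec (CommRingCat.of S) ⟶ Spec (CommRingCat.of R) :=
    Spec.map (CommRingCat.ofHom (algebraMap R S))
  haveI : LocallyOfFiniteType f := (HasRingHomProperty.Spec_iff (P := @LocallyOfFiniteType)).mpr
    (RingHom.finiteType_algebraMap.mpr ‹_›)
  let iso := AffineSpace.SpecIso E (CommRingCat.of R)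
  let g : Spec (CommRingCat.of S) ⟶ 𝔸(E; Spec (CommRingCat.of R)) :=
    Spec.map (CommRingCat.ofHom φ.toRingHom) ≫ iso.inv
  let pr := 𝔸(E; Spec (CommRingCat.of R)) ↘ Spec (CommRingCat.of R)
  have hg : g ≫ pr = f := by
    show (Spec.map (CommRingCat.ofHom φ.toRingHom) ≫ iso.inv) ≫ pr = f
    rw [Category.assoc, AffineSpace.SpecIso_inv_over, ← Spec.map_comp]
    refine congrArg Spec.map ?_
    ext r
    exact φ.commutes r
  haveI : LocallyQuasiFinite (Spec.map (CommRingCat.ofHom φ.toRingHom)) :=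
    (HasRingHomProperty.Spec_iff (P := @LocallyQuasiFinite)).mpr hφ
  haveI : LocallyQuasiFinite g := inferInstance
  haveI : LocallyOfFiniteType (g ≫ pr) := hg ▸ inferInstance
  haveI : LocallyOfFiniteType g := locallyOfFiniteType_of_comp g pr
  let p := x0.comap (algebraMap R S)
  haveI : p.IsPrime := Ideal.IsPrime.comap _
  let x : Spec (CommRingCat.of S) := (⟨x0, inferInstance⟩ : PrimeSpectrum S)
  have hover : ∀ (P : PrimeSpectrum S),
      PrimeSpectrum.comap (algebraMap R S) P = PrimeSpectrum.comap (MvPolynomial.C (σ := E))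
        (PrimeSpectrum.comap φ.toRingHom P) := fun P => by
    refine PrimeSpectrum.ext ?_
    show P.asIdeal.comap (algebraMap R S) = (P.asIdeal.comap φ.toRingHom).comap MvPolynomial.C
    rw [Ideal.comap_comap]
    exact congrArg (fun v => Ideal.comap v P.asIdeal) (RingHom.ext fun r => (φ.commutes r).symm)
  have hprinv : ∀ w, pr (iso.inv w) =
      Spec.map (CommRingCat.ofHom (MvPolynomial.C (σ := E) (R := R))) w := fun w =>
    (Scheme.Hom.comp_apply _ _ _).symm.trans
      (congrArg (fun k => k w) (AffineSpace.SpecIso_inv_over (n := E) (R := CommRingCat.of R)))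
  have hinvhom : ∀ q, iso.inv (iso.hom q) = q := fun q =>
    (Scheme.Hom.comp_apply _ _ _).symm.trans (congrArg (fun k => k q) iso.hom_inv_id)
  have hhominv : ∀ w, iso.hom (iso.inv w) = w := fun w =>
    (Scheme.Hom.comp_apply _ _ _).symm.trans (congrArg (fun k => k w) iso.inv_hom_id)
  have hgen : ∀ q : ↥𝔸(E; Spec (CommRingCat.of R)), pr q = pr (g x) → g x ⤳ q := by
    intro q hq
    have hq' : (iso.hom q : PrimeSpectrum (MvPolynomial E R)).asIdeal.comap MvPolynomial.C = p := by
      have e : Spec.map (CommRingCat.ofHom (MvPolynomial.C (σ := E) (R := R))) (iso.hom q) = f x := by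
        rw [← hg, Scheme.Hom.comp_apply g pr, ← hq, ← hprinv, hinvhom]
      exact congrArg PrimeSpectrum.asIdeal e
    have hle : x0.comap φ.toRingHom ≤ (iso.hom q : PrimeSpectrum (MvPolynomial E R)).asIdeal :=
      hx0.trans (Ideal.map_le_iff_le_comap.mpr hq'.ge)
    have hs : Spec.map (CommRingCat.ofHom φ.toRingHom) x ⤳ iso.hom q :=
      (PrimeSpectrum.le_iff_specializes (PrimeSpectrum.comap φ.toRingHom ⟨x0, inferInstance⟩) _).mp hle
    have hs' := hs.map iso.inv.continuous
    rw [hinvhom] at hs'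
    exact hs'
  have hd : (Nat.card E : WithBot ℕ∞) ≤ fdim f x :=
    ((fdim_comp g pr f hg x).trans (fdim_affineSpace_of_generic (g x) hgen)).ge
  have hmax : ∀ x' : Spec (CommRingCat.of S), f x' = f x → x' ⤳ x → x' = x := by
    intro x' hx' hsp
    letI : Algebra (MvPolynomial E R) S := φ.toRingHom.toAlgebra
    haveI : Algebra.QuasiFinite (MvPolynomial E R) S := hφ
    have hle : (x' : PrimeSpectrum S).asIdeal ≤ x0 :=
      (PrimeSpectrum.le_iff_specializes (x' : PrimeSpectrum S) ⟨x0, inferInstance⟩).mpr hsp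
    have hx'p : (x' : PrimeSpectrum S).asIdeal.comap (algebraMap R S) = p :=
      congrArg PrimeSpectrum.asIdeal hx'
    have he := congrArg PrimeSpectrum.asIdeal (hover x')
    refine PrimeSpectrum.ext (Algebra.QuasiFinite.eq_of_le_of_under_eq (R := MvPolynomial E R)
      (x' : PrimeSpectrum S).asIdeal x0 hle (le_antisymm (Ideal.comap_mono hle) ?_))
    refine hx0.trans (Ideal.map_le_iff_le_comap.mpr ?_)
    exact (hx'p.symm.trans he).le
  let D : (Spec (CommRingCat.of S)).Opens := PrimeSpectrum.basicOpen h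
  let η : Spec (CommRingCat.of R) := (⟨⊥, Ideal.isPrime_bot⟩ : PrimeSpectrum R)
  have hη : η ⤳ f x :=
    (PrimeSpectrum.le_iff_specializes (⟨⊥, Ideal.isPrime_bot⟩ : PrimeSpectrum R) _).mp bot_le
  have hop : EGA43.IsOpenAt f.base x := fun U hU => hopen.image_mem_nhds hU
  obtain ⟨a, haD, hfa, hda⟩ := Groth.L07.OpenEquiv.exists_fdim_le f D η (Nat.card E)
    ((hd.trans (fdim_le_fibreDimAt f x)).trans
      (Groth.L07.OpenFibreDim.le_dim_fibre_of_isOpenAt f x hmax hop D hh hη))
  refine ⟨(a : PrimeSpectrum S).asIdeal, (a : PrimeSpectrum S).2, haD, le_bot_iff.mp ?_⟩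
  rw [fdim_comp g pr f hg a] at hda
  let b : ↥𝔸(E; Spec (CommRingCat.of R)) :=
    iso.inv (⟨⊥, Ideal.isPrime_bot⟩ : PrimeSpectrum (MvPolynomial E R))
  have hb : pr b = pr (g a) := by
    rw [← Scheme.Hom.comp_apply g pr, hg, hfa]
    show pr b = η
    refine (hprinv _).trans (PrimeSpectrum.ext ?_)
    exact Ideal.comap_bot_of_injective _ (MvPolynomial.C_injective E R)
  have hs : Spec.map (CommRingCat.ofHom φ.toRingHom) a ⤳
      (⟨⊥, Ideal.isPrime_bot⟩ : PrimeSpectrum (MvPolynomial E R)) := by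
    rw [← hhominv (Spec.map _ a), ← hhominv (⟨⊥, Ideal.isPrime_bot⟩ : PrimeSpectrum (MvPolynomial E R))]
    exact (genericPoint_of_fdim _ (g a) hda b hb).map iso.hom.continuous
  exact (PrimeSpectrum.le_iff_specializes (PrimeSpectrum.comap φ.toRingHom a)
    (⟨⊥, Ideal.isPrime_bot⟩ : PrimeSpectrum (MvPolynomial E R))).mpr hs

theorem comap_map_map_C {R L : Type u} [CommRing R] [CommRing L] (v : R →+* L) (m : Ideal L) :
    ((m.map (MvPolynomial.C (σ := E))).comap (MvPolynomial.map v)) =
      (m.comap v).map (MvPolynomial.C (σ := E)) := by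
  ext q
  simp [MvPolynomial.mem_map_C_iff, MvPolynomial.coeff_map]

/-- At a noetherian level below the local ring a generisation dominating affine space avoids a given
element. -/
theorem exists_generic_avoid [Fintype E] {A S L : Type u} [CommRing A] [CommRing S] [Algebra A S]
    [Algebra.FiniteType A S] [CommRing L] [IsDomain L] [Algebra A L]
    (φ : MvPolynomial E A →ₐ[A] S) (hφ : φ.toRingHom.QuasiFinite) (m : Ideal L)
    (z : Ideal (L ⊗[A] S)) [z.IsPrime] (hz : z.comap (phiBC φ L).toRingHom = m.map MvPolynomial.C)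
    (R : Type u) [CommRing R] [IsNoetherianRing R] [IsDomain R] [Algebra A R] (v : R →ₐ[A] L)
    (hv : Function.Injective v)
    (hopen : IsOpenMap (PrimeSpectrum.comap (algebraMap R (R ⊗[A] S)))) (h' : R ⊗[A] S)
    (hh : Algebra.TensorProduct.map v (AlgHom.id A S) h' ∉ z) :
    ∃ P : Ideal (L ⊗[A] S), P.IsPrime ∧ Algebra.TensorProduct.map v (AlgHom.id A S) h' ∉ P ∧
      P.comap (phiBC φ L).toRingHom = ⊥ := by
  let ι := Algebra.TensorProduct.map v (AlgHom.id A S)
  let φ' := phiBC φ R
  have hιφ : ι.toRingHom.comp φ'.toRingHom =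
      (phiBC φ L).toRingHom.comp (MvPolynomial.map v.toRingHom) := by
    refine MvPolynomial.ringHom_ext (fun r => ?_) (fun i => ?_)
    · show ι (phiBC φ R (MvPolynomial.C r)) = phiBC φ L (MvPolynomial.map v.toRingHom (MvPolynomial.C r))
      rw [MvPolynomial.map_C, phiBC, phiBC, MvPolynomial.aeval_C, MvPolynomial.aeval_C,
        Algebra.TensorProduct.algebraMap_apply, Algebra.TensorProduct.algebraMap_apply,
        Algebra.TensorProduct.map_tmul, map_one]
      rfl
    · show ι (phiBC φ R (MvPolynomial.X i)) = phiBC φ L (MvPolynomial.map v.toRingHom (MvPolynomial.X i))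
      rw [MvPolynomial.map_X, phiBC, phiBC, MvPolynomial.aeval_X, MvPolynomial.aeval_X,
        Algebra.TensorProduct.map_tmul, map_one]
      rfl
  let z' := z.comap ι.toRingHom
  have hz' : z'.comap φ'.toRingHom = (m.comap v.toRingHom).map MvPolynomial.C := by
    rw [Ideal.comap_comap, hιφ, ← Ideal.comap_comap, hz, comap_map_map_C]
  have hz'R : z'.comap (algebraMap R (R ⊗[A] S)) = m.comap v.toRingHom := by
    rw [show algebraMap R (R ⊗[A] S) = φ'.toRingHom.comp MvPolynomial.C from
      RingHom.ext fun r => (φ'.commutes r).symm, ← Ideal.comap_comap, hz']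
    ext r
    classical
    simp only [Ideal.mem_comap, MvPolynomial.mem_map_C_iff, MvPolynomial.coeff_C]
    refine ⟨fun hr => by simpa using hr 0, fun hr k => ?_⟩
    split_ifs
    · exact hr
    · simp
  obtain ⟨P', hP', hh', hP'0⟩ := exists_generic_point hopen φ' (quasiFinite_phiBC φ hφ R) z'
    (by rw [hz', hz'R]) h' hh
  letI : Algebra R L := v.toRingHom.toAlgebra
  haveI : IsScalarTower A R L := IsScalarTower.of_algebraMap_eq fun a => (v.commutes a).symm
  haveI := hP'
  obtain ⟨Q, hQ, hQ0, hQP⟩ := exists_prime_over φ' L ⊥ P' (by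
    rw [hP'0]; exact Ideal.comap_bot_of_injective _ (MvPolynomial.map_injective _ hv))
  let D := L ⊗[R] (R ⊗[A] S)
  let gS : S →ₐ[A] D := ((Algebra.TensorProduct.includeRight (R := R) (A := L)
    (B := R ⊗[A] S)).restrictScalars A).comp (Algebra.TensorProduct.includeRight (R := A) (A := R) (B := S))
  let κ : L ⊗[A] S →ₐ[A] D :=
    Algebra.TensorProduct.lift (IsScalarTower.toAlgHom A L D) gS fun _ _ => Commute.all _ _
  have hκι : κ.toRingHom.comp ι.toRingHom =
      (Algebra.TensorProduct.includeRight (R := R) (A := L) (B := R ⊗[A] S)).toRingHom := by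
    refine RingHom.ext fun t => ?_
    show κ (ι t) = (1 : L) ⊗ₜ[R] t
    induction t using TensorProduct.induction_on with
    | zero => simp
    | add a b ha hb => rw [map_add, map_add, ha, hb, TensorProduct.tmul_add]
    | tmul r s =>
      rw [Algebra.TensorProduct.map_tmul, Algebra.TensorProduct.lift_tmul]
      show (v r ⊗ₜ[R] ((1 : R ⊗[A] S))) * ((1 : L) ⊗ₜ[R] ((1 : R) ⊗ₜ[A] s)) = _
      rw [Algebra.TensorProduct.tmul_mul_tmul, mul_one, one_mul,
        show v r = r • (1 : L) by rw [Algebra.smul_def, mul_one]; rfl,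
        TensorProduct.smul_tmul, TensorProduct.smul_tmul', smul_eq_mul, mul_one]
  have hκφ : κ.toRingHom.comp (phiBC φ L).toRingHom = (phiBC φ' L).toRingHom := by
    refine MvPolynomial.ringHom_ext (fun l => ?_) (fun i => ?_)
    · show κ (phiBC φ L (MvPolynomial.C l)) = phiBC φ' L (MvPolynomial.C l)
      rw [phiBC, phiBC, MvPolynomial.aeval_C, MvPolynomial.aeval_C,
        Algebra.TensorProduct.algebraMap_apply, Algebra.TensorProduct.lift_tmul, map_one, mul_one]
      rfl
    · show κ (phiBC φ L (MvPolynomial.X i)) = phiBC φ' L (MvPolynomial.X i)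
      rw [phiBC, phiBC, MvPolynomial.aeval_X, MvPolynomial.aeval_X, Algebra.TensorProduct.lift_tmul,
        map_one, one_mul]
      show (1 : L) ⊗ₜ[R] ((1 : R) ⊗ₜ[A] φ (MvPolynomial.X i)) = _
      simp [φ', phiBC]
  refine ⟨Q.comap κ.toRingHom, Ideal.IsPrime.comap _, fun hc => hh' ?_, ?_⟩
  · rw [← hQP, ← hκι]
    exact hc
  · rw [Ideal.comap_comap, hκφ, hQ0]

/-- An element of a base change comes from a finitely generated subalgebra. -/
theorem exists_finite_level {A S L : Type u} [CommRing A] [CommRing S] [Algebra A S] [CommRing L]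
    [Algebra A L] (h : L ⊗[A] S) :
    ∃ t : Finset L, ∀ R : Subalgebra A L, (t : Set L) ⊆ R →
      h ∈ Set.range (Algebra.TensorProduct.map R.val (AlgHom.id A S)) := by
  classical
  induction h using TensorProduct.induction_on with
  | zero => exact ⟨∅, fun R _ => ⟨0, map_zero _⟩⟩
  | add a b ha hb =>
    obtain ⟨s, hs⟩ := ha
    obtain ⟨t, ht⟩ := hb
    refine ⟨s ∪ t, fun R hR => ?_⟩
    rw [Finset.coe_union, Set.union_subset_iff] at hR
    obtain ⟨a', rfl⟩ := hs R hR.1
    obtain ⟨b', rfl⟩ := ht R hR.2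
    exact ⟨a' + b', map_add _ _ _⟩
  | tmul l s =>
    refine ⟨{l}, fun R hR => ⟨(⟨l, hR (by simp)⟩ : R) ⊗ₜ s, ?_⟩⟩
    rfl

/-- Sections over local domains with roots of an open morphism chart. -/
theorem exists_algHom [Fintype E] {A S L : Type u} [CommRing A] [IsNoetherianRing A] [CommRing S]
    [Algebra A S] [Algebra.FiniteType A S] [CommRing L] [IsDomain L] [IsLocalRing L] [Algebra A L]
    (hL : HasRoots L)
    (hopen : ∀ (R : Type u) [CommRing R] [Algebra A R] [IsNoetherianRing R],
      IsOpenMap (PrimeSpectrum.comap (algebraMap R (R ⊗[A] S))))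
    (φ : MvPolynomial E A →ₐ[A] S) (hφ : φ.toRingHom.QuasiFinite) (z : Ideal S) [z.IsPrime]
    (hz : z.comap φ.toRingHom = ((IsLocalRing.maximalIdeal L).comap (algebraMap A L)).map MvPolynomial.C) :
    Nonempty (S →ₐ[A] L) := by
  classical
  let m := IsLocalRing.maximalIdeal L
  haveI : (m.map (MvPolynomial.C (σ := E))).IsPrime := by
    rw [show m.map (MvPolynomial.C (σ := E)) = RingHom.ker (MvPolynomial.map (σ := E)
      (Ideal.Quotient.mk m)) by rw [MvPolynomial.ker_map, Ideal.mk_ker]]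
    exact RingHom.ker_isPrime _
  obtain ⟨zL, hzL, hzL0, -⟩ := exists_prime_over φ L (m.map MvPolynomial.C) z
    (by rw [comap_map_map_C, hz])
  haveI := hzL
  let T := L ⊗[A] S
  let φL := phiBC φ L
  have hqfL : φL.toRingHom.QuasiFinite := quasiFinite_phiBC φ hφ L
  obtain ⟨P0, hP0, hP00, hP0z⟩ : ∃ P0 : Ideal T, P0.IsPrime ∧ P0.comap φL.toRingHom = ⊥ ∧ P0 ≤ zL := by
    by_contra hno
    push Not at hno
    letI : Algebra (MvPolynomial E L) T := φL.toRingHom.toAlgebra
    haveI : Algebra.QuasiFinite (MvPolynomial E L) T := hqfL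
    have hfin : ((⊥ : Ideal (MvPolynomial E L)).primesOver T).Finite :=
      Algebra.QuasiFinite.finite_primesOver _
    choose h hhP hhz using fun P : hfin.toFinset =>
      SetLike.not_le_iff_exists.mp (hno P.1 ((hfin.mem_toFinset.mp P.2).1)
        ((hfin.mem_toFinset.mp P.2).2.over.symm))
    let H : T := ∏ P, h P
    have hHz : H ∉ zL := zL.primeCompl.prod_mem fun P _ => hhz P
    obtain ⟨t, ht⟩ := exists_finite_level H
    let R := Algebra.adjoin A (t : Set L)
    haveI : Algebra.FiniteType A R := (Subalgebra.fg_iff_finiteType _).mp ⟨t, rfl⟩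
    haveI : IsNoetherianRing R := Algebra.FiniteType.isNoetherianRing A R
    obtain ⟨H', hH'⟩ := ht R Algebra.subset_adjoin
    obtain ⟨P, hP, hHP, hP0⟩ := exists_generic_avoid φ hφ m zL hzL0 R R.val Subtype.val_injective
      (hopen R) H' (by rw [hH']; exact hHz)
    rw [hH'] at hHP
    have hPmem : P ∈ hfin.toFinset := hfin.mem_toFinset.mpr ⟨hP, ⟨hP0.symm⟩⟩
    refine hHP ?_
    exact Ideal.mem_of_dvd _ (Finset.dvd_prod_of_mem h (Finset.mem_univ ⟨P, hPmem⟩))
      (hhP ⟨P, hPmem⟩)
  haveI := hP0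
  have hzm : m ≤ zL.comap (algebraMap L T) := fun l hl => by
    show algebraMap L T l ∈ zL
    rw [← φL.commutes l]
    show MvPolynomial.C l ∈ zL.comap φL.toRingHom
    rw [hzL0]
    exact Ideal.mem_map_of_mem _ hl
  obtain ⟨Q, hQ, hzQ⟩ := zL.exists_le_maximal hzL.ne_top
  haveI := hQ
  obtain ⟨s, w, hs, hw, hwQ, hwP, hw0, hwqf⟩ :=
    Groth.L07.QuasiSection.exists_quasiSection_prime φL.toRingHom
      (RingHom.ext fun l => φL.commutes l) hqfL Q P0 (hP0z.trans hzQ) (by rw [hP00]; exact bot_le)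
      (fun q' hq' hle _ => (hQ.eq_of_le hq'.ne_top hle).symm)
  haveI := hw
  haveI := hwqf
  let Ts := Localization.Away s
  haveI : Algebra.FiniteType L Ts :=
    (inferInstance : Algebra.FiniteType L T).trans (inferInstance : Algebra.FiniteType T Ts)
  let C := Ts ⧸ w
  haveI : IsDomain C := Ideal.Quotient.isDomain w
  haveI : Algebra.FiniteType L C :=
    (inferInstance : Algebra.FiniteType L Ts).trans (inferInstance : Algebra.FiniteType Ts C)
  have hdisj : Disjoint (Submonoid.powers s : Set T) (Q : Set T) := by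
    rw [Set.disjoint_left]
    rintro _ ⟨k, rfl⟩ hk
    exact hs (hQ.isPrime.mem_of_pow_mem k hk)
  let Qs : Ideal Ts := Q.map (algebraMap T Ts)
  haveI : Qs.IsPrime := IsLocalization.isPrime_of_isPrime_disjoint (.powers s) Ts Q hQ.isPrime hdisj
  have hQs : Qs.comap (algebraMap T Ts) = Q :=
    IsLocalization.under_map_of_isPrime_disjoint (.powers s) Ts hQ.isPrime hdisj
  have hwQs : w ≤ Qs := by
    rw [← IsLocalization.map_comap (.powers s) Ts w]
    exact Ideal.map_mono hwQ
  let Q1 : PrimeSpectrum C := ⟨Qs.map (Ideal.Quotient.mk w),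
    Ideal.map_isPrime_of_surjective Ideal.Quotient.mk_surjective (Ideal.mk_ker.le.trans hwQs)⟩
  have hw0' : w.comap (algebraMap L Ts) = ⊥ := by
    rw [hw0, show algebraMap L T = φL.toRingHom.comp MvPolynomial.C from
      RingHom.ext fun l => (φL.commutes l).symm, ← Ideal.comap_comap, hP00,
      Ideal.comap_bot_of_injective _ (MvPolynomial.C_injective E L)]
  obtain ⟨σ⟩ := exists_algHom_qf hL C ⟨⊥, Ideal.isPrime_bot⟩ Q1 bot_le (by
      show (⊥ : Ideal C).comap (algebraMap L C) = ⊥
      rw [IsScalarTower.algebraMap_eq L Ts C, ← Ideal.comap_comap, Ideal.Quotient.algebraMap_eq,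
        ← RingHom.ker_eq_comap_bot, Ideal.mk_ker, hw0'])
    (fun l hl => by
      show algebraMap L C l ∈ Qs.map (Ideal.Quotient.mk w)
      rw [IsScalarTower.algebraMap_apply L Ts C, Ideal.Quotient.algebraMap_eq]
      refine Ideal.mem_map_of_mem _ ?_
      rw [IsScalarTower.algebraMap_apply L T Ts]
      exact Ideal.mem_map_of_mem _ (hzQ (hzm hl)))
  exact ⟨(((σ.comp (Ideal.Quotient.mkₐ L w)).comp (IsScalarTower.toAlgHom L T Ts)).restrictScalars A).comp
    Algebra.TensorProduct.includeRight⟩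

theorem comap_C_map_C {R : Type u} [CommRing R] (p : Ideal R) :
    (p.map (MvPolynomial.C (σ := E))).comap MvPolynomial.C = p := by
  ext r
  classical
  simp only [Ideal.mem_comap, MvPolynomial.mem_map_C_iff, MvPolynomial.coeff_C]
  refine ⟨fun hr => by simpa using hr 0, fun hr k => ?_⟩
  split_ifs
  · exact hr
  · simp

theorem universallyOpen_of_comp_mono {X Y Z : Scheme.{u}} (g : X ⟶ Y) (i : Y ⟶ Z) [Mono i]
    [UniversallyOpen (g ≫ i)] : UniversallyOpen g := by
  have hpb : IsPullback (𝟙 X) g (g ≫ i) i :=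
    ⟨⟨by rw [Category.id_comp]⟩, ⟨PullbackCone.IsLimit.mk _ (fun c => c.fst) (fun c => Category.comp_id _)
      (fun c => by rw [← cancel_mono i, Category.assoc]; exact c.condition)
      (fun c m h1 _ => (Category.comp_id m).symm.trans h1)⟩⟩
  exact MorphismProperty.of_isPullback (P := @UniversallyOpen) hpb inferInstance

theorem isOpenMap_baseChange {A S : Type u} [CommRing A] [CommRing S] [Algebra A S]
    [UniversallyOpen (Spec.map (CommRingCat.ofHom (algebraMap A S)))] (R : Type u) [CommRing R]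
    [Algebra A R] : IsOpenMap (PrimeSpectrum.comap (algebraMap R (R ⊗[A] S))) := by
  haveI : UniversallyOpen (Spec.map (CommRingCat.ofHom (algebraMap R (R ⊗[A] S)))) :=
    MorphismProperty.of_isPullback (P := @UniversallyOpen)
      (isPullback_SpecMap_of_isPushout _ _ _ _ (CommRingCat.isPushout_tensorProduct A R S)).flip
      inferInstance
  exact (Spec.map (CommRingCat.ofHom (algebraMap R (R ⊗[A] S)))).isOpenMap

/-- Sections of a universally open surjective morphism exist locally on the integral cover. -/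
theorem exists_section {X Y : Scheme.{u}} [IsLocallyNoetherian Y] (f : X ⟶ Y) [UniversallyOpen f]
    [Surjective f] [LocallyOfFiniteType f] (t : IntCover.T Y) :
    ∃ (V : (IntCover.T Y).Opens) (r : ↑V ⟶ X), t ∈ V ∧ r ≫ f = V.ι ≫ IntCover.π Y := by
  classical
  obtain ⟨⟨V, hV⟩, t', rfl⟩ := exists_chart t
  let A := Γ(Y, V)
  let B := integralClosure A (KU Y V)
  let p := PrimeSpectrum.comap (algebraMap A B) t'
  obtain ⟨x, hx⟩ := f.surjective (hV.fromSpec p)
  have hxV : f x ∈ V := by
    rw [hx]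
    exact (Set.ext_iff.mp hV.range_fromSpec _).mp (Set.mem_range_self p)
  obtain ⟨z, hzx, hfz, hzmax, hzd⟩ := Groth.L07.OpenEquiv.exists_maximal_fdim_eq f x
  obtain ⟨d, hd⟩ := Groth.L07.OpenEquiv.exists_nat_fibreDimAt f x
  obtain ⟨U1, hxU1, hU1⟩ := (Groth.L07.FibreDim.fibreDimAt_le_iff f x (d : WithBot ℕ∞)).mp hd.le
  obtain ⟨D, g, hxD, -, hg, hqf⟩ := exists_qf_affineSpace f U1 x hxU1 d hU1
  haveI := hqf
  let E := ULift.{u} (Fin d)
  obtain ⟨W, hW, hxW, hWD⟩ := exists_isAffineOpen_mem_and_subset (show x ∈ D ⊓ f ⁻¹ᵁ V from ⟨hxD, hxV⟩)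
  have hWV : W ≤ f ⁻¹ᵁ V := fun w hw => (hWD hw).2
  have hWD' : W ≤ D := fun w hw => (hWD hw).1
  have hzW : z ∈ W := hzx.mem_open W.2 hxW
  letI : Algebra A Γ(X, W) := (f.appLE V W hWV).hom.toAlgebra
  haveI : Algebra.FiniteType A Γ(X, W) := f.finiteType_appLE hV hW hWV
  haveI : Algebra.FinitePresentation A Γ(X, W) := by
    haveI : IsNoetherianRing A := IsLocallyNoetherian.component_noetherian ⟨V, hV⟩
    exact Algebra.FinitePresentation.of_finiteType.mp inferInstance
  haveI : IsNoetherianRing A := IsLocallyNoetherian.component_noetherian ⟨V, hV⟩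
  have hsq : Spec.map (f.appLE V W hWV) ≫ hV.fromSpec = hW.fromSpec ≫ f :=
    hV.SpecMap_appLE_fromSpec f hW hWV
  haveI : UniversallyOpen (Spec.map (CommRingCat.ofHom (algebraMap A Γ(X, W)))) := by
    haveI : UniversallyOpen (Spec.map (f.appLE V W hWV) ≫ hV.fromSpec) := hsq ▸ inferInstance
    exact universallyOpen_of_comp_mono (Spec.map (f.appLE V W hWV)) hV.fromSpec
  have bot := AffineSpace.isPullback_map (n := E) hV.fromSpec
  let gW : Spec Γ(X, W) ⟶ 𝔸(E; Y) := (hW.isoSpec.inv ≫ X.homOfLE hWD') ≫ g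
  have hgW : gW ≫ (𝔸(E; Y) ↘ Y) = hW.fromSpec ≫ f := by
    rw [Category.assoc, hg, Category.assoc, Scheme.homOfLE_ι_assoc, IsAffineOpen.isoSpec_inv_ι_assoc]
  let h := bot.lift gW (Spec.map (f.appLE V W hWV)) (by rw [hgW, hsq])
  obtain ⟨φ', hφ'⟩ := Spec.map_surjective (h ≫ (AffineSpace.SpecIso E Γ(Y, V)).hom)
  have hinv : (h ≫ (AffineSpace.SpecIso E Γ(Y, V)).hom) ≫ (AffineSpace.SpecIso E Γ(Y, V)).inv = h := by
    rw [Category.assoc, Iso.hom_inv_id, Category.comp_id]
  have hφC : φ'.hom.comp MvPolynomial.C = algebraMap Γ(Y, V) Γ(X, W) := by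
    have h1 : Spec.map (CommRingCat.ofHom MvPolynomial.C ≫ φ') = Spec.map (f.appLE V W hWV) := by
      rw [Spec.map_comp, hφ', ← AffineSpace.SpecIso_inv_over, ← Category.assoc, hinv]
      exact bot.lift_snd _ _ _
    exact congrArg CommRingCat.Hom.hom (Spec.map_injective h1)
  let φ : MvPolynomial E A →ₐ[A] Γ(X, W) :=
    { φ'.hom with
      commutes' := fun a => RingHom.congr_fun hφC a }
  let m := AffineSpace.map E hV.fromSpec
  haveI : IsOpenImmersion m := MorphismProperty.of_isPullback (P := @IsOpenImmersion) bot.flip inferInstance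
  have hhm : h ≫ m = gW := bot.lift_fst _ _ _
  haveI : LocallyQuasiFinite (X.homOfLE hWD') := inferInstance
  haveI : LocallyQuasiFinite gW := inferInstance
  haveI : LocallyQuasiFinite (h ≫ m) := hhm ▸ inferInstance
  haveI : LocallyQuasiFinite h := LocallyQuasiFinite.of_comp h m
  have hφqf : φ'.hom.QuasiFinite := by
    haveI : LocallyQuasiFinite (Spec.map φ') := hφ' ▸ inferInstance
    exact (HasRingHomProperty.Spec_iff (P := @LocallyQuasiFinite)).mp inferInstance
  let P0 := hW.primeIdealOf ⟨z, hzW⟩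
  haveI := P0.2
  have hP0 : hW.fromSpec P0 = z := hW.fromSpec_primeIdealOf ⟨z, hzW⟩
  let pr := 𝔸(E; Y) ↘ Y
  let ζ : (D : Scheme.{u}) := ⟨z, hWD' hzW⟩
  have hpr : pr (g ζ) = f z := by rw [← Scheme.Hom.comp_apply, hg]; rfl
  haveI : LocallyOfFiniteType (g ≫ pr) := hg ▸ inferInstance
  haveI : LocallyOfFiniteType g := locallyOfFiniteType_of_comp g pr
  have hgen : ∀ q, pr q = pr (g ζ) → g ζ ⤳ q := by
    refine genericPoint_of_fdim _ (g ζ) (le_of_eq ?_)
    rw [← fdim_comp g pr (D.ι ≫ f) hg ζ, fdim_comp D.ι f (D.ι ≫ f) rfl ζ,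
      show fdim f (D.ι ζ) = fdim f z from rfl, hzd, hd]
    simp [E]
  have hp : P0.asIdeal.comap (algebraMap A Γ(X, W)) = p.asIdeal := by
    have e : hV.fromSpec (Spec.map (f.appLE V W hWV) P0) = hV.fromSpec p := by
      rw [← Scheme.Hom.comp_apply, hsq, Scheme.Hom.comp_apply, hP0, hfz, hx]
    exact congrArg PrimeSpectrum.asIdeal (hV.fromSpec.isOpenEmbedding.injective e)
  have hNprime : (p.asIdeal.map (MvPolynomial.C (σ := E))).IsPrime := by
    haveI := p.2
    rw [show p.asIdeal.map (MvPolynomial.C (σ := E)) = RingHom.ker (MvPolynomial.map (σ := E)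
      (Ideal.Quotient.mk p.asIdeal)) by rw [MvPolynomial.ker_map, Ideal.mk_ker]]
    exact RingHom.ker_isPrime _
  let Np : Spec (CommRingCat.of (MvPolynomial E A)) := (⟨_, hNprime⟩ : PrimeSpectrum _)
  let k := (AffineSpace.SpecIso E Γ(Y, V)).inv ≫ m
  have hk : Spec.map φ' ≫ k = gW := by rw [hφ', ← Category.assoc, hinv, hhm]
  have hNsp : Np ⤳ Spec.map φ' P0 := by
    refine (PrimeSpectrum.le_iff_specializes (⟨_, hNprime⟩ : PrimeSpectrum _)
      (PrimeSpectrum.comap φ'.hom P0)).mp (Ideal.map_le_iff_le_comap.mpr ?_)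
    rw [← hp, ← hφC, ← Ideal.comap_comap]
    rfl
  have hgζ : gW P0 = g ζ := by
    show ((hW.isoSpec.inv ≫ X.homOfLE hWD') ≫ g) P0 = g ζ
    rw [Scheme.Hom.comp_apply]
    refine congrArg g (D.ι.isOpenEmbedding.injective ?_)
    rw [← Scheme.Hom.comp_apply, Category.assoc, Scheme.homOfLE_ι, IsAffineOpen.isoSpec_inv_ι]
    exact hP0
  have h2 : k (Spec.map φ' P0) = g ζ := by rw [← Scheme.Hom.comp_apply, hk, hgζ]
  have hkN : pr (k Np) = pr (g ζ) := by
    rw [hpr, hfz, hx, ← Scheme.Hom.comp_apply, Category.assoc, AffineSpace.map_over,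
      AffineSpace.SpecIso_inv_over_assoc, Scheme.Hom.comp_apply]
    refine congrArg hV.fromSpec (PrimeSpectrum.ext ?_)
    exact comap_C_map_C p.asIdeal
  have h4 : Np = Spec.map φ' P0 := k.isOpenEmbedding.injective (by
    rw [h2]
    exact ((h2 ▸ hNsp.map k.continuous).antisymm (hgen _ hkN)).eq)
  haveI := isDomain_localization t'.asIdeal
  let L := Localization.AtPrime t'.asIdeal
  have hmt : (IsLocalRing.maximalIdeal L).comap (algebraMap A L) = p.asIdeal := by
    rw [IsScalarTower.algebraMap_eq A B L, ← Ideal.comap_comap,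
      show (IsLocalRing.maximalIdeal L).comap (algebraMap B L) = t'.asIdeal from
        IsLocalization.AtPrime.comap_maximalIdeal L t'.asIdeal]
    rfl
  obtain ⟨σ⟩ := exists_algHom (A := A) (S := Γ(X, W)) (L := L)
    (hasRoots_localization hasRoots_closure t'.asIdeal.primeCompl) (fun R _ _ _ => isOpenMap_baseChange R)
    φ hφqf P0.asIdeal (by
      rw [hmt]
      exact (congrArg PrimeSpectrum.asIdeal h4).symm)
  obtain ⟨b, hb, ⟨ψ⟩⟩ := exists_away_of_algHom t' σ
  let ℓ := algebraMap B (Localization.Away b)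
  haveI : IsOpenImmersion (Spec.map (CommRingCat.ofHom ℓ)) :=
    IsOpenImmersion.of_isLocalization b
  let j := Spec.map (CommRingCat.ofHom ℓ) ≫ chart ⟨V, hV⟩
  refine ⟨j.opensRange, j.isoOpensRange.inv ≫ Spec.map (CommRingCat.ofHom ψ.toRingHom) ≫
    hW.fromSpec, ?_, ?_⟩
  · rw [Scheme.Hom.opensRange_comp]
    refine ⟨t', ?_, rfl⟩
    show t' ∈ Set.range (PrimeSpectrum.comap ℓ)
    rw [PrimeSpectrum.localization_away_comap_range (Localization.Away b) b]
    exact hb
  · rw [← cancel_epi j.isoOpensRange.hom, ← Category.assoc j.isoOpensRange.hom _ (IntCover.π Y),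
      Scheme.Hom.isoOpensRange_hom_ι, Category.assoc, Category.assoc, Category.assoc,
      Iso.hom_inv_id_assoc, ← hsq, chart_π, ← Spec.map_comp_assoc, ← Spec.map_comp_assoc]
    congr 2
    ext a
    exact (ψ.commutes a).trans (IsScalarTower.algebraMap_apply A B (Localization.Away b) a)

/-- A finite surjective cover over which sections exist locally. -/
theorem exists_finite_cover {X Y : Scheme.{u}} [IsNoetherian Y] (f : X ⟶ Y) [UniversallyOpen f]
    [Surjective f] [LocallyOfFiniteType f] :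
    ∃ (Y' : Scheme.{u}) (g : Y' ⟶ Y), IsFinite g ∧ Surjective g ∧
      ∀ y' : Y', ∃ U : Y'.Opens, y' ∈ U ∧
        ∃ s : (↑U : Scheme.{u}) ⟶ pullback f g, s ≫ pullback.snd f g = U.ι := by
  haveI : LocallyOfFinitePresentation f := Groth.L23.lfp_of_lft_locallyNoetherian f
  obtain ⟨X', Y', h, p, q, hpq, hp, -, -, hloc, hq, hqs, -⟩ :=
    Groth.L20.QfRefine.exists_refinement f (IntCover.π Y) (exists_section f)
  refine ⟨Y', q, hq, hqs, fun y => ?_⟩
  obtain ⟨x, rfl⟩ := p.surjective y
  obtain ⟨W, hxW, hW⟩ := hloc x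
  let j := W.ι ≫ p
  refine ⟨j.opensRange, ⟨⟨x, hxW⟩, rfl⟩, pullback.lift (j.isoOpensRange.inv ≫ W.ι ≫ h) j.opensRange.ι ?_,
    pullback.lift_snd _ _ _⟩
  rw [← cancel_epi j.isoOpensRange.hom]
  simp only [Category.assoc, Iso.hom_inv_id_assoc, hpq, Scheme.Hom.isoOpensRange_hom_ι_assoc, j]

end Groth.L07.UnivOpenSection
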