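import Groth.Agent.L22.LocalDim
import Mathlib.AlgebraicGeometry.Morphisms.LocalIso
import Mathlib.AlgebraicGeometry.Morphisms.Separated
import Mathlib.AlgebraicGeometry.PullbackCarrier
import Mathlib.RingTheory.Localization.BaseChange

/-!
Condition (W) on a noetherian local ring and maps which are open immersions over the punctured
spectrum: a maximal point of the closed fibre has codimension at most one or is isolated in the
fibre.
-/

set_option autoImplicit false
set_option linter.style.haveILetI false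
set_option maxSynthPendingDepth 3
set_option backward.isDefEq.respectTransparency false
set_option backward.isDefEq.respectTransparency.types false

universe u

open CategoryTheory CategoryTheory.Limits AlgebraicGeometry TopologicalSpace

namespace Groth.L07.WCore

/-- A minimal prime over an ideal is isolated from the other components by one element. -/
theorem exists_notMem_forall_le {C : Type*} [CommRing C] [IsNoetherianRing C] {I : Ideal C}
    (P : Ideal C) (hP : P ∈ I.minimalPrimes) :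
    ∃ f ∉ P, ∀ Q : Ideal C, Q.IsPrime → I ≤ Q → f ∉ Q → P ≤ Q := by
  classical
  haveI := hP.isPrime
  let F := ((Ideal.finite_minimalPrimes_of_isNoetherianRing C I).toFinset).erase P
  have hF : ∀ Q ∈ F, ∃ f ∈ Q, f ∉ P := by
    intro Q hQ
    obtain ⟨hne, hQ⟩ := Finset.mem_erase.1 hQ
    rw [Set.Finite.mem_toFinset] at hQ
    by_contra h
    push Not at h
    exact hne (le_antisymm h (hP.2 hQ.1 h))
  choose! g hg hg' using hF
  refine ⟨∏ Q ∈ F, g Q, fun h => ?_, fun Q hQ hIQ hfQ => ?_⟩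
  · obtain ⟨Q, hQ, hQ'⟩ := (Ideal.IsPrime.prod_mem_iff).1 h
    exact hg' Q hQ hQ'
  · obtain ⟨Q', hQ', hle⟩ := Ideal.exists_minimalPrimes_le hIQ
    by_cases hQP : Q' = P
    · exact hQP ▸ hle
    have hQF : Q' ∈ F := Finset.mem_erase.2 ⟨hQP, (Set.Finite.mem_toFinset _).2 hQ'⟩
    exact absurd (hle (Q'.mem_of_dvd (Finset.dvd_prod_of_mem g hQF) (hg Q' hQF))) hfQ

/-- Two primes over the same prime, both containing a prime modulo which every element is a
fraction from the base, are equal. -/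
theorem le_of_residual {A B : Type*} [CommRing A] [CommRing B] (φ : A →+* B) {η P₁ P₂ : Ideal B}
    [η.IsPrime] [P₁.IsPrime] [P₂.IsPrime] (h₁ : η ≤ P₁) (h₂ : η ≤ P₂)
    (hcomap : P₁.comap φ = P₂.comap φ)
    (H₁ : ∀ b, ∃ t a, φ t ∉ P₁ ∧ φ t * b - φ a ∈ η)
    (H₂ : ∀ b, ∃ t a, φ t ∉ P₂ ∧ φ t * b - φ a ∈ η) : P₁ ≤ P₂ := by
  intro b hb
  obtain ⟨t₁, a₁, ht₁, hb₁⟩ := H₁ b
  obtain ⟨t₂, a₂, ht₂, hb₂⟩ := H₂ b
  have hiff : ∀ c, φ c ∈ P₁ ↔ φ c ∈ P₂ := fun c => by
    simpa [Ideal.mem_comap] using SetLike.ext_iff.1 hcomap c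
  have ha₁ : φ a₁ ∈ P₁ := by
    simpa using P₁.sub_mem (P₁.mul_mem_left (φ t₁) hb) (h₁ hb₁)
  have hη : φ (t₁ * a₂ - t₂ * a₁) ∈ η := by
    have h := η.sub_mem (η.mul_mem_left (φ t₂) hb₁) (η.mul_mem_left (φ t₁) hb₂)
    simpa [map_sub, map_mul, mul_sub, mul_left_comm] using h
  rw [map_sub, map_mul, map_mul] at hη
  have hprod : φ t₁ * φ a₂ ∈ P₁ := by
    simpa using P₁.add_mem (h₁ hη) (P₁.mul_mem_left (φ t₂) ha₁)
  have ha₂ : φ a₂ ∈ P₂ :=
    (hiff a₂).1 ((Ideal.IsPrime.mem_or_mem ‹_› hprod).resolve_left ht₁)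
  have htb : φ t₂ * b ∈ P₂ := by simpa using P₂.add_mem (h₂ hb₂) ha₂
  exact (Ideal.IsPrime.mem_or_mem ‹_› htb).resolve_left ht₂

variable {R C : CommRingCat.{u}}

/-- Where the stalk map of `Spec C ⟶ Spec R` is surjective, every element is a fraction from `R`
modulo every generisation. -/
theorem residual_of_surjective (φ : R ⟶ C) (P : Spec C)
    (h : Function.Surjective ((Spec.map φ).stalkMap P)) {η : Ideal C} [η.IsPrime]
    (hη : η ≤ P.asIdeal) (b : C) :
    ∃ t a, φ.hom t ∉ P.asIdeal ∧ φ.hom t * b - φ.hom a ∈ η := by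
  have h' : Function.Surjective
      (Localization.localRingHom (PrimeSpectrum.comap φ.hom P).asIdeal P.asIdeal φ.hom rfl) := by
    have := RingHom.toMorphismProperty_respectsIso_iff.1 RingHom.surjective_respectsIso.{u}
    exact ((MorphismProperty.arrow_mk_iso_iff
      (RingHom.toMorphismProperty (fun f => Function.Surjective f))
      (Scheme.arrowStalkMapSpecIso φ P)).1 h :)
  obtain ⟨w, hw⟩ := h' (algebraMap C (Localization.AtPrime P.asIdeal) b)
  obtain ⟨a, ⟨t, ht⟩, rfl⟩ :=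
    IsLocalization.exists_mk'_eq (PrimeSpectrum.comap φ.hom P).asIdeal.primeCompl w
  rw [Localization.localRingHom_mk', IsLocalization.mk'_eq_iff_eq_mul, ← map_mul,
    IsLocalization.eq_iff_exists P.asIdeal.primeCompl] at hw
  obtain ⟨⟨s, hs⟩, hs'⟩ := hw
  refine ⟨t, a, fun h => ht h, ?_⟩
  have : s * (φ.hom t * b - φ.hom a) ∈ η := by
    rw [mul_sub]
    have e : s * (φ.hom t * b) - s * φ.hom a = 0 := by
      rw [sub_eq_zero, hs', mul_comm (φ.hom t) b]
    exact e ▸ η.zero_mem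
  exact (Ideal.IsPrime.mem_or_mem ‹_› this).resolve_left fun h => hs (hη h)

/-- An injective local isomorphism is an open immersion. -/
theorem isOpenImmersion_of_injective {X Y : Scheme.{u}} (f : X ⟶ Y) [IsLocalIso f]
    (hf : Function.Injective f) : IsOpenImmersion f := by
  have hopen : IsOpenMap f := by
    intro S hS
    rw [isOpen_iff_mem_nhds]
    rintro _ ⟨x, hx, rfl⟩
    obtain ⟨U, hxU, hU⟩ := IsLocalIso.exists_isOpenImmersion (f := f) x
    refine Filter.mem_of_superset (((U.ι ≫ f).isOpenEmbedding.isOpenMap _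
      (hS.preimage U.ι.continuous)).mem_nhds ⟨⟨x, hxU⟩, hx, rfl⟩) ?_
    rintro _ ⟨x', hx', rfl⟩
    exact ⟨U.ι x', hx', rfl⟩
  haveI : ∀ x, IsIso (f.stalkMap x) := by
    intro x
    obtain ⟨U, hxU, hU⟩ := IsLocalIso.exists_isOpenImmersion (f := f) x
    have h : IsIso ((U.ι ≫ f).stalkMap ⟨x, hxU⟩) := inferInstance
    rw [Scheme.Hom.stalkMap_comp] at h
    exact @IsIso.of_isIso_comp_right _ _ _ _ _ (f.stalkMap x) (U.ι.stalkMap ⟨x, hxU⟩) _ h
  exact IsOpenImmersion.of_isIso_stalkMap f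
    (Topology.IsOpenEmbedding.of_continuous_injective_isOpenMap f.continuous hf hopen)

/-- Where an open restriction is a local isomorphism, the stalk maps are surjective. -/
theorem surjective_stalkMap {X Y : Scheme.{u}} (f : X ⟶ Y) (U : X.Opens) [IsLocalIso (U.ι ≫ f)]
    {x : X} (hx : x ∈ U) : Function.Surjective (f.stalkMap x) := by
  obtain ⟨W, hxW, hW⟩ := IsLocalIso.exists_isOpenImmersion (f := U.ι ≫ f) ⟨x, hx⟩
  have h : IsIso ((W.ι ≫ U.ι ≫ f).stalkMap ⟨⟨x, hx⟩, hxW⟩) := inferInstance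
  rw [Scheme.Hom.stalkMap_comp, Scheme.Hom.stalkMap_comp, Category.assoc] at h
  haveI : IsIso (f.stalkMap x) :=
    @IsIso.of_isIso_comp_right _ _ _ _ _ (f.stalkMap x)
      (U.ι.stalkMap ⟨x, hx⟩ ≫ W.ι.stalkMap ⟨⟨x, hx⟩, hxW⟩) _ h
  exact (ConcreteCategory.bijective_of_isIso (f.stalkMap x)).2

/-- The core statement over a local ring. -/
theorem dim_le_one_or_isolated [IsLocalRing R] [IsNoetherianRing R] [IsNoetherianRing C]
    (φ : R ⟶ C)
    (hD : IsOpenImmersion ((Spec.map φ ⁻¹ᵁ FEt.puncturedSpec ↑R).ι ≫ Spec.map φ))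
    (hW : ∀ U : (Spec R).Opens, ∀ hU : U ≤ FEt.puncturedSpec ↑R,
      (∀ T ∈ irreducibleComponents ↥(FEt.puncturedSpec ↑R), ¬ Subtype.val '' T ⊆ (U : Set _)) →
      IsAffineHom ((Spec R).homOfLE hU) → IsAffineOpen U)
    (q : Spec C) (hq : Spec.map φ q = IsLocalRing.closedPoint R)
    (hmax : ∀ q' : Spec C, Spec.map φ q' = IsLocalRing.closedPoint R →
      q'.asIdeal ≤ q.asIdeal → q' = q) :
    q.asIdeal.height ≤ 1 ∨
      ∃ O : (Spec C).Opens, q ∈ O ∧
        ∀ q' ∈ O, Spec.map φ q' = IsLocalRing.closedPoint R → q' = q := by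
  classical
  let I : Ideal C := (IsLocalRing.maximalIdeal R).map φ.hom
  have hfib : ∀ q' : Spec C, I ≤ q'.asIdeal ↔ Spec.map φ q' = IsLocalRing.closedPoint R := by
    intro q'
    rw [Ideal.map_le_iff_le_comap]
    constructor
    · intro h
      exact PrimeSpectrum.ext ((IsLocalRing.maximalIdeal.isMaximal R).eq_of_le
        (PrimeSpectrum.comap φ.hom q').isPrime.ne_top h).symm
    · intro h
      exact (congrArg PrimeSpectrum.asIdeal h).ge
  have hqmin : q.asIdeal ∈ I.minimalPrimes := by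
    refine ⟨⟨q.2, (hfib q).2 hq⟩, fun P ⟨hP, hIP⟩ hPq => ?_⟩
    exact (congrArg PrimeSpectrum.asIdeal
      (hmax (⟨P, hP⟩ : PrimeSpectrum C) ((hfib ⟨P, hP⟩).1 hIP) hPq)).ge
  obtain ⟨f₀, hf₀, hf₀'⟩ := exists_notMem_forall_le q.asIdeal hqmin
  by_cases hiso : ∀ q' : Spec C, f₀ ∉ q'.asIdeal → Spec.map φ q' = IsLocalRing.closedPoint R →
      q' = q
  · exact Or.inr ⟨PrimeSpectrum.basicOpen f₀, hf₀, hiso⟩
  left
  push Not at hiso
  obtain ⟨q₁, hfq₁, hq₁, hne⟩ := hiso
  have hlt : q.asIdeal < q₁.asIdeal :=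
    lt_of_le_of_ne (hf₀' _ q₁.2 ((hfib q₁).2 hq₁) hfq₁) fun e => hne (PrimeSpectrum.ext e.symm)
  let P₀ : (Spec R).Opens := FEt.puncturedSpec ↑R
  let D : (Spec C).Opens := Spec.map φ ⁻¹ᵁ P₀
  let j := D.ι ≫ Spec.map φ
  haveI : IsOpenImmersion j := hD
  have hmemD : ∀ {x : Spec C}, x ∈ D ↔ Spec.map φ x ≠ IsLocalRing.closedPoint R := Iff.rfl
  have hqD : q ∉ D := fun h => hmemD.1 h hq
  -- an element outside `q` cutting every component
  have hcomp : ∀ T ∈ irreducibleComponents ↥P₀,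
      ∃ b ∉ q.asIdeal, ∃ t ∈ Subtype.val '' T, ∀ x ∈ D, Spec.map φ x = t → b ∈ x.asIdeal := by
    intro T hT
    obtain ⟨t, ht⟩ := hT.1.nonempty
    by_cases hD' : ∃ x ∈ D, Spec.map φ x = t.1
    swap
    · exact ⟨1, fun h => q.2.ne_top ((Ideal.eq_top_iff_one _).2 h), t.1, ⟨t, ht, rfl⟩,
        fun x hx e => absurd ⟨x, hx, e⟩ hD'⟩
    obtain ⟨x, hxD, hxt⟩ := hD'
    have hinj : ∀ {a b : Spec C}, a ∈ D → b ∈ D → Spec.map φ a = Spec.map φ b → a = b :=
      fun {a b} ha hb e => congrArg Subtype.val (j.isOpenEmbedding.injective (a₁ := ⟨a, ha⟩)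
        (a₂ := ⟨b, hb⟩) e)
    obtain ⟨P, hPD, hPT, hPq⟩ : ∃ P ∈ D, Spec.map φ P ∈ Subtype.val '' T ∧
        ¬ P.asIdeal ≤ q.asIdeal := by
      by_cases hxq : x.asIdeal ≤ q.asIdeal
      swap
      · exact ⟨x, hxD, ⟨t, ht, hxt.symm⟩, hxq⟩
      have hxq' : x.asIdeal < q.asIdeal :=
        lt_of_le_of_ne hxq fun e => hqD ((PrimeSpectrum.ext e : x = q) ▸ hxD)
      obtain ⟨a, ha, haq⟩ := SetLike.exists_of_lt hlt
      obtain ⟨P, hP, hPle⟩ := Ideal.exists_minimalPrimes_le
        (sup_le (hxq'.le.trans hlt.le) ((Ideal.span_singleton_le_iff_mem _).2 ha) :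
          x.asIdeal ⊔ Ideal.span {a} ≤ q₁.asIdeal)
      have hxP : x.asIdeal ≤ P := le_sup_left.trans hP.1.2
      have haP : a ∈ P := hP.1.2 (Ideal.mem_sup_right (Ideal.mem_span_singleton_self a))
      let P' : Spec C := (⟨P, hP.1.1⟩ : PrimeSpectrum C)
      by_cases hP' : P' ∈ D
      · refine ⟨P', hP', ?_, fun h => haq (h haP)⟩
        have hsp : Spec.map φ x ⤳ Spec.map φ P' :=
          ((PrimeSpectrum.le_iff_specializes x P').1 hxP).map (Spec.map φ).continuous
        rw [hxt] at hsp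
        let s : ↥P₀ := ⟨Spec.map φ P', hP'⟩
        have hts : t ⤳ s := (Topology.IsInducing.subtypeVal.specializes_iff).1 hsp
        exact ⟨s, hts.mem_closed (isClosed_of_mem_irreducibleComponents T hT) ht, rfl⟩
      exfalso
      have hIP : I ≤ P := (hfib P').2 (not_not.1 fun h => hP' (hmemD.2 h))
      have hqP : q.asIdeal ≤ P := hf₀' P hP.1.1 hIP fun h => hfq₁ (hPle h)
      have hqP' : q.asIdeal < P := lt_of_le_of_ne hqP fun e => haq (e ▸ haP)
      have h1 := Ideal.map_height_le_one_of_mem_minimalPrimes hP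
      let π := Ideal.Quotient.mk x.asIdeal
      haveI hprime : ∀ {J : Ideal C} [J.IsPrime], x.asIdeal ≤ J → (J.map π).IsPrime :=
        fun {J} _ hJ => Ideal.map_isPrime_of_surjective Ideal.Quotient.mk_surjective
          (by rwa [Ideal.mk_ker])
      have hmono : ∀ {J K : Ideal C}, x.asIdeal ≤ J → J < K → J.map π < K.map π := by
        intro J K hJ hJK
        refine lt_of_le_of_ne (Ideal.map_mono hJK.le) fun e => hJK.ne ?_
        have := congrArg (Ideal.comap π) e
        rwa [Ideal.comap_map_of_surjective π Ideal.Quotient.mk_surjective,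
          Ideal.comap_map_of_surjective π Ideal.Quotient.mk_surjective,
          ← RingHom.ker_eq_comap_bot, Ideal.mk_ker, sup_eq_left.2 hJ,
          sup_eq_left.2 (hJ.trans hJK.le)] at this
      haveI := q.2
      haveI := hP.1.1
      haveI := x.2
      haveI := hprime (J := x.asIdeal) le_rfl
      haveI := hprime (J := q.asIdeal) hxq
      haveI := hprime (J := P) hxP
      have h2 := Ideal.height_add_one_le_of_lt_of_isPrime (hmono le_rfl hxq')
      have h3 := Ideal.height_add_one_le_of_lt_of_isPrime (hmono hxq hqP')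
      have h4 : (1 : ℕ∞) ≤ (q.asIdeal.map π).height := le_trans le_add_self h2
      have h5 : (1 : ℕ∞) + 1 ≤ 1 := le_trans (le_trans (add_le_add_left h4 1) h3) h1
      exact absurd h5 (by decide)
    obtain ⟨b, hbP, hbq⟩ := Set.not_subset.1 hPq
    exact ⟨b, hbq, Spec.map φ P, hPT, fun x' hx' e => hinj hx' hPD e ▸ hbP⟩
  choose! b hbq t htT hbt using hcomp
  haveI : NoetherianSpace (Spec R) := inferInstanceAs (NoetherianSpace (PrimeSpectrum R))
  haveI : NoetherianSpace ↥P₀ := NoetherianSpace.set (P₀ : Set (Spec R))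
  have hfin : (irreducibleComponents ↥P₀).Finite :=
    NoetherianSpace.finite_irreducibleComponents
  let f := ∏ T ∈ hfin.toFinset, b T
  have hfq : f ∉ q.asIdeal := fun h => by
    obtain ⟨T, hT, hT'⟩ := q.2.prod_mem_iff.1 h
    exact hbq T (hfin.mem_toFinset.1 hT) hT'
  let Df : (Spec C).Opens := PrimeSpectrum.basicOpen f
  have hDf : IsAffineOpen Df := by
    have := (isAffineOpen_top (Spec C)).basicOpen ((Scheme.ΓSpecIso C).inv f)
    rwa [basicOpen_eq_of_affine] at this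
  let E : D.toScheme.Opens := D.ι ⁻¹ᵁ Df
  let U' : (Spec R).Opens := j ''ᵁ E
  have hU' : U' ≤ P₀ := by
    rintro _ ⟨e, -, rfl⟩
    exact e.2
  have hW' : IsAffineOpen U' := by
    refine hW U' hU' (fun T hT hsub => ?_) ⟨fun V hV => ?_⟩
    · obtain ⟨e, heE, he⟩ := hsub (htT T hT)
      have hb : b T ∈ (D.ι e).asIdeal := hbt T hT _ e.2 he
      exact heE ((D.ι e).asIdeal.mem_of_dvd
        (Finset.dvd_prod_of_mem _ (hfin.mem_toFinset.2 hT)) hb)
    · let V' : (Spec R).Opens := P₀.ι ''ᵁ V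
      have hV' : IsAffineOpen V' := hV.image_of_isOpenImmersion P₀.ι
      rw [← U'.ι.isAffineOpen_iff_of_isOpenImmersion]
      have e1 : U'.ι ''ᵁ ((Spec R).homOfLE hU' ⁻¹ᵁ V) = U' ⊓ V' := by
        have : (Spec R).homOfLE hU' ⁻¹ᵁ V = U'.ι ⁻¹ᵁ V' := by
          rw [← Scheme.homOfLE_ι (Spec R) hU', Scheme.Hom.comp_preimage,
            Scheme.Hom.preimage_image_eq]
        rw [this, Scheme.Hom.image_preimage_eq_opensRange_inf, Scheme.Opens.opensRange_ι]
      rw [e1]
      haveI : IsAffineHom (Spec.map φ) := inferInstance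
      have hA : IsAffineOpen (Spec.map φ ⁻¹ᵁ V' ⊓ Df) := (hV'.preimage (Spec.map φ)).inf hDf
      have hle : Spec.map φ ⁻¹ᵁ V' ⊓ Df ≤ D := by
        intro x hx
        obtain ⟨v, -, hv⟩ := hx.1
        show Spec.map φ x ∈ P₀
        rw [← hv]
        exact v.2
      have hA' := (hA.preimage_of_isOpenImmersion D.ι
        (by rwa [Scheme.Opens.opensRange_ι])).image_of_isOpenImmersion j
      convert hA' using 1
      refine Opens.ext (Set.ext fun y => ⟨?_, ?_⟩)
      · rintro ⟨⟨e, he, rfl⟩, hy⟩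
        exact ⟨e, ⟨hy, he⟩, rfl⟩
      · rintro ⟨e, ⟨hy, he⟩, rfl⟩
        exact ⟨⟨e, he, rfl⟩, hy⟩
  have hDA : IsAffineOpen (D ⊓ Df) := by
    have h := (hW'.preimage_of_isOpenImmersion j (by
      rintro _ ⟨e, -, rfl⟩; exact ⟨e, rfl⟩)).image_of_isOpenImmersion D.ι
    rwa [Scheme.Hom.preimage_image_eq, Scheme.Hom.image_preimage_eq_opensRange_inf,
      Scheme.Opens.opensRange_ι] at h
  haveI : IsNoetherianRing C := inferInstance
  haveI : IsAffine (D ⊓ Df).toScheme := hDA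
  haveI : IsAffineHom (D ⊓ Df).ι := inferInstance
  have h := Groth.L22.LocalDim.dim_le_one_of_isAffineHom (D ⊓ Df) (ξ := q) (fun h => hqD h.1)
    (fun y hy hsp => ?_)
  · rw [ringKrullDim_eq_of_ringEquiv (Spec.stalkIso C q).commRingCatIsoToRingEquiv,
      IsLocalization.AtPrime.ringKrullDim_eq_height q.asIdeal] at h
    exact_mod_cast h
  · have hyf : y ∈ Df := hsp.mem_open Df.2 hfq
    have hyD : y ∉ D := fun h => hy ⟨h, hyf⟩
    exact hmax y (not_not.1 fun h => hyD (hmemD.2 h))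
      ((PrimeSpectrum.le_iff_specializes y q).2 hsp)

end Groth.L07.WCore
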