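import Groth.Agent.L07.WCore

/-!
Passing from a point of a scheme to the base change along `Spec` of the local ring of its image.
-/

set_option autoImplicit false
set_option linter.style.haveILetI false
set_option maxSynthPendingDepth 3
set_option backward.isDefEq.respectTransparency false
set_option backward.isDefEq.respectTransparency.types false

universe u

open CategoryTheory CategoryTheory.Limits AlgebraicGeometry TopologicalSpace

namespace Groth.L07.WCore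

variable {X Y : Scheme.{u}}

/-- The base change of an affine chart to `Spec O_{Y,y}` is the spectrum of a localisation. -/
theorem exists_localization [IsLocallyNoetherian X] (g : X ⟶ Y) {y : Y} {V : Y.Opens}
    (hV : IsAffineOpen V) (hy : y ∈ V) {W : X.Opens} (hW : IsAffineOpen W) (e : W ≤ g ⁻¹ᵁ V) :
    ∃ (C : CommRingCat.{u}) (_ : IsNoetherianRing C) (φ : Y.presheaf.stalk y ⟶ C)
      (a : Spec C ⟶ Spec Γ(X, W)), IsPreimmersion a ∧
      IsPullback a (Spec.map φ) (hW.fromSpec ≫ g) (Y.fromSpecStalk y) ∧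
      ∀ q, (a q).asIdeal.height = q.asIdeal.height := by
  haveI : IsNoetherianRing Γ(X, W) := IsLocallyNoetherian.component_noetherian ⟨W, hW⟩
  let φA := g.appLE V W e
  letI : Algebra Γ(Y, V) (Y.presheaf.stalk y) := (Y.presheaf.germ V y hy).hom.toAlgebra
  haveI : IsLocalization.AtPrime (Y.presheaf.stalk y) (hV.primeIdealOf ⟨y, hy⟩).asIdeal :=
    hV.isLocalization_stalk ⟨y, hy⟩
  let M := (hV.primeIdealOf ⟨y, hy⟩).asIdeal.primeCompl
  let N := M.map φA.hom
  let C := Localization N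
  let fm : Y.presheaf.stalk y →+* C :=
    IsLocalization.map C φA.hom (show M ≤ N.comap φA.hom from M.le_comap_map)
  have H : fm.comp (algebraMap Γ(Y, V) (Y.presheaf.stalk y)) =
      (algebraMap Γ(X, W) C).comp φA.hom := IsLocalization.map_comp _
  have hpo := CommRingCat.isPushout_of_isLocalization φA.hom fm H M
  have hpb : IsPullback (Spec.map (CommRingCat.ofHom (algebraMap Γ(X, W) C)))
      (Spec.map (CommRingCat.ofHom fm)) (Spec.map φA) (Spec.map (Y.presheaf.germ V y hy)) :=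
    isPullback_SpecMap_of_isPushout _ _ _ _ hpo
  refine ⟨CommRingCat.of C, IsLocalization.isNoetherianRing N C inferInstance, CommRingCat.ofHom fm,
    Spec.map (CommRingCat.ofHom (algebraMap Γ(X, W) C)), IsPreimmersion.of_isLocalization N,
    ?_, fun q => IsLocalization.height_under N q.asIdeal⟩
  rw [← IsAffineOpen.SpecMap_appLE_fromSpec g hV hW e,
    ← show Spec.map (Y.presheaf.germ V y hy) ≫ hV.fromSpec = Y.fromSpecStalk y from
      hV.fromSpecStalk_eq_fromSpecStalk hy]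
  have hc : ∀ {T : Scheme.{u}} {s : T ⟶ Spec Γ(X, W)} {t : T ⟶ Spec (Y.presheaf.stalk y)},
      s ≫ Spec.map φA ≫ hV.fromSpec = t ≫ Spec.map (Y.presheaf.germ V y hy) ≫ hV.fromSpec →
      s ≫ Spec.map φA = t ≫ Spec.map (Y.presheaf.germ V y hy) := fun h =>
    (cancel_mono hV.fromSpec).1 (by simpa [Category.assoc] using h)
  exact IsPullback.mk' (by rw [← Category.assoc, hpb.w, Category.assoc])
    (fun T s s' h h' => hpb.hom_ext h h')
    (fun T s t h => ⟨hpb.lift s t (hc h), hpb.lift_fst _ _ _, hpb.lift_snd _ _ _⟩)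

theorem closedPoint_iff (y : Y) (w : Spec (Y.presheaf.stalk y)) :
    Y.fromSpecStalk y w = y ↔ w = IsLocalRing.closedPoint (Y.presheaf.stalk y) := by
  constructor
  · intro h
    exact (Y.fromSpecStalk y).isEmbedding.injective (h.trans Scheme.fromSpecStalk_closedPoint.symm)
  · rintro rfl
    exact Scheme.fromSpecStalk_closedPoint

/-- Scheme form of the core lemma. -/
theorem dim_le_one_or_isolated_scheme [IsLocallyNoetherian X] [IsLocallyNoetherian Y] (g : X ⟶ Y)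
    {y : Y} {V : Y.Opens} (hV : IsAffineOpen V) (hy : y ∈ V) {W : X.Opens} (hW : IsAffineOpen W)
    (e : W ≤ g ⁻¹ᵁ V) (L : X.Opens) [IsLocalIso (L.ι ≫ g)]
    (hL : ∀ x ∈ W, g x ⤳ y → g x ≠ y → x ∈ L)
    (hinj : ∀ x ∈ W, ∀ x' ∈ W, x ∈ L → x' ∈ L → g x ⤳ y → g x ≠ y → g x = g x' → x = x')
    (hcond : ∀ U : (Spec (Y.presheaf.stalk y)).Opens,
      ∀ hU : U ≤ FEt.puncturedSpec ↑(Y.presheaf.stalk y),
      (∀ T ∈ irreducibleComponents ↥(FEt.puncturedSpec ↑(Y.presheaf.stalk y)),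
        ¬ Subtype.val '' T ⊆ (U : Set _)) →
      IsAffineHom ((Spec (Y.presheaf.stalk y)).homOfLE hU) → IsAffineOpen U)
    {z : X} (hzW : z ∈ W) (hz : g z = y) (hmax : ∀ z' ∈ W, g z' = y → z' ⤳ z → z' = z) :
    ringKrullDim (X.presheaf.stalk z) ≤ 1 ∨
      ∃ O : X.Opens, z ∈ O ∧ ∀ z' ∈ O, g z' = y → z' = z := by
  haveI hRn : IsNoetherianRing (Y.presheaf.stalk y) := by
    letI : Algebra Γ(Y, V) (Y.presheaf.stalk y) :=
      TopCat.Presheaf.algebra_section_stalk Y.presheaf ⟨y, hy⟩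
    haveI := hV.isLocalization_stalk ⟨y, hy⟩
    haveI : IsNoetherianRing Γ(Y, V) := IsLocallyNoetherian.component_noetherian ⟨V, hV⟩
    exact IsLocalization.isNoetherianRing (hV.primeIdealOf ⟨y, hy⟩).asIdeal.primeCompl _
      inferInstance
  obtain ⟨C, hC, φ, a, ha, hpb, hht⟩ := exists_localization g hV hy hW e
  let a' : Spec C ⟶ X := a ≫ hW.fromSpec
  have hcomm : ∀ q, g (a' q) = Y.fromSpecStalk y (Spec.map φ q) := fun q => by
    have := congr(($hpb.w) q)
    simpa [a'] using this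
  have hmem : ∀ q, a' q ∈ W := fun q => Groth.L22.LocalDim.fromSpec_mem hW (a q)
  have hgen : ∀ q, g (a' q) ⤳ y := fun q => by
    have : g (a' q) ∈ Set.range (Y.fromSpecStalk y) := ⟨_, (hcomm q).symm⟩
    rwa [Scheme.range_fromSpecStalk] at this
  have hfib : ∀ q, g (a' q) = y ↔ Spec.map φ q = IsLocalRing.closedPoint _ := fun q => by
    rw [hcomm q, closedPoint_iff]
  have hD : IsOpenImmersion
      ((Spec.map φ ⁻¹ᵁ FEt.puncturedSpec ↑(Y.presheaf.stalk y)).ι ≫ Spec.map φ) := by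
    set D := Spec.map φ ⁻¹ᵁ FEt.puncturedSpec ↑(Y.presheaf.stalk y) with hDdef
    let E : (Spec Γ(X, W)).Opens := hW.fromSpec ⁻¹ᵁ L
    have hDE : D ≤ a ⁻¹ᵁ E := fun q hq =>
      hL _ (hmem q) (hgen q) fun h => hq ((hfib q).1 h)
    haveI : IsLocalIso (E.ι ≫ hW.fromSpec ≫ g) := by
      rw [← Category.assoc, ← morphismRestrict_ι hW.fromSpec L, Category.assoc]
      haveI : IsLocalIso (hW.fromSpec ∣_ L) :=
        IsZariskiLocalAtSource.of_isOpenImmersion _
      exact MorphismProperty.comp_mem _ _ _ ‹_› ‹_›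
    have h2 : IsPullback (a ∣_ E) ((a ⁻¹ᵁ E).ι ≫ Spec.map φ) (E.ι ≫ hW.fromSpec ≫ g)
        (Y.fromSpecStalk y) := (isPullback_morphismRestrict a E).paste_vert hpb
    haveI : IsLocalIso ((a ⁻¹ᵁ E).ι ≫ Spec.map φ) := MorphismProperty.of_isPullback h2 ‹_›
    haveI : IsLocalIso (D.ι ≫ Spec.map φ) := by
      rw [← Scheme.homOfLE_ι _ hDE, Category.assoc]
      haveI : IsLocalIso ((Spec C).homOfLE hDE) := IsZariskiLocalAtSource.of_isOpenImmersion _
      exact MorphismProperty.comp_mem _ _ _ ‹_› ‹_›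
    refine isOpenImmersion_of_injective _ fun p p' h => ?_
    change Spec.map φ p.1 = Spec.map φ p'.1 at h
    refine Subtype.ext (a'.isEmbedding.injective (hinj _ (hmem _) _ (hmem _)
      (hDE p.2) (hDE p'.2) (hgen _) (fun h' => p.2 ((hfib _).1 h')) ?_))
    rw [hcomm, hcomm, h]
  haveI : IsPreimmersion a' := inferInstanceAs (IsPreimmersion (a ≫ hW.fromSpec))
  obtain ⟨q, hq1, hq⟩ := Scheme.exists_preimage_of_isPullback hpb (hW.primeIdealOf ⟨z, hzW⟩)
    (IsLocalRing.closedPoint (Y.presheaf.stalk y)) (by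
      show g (hW.fromSpec _) = _
      rw [hW.fromSpec_primeIdealOf, hz, Scheme.fromSpecStalk_closedPoint])
  have hqz : a' q = z := by
    show hW.fromSpec (a q) = z
    rw [hq1, hW.fromSpec_primeIdealOf]
  rcases dim_le_one_or_isolated φ hD hcond q hq (fun q' hq' hle => a'.isEmbedding.injective
      (by
        rw [hqz]
        refine hmax _ (hmem q') ((hfib q').2 hq') ?_
        rw [← hqz]
        exact ((PrimeSpectrum.le_iff_specializes q' q).1 hle).map a'.continuous)) with h | ⟨O, hqO, hO⟩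
  · left
    rw [Groth.L22.LocalDim.dim_stalk_eq_height hW hzW]
    rw [← hht q, hq1] at h
    exact_mod_cast h
  · obtain ⟨O', hO', hOO'⟩ := a'.isEmbedding.isInducing.isOpen_iff.1 O.2
    refine Or.inr ⟨⟨O', hO'⟩ ⊓ W, ⟨?_, hzW⟩, ?_⟩
    · show z ∈ O'
      rw [← hqz, ← Set.mem_preimage, hOO']
      exact hqO
    rintro z' ⟨hz'O, hz'W⟩ hz'
    obtain ⟨q', hq'1, hq'⟩ := Scheme.exists_preimage_of_isPullback hpb
      (hW.primeIdealOf ⟨z', hz'W⟩) (IsLocalRing.closedPoint (Y.presheaf.stalk y)) (by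
        show g (hW.fromSpec _) = _
        rw [hW.fromSpec_primeIdealOf, hz', Scheme.fromSpecStalk_closedPoint])
    have hqz' : a' q' = z' := by
      show hW.fromSpec (a q') = z'
      rw [hq'1, hW.fromSpec_primeIdealOf]
    have hq'O : q' ∈ O := by
      refine (Set.ext_iff.1 hOO' q').1 ?_
      show a' q' ∈ O'
      rw [hqz']
      exact hz'O
    rw [← hqz', hO q' hq'O hq', hqz]

/-- A cover by opens on which `g` is a local isomorphism gives a local isomorphism. -/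
theorem isLocalIso_restrict (g : X ⟶ Y) (L : X.Opens)
    (h : ∀ x ∈ L, ∃ W : X.Opens, x ∈ W ∧ IsLocalIso (W.ι ≫ g)) : IsLocalIso (L.ι ≫ g) := by
  refine ⟨fun x => ?_⟩
  obtain ⟨W, hxW, hW⟩ := h x.1 x.2
  obtain ⟨U, hxU, hU⟩ := IsLocalIso.exists_isOpenImmersion (f := W.ι ≫ g) ⟨x.1, hxW⟩
  let U' : L.toScheme.Opens := L.ι ⁻¹ᵁ (W.ι ''ᵁ U)
  refine ⟨U', ⟨⟨x.1, hxW⟩, hxU, rfl⟩, ?_⟩
  have hr : Set.range (U'.ι ≫ L.ι) ⊆ Set.range (U.ι ≫ W.ι) := by
    rintro _ ⟨⟨p, ⟨w, hw, hwp⟩⟩, rfl⟩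
    exact ⟨⟨w, hw⟩, hwp⟩
  have hl := IsOpenImmersion.lift_fac (U.ι ≫ W.ι) (U'.ι ≫ L.ι) hr
  haveI : IsOpenImmersion (IsOpenImmersion.lift (U.ι ≫ W.ι) (U'.ι ≫ L.ι) hr) := by
    have : IsOpenImmersion
        (IsOpenImmersion.lift (U.ι ≫ W.ι) (U'.ι ≫ L.ι) hr ≫ (U.ι ≫ W.ι)) := by
      rw [hl]; infer_instance
    exact IsOpenImmersion.of_comp _ (U.ι ≫ W.ι)
  have e : U'.ι ≫ L.ι ≫ g =
      IsOpenImmersion.lift (U.ι ≫ W.ι) (U'.ι ≫ L.ι) hr ≫ (U.ι ≫ W.ι ≫ g) := by
    calc U'.ι ≫ L.ι ≫ g = (U'.ι ≫ L.ι) ≫ g := (Category.assoc _ _ _).symm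
      _ = (IsOpenImmersion.lift (U.ι ≫ W.ι) (U'.ι ≫ L.ι) hr ≫ (U.ι ≫ W.ι)) ≫ g :=
        congrArg (· ≫ g) hl.symm
      _ = _ := by simp only [Category.assoc]
  rw [e]
  infer_instance

/-- In an affine chart, at a point where `g` is a local isomorphism, every function is a fraction
from the base modulo every generisation. -/
theorem residual_chart (g : X ⟶ Y) {V : Y.Opens} (hV : IsAffineOpen V) {W : X.Opens}
    (hW : IsAffineOpen W) (e : W ≤ g ⁻¹ᵁ V) {x : X} (hx : x ∈ W) (L : X.Opens)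
    [IsLocalIso (L.ι ≫ g)] (hxL : x ∈ L) {η : Ideal Γ(X, W)} [η.IsPrime]
    (hη : η ≤ (hW.primeIdealOf ⟨x, hx⟩).asIdeal) (b : Γ(X, W)) :
    ∃ t a, (g.appLE V W e).hom t ∉ (hW.primeIdealOf ⟨x, hx⟩).asIdeal ∧
      (g.appLE V W e).hom t * b - (g.appLE V W e).hom a ∈ η := by
  refine residual_of_surjective (g.appLE V W e) (hW.primeIdealOf ⟨x, hx⟩) ?_ hη b
  let p := hW.primeIdealOf ⟨x, hx⟩
  have h1 : Function.Surjective ((hW.fromSpec ≫ g).stalkMap p) := by
    rw [Scheme.Hom.stalkMap_comp]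
    refine (ConcreteCategory.bijective_of_isIso (hW.fromSpec.stalkMap p)).2.comp ?_
    refine surjective_stalkMap g L ?_
    rw [hW.fromSpec_primeIdealOf]
    exact hxL
  rw [← hV.SpecMap_appLE_fromSpec g hW e, Scheme.Hom.stalkMap_comp] at h1
  exact Function.Surjective.of_comp h1

theorem fromSpec_appLE (g : X ⟶ Y) {V : Y.Opens} (hV : IsAffineOpen V) {W : X.Opens}
    (hW : IsAffineOpen W) (e : W ≤ g ⁻¹ᵁ V) (w : X) (hw : w ∈ W) :
    hV.fromSpec (Spec.map (g.appLE V W e) (hW.primeIdealOf ⟨w, hw⟩)) = g w := by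
  have := congr(($(hV.SpecMap_appLE_fromSpec g hW e)) (hW.primeIdealOf ⟨w, hw⟩))
  rw [Scheme.Hom.comp_apply, Scheme.Hom.comp_apply, hW.fromSpec_primeIdealOf] at this
  exact this

/-- The equality of two points with the same image, both below which lies a common point. -/
theorem eq_of_residual (g : X ⟶ Y) {V : Y.Opens} (hV : IsAffineOpen V) {W : X.Opens}
    (hW : IsAffineOpen W) (e : W ≤ g ⁻¹ᵁ V) (η : Spec Γ(X, W)) {x x' : X} (hx : x ∈ W)
    (hx' : x' ∈ W) (h : g x = g x')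
    (hη : η.asIdeal ≤ (hW.primeIdealOf ⟨x, hx⟩).asIdeal)
    (hη' : η.asIdeal ≤ (hW.primeIdealOf ⟨x', hx'⟩).asIdeal)
    (H : ∀ b, ∃ t a, (g.appLE V W e).hom t ∉ (hW.primeIdealOf ⟨x, hx⟩).asIdeal ∧
      (g.appLE V W e).hom t * b - (g.appLE V W e).hom a ∈ η.asIdeal)
    (H' : ∀ b, ∃ t a, (g.appLE V W e).hom t ∉ (hW.primeIdealOf ⟨x', hx'⟩).asIdeal ∧
      (g.appLE V W e).hom t * b - (g.appLE V W e).hom a ∈ η.asIdeal) : x = x' := by
  have key := fromSpec_appLE g hV hW e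
  have hb : Spec.map (g.appLE V W e) (hW.primeIdealOf ⟨x, hx⟩) =
      Spec.map (g.appLE V W e) (hW.primeIdealOf ⟨x', hx'⟩) :=
    hV.fromSpec.isOpenEmbedding.injective ((key x hx).trans (h.trans (key x' hx').symm))
  have hc := congrArg PrimeSpectrum.asIdeal hb
  haveI := η.2
  haveI := (hW.primeIdealOf ⟨x, hx⟩).2
  haveI := (hW.primeIdealOf ⟨x', hx'⟩).2
  have h12 := le_antisymm (le_of_residual (g.appLE V W e).hom hη hη' hc H H')
    (le_of_residual (g.appLE V W e).hom hη' hη hc.symm H' H)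
  calc x = hW.fromSpec (hW.primeIdealOf ⟨x, hx⟩) := (hW.fromSpec_primeIdealOf ⟨x, hx⟩).symm
    _ = hW.fromSpec (hW.primeIdealOf ⟨x', hx'⟩) := congrArg hW.fromSpec (PrimeSpectrum.ext h12)
    _ = x' := hW.fromSpec_primeIdealOf ⟨x', hx'⟩

theorem isLocalIso_of_isOpenImmersion (f : X ⟶ Y) [IsOpenImmersion f] : IsLocalIso f :=
  IsZariskiLocalAtSource.of_isOpenImmersion _

end Groth.L07.WCore
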